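import Cfsg.Statements.S3371
import Cfsg.Agent.S3761
import Cfsg.Agent.Lib.PLocal5.PGroupBasic
import Cfsg.Agent.Lib.Recog45.HalfTransitive.PairCase
import Cfsg.Agent.Lib.Recog45.HalfTransitive.CyclicIndexTwo
-- import your own Cfsg.Agent.* helpers here

set_option autoImplicit false
open Cfsg

namespace Cfsg.Agent.S3371

open CfsgLib.Recog45.HalfTransitive CfsgLib.TwoGroups

section Aux

variable {q : ℕ} [Fact q.Prime] {V : Type*} [AddCommGroup V] [Module (ZMod q) V] [Finite V]
  [Nontrivial V] {G : Type*} [Group G] [Finite G] {p : ℕ} [Fact p.Prime]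
  {ρ : G →* (V ≃ₗ[ZMod q] V)}

/-- an abelian normal subgroup is cyclic or gives a pair -/
theorem cyclic_or_pair (hG : IsPGroup p G) (hρ : Function.Injective ρ)
    (hirr : ∀ W : AddSubgroup V, (∀ g, ∀ x ∈ W, ρ g x ∈ W) → W = ⊥ ∨ W = ⊤)
    (A : Subgroup G) [A.Normal] (hA : IsMulCommutative A) :
    IsCyclic A ∨ Nonempty (Pair ρ p) := by
  classical
  have hAc : ∀ a ∈ A, ∀ b ∈ A, a * b = b * a := fun a ha b hb =>
    congrArg Subtype.val (hA.is_comm.comm (⟨a, ha⟩ : A) ⟨b, hb⟩)
  let M : Subgroup G :=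
    { carrier := {a | a ∈ A ∧ a ^ p = 1}
      one_mem' := ⟨A.one_mem, one_pow p⟩
      mul_mem' := fun {a b} ha hb => ⟨A.mul_mem ha.1 hb.1, by
        rw [(show Commute a b from hAc a ha.1 b hb.1).mul_pow, ha.2, hb.2, one_mul]⟩
      inv_mem' := fun {a} ha => ⟨A.inv_mem ha.1, by rw [inv_pow, ha.2, inv_one]⟩ }
  haveI : M.Normal := ⟨fun a ha g => ⟨(inferInstance : A.Normal).conj_mem a ha.1 g, by
    rw [conj_pow, ha.2, mul_one, mul_inv_cancel]⟩⟩
  rcases eq_or_ne A ⊥ with rfl | hA0
  · exact Or.inl inferInstance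
  obtain ⟨z, hzA, hzc, hzo⟩ := CfsgLib.PGroupBasic.exists_central_orderOf_eq hG A hA0
  have hzM : z ∈ M := ⟨hzA, hzo ▸ pow_orderOf_eq_one z⟩
  have hzg : ∀ g, Commute g z := fun g => Subgroup.mem_center_iff.1 hzc g
  haveI : (Subgroup.zpowers z).Normal := ⟨fun a ha g => by
    obtain ⟨k, rfl⟩ := Subgroup.mem_zpowers_iff.1 ha
    rw [((hzg g).zpow_right k).eq, mul_inv_cancel_right]
    exact ha⟩
  have hz0 : Subgroup.zpowers z ≠ ⊥ := by
    rw [Ne, Subgroup.zpowers_eq_bot]
    rintro rfl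
    rw [orderOf_one] at hzo
    exact (Fact.out : p.Prime).one_lt.ne hzo
  have hzfix : ∀ v, ρ z v = v → v = 0 := fun v hv =>
    fix_normal ρ hρ hirr (Subgroup.zpowers z) hz0 fun n hn => by
      have hle : Subgroup.zpowers z ≤ St ρ v := Subgroup.zpowers_le.2 hv
      exact hle hn
  rcases (show Subgroup.zpowers z ≤ M from Subgroup.zpowers_le.2 hzM).eq_or_lt with hMz | hlt
  · left
    have hsr : ∀ v : V, v ≠ 0 → ∀ a : A, (ρ.comp A.subtype) a v = v → a = 1 := by
      intro v hv a ha
      by_contra ha1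
      obtain ⟨k, hk⟩ := hG (a : G)
      have hex : ∃ n, (a : G) ^ (p ^ n) = 1 := ⟨k, hk⟩
      have hn := Nat.find_spec hex
      have hn0 : Nat.find hex ≠ 0 := fun h => ha1 (Subtype.ext (by simpa [h] using hn))
      set b := (a : G) ^ (p ^ (Nat.find hex - 1)) with hb
      have hb1 : b ≠ 1 := Nat.find_min hex (by omega)
      have hbM : b ∈ M := ⟨A.pow_mem a.2 _, by
        rw [hb, ← pow_mul, ← pow_succ, Nat.sub_add_cancel (Nat.pos_of_ne_zero hn0)]; exact hn⟩
      have hbS : b ∈ St ρ v := (St ρ v).pow_mem ha _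
      rw [← hMz] at hbM
      obtain ⟨j, hj⟩ := mem_zpowers_of_prime_card (G := Subgroup.zpowers z)
        (by rw [Nat.card_zpowers, hzo]) (g := ⟨b, hbM⟩) (g' := ⟨z, Subgroup.mem_zpowers z⟩)
        (fun h => hb1 (congrArg Subtype.val h))
      have hj' : b ^ j = z := congrArg Subtype.val hj
      exact hv (hzfix v (hj' ▸ (St ρ v).zpow_mem hbS j : z ∈ St ρ v))
    rcases cyclic_or_quaternion (hG.to_subgroup A) (ρ.comp A.subtype) hsr with h | ⟨n, ⟨eQ⟩⟩
    · exact h
    · rcases Nat.eq_zero_or_pos n with rfl | hn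
      · haveI : Finite (QuaternionGroup 0) := Finite.of_equiv A eQ.toEquiv
        exact absurd (Finite.of_injective (fun i : ZMod (2 * 0) => QuaternionGroup.a i)
          (fun i j h => by simpa using h)) (by
          intro h; haveI : Finite ℤ := h; exact not_finite ℤ)
      · haveI := hA
        have hcomm : ∀ x y : QuaternionGroup n, x * y = y * x := fun x y => by
          obtain ⟨a, rfl⟩ := eQ.surjective x
          obtain ⟨b, rfl⟩ := eQ.surjective y
          rw [← map_mul, ← map_mul, mul_comm' a b]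
        have h1 := hcomm (.a 1) (.xa 0)
        rw [QuaternionGroup.a_mul_xa, QuaternionGroup.xa_mul_a, QuaternionGroup.xa.injEq,
          zero_sub, zero_add, neg_eq_iff_add_eq_zero] at h1
        have h2 : ((2 : ℕ) : ZMod (2 * n)) = 0 := by simpa [one_add_one_eq_two] using h1
        rw [ZMod.natCast_eq_zero_iff] at h2
        obtain rfl : n = 1 := by have := Nat.le_of_dvd two_pos h2; omega
        haveI : IsCyclic (QuaternionGroup 1) := QuaternionGroup.quaternionGroup_one_isCyclic
        exact isCyclic_of_surjective eQ.symm eQ.symm.surjective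
  · right
    obtain ⟨e, he, hez, -, hec⟩ := CfsgLib.PGroupBasic.exists_mem_centralMod hG hlt
    exact ⟨⟨z, e, hzg, hzo, he.2, hez, hec, hzfix⟩⟩

end Aux

/-- Let q be a prime, V a non-trivial finite vector space over the field with q elements, and G a finite p-group (p prime) acting faithfully and linearly on V such that all G-orbits on the non-zero vectors have the same size. Then one of the following holds: G is cyclic or generalized quaternion and acts semiregularly on the non-zero vectors; or V has q² elements with q = 2^m − 1 and G is dihedral of order 2^(m+1) or semidihedral of order 2^(m+2); or V has q² elements with q = 2^m + 1 and, in suitable coordinates V = F_q², G is exactly the group of maps (x, y) ↦ (a x, ± a⁻¹ y) and (x, y) ↦ (± a⁻¹ y, a x) with a ≠ 0; or V has 81 elements (q = 3) and G is a 2-group. -/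
theorem result (q : ℕ) [Fact q.Prime] {V : Type*} [AddCommGroup V] [Module (ZMod q) V] [Finite V] [Nontrivial V]
    {G : Type*} [Group G] [Finite G] (p : ℕ) [Fact p.Prime] (hG : IsPGroup p G)
    (ρ : G →* (V ≃ₗ[ZMod q] V)) (hρ : Function.Injective ρ)
    (hhalf : ∀ v w : V, v ≠ 0 → w ≠ 0 → Nat.card {u : V | ∃ g : G, ρ g v = u} = Nat.card {u : V | ∃ g : G, ρ g w = u}) :
    ((IsCyclic G ∨ ∃ n : ℕ, Nonempty (G ≃* QuaternionGroup n)) ∧ ∀ v : V, v ≠ 0 → ∀ g : G, ρ g v = v → g = 1) ∨
    (Nat.card V = q ^ 2 ∧ ∃ m : ℕ, q = 2 ^ m - 1 ∧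
      (Nonempty (G ≃* DihedralGroup (2 ^ m)) ∨ (Cfsg.IsQuasiDihedral G ∧ Nat.card G = 2 ^ (m + 2)))) ∨
    (Nat.card V = q ^ 2 ∧ (∃ m : ℕ, q = 2 ^ m + 1) ∧
      ∃ e : V ≃ₗ[ZMod q] (Fin 2 → ZMod q), ∀ f : (Fin 2 → ZMod q) ≃ₗ[ZMod q] (Fin 2 → ZMod q),
        (∃ g : G, f = e.symm.trans ((ρ g).trans e)) ↔
        ∃ a s : ZMod q, a ≠ 0 ∧ (s = 1 ∨ s = -1) ∧
          ((∀ v, f v = ![a * v 0, s * a⁻¹ * v 1]) ∨ (∀ v, f v = ![s * a⁻¹ * v 1, a * v 0]))) ∨
    (Nat.card V = 81 ∧ q = 3 ∧ p = 2) := by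
  classical
  by_cases hsr : ∀ v : V, v ≠ 0 → ∀ g : G, ρ g v = v → g = 1
  · exact Or.inl ⟨cyclic_or_quaternion hG ρ hsr, hsr⟩
  have hqp : q ≠ p := by
    rintro rfl
    exact hsr fun v _ g _ => eq_one_of_prime_eq hG ρ hρ hhalf g
  have hst : ∀ v : V, v ≠ 0 → St ρ v ≠ ⊥ := by
    intro v hv hbot
    refine hsr fun w hw g hg => ?_
    have : Nat.card (St ρ w) = 1 := by rw [card_St_eq ρ hhalf hw hv, hbot, Subgroup.card_bot]
    have h : g ∈ (⊥ : Subgroup G) := Subgroup.eq_bot_of_card_eq _ this ▸ (hg : g ∈ St ρ w)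
    simpa using h
  have hq := (Fact.out : q.Prime)
  have hp := (Fact.out : p.Prime)
  have hcop : ¬ q ∣ Nat.card G := by
    obtain ⟨n, hn⟩ := IsPGroup.iff_card.1 hG
    rw [hn]
    exact fun h => hqp ((Nat.prime_dvd_prime_iff_eq hq hp).1 (hq.dvd_of_dvd_pow h))
  have hpq : (p : ZMod q) ≠ 0 := by
    rw [Ne, ZMod.natCast_eq_zero_iff]
    exact fun h => hqp ((Nat.prime_dvd_prime_iff_eq hq hp).1 h)
  have hirr := irreducible ρ hρ hcop hhalf hst
  by_cases hpair : Nonempty (Pair ρ p)
  · obtain ⟨D⟩ := hpair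
    obtain rfl := Pair.p_eq_two D hρ hpq hhalf hst hirr
    rcases pair_case_two hG D hρ hpq hhalf hst hirr with h | h
    · exact Or.inr (Or.inr (Or.inl h))
    · exact Or.inr (Or.inr (Or.inr ⟨h.1, h.2, rfl⟩))
  have hcyc : ∀ A : Subgroup G, A.Normal → IsMulCommutative A → IsCyclic A := fun A _ hA =>
    (cyclic_or_pair hG hρ hirr A hA).resolve_right hpair
  -- cyclic normal subgroups are semiregular
  have hsemi : ∀ A : Subgroup G, A.Normal → IsCyclic A → ∀ a ∈ A, ∀ v : V, v ≠ 0 → ρ a v = v →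
      a = 1 := by
    intro A hAn hA a ha v hv hav
    by_contra ha1
    obtain ⟨u, rfl⟩ := (Subgroup.isCyclic_iff_exists_zpowers_eq_top A).1 hA
    obtain ⟨i, rfl⟩ := Subgroup.mem_zpowers_iff.1 ha
    haveI : (Subgroup.zpowers (u ^ i)).Normal := ⟨fun b hb g => by
      obtain ⟨j, rfl⟩ := Subgroup.mem_zpowers_iff.1 hb
      obtain ⟨r, hr⟩ := Subgroup.mem_zpowers_iff.1 (hAn.conj_mem u (Subgroup.mem_zpowers u) g)
      rw [← conj_zpow, ← conj_zpow, ← hr, ← zpow_mul, ← zpow_mul,
        show r * (i * j) = i * (r * j) by ring, zpow_mul]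
      exact Subgroup.zpow_mem _ (Subgroup.mem_zpowers _) _⟩
    refine hv (fix_normal ρ hρ hirr (Subgroup.zpowers (u ^ i)) ?_ fun n hn => ?_)
    · rwa [Ne, Subgroup.zpowers_eq_bot]
    · have hle : Subgroup.zpowers (u ^ i) ≤ St ρ v := Subgroup.zpowers_le.2 hav
      exact hle hn
  obtain ⟨A, ⟨hAn, hAc⟩, hAmax⟩ := (Set.toFinite
    {A : Subgroup G | A.Normal ∧ IsMulCommutative A}).exists_maximal
    ⟨⊥, inferInstance, ⟨⟨fun a b => Subsingleton.elim _ _⟩⟩⟩
  haveI := hAn
  have hCA := CfsgLib.PGroupBasic.centralizer_eq_of_maximal hG A hAc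
    (fun B hBn hBc hle => le_antisymm (hAmax ⟨hBn, hBc⟩ hle) hle)
  have hna : ¬ IsMulCommutative G := by
    intro hc
    haveI := hc
    haveI : IsMulCommutative (⊤ : Subgroup G) := inferInstance
    exact hsr fun v hv g hg =>
      hsemi ⊤ inferInstance (hcyc ⊤ inferInstance inferInstance) g (Subgroup.mem_top g) v hv hg
  obtain ⟨n, hn⟩ := IsPGroup.iff_card.1 (hG.to_subgroup A)
  rcases Cfsg.Agent.S3761.result hG hna A (hcyc A hAn hAc) n hn hCA with
    ⟨rfl, hcard, hDQS⟩ | ⟨-, ⟨hMc, hMp⟩, hM2, hMchar⟩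
  swap
  · exfalso
    haveI := hMchar
    obtain ⟨u, hu⟩ := (Subgroup.isCyclic_iff_exists_zpowers_eq_top _).1 (hcyc _ inferInstance hMc)
    have h1 : orderOf u ∣ p := orderOf_dvd_of_pow_eq_one (hMp u (hu ▸ Subgroup.mem_zpowers u))
    rw [← hu, Nat.card_zpowers] at hM2
    rw [hM2] at h1
    have := Nat.le_of_dvd hp.pos h1
    nlinarith [hp.two_le]
  have hq2 : (2 : ZMod q) ≠ 0 := by simpa using hpq
  rcases hDQS with ⟨m, ⟨e⟩⟩ | ⟨m, ⟨e⟩⟩ | hSD
  · -- dihedral
    have hGc : Nat.card G = 2 * m := by rw [Nat.card_congr e.toEquiv, DihedralGroup.nat_card]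
    have hm : m = 2 ^ n := by rw [hGc, pow_succ] at hcard; omega
    subst hm
    have hn2 : 2 ≤ n := by
      by_contra hlt
      refine hna ⟨⟨fun a b => e.injective ?_⟩⟩
      rw [map_mul, map_mul]
      have key : ∀ k, k < 2 → ∀ x y : DihedralGroup (2 ^ k), x * y = y * x := by
        intro k hk
        interval_cases k <;> decide
      exact key n (by omega) _ _
    obtain ⟨k, rfl⟩ : ∃ k, n = k + 2 := ⟨n - 2, by omega⟩
    set m := 2 ^ (k + 2) with hm
    haveI : NeZero m := ⟨by positivity⟩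
    have h4 : m = 4 * 2 ^ k := by rw [hm, pow_add]; ring
    let B : Subgroup G := Subgroup.zpowers (e.symm (DihedralGroup.r 1))
    have hmemB : ∀ g, g ∈ B ↔ ∃ i, e g = DihedralGroup.r i := by
      intro g
      constructor
      · intro hg
        obtain ⟨i, rfl⟩ := Subgroup.mem_zpowers_iff.1 hg
        exact ⟨(i : ZMod m), by rw [map_zpow, MulEquiv.apply_symm_apply, DihedralGroup.r_one_zpow]⟩
      · rintro ⟨i, hi⟩
        obtain ⟨j, rfl⟩ := ZMod.intCast_surjective i
        rw [← e.symm_apply_apply g, hi, ← DihedralGroup.r_one_zpow, map_zpow]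
        exact Subgroup.zpow_mem _ (Subgroup.mem_zpowers _) _
    have hB2 : B.index = 2 := by
      have h := B.card_mul_index
      rw [Nat.card_zpowers, MulEquiv.orderOf_eq, DihedralGroup.orderOf_r_one, hGc,
        mul_comm 2] at h
      exact Nat.eq_of_mul_eq_mul_left (NeZero.pos m) h
    have hout : ∀ g, g ∉ B ↔ ∃ i, e g = DihedralGroup.sr i := by
      intro g
      rw [hmemB]
      rcases e g with i | i <;> simp
    let c : ZMod m := ((2 * 2 ^ k : ℕ) : ZMod m)
    have hcc : c + c = 0 := by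
      rw [← Nat.cast_add, ZMod.natCast_eq_zero_iff, h4]; exact ⟨1, by ring⟩
    have hc0 : c ≠ 0 := by
      rw [Ne, ZMod.natCast_eq_zero_iff, h4]
      intro hd
      have := Nat.le_of_dvd (by positivity) hd
      have := Nat.two_pow_pos k
      omega
    have hinj : Function.Injective fun i : ZMod m => e.symm (DihedralGroup.sr i) := fun i j h => by
      simpa using h
    let T : Finset G := Finset.univ.map ⟨fun i : ZMod m => e.symm (DihedralGroup.sr i), hinj⟩
    have hT : ∀ t, t ∈ T ↔ t ∉ B ∧ t * t = 1 := by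
      intro t
      simp only [T, Finset.mem_map, Finset.mem_univ, true_and, Function.Embedding.coeFn_mk]
      constructor
      · rintro ⟨i, rfl⟩
        exact ⟨(hout _).2 ⟨i, e.apply_symm_apply _⟩, by
          rw [← map_mul, DihedralGroup.sr_mul_self, map_one]⟩
      · rintro ⟨ht, -⟩
        obtain ⟨i, hi⟩ := (hout t).1 ht
        exact ⟨i, by rw [← hi, e.symm_apply_apply]⟩
    obtain ⟨hV, hq1⟩ := count_involutions hq2 hst B hB2
      (hsemi B (Subgroup.normal_of_index_eq_two hB2) inferInstance)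
      (e.symm (DihedralGroup.r c)) ((hmemB _).2 ⟨c, e.apply_symm_apply _⟩)
      (fun h => by
        rw [MulEquiv.map_eq_one_iff, DihedralGroup.one_def, DihedralGroup.r.injEq] at h
        exact hc0 h)
      (by rw [← map_mul, DihedralGroup.r_mul_r, hcc, DihedralGroup.r_zero, map_one])
      T hT (fun t ht => by
        obtain ⟨i, hi⟩ := (hout t).1 ((hT t).1 ht).1
        refine ⟨e.symm (DihedralGroup.r (-((2 ^ k : ℕ) : ZMod m))), ?_⟩
        rw [← e.symm_apply_apply t, hi, ← map_inv, ← map_mul, ← map_mul, ← map_mul]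
        congr 1
        rw [DihedralGroup.r_mul_sr, DihedralGroup.inv_r, DihedralGroup.sr_mul_r,
          DihedralGroup.sr_mul_r]
        congr 1
        simp only [c, Nat.cast_mul]
        push_cast
        ring)
      (k + 2) (by omega) (by simp [T, hm])
    exact Or.inr (Or.inl ⟨hV, k + 2, by omega, Or.inl ⟨e⟩⟩)
  · -- generalized quaternion: semiregular
    exfalso
    refine hsr fun v hv g hg => ?_
    by_contra hg1
    have hS1 : Nat.card (St ρ v) ≠ 1 := fun h =>
      hst v hv (Subgroup.eq_bot_of_card_eq _ h)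
    have h2 : 2 ∣ Nat.card (St ρ v) := ((hG.to_subgroup _).card_eq_or_dvd).resolve_left hS1
    obtain ⟨⟨t, ht⟩, hto⟩ := exists_prime_orderOf_dvd_card' 2 h2
    rw [Subgroup.orderOf_mk] at hto
    rcases Nat.eq_zero_or_pos m with rfl | hm
    · haveI : Finite (QuaternionGroup 0) := Finite.of_equiv G e.toEquiv
      have hfin := Finite.of_injective (fun i : ZMod (2 * 0) => QuaternionGroup.a i)
        (fun i j h => by simpa using h)
      haveI : Finite ℤ := hfin
      exact not_finite ℤ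
    haveI : NeZero m := ⟨hm.ne'⟩
    have hinv : ∀ x : QuaternionGroup m, orderOf x = 2 → ∀ y, Commute y x := by
      rintro (i | i) hx y
      · have hii : i + i = 0 := by
          have := pow_orderOf_eq_one (QuaternionGroup.a i)
          rw [hx, pow_two, QuaternionGroup.a_mul_a, QuaternionGroup.one_def] at this
          exact QuaternionGroup.a.inj this
        have hi : -i = i := neg_eq_iff_add_eq_zero.2 hii
        rcases y with j | j
        · show _ * _ = _ * _
          rw [QuaternionGroup.a_mul_a, QuaternionGroup.a_mul_a, add_comm]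
        · show _ * _ = _ * _
          rw [QuaternionGroup.xa_mul_a, QuaternionGroup.a_mul_xa, sub_eq_add_neg, hi]
      · rw [QuaternionGroup.orderOf_xa] at hx
        omega
    have htc : ∀ y, Commute y t := fun y => by
      have h := hinv (e t) (by rw [MulEquiv.orderOf_eq, hto]) (e y)
      exact e.injective (by rw [map_mul, map_mul]; exact h)
    haveI : (Subgroup.zpowers t).Normal := ⟨fun b hb y => by
      obtain ⟨j, rfl⟩ := Subgroup.mem_zpowers_iff.1 hb
      rw [((htc y).zpow_right j).eq, mul_inv_cancel_right]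
      exact Subgroup.zpow_mem _ (Subgroup.mem_zpowers t) j⟩
    have ht1 : t ≠ 1 := by rintro rfl; simp at hto
    refine hv (fix_normal ρ hρ hirr (Subgroup.zpowers t) (by rwa [Ne, Subgroup.zpowers_eq_bot])
      fun b hb => ?_)
    have hle : Subgroup.zpowers t ≤ St ρ v := Subgroup.zpowers_le.2 ht
    exact hle hb
  · -- semidihedral
    obtain ⟨r, x, y, h⟩ := SD.exists_sd hSD
    obtain ⟨t, rfl⟩ := h.pow_two'
    have hr : (0 : ℤ) < 2 ^ t := by positivity
    let B : Subgroup G := Subgroup.zpowers x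
    have hB2 : B.index = 2 := by
      have h' := B.card_mul_index
      rw [Nat.card_zpowers, h.ordx, h.card, show 16 * 2 ^ t = 8 * 2 ^ t * 2 by ring] at h'
      exact Nat.eq_of_mul_eq_mul_left (by positivity) h'
    let f : Fin (4 * 2 ^ t) → G := fun j => x ^ (2 * ((j : ℕ) : ℤ)) * y
    have hf : Function.Injective f := by
      intro i j hij
      obtain ⟨c, hc⟩ := (SD.xy_eq h).1 hij
      have hi := i.isLt
      have hj := j.isLt
      push_cast at hc
      have h1 : (-1 : ℤ) < c := by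
        by_contra h'
        nlinarith
      have h2 : c < 1 := by
        by_contra h'
        nlinarith
      obtain rfl : c = 0 := by omega
      exact Fin.ext (by omega)
    let T : Finset G := Finset.univ.map ⟨f, hf⟩
    have hT : ∀ g, g ∈ T ↔ g ∉ B ∧ g * g = 1 := by
      intro g
      simp only [T, Finset.mem_map, Finset.mem_univ, true_and, Function.Embedding.coeFn_mk, f]
      constructor
      · rintro ⟨j, rfl⟩
        refine ⟨fun hg => ?_, ?_⟩
        · obtain ⟨l, hl⟩ := Subgroup.mem_zpowers_iff.1 hg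
          exact SD.not_mem_y h _ l hl.symm
        · rw [SD.xy_mul_xy h, SD.zpow_x_eq_one h]
          exact ⟨(j : ℕ), by push_cast; ring⟩
      · rintro ⟨hg, hgg⟩
        obtain ⟨a, ha | ha⟩ := h.gen g
        · exact absurd (Subgroup.mem_zpowers_iff.2 ⟨a, ha.symm⟩) hg
        rw [ha, SD.xy_mul_xy h, SD.zpow_x_eq_one h] at hgg
        obtain ⟨c, hc⟩ := hgg
        push_cast at hc
        have ha2 : a = 2 * c := by
          have : (4 * (2 ^ t : ℤ)) * a = 4 * 2 ^ t * (2 * c) := by linarith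
          exact mul_left_cancel₀ (by positivity) this
        refine ⟨⟨(c % (4 * 2 ^ t : ℤ)).toNat, ?_⟩, ?_⟩
        · have h1 := Int.emod_lt_of_pos c (show (0 : ℤ) < 4 * 2 ^ t by positivity)
          have h2 := Int.emod_nonneg c (show (4 * 2 ^ t : ℤ) ≠ 0 by positivity)
          have h3 : (((4 * 2 ^ t : ℕ)) : ℤ) = 4 * 2 ^ t := by push_cast; ring
          omega
        · rw [ha, SD.xy_eq h]
          simp only [Fin.val_mk]
          rw [Int.toNat_of_nonneg (Int.emod_nonneg c (by positivity))]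
          refine ⟨c / (4 * 2 ^ t : ℤ), ?_⟩
          have := Int.emod_add_mul_ediv c (4 * 2 ^ t : ℤ)
          push_cast
          linear_combination ha2 - 2 * this
    obtain ⟨hV, hq1⟩ := count_involutions hq2 hst B hB2
      (hsemi B (Subgroup.normal_of_index_eq_two hB2) inferInstance)
      (x ^ (4 * (2 ^ t : ℕ) : ℤ)) (Subgroup.zpow_mem _ (Subgroup.mem_zpowers x) _)
      (fun hz => by
        obtain ⟨c, hc⟩ := (SD.zpow_x_eq_one h).1 hz
        push_cast at hc
        have : (4 * (2 ^ t : ℤ)) * (2 * c) = 4 * 2 ^ t * 1 := by linarith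
        have := mul_left_cancel₀ (by positivity) this
        omega)
      (by rw [← zpow_add, SD.zpow_x_eq_one h]; exact ⟨1, by push_cast; ring⟩)
      T hT (fun g hg => by
        obtain ⟨a, ha | ha⟩ := h.gen g
        · exact absurd (Subgroup.mem_zpowers_iff.2 ⟨a, ha.symm⟩) ((hT g).1 hg).1
        refine ⟨x ^ (2 * (2 ^ t : ℕ) : ℤ), ?_⟩
        rw [ha, SD.conj_pow h, mul_assoc (x ^ a), SD.y_mul h, ← mul_assoc, ← zpow_add, SD.xy_eq h]
        exact ⟨3 * (2 ^ t : ℤ) - 1, by push_cast; ring⟩)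
      (t + 2) (by omega) (by simp [T, pow_add]; ring)
    exact Or.inr (Or.inl ⟨hV, t + 2, by omega, Or.inr ⟨hSD, by
      rw [h.card, show t + 2 + 2 = t + 4 by omega, pow_add]
      ring⟩⟩)

end Cfsg.Agent.S3371
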