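import Cfsg.Statements.S3374
import Cfsg.Agent.Lib.Frobenius.Action

set_option autoImplicit false
open Cfsg

namespace Cfsg.Agent.S3374

abbrev Q (p : ℕ) := ZMod p × ZMod p × ZMod p × ZMod p

/-- Product of `2 × 2` matrices stored as quadruples. -/
def qmul {p : ℕ} : Q p → Q p → Q p
  | (a, b, c, d), (e, f, g, h) => (a * e + b * g, a * f + b * h, c * e + d * g, c * f + d * h)

def qU : ZMod 5 → Q 11 := ![(1, 0, 0, 1), (1, 3, 4, 2), (2, 9, 1, 5), (5, 2, 10, 2), (2, 8, 7, 1)]

def qH : ZMod 5 → Q 11 := ![(1, 0, 0, 1), (1, 0, 0, 1), (1, 8, 8, 10), (10, 3, 3, 1), (10, 0, 0, 10)]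

/-- The embedding of `SL(2,5)` in `SL(2,11)` through the Bruhat decomposition. -/
def emb : Q 5 → Q 11
  | (a, b, c, d) =>
    if c = 0 then qmul (qH a) (qU (b * a⁻¹))
    else qmul (qmul (qU (a * c⁻¹)) (0, 1, 10, 0)) (qmul (qH c) (qU (d * c⁻¹)))

theorem emb_gens : ∀ a b c d : ZMod 5, a * d - b * c = 1 →
    emb (qmul (0, 4, 1, 0) (a, b, c, d)) = qmul (emb (0, 4, 1, 0)) (emb (a, b, c, d)) ∧
    emb (qmul (1, 1, 0, 1) (a, b, c, d)) = qmul (emb (1, 1, 0, 1)) (emb (a, b, c, d)) := by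
  decide +kernel

theorem emb_fpf : ∀ a b c d : ZMod 5, a * d - b * c = 1 → (a, b, c, d) ≠ (1, 0, 0, 1) →
    (emb (a, b, c, d)).1 + (emb (a, b, c, d)).2.2.2 ≠ 2 := by
  decide +kernel

theorem emb_det : ∀ a b c d : ZMod 5, a * d - b * c = 1 →
    (emb (a, b, c, d)).1 * (emb (a, b, c, d)).2.2.2
      - (emb (a, b, c, d)).2.1 * (emb (a, b, c, d)).2.2.1 = 1 := by
  decide +kernel

/-- Entries of a `2 × 2` matrix. -/
def ent {p : ℕ} (M : Matrix.SpecialLinearGroup (Fin 2) (ZMod p)) : Q p :=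
  (M.1 0 0, M.1 0 1, M.1 1 0, M.1 1 1)

theorem ent_det {p : ℕ} (M : Matrix.SpecialLinearGroup (Fin 2) (ZMod p)) :
    (ent M).1 * (ent M).2.2.2 - (ent M).2.1 * (ent M).2.2.1 = 1 := by
  have h := M.2
  rwa [Matrix.det_fin_two] at h

theorem ent_mul {p : ℕ} (M N : Matrix.SpecialLinearGroup (Fin 2) (ZMod p)) :
    ent (M * N) = qmul (ent M) (ent N) := by
  simp [ent, qmul, Matrix.mul_apply, Fin.sum_univ_two]

theorem ent_inj {p : ℕ} {M N : Matrix.SpecialLinearGroup (Fin 2) (ZMod p)} (h : ent M = ent N) :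
    M = N := by
  simp only [ent, Prod.mk.injEq] at h
  apply Matrix.SpecialLinearGroup.ext
  intro i j
  fin_cases i <;> fin_cases j <;> simp [h.1, h.2.1, h.2.2.1, h.2.2.2]

/-- The map as a function between the matrix groups. -/
def embFun (M : Matrix.SpecialLinearGroup (Fin 2) (ZMod 5)) : Matrix.SpecialLinearGroup (Fin 2) (ZMod 11) :=
  ⟨!![(emb (ent M)).1, (emb (ent M)).2.1; (emb (ent M)).2.2.1, (emb (ent M)).2.2.2],
    by rw [Matrix.det_fin_two_of]; exact emb_det _ _ _ _ (ent_det M)⟩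

theorem ent_embFun (M : Matrix.SpecialLinearGroup (Fin 2) (ZMod 5)) :
    ent (embFun M) = emb (ent M) := by
  simp [ent, embFun]

def ga : Matrix.SpecialLinearGroup (Fin 2) (ZMod 5) := ⟨!![0, 4; 1, 0], by decide⟩
def gb : Matrix.SpecialLinearGroup (Fin 2) (ZMod 5) := ⟨!![1, 1; 0, 1], by decide⟩

/-- Words in the two generators. -/
def gH : ZMod 5 → Matrix.SpecialLinearGroup (Fin 2) (ZMod 5) := ![1, 1,
  gb ^ 3 * ga * gb ^ 2 * ga * gb ^ 3 * ga, gb ^ 2 * ga * gb ^ 3 * ga * gb ^ 2 * ga, ga * ga]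

/-- A matrix as a word in the generators. -/
def word : Q 5 → Matrix.SpecialLinearGroup (Fin 2) (ZMod 5)
  | (a, b, c, d) =>
    if c = 0 then gH a * gb ^ (b * a⁻¹).val
    else gb ^ (a * c⁻¹).val * ga * gH c * gb ^ (d * c⁻¹).val

theorem word_eq : ∀ a b c d : ZMod 5, a * d - b * c = 1 → ent (word (a, b, c, d)) = (a, b, c, d) := by
  decide +kernel

theorem embFun_mul (M N : Matrix.SpecialLinearGroup (Fin 2) (ZMod 5)) :
    embFun (M * N) = embFun M * embFun N := by
  let S : Submonoid (Matrix.SpecialLinearGroup (Fin 2) (ZMod 5)) :=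
    { carrier := {M | ∀ N, embFun (M * N) = embFun M * embFun N}
      one_mem' := fun N => by
        have h1 : embFun 1 = 1 := by decide +kernel
        rw [one_mul, h1, one_mul]
      mul_mem' := fun {A B} hA hB N => by rw [mul_assoc, hA, hB, hA, mul_assoc] }
  have hgen : ∀ g, g = ga ∨ g = gb → g ∈ S := by
    intro g hg N
    apply ent_inj
    rw [ent_embFun, ent_mul, ent_mul, ent_embFun, ent_embFun]
    have h := emb_gens _ _ _ _ (ent_det N)
    rcases hg with rfl | rfl
    · exact h.1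
    · exact h.2
  have ha := hgen ga (Or.inl rfl)
  have hb := hgen gb (Or.inr rfl)
  have hH : ∀ x, gH x ∈ S := by
    intro x
    have hb2 := S.pow_mem hb 2
    have hb3 := S.pow_mem hb 3
    fin_cases x
    · exact S.one_mem
    · exact S.one_mem
    · exact S.mul_mem (S.mul_mem (S.mul_mem (S.mul_mem (S.mul_mem hb3 ha) hb2) ha) hb3) ha
    · exact S.mul_mem (S.mul_mem (S.mul_mem (S.mul_mem (S.mul_mem hb2 ha) hb3) ha) hb2) ha
    · exact S.mul_mem ha ha
  have hM : M ∈ S := by
    rw [show M = word (ent M) from ent_inj (word_eq _ _ _ _ (ent_det M)).symm]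
    unfold word
    rcases ent M with ⟨a, b, c, d⟩
    dsimp only
    split
    · exact S.mul_mem (hH _) (S.pow_mem hb _)
    · exact S.mul_mem (S.mul_mem (S.mul_mem (S.pow_mem hb _) ha) (hH _)) (S.pow_mem hb _)
  exact hM N

/-- SL(2,5) occurs as a Frobenius complement: there is a finite group L with a subgroup H isomorphic to SL(2,5) which is a non-trivial proper subgroup meeting each conjugate gHg⁻¹ with g outside H trivially. -/
theorem result :
    ∃ (L : Type) (_ : Group L) (_ : Finite L) (H : Subgroup L),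
      Cfsg.IsFrobeniusComplement H ∧ Nonempty (H ≃* Matrix.SpecialLinearGroup (Fin 2) (ZMod 5)) := by
  let f : Matrix.SpecialLinearGroup (Fin 2) (ZMod 5) →* MulAut (Multiplicative (Fin 2 → ZMod 11)) :=
    { toFun := fun M => AddEquiv.toMultiplicative
        (Matrix.SpecialLinearGroup.toLin' (embFun M)).toAddEquiv
      map_one' := by
        have h1 : embFun 1 = 1 := by decide +kernel
        rw [h1]
        ext v
        simp
      map_mul' := fun M N => by
        rw [embFun_mul]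
        ext v
        simp }
  let act := MulDistribMulAction.compHom (Multiplicative (Fin 2 → ZMod 11)) f
  have hfpf : CfsgLib.Frobenius.IsFPF (Matrix.SpecialLinearGroup (Fin 2) (ZMod 5))
      (Multiplicative (Fin 2 → ZMod 11)) := by
    intro M hM n hn
    set v := Multiplicative.toAdd n
    set q := emb (ent M) with hq
    have h : Matrix.mulVec (embFun M).1 v = v := (congrArg Multiplicative.toAdd hn :)
    have h0 : q.1 * v 0 + q.2.1 * v 1 = v 0 := by
      have := congrFun h 0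
      simpa [embFun, Matrix.mulVec, dotProduct, Fin.sum_univ_two] using this
    have h1 : q.2.2.1 * v 0 + q.2.2.2 * v 1 = v 1 := by
      have := congrFun h 1
      simpa [embFun, Matrix.mulVec, dotProduct, Fin.sum_univ_two] using this
    have hd := emb_det _ _ _ _ (ent_det M)
    have hne : q.1 + q.2.2.2 ≠ 2 := emb_fpf _ _ _ _ (ent_det M) (fun hh => hM (ent_inj
      (hh.trans (by simp [ent]))))
    have hfac : Fact (Nat.Prime 11) := ⟨by norm_num⟩
    change q.1 * q.2.2.2 - q.2.1 * q.2.2.1 = 1 at hd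
    have e0 : (2 - (q.1 + q.2.2.2)) * v 0 = 0 := by
      linear_combination (q.2.2.2 - 1) * h0 - q.2.1 * h1 - v 0 * hd
    have e1 : (2 - (q.1 + q.2.2.2)) * v 1 = 0 := by
      linear_combination (q.1 - 1) * h1 - q.2.2.1 * h0 - v 1 * hd
    have hne' : (2 - (q.1 + q.2.2.2)) ≠ 0 := sub_ne_zero.2 (Ne.symm hne)
    apply Multiplicative.toAdd.injective
    show v = 0
    funext i
    fin_cases i
    · exact (mul_eq_zero.1 e0).resolve_left hne'
    · exact (mul_eq_zero.1 e1).resolve_left hne'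
  have : Nontrivial (Matrix.SpecialLinearGroup (Fin 2) (ZMod 5)) := ⟨⟨ga, 1, by decide⟩⟩
  have : Fact (Nat.Prime 11) := ⟨by norm_num⟩
  refine ⟨_, inferInstance, ?_, _, hfpf.isFrobeniusComplement_range_inr,
    ⟨(MonoidHom.ofInjective SemidirectProduct.inr_injective).symm⟩⟩
  exact Finite.of_equiv _ SemidirectProduct.equivProd.symm

end Cfsg.Agent.S3374
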