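import Cfsg.Statements.S3375
-- import your own Cfsg.Agent.* helpers here

set_option autoImplicit false
open Cfsg

namespace Cfsg.Agent.S3375

/-- Let γ be an automorphism of order 2 of a finite group H. (i) If γ fixes only the identity, then H is abelian and γ inverts every element. (ii) If γ has exactly two fixed points and H has a subgroup of index 2, then H has a γ-invariant abelian subgroup of index 2 on which γ acts by inversion. -/
theorem result {H : Type*} [Group H] [Finite H] (γ : MulAut H) (hγ : orderOf γ = 2) :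
    ((∀ h : H, γ h = h → h = 1) → (∀ a b : H, a * b = b * a) ∧ ∀ h : H, γ h = h⁻¹) ∧
    ((Nat.card {h : H // γ h = h} = 2 ∧ ∃ M : Subgroup H, M.index = 2) →
      ∃ A : Subgroup H, A.index = 2 ∧ IsMulCommutative A ∧ (∀ a ∈ A, γ a ∈ A) ∧ ∀ a ∈ A, γ a = a⁻¹) := by
  have hinv : ∀ h : H, γ (γ h) = h := by
    intro h
    have := pow_orderOf_eq_one γ
    rw [hγ, pow_two] at this
    have h' := congrArg (fun f : MulAut H => f h) this
    exact h'
  have hI : ∀ h : H, γ (h⁻¹ * γ h) = (h⁻¹ * γ h)⁻¹ := by
    intro h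
    rw [map_mul, map_inv, hinv, mul_inv_rev, inv_inv]
  have hfib : ∀ a b : H, a⁻¹ * γ a = b⁻¹ * γ b ↔ γ (a * b⁻¹) = a * b⁻¹ := by
    intro a b
    rw [map_mul, map_inv]
    constructor
    · intro h
      calc γ a * (γ b)⁻¹ = a * (a⁻¹ * γ a) * (γ b)⁻¹ := by group
        _ = a * (b⁻¹ * γ b) * (γ b)⁻¹ := by rw [h]
        _ = a * b⁻¹ := by group
    · intro h
      calc a⁻¹ * γ a = a⁻¹ * (γ a * (γ b)⁻¹) * γ b := by group
        _ = a⁻¹ * (a * b⁻¹) * γ b := by rw [h]
        _ = b⁻¹ * γ b := by group
  refine ⟨fun hfix => ?_, ?_⟩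
  · have hinj : Function.Injective fun h : H => h⁻¹ * γ h := fun a b hab =>
      mul_inv_eq_one.1 (hfix _ ((hfib a b).1 hab))
    have hall : ∀ h : H, γ h = h⁻¹ := by
      intro h
      obtain ⟨k, rfl⟩ := (Finite.injective_iff_surjective.1 hinj) h
      exact hI k
    refine ⟨fun a b => ?_, hall⟩
    have h := map_mul γ a b
    rw [hall, hall, hall, mul_inv_rev] at h
    have := congrArg (·⁻¹) h
    simpa using this
  · rintro ⟨hcard, M, hM⟩
    classical
    have := Fintype.ofFinite H
    -- a γ-invariant subgroup of index two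
    obtain ⟨N, hN, hNγ⟩ : ∃ N : Subgroup H, N.index = 2 ∧ ∀ a, γ a ∈ N ↔ a ∈ N := by
      have hmul := fun a b => Subgroup.mul_mem_iff_of_index_two (a := a) (b := b) hM
      by_cases hall : ∀ a, γ a ∈ M ↔ a ∈ M
      · exact ⟨M, hM, hall⟩
      push Not at hall
      let N : Subgroup H :=
        { carrier := {a | a ∈ M ↔ γ a ∈ M}
          mul_mem' := by
            intro a b ha hb
            simp only [Set.mem_setOf_eq] at *
            rw [map_mul, hmul, hmul, ha, hb]
          one_mem' := by simp [M.one_mem]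
          inv_mem' := by
            intro a ha
            simp only [Set.mem_setOf_eq] at *
            rw [map_inv, M.inv_mem_iff, M.inv_mem_iff, ha] }
      refine ⟨N, ?_, fun a => ?_⟩
      · obtain ⟨c, hc⟩ := hall
        have hc' : c ∉ N := by
          intro (h : c ∈ M ↔ γ c ∈ M)
          tauto
        rw [Subgroup.index_eq_two_iff]
        refine ⟨c, fun b => ?_⟩
        have key : b * c ∈ N ↔ ¬ b ∈ N := by
          show (b * c ∈ M ↔ γ (b * c) ∈ M) ↔ ¬ (b ∈ M ↔ γ b ∈ M)
          rw [map_mul, hmul, hmul]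
          have h3 : ¬ (c ∈ M ↔ γ c ∈ M) := hc'
          tauto
        rw [key]
        unfold Xor
        tauto
      · show (γ a ∈ M ↔ γ (γ a) ∈ M) ↔ (a ∈ M ↔ γ a ∈ M)
        rw [hinv]
        exact Iff.comm
    -- every element of `N` is inverted by γ
    have hφN : ∀ h : H, h⁻¹ * γ h ∈ N := fun h => by
      rw [Subgroup.mul_mem_iff_of_index_two hN, N.inv_mem_iff, hNγ]
    have hfull : ∀ n ∈ N, ∃ h : H, h⁻¹ * γ h = n := by
      intro n hn
      by_contra hno
      push Not at hno
      set s : Finset H := Finset.univ.image fun h : H => h⁻¹ * γ h with hs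
      have hle : s ⊆ (Finset.univ.filter (· ∈ N)).erase n := by
        intro x hx
        obtain ⟨h, -, rfl⟩ := Finset.mem_image.1 hx
        exact Finset.mem_erase.2 ⟨hno h, Finset.mem_filter.2 ⟨Finset.mem_univ _, hφN h⟩⟩
      have h1 : Fintype.card H ≤ s.card * 2 := by
        rw [← Finset.card_univ, mul_comm]
        refine Finset.card_le_mul_card_image _ _ fun b hb => ?_
        obtain ⟨h₀, -, rfl⟩ := Finset.mem_image.1 hb
        rw [← hcard, Nat.card_eq_fintype_card, Fintype.card_subtype]
        refine Finset.card_le_card_of_injOn (· * h₀⁻¹) ?_ fun a _ b _ hab => mul_right_cancel hab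
        intro a ha
        rw [Finset.coe_filter, Set.mem_setOf_eq] at ha
        rw [Finset.coe_filter, Set.mem_setOf_eq]
        exact ⟨Finset.mem_univ _, (hfib a h₀).1 ha.2⟩
      have h2 := Finset.card_le_card hle
      rw [Finset.card_erase_of_mem (Finset.mem_filter.2 ⟨Finset.mem_univ _, hn⟩),
        ← Fintype.card_subtype] at h2
      have h3 := N.card_mul_index
      rw [hN, Nat.card_eq_fintype_card, Nat.card_eq_fintype_card] at h3
      have h4 : 0 < Fintype.card N := Fintype.card_pos
      have h5 : Fintype.card {x // x ∈ N} = Fintype.card N := rfl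
      omega
    have hinvN : ∀ a ∈ N, γ a = a⁻¹ := by
      intro a ha
      obtain ⟨h, rfl⟩ := hfull a ha
      exact hI h
    refine ⟨N, hN, ⟨⟨fun a b => Subtype.ext ?_⟩⟩, fun a ha => (hNγ a).2 ha, hinvN⟩
    have h := map_mul γ (a : H) (b : H)
    rw [hinvN _ a.2, hinvN _ b.2, hinvN _ (N.mul_mem a.2 b.2), mul_inv_rev] at h
    have := congrArg (·⁻¹) h
    simpa using this

end Cfsg.Agent.S3375
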