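import Cfsg.Statements.S3376
import Mathlib
import Cfsg.Agent.Lib.OddOrder.PuigSeries

set_option autoImplicit false
open Cfsg

namespace Cfsg.Agent.S3376

/-- A fixed point free permutation of nine points of order three has type `3 + 3 + 3`. -/
theorem cycleType_nine {α : Type*} [Fintype α] [DecidableEq α] (hcard : Fintype.card α = 9)
    (σ : Equiv.Perm α) (h3 : σ ^ 3 = 1) (hfix : ∀ a, σ a ≠ a) : σ.cycleType = {3, 3, 3} := by
  have hall : ∀ n ∈ σ.cycleType, n = 3 := by
    intro n hn
    have h1 : n ∣ 3 :=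
      (Equiv.Perm.dvd_of_mem_cycleType hn).trans (orderOf_dvd_of_pow_eq_one h3)
    have h2 := Equiv.Perm.two_le_of_mem_cycleType hn
    rcases (Nat.dvd_prime Nat.prime_three).1 h1 with h | h <;> omega
  have hrep := Multiset.eq_replicate_card.2 hall
  have hsupp : σ.support = Finset.univ :=
    Finset.eq_univ_of_forall fun a => Equiv.Perm.mem_support.2 (hfix a)
  have hsum := σ.sum_cycleType
  rw [hsupp, Finset.card_univ, hcard, hrep, Multiset.sum_replicate, smul_eq_mul] at hsum
  rw [hrep, show σ.cycleType.card = 3 by omega]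
  rfl

open scoped IsMulCommutative in
/-- A subgroup of index 3 of `J` stable under conjugation by `t` and avoiding `z`. -/
theorem exists_complement {G : Type*} [Group G] [Finite G] (J : Subgroup G) [J.Normal]
    (hJcomm : IsMulCommutative J) (hJexp : ∀ a ∈ J, a ^ 3 = 1) (hJcard : Nat.card J = 27)
    {t z : G} (ht : t ^ 2 = 1) (hz : z ∈ J) (hz1 : z ≠ 1) (hzt : t * z = z * t) :
    ∃ M : Subgroup G, M ≤ J ∧ Nat.card M = 9 ∧ z ∉ M ∧ ∀ m ∈ M, t * m * t⁻¹ ∈ M := by
  letI : Module (ZMod 3) (Additive J) := AddCommGroup.zmodModule fun a => by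
    have : (Additive.toMul a) ^ 3 = 1 := Subtype.ext (hJexp _ (Additive.toMul a).2)
    exact this
  let a : Additive J := Additive.ofMul ⟨z, hz⟩
  have ha : a ≠ 0 := fun h => hz1 (congrArg (fun b : Additive J => ((Additive.toMul b : J) : G)) h)
  obtain ⟨φ, hφ⟩ : ∃ φ : Module.Dual (ZMod 3) (Additive J), φ a ≠ 0 := by
    by_contra h
    push Not at h
    exact ha ((Module.forall_dual_apply_eq_zero_iff (ZMod 3) a).1 h)
  let c : J →* J := (MulAut.conjNormal t).toMonoidHom
  let ψ : J →* Multiplicative (ZMod 3) := (φ.toAddMonoidHom.toMultiplicativeRight) *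
    (φ.toAddMonoidHom.toMultiplicativeRight).comp c
  have hψ : ∀ j : J, ψ j = Multiplicative.ofAdd (φ (Additive.ofMul j) + φ (Additive.ofMul (c j))) :=
    fun j => rfl
  have hcz : c ⟨z, hz⟩ = ⟨z, hz⟩ := Subtype.ext (by
    show t * z * t⁻¹ = z
    rw [hzt, mul_inv_cancel_right])
  have hψz : ψ ⟨z, hz⟩ ≠ 1 := by
    rw [hψ, hcz]
    intro h
    have h' : φ a + φ a = 0 := h
    exact hφ ((show ∀ u : ZMod 3, u + u = 0 → u = 0 by decide) _ h')
  have hcc : ∀ j, c (c j) = j := fun j => Subtype.ext (by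
    show t * (t * j * t⁻¹) * t⁻¹ = j
    have ht' : t⁻¹ = t := by rw [inv_eq_iff_mul_eq_one, ← pow_two, ht]
    rw [ht', show t * (t * (j : G) * t) * t = (t * t) * j * (t * t) by group, ← pow_two, ht,
      one_mul, mul_one])
  have hψc : ∀ j, ψ (c j) = ψ j := fun j => by rw [hψ, hψ, hcc, add_comm]
  have hrange : ψ.range = ⊤ := by
    have : Fact (Nat.card (Multiplicative (ZMod 3))).Prime :=
      ⟨by rw [show Nat.card (Multiplicative (ZMod 3)) = 3 from Nat.card_zmod 3]; norm_num⟩
    exact ψ.range.eq_bot_or_eq_top_of_prime_card.resolve_left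
      fun h => hψz (Subgroup.mem_bot.1 (h ▸ ⟨_, rfl⟩))
  have hker : Nat.card ψ.ker = 9 := by
    have h := ψ.ker.card_mul_index
    rw [Subgroup.index_ker, hrange, Subgroup.card_top,
      show Nat.card (Multiplicative (ZMod 3)) = 3 from Nat.card_zmod 3, hJcard] at h
    omega
  refine ⟨ψ.ker.map J.subtype, Subgroup.map_subtype_le _, ?_, ?_, ?_⟩
  · rw [Subgroup.card_map_of_injective J.subtype_injective, hker]
  · rintro ⟨w, hw, hwz⟩
    obtain rfl : w = ⟨z, hz⟩ := Subtype.ext hwz
    exact hψz hw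
  · rintro _ ⟨w, hw, rfl⟩
    exact ⟨c w, (hψc w).trans hw, rfl⟩

/-- Let G be a group of order 162 = 3⁴·2 with Sylow 3-subgroup S and Sylow 2-subgroup T, having an elementary abelian normal subgroup J of order 27, such that Z = Z(S) has order 3, Z centralizes T, and C_S(T) ≠ S. Then G is isomorphic to the centralizer in Sym(9) of a product of three disjoint 3-cycles. -/
theorem result {G : Type*} [Group G] [Finite G] (hG : Nat.card G = 162)
    (S : Sylow 3 G) (T : Sylow 2 G) (J : Subgroup G) [hJn : J.Normal] (hJcomm : IsMulCommutative J)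
    (hJexp : ∀ a ∈ J, a ^ 3 = 1) (hJcard : Nat.card J = 27)
    (Z : Subgroup G) (hZ : Z = (S : Subgroup G) ⊓ Subgroup.centralizer ((S : Subgroup G) : Set G)) (hZcard : Nat.card Z = 3)
    (hZT : Z ≤ Subgroup.centralizer ((T : Subgroup G) : Set G))
    (hST : (S : Subgroup G) ⊓ Subgroup.centralizer ((T : Subgroup G) : Set G) ≠ S) :
    Nonempty (G ≃* Subgroup.centralizer ({Equiv.swap (0 : Fin 9) 1 * Equiv.swap 1 2 * Equiv.swap 3 4 * Equiv.swap 4 5 * Equiv.swap 6 7 * Equiv.swap 7 8} : Set (Equiv.Perm (Fin 9)))) := by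
  classical
  have : Fact (Nat.Prime 3) := ⟨Nat.prime_three⟩
  have : Fact (Nat.Prime 2) := ⟨Nat.prime_two⟩
  have hScard : Nat.card S = 81 := by
    rw [Sylow.card_eq_multiplicity, hG, show 162 = 3 ^ 4 * 2 from rfl,
      Nat.factorization_mul (by norm_num) (by norm_num), Nat.Prime.factorization_pow Nat.prime_three,
      Nat.Prime.factorization Nat.prime_two]
    simp
  have hTcard : Nat.card T = 2 := by
    rw [Sylow.card_eq_multiplicity, hG, show 162 = 3 ^ 4 * 2 from rfl,
      Nat.factorization_mul (by norm_num) (by norm_num), Nat.Prime.factorization_pow Nat.prime_three,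
      Nat.Prime.factorization Nat.prime_two]
    simp
  have hSidx : (S : Subgroup G).index = 2 := by
    have := (S : Subgroup G).card_mul_index
    rw [hScard, hG] at this; omega
  have hSn : (S : Subgroup G).Normal := Subgroup.normal_of_index_eq_two hSidx
  -- a normal 3-subgroup is inside S
  have hinS : ∀ g : G, g ^ 3 = 1 → g ∈ (S : Subgroup G) := by
    intro g hg
    have hp : g ^ 2 ∈ (S : Subgroup G) := hSidx ▸ Subgroup.pow_index_mem _ g
    have := mul_mem hp hp
    rwa [← pow_add, show 2 + 2 = 3 + 1 from rfl, pow_succ, hg, one_mul] at this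
  have hJS : J ≤ (S : Subgroup G) := fun g hg => hinS g (hJexp g hg)
  -- a non-trivial normal subgroup inside S contains Z
  have hmeet : ∀ N : Subgroup G, N.Normal → N ≤ (S : Subgroup G) → N ≠ ⊥ → Z ≤ N := by
    intro N hN hNS hNb
    have hSp : IsPGroup 3 (S : Subgroup G) := S.2
    have : (N.subgroupOf (S : Subgroup G)).Normal := hN.subgroupOf _
    have hne : N.subgroupOf (S : Subgroup G) ≠ ⊥ := by
      rw [Ne, Subgroup.subgroupOf_eq_bot]
      intro hd
      exact hNb (le_bot_iff.1 (fun g hg => hd.le_bot ⟨hg, hNS hg⟩))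
    have : Group.IsNilpotent (S : Subgroup G) := hSp.isNilpotent
    obtain ⟨b, hb, hb1⟩ := (Subgroup.bot_or_exists_ne_one _).resolve_left
      (CfsgLib.OddOrder.PuigSeries.inf_center_ne_bot (N.subgroupOf (S : Subgroup G)) hne)
    have hbZ : (b : G) ∈ Z := by
      rw [hZ]
      refine ⟨b.2, Subgroup.mem_centralizer_iff.2 fun s hs => ?_⟩
      exact congrArg Subtype.val (Subgroup.mem_center_iff.1 hb.1 ⟨s, hs⟩)
    intro w hw
    have hb' : (b : G) ≠ 1 := fun h => hb1 (Subtype.ext h)
    have := mem_zpowers_of_prime_card (p := 3) hZcard (g := ⟨_, hbZ⟩) (g' := ⟨w, hw⟩)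
      (fun h => hb' (congrArg Subtype.val h))
    obtain ⟨i, hi⟩ := Subgroup.mem_zpowers_iff.1 this
    have hi' : (b : G) ^ i = w := congrArg Subtype.val hi
    rw [← hi']
    exact N.zpow_mem hb.2 i
  -- generators of T and Z
  have : Nontrivial Z := Finite.one_lt_card_iff_nontrivial.1 (by omega)
  obtain ⟨⟨z, hz⟩, hzne⟩ := exists_ne (1 : Z)
  have : Nontrivial T := Finite.one_lt_card_iff_nontrivial.1 (by omega)
  obtain ⟨⟨t, htT⟩, htne⟩ := exists_ne (1 : T)
  have hz1 : z ≠ 1 := fun h => hzne (Subtype.ext h)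
  have ht1 : t ≠ 1 := fun h => htne (Subtype.ext h)
  have hz3 : z ^ 3 = 1 := by
    have : (⟨z, hz⟩ : Z) ^ 3 = 1 := hZcard ▸ pow_card_eq_one'
    exact congrArg Subtype.val this
  have ht2 : t ^ 2 = 1 := by
    have h0 := pow_card_eq_one' (G := T) (x := ⟨t, htT⟩)
    rw [hTcard] at h0
    exact congrArg Subtype.val h0
  have hzt : t * z = z * t := Subgroup.mem_centralizer_iff.1 (hZT hz) t htT
  have hTgen : ∀ a ∈ (T : Subgroup G), a = 1 ∨ a = t := by
    intro a ha
    have := mem_zpowers_of_prime_card (p := 2) hTcard (g := ⟨t, htT⟩) (g' := ⟨a, ha⟩)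
      (fun h => ht1 (congrArg Subtype.val h))
    obtain ⟨k, hk⟩ := (isOfFinOrder_of_finite _).mem_powers_iff_mem_zpowers.2 this
    have hk' : t ^ k = a := congrArg Subtype.val hk
    rw [← hk', ← Nat.mod_add_div k 2, pow_add, pow_mul, ht2, one_pow, mul_one]
    rcases Nat.mod_two_eq_zero_or_one k with h | h <;> rw [h] <;> simp
  have hzc : ∀ g : G, g * z = z * g := by
    have hidx : ∀ g : G, g ∈ (S : Subgroup G) ∨ g * t⁻¹ ∈ (S : Subgroup G) := by
      intro g
      have htS : t ∉ (S : Subgroup G) := by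
        intro h
        obtain ⟨j, hj⟩ := S.2 ⟨t, h⟩
        have hj' : t ^ 3 ^ j = 1 := congrArg Subtype.val hj
        have hdvd := Nat.dvd_gcd (orderOf_dvd_of_pow_eq_one ht2) (orderOf_dvd_of_pow_eq_one hj')
        rw [show Nat.gcd 2 (3 ^ j) = 1 from Nat.Coprime.pow_right j (by norm_num)] at hdvd
        exact ht1 (orderOf_eq_one_iff.1 (Nat.dvd_one.1 hdvd))
      rw [Subgroup.mul_mem_iff_of_index_two hSidx, inv_mem_iff]
      by_cases hg : g ∈ (S : Subgroup G)
      · exact Or.inl hg
      · exact Or.inr ⟨fun h => absurd h hg, fun h => absurd h htS⟩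
    have hzS : z ∈ (S : Subgroup G) ⊓ Subgroup.centralizer ((S : Subgroup G) : Set G) := hZ ▸ hz
    intro g
    rcases hidx g with h | h
    · exact Subgroup.mem_centralizer_iff.1 hzS.2 g h
    · have h1 := Subgroup.mem_centralizer_iff.1 hzS.2 _ h
      calc g * z = g * t⁻¹ * (t * z) := by group
        _ = g * t⁻¹ * z * t := by rw [hzt]; group
        _ = z * g := by rw [h1]; group
  have hzJ : z ∈ J := hmeet J hJn hJS (fun h => by
    rw [h, Subgroup.card_bot] at hJcard; omega) hz
  obtain ⟨M, hMJ, hM, hzM, hMt⟩ := exists_complement J hJcomm hJexp hJcard ht2 hzJ hz1 hzt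
  have htinv : t⁻¹ = t := by rw [inv_eq_iff_mul_eq_one, ← pow_two, ht2]
  have htt : t * t = 1 := by rw [← pow_two, ht2]
  have hMt' : ∀ m ∈ M, t * m * t ∈ M := fun m hm => by
    have := hMt m hm; rwa [htinv] at this
  let H : Subgroup G :=
    { carrier := {g | g ∈ M ∨ g * t ∈ M}
      one_mem' := Or.inl (one_mem M)
      mul_mem' := by
        rintro a b (ha | ha) (hb | hb)
        · exact Or.inl (mul_mem ha hb)
        · exact Or.inr (by rw [mul_assoc]; exact mul_mem ha hb)
        · refine Or.inr ?_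
          have := mul_mem ha (hMt' b hb)
          rwa [← mul_assoc, ← mul_assoc, mul_assoc a t t, htt, mul_one] at this
        · refine Or.inl ?_
          have := mul_mem ha (hMt' _ hb)
          rwa [show a * t * (t * (b * t) * t) = a * (t * t) * b * (t * t) by group, htt, mul_one,
            mul_one] at this
      inv_mem' := by
        rintro a (ha | ha)
        · exact Or.inl (inv_mem ha)
        · refine Or.inr ?_
          have := hMt' _ (inv_mem ha)
          rwa [mul_inv_rev, htinv, ← mul_assoc, htt, one_mul] at this }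
  have htM : t ∉ M := fun h => by
    have h3 := hJexp t (hMJ h)
    rw [pow_succ, ht2, one_mul] at h3
    exact ht1 h3
  have hHcard : Nat.card H = 18 := by
    let f : Fin 2 × M → H := fun p => if p.1 = 0 then ⟨p.2, Or.inl p.2.2⟩
      else ⟨p.2 * t, Or.inr (by rw [mul_assoc, htt, mul_one]; exact p.2.2)⟩
    have hf : Function.Bijective f := by
      constructor
      · have hne : ∀ m m' : M, (m : G) ≠ (m' : G) * t := fun m m' e => htM (by
          rw [show t = (m' : G)⁻¹ * m by rw [e, inv_mul_cancel_left]]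
          exact mul_mem (inv_mem m'.2) m.2)
        rintro ⟨i, m⟩ ⟨j, m'⟩ e
        have e' := congrArg Subtype.val e
        fin_cases i <;> fin_cases j
        · exact Prod.ext rfl (Subtype.ext e')
        · exact absurd e' (hne m m')
        · exact absurd e'.symm (hne m' m)
        · exact Prod.ext rfl (Subtype.ext (mul_right_cancel (b := t) e'))
      · rintro ⟨g, hg | hg⟩
        · exact ⟨(0, ⟨g, hg⟩), rfl⟩
        · refine ⟨(1, ⟨g * t, hg⟩), Subtype.ext ?_⟩
          simp [f, mul_assoc, htt]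
    rw [← Nat.card_eq_of_bijective f hf, Nat.card_prod, Nat.card_fin, hM]
  have hzH : z ∉ H := by
    rintro (h | h)
    · exact hzM h
    · have h3 := hJexp _ (hMJ h)
      rw [(show Commute z t from hzt.symm).mul_pow, hz3, one_mul, pow_succ, ht2, one_mul] at h3
      exact ht1 h3
  have hcore : H.normalCore = ⊥ := by
    by_contra hne
    set N := H.normalCore with hN
    have hNH : N ≤ H := Subgroup.normalCore_le H
    by_cases hNS : N ⊓ (S : Subgroup G) = ⊥
    · obtain ⟨n, hn, hn1⟩ := (Subgroup.bot_or_exists_ne_one N).resolve_left hne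
      have hn2 : n ^ 2 = 1 := by
        have h2 : n ^ 2 ∈ (S : Subgroup G) := hSidx ▸ Subgroup.pow_index_mem _ n
        exact Subgroup.mem_bot.1 (hNS ▸ ⟨N.pow_mem hn 2, h2⟩)
      -- N centralises S
      have hcomm : ∀ s ∈ (S : Subgroup G), s * n = n * s := by
        intro s hs
        have : s * n * s⁻¹ * n⁻¹ ∈ N ⊓ (S : Subgroup G) := by
          refine ⟨N.mul_mem ((Subgroup.normalCore_normal H).conj_mem n hn s) (N.inv_mem hn), ?_⟩
          rw [show s * n * s⁻¹ * n⁻¹ = s * (n * s⁻¹ * n⁻¹) by group]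
          exact (S : Subgroup G).mul_mem hs (hSn.conj_mem _ ((S : Subgroup G).inv_mem hs) n)
        rw [hNS, Subgroup.mem_bot, mul_inv_eq_one, mul_inv_eq_iff_eq_mul] at this
        exact this
      have hp : IsPGroup 2 (Subgroup.zpowers n) := by
        rintro ⟨u, hu⟩
        obtain ⟨k, rfl⟩ := Subgroup.mem_zpowers_iff.1 hu
        refine ⟨1, Subtype.ext ?_⟩
        show (n ^ k) ^ 2 ^ 1 = 1
        rw [pow_one, ← zpow_natCast (n ^ k), ← zpow_mul, mul_comm, zpow_mul, zpow_natCast, hn2,
          one_zpow]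
      obtain ⟨Q, hQ⟩ := hp.exists_le_sylow
      obtain ⟨g, hg⟩ := MulAction.exists_smul_eq G Q T
      have hgn : g * n * g⁻¹ ∈ (T : Subgroup G) := by
        rw [← hg]
        exact Subgroup.smul_mem_pointwise_smul n (MulAut.conj g) Q (hQ (Subgroup.mem_zpowers n))
      have hgt : g * n * g⁻¹ = t := (hTgen _ hgn).resolve_left fun h => hn1 (conj_eq_one_iff.1 h)
      apply hST
      refine le_antisymm inf_le_left (fun s hs => ⟨hs, Subgroup.mem_centralizer_iff.2 fun a ha => ?_⟩)
      rcases hTgen a ha with rfl | rfl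
      · simp
      · have h1 := hcomm (g⁻¹ * s * g) (by simpa using hSn.conj_mem s hs g⁻¹)
        rw [← hgt]
        calc g * n * g⁻¹ * s = g * (n * (g⁻¹ * s * g)) * g⁻¹ := by group
          _ = g * ((g⁻¹ * s * g) * n) * g⁻¹ := by rw [h1]
          _ = s * (g * n * g⁻¹) := by group
    · have hle := hmeet _ (inferInstance : (N ⊓ (S : Subgroup G)).Normal) inf_le_right hNS hz
      exact hzH (hNH hle.1)
  -- the action on the cosets
  have hidx9 : H.index = 9 := by
    have := H.card_mul_index
    rw [hHcard, hG] at this; omega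
  let e : G ⧸ H ≃ Fin 9 := Finite.equivFinOfCardEq (by rw [← Subgroup.index_eq_card, hidx9])
  let f : G →* Equiv.Perm (Fin 9) := e.permCongrHom.toMonoidHom.comp (MulAction.toPermHom G (G ⧸ H))
  have hf : Function.Injective f := by
    have h1 : Function.Injective (MulAction.toPermHom G (G ⧸ H)) := by
      rw [← MonoidHom.ker_eq_bot_iff, ← Subgroup.normalCore_eq_ker]; exact hcore
    exact e.permCongrHom.injective.comp h1
  set π : Equiv.Perm (Fin 9) := Equiv.swap (0 : Fin 9) 1 * Equiv.swap 1 2 * Equiv.swap 3 4 *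
    Equiv.swap 4 5 * Equiv.swap 6 7 * Equiv.swap 7 8 with hπ
  have hπt : π.cycleType = {3, 3, 3} :=
    cycleType_nine (Fintype.card_fin 9) π (by rw [hπ]; decide +kernel) (by rw [hπ]; decide +kernel)
  have hfz : (f z).cycleType = {3, 3, 3} := by
    refine cycleType_nine (Fintype.card_fin 9) _ (by rw [← map_pow, hz3, map_one]) fun i hi => ?_
    obtain ⟨g, hg⟩ := QuotientGroup.mk_surjective (e.symm i)
    have h1 : z • (e.symm i) = e.symm i := by
      have := congrArg e.symm hi
      simpa [f, Equiv.permCongrHom, Equiv.permCongr_apply] using this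
    rw [← hg, MulAction.Quotient.smul_mk, QuotientGroup.eq, smul_eq_mul, mul_inv_rev] at h1
    rw [mul_assoc, show z⁻¹ * g = g * z⁻¹ by
      rw [eq_mul_inv_iff_mul_eq, mul_assoc, hzc, inv_mul_cancel_left], inv_mul_cancel_left,
      inv_mem_iff] at h1
    exact hzH h1
  obtain ⟨w, hw⟩ := isConj_iff.1 (Equiv.Perm.isConj_iff_cycleType_eq.2 (hfz.trans hπt.symm))
  let f' : G →* Equiv.Perm (Fin 9) := (MulAut.conj w).toMonoidHom.comp f
  have hf' : ∀ g, f' g ∈ Subgroup.centralizer ({π} : Set (Equiv.Perm (Fin 9))) := by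
    intro g
    have hz' : f' z = π := hw
    rw [Subgroup.mem_centralizer_singleton_iff, ← hz', ← map_mul, ← map_mul, hzc]
  let F := f'.codRestrict _ hf'
  refine ⟨MulEquiv.ofBijective F ((Nat.bijective_iff_injective_and_card _).2 ⟨?_, ?_⟩)⟩
  · intro a b h
    exact hf ((MulAut.conj w).injective (congrArg Subtype.val h))
  · rw [hG, Equiv.Perm.nat_card_centralizer, hπt, Fintype.card_fin]
    decide +kernel

end Cfsg.Agent.S3376
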