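import Cfsg.Statements.S3377
import Cfsg.Agent.Lib.Recognition.Icosahedral

set_option autoImplicit false
open Cfsg

namespace Cfsg.Agent.S3377

/-- The alternating group of degree 5 has the presentation ⟨x, y | x³ = 1, y⁵ = 1, (xy)² = 1⟩: the group so presented is isomorphic to Alt(5). -/
theorem result :
    Nonempty (PresentedGroup ({FreeGroup.of (0 : Fin 2) ^ 3, FreeGroup.of (1 : Fin 2) ^ 5,
        (FreeGroup.of (0 : Fin 2) * FreeGroup.of 1) ^ 2} : Set (FreeGroup (Fin 2))) ≃* alternatingGroup (Fin 5)) := by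
  obtain ⟨a, b, ha, hb, hab, -, hgen⟩ := CfsgLib.Icosahedral.exists_alt_five_gens
  let rels : Set (FreeGroup (Fin 2)) := {FreeGroup.of (0 : Fin 2) ^ 3, FreeGroup.of (1 : Fin 2) ^ 5,
        (FreeGroup.of (0 : Fin 2) * FreeGroup.of 1) ^ 2}
  have hrel : ∀ r ∈ rels, PresentedGroup.mk rels r = 1 := fun r hr => PresentedGroup.one_of_mem hr
  obtain ⟨hfin, hle⟩ := CfsgLib.Icosahedral.finite_card_le_sixty
    (x := (PresentedGroup.of (0 : Fin 2) : PresentedGroup rels))
    (y := (PresentedGroup.of (1 : Fin 2) : PresentedGroup rels))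
    (hrel _ (Or.inl rfl)) (hrel _ (Or.inr (Or.inl rfl))) (hrel _ (Or.inr (Or.inr rfl)))
    (by
      rw [← PresentedGroup.closure_range_of rels]
      congr 1
      ext z
      simp [Fin.exists_fin_two, eq_comm])
  have hlift : ∀ r ∈ rels, FreeGroup.lift ![a, b] r = 1 := by
    rintro r (rfl | rfl | rfl) <;> simp [ha, hb, hab]
  let f := PresentedGroup.toGroup hlift
  have hf : Function.Surjective f := by
    rw [← MonoidHom.range_eq_top, eq_top_iff, ← hgen, Subgroup.closure_le]
    rintro z (rfl | rfl)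
    · exact ⟨PresentedGroup.of 0, by simp [f]⟩
    · exact ⟨PresentedGroup.of 1, by simp [f]⟩
  refine ⟨MulEquiv.ofBijective f ((Nat.bijective_iff_surjective_and_card _).2 ⟨hf, le_antisymm ?_
    (Nat.card_le_card_of_surjective f hf)⟩)⟩
  refine hle.trans ?_
  rw [nat_card_alternatingGroup, Nat.card_fin]
  norm_num [Nat.factorial]

end Cfsg.Agent.S3377
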