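import Cfsg.Statements.S3379
-- import your own Cfsg.Agent.* helpers here

set_option autoImplicit false
open Cfsg

namespace Cfsg.Agent.S3379

/-- Let G be a finite group all of whose Sylow subgroups are cyclic. Then G is generated by two elements x and y of coprime orders n and m with x⁻¹yx = y^r, where gcd(r − 1, m) = 1 and r^n ≡ 1 (mod m). -/
theorem result {G : Type*} [Group G] [Finite G]
    (hZ : ∀ (p : ℕ) [Fact p.Prime] (P : Sylow p G), IsCyclic (P : Subgroup G)) :
    ∃ (x y : G) (n m r : ℕ), Subgroup.closure {x, y} = ⊤ ∧ orderOf x = n ∧ orderOf y = m ∧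
      x⁻¹ * y * x = y ^ r ∧ Nat.Coprime (r - 1) m ∧ Nat.Coprime n m ∧ 1 ≤ r ∧ r ^ n % m = 1 % m := by
  have hG : IsZGroup G := ⟨fun p hp P => @hZ p ⟨hp⟩ P⟩
  have hab : IsCyclic (G ⧸ commutator G) := (inferInstance : IsCyclic (Abelianization G))
  obtain ⟨K, hK⟩ := Subgroup.exists_right_complement'_of_coprime hG.coprime_commutator_index
  have hKc : IsCyclic K := isCyclic_of_surjective (hK.symm.QuotientMulEquiv : Abelianization G ≃* K)
    hK.symm.QuotientMulEquiv.surjective
  have hNc : IsCyclic (commutator G) := hG.isCyclic_commutator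
  obtain ⟨x, hx⟩ := Subgroup.isCyclic_iff_exists_zpowers_eq_top K |>.1 hKc
  obtain ⟨y, hy⟩ := Subgroup.isCyclic_iff_exists_zpowers_eq_top (commutator G) |>.1 hNc
  have hcop : Nat.Coprime (orderOf x) (orderOf y) := by
    have hxK : orderOf x = (commutator G).index := by
      rw [← Nat.card_zpowers, hx, ← hK.symm.index_eq_card]
    rw [hxK, ← Nat.card_zpowers y, hy]
    exact hG.coprime_commutator_index.symm
  have hymem : x⁻¹ * y * x ∈ Subgroup.zpowers y := by
    rw [hy]
    have h := (inferInstance : (commutator G).Normal).conj_mem y (hy ▸ Subgroup.mem_zpowers y) x⁻¹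
    rwa [inv_inv] at h
  obtain ⟨r₀, hr₀⟩ := (Submonoid.mem_powers_iff _ _).1 (mem_powers_iff_mem_zpowers.2 hymem)
  set r := r₀ + orderOf y with hrdef
  have hr1 : 1 ≤ r := le_add_left (orderOf_pos y)
  have hr : x⁻¹ * y * x = y ^ r := by rw [hrdef, pow_add, pow_orderOf_eq_one, mul_one, hr₀]
  have hgen : Subgroup.closure {x, y} = ⊤ := by
    rw [eq_top_iff, ← hK.sup_eq_top, sup_le_iff, ← hx, ← hy, Subgroup.zpowers_le, Subgroup.zpowers_le]
    exact ⟨Subgroup.subset_closure (by simp), Subgroup.subset_closure (by simp)⟩
  refine ⟨x, y, orderOf x, orderOf y, r, hgen, rfl, rfl, hr, ?_, hcop, hr1, ?_⟩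
  · set z := y ^ (r - 1) with hz
    have hxy : x⁻¹ * y * x = y * z := by
      rw [hr, hz, ← pow_succ', Nat.sub_add_cancel hr1]
    have hzx : x⁻¹ * z * x = z ^ r := by
      calc x⁻¹ * z * x = (x⁻¹ * y * x) ^ (r - 1) := by
            have h := (conj_pow (a := x⁻¹) (b := y) (i := r - 1)).symm
            rw [inv_inv] at h
            exact h
        _ = z ^ r := by rw [hr, hz, ← pow_mul, ← pow_mul, mul_comm]
    have hzy : Commute y z := (Commute.refl y).pow_right _
    have hn : (Subgroup.zpowers z).Normal := by
      have hle : Subgroup.closure {x, y} ≤ Subgroup.normalizer (Subgroup.zpowers z : Set G) := by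
        rw [Subgroup.closure_le]
        have key : ∀ g : G, g * z * g⁻¹ ∈ Subgroup.zpowers z →
            g ∈ Subgroup.normalizer (Subgroup.zpowers z : Set G) := by
          intro g hg
          apply Subgroup.mem_normalizer_fintype
          intro w hw
          obtain ⟨k, rfl⟩ := Subgroup.mem_zpowers_iff.1 hw
          rw [← conj_zpow]
          exact Subgroup.zpow_mem _ hg k
        rintro g (rfl | rfl)
        · rw [SetLike.mem_coe, ← inv_mem_iff]
          refine key _ ?_
          rw [inv_inv, hzx]
          exact Subgroup.pow_mem _ (Subgroup.mem_zpowers z) r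
        · refine key _ ?_
          rw [hzy.eq, mul_inv_cancel_right]
          exact Subgroup.mem_zpowers z
      rw [hgen, top_le_iff] at hle
      exact Subgroup.normalizer_eq_top_iff.1 hle
    have hle : commutator G ≤ Subgroup.zpowers z := by
      apply Subgroup.Normal.quotient_commutative_iff_commutator_le.1
      refine ⟨⟨fun a b => ?_⟩⟩
      have hc : ∀ g : G, (QuotientGroup.mk' (Subgroup.zpowers z)) g ∈
          Subgroup.center (G ⧸ Subgroup.zpowers z) := by
        have hxy' : Commute (QuotientGroup.mk' (Subgroup.zpowers z) x)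
            (QuotientGroup.mk' (Subgroup.zpowers z) y) := by
          show _ * _ = _ * _
          rw [← map_mul, ← map_mul]
          symm
          apply QuotientGroup.eq.2
          have h : (y * x)⁻¹ * (x * y) = z⁻¹ := by
            rw [show (y * x)⁻¹ * (x * y) = (y⁻¹ * (x⁻¹ * y * x))⁻¹ by group, hxy]; group
          rw [h]
          exact Subgroup.inv_mem _ (Subgroup.mem_zpowers z)
        have hle : Subgroup.closure {x, y} ≤
            (Subgroup.center (G ⧸ Subgroup.zpowers z)).comap (QuotientGroup.mk' _) := by
          rw [Subgroup.closure_le]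
          intro g hg
          rw [SetLike.mem_coe, Subgroup.mem_comap, Subgroup.mem_center_iff]
          intro q
          obtain ⟨q, rfl⟩ := QuotientGroup.mk'_surjective _ q
          have : Subgroup.closure {x, y} ≤ (Subgroup.centralizer
              {QuotientGroup.mk' (Subgroup.zpowers z) g}).comap (QuotientGroup.mk' _) := by
            rw [Subgroup.closure_le]
            intro h hh
            rw [SetLike.mem_coe, Subgroup.mem_comap, Subgroup.mem_centralizer_singleton_iff]
            rcases hg with rfl | hg' <;> rcases hh with rfl | hh'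
            · rfl
            · rw [Set.mem_singleton_iff.1 hh']; exact hxy'.symm.eq
            · rw [Set.mem_singleton_iff.1 hg']; exact hxy'.eq
            · rw [Set.mem_singleton_iff.1 hg', Set.mem_singleton_iff.1 hh']
          have hq := this (hgen ▸ Subgroup.mem_top q)
          rw [Subgroup.mem_comap, Subgroup.mem_centralizer_singleton_iff] at hq
          exact hq
        intro g
        exact hle (hgen ▸ Subgroup.mem_top g)
      obtain ⟨a, rfl⟩ := QuotientGroup.mk'_surjective _ a
      exact (Subgroup.mem_center_iff.1 (hc a) b).symm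
    have hzy' : orderOf y ∣ orderOf z :=
      orderOf_dvd_of_mem_zpowers (hle (hy ▸ Subgroup.mem_zpowers y))
    rw [hz, orderOf_pow] at hzy'
    have h0 : 0 < orderOf y := orderOf_pos y
    have hg : Nat.gcd (orderOf y) (r - 1) = 1 := by
      have hd := Nat.gcd_dvd_left (orderOf y) (r - 1)
      have h1 : orderOf y / Nat.gcd (orderOf y) (r - 1) = orderOf y :=
        Nat.dvd_antisymm (Nat.div_dvd_of_dvd hd) hzy'
      rcases Nat.div_eq_self.1 h1 with h | h
      · omega
      · exact h
    exact Nat.Coprime.symm hg
  · have hpow : ∀ k : ℕ, (x ^ k)⁻¹ * y * x ^ k = y ^ r ^ k := by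
      intro k
      induction k with
      | zero => simp
      | succ k ih =>
        calc (x ^ (k + 1))⁻¹ * y * x ^ (k + 1) = x⁻¹ * ((x ^ k)⁻¹ * y * x ^ k) * x := by
              rw [pow_succ]; group
          _ = (x⁻¹ * y * x) ^ (r ^ k) := by
              rw [ih]
              have h := (conj_pow (a := x⁻¹) (b := y) (i := r ^ k)).symm
              rw [inv_inv] at h
              exact h
          _ = y ^ r ^ (k + 1) := by rw [hr, ← pow_mul, ← pow_succ']
    have h := hpow (orderOf x)
    rw [pow_orderOf_eq_one, inv_one, one_mul, mul_one] at h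
    exact (pow_eq_pow_iff_modEq.1 (show y ^ 1 = y ^ r ^ orderOf x by rw [pow_one]; exact h)).symm

end Cfsg.Agent.S3379
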