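import Cfsg.Statements.S3380
import Cfsg.Agent.Lib.Recognition.NormalSquareAll

set_option autoImplicit false
open Cfsg

namespace Cfsg.Agent.S3380

/-- Let a finite p-group G act faithfully and irreducibly on a non-trivial finite vector space V over the field with q elements (q prime), and suppose G is not cyclic, generalized quaternion, dihedral or semidihedral. Then G has a subgroup H of index p and V is the direct sum of p subspaces, each invariant under H, on none of which H acts faithfully, and which every element of G outside H permutes in a single p-cycle. -/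
theorem result
    (q : ℕ) [Fact q.Prime] {V : Type*} [AddCommGroup V] [Module (ZMod q) V] [Finite V] [Nontrivial V]
    {G : Type*} [Group G] [Finite G] (p : ℕ) [Fact p.Prime] (hG : IsPGroup p G)
    (ρ : G →* (V ≃ₗ[ZMod q] V)) (hρ : Function.Injective ρ)
    (hirr : ∀ W : Submodule (ZMod q) V, (∀ g : G, ∀ w ∈ W, ρ g w ∈ W) → W = ⊥ ∨ W = ⊤)
    (hnc : ¬ IsCyclic G) (hnq : ∀ n : ℕ, ¬ Nonempty (G ≃* QuaternionGroup n))
    (hnd : ∀ n : ℕ, ¬ Nonempty (G ≃* DihedralGroup n)) (hnsd : ¬ Cfsg.IsQuasiDihedral G) :
    ∃ (H : Subgroup G) (W : Fin p → Submodule (ZMod q) V), H.index = p ∧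
      iSup W = ⊤ ∧ iSupIndep W ∧
      (∀ h ∈ H, ∀ i, ∀ w ∈ W i, ρ h w ∈ W i) ∧
      (∀ i, ∃ h ∈ H, h ≠ 1 ∧ ∀ w ∈ W i, ρ h w = w) ∧
      ∀ g : G, g ∉ H → ∃ σ : Equiv.Perm (Fin p), orderOf σ = p ∧ ∀ i, (W i).map (ρ g : V →ₗ[ZMod q] V) = W (σ i) := by
  classical
  obtain ⟨E, hEn, hE, hEcard⟩ :=
    CfsgLib.RecognitionNormalSquare.exists_normal_elementary_square_of_not_special hG hnc hnq hnd hnsd
  have hp : p.Prime := Fact.out
  have hEab : IsMulCommutative E := hE.1
  have hρone : ∀ g : G, (∀ v, ρ g v = v) → g = 1 := fun g hg =>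
    hρ (by rw [map_one]; exact LinearEquiv.ext hg)
  have hmul : ∀ (g h : G) (v : V), ρ (g * h) v = ρ g (ρ h v) := fun g h v => by
    rw [map_mul]; rfl
  -- a central element of order p in E
  obtain ⟨B, hBn, hBE, hBi, -⟩ :=
    CfsgLib.PGroupBasic.exists_normal_relIndex_eq hG E (fun h => by
      rw [h, Subgroup.card_bot] at hEcard
      exact absurd hEcard (ne_of_lt (Nat.one_lt_pow two_ne_zero hp.one_lt)))
  have hBcard : Nat.card B = p := by
    have h := Subgroup.relIndex_mul_relIndex ⊥ B E bot_le hBE
    rw [Subgroup.relIndex_bot_left, Subgroup.relIndex_bot_left, hBi, hEcard, pow_two] at h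
    exact Nat.eq_of_mul_eq_mul_right hp.pos h
  have hcomm1 : ∀ (N : Subgroup G), N.Normal → Nat.card N = p → ∀ x ∈ N, ∀ g : G, g * x = x * g := by
    intro N hN hNcard x hx g
    let K := ⁅N, (⊤ : Subgroup G)⁆
    have hKN : K ≤ N := Subgroup.commutator_le_left N ⊤
    have hmem : g * x * g⁻¹ * x⁻¹ ∈ K := by
      have hm := Subgroup.commutator_mem_commutator hx (Subgroup.mem_top g)
      rw [commutatorElement_def] at hm
      have := inv_mem hm
      rwa [show (x * g * x⁻¹ * g⁻¹)⁻¹ = g * x * g⁻¹ * x⁻¹ by group] at this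
    rcases (Nat.dvd_prime hp).1 (hNcard ▸ Subgroup.card_dvd_of_le hKN) with h | h
    · have hK := Subgroup.eq_bot_of_card_eq K h
      rw [hK, Subgroup.mem_bot, mul_inv_eq_one, mul_inv_eq_iff_eq_mul] at hmem
      exact hmem
    · exfalso
      have hKeq : K = N := Subgroup.eq_of_le_of_card_ge hKN (by rw [h, hNcard])
      have : Group.IsNilpotent G := hG.isNilpotent
      obtain ⟨n, hn⟩ := Subgroup.nilpotent_iff_lowerCentralSeries.mp
        (inferInstance : Group.IsNilpotent G)
      have hle : ∀ k, N ≤ (⊤ : Subgroup G).lowerCentralSeries k := by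
        intro k
        induction k with
        | zero => simp
        | succ k ih =>
          rw [Subgroup.lowerCentralSeries_succ, ← hKeq]
          exact Subgroup.commutator_mono ih le_rfl
      have hNb : N = ⊥ := le_bot_iff.1 (hn ▸ hle n)
      rw [hNb, Subgroup.card_bot] at hNcard
      exact hp.one_lt.ne hNcard
  obtain ⟨⟨z, hzB⟩, hzo⟩ := exists_prime_orderOf_dvd_card' (G := B) p (hBcard ▸ dvd_rfl)
  rw [Subgroup.orderOf_mk] at hzo
  have hzE : z ∈ E := hBE hzB
  have hz1 : z ≠ 1 := fun h => by rw [h, orderOf_one] at hzo; exact hp.one_lt.ne hzo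
  have hzp : z ^ p = 1 := hzo ▸ pow_orderOf_eq_one z
  have hzc : ∀ g, g * z = z * g := hcomm1 B hBn hBcard z hzB
  -- fixed points of z are trivial
  have hfix : ∀ v : V, ρ z v = v → v = 0 := by
    intro v hv
    let W : Submodule (ZMod q) V :=
      LinearMap.ker ((ρ z : V →ₗ[ZMod q] V) - LinearMap.id)
    have hW : ∀ w, w ∈ W ↔ ρ z w = w := fun w => by simp [W, sub_eq_zero]
    rcases hirr W (fun g w hw => by
      rw [hW] at hw ⊢
      rw [← hmul, ← hzc, hmul, hw]) with h | h
    · have hmem := (hW v).2 hv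
      rw [h, Submodule.mem_bot] at hmem
      exact hmem
    · exact absurd (hρone z fun v => (hW v).1 (h ▸ Submodule.mem_top)) hz1
  have hpq : ¬ (q ∣ p) := by
    intro hdvd
    have hqp : q = p := (Nat.prime_dvd_prime_iff_eq Fact.out hp).1 hdvd
    subst hqp
    letI : MulAction (Subgroup.zpowers z) V :=
      { smul := fun g v => ρ (g : G) v
        one_smul := fun v => by show ρ 1 v = v; rw [map_one]; rfl
        mul_smul := fun g h v => hmul _ _ v }
    have hfixset : MulAction.fixedPoints (Subgroup.zpowers z) V = {(0 : V)} := by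
      ext v
      constructor
      · intro h; exact hfix v (h ⟨z, Subgroup.mem_zpowers z⟩)
      · rintro rfl g; exact map_zero (ρ (g : G))
    have h := (hG.to_subgroup (Subgroup.zpowers z)).card_modEq_card_fixedPoints (α := V)
    rw [hfixset, Nat.card_eq_fintype_card (α := ({(0 : V)} : Set V)),
      Set.card_singleton] at h
    have hV : q ∣ Nat.card V := by
      rw [Module.natCard_eq_pow_finrank (K := ZMod q) (V := V), Nat.card_zmod]
      exact dvd_pow_self q (Module.finrank_pos (R := ZMod q) (M := V)).ne'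
    have := (Nat.modEq_zero_iff_dvd.2 hV).symm.trans h
    rw [Nat.ModEq, Nat.zero_mod, Nat.mod_eq_of_lt hp.one_lt] at this
    omega
  have hpunit : (p : ZMod q) ≠ 0 := fun h => hpq ((ZMod.natCast_eq_zero_iff p q).1 h)
  -- second generator
  obtain ⟨e, he, hne⟩ : ∃ e ∈ E, e ∉ Subgroup.zpowers z := by
    by_contra hc
    push Not at hc
    have := Subgroup.card_le_of_le (show E ≤ Subgroup.zpowers z from hc)
    rw [hEcard, Nat.card_zpowers, hzo, pow_two] at this
    have h2 := hp.two_le
    nlinarith
  have hep : e ^ p = 1 := hE.2 e he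
  have hez : Commute e z := hzc e
  -- powers of z indexed by ZMod p
  have hzmod : ∀ k, z ^ (k % p) = z ^ k := fun k => by
    conv_rhs => rw [← Nat.mod_add_div k p, pow_add, pow_mul, hzp, one_pow, mul_one]
  let zp : ZMod p → G := fun i => z ^ i.val
  have hzp_cast : ∀ k : ℕ, zp (k : ZMod p) = z ^ k := fun k => by
    show z ^ (k : ZMod p).val = z ^ k
    rw [ZMod.val_natCast, hzmod]
  have hzp_add : ∀ i j, zp (i + j) = zp i * zp j := fun i j => by
    show z ^ (i + j).val = z ^ i.val * z ^ j.val
    rw [← pow_add, ZMod.val_add, hzmod]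
  have hzp_inj : ∀ i, zp i = 1 → i = 0 := fun i hi => by
    have h := orderOf_dvd_of_pow_eq_one hi
    rw [hzo] at h
    exact (ZMod.val_eq_zero i).1 (Nat.eq_zero_of_dvd_of_lt h (ZMod.val_lt i))
  have hzp_surj : ∀ g ∈ Subgroup.zpowers z, ∃ i, g = zp i := fun g hg => by
    obtain ⟨k, rfl⟩ := (isOfFinOrder_of_finite z).mem_powers_iff_mem_zpowers.2 hg
    exact ⟨(k : ZMod p), (hzp_cast k).symm⟩
  let D : ZMod p → G := fun i => e * zp i
  let W : ZMod p → Submodule (ZMod q) V := fun i =>
    LinearMap.ker ((ρ (D i) : V →ₗ[ZMod q] V) - LinearMap.id)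
  have hW : ∀ i w, w ∈ W i ↔ ρ (D i) w = w := fun i w => by simp [W, sub_eq_zero]
  have hpow : ∀ (g : G) (w : V), ρ g w = w → ∀ k : ℕ, ρ (g ^ k) w = w := by
    intro g w hg k
    induction k with
    | zero => rw [pow_zero, map_one]; rfl
    | succ k ih => rw [pow_succ, hmul, hg, ih]
  -- the orbit sums
  let T : G → V → V := fun g v => ∑ k ∈ Finset.range p, ρ (g ^ k) v
  have hTfix : ∀ g : G, g ^ p = 1 → ∀ v, ρ g (T g v) = T g v := by
    intro g hg v
    simp only [T, map_sum, ← hmul, ← pow_succ']
    have h1 := Finset.sum_range_succ' (fun k => ρ (g ^ k) v) p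
    have h2 := Finset.sum_range_succ (fun k => ρ (g ^ k) v) p
    rw [h1] at h2
    simp only [hg, pow_zero] at h2
    exact add_right_cancel h2
  have hsum0 : ∀ v : V, ∑ i : ZMod p, ρ (zp i) v = 0 := by
    intro v
    apply hfix
    rw [map_sum]
    refine (Fintype.sum_equiv (Equiv.addLeft (1 : ZMod p)) _ _ fun i => ?_)
    have h1 : zp 1 = z := by
      have := hzp_cast 1
      rwa [Nat.cast_one, pow_one] at this
    rw [← hmul, Equiv.coe_addLeft, hzp_add, h1]
  have hDp : ∀ i, D i ^ p = 1 := fun i => by
    show (e * z ^ i.val) ^ p = 1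
    rw [(hez.pow_right _).mul_pow, hep, ← pow_mul, mul_comm, pow_mul, hzp, one_pow, one_mul]
  have hscale : ∀ (k : ℕ) (c : ZMod p), ¬ p ∣ k → ∀ v, ∑ i : ZMod p, ρ (zp ((k : ZMod p) * i + c)) v = 0 := by
    intro k c hk v
    have hu : (k : ZMod p) ≠ 0 := fun h => hk ((ZMod.natCast_eq_zero_iff k p).1 h)
    rw [← hsum0 v]
    exact Fintype.sum_equiv ((Equiv.mulLeft₀ _ hu).trans (Equiv.addRight c)) _ _ fun i => rfl
  have hDpow : ∀ (i : ZMod p) (k : ℕ), D i ^ k = e ^ k * zp ((k : ZMod p) * i) := by
    intro i k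
    induction k with
    | zero => simp [zp]
    | succ k ih =>
      rw [pow_succ, ih, Nat.cast_succ, add_mul, one_mul, hzp_add, pow_succ]
      show e ^ k * zp (k * i) * (e * zp i) = e ^ k * e * (zp (k * i) * zp i)
      have hc : zp (k * i) * e = e * zp (k * i) := (hez.pow_right _).eq.symm
      rw [mul_assoc, ← mul_assoc (zp _) e, hc]; group
  have htotal : ∀ v, ∑ i : ZMod p, T (D i) v = (p : ZMod q) • v := by
    intro v
    simp only [T]
    rw [Finset.sum_comm, ← Finset.sum_erase_add _ _ (Finset.mem_range.2 hp.pos)]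
    rw [Finset.sum_eq_zero, zero_add]
    · simp [Finset.sum_const, ZMod.card, Nat.cast_smul_eq_nsmul]
    · intro k hk
      have hk' := Finset.mem_erase.1 hk
      simp only [hDpow, hmul]
      rw [← map_sum]
      have := hscale k 0 (fun h => absurd (Nat.le_of_dvd (Nat.pos_of_ne_zero hk'.1) h)
        (not_le.2 (Finset.mem_range.1 hk'.2))) v
      simp only [add_zero] at this
      rw [this, map_zero]
  have hTW : ∀ i v, T (D i) v ∈ W i := fun i v => (hW i _).2 (hTfix _ (hDp i) v)
  have hkill : ∀ i j w, w ∈ W i → i ≠ j → T (D j) w = 0 := by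
    intro i j w hw hij
    have hji : j - i ≠ 0 := sub_ne_zero.2 fun h => hij h.symm
    have hDj : ∀ k : ℕ, ρ (D j ^ k) w = ρ (zp ((k : ZMod p) * (j - i))) w := by
      intro k
      have : D j ^ k = zp ((k : ZMod p) * (j - i)) * D i ^ k := by
        rw [hDpow, hDpow, ← mul_assoc,
          show zp ((k : ZMod p) * (j - i)) * e ^ k = e ^ k * zp ((k : ZMod p) * (j - i)) from
            (((hez.pow_left k).pow_right _).eq).symm,
          mul_assoc, ← hzp_add, ← mul_add, sub_add_cancel]
      rw [this, hmul, hpow _ _ ((hW i w).1 hw) k]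
    simp only [T, hDj]
    have hbij : ∑ k ∈ Finset.range p, ρ (zp ((k : ZMod p) * (j - i))) w =
        ∑ a : ZMod p, ρ (zp (a * (j - i))) w :=
      Finset.sum_nbij' (fun k => (k : ZMod p)) (fun a => a.val) (fun _ _ => Finset.mem_univ _)
        (fun a _ => Finset.mem_range.2 (ZMod.val_lt a))
        (fun k hk => ZMod.val_cast_of_lt (Finset.mem_range.1 hk))
        (fun a _ => ZMod.natCast_zmod_val a) (fun k _ => rfl)
    rw [hbij, ← hsum0 w]
    exact Fintype.sum_equiv (Equiv.mulRight₀ _ hji) _ _ fun a => rfl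
  have hTself : ∀ i w, w ∈ W i → T (D i) w = (p : ZMod q) • w := by
    intro i w hw
    simp only [T, hpow _ _ ((hW i w).1 hw), Finset.sum_const, Finset.card_range,
      Nat.cast_smul_eq_nsmul]
  have hsup : iSup W = ⊤ := by
    rw [eq_top_iff]
    intro v _
    have hv : v = (p : ZMod q)⁻¹ • ∑ i : ZMod p, T (D i) v := by
      rw [htotal, smul_smul, inv_mul_cancel₀ hpunit, one_smul]
    rw [hv]
    exact Submodule.smul_mem _ _ (Submodule.sum_mem _ fun i _ =>
      Submodule.mem_iSup_of_mem i (hTW i v))
  have hindep : iSupIndep W := by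
    intro j
    rw [Submodule.disjoint_def]
    intro x hx hx'
    have hT0 : T (D j) x = 0 := by
      let L : V →ₗ[ZMod q] V := ∑ k ∈ Finset.range p, (ρ (D j ^ k) : V →ₗ[ZMod q] V)
      have hL : ∀ v, L v = T (D j) v := fun v => by simp [L, T]
      have hle : (⨆ (i : ZMod p) (_ : i ≠ j), W i) ≤ LinearMap.ker L :=
        iSup₂_le fun i hi w hw => by
          rw [LinearMap.mem_ker, hL]
          exact hkill i j w hw hi
      have := hle hx'
      rwa [LinearMap.mem_ker, hL] at this
    rw [hTself j x hx] at hT0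
    exact (smul_eq_zero.1 hT0).resolve_left hpunit
  -- conjugation of e
  have hex : ∀ g : G, ∃ c : ZMod p, g * e * g⁻¹ = e * zp c := by
    intro g
    -- the commutator lies in a normal subgroup of order p
    let K : Subgroup G := ⁅E, (⊤ : Subgroup G)⁆
    have hKE : K ≤ E := Subgroup.commutator_le_left E ⊤
    have hmem : e⁻¹ * (g * e * g⁻¹) ∈ K := by
      have h := Subgroup.commutator_mem_commutator (H₂ := (⊤ : Subgroup G)) (inv_mem he)
        (Subgroup.mem_top g)
      rw [commutatorElement_def, inv_inv] at h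
      have : e⁻¹ * (g * e * g⁻¹) = e⁻¹ * g * e * g⁻¹ := by group
      rw [this]; exact h
    have hKlt : K ≠ E := by
      intro hKeq
      have : Group.IsNilpotent G := hG.isNilpotent
      obtain ⟨n, hn⟩ := Subgroup.nilpotent_iff_lowerCentralSeries.mp
        (inferInstance : Group.IsNilpotent G)
      have hle : ∀ k, E ≤ (⊤ : Subgroup G).lowerCentralSeries k := by
        intro k
        induction k with
        | zero => simp
        | succ k ih =>
          rw [Subgroup.lowerCentralSeries_succ, ← hKeq]
          exact Subgroup.commutator_mono ih le_rfl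
      exact hne (by
        have : e ∈ (⊥ : Subgroup G) := hn ▸ hle n he
        rw [Subgroup.mem_bot] at this
        rw [this]; exact one_mem _)
    obtain ⟨a, ha, hacard⟩ := (Nat.dvd_prime_pow hp).1 (hEcard ▸ Subgroup.card_dvd_of_le hKE)
    have hKn : K.Normal := Subgroup.commutator_normal E ⊤
    have hKz : K ≤ Subgroup.zpowers z := by
      interval_cases a
      · rw [Subgroup.eq_bot_of_card_eq K (by simpa using hacard)]; exact bot_le
      · rw [pow_one] at hacard
        intro k hk
        by_contra hkz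
        -- then E would be central
        have hkc : ∀ x : G, x * k = k * x := hcomm1 K hKn hacard k hk
        let C := Subgroup.centralizer ({z, k} : Set G)
        have hEc : ∀ x ∈ E, x ∈ Subgroup.center G := by
          intro x hx
          have hsub : Subgroup.zpowers z ⊔ Subgroup.zpowers k ≤ Subgroup.center G := by
            rw [sup_le_iff, Subgroup.zpowers_le, Subgroup.zpowers_le, Subgroup.mem_center_iff,
              Subgroup.mem_center_iff]
            exact ⟨hzc, hkc⟩
          have hEle : Subgroup.zpowers z ⊔ Subgroup.zpowers k = E := by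
            refine Subgroup.eq_of_le_of_card_ge (sup_le (Subgroup.zpowers_le.2 hzE)
              (Subgroup.zpowers_le.2 (hKE hk))) ?_
            have hd : Nat.card ↥(Subgroup.zpowers z ⊔ Subgroup.zpowers k) ∣ p ^ 2 :=
              hEcard ▸ Subgroup.card_dvd_of_le (sup_le (Subgroup.zpowers_le.2 hzE)
                (Subgroup.zpowers_le.2 (hKE hk)))
            obtain ⟨b, hb, hbc⟩ := (Nat.dvd_prime_pow hp).1 hd
            rw [hEcard, hbc]
            refine Nat.pow_le_pow_right hp.pos ?_
            by_contra hb2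
            apply hkz
            have heq : Subgroup.zpowers z = Subgroup.zpowers z ⊔ Subgroup.zpowers k := by
              refine Subgroup.eq_of_le_of_card_ge le_sup_left ?_
              rw [hbc, Nat.card_zpowers, hzo]
              calc p ^ b ≤ p ^ 1 := Nat.pow_le_pow_right hp.pos (by omega)
                _ = p := pow_one p
            rw [heq]
            exact Subgroup.mem_sup_right (Subgroup.mem_zpowers k)
          exact hsub (hEle ▸ hx)
        have hWinv : ∀ (x : G) i, ∀ w ∈ W i, ρ x w ∈ W i := by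
          intro x i w hw
          rw [hW] at hw ⊢
          have hc : D i * x = x * D i :=
            (Subgroup.mem_center_iff.1 (hEc _ (mul_mem he (E.pow_mem hzE _))) x).symm
          rw [← hmul, hc, hmul, hw]
        have hbot : ∀ i, W i = ⊥ := fun i => (hirr (W i) (fun x => hWinv x i)).resolve_right
          fun h => by
            have h1 := hρone (D i) fun v => (hW i v).1 (h ▸ Submodule.mem_top)
            exact hne (by
              rw [eq_inv_of_mul_eq_one_left (h1 : e * zp i = 1)]
              exact inv_mem (pow_mem (Subgroup.mem_zpowers z) _))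
        rw [iSup_congr hbot, iSup_bot] at hsup
        exact bot_ne_top hsup
      · exact absurd (Subgroup.eq_of_le_of_card_ge hKE (by rw [hacard, hEcard])) hKlt
    obtain ⟨c, hc⟩ := hzp_surj _ (hKz hmem)
    exact ⟨c, by rw [← hc, mul_inv_cancel_left]⟩
  choose c hc using hex
  have hcadd : ∀ g h, c (g * h) = c g + c h := by
    intro g h
    have hgz : g * zp (c h) * g⁻¹ = zp (c h) :=
      mul_inv_eq_iff_eq_mul.2 ((show Commute g z from hzc g).pow_right _).eq
    have h1 : e * zp (c (g * h)) = e * zp (c g + c h) := by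
      rw [← hc, hzp_add]
      calc g * h * e * (g * h)⁻¹ = g * (h * e * h⁻¹) * g⁻¹ := by group
        _ = (g * e * g⁻¹) * (g * zp (c h) * g⁻¹) := by rw [hc]; group
        _ = e * (zp (c g) * zp (c h)) := by rw [hc, hgz, mul_assoc]
    have h2 := mul_left_cancel h1
    apply eq_of_sub_eq_zero
    apply hzp_inj
    have h3 : zp (c (g * h) - (c g + c h)) * zp (c g + c h) = zp (c g + c h) := by
      rw [← hzp_add, sub_add_cancel, h2]
    exact mul_eq_right.1 h3
  let φ : G →* Multiplicative (ZMod p) :=
    MonoidHom.mk' (fun g => Multiplicative.ofAdd (c g)) fun g h => by rw [hcadd]; rfl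
  have hmove : ∀ g i, D (i + c g) = g * D i * g⁻¹ := by
    intro g i
    have hgz : g * zp i * g⁻¹ = zp i :=
      mul_inv_eq_iff_eq_mul.2 ((show Commute g z from hzc g).pow_right _).eq
    show e * zp (i + c g) = g * (e * zp i) * g⁻¹
    calc e * zp (i + c g) = e * zp (c g) * zp i := by rw [add_comm, hzp_add, mul_assoc]
      _ = (g * e * g⁻¹) * (g * zp i * g⁻¹) := by rw [hc, hgz]
      _ = g * (e * zp i) * g⁻¹ := by group
  have hmap : ∀ g i, (W i).map (ρ g : V →ₗ[ZMod q] V) = W (i + c g) := by
    intro g i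
    ext v
    rw [Submodule.mem_map]
    constructor
    · rintro ⟨w, hw, rfl⟩
      rw [hW] at hw ⊢
      show ρ (D (i + c g)) (ρ g w) = ρ g w
      rw [hmove, ← hmul, inv_mul_cancel_right, hmul, hw]
    · intro hv
      refine ⟨ρ g⁻¹ v, (hW _ _).2 ?_, ?_⟩
      · have hD : D i = g⁻¹ * D (i + c g) * g := by rw [hmove]; group
        rw [hD, ← hmul, mul_inv_cancel_right, hmul, (hW _ _).1 hv]
      · show ρ g (ρ g⁻¹ v) = v
        rw [← hmul, mul_inv_cancel, map_one]; rfl
  have hidx : φ.ker.index = p := by
    rw [Subgroup.index_ker]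
    have : Fact (Nat.card (Multiplicative (ZMod p))).Prime :=
      ⟨by rw [show Nat.card (Multiplicative (ZMod p)) = p from Nat.card_zmod p]; exact hp⟩
    rcases φ.range.eq_bot_or_eq_top_of_prime_card with h | h
    · exfalso
      have hc0 : ∀ g, c g = 0 := fun g => by
        have : φ g ∈ φ.range := ⟨g, rfl⟩
        rw [h, Subgroup.mem_bot] at this
        exact this
      have hbot : ∀ i, W i = ⊥ := fun i => (hirr (W i) (fun g w hw => by
          have : ρ g w ∈ (W i).map (ρ g : V →ₗ[ZMod q] V) := Submodule.mem_map_of_mem hw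
          rwa [hmap, hc0, add_zero] at this)).resolve_right fun h => by
        have h1 := hρone (D i) fun v => (hW i v).1 (h ▸ Submodule.mem_top)
        exact hne (by
          rw [eq_inv_of_mul_eq_one_left (h1 : e * zp i = 1)]
          exact inv_mem (pow_mem (Subgroup.mem_zpowers z) _))
      rw [iSup_congr hbot, iSup_bot] at hsup
      exact bot_ne_top hsup
    · rw [h, Subgroup.card_top, show Nat.card (Multiplicative (ZMod p)) = p from Nat.card_zmod p]
  let eqv : Fin p ≃ ZMod p := (Finite.equivFinOfCardEq (Nat.card_zmod p)).symm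
  refine ⟨φ.ker, fun i => W (eqv i), hidx, ?_, hindep.comp eqv.injective, ?_, ?_, ?_⟩
  · rw [← hsup]; exact Equiv.iSup_congr eqv fun _ => rfl
  · intro h hh i w hw
    have : ρ h w ∈ (W (eqv i)).map (ρ h : V →ₗ[ZMod q] V) := Submodule.mem_map_of_mem hw
    rwa [hmap, show c h = 0 from hh, add_zero] at this
  · intro i
    refine ⟨D (eqv i), ?_, ?_, fun w hw => (hW _ w).1 hw⟩
    · have hce : c (D (eqv i)) = 0 := by
        apply hzp_inj
        have h1 := hc (D (eqv i))
        have hcom : D (eqv i) * e = e * D (eqv i) :=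
          ((Commute.refl e).mul_left (hez.symm.pow_left _)).eq
        rw [hcom, mul_inv_cancel_right] at h1
        exact mul_eq_left.1 h1.symm
      show Multiplicative.ofAdd (c (D (eqv i))) = 1
      rw [hce]; rfl
    · intro h
      exact hne (by
        rw [eq_inv_of_mul_eq_one_left (h : e * zp (eqv i) = 1)]
        exact inv_mem (pow_mem (Subgroup.mem_zpowers z) _))
  · intro g hg
    have hcg : c g ≠ 0 := fun h => hg (by show Multiplicative.ofAdd (c g) = 1; rw [h]; rfl)
    let σ : Equiv.Perm (Fin p) := (Equiv.addRight (c g)).trans (Equiv.refl _) |> fun s =>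
      eqv.trans (s.trans eqv.symm)
    refine ⟨σ, ?_, fun i => ?_⟩
    · have hpw : ∀ (k : ℕ) (i : Fin p), eqv ((σ ^ k) i) = eqv i + (k : ZMod p) * c g := by
        intro k
        induction k with
        | zero => intro i; simp
        | succ k ih =>
          intro i
          rw [pow_succ', Equiv.Perm.mul_apply]
          simp only [σ, Equiv.trans_apply, Equiv.refl_apply, Equiv.coe_addRight,
            Equiv.apply_symm_apply]
          rw [ih, Nat.cast_succ]; ring
      refine orderOf_eq_prime (Equiv.ext fun i => eqv.injective ?_) fun h => hcg ?_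
      · rw [hpw, ZMod.natCast_self, zero_mul, add_zero]; rfl
      · have := hpw 1 (eqv.symm 0)
        rw [pow_one, h] at this
        simpa [eq_comm] using this
    · rw [hmap]
      congr 1
      simp [σ]

end Cfsg.Agent.S3380
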