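import Cfsg.Statements.S3381
-- import your own Cfsg.Agent.* helpers here

set_option autoImplicit false
open Cfsg

namespace Cfsg.Agent.S3381

/-- Let G be a finite group acting faithfully and linearly on a non-trivial finite vector space V over the field with q elements (q prime) so that every non-zero vector has a stabilizer of order 2, and suppose G has a central involution. Then V has q^(2r) elements for some r and G contains exactly q^r + 1 non-central involutions. -/
theorem result
    (q : ℕ) [Fact q.Prime] {V : Type*} [AddCommGroup V] [Module (ZMod q) V] [Finite V] [Nontrivial V]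
    {G : Type*} [Group G] [Finite G] (ρ : G →* (V ≃ₗ[ZMod q] V)) (hρ : Function.Injective ρ)
    (hstab : ∀ v : V, v ≠ 0 → Nat.card {g : G // ρ g v = v} = 2)
    (z : G) (hz : orderOf z = 2) (hzc : z ∈ Subgroup.center G) :
    ∃ r : ℕ, Nat.card V = q ^ (2 * r) ∧
      Nat.card {g : G // orderOf g = 2 ∧ g ∉ Subgroup.center G} = q ^ r + 1 := by
  classical
  have := Fintype.ofFinite V
  have := Fintype.ofFinite G
  have hz1 : z ≠ 1 := by intro h; rw [h, orderOf_one] at hz; exact absurd hz (by decide)
  have hz2 : z * z = 1 := by rw [← pow_two, ← hz, pow_orderOf_eq_one]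
  have hzz : ∀ v : V, ρ z (ρ z v) = v := fun v => by
    have h : (ρ z * ρ z) v = v := by rw [← map_mul, hz2, map_one]; rfl
    exact h
  have hcz : ∀ g : G, ∀ v : V, ρ g (ρ z v) = ρ z (ρ g v) := fun g v => by
    have h : (ρ g * ρ z) v = (ρ z * ρ g) v := by
      rw [← map_mul, ← map_mul, Subgroup.mem_center_iff.1 hzc g]
    exact h
  -- stabilisers
  have hstab' : ∀ v : V, v ≠ 0 → ∃! g : G, g ≠ 1 ∧ ρ g v = v := by
    intro v hv
    have hone : ρ (1 : G) v = v := by rw [map_one]; rfl
    obtain ⟨a, b, hab, huniv⟩ := Nat.card_eq_two_iff.1 (hstab v hv)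
    have hmem : ∀ g : {g : G // ρ g v = v}, g = a ∨ g = b := by
      intro g
      have : g ∈ ({a, b} : Set _) := huniv.symm ▸ Set.mem_univ g
      simpa using this
    rcases hmem ⟨1, hone⟩ with h | h
    · refine ⟨b, ⟨fun hb => hab (h.symm.trans (Subtype.ext hb.symm)), b.2⟩, ?_⟩
      rintro g ⟨hg1, hg⟩
      rcases hmem ⟨g, hg⟩ with h' | h'
      · exact absurd (congrArg Subtype.val (h'.trans h.symm)) hg1
      · exact congrArg Subtype.val h'
    · refine ⟨a, ⟨fun ha => hab ((Subtype.ext ha).trans h), a.2⟩, ?_⟩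
      rintro g ⟨hg1, hg⟩
      rcases hmem ⟨g, hg⟩ with h' | h'
      · exact congrArg Subtype.val h'
      · exact absurd (congrArg Subtype.val (h'.trans h.symm)) hg1
  -- the central involution has no nonzero fixed vector
  have hzfix : ∀ v : V, ρ z v = v → v = 0 := by
    by_contra hne
    push Not at hne
    obtain ⟨u, hu, hu0⟩ := hne
    obtain ⟨w, hw⟩ : ∃ w : V, ρ z w ≠ w := by
      by_contra h
      push Not at h
      refine hz1 (hρ ?_)
      rw [map_one]
      exact LinearEquiv.ext fun v => h v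
    have hw0 : w ≠ 0 := by intro h; exact hw (by rw [h, map_zero])
    obtain ⟨t, ⟨ht1, htw⟩, -⟩ := hstab' w hw0
    have htz : t ≠ z := fun h => hw (h ▸ htw)
    have htzw : ρ t (ρ z w) = ρ z w := by rw [hcz, htw]
    have hzsum : ρ z (w + ρ z w) = w + ρ z w := by rw [map_add, hzz, add_comm]
    by_cases hw' : w + ρ z w = 0
    · -- `z` inverts `w`, so nothing fixes `u + w`
      have hneg : ρ z w = -w := eq_neg_of_add_eq_zero_right hw'
      have huw : u + w ≠ 0 := by
        intro h
        have := congrArg (ρ z) h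
        rw [map_add, map_zero, hu, hneg, ← h] at this
        exact hw (hneg.trans (add_left_cancel this))
      obtain ⟨g, ⟨hg1, hg⟩, -⟩ := hstab' (u + w) huw
      have hg' : ρ g (u - w) = u - w := by
        have h := congrArg (ρ z) hg
        rw [← hcz, map_add (ρ z), hu, hneg, ← sub_eq_add_neg] at h
        exact h
      have h2u : ρ g (u + u) = u + u := by
        rw [show u + u = (u + w) + (u - w) by abel, map_add, hg, hg']
      have h2w : ρ g (w + w) = w + w := by
        rw [show w + w = (u + w) - (u - w) by abel, map_sub, hg, hg']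
      have hq2 : ((2 : ℕ) : ZMod q) ≠ 0 := by
        intro h
        have hww : w + w = 0 := by
          have : ((2 : ℕ) : ZMod q) • w = w + w := by rw [Nat.cast_smul_eq_nsmul, two_nsmul]
          rw [← this, h, zero_smul]
        exact hw (hneg.trans (eq_neg_of_add_eq_zero_left hww).symm)
      have half : ∀ x : V, ρ g (x + x) = x + x → ρ g x = x := by
        intro x hx
        have h1 : ((2 : ℕ) : ZMod q) • ρ g x = ((2 : ℕ) : ZMod q) • x := by
          rw [Nat.cast_smul_eq_nsmul, Nat.cast_smul_eq_nsmul, two_nsmul, two_nsmul, ← map_add, hx]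
        have := congrArg (((2 : ℕ) : ZMod q)⁻¹ • ·) h1
        simpa only [smul_smul, inv_mul_cancel₀ hq2, one_smul] using this
      obtain ⟨g', ⟨-, -⟩, huniq⟩ := hstab' u hu0
      obtain ⟨g'', ⟨-, -⟩, huniq'⟩ := hstab' w hw0
      have hgz : g = z := (huniq g ⟨hg1, half u h2u⟩).trans (huniq z ⟨hz1, hu⟩).symm
      exact hw (hgz ▸ half w h2w)
    · obtain ⟨g, -, huniq⟩ := hstab' _ hw'
      have h1 := huniq t ⟨ht1, by rw [map_add, htw, htzw]⟩
      have h2 := huniq z ⟨hz1, hzsum⟩
      exact htz (h1.trans h2.symm)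
  have hneg : ∀ v : V, ρ z v = -v := fun v => by
    have := hzfix (v + ρ z v) (by rw [map_add, hzz, add_comm])
    exact eq_neg_of_add_eq_zero_right this
  have hq2 : ((2 : ℕ) : ZMod q) ≠ 0 := by
    intro h
    obtain ⟨v, hv⟩ := exists_ne (0 : V)
    have hvv : v + v = 0 := by
      rw [← two_nsmul, ← Nat.cast_smul_eq_nsmul (ZMod q) 2 v, h, zero_smul]
    exact hv (hzfix v ((hneg v).trans (eq_neg_of_add_eq_zero_left hvv).symm))
  have half : ∀ x y : V, x + x = y + y → x = y := by
    intro x y h
    have h1 : ((2 : ℕ) : ZMod q) • x = ((2 : ℕ) : ZMod q) • y := by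
      rw [Nat.cast_smul_eq_nsmul, Nat.cast_smul_eq_nsmul, two_nsmul, two_nsmul, h]
    have := congrArg (((2 : ℕ) : ZMod q)⁻¹ • ·) h1
    simpa only [smul_smul, inv_mul_cancel₀ hq2, one_smul] using this
  set I : Finset G := Finset.univ.filter fun g => orderOf g = 2 ∧ g ∉ Subgroup.center G with hI
  have hIcard : Nat.card {g : G // orderOf g = 2 ∧ g ∉ Subgroup.center G} = I.card := by
    rw [Nat.card_eq_fintype_card, Fintype.card_subtype]
  -- central involutions equal `z`; involutions fix a vector unless they equal `z`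
  have hinv2 : ∀ g : G, orderOf g = 2 → ∀ v : V, ρ g (ρ g v) = v := by
    intro g hg v
    have h : (ρ g * ρ g) v = v := by
      rw [← map_mul, ← pow_two, ← hg, pow_orderOf_eq_one, map_one]; rfl
    exact h
  have hnofix : ∀ g : G, orderOf g = 2 → (∀ v : V, ρ g v = v → v = 0) → g = z := by
    intro g hg hg0
    refine hρ (LinearEquiv.ext fun v => ?_)
    rw [hneg]
    exact eq_neg_of_add_eq_zero_right (hg0 (v + ρ g v) (by rw [map_add, hinv2 g hg, add_comm]))
  have hord2 : ∀ v : V, v ≠ 0 → ∀ g : G, g ≠ 1 → ρ g v = v → orderOf g = 2 := by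
    intro v hv g hg hgv
    obtain ⟨g', -, huniq⟩ := hstab' v hv
    apply orderOf_eq_prime _ hg
    rw [pow_two]
    by_contra hne
    have h1 : ρ (g * g) v = v := by rw [map_mul, LinearEquiv.mul_apply, hgv, hgv]
    have := (huniq _ ⟨hne, h1⟩).trans (huniq g ⟨hg, hgv⟩).symm
    exact hg (mul_eq_right.1 this)
  have hmemI : ∀ g : G, orderOf g = 2 → (g ∈ I ↔ g ≠ z) := by
    intro g hg
    simp only [hI, Finset.mem_filter, Finset.mem_univ, true_and, hg]
    constructor
    · intro hgc h; exact hgc (h ▸ hzc)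
    · intro hgz hgc
      -- a central involution satisfies the hypotheses used for `z`
      obtain ⟨v, hv, hv0⟩ : ∃ v : V, ρ g v = v ∧ v ≠ 0 := by
        by_contra h
        push Not at h
        exact hgz (hnofix g hg h)
      have hg1 : g ≠ 1 := by intro h; rw [h, orderOf_one] at hg; exact absurd hg (by decide)
      obtain ⟨w, hw⟩ : ∃ w : V, ρ g w ≠ w := by
        by_contra h
        push Not at h
        refine hg1 (hρ ?_)
        rw [map_one]
        exact LinearEquiv.ext fun v => h v
      -- the stabiliser of `w` commutes with `g`, giving two elements fixing `v`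
      have hw0 : w ≠ 0 := by intro h; exact hw (by rw [h, map_zero])
      obtain ⟨t, ⟨ht1, htw⟩, -⟩ := hstab' w hw0
      have htc : ρ t (ρ g w) = ρ g w := by
        have h : (ρ t * ρ g) w = (ρ g * ρ t) w := by
          rw [← map_mul, ← map_mul, Subgroup.mem_center_iff.1 hgc t]
        rw [show ρ t (ρ g w) = ρ g (ρ t w) from h, htw]
      have hgt : g ≠ t := fun h => hw (h ▸ htw)
      by_cases hsum : w + ρ g w = 0
      · have hgw : ρ g w = -w := eq_neg_of_add_eq_zero_right hsum
        have hvw : v + w ≠ 0 := by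
          intro h
          have := congrArg (ρ g) h
          rw [map_add, map_zero, hv, hgw, ← h] at this
          exact hw (hgw.trans (add_left_cancel this))
        obtain ⟨s, ⟨hs1, hs⟩, -⟩ := hstab' (v + w) hvw
        have hs' : ρ s (v - w) = v - w := by
          have h : (ρ s * ρ g) (v + w) = (ρ g * ρ s) (v + w) := by
            rw [← map_mul, ← map_mul, Subgroup.mem_center_iff.1 hgc s]
          rw [LinearEquiv.mul_apply, LinearEquiv.mul_apply, hs, map_add, hv, hgw,
            ← sub_eq_add_neg] at h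
          exact h
        have hsv : ρ s v = v := half _ _ (by
          rw [← map_add, show v + v = (v + w) + (v - w) by abel, map_add, hs, hs'])
        have hsw : ρ s w = w := half _ _ (by
          rw [← map_add, show w + w = (v + w) - (v - w) by abel, map_sub, hs, hs'])
        obtain ⟨g', -, huniq⟩ := hstab' v hv0
        have hsg := (huniq s ⟨hs1, hsv⟩).trans (huniq g ⟨hg1, hv⟩).symm
        exact hw (hsg ▸ hsw)
      · obtain ⟨g', -, huniq⟩ := hstab' _ hsum
        exact hgt ((huniq g ⟨hg1, by rw [map_add, hinv2 g hg, add_comm]⟩).trans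
          (huniq t ⟨ht1, by rw [map_add, htw, htc]⟩).symm)
  -- fixed spaces
  let F : G → Submodule (ZMod q) V := fun g =>
    LinearMap.ker ((ρ g : V →ₗ[ZMod q] V) - LinearMap.id)
  have hFmem : ∀ g v, v ∈ F g ↔ ρ g v = v := fun g v => by
    simp [F, LinearMap.mem_ker, sub_eq_zero]
  let d : G → ℕ := fun g => Module.finrank (ZMod q) (F g)
  have : Module.Finite (ZMod q) V := Module.Finite.of_finite
  set n := Module.finrank (ZMod q) V with hn
  have hdisj : ∀ g h : G, g ≠ 1 → h ≠ 1 → g ≠ h → F g ⊓ F h = ⊥ := by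
    intro g h hg hh hne
    rw [Submodule.eq_bot_iff]
    intro v hv
    by_contra hv0
    obtain ⟨g', -, huniq⟩ := hstab' v hv0
    exact hne ((huniq g ⟨hg, (hFmem g v).1 hv.1⟩).trans (huniq h ⟨hh, (hFmem h v).1 hv.2⟩).symm)
  have hle : ∀ g h : G, g ≠ 1 → h ≠ 1 → g ≠ h → d g + d h ≤ n := by
    intro g h hg hh hne
    have := Submodule.finrank_sup_add_finrank_inf_eq (F g) (F h)
    rw [hdisj g h hg hh hne, finrank_bot, add_zero] at this
    exact this ▸ Submodule.finrank_le _
  have hne1 : ∀ g ∈ I, g ≠ 1 := by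
    intro g hg h
    have := (Finset.mem_filter.1 hg).2.1
    rw [h, orderOf_one] at this
    exact absurd this (by decide)
  have hcomp : ∀ g ∈ I, z * g ∈ I ∧ d g + d (z * g) = n ∧ z * g ≠ g := by
    intro g hg
    have hg2 := (Finset.mem_filter.1 hg).2.1
    have hgz : g ≠ z := (hmemI g hg2).1 hg
    have hzg2 : orderOf (z * g) = 2 := by
      apply orderOf_eq_prime
      · rw [pow_two]
        calc z * g * (z * g) = z * (g * z) * g := by group
          _ = z * (z * g) * g := by rw [Subgroup.mem_center_iff.1 hzc g]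
          _ = (z * z) * (g * g) := by group
          _ = 1 := by rw [hz2, one_mul, ← pow_two, ← hg2, pow_orderOf_eq_one]
      · intro h
        exact hgz (by rw [← one_mul g, ← hz2, mul_assoc, h, mul_one])
    have hzgne : z * g ≠ g := fun h => hz1 (mul_eq_right.1 h)
    have hzgz : z * g ≠ z := fun h => hne1 g hg (mul_eq_left.1 h)
    refine ⟨(hmemI _ hzg2).2 hzgz, ?_, hzgne⟩
    have hsup : F g ⊔ F (z * g) = ⊤ := by
      rw [eq_top_iff]
      intro v _
      have hinv := hinv2 g hg2
      set a := ((2 : ℕ) : ZMod q)⁻¹ with ha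
      have : v = a • (v + ρ g v) + a • (v - ρ g v) := by
        rw [← smul_add, show v + ρ g v + (v - ρ g v) = v + v by abel, ← two_nsmul,
          ← Nat.cast_smul_eq_nsmul (ZMod q), smul_smul, ha, inv_mul_cancel₀ hq2, one_smul]
      rw [this]
      refine Submodule.add_mem_sup (Submodule.smul_mem _ _ ?_) (Submodule.smul_mem _ _ ?_)
      · rw [hFmem, map_add, hinv, add_comm]
      · rw [hFmem, map_mul, LinearEquiv.mul_apply, map_sub (ρ g), hinv, hneg, neg_sub]
    have := Submodule.finrank_sup_add_finrank_inf_eq (F g) (F (z * g))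
    have h1 : z * g ≠ 1 := fun h => by rw [h, orderOf_one] at hzg2; exact absurd hzg2 (by decide)
    rw [hsup, hdisj g _ (hne1 g hg) h1 hzgne.symm, finrank_top, finrank_bot, add_zero] at this
    exact this.symm
  have hcover : ∀ v : V, v ≠ 0 → ∃! g : G, g ∈ I ∧ v ∈ F g := by
    intro v hv
    obtain ⟨g, ⟨hg1, hgv⟩, huniq⟩ := hstab' v hv
    have hg2 := hord2 v hv g hg1 hgv
    refine ⟨g, ⟨(hmemI g hg2).2 fun h => hv (hzfix v (h ▸ hgv)), (hFmem g v).2 hgv⟩, ?_⟩
    rintro h ⟨hh, hhv⟩
    exact huniq h ⟨hne1 h hh, (hFmem h v).1 hhv⟩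
  obtain ⟨v₀, hv₀⟩ := exists_ne (0 : V)
  obtain ⟨t₀, ⟨ht₀, hv₀t⟩, -⟩ := hcover v₀ hv₀
  have hpos : ∀ g ∈ I, 1 ≤ d g := by
    intro g hg
    have hg2 := (Finset.mem_filter.1 hg).2.1
    by_contra h
    have hbot : F g = ⊥ := Submodule.finrank_eq_zero.1 (by show d g = 0; omega)
    refine (hmemI g hg2).1 hg (hnofix g hg2 fun v hv => ?_)
    have : v ∈ F g := (hFmem g v).2 hv
    rwa [hbot, Submodule.mem_bot] at this
  -- all fixed spaces have dimension half of `n`
  have hhalf : ∀ g ∈ I, 2 * d g = n := by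
    intro g hg
    obtain ⟨hzg, hsum, hne⟩ := hcomp g hg
    by_contra hneq
    -- a vector outside both fixed spaces
    have hthird : ∃ u ∈ I, u ≠ g ∧ u ≠ z * g := by
      by_contra hno
      push Not at hno
      have hdis := hdisj g (z * g) (hne1 g hg) (hne1 _ hzg) hne.symm
      obtain ⟨a, ha, ha0⟩ : ∃ a ∈ F g, a ≠ 0 := Submodule.exists_mem_ne_zero_of_ne_bot
        (fun h => by have := hpos g hg; rw [show d g = 0 from Submodule.finrank_eq_zero.2 h] at this; omega)
      obtain ⟨b, hb, hb0⟩ : ∃ b ∈ F (z * g), b ≠ 0 := Submodule.exists_mem_ne_zero_of_ne_bot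
        (fun h => by have := hpos _ hzg; rw [show d (z * g) = 0 from Submodule.finrank_eq_zero.2 h] at this; omega)
      have hab : a + b ≠ 0 := by
        intro h
        refine hb0 ?_
        have : b ∈ F g ⊓ F (z * g) :=
          ⟨by rw [eq_neg_of_add_eq_zero_right h]; exact (F g).neg_mem ha, hb⟩
        rwa [hdis, Submodule.mem_bot] at this
      obtain ⟨u, ⟨hu, huab⟩, -⟩ := hcover (a + b) hab
      by_cases hug : u = g
      · subst hug
        have : b ∈ F u ⊓ F (z * u) := ⟨by simpa using (F u).sub_mem huab ha, hb⟩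
        rw [hdis, Submodule.mem_bot] at this
        exact hb0 this
      · rw [hno u hu hug] at huab
        have : a ∈ F g ⊓ F (z * g) := ⟨ha, by simpa using (F (z * g)).sub_mem huab hb⟩
        rw [hdis, Submodule.mem_bot] at this
        exact ha0 this
    obtain ⟨u, hu, hug, huzg⟩ := hthird
    obtain ⟨hzu, hsumu, -⟩ := hcomp u hu
    have h1 := hle g u (hne1 g hg) (hne1 u hu) hug.symm
    have h2 := hle g (z * u) (hne1 g hg) (hne1 _ hzu) (fun h => huzg (by rw [h, ← mul_assoc, hz2, one_mul]))
    have h3 := hle (z * g) u (hne1 _ hzg) (hne1 u hu) huzg.symm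
    have h4 := hle (z * g) (z * u) (hne1 _ hzg) (hne1 _ hzu) (fun h => hug (mul_left_cancel h).symm)
    omega
  refine ⟨d t₀, ?_, ?_⟩
  · rw [Module.natCard_eq_pow_finrank (K := ZMod q), Nat.card_zmod, hhalf t₀ ht₀]
  rw [hIcard]
  -- count the nonzero vectors
  have hcardF : ∀ g ∈ I, ((Finset.univ : Finset V).filter fun v => v ≠ 0 ∧ v ∈ F g).card = q ^ d t₀ - 1 := by
    intro g hg
    have h1 : (Finset.univ : Finset V).filter (fun v => v ≠ 0 ∧ v ∈ F g) =
        ((Finset.univ : Finset V).filter (· ∈ F g)).erase 0 := by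
      ext v; simp [and_comm]
    rw [h1, Finset.card_erase_of_mem (by simp), ← Fintype.card_subtype, ← Nat.card_eq_fintype_card]
    congr 1
    rw [show d t₀ = d g by have := hhalf t₀ ht₀; have := hhalf g hg; omega]
    rw [show Nat.card {x // x ∈ F g} = Nat.card (F g) from rfl,
      Module.natCard_eq_pow_finrank (K := ZMod q), Nat.card_zmod]
  have hpart : ((Finset.univ : Finset V).erase 0).card = I.card * (q ^ d t₀ - 1) := by
    have hsplit : (Finset.univ : Finset V).erase 0 =
        I.biUnion fun g => (Finset.univ : Finset V).filter fun v => v ≠ 0 ∧ v ∈ F g := by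
      ext v
      simp only [Finset.mem_erase, Finset.mem_univ, and_true, Finset.mem_biUnion, Finset.mem_filter,
        true_and]
      constructor
      · intro hv; obtain ⟨g, ⟨hg, hgv⟩, -⟩ := hcover v hv; exact ⟨g, hg, hv, hgv⟩
      · rintro ⟨g, -, hv, -⟩; exact hv
    rw [hsplit, Finset.card_biUnion, Finset.sum_congr rfl hcardF, Finset.sum_const, smul_eq_mul]
    intro g hg h hh hne
    rw [Function.onFun, Finset.disjoint_left]
    intro v hv hv'
    rw [Finset.mem_filter] at hv hv'
    obtain ⟨g', -, huniq⟩ := hcover v hv.2.1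
    exact hne ((huniq g ⟨hg, hv.2.2⟩).trans (huniq h ⟨hh, hv'.2.2⟩).symm)
  rw [Finset.card_erase_of_mem (Finset.mem_univ _), Finset.card_univ, ← Nat.card_eq_fintype_card,
    Module.natCard_eq_pow_finrank (K := ZMod q), Nat.card_zmod, ← hn, ← hhalf t₀ ht₀] at hpart
  have hQ : 2 ≤ q ^ d t₀ := by
    have h1 := hpos t₀ ht₀
    calc 2 ≤ q := (Fact.out : q.Prime).two_le
      _ = q ^ 1 := (pow_one q).symm
      _ ≤ q ^ d t₀ := Nat.pow_le_pow_right (Fact.out : q.Prime).pos h1
  rw [two_mul, pow_add] at hpart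
  obtain ⟨Q, hQ'⟩ : ∃ Q, q ^ d t₀ = Q + 1 := ⟨q ^ d t₀ - 1, by omega⟩
  rw [hQ'] at hpart hQ ⊢
  have hQQ : (Q + 1) * (Q + 1) - 1 = (Q + 2) * Q := by
    have : (Q + 1) * (Q + 1) = (Q + 2) * Q + 1 := by ring
    omega
  rw [hQQ, Nat.add_sub_cancel] at hpart
  have := Nat.eq_of_mul_eq_mul_right (by omega) hpart
  omega

end Cfsg.Agent.S3381
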