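import Cfsg.Statements.S3382
-- import your own Cfsg.Agent.* helpers here

set_option autoImplicit false
open Cfsg

namespace Cfsg.Agent.S3382

theorem units3 : ∀ a : (ZMod 3)ˣ, a = 1 ∨ a = -1 := by decide

abbrev Lin (q : ℕ) := (Fin 2 → ZMod q) ≃ₗ[ZMod q] (Fin 2 → ZMod q)

/-- `v ↦ (a v₀, b v₁)`. -/
def dia {q : ℕ} (a b : (ZMod q)ˣ) : Lin q where
  toFun v := ![(a : ZMod q) * v 0, (b : ZMod q) * v 1]
  map_add' v w := by ext i; fin_cases i <;> simp [mul_add]
  map_smul' c v := by ext i; fin_cases i <;> simp [mul_left_comm]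
  invFun v := ![((a⁻¹ : (ZMod q)ˣ) : ZMod q) * v 0, ((b⁻¹ : (ZMod q)ˣ) : ZMod q) * v 1]
  left_inv v := by ext i; fin_cases i <;> simp
  right_inv v := by ext i; fin_cases i <;> simp

/-- `v ↦ (a v₁, b v₀)`. -/
def ant {q : ℕ} (a b : (ZMod q)ˣ) : Lin q where
  toFun v := ![(a : ZMod q) * v 1, (b : ZMod q) * v 0]
  map_add' v w := by ext i; fin_cases i <;> simp [mul_add]
  map_smul' c v := by ext i; fin_cases i <;> simp [mul_left_comm]
  invFun v := ![((b⁻¹ : (ZMod q)ˣ) : ZMod q) * v 1, ((a⁻¹ : (ZMod q)ˣ) : ZMod q) * v 0]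
  left_inv v := by ext i; fin_cases i <;> simp
  right_inv v := by ext i; fin_cases i <;> simp

theorem dia_apply {q : ℕ} (a b : (ZMod q)ˣ) (v : Fin 2 → ZMod q) :
    dia a b v = ![(a : ZMod q) * v 0, (b : ZMod q) * v 1] := rfl

theorem ant_apply {q : ℕ} (a b : (ZMod q)ˣ) (v : Fin 2 → ZMod q) :
    ant a b v = ![(a : ZMod q) * v 1, (b : ZMod q) * v 0] := rfl

theorem lin_ext {q : ℕ} {f g : Lin q} (h : ∀ v, f v = g v) : f = g := LinearEquiv.ext h

theorem dia_mul {q : ℕ} (a b c d : (ZMod q)ˣ) : dia a b * dia c d = dia (a * c) (b * d) :=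
  lin_ext fun v => by
    show dia a b (dia c d v) = _
    ext i; fin_cases i <;> simp [dia_apply, mul_assoc]

theorem ant_mul {q : ℕ} (a b c d : (ZMod q)ˣ) : ant a b * ant c d = dia (a * d) (b * c) :=
  lin_ext fun v => by
    show ant a b (ant c d v) = _
    ext i; fin_cases i <;> simp [ant_apply, dia_apply, mul_assoc]

theorem dia_mul_ant {q : ℕ} (a b c d : (ZMod q)ˣ) : dia a b * ant c d = ant (a * c) (b * d) :=
  lin_ext fun v => by
    show dia a b (ant c d v) = _
    ext i; fin_cases i <;> simp [ant_apply, dia_apply, mul_assoc]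

theorem dia_one {q : ℕ} : dia (q := q) 1 1 = 1 :=
  lin_ext fun v => by ext i; fin_cases i <;> simp [dia_apply]

theorem dia_pow {q : ℕ} (a b : (ZMod q)ˣ) (n : ℕ) : dia a b ^ n = dia (a ^ n) (b ^ n) := by
  induction n with
  | zero => simp [dia_one]
  | succ n ih => rw [pow_succ, ih, dia_mul, pow_succ, pow_succ]

theorem dia_inj {q : ℕ} {a b c d : (ZMod q)ˣ} (h : dia a b = dia c d) : a = c ∧ b = d := by
  constructor
  · exact Units.ext (by simpa [dia_apply] using congrFun (congrArg (fun f : Lin q => f ![1, 1]) h) 0)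
  · exact Units.ext (by simpa [dia_apply] using congrFun (congrArg (fun f : Lin q => f ![1, 1]) h) 1)

/-- An automorphism of odd order fixes what it moves by a fixed `2`-element. -/
theorem fixed_of_mul_fixed {T : Type*} [Group T] (α : MulAut T) (r : ℕ) (hr : Odd r)
    (hαr : α ^ r = 1) (k : ℕ) (g n : T) (hn : n ^ 2 ^ k = 1) (hnfix : α n = n) (hg : α g = g * n) :
    α g = g := by
  have hpow : ∀ j : ℕ, (α ^ j) g = g * n ^ j := by
    intro j
    induction j with
    | zero => simp
    | succ j ih => rw [pow_succ', MulAut.mul_apply, ih, map_mul, map_pow, hnfix, hg, pow_succ',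
        mul_assoc]
  have h := hpow r
  rw [hαr, MulAut.one_apply, left_eq_mul] at h
  have h1 : orderOf n ∣ Nat.gcd r (2 ^ k) :=
    Nat.dvd_gcd (orderOf_dvd_of_pow_eq_one h) (orderOf_dvd_of_pow_eq_one hn)
  rw [show Nat.gcd r (2 ^ k) = 1 from Nat.Coprime.pow_right k (Nat.coprime_two_right.2 hr),
    Nat.dvd_one, orderOf_eq_one_iff] at h1
  rw [hg, h1, mul_one]

/-- Let q = 2^m + 1 be a prime other than 5. Then the automorphism group of the group of linear maps of F_q² of the forms (x, y) ↦ (a x, ± a⁻¹ y) and (x, y) ↦ (± a⁻¹ y, a x) with a ≠ 0 is itself a 2-group. -/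
theorem result (q m : ℕ) [Fact q.Prime] (hq : q = 2 ^ m + 1) (hq5 : q ≠ 5)
    (T : Subgroup ((Fin 2 → ZMod q) ≃ₗ[ZMod q] (Fin 2 → ZMod q)))
    (hT : ∀ f, f ∈ T ↔ ∃ a s : ZMod q, a ≠ 0 ∧ (s = 1 ∨ s = -1) ∧
      ((∀ v, f v = ![a * v 0, s * a⁻¹ * v 1]) ∨ (∀ v, f v = ![s * a⁻¹ * v 1, a * v 0]))) :
    IsPGroup 2 (MulAut T) := by
  classical
  have hqp := (Fact.out : q.Prime)
  -- description of the elements
  have hmem : ∀ f : Lin q, f ∈ T ↔ ∃ a b : (ZMod q)ˣ, (a * b = 1 ∨ a * b = -1) ∧ (f = dia a b ∨ f = ant a b) := by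
    intro f
    rw [hT]
    constructor
    · rintro ⟨a, s, ha, hs, h⟩
      have hs0 : s ≠ 0 := by rcases hs with rfl | rfl <;> simp
      have hs2 : s * a⁻¹ ≠ 0 := mul_ne_zero hs0 (inv_ne_zero ha)
      rcases h with h | h
      · refine ⟨Units.mk0 a ha, Units.mk0 _ hs2, ?_, Or.inl (lin_ext fun v => by
          rw [h]; ext i; fin_cases i <;> simp [dia_apply])⟩
        rcases hs with rfl | rfl
        · left; ext; simp [ha]
        · right; ext; simp [ha]
      · refine ⟨Units.mk0 _ hs2, Units.mk0 a ha, ?_, Or.inr (lin_ext fun v => by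
          rw [h]; ext i; fin_cases i <;> simp [ant_apply])⟩
        rcases hs with rfl | rfl
        · left; ext; simp [ha]
        · right; ext; simp [ha]
    · rintro ⟨a, b, hab, rfl | rfl⟩
      · refine ⟨(a : ZMod q), (a : ZMod q) * b, a.ne_zero, ?_, Or.inl fun v => ?_⟩
        · rcases hab with h | h
          · left; rw [← Units.val_mul, h]; rfl
          · right; rw [← Units.val_mul, h]; simp
        · rw [dia_apply, mul_comm (a : ZMod q) b, mul_inv_cancel_right₀ a.ne_zero]
      · refine ⟨(b : ZMod q), (a : ZMod q) * b, b.ne_zero, ?_, Or.inr fun v => ?_⟩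
        · rcases hab with h | h
          · left; rw [← Units.val_mul, h]; rfl
          · right; rw [← Units.val_mul, h]; simp
        · rw [ant_apply, mul_inv_cancel_right₀ b.ne_zero]
  have : Finite T := Finite.of_injective (fun f : T => fun v => (f : Lin q) v)
    (fun f g h => Subtype.ext (lin_ext (congrFun h)))
  have : Finite (MulAut T) := Finite.of_injective (fun α : MulAut T => (α : T → T))
    (fun a b h => MulEquiv.ext (congrFun h))
  apply IsPGroup.of_card (n := (Nat.card (MulAut T)).primeFactorsList.length)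
  by_contra hne
  obtain ⟨r, hr, hrd, hr2⟩ : ∃ r, r.Prime ∧ r ∣ Nat.card (MulAut T) ∧ r ≠ 2 := by
    by_contra h
    push Not at h
    exact hne (Nat.eq_prime_pow_of_unique_prime_dvd Nat.card_pos.ne' fun {d} hd hdvd => h d hd hdvd)
  have := Fact.mk hr
  obtain ⟨α, hα⟩ := exists_prime_orderOf_dvd_card' r hrd
  have hαr : α ^ r = 1 := hα ▸ pow_orderOf_eq_one α
  have hrodd := hr.odd_of_ne_two hr2
  have hα1 : α ≠ 1 := fun h => by rw [h, orderOf_one] at hα; exact hr.one_lt.ne hα
  apply hα1
  have hu : Nat.card (ZMod q)ˣ = 2 ^ m := by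
    rw [Nat.card_eq_fintype_card, ZMod.card_units, hq, Nat.add_sub_cancel]
  have hm2 : ∀ a : (ZMod q)ˣ, a ^ 2 ^ m = 1 := fun a => hu ▸ pow_card_eq_one'
  have hw : ∀ a b : (ZMod q)ˣ, (a * b = 1 ∨ a * b = -1) → dia a b ∈ T ∧ ant a b ∈ T := fun a b h =>
    ⟨(hmem _).2 ⟨a, b, h, Or.inl rfl⟩, (hmem _).2 ⟨a, b, h, Or.inr rfl⟩⟩
  have hpowD : ∀ (t : T) (a b : (ZMod q)ˣ), (t : Lin q) = dia a b → t ^ 2 ^ m = 1 := fun t a b h =>
    Subtype.ext (by rw [Subgroup.coe_pow, h, dia_pow, hm2, hm2, dia_one]; rfl)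
  suffices key : ∃ P : T → Prop, (∀ t, P t → α t = t) ∧ ∀ t : T, ∃ c : T, (α t = t * c ∧ P c ∧ c ^ 2 ^ (m + 2) = 1) by
    obtain ⟨P, hPfix, hP⟩ := key
    apply MulEquiv.ext
    intro t
    obtain ⟨c, hc, hPc, hc2⟩ := hP t
    exact fixed_of_mul_fixed α r hrodd hαr (m + 2) t c hc2 (hPfix c hPc) hc
  by_cases hm3 : m ≤ 2
  · interval_cases m
    · -- `q = 2`: one nontrivial element
      norm_num at hq
      subst hq
      refine ⟨fun t => t = 1, fun t ht => ht ▸ map_one α, fun t => ⟨1, ?_, rfl, one_pow _⟩⟩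
      rw [mul_one]
      have hu1 : ∀ a : (ZMod 2)ˣ, a = 1 := fun a => by simpa using hm2 a
      have hcases : ∀ s : T, s ≠ 1 → (s : Lin 2) = ant 1 1 := by
        intro s hs
        obtain ⟨a, b, -, h | h⟩ := (hmem _).1 s.2
        · exact absurd (Subtype.ext (by rw [h, hu1 a, hu1 b, dia_one]; rfl)) hs
        · rw [h, hu1 a, hu1 b]
      by_cases ht : t = 1
      · rw [ht, map_one]
      · exact Subtype.ext ((hcases _ (fun h => ht (α.map_eq_one_iff.1 h))).trans (hcases t ht).symm)
    · -- `q = 3`: dihedral of order eight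
      norm_num at hq
      subst hq
      have hu1 := units3
      have hc1 : (1 : (ZMod 3)ˣ) * -1 = 1 ∨ (1 : (ZMod 3)ˣ) * -1 = -1 := Or.inr (one_mul _)
      let c : T := ⟨ant 1 (-1), (hw 1 (-1) hc1).2⟩
      have hc2 : (c * c : T).1 = dia (-1) (-1) := by
        show ant 1 (-1) * ant 1 (-1) = _
        rw [ant_mul, one_mul, mul_one]
      have hord4 : ∀ t : T, t * t ≠ 1 → (t : Lin 3) = ant 1 (-1) ∨ (t : Lin 3) = ant (-1) 1 := by
        intro t ht
        obtain ⟨a, b, -, h | h⟩ := (hmem _).1 t.2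
        · exfalso; apply ht; apply Subtype.ext
          rw [Subgroup.coe_mul, h, dia_mul]
          rcases hu1 a with rfl | rfl <;> rcases hu1 b with rfl | rfl <;> simp [dia_one]
        · rcases hu1 a with rfl | rfl <;> rcases hu1 b with rfl | rfl
          · exfalso; apply ht; apply Subtype.ext; rw [Subgroup.coe_mul, h, ant_mul]; simp [dia_one]
          · exact Or.inl h
          · exact Or.inr h
          · exfalso; apply ht; apply Subtype.ext; rw [Subgroup.coe_mul, h, ant_mul]; simp [dia_one]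
      have hcc : c * c ≠ 1 := fun h => by
        have h' := congrArg Subtype.val h
        rw [hc2, Subgroup.coe_one, ← dia_one] at h'
        exact absurd (dia_inj h').1 (by decide)
      have hc4 : c ^ 4 = 1 := by
        rw [pow_succ, pow_succ, pow_two, mul_assoc (c * c) c c]
        apply Subtype.ext
        rw [Subgroup.coe_mul, hc2, dia_mul, Subgroup.coe_one, ← dia_one]
        simp
      have hcinv : ((c * (c * c) : T) : Lin 3) = ant (-1) 1 := by
        rw [Subgroup.coe_mul, hc2]
        show ant 1 (-1) * dia (-1) (-1) = _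
        exact lin_ext fun v => by
          show ant 1 (-1) (dia (-1) (-1) v) = _
          ext i; fin_cases i <;> simp [ant_apply, dia_apply]
      have hαc : α c = c ∨ α c = c * (c * c) := by
        rcases hord4 (α c) (fun h => hcc (by rwa [← map_mul, α.map_eq_one_iff] at h)) with h | h
        · exact Or.inl (Subtype.ext h)
        · exact Or.inr (Subtype.ext (h.trans hcinv.symm))
      have hcfix : α c = c := by
        rcases hαc with h | h
        · exact h
        · refine fixed_of_mul_fixed α r hrodd hαr 1 c (c * c) ?_ ?_ h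
          · rw [show (c * c) ^ 2 ^ 1 = c ^ 4 by simp only [pow_succ, pow_zero, one_mul, mul_assoc], hc4]
          · rw [map_mul, h]
            calc c * (c * c) * (c * (c * c)) = c ^ 4 * (c * c) := by simp only [pow_succ, pow_zero, one_mul, mul_assoc]
              _ = c * c := by rw [hc4, one_mul]
      refine ⟨fun t => ∃ i : ℕ, t = c ^ i, fun t ⟨i, hi⟩ => by rw [hi, map_pow, hcfix], fun t => ?_⟩
      -- every element is a power of `c`, possibly times a fixed representative
      have hcl : ∀ s : T, (∃ i : ℕ, s = c ^ i) ∨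
          ∃ i : ℕ, s = ⟨dia 1 (-1), (hw 1 (-1) hc1).1⟩ * c ^ i := by
        intro s
        obtain ⟨a, b, -, h | h⟩ := (hmem _).1 s.2
        · by_cases hab : a = b
          · left
            rcases hu1 a with ha | ha
            · exact ⟨0, Subtype.ext (by rw [h, ← hab, ha, pow_zero, dia_one]; rfl)⟩
            · exact ⟨2, Subtype.ext (by rw [h, ← hab, ha, pow_two, hc2])⟩
          · right
            rcases hu1 a with rfl | rfl <;> rcases hu1 b with rfl | rfl <;> try exact absurd rfl hab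
            · exact ⟨0, Subtype.ext (by rw [h, pow_zero, mul_one])⟩
            · exact ⟨2, Subtype.ext (by rw [h, Subgroup.coe_mul, pow_two, hc2, dia_mul]; simp)⟩
        · by_cases hab : a = b
          · right
            rcases hu1 a with ha | ha
            · exact ⟨1, Subtype.ext (by
                rw [h, ← hab, ha, Subgroup.coe_mul, pow_one]
                show _ = dia 1 (-1) * ant 1 (-1)
                rw [dia_mul_ant]; simp)⟩
            · exact ⟨3, Subtype.ext (by
                rw [h, ← hab, ha, Subgroup.coe_mul, pow_succ', pow_two, hcinv]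
                show _ = dia 1 (-1) * ant (-1) 1
                rw [dia_mul_ant]; simp)⟩
          · left
            rcases hu1 a with rfl | rfl <;> rcases hu1 b with rfl | rfl <;> try exact absurd rfl hab
            · exact ⟨1, Subtype.ext (by rw [h, pow_one])⟩
            · exact ⟨3, Subtype.ext (by rw [h, pow_succ', pow_two, hcinv])⟩
      rcases hcl t with ⟨i, hi⟩ | ⟨i, hi⟩
      · exact ⟨1, by rw [hi, map_pow, hcfix, mul_one], ⟨0, (pow_zero c).symm⟩, one_pow _⟩
      · rcases hcl (α t) with ⟨j, hj⟩ | ⟨j, hj⟩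
        · exfalso
          have h2 : α t = α (c ^ j) := by rw [hj, map_pow, hcfix]
          have h3 : (⟨dia 1 (-1), (hw 1 (-1) hc1).1⟩ : T) * c ^ i = c ^ j := by rw [← hi]; exact α.injective h2
          have h4 := congrArg (fun x : T => Commute x c) h3
          have h5 : Commute (⟨dia 1 (-1), (hw 1 (-1) hc1).1⟩ : T) c := by
            have := (h4.mpr ((Commute.refl c).pow_left j)).mul_left ((Commute.refl c).pow_left i).inv_left
            rwa [mul_inv_cancel_right] at this
          have h6 : dia 1 (-1) * ant 1 (-1) = ant 1 (-1) * dia (q := 3) 1 (-1) :=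
            congrArg Subtype.val h5.eq
          rw [dia_mul_ant] at h6
          have h7 := congrFun (congrArg (fun f : Lin 3 => f ![1, 0]) h6) 1
          simp [ant_apply, dia_apply] at h7
          exact absurd h7 (by decide)
        · have hc8 : ∀ l : ℕ, (c ^ l) ^ 2 ^ (1 + 2) = 1 := fun l => by
            rw [← pow_mul, show l * 2 ^ (1 + 2) = 4 * (l * 2) by ring, pow_mul, hc4, one_pow]
          have hinv : (c ^ i)⁻¹ = c ^ (3 * i) := by
            rw [inv_eq_iff_mul_eq_one, ← pow_add, show i + 3 * i = 4 * i by ring, pow_mul, hc4, one_pow]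
          refine ⟨c ^ (3 * i + j), ?_, ⟨_, rfl⟩, hc8 _⟩
          rw [hj, hi, pow_add, ← hinv, mul_assoc, mul_inv_cancel_left]
    · exact absurd (by norm_num at hq; exact hq) hq5
  -- `m ≥ 3`
  have hq17 : 9 ≤ q := by
    have : 2 ^ 3 ≤ 2 ^ m := Nat.pow_le_pow_right (by norm_num) (by omega)
    omega
  let D : T → Prop := fun t => ∃ a b : (ZMod q)ˣ, (t : Lin q) = dia a b
  have hDmul : ∀ s t, D s → D t → D (s * t) := by
    rintro s t ⟨a, b, hs⟩ ⟨c, d, ht⟩
    exact ⟨a * c, b * d, by rw [Subgroup.coe_mul, hs, ht, dia_mul]⟩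
  have hnotD : ∀ t, ¬ D t → t ^ 4 = 1 := by
    intro t ht
    obtain ⟨a, b, hab, h | h⟩ := (hmem _).1 t.2
    · exact absurd ⟨a, b, h⟩ ht
    · apply Subtype.ext
      rw [Subgroup.coe_pow, h, show (4 : ℕ) = 2 * 2 by rfl, pow_mul, pow_two (ant a b), ant_mul, dia_pow,
        mul_comm b a, Subgroup.coe_one, ← dia_one]
      rcases hab with h' | h' <;> rw [h'] <;> simp
  -- a unit of order `2 ^ m`
  obtain ⟨g, hg⟩ : ∃ g : (ZMod q)ˣ, orderOf g = 2 ^ m := by
    obtain ⟨g, hg⟩ := IsCyclic.exists_ofOrder_eq_natCard (α := (ZMod q)ˣ)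
    exact ⟨g, hg.trans hu⟩
  have hbig : ∀ a : (ZMod q)ˣ, orderOf a = 2 ^ m → a ^ 4 ≠ 1 := by
    intro a ha h
    have := Nat.le_of_dvd (by norm_num) (orderOf_dvd_of_pow_eq_one h)
    have : 2 ^ 3 ≤ 2 ^ m := Nat.pow_le_pow_right (by norm_num) (by omega)
    omega
  let x : T := ⟨dia g g⁻¹, (hw g g⁻¹ (Or.inl (mul_inv_cancel g))).1⟩
  let z : T := ⟨dia 1 (-1), (hw 1 (-1) (Or.inr (one_mul _))).1⟩
  have hαD : ∀ t, D t → D (α t) := by
    -- elements of order above four lie in `D` and generate it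
    have hx4 : x ^ 4 ≠ 1 := fun h => by
      have h' := congrArg Subtype.val h
      rw [Subgroup.coe_pow, dia_pow, Subgroup.coe_one, ← dia_one] at h'
      exact hbig g hg (dia_inj h').1
    have hxz4 : (x * z) ^ 4 ≠ 1 := fun h => by
      have h' := congrArg Subtype.val h
      rw [Subgroup.coe_pow, Subgroup.coe_mul, dia_mul, dia_pow, Subgroup.coe_one, ← dia_one, mul_one] at h'
      exact hbig g hg (dia_inj h').1
    have hxD : D (α x) := by
      by_contra h
      exact hx4 (α.map_eq_one_iff.1 (by rw [map_pow]; exact hnotD _ h))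
    have hxzD : D (α (x * z)) := by
      by_contra h
      exact hxz4 (α.map_eq_one_iff.1 (by rw [map_pow]; exact hnotD _ h))
    have hpowD' : ∀ n : ℕ, D (α (x ^ n)) := by
      intro n
      induction n with
      | zero => exact ⟨1, 1, by rw [pow_zero, map_one, dia_one]; rfl⟩
      | succ n ih => rw [pow_succ, map_mul]; exact hDmul _ _ ih hxD
    have hzD : D (α z) := by
      have h1 : z = x ^ (2 ^ m - 1) * (x * z) := by
        rw [← mul_assoc, ← pow_succ, Nat.sub_add_cancel Nat.one_le_two_pow, hpowD x g g⁻¹ rfl, one_mul]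
      rw [h1, map_mul]
      exact hDmul _ _ (hpowD' _) hxzD
    rintro t ⟨a, b, ht⟩
    obtain ⟨n, rfl⟩ : ∃ n : ℕ, g ^ n = a := by
      have hgen : Subgroup.zpowers g = ⊤ := Subgroup.eq_top_of_card_eq _ (by rw [Nat.card_zpowers, hg, hu])
      have ha : a ∈ Subgroup.zpowers g := hgen ▸ Subgroup.mem_top a
      exact (Submonoid.mem_powers_iff _ _).1 (mem_powers_iff_mem_zpowers.2 ha)
    obtain ⟨a', b', hab, h | h⟩ := (hmem _).1 t.2
    · rw [ht] at h
      obtain ⟨rfl, rfl⟩ := dia_inj h
      rcases hab with h1 | h1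
      · have : t = x ^ n := Subtype.ext (by
          rw [ht, Subgroup.coe_pow, dia_pow, inv_pow, eq_inv_of_mul_eq_one_right h1])
        rw [this]; exact hpowD' n
      · have hb : b = (g⁻¹) ^ n * -1 := by rw [inv_pow, ← h1, inv_mul_cancel_left]
        have : t = x ^ n * z := Subtype.ext (by
          rw [ht, Subgroup.coe_mul, Subgroup.coe_pow, dia_pow, dia_mul, mul_one, hb])
        rw [this, map_mul]
        exact hDmul _ _ (hpowD' n) hzD
    · exfalso
      rw [ht] at h
      have := congrFun (congrArg (fun f : Lin q => f ![1, 0]) h) 0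
      simp [dia_apply, ant_apply] at this
  -- the four involutions of `D`
  have hsq : ∀ u : (ZMod q)ˣ, u ^ 2 = 1 → u = 1 ∨ u = -1 := by
    intro u hu2
    have h : (u : ZMod q) * u = 1 := by rw [← Units.val_mul, ← pow_two, hu2]; rfl
    rcases mul_self_eq_one_iff.1 h with h | h
    · exact Or.inl (Units.ext h)
    · exact Or.inr (Units.ext (by rw [h]; simp))
  have hpm : (-1 : (ZMod q)ˣ) * -1 = 1 ∨ (-1 : (ZMod q)ˣ) * -1 = -1 := Or.inl (by simp)
  let n1 : T := ⟨dia (-1) (-1), (hw (-1) (-1) hpm).1⟩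
  have hne1 : (-1 : (ZMod q)ˣ) ≠ 1 := by
    intro h
    have h' : (-1 : ZMod q) = 1 := by simpa using congrArg Units.val h
    have h2 : ((2 : ℕ) : ZMod q) = 0 := by push_cast; linear_combination -h'
    have := Nat.le_of_dvd (by norm_num) ((ZMod.natCast_eq_zero_iff _ _).1 h2)
    omega
  have hn1sq : x ^ 2 ^ (m - 1) = n1 := by
    apply Subtype.ext
    rw [Subgroup.coe_pow, dia_pow]
    have h2 : g ^ 2 ^ (m - 1) = -1 := by
      rcases hsq (g ^ 2 ^ (m - 1)) (by rw [← pow_mul, ← pow_succ, Nat.sub_add_cancel (by omega), hm2]) with h | h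
      · exfalso
        have := Nat.le_of_dvd (pow_pos (by norm_num) _) (orderOf_dvd_of_pow_eq_one h)
        have h' : 2 ^ (m - 1) < 2 ^ m := Nat.pow_lt_pow_right (by norm_num) (by omega)
        omega
      · exact h
    rw [inv_pow, h2]
    simp
    rfl
  have hn1 : α n1 = n1 := by
    obtain ⟨a, b, hab⟩ := hαD x ⟨g, g⁻¹, rfl⟩
    have hab' : a * b = 1 ∨ a * b = -1 := by
      obtain ⟨a', b', h', h | h⟩ := (hmem _).1 (α x).2
      · rw [hab] at h; obtain ⟨rfl, rfl⟩ := dia_inj h; exact h'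
      · exfalso
        rw [hab] at h
        have := congrFun (congrArg (fun f : Lin q => f ![1, 0]) h) 0
        simp [dia_apply, ant_apply] at this
    have h1 : (α n1 : T).1 = dia (a ^ 2 ^ (m - 1)) (b ^ 2 ^ (m - 1)) := by
      rw [← hn1sq, map_pow, Subgroup.coe_pow, hab, dia_pow]
    have hab2 : a ^ 2 ^ (m - 1) * b ^ 2 ^ (m - 1) = 1 := by
      rw [← mul_pow]
      rcases hab' with h | h <;> rw [h]
      · exact one_pow _
      · exact Even.neg_one_pow (Nat.even_pow.2 ⟨even_two, by omega⟩)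
    rcases hsq (a ^ 2 ^ (m - 1)) (by rw [← pow_mul, ← pow_succ, Nat.sub_add_cancel (by omega), hm2]) with h | h
    · exfalso
      rw [h, one_mul] at hab2
      rw [h, hab2, dia_one] at h1
      have : n1 = 1 := α.map_eq_one_iff.1 (Subtype.ext h1)
      have := congrArg Subtype.val this
      rw [Subgroup.coe_one, ← dia_one] at this
      exact hne1 (dia_inj this).1
    · have hb : b ^ 2 ^ (m - 1) = -1 := by
        rw [h, neg_one_mul, neg_eq_iff_eq_neg] at hab2
        exact hab2
      exact Subtype.ext (by rw [h1, h, hb])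
  have hn12 : n1 ^ 2 ^ 1 = 1 := Subtype.ext (by
    rw [Subgroup.coe_pow, dia_pow, Subgroup.coe_one, ← dia_one]; simp)
  have hOmega : ∀ t, D t → t ^ 2 = 1 → α t = t := by
    intro t htD ht
    have hform : ∀ s, D s → s ^ 2 = 1 → s = 1 ∨ s = n1 ∨ s = z ∨ s = z * n1 := by
      rintro s ⟨a, b, hs⟩ hs2
      have h := congrArg Subtype.val hs2
      rw [Subgroup.coe_pow, hs, dia_pow, Subgroup.coe_one, ← dia_one] at h
      obtain ⟨ha, hb⟩ := dia_inj h
      rcases hsq a ha with rfl | rfl <;> rcases hsq b hb with rfl | rfl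
      · left; exact Subtype.ext (by rw [hs, dia_one]; rfl)
      · right; right; left; exact Subtype.ext hs
      · right; right; right
        exact Subtype.ext (by rw [hs, Subgroup.coe_mul, dia_mul]; simp)
      · right; left; exact Subtype.ext hs
    have hz : α z = z := by
      have hzD : D z := ⟨1, -1, rfl⟩
      have hz2 : z ^ 2 = 1 := Subtype.ext (by
        rw [Subgroup.coe_pow, dia_pow, Subgroup.coe_one, ← dia_one]; simp)
      rcases hform _ (hαD z hzD) (by rw [← map_pow, hz2, map_one]) with h | h | h | h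
      · exfalso
        have := congrArg Subtype.val (α.map_eq_one_iff.1 h)
        rw [Subgroup.coe_one, ← dia_one] at this
        exact hne1 (dia_inj this).2
      · exfalso
        have := congrArg Subtype.val (α.injective (h.trans hn1.symm))
        exact hne1 (dia_inj this).1.symm
      · exact h
      · exact fixed_of_mul_fixed α r hrodd hαr 1 z n1 hn12 hn1 h
    rcases hform t htD ht with rfl | rfl | rfl | rfl
    · exact map_one α
    · exact hn1
    · exact hz
    · rw [map_mul, hz, hn1]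
  have hfixD : ∀ j : ℕ, ∀ t, D t → t ^ 2 ^ j = 1 → α t = t := by
    intro j
    induction j with
    | zero => intro t _ ht; rw [pow_zero, pow_one] at ht; rw [ht, map_one]
    | succ j ih =>
      intro t htD ht
      have h2 : α (t ^ 2) = t ^ 2 := ih _ (by rw [pow_two]; exact hDmul _ _ htD htD)
        (by rw [← pow_mul, ← pow_succ', ht])
      obtain ⟨a, b, hab⟩ := htD
      obtain ⟨c, d, hcd⟩ := hαD t ⟨a, b, hab⟩
      have hn : (t⁻¹ * α t : T).1 = dia (a⁻¹ * c) (b⁻¹ * d) := by
        rw [Subgroup.coe_mul, Subgroup.coe_inv, hab, hcd, inv_mul_eq_iff_eq_mul, dia_mul]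
        simp
      have hn2 : (t⁻¹ * α t) ^ 2 = 1 := by
        apply Subtype.ext
        rw [Subgroup.coe_pow, hn, dia_pow, Subgroup.coe_one, ← dia_one, mul_pow, mul_pow]
        have := congrArg Subtype.val h2
        rw [map_pow, Subgroup.coe_pow, Subgroup.coe_pow, hcd, hab, dia_pow, dia_pow] at this
        obtain ⟨h1, h1'⟩ := dia_inj this
        rw [h1, h1', inv_pow, inv_pow, inv_mul_cancel, inv_mul_cancel]
      exact fixed_of_mul_fixed α r hrodd hαr 1 t _ (by simpa using hn2)
        (hOmega _ ⟨_, _, hn⟩ hn2) (mul_inv_cancel_left t (α t)).symm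
  have hfix : ∀ t, D t → α t = t := by
    rintro t ⟨a, b, h⟩
    exact hfixD m t ⟨a, b, h⟩ (hpowD t a b h)
  refine ⟨D, hfix, fun t => ?_⟩
  by_cases htD : D t
  · exact ⟨1, by rw [mul_one, hfix t htD], ⟨1, 1, by rw [dia_one]; rfl⟩, one_pow _⟩
  · have hαt : ¬ D (α t) := fun h => htD (by rwa [α.injective (hfix _ h)] at h)
    obtain ⟨a, b, -, h | h⟩ := (hmem _).1 t.2
    · exact absurd ⟨a, b, h⟩ htD
    obtain ⟨c, d, -, h' | h'⟩ := (hmem _).1 (α t).2
    · exact absurd ⟨c, d, h'⟩ hαt
    have hn : (t⁻¹ * α t : T).1 = dia (b⁻¹ * d) (a⁻¹ * c) := by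
      rw [Subgroup.coe_mul, Subgroup.coe_inv, h, h', inv_mul_eq_iff_eq_mul]
      refine lin_ext fun v => ?_
      show ant c d v = ant a b (dia _ _ v)
      simp only [ant_apply, dia_apply, Matrix.cons_val_zero, Matrix.cons_val_one]
      rw [← mul_assoc, ← mul_assoc, ← Units.val_mul, ← Units.val_mul, mul_inv_cancel_left, mul_inv_cancel_left]
    refine ⟨t⁻¹ * α t, (mul_inv_cancel_left t (α t)).symm, ⟨_, _, hn⟩, ?_⟩
    rw [pow_add, pow_mul, hpowD _ _ _ hn, one_pow]

end Cfsg.Agent.S3382
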