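import Cfsg.Statements.S3383
import Cfsg.Agent.Lib.Frobenius.Basic

set_option autoImplicit false
open Cfsg

namespace Cfsg.Agent.S3383

/-- Let H be a Frobenius complement in a finite group L and K the Frobenius kernel (as a subgroup). Then K is characteristic in L, and every normal subgroup of L either contains K or is contained in K. -/
theorem result {L : Type*} [Group L] [Finite L]
    (H : Subgroup L) (hH : Cfsg.IsFrobeniusComplement H)
    (K : Subgroup L) (hK : (K : Set L) = Cfsg.frobeniusKernel H) :
    K.Characteristic ∧ ∀ N : Subgroup L, N.Normal → K ≤ N ∨ N ≤ K := by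
  have hmem : ∀ x : L, x ∈ K ↔ orderOf x ∣ H.index := fun x => by
    rw [← SetLike.mem_coe, hK]
    exact CfsgLib.Frobenius.mem_frobeniusKernel_iff_dvd_index hH
  have hchar : K.Characteristic := by
    rw [Subgroup.characteristic_iff_comap_eq]
    intro φ
    ext x
    rw [Subgroup.mem_comap, hmem, hmem]
    exact (φ.orderOf_eq x).symm ▸ Iff.rfl
  have hdisj : Disjoint K H := by
    rw [Subgroup.disjoint_def]
    intro x hxK hxH
    exact orderOf_eq_one_iff.1 (Nat.eq_one_of_dvd_coprimes
      (CfsgLib.Frobenius.coprime_card_index hH) (Subgroup.orderOf_dvd_natCard _ hxH) ((hmem x).1 hxK))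
  have hcard : Nat.card K * Nat.card H = Nat.card L := by
    rw [show Nat.card K = H.index by
      rw [← CfsgLib.Frobenius.ncard_frobeniusKernel hH, ← hK]; rfl]
    rw [mul_comm, Subgroup.card_mul_index]
  have hn : K.Normal := inferInstance
  refine ⟨hchar, fun N hN => ?_⟩
  exact (CfsgLib.Frobenius.normal_le_or_ge hH
    (Subgroup.isComplement'_of_card_mul_and_disjoint hcard hdisj) N).symm

end Cfsg.Agent.S3383
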