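import Cfsg.Statements.S3389
import Cfsg.Agent.Lib.Frobenius.Basic

set_option autoImplicit false
open Cfsg

namespace Cfsg.Agent.S3389

open scoped Pointwise

/-- Two Frobenius complements of a finite group have intersecting conjugates. -/
theorem exists_conj_inter {W : Type*} [Group W] [Finite W] {A B : Subgroup W}
    (hA : Cfsg.IsFrobeniusComplement A) (hB : Cfsg.IsFrobeniusComplement B) :
    ∃ (y a : W), a ∈ A ∧ a ≠ 1 ∧ y * a * y⁻¹ ∈ B := by
  by_contra hcon
  push Not at hcon
  have hsub : (Cfsg.frobeniusKernel B)ᶜ ⊆ Cfsg.frobeniusKernel A \ {1} := by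
    intro x hx
    have hx' : ¬ (x = 1 ∨ ∀ g : W, x ∉ MulAut.conj g • B) := hx
    push Not at hx'
    obtain ⟨hx1, g, hg⟩ := hx'
    refine ⟨Or.inr fun g' hg' => ?_, hx1⟩
    rw [CfsgLib.Frobenius.mem_conj_smul_iff] at hg hg'
    refine hcon (g⁻¹ * g') (g'⁻¹ * x * g') hg' (fun h => hx1 ?_) ?_
    · calc x = g' * (g'⁻¹ * x * g') * g'⁻¹ := by group
        _ = 1 := by rw [h]; group
    · convert hg using 1
      group
  have h1 := Set.ncard_le_ncard hsub (Set.toFinite _)
  have h2 : (1 : W) ∈ Cfsg.frobeniusKernel A := Or.inl rfl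
  rw [Set.ncard_diff_singleton_of_mem h2, Set.ncard_compl,
    CfsgLib.Frobenius.ncard_frobeniusKernel hA, CfsgLib.Frobenius.ncard_frobeniusKernel hB] at h1
  have hA2 : 2 ≤ Nat.card A := (Subgroup.one_lt_card_iff_ne_bot A).2 hA.1
  have hB2 : 2 ≤ Nat.card B := (Subgroup.one_lt_card_iff_ne_bot B).2 hB.1
  have hAm := A.card_mul_index
  have hBm := B.card_mul_index
  have : 0 < A.index := Nat.pos_of_ne_zero Subgroup.index_ne_zero_of_finite
  have h3 : 2 * A.index ≤ Nat.card A * A.index := Nat.mul_le_mul_right _ hA2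
  have h4 : 2 * B.index ≤ Nat.card B * B.index := Nat.mul_le_mul_right _ hB2
  omega

/-- A group with fixity two has even order. -/
theorem two_dvd_of_fixity_two {G : Type*} [Group G] [Finite G] {Ω : Type*} [Finite Ω] [MulAction G Ω]
    (htr : MulAction.IsPretransitive G Ω)
    (hfix : ∀ g : G, g ≠ 1 → Nat.card (MulAction.fixedBy Ω g) ≤ 2)
    (g : G) (hg : g ≠ 1) (hg2 : Nat.card (MulAction.fixedBy Ω g) = 2) : 2 ∣ Nat.card G := by
  by_contra hodd
  obtain ⟨⟨a, ha⟩, ⟨b, hb⟩, hab', -⟩ := Nat.card_eq_two_iff.1 hg2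
  have hab : a ≠ b := fun h => hab' (Subtype.ext h)
  rw [MulAction.mem_fixedBy] at ha hb
  -- only `a`, `b` are fixed by a nontrivial element fixing both
  have honly : ∀ h : G, h ≠ 1 → h • a = a → h • b = b → ∀ c, h • c = c → c = a ∨ c = b := by
    intro h h1 hha hhb c hc
    by_contra hne
    push Not at hne
    have hsub : ({a, b, c} : Set Ω) ⊆ MulAction.fixedBy Ω h := by
      rintro x (rfl | rfl | rfl) <;> assumption
    have h3 : ({a, b, c} : Set Ω).ncard = 3 :=
      Set.ncard_eq_three.2 ⟨a, b, c, hab, hne.1.symm, hne.2.symm, rfl⟩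
    have := Set.ncard_le_ncard hsub (Set.toFinite _)
    rw [h3] at this
    have h4 := hfix h h1
    rw [Nat.card_coe_set_eq] at h4
    omega
  set H : Subgroup G := MulAction.stabilizer G a ⊓ MulAction.stabilizer G b with hH
  have hgH : g ∈ H := ⟨ha, hb⟩
  have hTI : ∀ x z : G, z ∈ H → z ≠ 1 → x * z * x⁻¹ ∈ H → x ∈ H := by
    intro x z hz hz1 hxz
    have hz1' : x * z * x⁻¹ ≠ 1 := fun h => hz1 (by
      rw [← conj_eq_one_iff]; exact h)
    have hxa : (x * z * x⁻¹) • x • a = x • a := by
      rw [← mul_smul, inv_mul_cancel_right, mul_smul, MulAction.mem_stabilizer_iff.1 hz.1]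
    have hxb : (x * z * x⁻¹) • x • b = x • b := by
      rw [← mul_smul, inv_mul_cancel_right, mul_smul, MulAction.mem_stabilizer_iff.1 hz.2]
    have hA := honly _ hz1' hxz.1 hxz.2 _ hxa
    have hB := honly _ hz1' hxz.1 hxz.2 _ hxb
    rcases hA with hA | hA <;> rcases hB with hB | hB
    · exact absurd (MulAction.injective x (hA.trans hB.symm)) hab
    · exact ⟨hA, hB⟩
    · -- a swap contradicts odd order
      exfalso
      apply hab
      have key : ∀ k : ℕ, x ^ (2 * k + 1) • a = b := by
        intro k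
        induction k with
        | zero => simpa using hA
        | succ k ih =>
          rw [show 2 * (k + 1) + 1 = 1 + (1 + (2 * k + 1)) by ring, pow_add, pow_add, mul_smul,
            mul_smul, ih, pow_one, hB, hA]
      obtain ⟨k, hk⟩ : Odd (orderOf x) := by
        rcases Nat.even_or_odd (orderOf x) with h | h
        · exact absurd (h.two_dvd.trans (orderOf_dvd_natCard x)) hodd
        · exact h
      have := key k
      rwa [← hk, pow_orderOf_eq_one, one_smul] at this
    · exact absurd (MulAction.injective x (hA.trans hB.symm)) hab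
  have hHne : H ≠ ⊥ := fun h => hg (by rwa [h, Subgroup.mem_bot] at hgH)
  obtain ⟨x, hx⟩ := htr.exists_smul_eq b a
  set A := MulAction.stabilizer G a with hA
  have hHA : H ≤ A := inf_le_left
  have hne : H ≠ A := by
    intro h
    have hle : A ≤ MulAction.stabilizer G b := h ▸ inf_le_right
    have hcard : Nat.card (MulAction.stabilizer G b) ≤ Nat.card A := le_of_eq (Nat.card_congr
      (MulAction.stabilizerEquivStabilizer (g := x) hx.symm).toEquiv)
    have heq := Subgroup.eq_of_le_of_card_ge hle hcard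
    have hxz : x * g * x⁻¹ ∈ H := by
      rw [h, hA, MulAction.mem_stabilizer_iff, mul_smul, mul_smul]
      have : x⁻¹ • a = b := by rw [inv_smul_eq_iff, hx]
      rw [this, hb, hx]
    have := hTI x g hgH hg hxz
    exact hab (hx.symm.trans this.2)
  have hfrobA : Cfsg.IsFrobeniusComplement (H.subgroupOf A) := by
    refine ⟨?_, ?_, fun y hy => ?_⟩
    · rw [Ne, Subgroup.subgroupOf_eq_bot, disjoint_iff, inf_eq_left.2 hHA]
      exact hHne
    · rw [Ne, Subgroup.subgroupOf_eq_top]
      exact fun h => hne (le_antisymm hHA h)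
    · rw [eq_bot_iff]
      rintro z ⟨hz1, hz2⟩
      have hz2 := CfsgLib.Frobenius.mem_conj_smul_iff.1 hz2
      rw [Subgroup.mem_bot]
      by_contra hne'
      apply hy
      refine hTI (y : G) ((y : G)⁻¹ * z * y) hz2 (fun h => hne' (Subtype.ext ?_)) (by
        rw [show (y : G) * ((y : G)⁻¹ * z * y) * (y : G)⁻¹ = z by group]
        exact hz1)
      calc (z : G) = y * ((y : G)⁻¹ * z * y) * (y : G)⁻¹ := by group
        _ = 1 := by rw [h]; group
  set H' : Subgroup G := H.map (MulAut.conj x).toMonoidHom with hH'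
  have hH'A : H' ≤ A := by
    rintro _ ⟨z, hz, rfl⟩
    show (x * z * x⁻¹) • a = a
    rw [mul_smul, mul_smul]
    have : x⁻¹ • a = b := by rw [inv_smul_eq_iff, hx]
    rw [this, MulAction.mem_stabilizer_iff.1 hz.2, hx]
  have hfrobA' : Cfsg.IsFrobeniusComplement (H'.subgroupOf A) := by
    refine ⟨?_, ?_, fun y hy => ?_⟩
    · rw [Ne, Subgroup.subgroupOf_eq_bot, disjoint_iff, inf_eq_left.2 hH'A, hH']
      exact fun h => hHne ((Subgroup.map_eq_bot_iff_of_injective H
        (f := (MulAut.conj x).toMonoidHom) (MulAut.conj x).injective).1 h)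
    · rw [Ne, Subgroup.subgroupOf_eq_top]
      intro h
      refine hne (Subgroup.eq_of_le_of_card_ge hHA (le_trans (Subgroup.card_le_of_le h) ?_))
      exact (Subgroup.card_map_of_injective (f := (MulAut.conj x).toMonoidHom)
        (MulAut.conj x).injective).le
    · rw [eq_bot_iff]
      rintro z ⟨hz1, hz2⟩
      have hz2 := CfsgLib.Frobenius.mem_conj_smul_iff.1 hz2
      rw [Subgroup.mem_bot]
      by_contra hne'
      apply hy
      obtain ⟨u, hu, huz⟩ := hz1
      obtain ⟨v, hv, hvz⟩ := hz2
      have huz' : x * u * x⁻¹ = (z : G) := huz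
      have hvz' : x * v * x⁻¹ = (y : G)⁻¹ * z * y := hvz
      have hconj : (x⁻¹ * y * x) * v * (x⁻¹ * y * x)⁻¹ = u := by
        calc _ = x⁻¹ * y * (x * v * x⁻¹) * (y : G)⁻¹ * x := by group
          _ = x⁻¹ * (z : G) * x := by rw [hvz']; group
          _ = u := by rw [← huz']; group
      have hv1 : v ≠ 1 := by
        intro h1
        subst h1
        apply hne'
        apply Subtype.ext
        rw [mul_one, mul_inv_cancel, eq_comm] at hvz'
        calc (z : G) = y * ((y : G)⁻¹ * z * y) * (y : G)⁻¹ := by group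
          _ = 1 := by rw [hvz']; group
      refine ⟨x⁻¹ * y * x, hTI _ v hv hv1 (hconj ▸ hu), ?_⟩
      show x * (x⁻¹ * y * x) * x⁻¹ = (y : G)
      group
  obtain ⟨y, z, hz, hz1, hyz⟩ := exists_conj_inter hfrobA hfrobA'
  obtain ⟨w, hw, hwz⟩ := hyz
  have hwz' : x * w * x⁻¹ = (y : G) * (z : G) * (y : G)⁻¹ := hwz
  have hmem : x⁻¹ * y ∈ H := by
    refine hTI _ (z : G) hz (fun h => hz1 (Subtype.ext h)) ?_
    have : x⁻¹ * y * z * (x⁻¹ * y)⁻¹ = w := by
      calc x⁻¹ * y * z * (x⁻¹ * y)⁻¹ = x⁻¹ * ((y : G) * z * (y : G)⁻¹) * x := by group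
        _ = w := by rw [← hwz']; group
    rw [this]; exact hw
  have h1 : (x⁻¹ * y) • a = a := hmem.1
  rw [mul_smul, MulAction.mem_stabilizer_iff.1 y.2, inv_smul_eq_iff] at h1
  exact hab (MulAction.injective x (h1.symm.trans hx.symm))

/-- Let G be a finite group acting faithfully and transitively on a finite set Ω with fixity k ≥ 1: every non-identity element fixes at most k points and some non-identity element fixes exactly k points. Then |Z(G)| divides k; if k = 2 then |G| is even; and for every prime p > k dividing |G| and every point α, either p does not divide |G_α| or G_α contains a Sylow p-subgroup of G. -/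
theorem result {G : Type*} [Group G] [Finite G] {Ω : Type*} [Fintype Ω] [MulAction G Ω] [FaithfulSMul G Ω]
    (htr : MulAction.IsPretransitive G Ω) (k : ℕ) (hk : 1 ≤ k)
    (hfix : ∀ g : G, g ≠ 1 → Nat.card (MulAction.fixedBy Ω g) ≤ k) (hex : ∃ g : G, g ≠ 1 ∧ Nat.card (MulAction.fixedBy Ω g) = k) :
    Nat.card (Subgroup.center G) ∣ k ∧ (k = 2 → 2 ∣ Nat.card G) ∧
      ∀ (p : ℕ), p.Prime → k < p → p ∣ Nat.card G → ∀ α : Ω,
        ¬ p ∣ Nat.card (MulAction.stabilizer G α) ∨ ¬ p ∣ (MulAction.stabilizer G α).index := by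
  obtain ⟨g, hg, hgk⟩ := hex
  refine ⟨?_, fun hk2 => two_dvd_of_fixity_two htr (hk2 ▸ hfix) g hg (hk2 ▸ hgk), ?_⟩
  · -- the centre acts freely on the fixed points of `g`
    let Z := Subgroup.center G
    let act : MulAction Z (MulAction.fixedBy Ω g) :=
      { smul := fun z w => ⟨(z : G) • (w : Ω), by
          rw [MulAction.mem_fixedBy, ← mul_smul, Subgroup.mem_center_iff.1 z.2 g, mul_smul,
            MulAction.mem_fixedBy.1 w.2]⟩
        one_smul := fun w => Subtype.ext (one_smul G (w : Ω))
        mul_smul := fun y z w => Subtype.ext (mul_smul (y : G) (z : G) (w : Ω)) }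
    have hfree : ∀ w : MulAction.fixedBy Ω g, MulAction.stabilizer Z w = ⊥ := by
      intro w
      rw [eq_bot_iff]
      intro z hz
      rw [Subgroup.mem_bot]
      apply Subtype.ext
      refine FaithfulSMul.eq_of_smul_eq_smul (α := Ω) fun u => ?_
      obtain ⟨h, rfl⟩ := htr.exists_smul_eq (w : Ω) u
      have hzw : (z : G) • (w : Ω) = w := congrArg Subtype.val hz
      rw [← mul_smul, ← Subgroup.mem_center_iff.1 z.2 h, mul_smul, hzw, Subgroup.coe_one, one_smul]
    rw [← hgk, Nat.card_congr (MulAction.selfEquivOrbitsQuotientProd hfree), Nat.card_prod]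
    exact dvd_mul_left _ _
  · intro p hp hkp _ α
    by_contra hcon
    push Not at hcon
    obtain ⟨hpS, hpI⟩ := hcon
    have := Fact.mk hp
    set A := MulAction.stabilizer G α with hA
    let P : Sylow p A := default
    set Q : Subgroup G := (P : Subgroup A).map A.subtype with hQ
    have hQp : IsPGroup p Q := P.2.map A.subtype
    have hQA : Q ≤ A := Subgroup.map_subtype_le _
    have hQne : Q ≠ ⊥ := fun h => P.ne_bot_of_dvd_card hpS
      ((Subgroup.map_eq_bot_iff_of_injective _ A.subtype_injective).1 h)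
    obtain ⟨R, hQR⟩ := hQp.exists_le_sylow
    have hne : Q ≠ R := by
      intro h
      apply R.not_dvd_index
      rw [← h]
      exact hpI.trans (Subgroup.index_dvd_of_le hQA)
    have hQltR : Q.subgroupOf R < ⊤ := by
      rw [lt_top_iff_ne_top, Ne, Subgroup.subgroupOf_eq_top]
      exact fun h => hne (le_antisymm hQR h)
    have hRn : Group.IsNilpotent R := R.2.isNilpotent
    obtain ⟨u, hu, huQ⟩ := SetLike.exists_of_lt (Group.normalizerCondition_of_isNilpotent (G := R) _ hQltR)
    rw [Subgroup.mem_subgroupOf] at huQ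
    have huN : ∀ q ∈ Q, (u : G) * q * (u : G)⁻¹ ∈ Q := by
      intro q hq
      have h := (Subgroup.mem_normalizer_iff.1 hu ⟨q, hQR hq⟩).1 hq
      exact h
    have huN' : ∀ q ∈ Q, (u : G)⁻¹ * q * (u : G) ∈ Q := by
      intro q hq
      have h := (Subgroup.mem_normalizer_iff''.1 hu ⟨q, hQR hq⟩).1 hq
      exact h
    -- the orbit of `α` under `⟨u⟩` lies in the fixed points of `Q`
    have horb : ∀ i : ℕ, ∀ q ∈ Q, q • ((u : G) ^ i • α) = (u : G) ^ i • α := by
      intro i
      induction i with
      | zero => intro q hq; rw [pow_zero, one_smul]; exact MulAction.mem_stabilizer_iff.1 (hQA hq)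
      | succ i ih =>
        intro q hq
        rw [pow_succ', mul_smul, ← mul_smul, show q * (u : G) = (u : G) * ((u : G)⁻¹ * q * u) by group,
          mul_smul, ih _ (huN' q hq)]
    obtain ⟨q, hq, hq1⟩ := Q.bot_or_exists_ne_one.resolve_left hQne
    set T := Subgroup.zpowers u
    have hT : IsPGroup p T := R.2.to_subgroup T
    obtain ⟨j, hj⟩ := hT.card_orbit α
    have hle : Nat.card (MulAction.orbit T α) ≤ k := by
      refine le_trans ?_ (hfix q hq1)
      rw [Nat.card_coe_set_eq, Nat.card_coe_set_eq]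
      refine Set.ncard_le_ncard ?_ (Set.toFinite _)
      rintro _ ⟨⟨t, ht⟩, rfl⟩
      obtain ⟨i, rfl⟩ := (Submonoid.mem_powers_iff _ _).1 (mem_powers_iff_mem_zpowers.2 ht)
      show q • ((u ^ i : R) : G) • α = ((u ^ i : R) : G) • α
      rw [SubgroupClass.coe_pow]
      exact horb i q hq
    have hj0 : j = 0 := by
      by_contra hj0
      rw [hj] at hle
      have := Nat.le_self_pow hj0 p
      omega
    rw [hj0, pow_zero] at hj
    have huA : (u : G) ∈ A := by
      have : Subsingleton (MulAction.orbit T α) := (Nat.card_eq_one_iff_unique.1 hj).1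
      have h := congrArg Subtype.val (Subsingleton.elim
        (⟨_, MulAction.mem_orbit α (⟨u, Subgroup.mem_zpowers u⟩ : T)⟩ : MulAction.orbit T α)
        ⟨α, MulAction.mem_orbit_self α⟩)
      exact h
    -- `Q⟨u⟩` would be a larger `p`-subgroup of `A`
    let N : Subgroup G := Q ⊔ Subgroup.zpowers (u : G)
    have hNA : N ≤ A := sup_le hQA (Subgroup.zpowers_le.2 huA)
    have hNR : N ≤ R := sup_le hQR (Subgroup.zpowers_le.2 u.2)
    have hNp : IsPGroup p N := R.2.to_le hNR
    have hmax : N.subgroupOf A = (P : Subgroup A) := P.3 (hNp.comap_of_injective A.subtype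
      A.subtype_injective) (by
        rw [← Subgroup.comap_map_eq_self_of_injective A.subtype_injective (P : Subgroup A)]
        exact Subgroup.comap_mono le_sup_left)
    apply huQ
    have : (⟨(u : G), huA⟩ : A) ∈ N.subgroupOf A :=
      (Subgroup.mem_sup_right (Subgroup.mem_zpowers _) : (u : G) ∈ N)
    rw [hmax] at this
    exact ⟨_, this, rfl⟩

end Cfsg.Agent.S3389
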