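import Cfsg.Statements.S3390
import Cfsg.Agent.S3224
import Cfsg.Agent.Lib.Involutions.StronglyEmbedded
import Cfsg.Agent.Lib.TwoGroups.ControlledTransfer
import Cfsg.Agent.Lib.TwoGroups.FixityTwo

set_option autoImplicit false
open Cfsg

namespace Cfsg.Agent.S3390

/-- Let G be a finite group acting faithfully and transitively on a finite set Ω with fixity 2 (every non-identity element fixes at most two points, and some fixes exactly two). Let α ∈ Ω and S a Sylow 2-subgroup of G. Then one of the following holds: the stabilizer S_α of α in S is trivial; S is dihedral or semidihedral and either |S_α| = 2 or |S : S_α| = 2; |S| ≥ 4, S has exactly one orbit of size 2 on Ω, every other S-orbit is regular, and G has a normal subgroup of index 2 or of index |S| which is a Frobenius group; or S ≤ G_α. -/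
theorem result {G : Type*} [Group G] [Finite G] {Ω : Type*} [Fintype Ω] [MulAction G Ω] [FaithfulSMul G Ω] (htr : MulAction.IsPretransitive G Ω)
    (hfix : ∀ g : G, g ≠ 1 → Nat.card (MulAction.fixedBy Ω g) ≤ 2) (hex : ∃ g : G, g ≠ 1 ∧ Nat.card (MulAction.fixedBy Ω g) = 2) (α : Ω) (S : Sylow 2 G) :
    (S : Subgroup G) ⊓ MulAction.stabilizer G α = ⊥ ∨
    (((∃ n : ℕ, Nonempty (↥(S : Subgroup G) ≃* DihedralGroup n)) ∨ Cfsg.IsQuasiDihedral ↥(S : Subgroup G)) ∧
       (Nat.card ↥((S : Subgroup G) ⊓ MulAction.stabilizer G α) = 2 ∨ ((S : Subgroup G) ⊓ MulAction.stabilizer G α).relIndex (S : Subgroup G) = 2)) ∨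
    (4 ≤ Nat.card (S : Subgroup G) ∧
       (∃ ω : Ω, Nat.card (MulAction.orbit ↥(S : Subgroup G) ω) = 2 ∧
          ∀ ω' : Ω, ω' ∉ MulAction.orbit ↥(S : Subgroup G) ω → Nat.card (MulAction.orbit ↥(S : Subgroup G) ω') = Nat.card (S : Subgroup G)) ∧
       ∃ N : Subgroup G, N.Normal ∧ (N.index = 2 ∨ N.index = Nat.card (S : Subgroup G)) ∧ (∃ H : Subgroup ↥N, Cfsg.IsFrobeniusComplement H)) ∨
    (S : Subgroup G) ≤ MulAction.stabilizer G α := by
  classical
  by_cases h1 : (S : Subgroup G) ⊓ MulAction.stabilizer G α = ⊥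
  · exact Or.inl h1
  by_cases hle : (S : Subgroup G) ≤ MulAction.stabilizer G α
  · exact Or.inr (Or.inr (Or.inr hle))
  rcases CfsgLib.TwoGroups.FixityTwo.short_orbit hfix α S.isPGroup' h1 hle with
    h | ⟨n, hn, hnα, hβ, hpair, hF, h4, hrel⟩
  · exact Or.inr (Or.inl h)
  refine Or.inr (Or.inr (Or.inl ⟨h4, ⟨α, ?_, fun ω hω => ?_⟩, ?_⟩))
  · rw [Nat.card_coe_set_eq, Set.ncard_eq_two]
    refine ⟨α, n • α, hnα.symm, ?_⟩
    ext ω
    simp only [Set.mem_insert_iff, Set.mem_singleton_iff]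
    constructor
    · rintro ⟨x, rfl⟩
      exact hpair x x.2
    · rintro (rfl | rfl)
      · exact MulAction.mem_orbit_self _
      · exact ⟨⟨n, hn⟩, rfl⟩
  · have hs : MulAction.stabilizer ↥(S : Subgroup G) ω = ⊥ := by
      refine (Subgroup.eq_bot_iff_forall _).2 fun x hx => Subtype.ext ?_
      have hxω : (x : G) • ω = ω := hx
      have hxα := hF x x.2 ω hxω
      exact CfsgLib.TwoGroups.FixityTwo.eq_one_of_three hfix hxα (hβ x x.2 hxα) hxω hnα.symm
        (fun e => hω (e ▸ MulAction.mem_orbit_self α)) (fun e => hω ⟨⟨n, hn⟩, e⟩)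
    rw [Nat.card_congr (MulAction.orbitEquivQuotientStabilizer ↥(S : Subgroup G) ω), hs,
      ← Subgroup.index_eq_card, Subgroup.index_bot]
  · obtain ⟨N, hN, hi, hH⟩ := CfsgLib.TwoGroups.FixityTwo.exists_frobenius htr hfix α S hn hnα h1 hβ hpair hF hrel
    exact ⟨N, hN, Or.inl hi, hH⟩

end Cfsg.Agent.S3390
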