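import Cfsg.Statements.S3391
import Cfsg.Agent.Lib.SuzukiGroup.FixityTwo

set_option autoImplicit false
open Cfsg

namespace Cfsg.Agent.S3391

/-- Let q = 2^{2m+1} ≥ 8 and let G be isomorphic to the Suzuki group Sz(q). If G acts faithfully and transitively on a finite set Ω with fixity 2 (every non-identity element fixes at most two points, and some fixes exactly two), then either |Ω| = q² + 1 and the action is 2-transitive, or |Ω| = q²(q² + 1) and the point stabilizers have order q − 1. -/
theorem result {G : Type*} [Group G] [Finite G] (F : Type) [Field F] [Fintype F] (m : ℕ) (hm : 1 ≤ m) (hF : Fintype.card F = 2 ^ (2 * m + 1))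
    (e : G ≃* ↥(Cfsg.Lie.Sz F (2 ^ (m + 1)))) {Ω : Type*} [Fintype Ω] [MulAction G Ω] [FaithfulSMul G Ω] (htr : MulAction.IsPretransitive G Ω)
    (hfix : ∀ g : G, g ≠ 1 → Nat.card (MulAction.fixedBy Ω g) ≤ 2) (hex : ∃ g : G, g ≠ 1 ∧ Nat.card (MulAction.fixedBy Ω g) = 2) :
    (Fintype.card Ω = Fintype.card F ^ 2 + 1 ∧ MulAction.IsMultiplyPretransitive G Ω 2) ∨
    (Fintype.card Ω = Fintype.card F ^ 2 * (Fintype.card F ^ 2 + 1) ∧ ∀ α : Ω, Nat.card (MulAction.stabilizer G α) = Fintype.card F - 1) := by
  classical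
  obtain ⟨hchar, ⟨P⟩⟩ := CfsgLib.SuzukiGroup.exists_params hF
  haveI := hchar
  obtain ⟨g₀, hg₀, h2⟩ := hex
  obtain ⟨⟨α, hα⟩⟩ : Nonempty ↥(MulAction.fixedBy Ω g₀) := (Nat.card_pos_iff.1 (by omega)).1
  have hinj : Function.Injective e.toMonoidHom := e.injective
  have horb : ∀ β : Ω, Fintype.card Ω = (MulAction.stabilizer G β).index := fun β => by
    rw [MulAction.index_stabilizer, MulAction.orbit_eq_univ, Set.ncard_univ, Nat.card_eq_fintype_card]
  set H := (MulAction.stabilizer G α).map e.toMonoidHom with hH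
  have hhalf : CfsgLib.SuzukiGroup.HalfFusion H := by
    rintro _ ⟨x, hx, rfl⟩ h1 N hN
    have hx1 : x ≠ 1 := fun h => h1 (by rw [h, map_one])
    have hN' : (N.comap e.toMonoidHom).map e.toMonoidHom = N :=
      Subgroup.map_comap_eq_self_of_surjective e.surjective N
    rw [hH, ← hN', Subgroup.relIndex_map_map_of_injective _ _ hinj]
    set N' := N.comap e.toMonoidHom with hN''
    have hst : (MulAction.stabilizer G α).subgroupOf N' = MulAction.stabilizer ↥N' α := by
      ext n; rfl
    rw [Subgroup.relIndex, hst, MulAction.index_stabilizer]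
    refine le_trans ?_ (hfix x hx1)
    refine Set.ncard_le_ncard ?_ (Set.toFinite _)
    rintro _ ⟨⟨n, hn⟩, rfl⟩
    obtain ⟨y, hy, hxy⟩ := hN (e.toMonoidHom n) hn
    rw [← map_inv, ← map_mul, ← map_mul] at hxy
    rw [hinj hxy] at hy
    show x • (n • α) = n • α
    have : (n⁻¹ * x * n) • α = α := hy
    rw [mul_smul, mul_smul, inv_smul_eq_iff] at this
    exact this
  have hbot : H ≠ ⊥ := fun h => hg₀ (hinj (by
    rw [map_one]; exact Subgroup.mem_bot.1 (h ▸ ⟨g₀, hα, rfl⟩)))
  have htop : H ≠ ⊤ := by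
    intro h
    have h' : MulAction.stabilizer G α = ⊤ :=
      Subgroup.map_injective hinj (h.trans (Subgroup.map_top_of_surjective _ e.surjective).symm)
    have h1 := horb α
    rw [h', Subgroup.index_top] at h1
    have h3 : Nat.card ↥(MulAction.fixedBy Ω g₀) ≤ Nat.card Ω :=
      Nat.card_le_card_of_injective _ Subtype.val_injective
    rw [Nat.card_eq_fintype_card (α := Ω), h2] at h3
    omega
  rcases CfsgLib.SuzukiGroup.halfFusion_cases P hF hm hhalf hbot htop with ⟨k, hk⟩ | hk
  · refine Or.inl ?_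
    set β := e.symm k • α with hβ
    have hB : (MulAction.stabilizer G β).map e.toMonoidHom =
        CfsgLib.SuzukiGroup.borel (F := F) (e := 2 ^ (m + 1)) := by
      rw [← hk, hβ, MulAction.stabilizer_smul_eq_stabilizer_map_conj, hH, Subgroup.map_map,
        Subgroup.map_map]
      congr 1
      ext x
      simp [map_mul, map_inv]
    have hfixB : ∀ y ∈ CfsgLib.SuzukiGroup.borel (F := F) (e := 2 ^ (m + 1)),
        e.symm y • β = β := by
      intro y hy
      rw [← hB] at hy
      obtain ⟨z, hz, rfl⟩ := hy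
      show e.symm (e z) • β = β
      rw [MulEquiv.symm_apply_apply]
      exact hz
    refine ⟨?_, ?_⟩
    · rw [horb β, ← CfsgLib.SuzukiGroup.index_borel P, ← hB]
      exact (Subgroup.index_map_equiv (MulAction.stabilizer G β) e).symm
    · rw [MulAction.is_two_pretransitive_iff]
      have main : ∀ a b : Ω, a ≠ b → ∃ g : G, g • β = a ∧
          g • (e.symm (CfsgLib.SuzukiGroup.jEl P) • β) = b := by
        intro a b hab
        obtain ⟨g, rfl⟩ := htr.exists_smul_eq β a
        obtain ⟨k', hk'⟩ := htr.exists_smul_eq β (g⁻¹ • b)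
        have hnB : e k' ∉ CfsgLib.SuzukiGroup.borel (F := F) (e := 2 ^ (m + 1)) := by
          intro hc
          have := hfixB _ hc
          rw [MulEquiv.symm_apply_apply, hk', inv_smul_eq_iff] at this
          exact hab this.symm
        obtain ⟨u, v, h, hh, huv⟩ := CfsgLib.SuzukiGroup.bruhat P hnB
        refine ⟨g * e.symm (CfsgLib.SuzukiGroup.uEl P u v), ?_, ?_⟩
        · rw [mul_smul, hfixB _ (CfsgLib.SuzukiGroup.uEl_mem_borel P u v)]
        · have : k' = e.symm (CfsgLib.SuzukiGroup.uEl P u v) *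
              e.symm (CfsgLib.SuzukiGroup.jEl P) * e.symm h := by
            rw [← map_mul, ← map_mul, ← huv, MulEquiv.symm_apply_apply]
          rw [this, mul_smul, hfixB h hh, mul_smul] at hk'
          rw [mul_smul, hk', smul_inv_smul]
      intro a b c d hab hcd
      obtain ⟨g, hg1, hg2⟩ := main a b hab
      obtain ⟨g', hg1', hg2'⟩ := main c d hcd
      exact ⟨g' * g⁻¹, by rw [mul_smul, ← hg1, inv_smul_smul, hg1'],
        by rw [mul_smul, ← hg2, inv_smul_smul, hg2']⟩
  · refine Or.inr ?_
    have hc : ∀ γ : Ω, Nat.card ↥(MulAction.stabilizer G γ) = Fintype.card F - 1 := by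
      intro γ
      obtain ⟨g, rfl⟩ := htr.exists_smul_eq α γ
      rw [MulAction.stabilizer_smul_eq_stabilizer_map_conj,
        Subgroup.card_map_of_injective (f := (MulAut.conj g).toMonoidHom) (MulAut.conj g).injective,
        ← hk, hH, Subgroup.card_map_of_injective hinj]
    refine ⟨?_, hc⟩
    have h1 := Subgroup.card_mul_index (MulAction.stabilizer G α)
    rw [hc, ← horb α, Nat.card_congr e.toEquiv, CfsgLib.SuzukiGroup.card_sz P] at h1
    have hpos : 0 < Fintype.card F - 1 := by
      have := Fintype.one_lt_card (α := F); omega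
    exact Nat.eq_of_mul_eq_mul_left hpos (by rw [h1]; ring)

end Cfsg.Agent.S3391
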