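import Cfsg.Statements.S3401
import Cfsg.Agent.Lib.Recognition.TwoTransTwoModFour

set_option autoImplicit false
open Cfsg

namespace Cfsg.Agent.S3401

/-- Let G be a doubly transitive permutation group on a finite set Ω with |Ω| ≡ 2 mod 4 and |Ω| > 2. Then G has a unique minimal normal subgroup M (a nontrivial normal subgroup contained in every nontrivial normal subgroup); M is simple and doubly transitive on Ω, and its centralizer in G is trivial (so G embeds in Aut(M)). -/
theorem result {G : Type*} [Group G] [Finite G] {Ω : Type*} [Fintype Ω] [MulAction G Ω] [FaithfulSMul G Ω]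
    (h2 : MulAction.IsMultiplyPretransitive G Ω 2) (hn : Fintype.card Ω % 4 = 2) (hn2 : 2 < Fintype.card Ω) :
    ∃ M : Subgroup G, M.Normal ∧ M ≠ ⊥ ∧ (∀ N : Subgroup G, N.Normal → N ≠ ⊥ → M ≤ N) ∧
      IsSimpleGroup ↥M ∧ MulAction.IsMultiplyPretransitive ↥M Ω 2 ∧ Subgroup.centralizer (M : Set G) = ⊥ := by
  exact CfsgLib.Recognition.exists_simple_socle_of_two_mod_four h2
    (by rwa [Nat.card_eq_fintype_card]) (by rwa [Nat.card_eq_fintype_card])

end Cfsg.Agent.S3401
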