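import Cfsg.Statements.S3419
import Cfsg.Agent.Lib.Recog.AlternatingPrimes

set_option autoImplicit false
open Cfsg

namespace Cfsg.Agent.S3419

/-- Let n ≥ 5 and let G be a finite group with the same order and the same set of element orders as the alternating group of degree n. Then G is not solvable. -/
theorem result {G : Type*} [Group G] [Finite G] (n : ℕ) (hn : 5 ≤ n)
    (hcard : Nat.card G = Nat.card ↥(alternatingGroup (Fin n)))
    (hspec : Set.range (orderOf : G → ℕ) = Set.range (orderOf : ↥(alternatingGroup (Fin n)) → ℕ)) :
    ¬ Group.IsSolvable G := by
  rcases le_or_gt 11 n with h | h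
  · obtain ⟨p, q, hp, hq, hlt, h1, h2⟩ := CfsgLib.Recog.two_primes_half n h
    have hq1 : ¬ q ^ (1 + 1) ∣ Nat.factorial n := by
      intro hd
      have hq2 := (CfsgLib.Recog.large_prime_card_alternating hq (by omega) (by omega) h2).2
      rw [← CfsgLib.Recog.two_mul_card_alternatingGroup_fin (n := n) (by omega)] at hd
      exact hq2 ((Nat.Coprime.pow_left 2 ((Nat.coprime_primes hq Nat.prime_two).2 (by omega))).dvd_of_dvd_mul_left hd)
    refine CfsgLib.Recog.not_isSolvable_of_alternating_data n p q 1 hcard hspec hp hq (by omega) (by omega)
      (by omega) (by omega) (by omega) h2 (by omega)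
      (CfsgLib.Recog.not_dvd_pred_of_half hp hq (n := n) (by omega) (by omega) (by omega) (by omega)) hq1 ?_
    intro i h1i h2i
    obtain rfl : i = 1 := by omega
    rw [pow_one]
    exact CfsgLib.Recog.not_dvd_pred_of_half hq hp (n := n) h2 (by omega) (by omega) (by omega)
  · interval_cases n
    · exact CfsgLib.Recog.not_isSolvable_of_alternating_data 5 5 3 1 hcard hspec (by norm_num1) (by norm_num1)
        (by norm_num1) (by norm_num1) (by norm_num1) (by norm_num1) (by norm_num1) (by norm_num1) (by norm_num1)
        (by decide) (by decide +kernel)
        (by intro i h1 h2; interval_cases i; decide)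
    · exact CfsgLib.Recog.not_isSolvable_of_alternating_data 6 5 3 2 hcard hspec (by norm_num1) (by norm_num1)
        (by norm_num1) (by norm_num1) (by norm_num1) (by norm_num1) (by norm_num1) (by norm_num1) (by norm_num1)
        (by decide) (by decide +kernel)
        (by intro i h1 h2; interval_cases i <;> decide)
    · exact CfsgLib.Recog.not_isSolvable_of_alternating_data 7 7 5 1 hcard hspec (by norm_num1) (by norm_num1)
        (by norm_num1) (by norm_num1) (by norm_num1) (by norm_num1) (by norm_num1) (by norm_num1) (by norm_num1)
        (by decide) (by decide +kernel)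
        (by intro i h1 h2; interval_cases i; decide)
    · exact CfsgLib.Recog.not_isSolvable_of_alternating_data 8 7 5 1 hcard hspec (by norm_num1) (by norm_num1)
        (by norm_num1) (by norm_num1) (by norm_num1) (by norm_num1) (by norm_num1) (by norm_num1) (by norm_num1)
        (by decide) (by decide +kernel)
        (by intro i h1 h2; interval_cases i; decide)
    · exact CfsgLib.Recog.not_isSolvable_of_alternating_data 9 7 5 1 hcard hspec (by norm_num1) (by norm_num1)
        (by norm_num1) (by norm_num1) (by norm_num1) (by norm_num1) (by norm_num1) (by norm_num1) (by norm_num1)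
        (by decide) (by decide +kernel)
        (by intro i h1 h2; interval_cases i; decide)
    · exact CfsgLib.Recog.not_isSolvable_of_alternating_data 10 7 5 2 hcard hspec (by norm_num1) (by norm_num1)
        (by norm_num1) (by norm_num1) (by norm_num1) (by norm_num1) (by norm_num1) (by norm_num1) (by norm_num1)
        (by decide) (by decide +kernel)
        (by intro i h1 h2; interval_cases i <;> decide)

end Cfsg.Agent.S3419
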