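import Cfsg.Statements.S3420
import Cfsg.Agent.Lib.Recog.AlternatingPrimes

set_option autoImplicit false
open Cfsg

namespace Cfsg.Agent.S3420

/-- Let n ≥ 11 and let G be a finite group with the same order and the same set of element orders as the alternating group of degree n. Then G has normal subgroups N < H such that H/N is a non-abelian simple group whose order is divisible by every prime p with n/2 < p ≤ n. -/
theorem result {G : Type*} [Group G] [Finite G] (n : ℕ) (hn : 11 ≤ n)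
    (hcard : Nat.card G = Nat.card ↥(alternatingGroup (Fin n)))
    (hspec : Set.range (orderOf : G → ℕ) = Set.range (orderOf : ↥(alternatingGroup (Fin n)) → ℕ)) :
    ∃ (N H : Subgroup G) (_ : N.Normal), H.Normal ∧ N < H ∧
      IsSimpleGroup (↥H ⧸ N.subgroupOf H) ∧ ¬ IsMulCommutative (↥H ⧸ N.subgroupOf H) ∧
      ∀ p : ℕ, p.Prime → n < 2 * p → p ≤ n → p ∣ Nat.card (↥H ⧸ N.subgroupOf H) := by
  obtain ⟨p₀, q₀, hp₀, hq₀, hlt, h1, h2⟩ := CfsgLib.Recog.two_primes_half n hn
  let T : Set ℕ := {p | p.Prime ∧ n < 2 * p ∧ p ≤ n}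
  obtain ⟨N, H, hN, hH, hlt', hs, hnc, hdvd⟩ := CfsgLib.Recog.exists_simple_section (G := G) T
    (fun p hp => ⟨hp.1, hcard ▸ CfsgLib.Recog.large_prime_card_alternating hp.1
      (by have := hp.2.1; omega) hp.2.1 hp.2.2⟩)
    (fun p hp q hq hne => ⟨CfsgLib.Recog.not_orderOf_mul_of_isospectral hspec hp.1 hq.1 hne
        (by have := hp.2.1; have := hq.2.1; omega),
      CfsgLib.Recog.not_dvd_pred_of_half hp.1 hq.1 hp.2.2 hq.2.1 (by have := hp.2.1; omega)
        (by have := hq.2.1; omega)⟩)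
    ⟨p₀, ⟨hp₀, h1, by omega⟩, q₀, ⟨hq₀, by omega, h2⟩, by omega⟩
  exact ⟨N, H, hN, hH, hlt', hs, hnc, fun p hp hp1 hp2 => hdvd p ⟨hp, hp1, hp2⟩⟩

end Cfsg.Agent.S3420
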