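import Cfsg.Statements.S3421
import Cfsg.Agent.Lib.Recog.SylowExponentData
import Cfsg.Agent.Lib.Recog.CentralSylowPSLTwo
import Cfsg.Agent.Lib.PrimRecog.PSLTwoSquareSpectrum
import Cfsg.Agent.Lib.Spectrum.Basic

set_option autoImplicit false
open Cfsg

namespace Cfsg.Agent.S3421

/-- Let F be a finite field with more than 3 elements. A finite group G is isomorphic to PSL(2, F) if and only if G has the same set of element orders and the same order as PSL(2, F). -/
theorem result {G : Type*} [Group G] [Finite G] {F : Type*} [Field F] [Fintype F] (hF : 3 < Fintype.card F) :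
    Nonempty (G ≃* Matrix.ProjectiveSpecialLinearGroup (Fin 2) F) ↔
      (Set.range (orderOf : G → ℕ) = Set.range (orderOf : Matrix.ProjectiveSpecialLinearGroup (Fin 2) F → ℕ) ∧
        Nat.card G = Nat.card (Matrix.ProjectiveSpecialLinearGroup (Fin 2) F)) := by
  classical
  constructor
  · rintro ⟨e⟩
    exact ⟨CfsgLib.Spectrum.range_orderOf_congr e, Nat.card_congr e.toEquiv⟩
  rintro ⟨hspec, hcard⟩
  obtain ⟨p, hpc⟩ := CharP.exists F
  obtain ⟨f, hp, hqf⟩ := FiniteField.card F p
  haveI := Fact.mk hp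
  set q := Fintype.card F with hq
  set d := Nat.gcd 2 (q - 1) with hd
  set a := (q - 1) / d with ha
  set b := (q + 1) / d with hb
  have hg := CfsgLib.ClassicalGroups.card_psl_two_gcd (K := F)
  rw [← hcard, ← hq, ← hd] at hg
  have hd1 : d ∣ q - 1 := Nat.gcd_dvd_right _ _
  have hd2 : d ∣ 2 := Nat.gcd_dvd_left _ _
  have hdpos : 0 < d := Nat.pos_of_ne_zero fun e => by rw [e] at hd2; simp at hd2
  have hdle : d ≤ 2 := Nat.le_of_dvd two_pos hd2
  have hd3 : d ∣ q + 1 := by
    have h2 := Nat.dvd_add hd1 hd2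
    rwa [show q - 1 + 2 = q + 1 by omega] at h2
  have hea : d * a = q - 1 := Nat.mul_div_cancel' hd1
  have heb : d * b = q + 1 := Nat.mul_div_cancel' hd3
  have hapos : 1 < a := by
    rcases Nat.lt_or_ge 1 a with h | h
    · exact h
    · exfalso
      have h2 : d * a ≤ d * 1 := Nat.mul_le_mul_left d h
      have h3 : q - 1 ≤ 2 := by omega
      omega
  have hbpos : 1 < b := by
    by_contra hlt
    have h2 : d * b ≤ d * 1 := Nat.mul_le_mul_left d (by omega)
    omega
  have hpq : p ∣ q := hqf ▸ dvd_pow_self p f.ne_zero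
  have hnpa : ¬ p ∣ a := fun h => by
    have h1 : p ∣ q - 1 := hea ▸ h.mul_left d
    have := Nat.dvd_sub hpq h1
    rw [show q - (q - 1) = 1 by omega] at this
    exact hp.not_dvd_one this
  have hnpb : ¬ p ∣ b := fun h => by
    have h1 : p ∣ q + 1 := heb ▸ h.mul_left d
    exact hp.not_dvd_one ((Nat.dvd_add_right hpq).1 h1)
  have hab : ∀ l : ℕ, l.Prime → l ∣ a → l ∣ b → False := by
    intro l hl h1 h2
    have h12 : d = 1 ∨ d = 2 := by omega
    rcases h12 with e | e
    · rw [e, one_mul] at hea heb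
      have h3 : l ∣ 2 := by
        have := Nat.dvd_sub h2 h1
        rwa [hea, heb, show q + 1 - (q - 1) = 2 by omega] at this
      have hl2 : l = 2 := (Nat.prime_dvd_prime_iff_eq hl Nat.prime_two).1 h3
      obtain ⟨m, hm⟩ := hl2 ▸ h1
      have : d = 2 := by rw [hd]; exact Nat.gcd_eq_left ⟨m, by omega⟩
      omega
    · rw [e] at hea heb
      have := Nat.dvd_sub h2 h1
      rw [show b - a = 1 by omega] at this
      exact hl.not_dvd_one this
  have hord : ∀ g : G, orderOf g ∣ a ∨ orderOf g ∣ b ∨ orderOf g ∣ p := by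
    intro g
    obtain ⟨x, hx⟩ : orderOf g ∈
        Set.range (orderOf : Matrix.ProjectiveSpecialLinearGroup (Fin 2) F → ℕ) :=
      hspec ▸ Set.mem_range_self g
    rw [← hx]
    exact CfsgLib.PrimRecog.PSLSquare.orderOf_mem (p := p) x
  have hsep : ∀ (g : G) (r l : ℕ), l.Prime → r.Prime → r ≠ l → r ∣ orderOf g → l ∣ orderOf g →
      (r ∣ a ∧ l ∣ a) ∨ (r ∣ b ∧ l ∣ b) := by
    intro g r l hl hr hne h1 h2
    rcases hord g with h | h | h
    · exact Or.inl ⟨h1.trans h, h2.trans h⟩
    · exact Or.inr ⟨h1.trans h, h2.trans h⟩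
    · exact absurd (((Nat.prime_dvd_prime_iff_eq hr hp).1 (h1.trans h)).trans
        ((Nat.prime_dvd_prime_iff_eq hl hp).1 (h2.trans h)).symm) hne
  have hW : CfsgLib.Recog.SylowExponentTI.Weak G p := by
    refine ⟨hp, fun v ⟨k, hk⟩ => ?_, fun v hv ⟨k, hk⟩ => ?_⟩
    · obtain ⟨i, -, hi⟩ := (Nat.dvd_prime_pow hp).1 (orderOf_dvd_of_pow_eq_one hk)
      rw [← orderOf_dvd_iff_pow_eq_one]
      rcases hord v with h | h | h
      · rcases i with _ | i
        · rw [hi, pow_zero]; exact one_dvd p
        · exact absurd (((dvd_pow_self p (Nat.succ_ne_zero i)).trans hi.symm.dvd).trans h) hnpa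
      · rcases i with _ | i
        · rw [hi, pow_zero]; exact one_dvd p
        · exact absurd (((dvd_pow_self p (Nat.succ_ne_zero i)).trans hi.symm.dvd).trans h) hnpb
      · exact h
    · obtain ⟨i, -, hi⟩ := (Nat.dvd_prime_pow hp).1 (orderOf_dvd_of_pow_eq_one hk)
      have hi0 : i ≠ 0 := fun e => hv (orderOf_eq_one_iff.1 (by rw [hi, e, pow_zero]))
      refine IsPGroup.of_card (Nat.eq_prime_pow_of_unique_prime_dvd Nat.card_pos.ne' ?_)
      intro l hl hld
      by_contra hne
      haveI := Fact.mk hl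
      obtain ⟨y, hy⟩ := exists_prime_orderOf_dvd_card' l hld
      have hy' : orderOf (y : G) = l := by rwa [Subgroup.orderOf_coe]
      have hc : Commute (y : G) v := Subgroup.mem_centralizer_singleton_iff.1 y.2
      have hco : Nat.Coprime (orderOf (y : G)) (orderOf v) := by
        rw [hy', hi]; exact ((Nat.coprime_primes hl hp).2 hne).pow_right i
      have ho := hc.orderOf_mul_eq_mul_orderOf_of_coprime hco
      rw [hy', hi] at ho
      rcases hsep ((y : G) * v) p l hl hp (Ne.symm hne)
          (ho ▸ (dvd_pow_self p hi0).mul_left l) (ho ▸ dvd_mul_right l _) with h | h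
      · exact hnpa h.1
      · exact hnpb h.1
  set A := d * a * b with hA
  have hdA : d * A = q ^ 2 - 1 := by
    rw [hA, show d * (d * a * b) = (d * a) * (d * b) by ring, hea, heb, ← one_pow 2,
      Nat.sq_sub_sq, mul_comm]
    norm_num
  have hcardG : Nat.card G = q * A := by
    apply Nat.eq_of_mul_eq_mul_left hdpos
    rw [hg, mul_left_comm, hdA]
  have hdlt : d < q := by omega
  have hnA : ¬ p ∣ A := fun h => by
    have h1 : p ∣ q ^ 2 - 1 := hdA ▸ h.mul_left d
    have := Nat.dvd_sub (hpq.trans (dvd_pow_self q two_ne_zero)) h1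
    rw [Nat.sub_sub_self (Nat.one_le_pow _ _ (by omega))] at this
    exact hp.not_dvd_one this
  have hD := CfsgLib.Recog.SylowExponentData.data hW ⟨f, f.pos, hqf⟩ hdle hdA hdlt hnA hcardG
  obtain ⟨K, iK, iT, hK, ⟨e⟩⟩ : ∃ (K : Type) (_ : Field K) (_ : Fintype K), Fintype.card K = q ∧
      Nonempty (G ≃* Matrix.ProjectiveSpecialLinearGroup (Fin 2) K) := by
    by_cases hp2 : p = 2
    · subst hp2
      exact CfsgLib.Recog.CentralSylowPSLTwo.even_case hD (by omega)
    · have hodd : q % 2 = 1 := by rw [hqf]; exact Nat.odd_iff.1 ((hp.odd_of_ne_two hp2).pow)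
      have hd' : d = 2 := by rw [hd]; exact Nat.gcd_eq_left (by omega)
      refine CfsgLib.Recog.CentralSylowPSLTwo.odd_case hD hd' (by omega) fun r hr hrA => ?_
      haveI := Fact.mk hr
      obtain ⟨R⟩ : Nonempty (Sylow r G) := inferInstance
      have hrG : r ∣ Nat.card G := hcardG ▸ hrA.mul_left q
      haveI : Nontrivial (R : Subgroup G) :=
        (Subgroup.nontrivial_iff_ne_bot _).2 (R.ne_bot_of_dvd_card hrG)
      haveI := R.2.center_nontrivial
      obtain ⟨⟨⟨w, hwR⟩, hwc⟩, hw1⟩ := exists_ne (1 : Subgroup.center (R : Subgroup G))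
      have hw : w ≠ 1 := fun e => hw1 (Subtype.ext (Subtype.ext e))
      refine ⟨w, hw, ⟨R, fun y hy => ?_⟩, fun ⟨k, hk⟩ hidx => ?_⟩
      · rw [Subgroup.mem_centralizer_singleton_iff]
        exact congrArg Subtype.val (Subgroup.mem_center_iff.1 hwc ⟨y, hy⟩)
      · set C := Subgroup.centralizer ({w} : Set G) with hC
        have hCA : Nat.card C = A := by
          have h1 := C.index_mul_card
          rw [hidx, hcardG] at h1
          exact Nat.eq_of_mul_eq_mul_left (by omega) h1
        obtain ⟨i, -, hi⟩ := (Nat.dvd_prime_pow hr).1 (orderOf_dvd_of_pow_eq_one hk)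
        have hi0 : i ≠ 0 := fun e => hw (orderOf_eq_one_iff.1 (by rw [hi, e, pow_zero]))
        -- an element commuting with `w` of a prime order from the other torus
        have key : ∀ l : ℕ, l.Prime → l ∣ A → l ≠ r → (r ∣ a ∧ l ∣ a) ∨ (r ∣ b ∧ l ∣ b) := by
          intro l hl hlA hlr
          haveI := Fact.mk hl
          obtain ⟨y, hy⟩ := exists_prime_orderOf_dvd_card' l (hCA.symm ▸ hlA)
          have hy' : orderOf (y : G) = l := by rwa [Subgroup.orderOf_coe]
          have hc : Commute (y : G) w := Subgroup.mem_centralizer_singleton_iff.1 y.2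
          have hco : Nat.Coprime (orderOf (y : G)) (orderOf w) := by
            rw [hy', hi]; exact ((Nat.coprime_primes hl hr).2 hlr).pow_right i
          have ho := hc.orderOf_mul_eq_mul_orderOf_of_coprime hco
          rw [hy', hi] at ho
          exact hsep ((y : G) * w) r l hl hr hlr.symm (ho ▸ (dvd_pow_self r hi0).mul_left l)
            (ho ▸ dvd_mul_right l _)
        obtain ⟨la, hla, hlad⟩ := Nat.exists_prime_and_dvd hapos.ne'
        obtain ⟨lb, hlb, hlbd⟩ := Nat.exists_prime_and_dvd hbpos.ne'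
        have hlaA : la ∣ A := hA ▸ (hlad.mul_left d).mul_right b
        have hlbA : lb ∣ A := hA ▸ hlbd.mul_left (d * a)
        by_cases hra : r ∣ a
        · rcases key lb hlb hlbA (fun e => hab r hr hra (e ▸ hlbd)) with h | h
          · exact hab lb hlb h.2 hlbd
          · exact hab r hr hra h.1
        · rcases key la hla hlaA (fun e => hra (e ▸ hlad)) with h | h
          · exact hra h.1
          · exact hab la hla hlad h.2
  exact ⟨e.trans (CfsgLib.ClassicalGroups.pslFieldCongr (FiniteField.ringEquivOfCardEq hK))⟩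

end Cfsg.Agent.S3421
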