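import Cfsg.Statements.S3427
import Cfsg.Agent.Lib.Recog.U33Unique.GTwoFacts
import Cfsg.Agent.Lib.Recog.U33Unique.Reduce

set_option autoImplicit false
open Cfsg

namespace Cfsg.Agent.S3427

/-- Let F be the field with 2 elements and let M be the Chevalley group of type G₂ over F (a non-simple group of order 12096 whose derived subgroup, of index 2, is isomorphic to PSU(3, 3)). A finite group G is isomorphic to M if and only if G has the same set of element orders and the same order as M. -/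
theorem result {G : Type*} [Group G] [Finite G] {F : Type*} [Field F] [Fintype F] (hF : Fintype.card F = 2) :
    Nonempty (G ≃* ↥(Cfsg.Lie.chevG2.group F)) ↔
      (Set.range (orderOf : G → ℕ) = Set.range (orderOf : ↥(Cfsg.Lie.chevG2.group F) → ℕ) ∧ Nat.card G = Nat.card ↥(Cfsg.Lie.chevG2.group F)) := by
  constructor
  · rintro ⟨e⟩
    refine ⟨?_, Nat.card_congr e.toEquiv⟩
    ext n
    constructor
    · rintro ⟨g, rfl⟩
      exact ⟨e g, e.orderOf_eq g⟩
    · rintro ⟨g, rfl⟩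
      exact ⟨e.symm g, e.symm.orderOf_eq g⟩
  rintro ⟨hr, hc⟩
  haveI : Fact (Nat.Prime 2) := ⟨Nat.prime_two⟩
  haveI : Fact (Nat.Prime 3) := ⟨Nat.prime_three⟩
  haveI : CharP F 2 := charP_of_card_eq_prime hF
  let f : ZMod 2 →+* F := ZMod.castHom dvd_rfl F
  let ψ : ↥(Cfsg.Lie.chevG2.group (ZMod 2)) →* ↥(Cfsg.Lie.chevG2.group F) :=
    (Subgroup.inclusion (CfsgLib.ChevField.group_map_le f)).comp
      ((CfsgLib.ChevField.mapGL f).subgroupMap (Cfsg.Lie.chevG2.group (ZMod 2)))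
  have hFc : Nat.card ↥(Cfsg.Lie.chevG2.group F) = 12096 := by
    rw [Cfsg.Agent.S1059.result (F := F) hF]
    norm_num
  have hGc : Nat.card ↥(Cfsg.Lie.chevG2.group (ZMod 2)) = 12096 := by
    rw [Cfsg.Agent.S1059.result (F := ZMod 2) (ZMod.card 2)]
    norm_num
  haveI : Finite ↥(Cfsg.Lie.chevG2.group F) := Nat.finite_of_card_ne_zero (by rw [hFc]; norm_num)
  haveI : Finite ↥(Cfsg.Lie.chevG2.group (ZMod 2)) :=
    Nat.finite_of_card_ne_zero (by rw [hGc]; norm_num)
  have hψ : Function.Bijective ψ := by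
    refine (Nat.bijective_iff_injective_and_card _).2 ⟨fun a b e => ?_, by rw [hGc, hFc]⟩
    exact Subtype.ext (CfsgLib.ChevField.mapGL_injective f (congrArg Subtype.val e))
  let e₀ := MulEquiv.ofBijective ψ hψ
  have hM : ∀ m : ↥(Cfsg.Lie.chevG2.group F), orderOf m ≠ 9 ∧ orderOf m ≠ 14 ∧ orderOf m ≠ 21 := by
    intro m
    rw [← e₀.symm.orderOf_eq m]
    exact CfsgLib.Recog.U33Unique.centralizer_seven_gTwo _
  have hX : ∀ g : G, orderOf g ≠ 9 ∧ orderOf g ≠ 14 ∧ orderOf g ≠ 21 := by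
    intro g
    obtain ⟨m, hm⟩ : orderOf g ∈ Set.range (orderOf : ↥(Cfsg.Lie.chevG2.group F) → ℕ) := hr ▸ ⟨g, rfl⟩
    rw [← hm]
    exact hM m
  haveI := Fintype.ofFinite (GaloisField 3 2)
  have hK : Fintype.card (GaloisField 3 2) = 9 := by
    rw [← Nat.card_eq_fintype_card, GaloisField.card 3 2 (by norm_num)]
    norm_num
  obtain ⟨eG⟩ := CfsgLib.Recog.U33Unique.nonempty_equiv_mulAut hK (hc.trans hFc)
    (fun g => (hX g).1) (fun g => (hX g).2.1) (fun g => (hX g).2.2)
  obtain ⟨eM⟩ := CfsgLib.Recog.U33Unique.nonempty_equiv_mulAut hK hFc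
    (fun g => (hM g).1) (fun g => (hM g).2.1) (fun g => (hM g).2.2)
  exact ⟨eG.trans eM.symm⟩

end Cfsg.Agent.S3427
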