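import Cfsg.Statements.S3430
import Cfsg.Agent.Lib.Recog.LargeZsigmondy

set_option autoImplicit false
open Cfsg

namespace Cfsg.Agent.S3430

/-- Let q, n ≥ 2 be integers. Unless (n = 2 and q + 1 = 2^s·3^t for some s ≥ 0 and t ≤ 1), or (q = 2 and n ∈ {4, 6, 10, 12, 18}), or (q = 3 and n ∈ {4, 6}), or (q, n) = (5, 6), there is a prime p dividing q^n − 1 but no q^i − 1 with 1 ≤ i < n (a primitive prime divisor), such that p > n + 1 or p² divides q^n − 1. -/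
theorem result (q n : ℕ) (hq : 2 ≤ q) (hn : 2 ≤ n)
    (h1 : ¬ (n = 2 ∧ ∃ s t : ℕ, t ≤ 1 ∧ q + 1 = 2 ^ s * 3 ^ t))
    (h2 : ¬ (q = 2 ∧ (n = 4 ∨ n = 6 ∨ n = 10 ∨ n = 12 ∨ n = 18)))
    (h3 : ¬ (q = 3 ∧ (n = 4 ∨ n = 6))) (h4 : ¬ (q = 5 ∧ n = 6)) :
    ∃ p : ℕ, p.Prime ∧ p ∣ q ^ n - 1 ∧ (∀ i : ℕ, 1 ≤ i → i < n → ¬ p ∣ q ^ i - 1) ∧ (n + 1 < p ∨ p ^ 2 ∣ q ^ n - 1) := by
  by_contra hcon
  push Not at hcon
  have hsmall : CfsgLib.Recog.LargePPD.AllSmall q n := by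
    rintro r ⟨hr, hd, hmin⟩
    exact hcon r hr hd (fun i h1i h2i => hmin i (by omega) h2i)
  rcases eq_or_lt_of_le hn with rfl | hn3
  · apply h1
    refine ⟨rfl, ?_⟩
    have hodd : ∀ r : ℕ, r.Prime → r ≠ 2 → r ∣ q + 1 → r = 3 ∧ ¬ r ^ 2 ∣ q + 1 := by
      intro r hr hr2 hrd
      have hfac : q ^ 2 - 1 = (q + 1) * (q - 1) := by simpa using Nat.sq_sub_sq q 1
      have hpp : CfsgLib.NumberTheory.IsPPD r q 2 := by
        refine ⟨hr, hfac ▸ hrd.mul_right _, fun k hk hk2 hrk => ?_⟩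
        obtain rfl : k = 1 := by omega
        rw [pow_one] at hrk
        have h2' : r ∣ 2 := by
          have := Nat.dvd_sub hrd hrk
          rwa [show q + 1 - (q - 1) = 2 by omega] at this
        exact hr2 ((Nat.prime_dvd_prime_iff_eq hr Nat.prime_two).1 h2')
      obtain ⟨hle, hsq⟩ := hsmall r hpp
      have h3 : r = 3 := by have := hr.two_le; omega
      exact ⟨h3, fun h => hsq (hfac ▸ h.mul_right _)⟩
    obtain ⟨s, m, hm, hqm⟩ := Nat.exists_eq_pow_mul_and_not_dvd (by omega : q + 1 ≠ 0) 2 (by norm_num)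
    by_cases hm1 : m = 1
    · exact ⟨s, 0, by norm_num, by rw [hqm, hm1, pow_zero]⟩
    · refine ⟨s, 1, le_rfl, ?_⟩
      obtain ⟨r, hr, hrm⟩ := Nat.exists_prime_and_dvd hm1
      have hr2 : r ≠ 2 := fun h => hm (h ▸ hrm)
      obtain ⟨rfl, hsq⟩ := hodd r hr hr2 (hqm ▸ hrm.mul_left _)
      obtain ⟨c, rfl⟩ := hrm
      by_cases hc : c = 1
      · rw [hqm, hc, mul_one, pow_one]
      · obtain ⟨x, hx, hxc⟩ := Nat.exists_prime_and_dvd hc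
        have hx2 : x ≠ 2 := fun h => hm (h ▸ hxc.mul_left 3)
        obtain ⟨rfl, -⟩ := hodd x hx hx2 (hqm ▸ (hxc.mul_left 3).mul_left _)
        exact absurd (hqm ▸ ((show 3 ^ 2 ∣ 3 * c by rw [pow_two]; exact Nat.mul_dvd_mul_left 3 hxc).mul_left _)) hsq
  · rcases CfsgLib.Recog.LargePPD.pair_excluded hq hn3 hsmall with h | h | h
    exacts [h2 h, h3 h, h4 h]

end Cfsg.Agent.S3430
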