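import Cfsg.Statements.S3431
import Cfsg.Agent.Lib.Recog.SmallAltCounts
import Cfsg.Agent.Lib.Recog.SmallAltData

set_option autoImplicit false
open Cfsg

namespace Cfsg.Agent.S3431

/-- Let n be 4, 5 or 6 and let G be a finite group whose set of sizes of same-order classes (the set of numbers #{g : o(g) = m} over the element orders m of G) equals that of the alternating group of degree n. Then G is isomorphic to that alternating group. -/
theorem result {G : Type*} [Group G] [Finite G] (n : ℕ) (hn : n = 4 ∨ n = 5 ∨ n = 6)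
    (h : ((fun m : ℕ => Nat.card {g : G // orderOf g = m}) '' Set.range (orderOf : G → ℕ)) = ((fun m : ℕ => Nat.card {g : ↥(alternatingGroup (Fin n)) // orderOf g = m}) '' Set.range (orderOf : ↥(alternatingGroup (Fin n)) → ℕ))) :
    Nonempty (G ≃* ↥(alternatingGroup (Fin n))) := by
  classical
  have key : ∀ V : Finset ℕ,
      ((fun m : ℕ => Nat.card {g : G // orderOf g = m}) '' Set.range (orderOf : G → ℕ)) = ↑V →
      (∀ m, CfsgLib.Recog.OrderCounts.cntOrd G m ≠ 0 → CfsgLib.Recog.OrderCounts.cntOrd G m ∈ V) ∧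
      (∀ v ∈ V, ∃ m, CfsgLib.Recog.OrderCounts.cntOrd G m ≠ 0 ∧
        CfsgLib.Recog.OrderCounts.cntOrd G m = v) := by
    intro V hV
    refine ⟨fun m hm => ?_, fun v hv => ?_⟩
    · rw [← Finset.mem_coe, ← hV]
      exact ⟨m, (CfsgLib.Recog.OrderCounts.cntOrd_ne_zero_iff m).1 hm, rfl⟩
    · rw [← Finset.mem_coe, ← hV] at hv
      obtain ⟨m, hm, rfl⟩ := hv
      exact ⟨m, (CfsgLib.Recog.OrderCounts.cntOrd_ne_zero_iff m).2 hm, rfl⟩
  rcases hn with rfl | rfl | rfl
  · rw [CfsgLib.Recog.SmallAltData.image_cnt_eq 4 CfsgLib.Recog.SmallAltData.aux_four,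
      CfsgLib.Recog.SmallAltData.counts_four] at h
    exact CfsgLib.Recog.SmallAltCounts.iso_four (key _ h).1 (key _ h).2
  · rw [CfsgLib.Recog.SmallAltData.image_cnt_eq 5 CfsgLib.Recog.SmallAltData.aux_five,
      CfsgLib.Recog.SmallAltData.counts_five] at h
    exact CfsgLib.Recog.SmallAltCounts.iso_five (key _ h).1 (key _ h).2
  · rw [CfsgLib.Recog.SmallAltData.image_cnt_eq 6 CfsgLib.Recog.SmallAltData.aux_six,
      CfsgLib.Recog.SmallAltData.counts_six] at h
    exact CfsgLib.Recog.SmallAltCounts.iso_six (key _ h).1 (key _ h).2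

end Cfsg.Agent.S3431
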