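import Cfsg.Statements.S3443
import Cfsg.Agent.Lib.Recog.Isospectral

set_option autoImplicit false
open Cfsg

namespace Cfsg.Agent.S3443

/-- Let G be a finite group and V a normal elementary abelian subgroup of G (abelian of prime exponent p, possibly trivial). Then the semidirect product V ⋊ G, with G acting on V by conjugation, has exactly the same set of element orders as G. -/
theorem result {G : Type*} [Group G] [Finite G] (V : Subgroup G) [V.Normal] (p : ℕ) (hp : p.Prime)
    (hcomm : ∀ x y : V, x * y = y * x) (hexp : ∀ x : V, x ^ p = 1) :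
    Set.range (orderOf : V ⋊[MulAut.conjNormal] G → ℕ) = Set.range (orderOf : G → ℕ) := by
  have hexp' : ∀ x ∈ V, x ^ p = 1 := fun x hx => congrArg Subtype.val (hexp ⟨x, hx⟩)
  let φ : V ⋊[MulAut.conjNormal] G → CfsgLib.Recog.fiberPower V (Fin 2) := fun z =>
    ⟨![z.right, (z.left : G) * z.right], by
      have h1 : QuotientGroup.mk' V (z.left : G) = 1 := (QuotientGroup.eq_one_iff _).2 z.left.2
      intro i j
      fin_cases i <;> fin_cases j <;> simp [-QuotientGroup.mk'_apply, map_mul, h1]⟩
  let φh : V ⋊[MulAut.conjNormal] G →* CfsgLib.Recog.fiberPower V (Fin 2) :=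
    MonoidHom.mk' φ (fun a b => by
      apply Subtype.ext; funext i
      fin_cases i <;> simp [φ, MulAut.conjNormal_apply, mul_assoc])
  have hinj : Function.Injective φh := by
    intro a b h
    have h0 := congrFun (congrArg Subtype.val h) 0
    have h1 := congrFun (congrArg Subtype.val h) 1
    simp [φh, φ] at h0 h1
    rw [h0] at h1
    exact SemidirectProduct.ext (Subtype.ext (mul_right_cancel h1)) h0
  apply Set.Subset.antisymm
  · rintro _ ⟨z, rfl⟩
    rw [← orderOf_injective φh hinj z]
    exact CfsgLib.Recog.orderOf_mem_range_of_fiberPower hp hexp' _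
  · rintro _ ⟨g, rfl⟩
    exact ⟨SemidirectProduct.inr g, orderOf_injective SemidirectProduct.inr SemidirectProduct.inr_injective g⟩

end Cfsg.Agent.S3443
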