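import Cfsg.Statements.S3449
import Cfsg.Agent.Lib.Recog.PermSpectrum
import Cfsg.Agent.Lib.Spectrum.Basic

set_option autoImplicit false
open Cfsg

namespace Cfsg.Agent.S3449

/-- The direct product of three copies of the alternating group of degree 5 has exactly the same set of element orders as the cyclic group of order 30, namely the divisors of 30; in particular a direct power of a non-abelian simple group need not be determined by its element orders. -/
theorem result : Set.range (orderOf : alternatingGroup (Fin 5) × alternatingGroup (Fin 5) × alternatingGroup (Fin 5) → ℕ) =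
      Set.range (orderOf : Multiplicative (ZMod 30) → ℕ) := by
  rw [CfsgLib.Spectrum.range_orderOf_prod, CfsgLib.Spectrum.range_orderOf_prod,
    CfsgLib.Recog.range_orderOf_alternating_five]
  ext n
  constructor
  · rintro ⟨a, ha, _, ⟨b, hb, c, hc, rfl⟩, rfl⟩
    have h30 : a.lcm (b.lcm c) ∣ 30 := by
      have : ∀ x, x ∈ {k : ℕ | k ∈ [1, 2, 3, 5]} → x ∣ 30 := by
        intro x hx
        change x ∈ [1, 2, 3, 5] at hx
        fin_cases hx <;> decide
      exact Nat.lcm_dvd (this a ha) (Nat.lcm_dvd (this b hb) (this c hc))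
    refine CfsgLib.Spectrum.mem_range_orderOf_of_dvd (n := 30) ⟨Multiplicative.ofAdd (1 : ZMod 30), ?_⟩ h30
    rw [orderOf_ofAdd_eq_addOrderOf, ZMod.addOrderOf_one]
  · rintro ⟨x, rfl⟩
    have h : orderOf x ∈ Nat.divisors 30 := by
      have hdvd := orderOf_dvd_natCard x
      rw [Nat.card_congr Multiplicative.toAdd, Nat.card_zmod] at hdvd
      exact Nat.mem_divisors.2 ⟨hdvd, by norm_num⟩
    revert h
    generalize orderOf x = d
    intro h
    rw [show Nat.divisors 30 = {1, 2, 3, 5, 6, 10, 15, 30} by decide] at h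
    simp only [Finset.mem_insert, Finset.mem_singleton] at h
    simp only [Set.mem_image2, Set.mem_ofPred_eq]
    rcases h with rfl | rfl | rfl | rfl | rfl | rfl | rfl | rfl
    · exact ⟨1, by simp, _, ⟨1, by simp, 1, by simp, rfl⟩, rfl⟩
    · exact ⟨2, by simp, _, ⟨1, by simp, 1, by simp, rfl⟩, rfl⟩
    · exact ⟨3, by simp, _, ⟨1, by simp, 1, by simp, rfl⟩, rfl⟩
    · exact ⟨5, by simp, _, ⟨1, by simp, 1, by simp, rfl⟩, rfl⟩
    · exact ⟨2, by simp, _, ⟨3, by simp, 1, by simp, rfl⟩, rfl⟩
    · exact ⟨2, by simp, _, ⟨5, by simp, 1, by simp, rfl⟩, rfl⟩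
    · exact ⟨3, by simp, _, ⟨5, by simp, 1, by simp, rfl⟩, rfl⟩
    · exact ⟨2, by simp, _, ⟨3, by simp, 5, by simp, rfl⟩, rfl⟩

end Cfsg.Agent.S3449
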