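import Cfsg.Statements.S3452
import Cfsg.Agent.Lib.Recog.PGL2Prime
import Cfsg.Agent.Lib.Recog.PGL2Nine
import Cfsg.Agent.Lib.Recog.FpfSemidirect

set_option autoImplicit false
open Cfsg

namespace Cfsg.Agent.S3452

/-- For F a finite field whose number of elements is a prime or equals 9, the group PGL(2,F) = GL(2,F)/Z(GL(2,F)) is not determined by its set of element orders: for every bound N there is a finite group of order greater than N with exactly the same set of element orders as PGL(2,F). -/
theorem result {F : Type*} [Field F] [Fintype F] (hF : (Fintype.card F).Prime ∨ Fintype.card F = 9) (N : ℕ) :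
    ∃ (H : Type) (_ : Group H) (_ : Fintype H), N < Fintype.card H ∧
      Set.range (orderOf : H → ℕ) = Set.range (orderOf : Matrix.GeneralLinearGroup (Fin 2) F ⧸ Subgroup.center (Matrix.GeneralLinearGroup (Fin 2) F) → ℕ) := by
  rcases hF with hF | hF
  · haveI : Fact (Fintype.card F).Prime := ⟨hF⟩
    haveI : CharP F (Fintype.card F) := charP_of_card_eq_prime_pow (f := 1) (pow_one _).symm
    by_cases h2 : Fintype.card F = 2
    · haveI : Group.IsSolvable (Matrix.GeneralLinearGroup (Fin 2) F) := by
        classical
        let X := {v : Fin 2 → F // v ≠ 0}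
        have hX : Nat.card X ≤ 3 := by
          rw [Nat.card_eq_fintype_card, Fintype.card_subtype_compl, Fintype.card_subtype_eq, Fintype.card_fun,
            Fintype.card_fin, h2]
          norm_num
        let φ : Matrix.GeneralLinearGroup (Fin 2) F →* Equiv.Perm X :=
          { toFun := fun g =>
              { toFun := fun v => ⟨Matrix.mulVec (g : Matrix (Fin 2) (Fin 2) F) v.1, fun e => v.2 (by
                  have := congrArg (Matrix.mulVec ((g⁻¹ : Matrix.GeneralLinearGroup (Fin 2) F) : Matrix (Fin 2) (Fin 2) F)) e
                  rwa [Matrix.mulVec_mulVec, ← Units.val_mul, inv_mul_cancel, Units.val_one, Matrix.one_mulVec,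
                    Matrix.mulVec_zero] at this)⟩
                invFun := fun v => ⟨Matrix.mulVec ((g⁻¹ : Matrix.GeneralLinearGroup (Fin 2) F) : Matrix (Fin 2) (Fin 2) F) v.1, fun e => v.2 (by
                  have := congrArg (Matrix.mulVec (g : Matrix (Fin 2) (Fin 2) F)) e
                  rwa [Matrix.mulVec_mulVec, ← Units.val_mul, mul_inv_cancel, Units.val_one, Matrix.one_mulVec,
                    Matrix.mulVec_zero] at this)⟩
                left_inv := fun v => Subtype.ext (by
                  simp only
                  rw [Matrix.mulVec_mulVec, ← Units.val_mul, inv_mul_cancel, Units.val_one, Matrix.one_mulVec])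
                right_inv := fun v => Subtype.ext (by
                  simp only
                  rw [Matrix.mulVec_mulVec, ← Units.val_mul, mul_inv_cancel, Units.val_one, Matrix.one_mulVec]) }
            map_one' := Equiv.ext fun v => Subtype.ext (Matrix.one_mulVec v.1)
            map_mul' := fun a b => Equiv.ext fun v => Subtype.ext (Matrix.mulVec_mulVec v.1 (a : Matrix (Fin 2) (Fin 2) F) b).symm }
        have hφ : Function.Injective φ := by
          intro a b h
          apply Units.ext
          ext i j
          have h1 := congrArg Subtype.val (DFunLike.congr_fun h ⟨Pi.single j 1, by simp⟩)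
          have h3 := congrFun h1 i
          change Matrix.mulVec (a : Matrix (Fin 2) (Fin 2) F) (Pi.single j 1) i =
            Matrix.mulVec (b : Matrix (Fin 2) (Fin 2) F) (Pi.single j 1) i at h3
          simp only [Matrix.mulVec_single_one, Matrix.col_apply] at h3
          exact h3
        haveI := CfsgLib.Recog.Fpf.isSolvable_perm_of_card_le_three X hX
        exact Group.isSolvable_of_isSolvable_injective hφ
      refine CfsgLib.Recog.exists_large_isospectral
        (⊤ : Subgroup (Matrix.GeneralLinearGroup (Fin 2) F ⧸ Subgroup.center (Matrix.GeneralLinearGroup (Fin 2) F))) ?_ inferInstance N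
      intro e
      have hm : QuotientGroup.mk' (Subgroup.center (Matrix.GeneralLinearGroup (Fin 2) F))
          (Matrix.GeneralLinearGroup.mkOfDetNeZero !![1, 1; 0, 1] (by simp [Matrix.det_fin_two])) ∈
          (⊤ : Subgroup (Matrix.GeneralLinearGroup (Fin 2) F ⧸ Subgroup.center (Matrix.GeneralLinearGroup (Fin 2) F))) :=
        Subgroup.mem_top _
      rw [e, Subgroup.mem_bot] at hm
      have := (CfsgLib.Recog.PGL2.scalar_of_mk_eq_one hm).1
      simp at this
    · haveI : Finite (Multiplicative (CfsgLib.Recog.PGL2.lineSpace F)) :=
        inferInstanceAs (Finite (CfsgLib.Recog.PGL2.lineSpace F))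
      haveI : Finite (CfsgLib.Recog.PGL2.Ext F) := Finite.of_equiv _ SemidirectProduct.equivProd.symm
      rw [← CfsgLib.Recog.PGL2.range_orderOf_ext h2 rfl]
      refine CfsgLib.Recog.exists_large_isospectral_of_exponent
        (SemidirectProduct.rightHom : CfsgLib.Recog.PGL2.Ext F →* _).ker ?_ Nat.prime_two ?_ N
      · intro e
        have hF2 : ringChar F ≠ 2 := by rw [ringChar.eq F (Fintype.card F)]; exact h2
        obtain ⟨η, hη⟩ := FiniteField.exists_nonsquare hF2
        let v : Multiplicative (CfsgLib.Recog.PGL2.lineSpace F) := Multiplicative.ofAdd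
          ⟨_, CfsgLib.Recog.PGL2.witnessFun_mem h2 rfl !![1, η; 1, 1] (by rw [Matrix.det_fin_two_of]; simpa using hη)⟩
        have hm : (SemidirectProduct.inl v : CfsgLib.Recog.PGL2.Ext F) ∈
            (SemidirectProduct.rightHom : CfsgLib.Recog.PGL2.Ext F →* _).ker := by simp
        rw [e, Subgroup.mem_bot] at hm
        have h3 := congrArg (fun x : CfsgLib.Recog.PGL2.Ext F => (x.left.toAdd : Matrix.SpecialLinearGroup (Fin 2) F → ZMod 2) 1) hm
        simp [v, CfsgLib.Recog.PGL2.witnessFun, Matrix.trace_fin_two, one_add_one_eq_two] at h3
      · intro x hx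
        exact CfsgLib.Recog.PGL2.ext_pow_double (k := 1) x (by simpa using hx)
  · exact CfsgLib.Recog.NineFrob.unbounded hF N

end Cfsg.Agent.S3452
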