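import Cfsg.Statements.S3466
import Cfsg.Agent.Lib.Recog.PSp4Kronecker
import Cfsg.Agent.Lib.Recog.PSp43Solvable

set_option autoImplicit false
open Cfsg

namespace Cfsg.Agent.S3466

/-- Let F be a finite field with q ≥ 3 elements such that q is not of the form 3^(2t+1) with t ≥ 1. Then PSp(4,F) is not determined by its set of element orders, not even up to finitely many groups: for every bound N there is a finite group of order greater than N with exactly the same set of element orders as PSp(4,F). -/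
theorem result {F : Type*} [Field F] [Fintype F] (h3 : 3 ≤ Fintype.card F) (hq : ∀ t : ℕ, 1 ≤ t → Fintype.card F ≠ 3 ^ (2 * t + 1)) (N : ℕ) :
    ∃ (H : Type) (_ : Group H) (_ : Fintype H), N < Fintype.card H ∧ Set.range (orderOf : H → ℕ) = Set.range (orderOf : Cfsg.PSp 2 F → ℕ) := by
  classical
  obtain ⟨p, hchar⟩ := CharP.exists F
  haveI := hchar
  obtain ⟨n', hp, hcard⟩ := FiniteField.card F p
  haveI : Fact p.Prime := ⟨hp⟩
  
  rw [CfsgLib.Recog.PSp4.range_orderOf hcard]
  obtain ⟨m, hm⟩ := CfsgLib.Recog.RootPowers.exists_no_root (F := F)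
  haveI : Fact (∀ r : F, r ^ 2 ≠ m + 1 * r) := ⟨hm⟩
  let K := QuadraticAlgebra F m 1
  letI : Fintype K := Fintype.ofFinite K
  haveI : CharP K p := charP_of_injective_algebraMap (algebraMap F K).injective p
  have hK : Fintype.card K = (p ^ (n' : ℕ)) ^ 2 := by
    rw [← Nat.card_eq_fintype_card, CfsgLib.Recog.RootPowers.card_quad, Nat.card_eq_fintype_card, hcard]
  let σ : K →+* K := iterateFrobenius K p n'
  have hqK : ∀ x : K, σ x = x ^ p ^ (n' : ℕ) := fun x => iterateFrobenius_def p _ x
  have hσ : ∀ x, σ (σ x) = x := fun x => by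
    rw [hqK, hqK, ← pow_mul, ← pow_two, ← hK, FiniteField.pow_card]
  by_cases h2 : p = 2
  · rw [hcard, ← CfsgLib.Recog.PSp4Twisted.range_inner σ hqK n'.ne_zero hK h2]
    exact CfsgLib.Recog.LinearSemidirect.exists_large _ N
  by_cases h3' : p = 3
  · subst h3'
    rcases Nat.even_or_odd (n' : ℕ) with he | ⟨t, ht⟩
    · rw [hcard, ← CfsgLib.Recog.PSp4Kronecker.range_grp (K := K) _ n'.ne_zero he hK]
      exact CfsgLib.Recog.LinearSemidirect.exists_large _ N
    · have ht0 : t = 0 := by
        by_contra ht0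
        exact ‹∀ t : ℕ, 1 ≤ t → Fintype.card F ≠ 3 ^ (2 * t + 1)› t (Nat.one_le_iff_ne_zero.2 ht0) (by rw [hcard, ht])
      subst ht0
      have hF : Fintype.card F = 3 := by rw [hcard, ht]; norm_num
      obtain ⟨H, iG, iF, hs, hr⟩ := CfsgLib.Recog.TwentyExt.exists_solvable
      have hne : (⊤ : Subgroup H) ≠ ⊥ := by
        intro e
        have : Subsingleton H := Subgroup.subsingleton_iff.1 (subsingleton_of_bot_eq_top e.symm)
        have h2m : (2 : ℕ) ∈ {k | k ∈ CfsgLib.Recog.Sp43.ords} := by decide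
        rw [← hr] at h2m
        obtain ⟨g, hg⟩ := h2m
        rw [Subsingleton.elim g 1, orderOf_one] at hg
        omega
      haveI : Group.IsSolvable H := hs
      obtain ⟨G, i1, i2, hN, hG⟩ := CfsgLib.Recog.exists_large_isospectral (⊤ : Subgroup H) hne
        (Group.isSolvable_of_surjective (f := (Subgroup.topEquiv (G := H)).symm.toMonoidHom)
          (Subgroup.topEquiv (G := H)).symm.surjective) N
      refine ⟨G, i1, i2, hN, hG.trans (hr.trans ?_)⟩
      rw [← CfsgLib.Recog.Sp43.range_orderOf_psp43 hF, CfsgLib.Recog.PSp4.range_orderOf hcard]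
  · have hp5 : 5 ≤ p := by
      have := hp.two_le
      have : p ≠ 4 := fun e => absurd (e ▸ hp) (by norm_num)
      omega
    rw [hcard, ← CfsgLib.Recog.PSp4Twisted.range_outer σ hσ hqK n'.ne_zero hK hp5]
    exact CfsgLib.Recog.LinearSemidirect.exists_large _ N

end Cfsg.Agent.S3466
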