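import Cfsg.Statements.S3493
import Cfsg.Agent.Lib.PrimRecog.ExtremelyReduction

set_option autoImplicit false
open Cfsg
open CfsgLib.PrimRecog

namespace Cfsg.Agent.S3493

/-- An extremely primitive permutation group is of affine type or almost simple. Let a finite group G act faithfully and primitively on a finite set Ω with at least two points, in such a way that every point stabilizer acts primitively on each of its own orbits in Ω (an orbit of size one counts as primitive). Then either G has a non-trivial abelian normal subgroup whose elements other than the identity fix no point (affine type), or G has a non-abelian simple normal subgroup with trivial centralizer (almost simple). -/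
theorem result {G : Type*} [Group G] [Finite G] {Ω : Type*} [Fintype Ω] [MulAction G Ω] [FaithfulSMul G Ω] (hΩ : 2 ≤ Fintype.card Ω) (hprim : MulAction.IsPreprimitive G Ω) (hep : ∀ (α : Ω) (ω : Ω), MulAction.IsPreprimitive (MulAction.stabilizer G α) (MulAction.orbit (MulAction.stabilizer G α) ω)) :
    (∃ N : Subgroup G, N.Normal ∧ N ≠ ⊥ ∧ IsMulCommutative N ∧ ∀ ω : Ω, MulAction.stabilizer N ω = ⊥) ∨ (∃ T : Subgroup G, T.Normal ∧ IsSimpleGroup T ∧ ¬ IsMulCommutative T ∧ Subgroup.centralizer (T : Set G) = ⊥) := by
  have : Nontrivial Ω := Fintype.one_lt_card_iff_nontrivial.mp (by omega)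
  have := hprim.toIsPretransitive
  have : Nontrivial G := by
    obtain ⟨a, b, hab⟩ := exists_pair_ne Ω
    obtain ⟨g, hg⟩ := MulAction.exists_smul_eq G a b
    exact ⟨g, 1, fun h => hab (by rw [← hg, h, one_smul])⟩
  obtain ⟨N, hN, hN1, hmin⟩ := exists_minimal_normal (G := G)
  have htr := transitive_of_normal hprim hN hN1
  by_cases hc : IsMulCommutative N
  · exact Or.inl ⟨N, hN, hN1, hc, stabilizer_eq_bot_of_comm htr hc⟩
  right
  obtain ⟨α, -, -⟩ := exists_pair_ne Ω
  by_cases hH : MulAction.stabilizer G α = ⊥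
  · exfalso
    apply hc
    have hcoat : IsCoatom (⊥ : Subgroup G) :=
      hH ▸ MulAction.IsPreprimitive.isCoatom_stabilizer_of_isPreprimitive G α
    obtain ⟨x, hx⟩ := (N.ne_bot_iff_exists_ne_one).mp hN1
    have hz : Subgroup.zpowers (x : G) = ⊤ := by
      refine hcoat.2 _ (bot_lt_iff_ne_bot.mpr ?_)
      rw [Ne, Subgroup.zpowers_eq_bot]
      exact fun h => hx (Subtype.ext h)
    refine ⟨⟨fun a b => Subtype.ext ?_⟩⟩
    obtain ⟨i, hi⟩ : (a : G) ∈ Subgroup.zpowers (x : G) := hz ▸ Subgroup.mem_top _
    obtain ⟨j, hj⟩ : (b : G) ∈ Subgroup.zpowers (x : G) := hz ▸ Subgroup.mem_top _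
    show (a : G) * b = b * a
    rw [← hi, ← hj]
    exact zpow_mul_comm _ i j
  · refine IsEP.isAS ⟨hprim, fun β hβ => hH ?_, hep⟩ α hN hN1 hmin hc
    have h1 := card_stabilizer_eq hprim.toIsPretransitive α β
    rw [hβ, Subgroup.card_bot] at h1
    exact Subgroup.card_eq_one.mp h1

end Cfsg.Agent.S3493
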