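import Cfsg.Statements.S3495
import Cfsg.Agent.Lib.PrimRecog.Extremely

set_option autoImplicit false
open Cfsg

namespace Cfsg.Agent.S3495

/-- Let a finite group G act faithfully and primitively on a finite set Ω with non-trivial point stabilizers, each acting primitively on every one of its orbits (an extremely primitive group), and suppose G has an elementary abelian normal p-subgroup N acting regularly on Ω (affine type). Then every non-trivial subgroup M of a point stabilizer G_α that is normal in G_α has the same orbits on Ω as G_α, and normalizes no subgroup of N other than 1 and N. -/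
theorem result {G : Type*} [Group G] [Finite G] {Ω : Type*} [Fintype Ω] [MulAction G Ω] [FaithfulSMul G Ω] (hprim : MulAction.IsPreprimitive G Ω) (hH : ∀ α : Ω, MulAction.stabilizer G α ≠ ⊥) (hep : ∀ (α : Ω) (ω : Ω), MulAction.IsPreprimitive (MulAction.stabilizer G α) (MulAction.orbit (MulAction.stabilizer G α) ω))
    (N : Subgroup G) [N.Normal] (hNc : IsMulCommutative N) (p : ℕ) (hp : p.Prime) (hNp : ∀ n ∈ N, n ^ p = 1)
    (hNtr : MulAction.IsPretransitive N Ω) (hNreg : ∀ ω : Ω, MulAction.stabilizer N ω = ⊥) (α : Ω) (M : Subgroup G) (hM : M ≠ ⊥) (hMle : M ≤ MulAction.stabilizer G α)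
    (hMn : MulAction.stabilizer G α ≤ Subgroup.normalizer (M : Set G)) :
    (∀ ω : Ω, MulAction.orbit M ω = MulAction.orbit (MulAction.stabilizer G α) ω) ∧
    (∀ L : Subgroup G, L ≤ N → M ≤ Subgroup.normalizer (L : Set G) → L = ⊥ ∨ L = N) := by
  have hG : CfsgLib.PrimRecog.IsEP G Ω := ⟨hprim, hH, hep⟩
  have horb : ∀ ω : Ω, MulAction.orbit M ω = MulAction.orbit (MulAction.stabilizer G α) ω :=
    hG.orbit_eq hMle (fun h hh k hk => (Subgroup.mem_normalizer_iff.mp (hMn hh) k).mp hk) hM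
  refine ⟨horb, fun L hLN hLM => ?_⟩
  have hfree : ∀ n ∈ N, ∀ k ∈ N, n • α = k • α → n = k := fun n hn k hk he => by
    have : (⟨k⁻¹ * n, N.mul_mem (N.inv_mem hk) hn⟩ : N) ∈ MulAction.stabilizer N α := by
      rw [MulAction.mem_stabilizer_iff, Subgroup.mk_smul, mul_smul, he, inv_smul_smul]
    rw [hNreg α, Subgroup.mem_bot, Subtype.ext_iff] at this
    exact (inv_mul_eq_one.mp this).symm
  have hconj : ∀ g ∈ MulAction.stabilizer G α, ∀ n : G, (g * n * g⁻¹) • α = g • n • α := by
    intro g hg n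
    have hg' : g⁻¹ • α = α := (MulAction.stabilizer G α).inv_mem hg
    rw [mul_smul, mul_smul, hg']
  have hLH : ∀ g ∈ MulAction.stabilizer G α, ∀ n ∈ L, g * n * g⁻¹ ∈ L := by
    intro g hg n hn
    have h1 : g • n • α ∈ MulAction.orbit M (n • α) := by
      rw [horb]; exact ⟨⟨g, hg⟩, rfl⟩
    obtain ⟨⟨m, hm⟩, hmn⟩ := h1
    change m • n • α = g • n • α at hmn
    have hmL : m * n * m⁻¹ ∈ L := (Subgroup.mem_normalizer_iff.mp (hLM hm) n).mp hn
    rw [hfree _ ((inferInstance : N.Normal).conj_mem n (hLN hn) g) _ (hLN hmL)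
      (by rw [hconj g hg, hconj m (hMle hm), hmn])]
    exact hmL
  have hLnormal : L.Normal := ⟨fun n hn g => by
    obtain ⟨⟨k, hk⟩, hkg⟩ := hNtr.exists_smul_eq α (g • α)
    change k • α = g • α at hkg
    have hh : k⁻¹ * g ∈ MulAction.stabilizer G α := by
      rw [MulAction.mem_stabilizer_iff, mul_smul, ← hkg, inv_smul_smul]
    have hmem := hLH _ hh n hn
    have hkc : k * ((k⁻¹ * g) * n * (k⁻¹ * g)⁻¹) * k⁻¹ = (k⁻¹ * g) * n * (k⁻¹ * g)⁻¹ :=
      mul_inv_eq_iff_eq_mul.mpr (congrArg Subtype.val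
        (hNc.is_comm.comm (⟨k, hk⟩ : N) ⟨_, hLN hmem⟩))
    rw [← hkc] at hmem
    simpa [mul_assoc] using hmem⟩
  by_cases hL : L = ⊥
  · exact Or.inl hL
  refine Or.inr (le_antisymm hLN fun n hn => ?_)
  have := CfsgLib.PrimRecog.transitive_of_normal hprim hLnormal hL
  obtain ⟨⟨l, hl⟩, hln⟩ := this.exists_smul_eq α (n • α)
  rw [← hfree l (hLN hl) n hn hln]
  exact hl

end Cfsg.Agent.S3495
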