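import Cfsg.Statements.S3496
import Cfsg.Agent.Lib.PrimRecog.ExtremelyFitting
import Cfsg.Agent.Lib.PrimRecog.IrreducibleAbelian

set_option autoImplicit false
open Cfsg
open CfsgLib.PrimRecog

namespace Cfsg.Agent.S3496

/-- The soluble extremely primitive groups. Let a finite solvable group G act faithfully and primitively on a finite set Ω with p ^ d points (p prime), with non-trivial point stabilizers each acting primitively on every one of its orbits. Then there is a prime q such that every orbit of a point stabilizer G_α other than {α} has exactly q points, q divides p ^ d − 1 but no p ^ i − 1 with 0 < i < d, and G_α has a normal subgroup T of order q with G_α generated by T and one further element and the order of G_α dividing q·d (so G_α is cyclic of order q, or an extension of T by a cyclic group of order dividing d). -/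
theorem result {G : Type*} [Group G] [Finite G] {Ω : Type*} [Fintype Ω] [MulAction G Ω] [FaithfulSMul G Ω] [Group.IsSolvable G] (p d : ℕ) (hp : p.Prime) (hcard : Fintype.card Ω = p ^ d)
    (hprim : MulAction.IsPreprimitive G Ω) (hH : ∀ α : Ω, MulAction.stabilizer G α ≠ ⊥) (hep : ∀ (α : Ω) (ω : Ω), MulAction.IsPreprimitive (MulAction.stabilizer G α) (MulAction.orbit (MulAction.stabilizer G α) ω)) (α : Ω) :
    ∃ q : ℕ, q.Prime ∧ (∀ ω : Ω, ω ≠ α → Nat.card (MulAction.orbit (MulAction.stabilizer G α) ω) = q) ∧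
      q ∣ p ^ d - 1 ∧ (∀ i : ℕ, 0 < i → i < d → ¬ q ∣ p ^ i - 1) ∧
      ∃ T : Subgroup G, T ≤ MulAction.stabilizer G α ∧ MulAction.stabilizer G α ≤ Subgroup.normalizer (T : Set G) ∧ Nat.card T = q ∧
        (∃ h : G, MulAction.stabilizer G α = T ⊔ Subgroup.zpowers h) ∧ Nat.card (MulAction.stabilizer G α) ∣ q * d := by
  have hG : IsEP G Ω := ⟨hprim, hH, hep⟩
  have htr := hG.transitive
  have := hG.nontrivial α
  have : Nontrivial G := by
    obtain ⟨a, b, hab⟩ := exists_pair_ne Ω
    obtain ⟨g, hg⟩ := MulAction.exists_smul_eq G a b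
    exact ⟨g, 1, fun h => hab (by rw [← hg, h, one_smul])⟩
  set H := MulAction.stabilizer G α with hHdef
  -- the translation group
  obtain ⟨N, hN, hN1, hmin⟩ := exists_minimal_normal (G := G)
  have hNtr : MulAction.IsPretransitive N Ω := transitive_of_normal hprim hN hN1
  have hNc : IsMulCommutative N := by
    by_contra hc
    rcases hmin ⁅N, N⁆ inferInstance (Subgroup.commutator_le_self N) with h | h
    · refine hc ⟨⟨fun a b => Subtype.ext ?_⟩⟩
      exact (Subgroup.mem_centralizer_iff.mp
        (Subgroup.commutator_eq_bot_iff_le_centralizer.mp h a.2) b b.2).symm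
    · have : Nontrivial N := (Subgroup.nontrivial_iff_ne_bot N).mpr hN1
      have hlt := Group.IsSolvable.commutator_lt_top_of_nontrivial N
      refine hlt.ne (Subgroup.map_injective N.subtype_injective ?_)
      rw [commutator_def, Subgroup.map_commutator, ← MonoidHom.range_eq_map, Subgroup.range_subtype, h]
  have hNreg := stabilizer_eq_bot_of_comm hNtr hNc
  have hNcard : Nat.card N = p ^ d := by
    rw [← Subgroup.index_mul_card (MulAction.stabilizer N α), MulAction.index_stabilizer_of_transitive,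
      hNreg, Subgroup.card_bot, mul_one, Nat.card_eq_fintype_card, hcard]
  obtain ⟨r, hr, hrpow⟩ := exists_prime_exponent hN hN1 hmin hNc
  have hrp : r = p := by
    obtain ⟨x, hx⟩ := (N.ne_bot_iff_exists_ne_one).mp hN1
    have h1 : orderOf x ∣ r := orderOf_dvd_of_pow_eq_one (Subtype.ext (by simpa using hrpow x x.2))
    have h2 : orderOf x = r := ((Nat.dvd_prime hr).mp h1).resolve_left
      fun h => hx (orderOf_eq_one_iff.mp h)
    have h3 : r ∣ p ^ d := hNcard ▸ h2 ▸ orderOf_dvd_natCard x
    exact (Nat.prime_dvd_prime_iff_eq hr hp).mp (hr.dvd_of_dvd_pow h3)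
  subst hrp
  -- the abelian normal subgroup of the stabilizer
  have : Nontrivial H := (Subgroup.nontrivial_iff_ne_bot H).mpr (hH α)
  obtain ⟨A, hA, hn, hA1, hab, -⟩ :=
    hG.exists_abelian_of_fitting (CfsgLib.Fitting.fitting_ne_bot (G := H))
  letI : CommGroup A :=
    { (inferInstance : Group A) with mul_comm := fun a b => Subtype.ext (hab a a.2 b b.2) }
  letI : CommGroup N :=
    { (inferInstance : Group N) with mul_comm := fun a b => hNc.is_comm.comm a b }
  let c : G →* MulAut N := MulAut.conjNormal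
  let ρ : A →* AddMonoid.End (Additive N) :=
    { toFun := fun a => MonoidHom.toAdditive (c a).toMonoidHom
      map_one' := by
        refine AddMonoidHom.ext fun v => ?_
        rw [OneMemClass.coe_one, map_one]
        rfl
      map_mul' := fun a b => by
        refine AddMonoidHom.ext fun v => ?_
        rw [Subgroup.coe_mul, map_mul]
        rfl }
  have hρ : ∀ (a : A) (v : Additive N),
      ((Additive.toMul (ρ a v) : N) : G) = (a : G) * (Additive.toMul v : N) * (a : G)⁻¹ :=
    fun a v => rfl
  have hρinj : Function.Injective ρ := by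
    refine (injective_iff_map_eq_one ρ).mpr fun a ha => Subtype.ext (by_contra fun h1 => ?_)
    refine isDer_of_commute hNtr (fun m hm => ?_) h1 α (hA a.2)
    have h2 := hρ a (Additive.ofMul ⟨m, hm⟩)
    rw [ha] at h2
    exact (mul_inv_eq_iff_eq_mul.mp h2.symm).symm
  have : Nontrivial N := (Subgroup.nontrivial_iff_ne_bot N).mpr hN1
  have hirr : ∀ W : AddSubgroup (Additive N), (∀ a : A, ∀ w ∈ W, ρ a w ∈ W) → W = ⊥ ∨ W = ⊤ := by
    intro W hW
    rcases hG.invariant_cases hN hNtr hNc hA hn hA1
      (L := (AddSubgroup.toSubgroup' W).map N.subtype) (Subgroup.map_subtype_le _) (by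
        rintro m hm _ ⟨n, hn', rfl⟩
        exact ⟨_, hW ⟨m, hm⟩ (Additive.ofMul n) hn', rfl⟩) with h | h
    · left
      have h' := (Subgroup.map_eq_bot_iff_of_injective _ N.subtype_injective).mp h
      exact (map_eq_bot_iff AddSubgroup.toSubgroup').mp h'
    · right
      refine (map_eq_top_iff AddSubgroup.toSubgroup').mp (Subgroup.map_injective N.subtype_injective ?_)
      rw [h, ← MonoidHom.range_eq_map, Subgroup.range_subtype]
  obtain ⟨hcyc, hnd, hdvd, haut⟩ := irreducible_abelian r d hr
    (by rw [Nat.card_congr (Additive.toMul (α := N)), hNcard])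
    (fun v => congrArg Additive.ofMul
      (Subtype.ext (by simpa using hrpow _ (Additive.toMul v : N).2) : (Additive.toMul v : N) ^ r = 1))
    ρ hρinj hirr
  -- `A` has prime order
  have hq : (Nat.card A).Prime := by
    have : Nontrivial A := (Subgroup.nontrivial_iff_ne_bot A).mpr hA1
    obtain ⟨q, hq, hqd⟩ := Nat.exists_prime_and_dvd (Finite.one_lt_card (α := A)).ne'
    have := Fact.mk hq
    obtain ⟨x, hx⟩ := exists_prime_orderOf_dvd_card' q hqd
    let K : Subgroup G :=
      { carrier := {a | a ∈ A ∧ a ^ q = 1}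
        one_mem' := ⟨A.one_mem, one_pow q⟩
        mul_mem' := fun {a b} ha hb => ⟨A.mul_mem ha.1 hb.1, by
          rw [Commute.mul_pow (hab a ha.1 b hb.1), ha.2, hb.2, one_mul]⟩
        inv_mem' := fun {a} ha => ⟨A.inv_mem ha.1, by rw [inv_pow, ha.2, inv_one]⟩ }
    have hK : K = A := hG.eq_of_le_comm hA hn hab (fun a ha => ha.1)
      (fun h hh k hk => ⟨hn h hh k hk.1, by rw [conj_pow, hk.2]; simp⟩) (by
        intro h
        have hxK : (x : G) ∈ K := ⟨x.2, by rw [← hx, ← Subgroup.orderOf_coe, pow_orderOf_eq_one]⟩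
        rw [h, Subgroup.mem_bot] at hxK
        rw [← Subgroup.orderOf_coe, hxK, orderOf_one] at hx
        exact hq.ne_one hx.symm)
    obtain ⟨g, hg⟩ := IsCyclic.exists_ofOrder_eq_natCard (α := A)
    have h1 : orderOf g ∣ q := by
      refine orderOf_dvd_of_pow_eq_one (Subtype.ext ?_)
      have : (g : G) ∈ K := hK.symm ▸ g.2
      simpa using this.2
    rw [hg] at h1
    rwa [((Nat.dvd_prime hq).mp h1).resolve_left (Finite.one_lt_card (α := A)).ne']
  refine ⟨Nat.card A, hq, fun ω hω => hG.card_orbit_eq hω hA hn hA1 hab, hdvd, hnd, A, hA,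
    fun h hh => ?_, rfl, ?_⟩
  · refine Subgroup.mem_normalizer_iff.mpr fun x => ⟨hn h hh x, fun hx => ?_⟩
    have := hn h⁻¹ (H.inv_mem hh) _ hx
    simpa [mul_assoc] using this
  -- the quotient by `A` acts by Frobenius powers
  let A' : Subgroup H := A.subgroupOf H
  have hA'n : A'.Normal := normal_subgroupOf_stab hn
  let ψ : H →* MulAut A :=
    (MulAut.congr (Subgroup.subgroupOfEquivOfLe hA)).toMonoidHom.comp (MulAut.conjNormal (H := A'))
  have hψ : ∀ (h : H) (a : A), ((ψ h a : A) : G) = (h : G) * a * (h : G)⁻¹ := fun h a => rfl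
  have hpow : ∀ h : H, ψ h ^ d = 1 := by
    intro h
    let ξ : Additive N ≃+ Additive N := MulEquiv.toAdditive (c (h : G))
    obtain ⟨j, hj⟩ := haut (ψ h) ξ (fun a v => Additive.toMul.injective (Subtype.ext (by
      show (h : G) * ((a : G) * (Additive.toMul v : N) * (a : G)⁻¹) * (h : G)⁻¹ =
        ((h : G) * a * (h : G)⁻¹) * ((h : G) * (Additive.toMul v : N) * (h : G)⁻¹) *
          ((h : G) * a * (h : G)⁻¹)⁻¹
      group)))
    have hiter : ∀ k : ℕ, ∀ a : A, (ψ h ^ k) a = a ^ (r ^ j) ^ k := by
      intro k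
      induction k with
      | zero => intro a; simp
      | succ k ih =>
        intro a
        rw [pow_succ', MulAut.mul_apply, ih, map_pow, hj, ← pow_mul, ← pow_succ']
    refine MulEquiv.ext fun a => ?_
    rw [hiter, ← pow_mul, MulAut.one_apply]
    have hdd : Nat.card A ∣ r ^ (j * d) - 1 := hdvd.trans (by
      rw [mul_comm, pow_mul]
      exact Nat.sub_one_dvd_pow_sub_one _ _)
    obtain ⟨m, hm⟩ := hdd
    rw [show r ^ (j * d) = Nat.card A * m + 1 by
      have := Nat.one_le_pow (j * d) r hr.pos; omega,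
      pow_succ, pow_mul, pow_card_eq_one', one_pow, one_mul]
  have : IsCyclic A := hcyc
  have : Fact (Nat.card A).Prime := ⟨hq⟩
  have : IsCyclic (MulAut A) := isCyclic_of_surjective (IsCyclic.mulAutMulEquiv A).symm.toMonoidHom
    (IsCyclic.mulAutMulEquiv A).symm.surjective
  obtain ⟨⟨_, h₀, rfl⟩, hgen⟩ := IsCyclic.exists_generator (α := ψ.range)
  have hker : ∀ x : H, ψ x = 1 ↔ (x : G) ∈ A := by
    intro x
    constructor
    · intro hx
      refine hG.mem_of_commute hA hn hA1 hab x.2 fun a ha => ?_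
      have h1 := hψ x ⟨a, ha⟩
      rw [hx] at h1
      exact mul_inv_eq_iff_eq_mul.mp h1.symm
    · intro hx
      refine MulEquiv.ext fun a => Subtype.ext ?_
      rw [hψ]
      exact mul_inv_eq_iff_eq_mul.mpr (hab _ hx a a.2)
  refine ⟨⟨(h₀ : G), le_antisymm (fun x hx => ?_) (sup_le hA (Subgroup.zpowers_le.mpr h₀.2))⟩, ?_⟩
  · obtain ⟨k, hk⟩ := hgen ⟨ψ ⟨x, hx⟩, ⟨x, hx⟩, rfl⟩
    have h1 : (ψ h₀) ^ k = ψ ⟨x, hx⟩ := congrArg Subtype.val hk
    have h2 : ψ (⟨x, hx⟩ * (h₀ ^ k)⁻¹) = 1 := by rw [map_mul, map_inv, map_zpow, h1, mul_inv_cancel]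
    have h3 : x * ((h₀ : G) ^ k)⁻¹ ∈ A := by
      have := (hker _).mp h2
      rw [Subgroup.coe_mul, Subgroup.coe_inv, Subgroup.coe_zpow] at this
      exact this
    have h4 := Subgroup.mul_mem_sup h3 (Subgroup.zpow_mem_zpowers (h₀ : G) k)
    rwa [inv_mul_cancel_right] at h4
  · have hker' : ψ.ker = A' := by ext x; rw [MonoidHom.mem_ker, hker]; rfl
    rw [← Subgroup.card_mul_index ψ.ker, hker', Nat.card_congr (Subgroup.subgroupOfEquivOfLe hA).toEquiv,
      ← hker', Subgroup.index_ker]
    refine Nat.mul_dvd_mul_left _ ?_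
    rw [← orderOf_eq_card_of_forall_mem_zpowers hgen]
    exact orderOf_dvd_of_pow_eq_one (Subtype.ext (hpow h₀))

end Cfsg.Agent.S3496
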