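import Cfsg.Statements.S3497
import Cfsg.Agent.Lib.PrimRecog.ExtremelyFitting

set_option autoImplicit false
open Cfsg
open CfsgLib.PrimRecog

namespace Cfsg.Agent.S3497

/-- An action on an elementary abelian group of order `p ^ e` is given by invertible matrices. -/
lemma exists_hom_GL {H A : Type*} [Group H] [Group A] [Finite A] (p e : ℕ) [Fact p.Prime]
    (he : Nat.card A = p ^ e) (hc : ∀ a b : A, a * b = b * a) (hp : ∀ a : A, a ^ p = 1)
    (c : H →* MulAut A) : ∃ φ : H →* GL (Fin e) (ZMod p), φ.ker = c.ker := by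
  classical
  letI : CommGroup A := { (inferInstance : Group A) with mul_comm := hc }
  letI : Module (ZMod p) (Additive A) :=
    AddCommGroup.zmodModule (n := p) fun x => congrArg Additive.ofMul (hp (Additive.toMul x))
  have hfin : Module.Finite (ZMod p) (Additive A) := Module.Finite.of_finite
  have hcard := @Module.natCard_eq_pow_finrank (ZMod p) (Additive A) _ _ _ hfin
  rw [Nat.card_zmod, Nat.card_congr (Additive.toMul (α := A)), he] at hcard
  have hrank : Module.finrank (ZMod p) (Additive A) = e :=
    (Nat.pow_right_injective (Fact.out : p.Prime).two_le hcard).symm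
  let b : Module.Basis (Fin e) (ZMod p) (Additive A) :=
    @Module.finBasisOfFinrankEq (ZMod p) (Additive A) _ _ _ _ _ hfin e hrank
  let f : H →* Module.End (ZMod p) (Additive A) :=
    { toFun := fun h => (MonoidHom.toAdditive (c h).toMonoidHom).toZModLinearMap p
      map_one' := by
        refine LinearMap.ext fun x => ?_
        rw [map_one]
        rfl
      map_mul' := fun g h => by
        refine LinearMap.ext fun x => ?_
        rw [map_mul]
        rfl }
  refine ⟨((LinearMap.toMatrixAlgEquiv b).toMulEquiv.toMonoidHom.comp f).toHomUnits, ?_⟩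
  ext h
  rw [MonoidHom.mem_ker, MonoidHom.mem_ker]
  have key : f h = 1 ↔ c h = 1 := by
    constructor
    · intro h1
      exact MulEquiv.ext fun x => congrArg Additive.toMul (LinearMap.congr_fun h1 (Additive.ofMul x))
    · intro h1
      refine LinearMap.ext fun x => ?_
      exact congrArg Additive.ofMul (DFunLike.congr_fun h1 (Additive.toMul x))
  rw [← key, Units.ext_iff]
  simp only [MonoidHom.coe_toHomUnits, MonoidHom.comp_apply, Units.val_one]
  exact ⟨fun h1 => (LinearMap.toMatrixAlgEquiv b).injective (h1.trans (map_one _).symm),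
    fun h1 => by rw [h1]; exact map_one _⟩

/-- Restrictions on the point stabilizer of an extremely primitive group. Let a finite group G act faithfully and primitively on a finite set Ω with point stabilizers H = G_α whose order is neither 1 nor a prime, each acting primitively on every one of its orbits. Then H has trivial center, the Fitting subgroup F(H) is an elementary abelian p-group for some prime p, and if F(H) ≠ 1 has order p ^ e then p ^ e divides the number of points minus one and H / F(H) embeds in GL_e(p) (there is a homomorphism from H to GL_e(p) with kernel exactly F(H)). -/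
theorem result {G : Type*} [Group G] [Finite G] {Ω : Type*} [Fintype Ω] [MulAction G Ω] [FaithfulSMul G Ω] (hprim : MulAction.IsPreprimitive G Ω) (hep : ∀ (α : Ω) (ω : Ω), MulAction.IsPreprimitive (MulAction.stabilizer G α) (MulAction.orbit (MulAction.stabilizer G α) ω)) (α : Ω)
    (hH1 : MulAction.stabilizer G α ≠ ⊥) (hHp : ¬ (Nat.card (MulAction.stabilizer G α)).Prime) :
    Subgroup.center (MulAction.stabilizer G α) = ⊥ ∧
    IsMulCommutative (Cfsg.fittingSubgroup (MulAction.stabilizer G α)) ∧
    ∃ p e : ℕ, p.Prime ∧ Nat.card (Cfsg.fittingSubgroup (MulAction.stabilizer G α)) = p ^ e ∧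
      (∀ x ∈ Cfsg.fittingSubgroup (MulAction.stabilizer G α), x ^ p = 1) ∧
      (Cfsg.fittingSubgroup (MulAction.stabilizer G α) ≠ ⊥ →
        p ^ e ∣ Fintype.card Ω - 1 ∧
        ∃ φ : MulAction.stabilizer G α →* GL (Fin e) (ZMod p), φ.ker = Cfsg.fittingSubgroup (MulAction.stabilizer G α)) := by
  have htr := hprim.toIsPretransitive
  have hH : ∀ β : Ω, MulAction.stabilizer G β ≠ ⊥ := by
    intro β hβ
    apply hH1
    have := CfsgLib.PrimRecog.card_stabilizer_eq htr α β
    rw [hβ, Subgroup.card_bot] at this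
    exact Subgroup.card_eq_one.mp this
  have hG : IsEP G Ω := ⟨hprim, hH, hep⟩
  set H := MulAction.stabilizer G α with hHdef
  refine ⟨?_, ?_⟩
  · -- the centre is trivial
    by_contra hZ
    set A := (Subgroup.center H).map H.subtype
    have hA : A ≤ H := Subgroup.map_subtype_le _
    have hcent : ∀ h ∈ H, ∀ a ∈ A, h * a = a * h := by
      rintro h hh _ ⟨z, hz, rfl⟩
      exact congrArg Subtype.val (Subgroup.mem_center_iff.mp hz ⟨h, hh⟩)
    have hn : ∀ h ∈ H, ∀ k ∈ A, h * k * h⁻¹ ∈ A := by
      intro h hh k hk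
      rw [hcent h hh k hk, mul_inv_cancel_right]; exact hk
    have hA1 : A ≠ ⊥ := fun h =>
      hZ ((Subgroup.map_eq_bot_iff_of_injective _ H.subtype_injective).mp h)
    have hab : ∀ a ∈ A, ∀ b ∈ A, a * b = b * a := fun a ha b hb => hcent a (hA ha) b hb
    have hHA : A = H := le_antisymm hA fun h hh => hG.mem_of_commute hA hn hA1 hab hh (hcent h hh)
    apply hHp
    have hab' : ∀ a ∈ H, ∀ b ∈ H, a * b = b * a := by rw [← hHA]; exact hab
    have : Nontrivial H := (Subgroup.nontrivial_iff_ne_bot H).mpr hH1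
    obtain ⟨r, hr, hd⟩ := Nat.exists_prime_and_dvd (Finite.one_lt_card (α := H)).ne'
    have := Fact.mk hr
    obtain ⟨x, hx⟩ := exists_prime_orderOf_dvd_card' r hd
    have hle : Subgroup.zpowers (x : G) ≤ H := Subgroup.zpowers_le.mpr x.2
    have heq : Subgroup.zpowers (x : G) = H := by
      refine hG.eq_of_le_comm le_rfl (fun h hh k hk => H.mul_mem (H.mul_mem hh hk) (H.inv_mem hh))
        hab' hle (fun h hh k hk => ?_) ?_
      · rw [hab' h hh k (hle hk), mul_inv_cancel_right]; exact hk
      · intro h
        rw [Subgroup.zpowers_eq_bot] at h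
        rw [← Subgroup.orderOf_coe, h, orderOf_one] at hx
        exact hr.ne_one hx.symm
    have : Nat.card H = r := by rw [← heq, Nat.card_zpowers, Subgroup.orderOf_coe, hx]
    rwa [this]
  by_cases hF : Cfsg.fittingSubgroup H = ⊥
  · refine ⟨by rw [hF]; infer_instance, 2, 0, Nat.prime_two, by rw [hF, Subgroup.card_bot, pow_zero],
      fun x hx => ?_, fun h => absurd hF h⟩
    rw [hF, Subgroup.mem_bot] at hx
    rw [hx, one_pow]
  obtain ⟨A, hA, hn, hA1, hab, hAF⟩ := hG.exists_abelian_of_fitting hF
  set F := Cfsg.fittingSubgroup H with hFdef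
  have hFn : F.Normal := CfsgLib.Fitting.fitting_normal
  have hFc : IsMulCommutative F := ⟨⟨fun a b => Subtype.ext (Subtype.ext
    (hab _ (hAF ▸ ⟨a.1, a.2, rfl⟩) _ (hAF ▸ ⟨b.1, b.2, rfl⟩)))⟩⟩
  have hmin : ∀ K : Subgroup H, K.Normal → K ≤ F → K = ⊥ ∨ K = F := by
    intro K hK hle
    by_cases hK1 : K = ⊥
    · exact Or.inl hK1
    refine Or.inr (Subgroup.map_injective H.subtype_injective ?_)
    rw [← hAF]
    refine hG.eq_of_le_comm hA hn hab (hAF ▸ Subgroup.map_mono hle) ?_
      (fun h => hK1 ((Subgroup.map_eq_bot_iff_of_injective _ H.subtype_injective).mp h))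
    rintro h hh _ ⟨k, hk, rfl⟩
    exact ⟨⟨h, hh⟩ * k * ⟨h, hh⟩⁻¹, hK.conj_mem k hk _, rfl⟩
  obtain ⟨p, hp, hpow⟩ := exists_prime_exponent hFn hF hmin hFc
  have := Fact.mk hp
  have hPG : IsPGroup p F := fun x => ⟨1, Subtype.ext (by simpa using hpow x x.2)⟩
  obtain ⟨e, he⟩ := IsPGroup.iff_card.mp hPG
  refine ⟨hFc, p, e, hp, he, hpow, fun _ => ⟨?_, ?_⟩⟩
  · have hd := hG.card_dvd_degree_sub_one hA hn hA1 hab
    rwa [hAF, Subgroup.card_map_of_injective H.subtype_injective, he,
      Nat.card_eq_fintype_card] at hd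
  · obtain ⟨φ, hφ⟩ := exists_hom_GL (A := F) p e he
      (fun a b => hFc.is_comm.comm a b) (fun a => Subtype.ext (by simpa using hpow a a.2))
      (MulAut.conjNormal (H := F) : H →* MulAut F)
    refine ⟨φ, ?_⟩
    rw [hφ]
    ext h
    rw [MonoidHom.mem_ker]
    constructor
    · intro hh
      have hm : (h : G) ∈ A := by
        refine hG.mem_of_commute hA hn hA1 hab h.2 fun a ha => ?_
        rw [hAF] at ha
        obtain ⟨x, hx, rfl⟩ := ha
        have h2 := congrArg Subtype.val (DFunLike.congr_fun hh (⟨x, hx⟩ : F))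
        rw [MulAut.conjNormal_apply] at h2
        exact congrArg Subtype.val (mul_inv_eq_iff_eq_mul.mp h2)
      rw [hAF] at hm
      obtain ⟨x, hx, hxh⟩ := hm
      rwa [← Subtype.ext hxh]
    · intro hh
      refine MulEquiv.ext fun x => Subtype.ext ?_
      rw [MulAut.conjNormal_apply]
      exact mul_inv_eq_iff_eq_mul.mpr (congrArg Subtype.val (hFc.is_comm.comm ⟨h, hh⟩ x))

end Cfsg.Agent.S3497
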