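import Cfsg.Statements.S3498
import Cfsg.Agent.Lib.PrimRecog.Basic

set_option autoImplicit false
open Cfsg

namespace Cfsg.Agent.S3498

/-- A maximal subgroup of a finite almost simple group does not have prime order. Here G is almost simple in the sense that it has a non-abelian simple normal subgroup T with trivial centralizer. -/
theorem result {G : Type*} [Group G] [Finite G] (T : Subgroup G) [T.Normal] (hT : IsSimpleGroup T) (hTc : ¬ IsMulCommutative T)
    (hC : Subgroup.centralizer (T : Set G) = ⊥) (H : Subgroup G) (hmax : IsCoatom H) : ¬ (Nat.card H).Prime := by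
  intro hp
  set p := Nat.card H with hpdef
  have := Fact.mk hp
  have hTab : ∀ f : T →* H, Function.Injective f → False := fun f hf => hTc
    ⟨⟨fun a b => hf (by
      have := isCyclic_of_prime_card (α := H) (p := p) rfl
      obtain ⟨c, hc⟩ := IsCyclic.exists_generator (α := H)
      obtain ⟨i, hi⟩ := hc (f a)
      obtain ⟨j, hj⟩ := hc (f b)
      rw [map_mul, map_mul, ← hi, ← hj]
      exact zpow_mul_comm c i j)⟩⟩
  have hHn : ¬ H.Normal := by
    intro hn
    rcases hT.eq_bot_or_eq_top_of_normal (H.subgroupOf T) inferInstance with h | h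
    · refine hp.ne_one (Subgroup.card_eq_one.mpr (eq_bot_iff.mpr (hC ▸ ?_)))
      intro x hx
      refine Subgroup.mem_centralizer_iff.mpr fun t ht => ?_
      have hdisj : Disjoint T H := (Subgroup.subgroupOf_eq_bot.mp h).symm
      exact Subgroup.commute_of_normal_of_disjoint T H inferInstance hn hdisj t x ht hx
    · exact hTab (Subgroup.inclusion (Subgroup.subgroupOf_eq_top.mp h))
        (Subgroup.inclusion_injective _)
  have hself : Subgroup.normalizer (H : Set G) = H :=
    (hmax.le_iff.mp Subgroup.le_normalizer).resolve_left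
      fun h => hHn (Subgroup.normalizer_eq_top_iff.mp h)
  have hHp : IsPGroup p H := IsPGroup.of_card (n := 1) (by rw [pow_one])
  obtain ⟨P, hP⟩ := hHp.exists_le_sylow
  have hPH : (P : Subgroup G) = H := by
    by_contra hne
    have hlt : H.subgroupOf P < ⊤ :=
      lt_top_iff_ne_top.mpr fun h => hne ((Subgroup.subgroupOf_eq_top.mp h).antisymm hP)
    have := P.isPGroup'.isNilpotent
    obtain ⟨t, htn, ht⟩ := SetLike.exists_of_lt
      ((Group.normalizerCondition_of_isNilpotent (G := (P : Subgroup G))) _ hlt)
    apply ht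
    rw [← Subgroup.subgroupOf_normalizer_eq hP, Subgroup.mem_subgroupOf, hself] at htn
    exact htn
  have hPN : Subgroup.normalizer ((P : Subgroup G) : Set G) ≤ Subgroup.centralizer ((P : Subgroup G) : Set G) := by
    rw [hPH, hself]
    have := isCyclic_of_prime_card (α := H) (p := p) rfl
    obtain ⟨c, hc⟩ := IsCyclic.exists_generator (α := H)
    intro a ha
    refine Subgroup.mem_centralizer_iff.mpr fun b hb => ?_
    obtain ⟨i, hi⟩ := hc ⟨a, ha⟩
    obtain ⟨j, hj⟩ := hc ⟨b, hb⟩
    change c ^ i = _ at hi
    change c ^ j = _ at hj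
    have := congrArg Subtype.val (zpow_mul_comm c j i)
    rw [hi, hj] at this
    exact this
  set f := MonoidHom.transferSylow P hPN
  have hcompl := MonoidHom.ker_transferSylow_isComplement' P hPN
  have hpT : ¬ p ∣ Nat.card T := by
    rcases hT.eq_bot_or_eq_top_of_normal (f.ker.subgroupOf T) inferInstance with h | h
    · exfalso
      refine hTab (((MulEquiv.subgroupCongr hPH).toMonoidHom.comp f).comp T.subtype) ?_
      refine (injective_iff_map_eq_one _).mpr fun t ht => ?_
      have htk : t ∈ f.ker.subgroupOf T := (MulEquiv.subgroupCongr hPH).injective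
        (ht.trans (map_one _).symm)
      rwa [h, Subgroup.mem_bot] at htk
    · intro hd
      have hd' : p ∣ Nat.card f.ker :=
        hd.trans (Subgroup.card_dvd_of_le (Subgroup.subgroupOf_eq_top.mp h))
      exact P.not_dvd_index (hcompl.index_eq_card ▸ hd')
  have : Nontrivial T := hT.toNontrivial
  obtain ⟨q, hq, hqd⟩ := Nat.exists_prime_and_dvd (Finite.one_lt_card (α := T)).ne'
  have := Fact.mk hq
  obtain ⟨Q⟩ : Nonempty (Sylow q T) := inferInstance
  set Q' := (Q : Subgroup T).map T.subtype
  set K := Subgroup.normalizer (Q' : Set G)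
  have hKT : K ⊔ T = ⊤ := Sylow.normalizer_sup_eq_top Q
  have hpK : p ∣ Nat.card K := by
    have hd : p ∣ Nat.card G := Subgroup.card_subgroup_dvd_card H
    rw [← Subgroup.card_mul_index T] at hd
    refine ((hp.dvd_mul.mp hd).resolve_left hpT).trans ?_
    rw [← Subgroup.relIndex_top_right, ← hKT, Subgroup.relIndex_sup_right]
    exact Subgroup.index_dvd_card _
  obtain ⟨x, hx⟩ := exists_prime_orderOf_dvd_card' p hpK
  obtain ⟨P', hP'⟩ := (IsPGroup.of_card (G := Subgroup.zpowers (x : G)) (p := p) (n := 1)
    (by rw [Nat.card_zpowers, Subgroup.orderOf_coe, hx, pow_one])).exists_le_sylow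
  have hcard : Nat.card (P' : Subgroup G) = p := by
    rw [P'.card_eq_multiplicity, ← P.card_eq_multiplicity, hPH]
  have heq : Subgroup.zpowers (x : G) = P' := Subgroup.eq_of_le_of_card_ge hP'
    (by rw [hcard, Nat.card_zpowers, Subgroup.orderOf_coe, hx])
  obtain ⟨g, hg⟩ := MulAction.exists_smul_eq G P P'
  have hcoat : IsCoatom (P' : Subgroup G) := by
    have h1 : ((P' : Subgroup G)) = (MulAut.conj g).mapSubgroup H := by
      rw [← hg, ← hPH]; rfl
    rw [h1]
    exact (OrderIso.isCoatom_iff (MulAut.conj g).mapSubgroup H).mpr hmax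
  have hle : (P' : Subgroup G) ≤ K := heq ▸ Subgroup.zpowers_le.mpr x.2
  rcases hcoat.le_iff.mp hle with h | h
  · -- `Q` would be normal
    have hQn : Q'.Normal := Subgroup.normalizer_eq_top_iff.mp h
    have hle' : Q' ≤ T := Subgroup.map_subtype_le _
    have hQT : (Q : Subgroup T) = ⊤ := by
      have hn : (Q : Subgroup T).Normal := by
        have := hQn.comap T.subtype
        rwa [Subgroup.comap_map_eq_self_of_injective T.subtype_injective] at this
      exact (hT.eq_bot_or_eq_top_of_normal _ hn).resolve_left (Q.ne_bot_of_dvd_card hqd)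
    refine CfsgLib.PrimRecog.not_isPGroup_of_center (G := T) ?_ q hq ?_
    · intro a ha
      rcases hT.eq_bot_or_eq_top_of_normal (Subgroup.center T) inferInstance with hz | hz
      · exact Subgroup.mem_bot.mp (hz ▸ Subgroup.mem_center_iff.mpr fun b => (ha b).symm)
      · exact absurd ⟨⟨fun b c => (Subgroup.mem_center_iff.mp (hz ▸ Subgroup.mem_top b) c).symm⟩⟩ hTc
    · exact fun y => by
        obtain ⟨k, hk⟩ := Q.isPGroup' ⟨y, hQT ▸ Subgroup.mem_top y⟩
        exact ⟨k, congrArg Subtype.val hk⟩
  · have h1 : Nat.card Q' ∣ p := hcard ▸ h ▸ Subgroup.card_dvd_of_le Subgroup.le_normalizer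
    rw [Subgroup.card_map_of_injective T.subtype_injective] at h1
    have h2 : q ∣ p := (Q.dvd_card_of_dvd_card hqd).trans h1
    exact hpT (((Nat.prime_dvd_prime_iff_eq hq hp).mp h2) ▸ hqd)

end Cfsg.Agent.S3498
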