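import Cfsg.Statements.S3501
import Cfsg.Agent.Lib.PrimRecog.Affine

set_option autoImplicit false
open Cfsg
open CfsgLib.PrimRecog

namespace Cfsg.Agent.S3501

/-- Let a finite group G act faithfully and primitively on a finite set Ω with at least two points, and suppose G is not almost simple (it has no non-abelian simple normal subgroup with trivial centralizer). Then the derangements of G form a single conjugacy class if and only if G is sharply 2-transitive (2-transitive, and no non-identity element fixes two points). -/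
theorem result {G : Type*} [Group G] [Finite G] {Ω : Type*} [Fintype Ω] [MulAction G Ω] [FaithfulSMul G Ω] (hΩ : 2 ≤ Fintype.card Ω) (hprim : MulAction.IsPreprimitive G Ω) (hnas : ¬ ∃ T : Subgroup G, T.Normal ∧ IsSimpleGroup T ∧ ¬ IsMulCommutative T ∧ Subgroup.centralizer (T : Set G) = ⊥) :
    Nat.card {c : ConjClasses G // ∃ g : G, ConjClasses.mk g = c ∧ ∀ ω : Ω, g • ω ≠ ω} = 1 ↔ (MulAction.IsMultiplyPretransitive G Ω 2 ∧ ∀ g : G, g ≠ 1 → ∀ a b : Ω, a ≠ b → g • a = a → g • b ≠ b) := by
  have : Nontrivial Ω := Fintype.one_lt_card_iff_nontrivial.mp (by omega)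
  have := hprim.toIsPretransitive
  have : Nontrivial G := by
    obtain ⟨a, b, hab⟩ := exists_pair_ne Ω
    obtain ⟨g, hg⟩ := MulAction.exists_smul_eq G a b
    exact ⟨g, 1, fun h => hab (by rw [← hg, h, one_smul])⟩
  rw [CfsgLib.PrimRecog.card_classes_one_iff]
  constructor
  · rintro ⟨-, hconj⟩
    obtain ⟨N, hN, hN1, hmin⟩ := exists_minimal_normal (G := G)
    have htr := transitive_of_normal hprim hN hN1
    have hc : IsMulCommutative N := by
      by_contra hc
      obtain ⟨x, y, _, hx, hy, _, hxy, _⟩ := three_classes (Ω := Ω) hprim hN hN1 hmin hc hnas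
      exact hxy (hconj x y hx hy)
    obtain ⟨n₀, hn₀⟩ := (N.ne_bot_iff_exists_ne_one).mp hN1
    have hn₀d : IsDer Ω (n₀ : G) :=
      isDer_of_mem_comm htr hc n₀.2 (fun h => hn₀ (Subtype.ext h))
    refine ⟨twoTrans_of_isConj htr hc fun x hx y hy hx1 hy1 =>
      hconj x y (isDer_of_mem_comm htr hc hx hx1) (isDer_of_mem_comm htr hc hy hy1), ?_⟩
    have hout := fix_eq_one_of_transitive htr (fun g hg hd => hg (by
      obtain ⟨c, hc'⟩ := isConj_iff.mp (hconj _ g hn₀d hd)
      exact hc' ▸ hN.conj_mem _ n₀.2 c))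
    intro g hg a b hab hga hgb
    by_cases hgN : g ∈ N
    · exact isDer_of_mem_comm htr hc hgN hg a hga
    · have h1 : Nat.card (MulAction.fixedBy Ω g) = 1 := hout g hgN
      obtain ⟨hsub, -⟩ := Nat.card_eq_one_iff_unique.mp h1
      exact hab (congrArg Subtype.val (hsub.elim (⟨a, hga⟩ : MulAction.fixedBy Ω g) ⟨b, hgb⟩))
  · rintro ⟨h2, hsharp⟩
    refine ⟨exists_isDer hprim.toIsPretransitive, ?_⟩
    have hfix : ∀ g : G, g ≠ 1 → Nat.card (MulAction.fixedBy Ω g) ≤ 1 := by
      intro g hg
      rw [Finite.card_le_one_iff_subsingleton]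
      exact ⟨fun a b => Subtype.ext (by_contra fun hab => hsharp g hg a b hab a.2 b.2)⟩
    have hcount := card_isDer_of_fix_le_one hprim.toIsPretransitive hfix
    intro x y hx hy
    obtain ⟨a⟩ : Nonempty Ω := inferInstance
    have hH : Nat.card Ω - 1 ≤ Nat.card (MulAction.stabilizer G a) := by
      have hsurj : Function.Surjective (fun h : MulAction.stabilizer G a =>
          (⟨(h : G) • (x • a), fun he => hx a (smul_left_cancel (h : G) (he.trans h.2.symm))⟩ :
            {b : Ω // b ≠ a})) := by
        rintro ⟨b, hb⟩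
        obtain ⟨g, hga, hgx⟩ := (MulAction.is_two_pretransitive_iff.mp h2) (hx a).symm (Ne.symm hb)
        exact ⟨⟨g, hga⟩, Subtype.ext hgx⟩
      have := Nat.card_le_card_of_surjective _ hsurj
      classical
      rwa [Nat.card_eq_fintype_card (α := {b : Ω // b ≠ a}), Fintype.card_subtype_compl,
        Fintype.card_subtype_eq, ← Nat.card_eq_fintype_card] at this
    have hG : Nat.card Ω * (Nat.card Ω - 1) ≤ Nat.card G := by
      rw [← Subgroup.index_mul_card (MulAction.stabilizer G a),
        MulAction.index_stabilizer_of_transitive]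
      exact Nat.mul_le_mul_left _ hH
    have hC : Nat.card (Subgroup.centralizer ({x} : Set G)) ≤ Nat.card Ω := by
      refine Nat.card_le_card_of_injective (fun h => (h : G) • a) fun h k hhk => Subtype.ext ?_
      change (h : G) • a = (k : G) • a at hhk
      have hcomm : ((k : G)⁻¹ * h) * x = x * ((k : G)⁻¹ * h) :=
        (Subgroup.mem_centralizer_singleton_iff.mp
          ((Subgroup.centralizer ({x} : Set G)).mul_mem (Subgroup.inv_mem _ k.2) h.2)).symm.symm
      have ha : ((k : G)⁻¹ * h) • a = a := by rw [mul_smul, hhk, inv_smul_smul]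
      refine inv_mul_eq_one.mp (eq_one_of_fix_two hfix (hx a).symm ha ?_) |>.symm
      rw [← mul_smul, hcomm, mul_smul, ha]
    have hprod := card_class_mul x
    have horb : {g : G | IsDer Ω g} = MulAction.orbit (ConjAct G) x := by
      refine (Set.eq_of_subset_of_ncard_le ?_ ?_ (Set.toFinite _)).symm
      · intro g hg
        rw [ConjAct.mem_orbit_conjAct, isConj_comm] at hg
        obtain ⟨c, rfl⟩ := isConj_iff.mp hg
        exact isDer_conj hx c
      · rw [← Nat.card_coe_set_eq, ← Nat.card_coe_set_eq]
        refine Nat.le_of_mul_le_mul_right (c := Nat.card Ω) ?_ Nat.card_pos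
        calc Nat.card {g : G | IsDer Ω g} * Nat.card Ω
            = (Nat.card Ω - 1) * Nat.card Ω := by
              rw [← hcount]; rfl
          _ ≤ Nat.card G := by rw [mul_comm]; exact hG
          _ ≤ _ := by rw [← hprod]; exact Nat.mul_le_mul_left _ hC
    have : y ∈ MulAction.orbit (ConjAct G) x := horb ▸ hy
    exact (ConjAct.mem_orbit_conjAct.mp this).symm

end Cfsg.Agent.S3501
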