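import Cfsg.Statements.S3504

set_option autoImplicit false
open Cfsg

namespace Cfsg.Agent.S3504

/-- For n ≥ 5, the fixed-point-free permutations of prime order in the symmetric group of degree n form a single conjugacy class if and only if n is a prime power. -/
theorem result (n : ℕ) (hn : 5 ≤ n) :
    Nat.card {c : ConjClasses (Equiv.Perm (Fin n)) // ∃ g : Equiv.Perm (Fin n), ConjClasses.mk g = c ∧ (orderOf g).Prime ∧ ∀ i : Fin n, g i ≠ i} = 1 ↔ IsPrimePow n := by
  classical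
  have hchar : ∀ g : Equiv.Perm (Fin n), ((orderOf g).Prime ∧ ∀ i, g i ≠ i) ↔
      ∃ p, p.Prime ∧ p ∣ n ∧ g.cycleType = Multiset.replicate (n / p) p := by
    intro g
    constructor
    · rintro ⟨hp, hfix⟩
      have hpow : g ^ orderOf g = 1 := pow_orderOf_eq_one g
      have hsup : g.support = Finset.univ := Finset.eq_univ_of_forall fun i =>
        Equiv.Perm.mem_support.mpr (hfix i)
      have hall : ∀ c ∈ g.cycleType, c = orderOf g := by
        intro c hc
        rcases (Nat.dvd_prime hp).mp (Equiv.Perm.dvd_of_mem_cycleType hc) with h | h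
        · exact absurd h (by have := Equiv.Perm.two_le_of_mem_cycleType hc; omega)
        · exact h
      have hrep := Multiset.eq_replicate_card.mpr hall
      have hsum := g.sum_cycleType
      rw [hrep, Multiset.sum_replicate, smul_eq_mul, hsup, Finset.card_univ, Fintype.card_fin] at hsum
      refine ⟨orderOf g, hp, ⟨g.cycleType.card, by rw [mul_comm, hsum]⟩, ?_⟩
      conv_lhs => rw [hrep]
      congr 1
      exact (Nat.div_eq_of_eq_mul_left hp.pos hsum.symm).symm
    · rintro ⟨p, hp, hd, hct⟩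
      have hsum := g.sum_cycleType
      rw [hct, Multiset.sum_replicate, smul_eq_mul, Nat.div_mul_cancel hd] at hsum
      have hsup : g.support = Finset.univ := Finset.eq_univ_of_card _ ((hsum.symm).trans (Fintype.card_fin n).symm)
      refine ⟨?_, fun i => Equiv.Perm.mem_support.mp (hsup ▸ Finset.mem_univ i)⟩
      rw [← Equiv.Perm.lcm_cycleType, hct]
      have hpos : n / p ≠ 0 := (Nat.div_pos (Nat.le_of_dvd (by omega) hd) hp.pos).ne'
      obtain ⟨k, hk⟩ := Nat.exists_eq_succ_of_ne_zero hpos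
      rw [hk]
      have hl : ∀ j : ℕ, (Multiset.replicate (j + 1) p).lcm = p := by
        intro j
        induction j with
        | zero => simp
        | succ j ih => rw [Multiset.replicate_succ, Multiset.lcm_cons, ih, lcm_same, normalize_eq]
      rw [hl]; exact hp
  have hex : ∀ p, p.Prime → p ∣ n →
      ∃ g : Equiv.Perm (Fin n), g.cycleType = Multiset.replicate (n / p) p := by
    intro p hp hd
    rw [Equiv.Perm.exists_with_cycleType_iff]
    refine ⟨?_, fun a ha => (Multiset.eq_of_mem_replicate ha).symm ▸ hp.two_le⟩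
    rw [Multiset.sum_replicate, smul_eq_mul, Nat.div_mul_cancel hd, Fintype.card_fin]
  rw [Nat.card_eq_one_iff_unique, isPrimePow_iff_unique_prime_dvd]
  constructor
  · rintro ⟨hsub, ⟨⟨c, g, hg, hgp, hgf⟩⟩⟩
    obtain ⟨p, hp, hd, hct⟩ := (hchar g).mp ⟨hgp, hgf⟩
    refine ⟨p, ⟨hp, hd⟩, fun q ⟨hq, hqd⟩ => ?_⟩
    obtain ⟨k, hk⟩ := hex q hq hqd
    have hk' := (hchar k).mpr ⟨q, hq, hqd, hk⟩
    have h1 := congrArg Subtype.val (hsub.elim
      (⟨c, g, hg, hgp, hgf⟩ : {c : ConjClasses (Equiv.Perm (Fin n)) //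
        ∃ g : Equiv.Perm (Fin n), ConjClasses.mk g = c ∧ (orderOf g).Prime ∧ ∀ i : Fin n, g i ≠ i})
      ⟨_, k, rfl, hk'.1, hk'.2⟩)
    have h2 := Equiv.Perm.isConj_iff_cycleType_eq.mp
      (ConjClasses.mk_eq_mk_iff_isConj.mp (hg.trans h1))
    rw [hct, hk] at h2
    have hpos : n / q ≠ 0 := (Nat.div_pos (Nat.le_of_dvd (by omega) hqd) hq.pos).ne'
    exact Multiset.eq_of_mem_replicate (h2.symm ▸ Multiset.mem_replicate.mpr ⟨hpos, rfl⟩)
  · rintro ⟨p, ⟨hp, hd⟩, huniq⟩
    obtain ⟨g, hg⟩ := hex p hp hd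
    have hg' := (hchar g).mpr ⟨p, hp, hd, hg⟩
    refine ⟨⟨?_⟩, ⟨⟨_, g, rfl, hg'.1, hg'.2⟩⟩⟩
    rintro ⟨_, a, rfl, ha⟩ ⟨_, b, rfl, hb⟩
    obtain ⟨q, hq, hqd, hqa⟩ := (hchar a).mp ha
    obtain ⟨r, hr, hrd, hrb⟩ := (hchar b).mp hb
    refine Subtype.ext (ConjClasses.mk_eq_mk_iff_isConj.mpr (Equiv.Perm.isConj_iff_cycleType_eq.mpr ?_))
    rw [hqa, hrb, huniq q ⟨hq, hqd⟩, huniq r ⟨hr, hrd⟩]

end Cfsg.Agent.S3504
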