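import Cfsg.Statements.S3508
import Cfsg.Agent.Lib.PrimRecog.Unipotent
import Cfsg.Agent.Lib.PrimRecog.Affine

set_option autoImplicit false
open Cfsg
open CfsgLib.PrimRecog

namespace Cfsg.Agent.S3508

/-- Let a finite group G act faithfully on a set Ω with p ^ m points (p prime) and have an elementary abelian normal p-subgroup N acting regularly on Ω (so G is a group of affine transformations of an m-dimensional space over the field with p elements). If G contains an element of order p ^ r with r ≥ 1, then p ^ (r − 1) ≤ m. In particular an element of order p ^ m forces m ≤ 2, and m ≤ 1 when p is odd. -/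
theorem result {G : Type*} [Group G] [Finite G] {Ω : Type*} [Fintype Ω] [MulAction G Ω] [FaithfulSMul G Ω] (p m : ℕ) (hp : p.Prime) (hcard : Fintype.card Ω = p ^ m)
    (N : Subgroup G) [N.Normal] (hNc : IsMulCommutative N) (hNp : ∀ n ∈ N, n ^ p = 1)
    (hNtr : MulAction.IsPretransitive N Ω) (hNreg : ∀ ω : Ω, MulAction.stabilizer N ω = ⊥)
    (g : G) (r : ℕ) (hr : 1 ≤ r) (hg : orderOf g = p ^ r) :
    p ^ (r - 1) ≤ m ∧ (r = m → m ≤ 2 ∧ (2 < p → m ≤ 1)) := by
  have := Fact.mk hp
  set k := p ^ (r - 1) with hk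
  have hmain : k ≤ m := by
    by_contra hlt
    have hkm : m + 1 ≤ k := by omega
    have hn : Nat.card N = p ^ m := by
      obtain ⟨ω⟩ : Nonempty Ω := Fintype.card_pos_iff.mp (by rw [hcard]; exact pow_pos hp.pos m)
      rw [← Subgroup.index_mul_card (MulAction.stabilizer N ω), MulAction.index_stabilizer_of_transitive,
        hNreg, Subgroup.card_bot, mul_one, Nat.card_eq_fintype_card, hcard]
    -- `g ^ k` fixes a point and centralizes the translations
    obtain ⟨ω⟩ : Nonempty Ω := Fintype.card_pos_iff.mp (by rw [hcard]; exact pow_pos hp.pos m)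
    obtain ⟨⟨v, hv⟩, hvg⟩ := hNtr.exists_smul_eq ω (g • ω)
    change v • ω = g • ω at hvg
    set h := v⁻¹ * g with hh
    have hhω : h • ω = ω := by rw [hh, mul_smul, ← hvg, inv_smul_smul]
    have hgh : g = v * h := by rw [hh, mul_inv_cancel_left]
    have hconj : ∀ n ∈ N, ∀ a : G, a * n * a⁻¹ ∈ N := fun n hn a => (inferInstance : N.Normal).conj_mem n hn a
    have hpr : (g ^ p ^ r) = 1 := hg ▸ pow_orderOf_eq_one g
    obtain ⟨hc1, hc2⟩ := unipotent_pow (N := N) p m (r - 1) hn hNc hNp hkm (v := v) hv h hconj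
      (by
        intro n hn'
        have e : ∀ a : ℕ, g ^ a * n * (g ^ a)⁻¹ = h ^ a * n * (h ^ a)⁻¹ := by
          intro a
          induction a with
          | zero => simp
          | succ a ih =>
            have hm : h * (h ^ a * n * (h ^ a)⁻¹) * h⁻¹ ∈ N := hconj _ (hconj n hn' _) h
            calc g ^ (a + 1) * n * (g ^ (a + 1))⁻¹ = g * (g ^ a * n * (g ^ a)⁻¹) * g⁻¹ := by
                  rw [pow_succ']; group
              _ = v * (h * (h ^ a * n * (h ^ a)⁻¹) * h⁻¹) * v⁻¹ := by rw [ih, hgh]; group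
              _ = h * (h ^ a * n * (h ^ a)⁻¹) * h⁻¹ := mul_inv_eq_iff_eq_mul.mpr
                  (congrArg Subtype.val (hNc.is_comm.comm (⟨v, hv⟩ : N) ⟨_, hm⟩))
              _ = h ^ (a + 1) * n * (h ^ (a + 1))⁻¹ := by rw [pow_succ']; group
        refine ⟨r, ?_⟩
        rw [← e, hpr]
        simp)
    rw [← hgh, ← hk] at hc2
    have hfix : (g ^ k) • ω = ω := by
      rw [hc2]
      exact pow_mem (show h ∈ MulAction.stabilizer G ω from hhω) _
    have hg1 : g ^ k = 1 := by
      by_contra h1
      refine CfsgLib.PrimRecog.isDer_of_commute hNtr (fun n hn' => ?_) h1 ω hfix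
      rw [hc2]; exact hc1 n hn'
    have := orderOf_dvd_of_pow_eq_one hg1
    rw [hg, hk, Nat.pow_dvd_pow_iff_le_right hp.one_lt] at this
    omega
  refine ⟨hmain, fun hrm => ?_⟩
  subst hrm
  have h2 : ∀ j, 2 ≤ j → j + 2 ≤ 2 ^ j := by
    intro j hj
    induction j, hj using Nat.le_induction with
    | base => norm_num
    | succ j _ ih => rw [pow_succ]; omega
  refine ⟨?_, fun hp2 => ?_⟩
  · by_contra h3
    have h4 := h2 (r - 1) (by omega)
    have h5 : 2 ^ (r - 1) ≤ k := Nat.pow_le_pow_left hp.two_le _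
    omega
  · by_contra h3
    have h4 : r - 1 + 2 ≤ 3 ^ (r - 1) := by
      rcases Nat.lt_or_ge (r - 1) 2 with h | h
      · rw [show r - 1 = 1 by omega]; norm_num
      · exact (h2 _ h).trans (Nat.pow_le_pow_left (by norm_num) _)
    have h5 : 3 ^ (r - 1) ≤ k := Nat.pow_le_pow_left hp2 _
    omega

end Cfsg.Agent.S3508
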