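import Cfsg.Statements.S3511

set_option autoImplicit false
open Cfsg

namespace Cfsg.Agent.S3511

/-- Let a finite group G act faithfully on a set Ω. If every element of G of square-free order has a regular cycle (an orbit of the cyclic group it generates with trivial stabilizer), then every element of G has a regular cycle. -/
theorem result {G : Type*} [Group G] [Finite G] {Ω : Type*} [MulAction G Ω] [FaithfulSMul G Ω]
    (h : ∀ g : G, Squarefree (orderOf g) → ∃ ω : Ω, MulAction.stabilizer (Subgroup.zpowers g) ω = ⊥) (g : G) :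
    ∃ ω : Ω, MulAction.stabilizer (Subgroup.zpowers g) ω = ⊥ := by
  classical
  let d := orderOf g
  have hd : 0 < d := orderOf_pos g
  let r := ∏ q ∈ d.primeFactors, q
  have hr : r ∣ d := Nat.prod_primeFactors_dvd d
  have hr0 : 0 < r := Finset.prod_pos fun q hq => (Nat.prime_of_mem_primeFactors hq).pos
  have hord : orderOf (g ^ (d / r)) = r := by
    rw [orderOf_pow_of_dvd (Nat.div_pos (Nat.le_of_dvd hd hr) hr0).ne' (Nat.div_dvd_of_dvd hr),
      Nat.div_div_self hr hd.ne']
  have hsq : Squarefree r := Finset.squarefree_prod_of_pairwise_isCoprime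
    (fun a ha b hb hab => Nat.coprime_iff_isRelPrime.mp
      ((Nat.coprime_primes (Nat.prime_of_mem_primeFactors ha) (Nat.prime_of_mem_primeFactors hb)).mpr hab))
    fun q hq => (Nat.prime_of_mem_primeFactors hq).squarefree
  obtain ⟨ω, hω⟩ := h (g ^ (d / r)) (by rw [hord]; exact hsq)
  refine ⟨ω, (Subgroup.eq_bot_iff_forall _).mpr ?_⟩
  rintro ⟨x, hxz⟩ hx
  by_contra hx1
  have hx0 : x ≠ 1 := fun h => hx1 (Subtype.ext h)
  obtain ⟨q, hq, hqd⟩ := Nat.exists_prime_and_dvd (n := orderOf x) (fun h => hx0 (orderOf_eq_one_iff.mp h))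
  obtain ⟨k, rfl⟩ := (Submonoid.mem_powers_iff _ _).mp ((mem_powers_iff_mem_zpowers).mpr hxz)
  set y := (g ^ k) ^ (orderOf (g ^ k) / q)
  have hyord : orderOf y = q := by
    rw [orderOf_pow_of_dvd (Nat.div_pos (Nat.le_of_dvd (orderOf_pos _) hqd) hq.pos).ne'
      (Nat.div_dvd_of_dvd hqd), Nat.div_div_self hqd (orderOf_pos _).ne']
  have hqd' : q ∣ d := hqd.trans (orderOf_pow_dvd k)
  have hqr : q ∣ r := Finset.dvd_prod_of_mem _ (Nat.mem_primeFactors.mpr ⟨hq, hqd', hd.ne'⟩)
  have hyz : y ∈ Subgroup.zpowers (g ^ (d / r)) := by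
    have hle : Subgroup.zpowers (g ^ (d / r)) ≤ Subgroup.zpowers g :=
      Subgroup.zpowers_le.mpr (pow_mem (Subgroup.mem_zpowers g) _)
    have hyg : y ∈ Subgroup.zpowers g := pow_mem (pow_mem (Subgroup.mem_zpowers g) _) _
    obtain ⟨m, hm⟩ := (Submonoid.mem_powers_iff _ _).mp ((mem_powers_iff_mem_zpowers).mpr hyg)
    have h1 : y ^ r = 1 := by
      obtain ⟨c, hc⟩ := hqr
      rw [hc, pow_mul, ← hyord, pow_orderOf_eq_one, one_pow]
    rw [← hm, ← pow_mul] at h1
    obtain ⟨c, hc⟩ := orderOf_dvd_of_pow_eq_one h1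
    have : m = (d / r) * c := by
      obtain ⟨e, he⟩ := hr
      rw [show d / r = e by rw [he, Nat.mul_div_cancel_left _ hr0]]
      have hc' : m * r = d * c := hc
      rw [he] at hc'
      nlinarith [Nat.eq_of_mul_eq_mul_left hr0 (show r * m = r * (e * c) by linarith)]
    rw [← hm, this, pow_mul]
    exact pow_mem (Subgroup.mem_zpowers _) _
  have hyω : y • ω = ω := by
    have : (g ^ k) • ω = ω := hx
    exact pow_mem (show g ^ k ∈ MulAction.stabilizer G ω from this) _
  have : (⟨y, hyz⟩ : Subgroup.zpowers (g ^ (d / r))) ∈ MulAction.stabilizer _ ω := hyω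
  rw [hω, Subgroup.mem_bot, Subtype.ext_iff] at this
  rw [show y = 1 from this, orderOf_one] at hyord
  exact hq.ne_one hyord.symm

end Cfsg.Agent.S3511
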