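import Cfsg.Statements.S3514

set_option autoImplicit false
open Cfsg

namespace Cfsg.Agent.S3514

lemma relIndex_sup_normal {X : Type*} [Group X] [Finite X] (S K : Subgroup X) (hK : K.Normal) :
    S.relIndex (K ⊔ S) = S.relIndex K := by
  have e1 : Nat.card K * K.relIndex (K ⊔ S) = Nat.card S * S.relIndex (K ⊔ S) := by
    rw [← Subgroup.relIndex_bot_left K, ← Subgroup.relIndex_bot_left S,
      Subgroup.relIndex_mul_relIndex _ _ _ bot_le le_sup_left,
      Subgroup.relIndex_mul_relIndex _ _ _ bot_le le_sup_right]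
  have e2 : K.relIndex (K ⊔ S) = K.relIndex S := by rw [sup_comm, Subgroup.relIndex_sup_right]
  have e3 : Nat.card ↥(K ⊓ S) * S.relIndex K = Nat.card K := by
    rw [← Subgroup.inf_relIndex_left, ← Subgroup.relIndex_bot_left (K ⊓ S),
      Subgroup.relIndex_mul_relIndex _ _ _ bot_le inf_le_left, Subgroup.relIndex_bot_left]
  have e4 : Nat.card ↥(K ⊓ S) * K.relIndex S = Nat.card S := by
    rw [← Subgroup.inf_relIndex_right, ← Subgroup.relIndex_bot_left (K ⊓ S),
      Subgroup.relIndex_mul_relIndex _ _ _ bot_le inf_le_right, Subgroup.relIndex_bot_left]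
  have hpos : 0 < Nat.card S := Nat.card_pos
  refine Nat.eq_of_mul_eq_mul_left hpos ?_
  rw [← e1, e2, ← e3, ← e4]
  ring

/-- Let p be a prime, V a finite vector space over the field with p elements, and H a group of linear transformations of V all of whose orbits on V have size coprime to p. (i) Every normal subgroup K of H has all its orbits on V of size coprime to p. (ii) If N is a group of linear transformations of V of order coprime to p that is normalized by H, then the group generated by N and H has all its orbits on V of size coprime to p. -/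
theorem result (p : ℕ) [Fact p.Prime] {V : Type*} [AddCommGroup V] [Module (ZMod p) V] [Finite V]
    (H : Subgroup (V ≃ₗ[ZMod p] V)) (hH : ∀ v : V, ¬ p ∣ Nat.card {u : V | ∃ h ∈ H, h v = u}) :
    (∀ K : Subgroup (V ≃ₗ[ZMod p] V), K ≤ H → H ≤ Subgroup.normalizer (K : Set (V ≃ₗ[ZMod p] V)) →
        ∀ v : V, ¬ p ∣ Nat.card {u : V | ∃ k ∈ K, k v = u}) ∧
    (∀ N : Subgroup (V ≃ₗ[ZMod p] V), ¬ p ∣ Nat.card N → H ≤ Subgroup.normalizer (N : Set (V ≃ₗ[ZMod p] V)) →
        ∀ v : V, ¬ p ∣ Nat.card {u : V | ∃ x ∈ N ⊔ H, x v = u}) := by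
  classical
  set E := V ≃ₗ[ZMod p] V
  have hfin : Finite E := Finite.of_injective (fun e : E => (e : V → V)) DFunLike.coe_injective
  have horb : ∀ (K : Subgroup E) (v : V),
      Nat.card {u : V | ∃ k ∈ K, k v = u} = (MulAction.stabilizer E v).relIndex K := by
    intro K v
    have hset : {u : V | ∃ k ∈ K, k v = u} = MulAction.orbit K v := by
      ext u
      exact ⟨fun ⟨k, hk, he⟩ => ⟨⟨k, hk⟩, he⟩, fun ⟨⟨k, hk⟩, he⟩ => ⟨k, hk, he⟩⟩
    rw [hset, Nat.card_coe_set_eq, ← MulAction.index_stabilizer]
    rfl
  refine ⟨fun K hKH hHK v => ?_, fun N hN hHN v => ?_⟩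
  · intro hd
    apply hH v
    rw [horb] at hd ⊢
    refine hd.trans ?_
    set S := MulAction.stabilizer E v
    have hn : (K.subgroupOf H).Normal := Subgroup.normal_subgroupOf_of_le_normalizer hHK
    have h3 : (S.subgroupOf H).relIndex (K.subgroupOf H) ∣ (S.subgroupOf H).index := by
      rw [← relIndex_sup_normal _ _ hn]
      exact ⟨_, (Subgroup.relIndex_mul_index le_sup_right).symm⟩
    rwa [Subgroup.relIndex_subgroupOf hKH] at h3
  · set S := MulAction.stabilizer E v
    set M := N ⊔ H
    intro hd
    rw [horb] at hd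
    have h1 : S.relIndex M ∣ (S ⊓ H).relIndex M := Subgroup.relIndex_dvd_of_le_left M inf_le_left
    have h2 : (S ⊓ H).relIndex H * H.relIndex M = (S ⊓ H).relIndex M :=
      Subgroup.relIndex_mul_relIndex _ _ _ inf_le_right le_sup_right
    have hp := (Fact.out : p.Prime)
    have h3 := hd.trans (h1.trans (dvd_of_eq h2.symm))
    rcases hp.dvd_mul.mp h3 with h | h
    · apply hH v
      rw [horb]
      rwa [Subgroup.inf_relIndex_right] at h
    · apply hN
      refine h.trans ?_
      -- the index divides the order of `N`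
      have hnN : (N.subgroupOf M).Normal :=
        Subgroup.normal_subgroupOf_of_le_normalizer (sup_le Subgroup.le_normalizer hHN)
      have e1 : H.relIndex M = (H.subgroupOf M).relIndex (N.subgroupOf M ⊔ H.subgroupOf M) := by
        rw [← Subgroup.subgroupOf_sup le_sup_left le_sup_right, Subgroup.relIndex_subgroupOf le_rfl]
      rw [e1, relIndex_sup_normal _ _ hnN, Subgroup.relIndex_subgroupOf le_sup_left]
      exact Subgroup.index_dvd_card _

end Cfsg.Agent.S3514
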