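import Cfsg.Statements.S3515
import Cfsg.Agent.Lib.PrimRecog.AffineMaps

set_option autoImplicit false
open Cfsg
open CfsgLib.PrimRecog

namespace Cfsg.Agent.S3515

/-- Every primitive affine permutation group of degree p² is 3-closed. Let p be a prime and G a group of permutations of the plane V = F_p² consisting of affine maps x ↦ Ax + b, containing all translations, and acting primitively on V. Then any permutation σ of V that agrees on every triple of points with some element of G (σ preserves every G-orbit on ordered triples) already lies in G. -/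
theorem result (p : ℕ) [Fact p.Prime] (G : Subgroup (Equiv.Perm (Fin 2 → ZMod p)))
    (haff : (G : Set (Equiv.Perm (Fin 2 → ZMod p))) ⊆ {τ : Equiv.Perm (Fin 2 → ZMod p) | ∃ (A : (Fin 2 → ZMod p) ≃ₗ[ZMod p] (Fin 2 → ZMod p)) (b : Fin 2 → ZMod p), ∀ x, τ x = A x + b})
    (htrans : ∀ b : Fin 2 → ZMod p, ∃ g ∈ G, ∀ x, g x = x + b) (hprim : MulAction.IsPreprimitive G (Fin 2 → ZMod p))
    (σ : Equiv.Perm (Fin 2 → ZMod p)) (hσ : (∀ t : Fin 3 → (Fin 2 → ZMod p), ∃ g ∈ G, ∀ i, σ (t i) = g (t i))) : σ ∈ G := by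
  classical
  obtain ⟨g₀, hg₀, hge⟩ := hσ ![0, Pi.single 0 1, Pi.single 1 1]
  suffices h : ∀ x, σ x = g₀ x by
    rw [Equiv.ext h]; exact hg₀
  have e0 : σ 0 = g₀ 0 := hge 0
  have e1 : σ (Pi.single 0 1) = g₀ (Pi.single 0 1) := hge 1
  have e2 : σ (Pi.single 1 1) = g₀ (Pi.single 1 1) := hge 2
  -- agreement spreads along lines
  have hline : ∀ a b : Fin 2 → ZMod p, σ a = g₀ a → σ b = g₀ b →
      ∀ s : ZMod p, σ (a + s • (b - a)) = g₀ (a + s • (b - a)) := by
    intro a b ha hb s
    obtain ⟨g, hg, he⟩ := hσ ![a, b, a + s • (b - a)]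
    have h0 : σ a = g a := he 0
    have h1 : σ b = g b := he 1
    have h2 : σ (a + s • (b - a)) = g (a + s • (b - a)) := he 2
    obtain ⟨A, c, hA⟩ := haff hg
    obtain ⟨A₀, c₀, hA₀⟩ := haff hg₀
    have key : ∀ (L : (Fin 2 → ZMod p) ≃ₗ[ZMod p] (Fin 2 → ZMod p)) (k : Fin 2 → ZMod p),
        L (a + s • (b - a)) + k = (L a + k) + s • ((L b + k) - (L a + k)) := by
      intro L k
      rw [map_add, map_smul, map_sub, add_sub_add_right_eq_sub]
      abel
    rw [h2, hA, hA₀, key A c, key A₀ c₀, ← hA, ← hA, ← hA₀, ← hA₀, ← h0, ← h1, ha, hb]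
  have hax : ∀ u : ZMod p, σ (Pi.single 0 u) = g₀ (Pi.single 0 u) ∧
      σ (Pi.single 1 u) = g₀ (Pi.single 1 u) := by
    intro u
    refine ⟨?_, ?_⟩
    · have := hline 0 _ e0 e1 u
      rwa [zero_add, sub_zero, ← Pi.single_smul, smul_eq_mul, mul_one] at this
    · have := hline 0 _ e0 e2 u
      rwa [zero_add, sub_zero, ← Pi.single_smul, smul_eq_mul, mul_one] at this
  intro x
  by_cases hx0 : x 0 = 0
  · have : x = Pi.single 1 (x 1) := by
      funext i; fin_cases i
      · simpa using hx0
      · simp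
    rw [this]; exact (hax _).2
  by_cases hx1 : x 1 = 0
  · have : x = Pi.single 0 (x 0) := by
      funext i; fin_cases i
      · simp
      · simpa using hx1
    rw [this]; exact (hax _).1
  by_cases hp2 : p = 2
  · -- the fourth point of the plane
    subst hp2
    have h01 : ∀ z : ZMod 2, z ≠ 0 → z = 1 := fun z hz => by fin_cases z; exacts [absurd rfl hz, rfl]
    obtain ⟨y, hy⟩ := σ.surjective (g₀ x)
    by_cases hyx : y = x
    · rw [← hy, hyx]
    · exfalso
      have hcase : y = 0 ∨ y = Pi.single 0 1 ∨ y = Pi.single 1 1 := by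
        by_cases hy0 : y 0 = 0
        · by_cases hy1 : y 1 = 0
          · left; funext i; fin_cases i <;> simp [hy0, hy1]
          · right; right; funext i; fin_cases i <;> simp [hy0, h01 _ hy1]
        · by_cases hy1 : y 1 = 0
          · right; left; funext i; fin_cases i <;> simp [h01 _ hy0, hy1]
          · exfalso; apply hyx; funext i; fin_cases i <;>
              simp [h01 _ hy0, h01 _ hy1, h01 _ hx0, h01 _ hx1]
      have hgy : σ y = g₀ y := by rcases hcase with rfl | rfl | rfl <;> assumption
      exact hyx (g₀.injective (hgy.symm.trans hy))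
  · obtain ⟨u, hu0, hua⟩ : ∃ u : ZMod p, u ≠ 0 ∧ u ≠ x 0 := by
      have h3 : 2 < Nat.card (ZMod p) := by
        rw [Nat.card_zmod]; have := (Fact.out : p.Prime).two_le; omega
      by_contra hne
      push Not at hne
      have : (Set.univ : Set (ZMod p)) ⊆ {0, x 0} := fun z _ => by
        by_cases hz : z = 0
        · exact Or.inl hz
        · exact Or.inr (hne z hz)
      have h4 := Set.ncard_le_ncard this
      rw [Set.ncard_univ] at h4
      have := Set.ncard_insert_le (0 : ZMod p) {x 0}
      rw [Set.ncard_singleton] at this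
      omega
    set s := 1 - x 0 / u with hs
    have hs0 : s ≠ 0 := by
      rw [hs, sub_ne_zero, ne_eq, eq_comm, div_eq_iff hu0, one_mul]
      exact hua.symm
    have hx : x = Pi.single 0 u + s • (Pi.single 1 (x 1 / s) - Pi.single 0 u) := by
      funext i
      fin_cases i
      · simp only [Fin.zero_eta, Pi.add_apply, Pi.smul_apply, Pi.sub_apply, Pi.single_eq_same,
          Pi.single_eq_of_ne (show (0 : Fin 2) ≠ 1 by decide), smul_eq_mul, hs]
        field_simp
        ring
      · simp only [Fin.mk_one, Pi.add_apply, Pi.smul_apply, Pi.sub_apply, Pi.single_eq_same,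
          Pi.single_eq_of_ne (show (1 : Fin 2) ≠ 0 by decide), smul_eq_mul]
        field_simp
        ring
    rw [hx]
    exact hline _ _ (hax u).1 (hax _).2 s

end Cfsg.Agent.S3515
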