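import Cfsg.Statements.S3516
import Cfsg.Agent.Lib.PrimRecog.AffineMaps

set_option autoImplicit false
open Cfsg
open CfsgLib.PrimRecog

namespace Cfsg.Agent.S3516

/-- Let p be an odd prime, d ≥ 3, and G a group of affine permutations x ↦ Ax + b of V = F_p^d containing all translations and all maps x ↦ Ax with A of determinant 1. Then the 3-closure of G is the full affine group: a permutation σ of V agrees on every triple of points with some element of G if and only if σ is an affine map. -/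
theorem result (p : ℕ) [Fact p.Prime] (hp : p ≠ 2) (d : ℕ) (hd : 3 ≤ d) (G : Subgroup (Equiv.Perm (Fin d → ZMod p)))
    (haff : (G : Set (Equiv.Perm (Fin d → ZMod p))) ⊆ {τ : Equiv.Perm (Fin d → ZMod p) | ∃ (A : (Fin d → ZMod p) ≃ₗ[ZMod p] (Fin d → ZMod p)) (b : Fin d → ZMod p), ∀ x, τ x = A x + b})
    (htrans : ∀ b : Fin d → ZMod p, ∃ g ∈ G, ∀ x, g x = x + b)
    (hsl : ∀ A : (Fin d → ZMod p) ≃ₗ[ZMod p] (Fin d → ZMod p), LinearMap.det (A : (Fin d → ZMod p) →ₗ[ZMod p] (Fin d → ZMod p)) = 1 → ∃ g ∈ G, ∀ x, g x = A x)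
    (σ : Equiv.Perm (Fin d → ZMod p)) :
    (∀ t : Fin 3 → (Fin d → ZMod p), ∃ g ∈ G, ∀ i, σ (t i) = g (t i)) ↔ σ ∈ {τ : Equiv.Perm (Fin d → ZMod p) | ∃ (A : (Fin d → ZMod p) ≃ₗ[ZMod p] (Fin d → ZMod p)) (b : Fin d → ZMod p), ∀ x, τ x = A x + b} := by
  constructor
  · intro h
    exact exists_affine_of_lines hp σ fun a b s => by
      obtain ⟨g, hg, hge⟩ := h ![a, b, a + s • (b - a)]
      obtain ⟨A, c, hA⟩ := haff hg
      have h0 : σ a = g a := hge 0
      have h1 : σ b = g b := hge 1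
      have h2 : σ (a + s • (b - a)) = g (a + s • (b - a)) := hge 2
      rw [h0, h1, h2, hA, hA, hA, map_add, map_smul, map_sub, add_sub_add_right_eq_sub]
      abel
  · rintro ⟨A, c, hA⟩ t
    set W : Submodule (ZMod p) (Fin d → ZMod p) := Submodule.span (ZMod p) {t 1 - t 0, t 2 - t 0} with hW
    have hWlt : Module.finrank (ZMod p) W < d := by
      classical
      refine lt_of_le_of_lt ((finrank_span_le_card _).trans ?_) (show 2 < d by omega)
      rw [Set.toFinset_insert, Set.toFinset_singleton]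
      exact Finset.card_le_two
    obtain ⟨φ, hφ, hφW⟩ := W.exists_le_ker_of_lt_top (lt_top_iff_ne_top.mpr fun h => by
      rw [h, finrank_top, Module.finrank_fin_fun] at hWlt
      exact lt_irrefl d hWlt)
    obtain ⟨w, hw⟩ : ∃ w, φ w ≠ 0 := by
      by_contra hne
      push Not at hne
      exact hφ (LinearMap.ext hne)
    set δ := LinearMap.det (A : (Fin d → ZMod p) →ₗ[ZMod p] (Fin d → ZMod p))
    have hδ : δ ≠ 0 := (LinearEquiv.isUnit_det' A).ne_zero
    set D := LinearMap.transvection φ (((δ⁻¹ - 1) * (φ w)⁻¹) • w) with hD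
    have hdetD : LinearMap.det D = δ⁻¹ := by
      rw [hD, LinearMap.transvection.det, map_smul, smul_eq_mul, mul_assoc, inv_mul_cancel₀ hw]
      ring
    set B := (A : (Fin d → ZMod p) →ₗ[ZMod p] (Fin d → ZMod p)).comp D with hB
    have hdetB : LinearMap.det B = 1 := by
      rw [hB, LinearMap.det_comp, hdetD, mul_inv_cancel₀ hδ]
    let Be := LinearMap.equivOfDetNeZero B (by rw [hdetB]; exact one_ne_zero)
    obtain ⟨g₁, hg₁, hg₁e⟩ := hsl Be hdetB
    obtain ⟨g₂, hg₂, hg₂e⟩ := htrans (A (t 0) + c - B (t 0))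
    refine ⟨g₂ * g₁, G.mul_mem hg₂ hg₁, fun i => ?_⟩
    rw [Equiv.Perm.mul_apply, hg₂e, hg₁e, hA]
    show A (t i) + c = B (t i) + (A (t 0) + c - B (t 0))
    have hfix : B (t i) - B (t 0) = A (t i) - A (t 0) := by
      rw [← map_sub, ← map_sub]
      have hm : t i - t 0 ∈ W := by
        fin_cases i
        · rw [show t (⟨0, by omega⟩ : Fin 3) - t 0 = 0 from sub_self _]
          exact W.zero_mem
        · exact Submodule.subset_span (Or.inl rfl)
        · exact Submodule.subset_span (Or.inr rfl)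
      rw [hB, LinearMap.comp_apply, hD, LinearMap.transvection.apply, LinearMap.mem_ker.mp (hφW hm),
        zero_smul, add_zero]
      rfl
    calc A (t i) + c = (A (t i) - A (t 0)) + (A (t 0) + c) := by abel
      _ = _ := by rw [← hfix]; abel

end Cfsg.Agent.S3516
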