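import Cfsg.Statements.S3517
import Cfsg.Agent.Lib.PrimRecog.AffineMaps

set_option autoImplicit false
open Cfsg
open CfsgLib.PrimRecog

namespace Cfsg.Agent.S3517

/-- For d ≥ 3, the 3-closure of the affine group AGL_d(2) acting on F_2^d is the full symmetric group: every permutation of F_2^d agrees on every ordered triple of points with some affine map (AGL_d(2) is 3-transitive). -/
theorem result (d : ℕ) (hd : 3 ≤ d) (σ : Equiv.Perm (Fin d → ZMod 2)) (t : Fin 3 → (Fin d → ZMod 2)) :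
    ∃ (A : (Fin d → ZMod 2) ≃ₗ[ZMod 2] (Fin d → ZMod 2)) (b : Fin d → ZMod 2), ∀ i, σ (t i) = A (t i) + b := by
  obtain ⟨A, h1, h2⟩ := exists_linearEquiv_pair_two (t 1 - t 0) (t 2 - t 0) (σ (t 1) - σ (t 0))
    (σ (t 2) - σ (t 0)) (by rw [sub_eq_zero, sub_eq_zero, σ.injective.eq_iff])
    (by rw [sub_eq_zero, sub_eq_zero, σ.injective.eq_iff])
    (by rw [sub_left_inj, sub_left_inj, σ.injective.eq_iff])
  refine ⟨A, σ (t 0) - A (t 0), fun i => ?_⟩
  fin_cases i
  · simp
  · show σ (t 1) = A (t 1) + (σ (t 0) - A (t 0))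
    rw [map_sub] at h1
    rw [← sub_eq_zero, ← sub_eq_zero.mpr h1.symm]; abel
  · show σ (t 2) = A (t 2) + (σ (t 0) - A (t 0))
    rw [map_sub] at h2
    rw [← sub_eq_zero, ← sub_eq_zero.mpr h2.symm]; abel

end Cfsg.Agent.S3517
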