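import Cfsg.Statements.S3518
import Cfsg.Agent.Lib.PrimRecog.Slopes

set_option autoImplicit false
open Cfsg

namespace Cfsg.Agent.S3518

/-- Closures of subgroups of the one-dimensional affine group. Let p be a prime and G a group of permutations of F_p lying in the affine group AGL₁(p) = {x ↦ ax + b, a ≠ 0} and containing all translations. (1) If G is a proper subgroup of AGL₁(p), then G is 2-closed: a permutation of F_p agreeing on every ordered pair of points with some element of G lies in G. (2) Every permutation of F_p agrees on every ordered pair with some element of AGL₁(p) (the 2-closure of AGL₁(p) is the symmetric group). (3) AGL₁(p) is 3-closed: a permutation agreeing on every ordered triple with some affine map is affine. -/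
theorem result (p : ℕ) [Fact p.Prime] (G : Subgroup (Equiv.Perm (ZMod p))) (hG : G ≤ Cfsg.affineGroup (ZMod p))
    (htrans : ∀ b : ZMod p, ∃ g ∈ G, ∀ x, g x = x + b) :
    (G ≠ Cfsg.affineGroup (ZMod p) → ∀ σ : Equiv.Perm (ZMod p), (∀ t : Fin 2 → ZMod p, ∃ g ∈ G, ∀ i, σ (t i) = g (t i)) → σ ∈ G) ∧
    (∀ σ : Equiv.Perm (ZMod p), (∀ t : Fin 2 → ZMod p, ∃ g ∈ Cfsg.affineGroup (ZMod p), ∀ i, σ (t i) = g (t i))) ∧
    (∀ σ : Equiv.Perm (ZMod p), (∀ t : Fin 3 → ZMod p, ∃ g ∈ Cfsg.affineGroup (ZMod p), ∀ i, σ (t i) = g (t i)) → σ ∈ Cfsg.affineGroup (ZMod p)) := by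
  classical
  have htwo : ∀ x y x' y' : ZMod p, x ≠ y → x' ≠ y' →
      ∃ g ∈ Cfsg.affineGroup (ZMod p), g x = x' ∧ g y = y' := by
    intro x y x' y' hxy hxy'
    have ha : (x' - y') / (x - y) ≠ 0 := div_ne_zero (sub_ne_zero.mpr hxy') (sub_ne_zero.mpr hxy)
    refine ⟨(Equiv.mulLeft₀ _ ha).trans (Equiv.addRight (x' - (x' - y') / (x - y) * x)),
      ⟨Units.mk0 _ ha, x' - (x' - y') / (x - y) * x, fun z => rfl⟩, ?_, ?_⟩
    · simp [Equiv.trans_apply]
    · show (x' - y') / (x - y) * y + (x' - (x' - y') / (x - y) * x) = y'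
      have : (x' - y') / (x - y) * (x - y) = x' - y' := div_mul_cancel₀ _ (sub_ne_zero.mpr hxy)
      linear_combination (-1 : ZMod p) * this
  refine ⟨fun hne σ hσ => ?_, fun σ t => ?_, fun σ hσ => ?_⟩
  · let S : Subgroup (ZMod p)ˣ :=
      { carrier := {a | ∃ g ∈ G, ∀ x, g x = (a : ZMod p) * x}
        one_mem' := ⟨1, G.one_mem, fun x => by simp⟩
        mul_mem' := by
          rintro a b ⟨g, hg, hge⟩ ⟨h, hh, hhe⟩
          exact ⟨g * h, G.mul_mem hg hh, fun x => by
            rw [Equiv.Perm.mul_apply, hge, hhe, Units.val_mul, mul_assoc]⟩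
        inv_mem' := by
          rintro a ⟨g, hg, hge⟩
          refine ⟨g⁻¹, G.inv_mem hg, fun x => ?_⟩
          rw [Equiv.Perm.inv_eq_iff_eq, hge, ← mul_assoc, Units.mul_inv, one_mul] }
    have hlin : ∀ g ∈ G, ∀ (a : (ZMod p)ˣ) (b : ZMod p), (∀ x, g x = (a : ZMod p) * x + b) → a ∈ S := by
      intro g hg a b hgx
      obtain ⟨τ, hτ, hτx⟩ := htrans (-b)
      exact ⟨τ * g, G.mul_mem hτ hg, fun x => by
        rw [Equiv.Perm.mul_apply, hτx, hgx, add_neg_cancel_right]⟩
    have hSne : S ≠ ⊤ := by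
      intro hS
      refine hne (le_antisymm hG fun τ hτ => ?_)
      obtain ⟨a, b, hτx⟩ := hτ
      obtain ⟨g, hg, hgx⟩ : a ∈ S := hS ▸ Subgroup.mem_top a
      obtain ⟨t', ht', htx⟩ := htrans b
      have : τ = t' * g := Equiv.ext fun x => by rw [Equiv.Perm.mul_apply, htx, hgx, hτx]
      rw [this]; exact G.mul_mem ht' hg
    set C : Finset (ZMod p) := Finset.univ.filter fun c => ∀ a ∈ S, (a : ZMod p) ≠ c
    have hC : ∀ c ∈ C, Function.Bijective fun x => σ x - c * x := by
      intro c hc
      refine Finite.injective_iff_bijective.mp fun x y hxy => ?_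
      by_contra hne'
      obtain ⟨g, hg, hge⟩ := hσ ![x, y]
      obtain ⟨a, b, hgx⟩ := hG hg
      have h0 : σ x = g x := hge 0
      have h1 : σ y = g y := hge 1
      simp only [h0, h1, hgx] at hxy
      have h3 : ((a : ZMod p) - c) * (x - y) = 0 := by linear_combination hxy
      exact (Finset.mem_filter.mp hc).2 a (hlin g hg a b hgx)
        (sub_eq_zero.mp ((mul_eq_zero.mp h3).resolve_right (sub_ne_zero.mpr hne')))
    have hcard : p + 1 ≤ 2 * C.card := by
      have hidx := Subgroup.card_mul_index S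
      rw [Nat.card_units, Nat.card_zmod] at hidx
      have h2 : 2 ≤ S.index := Subgroup.one_lt_index_of_ne_top hSne
      have h3 : C.card + Nat.card S = p := by
        have him : (Finset.univ : Finset (ZMod p)).filter (fun c => ¬ ∀ a ∈ S, (a : ZMod p) ≠ c) =
            (Finset.univ.filter (· ∈ S)).image (fun a : (ZMod p)ˣ => (a : ZMod p)) := by
          ext c
          simp
        have h4 := Finset.card_filter_add_card_filter_not (s := (Finset.univ : Finset (ZMod p)))
          (fun c => ∀ a ∈ S, (a : ZMod p) ≠ c)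
        rw [him, Finset.card_image_of_injective _ Units.val_injective, Finset.card_univ, ZMod.card]
          at h4
        rw [Nat.card_eq_fintype_card, Fintype.card_subtype]
        exact h4
      have h4 : 0 < p := (Fact.out : p.Prime).pos
      have h5 : 2 * Nat.card S ≤ p - 1 := by
        rw [← hidx, mul_comm]; exact Nat.mul_le_mul_left _ h2
      omega
    obtain ⟨a, b, hab⟩ := CfsgLib.PrimRecog.exists_affine_of_slopes σ C hC hcard
    obtain ⟨g, hg, hge⟩ := hσ ![0, 1]
    obtain ⟨a', b', hgx⟩ := hG hg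
    have h0 : σ 0 = g 0 := hge 0
    have h1 : σ 1 = g 1 := hge 1
    rw [hab, hgx] at h0 h1
    have : σ = g := Equiv.ext fun x => by
      rw [hab, hgx]
      simp only [mul_zero, zero_add, mul_one] at h0 h1
      rw [h0, add_right_cancel (h1.trans (by rw [h0]))]
    rw [this]; exact hg
  · by_cases he : t 0 = t 1
    · obtain ⟨g, hg, hg0, -⟩ := htwo (t 0) (t 0 + 1) (σ (t 0)) (σ (t 0) + 1) (by simp) (by simp)
      refine ⟨g, hg, fun i => ?_⟩
      fin_cases i
      · exact hg0.symm
      · show σ (t 1) = g (t 1)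
        rw [← he]; exact hg0.symm
    · obtain ⟨g, hg, hg0, hg1⟩ := htwo _ _ (σ (t 0)) (σ (t 1)) he (fun h => he (σ.injective h))
      refine ⟨g, hg, fun i => ?_⟩
      fin_cases i
      · exact hg0.symm
      · exact hg1.symm
  · obtain ⟨g, hg, hge⟩ := hσ ![0, 1, 1]
    have : σ = g := Equiv.ext fun x => by
      obtain ⟨h, hh, hhe⟩ := hσ ![0, 1, x]
      obtain ⟨a, b, hgx⟩ := hg
      obtain ⟨a', b', hhx⟩ := hh
      have g0 : σ 0 = g 0 := hge 0
      have g1 : σ 1 = g 1 := hge 1
      have h0 : σ 0 = h 0 := hhe 0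
      have h1 : σ 1 = h 1 := hhe 1
      have h2 : σ x = h x := hhe 2
      rw [g0, hgx, hhx] at h0
      rw [g1, hgx, hhx] at h1
      simp only [mul_zero, zero_add, mul_one] at h0 h1
      rw [h2, hgx, hhx, ← h0]
      rw [h0] at h1
      rw [add_right_cancel h1]
    rw [this]; exact hg

end Cfsg.Agent.S3518
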