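import Cfsg.Statements.S3520
import Cfsg.Agent.Lib.PrimRecog.Affine

set_option autoImplicit false
open Cfsg
open CfsgLib.PrimRecog

namespace Cfsg.Agent.S3520

/-- Let a finite group G act faithfully and primitively on a finite set Ω with at least two points, suppose G is not almost simple (no non-abelian simple normal subgroup with trivial centralizer), and suppose the derangements of G form exactly two conjugacy classes. Then either Ω has 3 points and G has order 3; or G has a non-trivial abelian normal subgroup N acting regularly, every non-identity element of G fixes at most one point (so, when n > 3, G is a Frobenius group with kernel N), the number n of points is odd and a point stabilizer has order (n − 1)/2; or G is 2-transitive with a non-trivial abelian regular normal subgroup and some non-identity element fixes at least two points (a non-Frobenius 2-transitive affine group). -/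
theorem result {G : Type*} [Group G] [Finite G] {Ω : Type*} [Fintype Ω] [MulAction G Ω] [FaithfulSMul G Ω] (hΩ : 2 ≤ Fintype.card Ω) (hprim : MulAction.IsPreprimitive G Ω) (hnas : ¬ ∃ T : Subgroup G, T.Normal ∧ IsSimpleGroup T ∧ ¬ IsMulCommutative T ∧ Subgroup.centralizer (T : Set G) = ⊥)
    (hκ : Nat.card {c : ConjClasses G // ∃ g : G, ConjClasses.mk g = c ∧ ∀ ω : Ω, g • ω ≠ ω} = 2) (α : Ω) :
    (Fintype.card Ω = 3 ∧ Nat.card G = 3) ∨
    ((∃ N : Subgroup G, N.Normal ∧ N ≠ ⊥ ∧ IsMulCommutative N ∧ ∀ ω : Ω, MulAction.stabilizer N ω = ⊥) ∧ (∀ g : G, g ≠ 1 → Nat.card (MulAction.fixedBy Ω g) ≤ 1) ∧ ¬ 2 ∣ Fintype.card Ω ∧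
        2 * Nat.card (MulAction.stabilizer G α) = Fintype.card Ω - 1) ∨
    ((∃ N : Subgroup G, N.Normal ∧ N ≠ ⊥ ∧ IsMulCommutative N ∧ ∀ ω : Ω, MulAction.stabilizer N ω = ⊥) ∧ MulAction.IsMultiplyPretransitive G Ω 2 ∧ ∃ g : G, g ≠ 1 ∧ 2 ≤ Nat.card (MulAction.fixedBy Ω g)) := by
  have : Nontrivial Ω := Fintype.one_lt_card_iff_nontrivial.mp (by omega)
  have := hprim.toIsPretransitive
  have : Nontrivial G := by
    obtain ⟨a, b, hab⟩ := exists_pair_ne Ω
    obtain ⟨g, hg⟩ := MulAction.exists_smul_eq G a b
    exact ⟨g, 1, fun h => hab (by rw [← hg, h, one_smul])⟩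
  obtain ⟨N, hN, hN1, hmin⟩ := exists_minimal_normal (G := G)
  have htr := transitive_of_normal hprim hN hN1
  have hc : IsMulCommutative N := by
    by_contra hc
    obtain ⟨x, y, z, hx, hy, hz, hxy, hxz, hyz⟩ := three_classes (Ω := Ω) hprim hN hN1 hmin hc hnas
    have := le_card_classes_three hx hy hz hxy hxz hyz
    omega
  have hreg := stabilizer_eq_bot_of_comm htr hc
  have haff : ∃ N : Subgroup G, N.Normal ∧ N ≠ ⊥ ∧ IsMulCommutative N ∧
      ∀ ω : Ω, MulAction.stabilizer N ω = ⊥ := ⟨N, hN, hN1, hc, hreg⟩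
  have hNcard : Nat.card N = Nat.card Ω := by
    rw [← Subgroup.index_mul_card (MulAction.stabilizer N α), hreg, Subgroup.card_bot, mul_one,
      ← hreg α, MulAction.index_stabilizer_of_transitive]
  obtain ⟨⟨c₁, x₁, rfl, hx₁⟩, ⟨c₂, x₂, rfl, hx₂⟩, hne, huniv⟩ := Nat.card_eq_two_iff.mp hκ
  have hcover : ∀ g : G, IsDer Ω g → IsConj x₁ g ∨ IsConj x₂ g := by
    intro g hg
    have hmem := Set.ext_iff.mp huniv ⟨ConjClasses.mk g, g, rfl, hg⟩
    rcases hmem.mpr trivial with h | h
    · exact Or.inl (ConjClasses.mk_eq_mk_iff_isConj.mp (congrArg Subtype.val h)).symm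
    · exact Or.inr (ConjClasses.mk_eq_mk_iff_isConj.mp (congrArg Subtype.val h)).symm
  have hnc : ¬ IsConj x₁ x₂ := fun h =>
    hne (Subtype.ext (ConjClasses.mk_eq_mk_iff_isConj.mpr h))
  have hNder : ∀ n ∈ N, n ≠ 1 → IsDer Ω n := fun n hn h => isDer_of_mem_comm htr hc hn h
  by_cases hout : ∀ g, g ∉ N → ¬ IsDer Ω g
  · -- all derangements lie in the translation group
    refine Or.inr (Or.inl ⟨haff, ?_⟩)
    have h1 := fix_eq_one_of_transitive htr hout
    have hfix : ∀ g : G, g ≠ 1 → Nat.card (MulAction.fixedBy Ω g) ≤ 1 := by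
      intro g hg
      by_cases hgN : g ∈ N
      · rw [card_fixedBy_eq_zero_iff.mpr (hNder g hgN hg)]; omega
      · exact (h1 g hgN).le
    have hcount := card_isDer_of_fix_le_one hprim.toIsPretransitive hfix
    have hcls : ∀ x : G, IsDer Ω x →
        Nat.card (MulAction.orbit (ConjAct G) x) = Nat.card (MulAction.stabilizer G α) := by
      intro x hx
      have hxN : x ∈ N := by_contra fun h => hout x h hx
      have hC : Subgroup.centralizer ({x} : Set G) = N := by
        refine le_antisymm (fun h hh => by_contra fun hN' => ?_) fun n hn =>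
          Subgroup.mem_centralizer_singleton_iff.mpr
            (congrArg Subtype.val (hc.is_comm.comm ⟨n, hn⟩ ⟨x, hxN⟩))
        obtain ⟨-, ⟨⟨p, hp⟩⟩⟩ := Nat.card_eq_one_iff_unique.mp (h1 h hN')
        have hcomm : h * x = x * h := Subgroup.mem_centralizer_singleton_iff.mp hh
        have hp2 : h • (x • p) = x • p := by rw [← mul_smul, hcomm, mul_smul, hp]
        exact hN' (by rw [eq_one_of_fix_two hfix (hx p).symm hp hp2]; exact N.one_mem)
      have h2 := card_class_mul x
      rw [hC, hNcard, ← Subgroup.index_mul_card (MulAction.stabilizer G α),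
        MulAction.index_stabilizer_of_transitive, mul_comm (Nat.card Ω)] at h2
      exact Nat.eq_of_mul_eq_mul_right Nat.card_pos h2
    have hset : {g : G | IsDer Ω g} =
        MulAction.orbit (ConjAct G) x₁ ∪ MulAction.orbit (ConjAct G) x₂ := by
      ext g
      simp only [Set.mem_setOf_eq, Set.mem_union, ConjAct.mem_orbit_conjAct]
      refine ⟨fun hg => (hcover g hg).imp IsConj.symm IsConj.symm, ?_⟩
      rintro (h | h) <;> obtain ⟨c, rfl⟩ := isConj_iff.mp h.symm
      · exact isDer_conj hx₁ c
      · exact isDer_conj hx₂ c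
    have hD : Nat.card {g : G | IsDer Ω g} = 2 * Nat.card (MulAction.stabilizer G α) := by
      rw [hset, Nat.card_coe_set_eq, Set.ncard_union_eq ?_ (Set.toFinite _) (Set.toFinite _),
        ← Nat.card_coe_set_eq, ← Nat.card_coe_set_eq, hcls x₁ hx₁, hcls x₂ hx₂, two_mul]
      rw [Set.disjoint_left]
      intro g hg hg'
      rw [ConjAct.mem_orbit_conjAct] at hg hg'
      exact hnc (hg.symm.trans hg')
    have hD' : Nat.card {g : G | IsDer Ω g} + 1 = Nat.card Ω := hcount
    rw [Nat.card_eq_fintype_card (α := Ω)] at hD'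
    exact ⟨hfix, by omega, by omega⟩
  · -- some derangement lies outside
    push Not at hout
    obtain ⟨g₀, hg₀N, hg₀⟩ := hout
    refine Or.inr (Or.inr ⟨haff, ?_, ?_⟩)
    · refine twoTrans_of_isConj htr hc fun x hx y hy hx1 hy1 => ?_
      have hnot : ∀ z ∈ N, ¬ IsConj g₀ z := fun z hz h => hg₀N (by
        obtain ⟨c, hc'⟩ := isConj_iff.mp h.symm
        exact hc' ▸ hN.conj_mem z hz c)
      rcases hcover g₀ hg₀ with h0 | h0 <;>
        rcases hcover x (hNder x hx hx1) with h | h <;>
          rcases hcover y (hNder y hy hy1) with h' | h' <;>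
            first
              | exact h.symm.trans h'
              | exact absurd (h0.symm.trans h) (hnot x hx)
              | exact absurd (h0.symm.trans h') (hnot y hy)
    · by_contra hno
      push Not at hno
      have hfix : ∀ g : G, g ≠ 1 → Nat.card (MulAction.fixedBy Ω g) ≤ 1 := fun g hg => by
        have := hno g hg; omega
      have hcount := card_isDer_of_fix_le_one hprim.toIsPretransitive hfix
      have hsub : (N : Set G) \ {1} ∪ {g₀} ⊆ {g : G | IsDer Ω g} := by
        rintro g (⟨hg, hg1⟩ | rfl)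
        · exact hNder g hg hg1
        · exact hg₀
      have hle := Set.ncard_le_ncard hsub (Set.toFinite _)
      rw [Set.ncard_union_eq (Set.disjoint_singleton_right.mpr fun h => hg₀N h.1) (Set.toFinite _)
        (Set.toFinite _), Set.ncard_singleton,
        Set.ncard_sdiff_singleton_of_mem N.one_mem, ← Nat.card_coe_set_eq,
        ← Nat.card_coe_set_eq] at hle
      change Nat.card N - 1 + 1 ≤ Nat.card {g : G // IsDer Ω g} at hle
      omega

end Cfsg.Agent.S3520
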