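import Cfsg.Statements.S3521
import Cfsg.Agent.Lib.ExtremeAffine.Core

set_option autoImplicit false
set_option linter.style.haveILetI false
open Cfsg MulAction

namespace Cfsg.Agent.S3521

/-- Let a finite group G that is not solvable act faithfully and primitively on a finite set with p ^ d points (p prime), with a non-trivial abelian normal subgroup acting regularly (affine type) and with non-trivial point stabilizers each acting primitively on every one of its orbits (an insoluble extremely primitive group of affine type). Then p = 2; and if moreover G is not 2-transitive, then a point stabilizer is almost simple (it has a non-abelian simple normal subgroup with trivial centralizer). -/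
theorem result {G : Type*} [Group G] [Finite G] {Ω : Type*} [Fintype Ω] [MulAction G Ω] [FaithfulSMul G Ω] (p d : ℕ) (hp : p.Prime) (hcard : Fintype.card Ω = p ^ d) (hsol : ¬ Group.IsSolvable G)
    (N : Subgroup G) [N.Normal] (hN : N ≠ ⊥) (hNc : IsMulCommutative N) (hNreg : ∀ ω : Ω, MulAction.stabilizer N ω = ⊥)
    (hprim : MulAction.IsPreprimitive G Ω) (hH : ∀ α : Ω, MulAction.stabilizer G α ≠ ⊥) (hep : ∀ (α : Ω) (ω : Ω), MulAction.IsPreprimitive (MulAction.stabilizer G α) (MulAction.orbit (MulAction.stabilizer G α) ω)) (α : Ω) :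
    p = 2 ∧ (¬ MulAction.IsMultiplyPretransitive G Ω 2 → ∃ T : Subgroup (MulAction.stabilizer G α), T.Normal ∧ IsSimpleGroup T ∧ ¬ IsMulCommutative T ∧ Subgroup.centralizer (T : Set (MulAction.stabilizer G α)) = ⊥) := by
  classical
  have hN' : fixedPoints N Ω ≠ Set.univ := fun h => hN ((Subgroup.eq_bot_iff_forall N).2
    fun n hn => eq_of_smul_eq_smul (α := Ω) fun ω => by
      rw [one_smul]
      exact (h ▸ Set.mem_univ ω : ω ∈ fixedPoints N Ω) ⟨n, hn⟩)
  have hNt : IsPretransitive N Ω := IsQuasiPreprimitive.isPretransitive_of_normal hN'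
  have hreg : ∀ x y : N, x • α = y • α → x = y := by
    intro x y h
    have hmem : y⁻¹ * x ∈ stabilizer N α := by
      rw [mem_stabilizer_iff, mul_smul, h, inv_smul_smul]
    rw [hNreg α, Subgroup.mem_bot, inv_mul_eq_one] at hmem
    exact hmem.symm
  letI : CommGroup N :=
    { (inferInstance : Group N) with
      mul_comm := fun a b => Std.Commutative.comm (op := ((· * ·) : N → N → N)) a b }
  set H := stabilizer G α with hHdef
  letI : MulDistribMulAction H N :=
    MulDistribMulAction.compHom N ((MulAut.conjNormal : G →* MulAut N).comp H.subtype)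
  have hsmul : ∀ (h : H) (n : N), ((h • n : N) : G) = h * n * (h : G)⁻¹ := fun h n => rfl
  have hmove : ∀ (h : H) (n : N), (h • n) • α = (h : G) • n • α := by
    intro h n
    show ((h • n : N) : G) • α = _
    rw [hsmul, mul_smul, mul_smul, inv_smul_eq_iff.2 h.2.symm]
    rfl
  haveI : FaithfulSMul H N := ⟨fun {h k} hhk => Subtype.ext (eq_of_smul_eq_smul (α := Ω) fun ω => by
    obtain ⟨n, rfl⟩ := exists_smul_eq N α ω
    rw [← hmove, ← hmove, hhk])⟩
  have hfac : ∀ g : G, ∃ n : N, ∃ h : H, g = n * h := by
    intro g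
    obtain ⟨n, hn⟩ := exists_smul_eq N α (g • α)
    refine ⟨n, ⟨(n : G)⁻¹ * g, ?_⟩, by simp⟩
    show ((n : G)⁻¹ * g) • α = α
    rw [mul_smul, inv_smul_eq_iff]
    exact hn.symm
  have hirr : ∀ W : Subgroup N, (∀ h : H, ∀ w ∈ W, h • w ∈ W) → W = ⊥ ∨ W = ⊤ := by
    intro W hW
    have hWn : (W.map N.subtype).Normal := by
      constructor
      rintro _ ⟨w, hw, rfl⟩ g
      obtain ⟨n, h, rfl⟩ := hfac g
      refine ⟨h • w, hW h w hw, ?_⟩
      have h1 : n * (h • w) * n⁻¹ = h • w := mul_inv_cancel_comm n (h • w)
      calc ((h • w : N) : G) = ((n * (h • w) * n⁻¹ : N) : G) := by rw [h1]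
        _ = (n : G) * h * w * ((n : G) * h)⁻¹ := by
          rw [Subgroup.coe_mul, Subgroup.coe_mul, Subgroup.coe_inv, hsmul]
          group
    by_cases hfix : fixedPoints (W.map N.subtype) Ω = Set.univ
    · left
      rw [← Subgroup.map_eq_bot_iff_of_injective W N.subtype_injective, Subgroup.eq_bot_iff_forall]
      intro x hx
      refine eq_of_smul_eq_smul (α := Ω) fun ω => ?_
      rw [one_smul]
      exact (hfix ▸ Set.mem_univ ω : ω ∈ fixedPoints (W.map N.subtype) Ω) ⟨x, hx⟩
    · right
      haveI := IsQuasiPreprimitive.isPretransitive_of_normal hfix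
      rw [Subgroup.eq_top_iff']
      intro n
      obtain ⟨⟨_, w, hw, rfl⟩, hk⟩ := exists_smul_eq (W.map N.subtype) α (n • α)
      exact hreg w n hk ▸ hw
  have hns : ¬ Group.IsSolvable H := by
    intro hs
    apply hsol
    have hsurj : Function.Surjective ((QuotientGroup.mk' N).comp H.subtype) := by
      intro q
      obtain ⟨g, rfl⟩ := QuotientGroup.mk'_surjective N q
      obtain ⟨n, h, rfl⟩ := hfac g
      refine ⟨h, ?_⟩
      rw [map_mul, (QuotientGroup.eq_one_iff (n : G)).2 n.2 |> fun e =>
        (show QuotientGroup.mk' N (n : G) = 1 from e), one_mul]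
      rfl
    haveI : Group.IsSolvable (G ⧸ N) := Group.isSolvable_of_surjective hsurj
    haveI : Group.IsSolvable N :=
      Group.isSolvable_of_comm fun a b => Std.Commutative.comm (op := ((· * ·) : N → N → N)) a b
    exact Group.isSolvable_of_ker_le_range N.subtype (QuotientGroup.mk' N) (by simp)
  haveI : Nontrivial N := (Subgroup.nontrivial_iff_ne_bot N).2 hN
  haveI : Nontrivial H := (Subgroup.nontrivial_iff_ne_bot H).2 (hH α)
  have hmax : ∀ v : N, v ≠ 1 → IsCoatom (stabilizer H v) ∨ stabilizer H v = ⊤ := by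
    intro v _
    have hst : stabilizer H v = stabilizer H (v • α) := by
      ext h
      rw [mem_stabilizer_iff, mem_stabilizer_iff]
      constructor
      · intro hh
        show (h : G) • v • α = v • α
        rw [← hmove, hh]
      · intro hh
        exact hreg _ _ (by rw [hmove]; exact hh)
    let β : orbit H (v • α) := ⟨v • α, mem_orbit_self _⟩
    have hβ : stabilizer H β = stabilizer H (v • α) := by
      ext h
      simp [mem_stabilizer_iff, Subtype.ext_iff, β]
    rw [hst, ← hβ]
    haveI := hep α (v • α)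
    cases subsingleton_or_nontrivial (orbit H (v • α)) with
    | inl hs => exact Or.inr ((Subgroup.eq_top_iff' _).2 fun h => Subsingleton.elim _ _)
    | inr hs =>
      exact Or.inl ((isCoatom_stabilizer_iff_preprimitive H β).2 inferInstance)
  have hco : ∀ v : N, v ≠ 1 → IsCoatom (stabilizer H v) := fun v hv =>
    CfsgLib.ExtremeAffine.isCoatom_stabilizer hirr hmax hv
  have h2 := CfsgLib.ExtremeAffine.exponent_two hirr hco hns
  refine ⟨?_, fun _ => CfsgLib.ExtremeAffine.almostSimple hirr hco h2 hns⟩
  have hNcard : Nat.card N = p ^ d := by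
    rw [← hcard, ← Nat.card_eq_fintype_card]
    exact Nat.card_congr (Equiv.ofBijective (fun n : N => n • α) ⟨hreg, exists_smul_eq N α⟩)
  obtain ⟨x, hx⟩ := exists_ne (1 : N)
  have ho : orderOf x = 2 := orderOf_eq_prime (by rw [pow_two]; exact h2 x) hx
  exact ((Nat.prime_dvd_prime_iff_eq Nat.prime_two hp).1
    (Nat.prime_two.dvd_of_dvd_pow (hNcard ▸ ho ▸ orderOf_dvd_natCard x))).symm

end Cfsg.Agent.S3521
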