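import Cfsg.Statements.S3524

set_option autoImplicit false
open Cfsg

namespace Cfsg.Agent.S3524

/-- A permutation group with a base is closed at one level above the base size. Let G be a group of permutations of a set Ω and suppose some k points α₁, …, α_k are fixed simultaneously only by the identity of G (a base of size k). Then G is (k+1)-closed: a permutation of Ω that agrees on every (k+1)-tuple of points with some element of G belongs to G. -/
theorem result {Ω : Type*} (G : Subgroup (Equiv.Perm Ω)) (k : ℕ) (α : Fin k → Ω)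
    (hbase : ∀ g ∈ G, (∀ i, g (α i) = α i) → g = 1) (σ : Equiv.Perm Ω)
    (hσ : ∀ t : Fin (k + 1) → Ω, ∃ g ∈ G, ∀ i, σ (t i) = g (t i)) : σ ∈ G := by
  classical
  have huniq : ∀ g ∈ G, ∀ h ∈ G, (∀ i, g (α i) = h (α i)) → g = h := fun g hg h hh he => by
    have := hbase (h⁻¹ * g) (G.mul_mem (G.inv_mem hh) hg) fun i => by
      rw [Equiv.Perm.mul_apply, he i, ← Equiv.Perm.mul_apply, inv_mul_cancel, Equiv.Perm.one_apply]
    exact (inv_mul_eq_one.mp this).symm
  rcases isEmpty_or_nonempty Ω with hΩ | ⟨⟨x₀⟩⟩
  · have : σ = 1 := Subsingleton.elim _ _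
    rw [this]; exact G.one_mem
  obtain ⟨g, hg, hge⟩ := hσ (Fin.snoc α x₀)
  suffices σ = g by rw [this]; exact hg
  refine Equiv.ext fun x => ?_
  obtain ⟨h, hh, hhe⟩ := hσ (Fin.snoc α x)
  have hgh : g = h := huniq g hg h hh fun i => by
    have h1 := hge i.castSucc
    have h2 := hhe i.castSucc
    rw [Fin.snoc_castSucc] at h1 h2
    exact h1.symm.trans h2
  have h3 := hhe (Fin.last k)
  rw [Fin.snoc_last] at h3
  rw [h3, hgh]

end Cfsg.Agent.S3524
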