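import Cfsg.Statements.S3548
import Cfsg.Agent.Lib.PrimRecog.DerangementSubgroup

set_option autoImplicit false
open Cfsg
open CfsgLib.PrimRecog

namespace Cfsg.Agent.S3548

/-- Let G act faithfully and transitively on a finite set with n ≥ 2 points and let D be the subgroup generated by the derangements. Then the index of D in G divides n − 1, and if it equals n − 1 then n is a prime power. -/
theorem result {G Ω : Type*} [Group G] [Finite G] [MulAction G Ω] [FaithfulSMul G Ω] [Finite Ω]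
    (htrans : MulAction.IsPretransitive G Ω) (hΩ : 2 ≤ Nat.card Ω) :
    (Subgroup.closure {g : G | ∀ ω : Ω, g • ω ≠ ω}).index ∣ Nat.card Ω - 1 ∧
    ((Subgroup.closure {g : G | ∀ ω : Ω, g • ω ≠ ω}).index = Nat.card Ω - 1 → IsPrimePow (Nat.card Ω)) := by
  classical
  have : Nontrivial Ω := Finite.one_lt_card_iff_nontrivial.mp (by omega)
  set D := derSubgroup G Ω with hD
  have hDn : D.Normal := derSubgroup_normal
  have hDtr := derSubgroup_transitive htrans
  obtain ⟨α, -, -⟩ := exists_pair_ne Ω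
  have hle : ∀ x : Ω, x ≠ α → ∀ g : G, g • α = α → g • x = x → g ∈ D :=
    fun x hx g h1 h2 => mem_of_fix_two htrans hx h2 h1
  have hsetinv : ∀ g ∈ MulAction.stabilizer G α, ∀ x ∈ ({α}ᶜ : Set Ω), g • x ∈ ({α}ᶜ : Set Ω) :=
    fun g hg x hx h => hx (smul_left_cancel g (h.trans (MulAction.mem_stabilizer_iff.mp hg).symm))
  have hncard : ({α}ᶜ : Set Ω).ncard = Nat.card Ω - 1 := by rw [Set.ncard_compl, Set.ncard_singleton]
  refine ⟨hncard ▸ index_dvd_ncard hDn hDtr α _ hsetinv fun x hx => hle x hx, fun heq => ?_⟩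
  change D.index = _ at heq
  set H := MulAction.stabilizer G α
  -- the derangement subgroup is regular
  have key : ∀ x : Ω, x ≠ α → MulAction.stabilizer H x = D.subgroupOf H ∧
      MulAction.orbit H x = ({α}ᶜ : Set Ω) := by
    intro x hx
    have hsub : MulAction.stabilizer H x ≤ D.subgroupOf H := fun g hg => hle x hx g g.2 hg
    have hidx := Subgroup.index_dvd_of_le hsub
    rw [index_subgroupOf_stabilizer hDn hDtr, MulAction.index_stabilizer] at hidx
    have horb : MulAction.orbit H x ⊆ ({α}ᶜ : Set Ω) := by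
      rintro _ ⟨g, rfl⟩; exact hsetinv g g.2 x hx
    have h1 : (MulAction.orbit H x).ncard ≤ Nat.card Ω - 1 := hncard ▸ Set.ncard_le_ncard horb
    have h0 : 0 < (MulAction.orbit H x).ncard := (Set.ncard_pos (Set.toFinite _)).mpr ⟨x, MulAction.mem_orbit_self x⟩
    have h2 := Nat.le_of_dvd h0 hidx
    refine ⟨Subgroup.eq_of_le_of_card_ge hsub ?_,
      Set.eq_of_subset_of_ncard_le horb (by rw [hncard]; omega)⟩
    have e1 := Subgroup.card_mul_index (MulAction.stabilizer H x)
    have e2 := Subgroup.card_mul_index (D.subgroupOf H)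
    rw [MulAction.index_stabilizer] at e1
    rw [index_subgroupOf_stabilizer hDn hDtr] at e2
    rw [show (MulAction.orbit H x).ncard = D.index by omega] at e1
    exact le_of_eq (Nat.eq_of_mul_eq_mul_right (Nat.pos_of_ne_zero Subgroup.index_ne_zero_of_finite)
      (e2.trans e1.symm))
  have hreg : ∀ d ∈ D, d • α = α → d = 1 := by
    intro d hd hdα
    refine FaithfulSMul.eq_of_smul_eq_smul (α := Ω) fun x => ?_
    rw [one_smul]
    by_cases hx : x = α
    · rw [hx, hdα]
    · have : (⟨d, hdα⟩ : H) ∈ MulAction.stabilizer H x := (key x hx).1 ▸ hd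
      exact this
  have hcard : Nat.card D = Nat.card Ω := Nat.card_eq_of_bijective (fun d => (d : G) • α)
    ⟨fun a b h => Subtype.ext (inv_mul_eq_one.mp (hreg ((b : G)⁻¹ * a) (D.mul_mem (D.inv_mem b.2) a.2)
      (by rw [mul_smul]; exact inv_smul_eq_iff.mpr h))).symm, fun x => by
      obtain ⟨d, hd⟩ := hDtr.exists_smul_eq α x; exact ⟨d, hd⟩⟩
  obtain ⟨q, hq, hqd⟩ := Nat.exists_prime_and_dvd (show Nat.card Ω ≠ 1 by omega)
  have := Fact.mk hq
  obtain ⟨y, hy⟩ := exists_prime_orderOf_dvd_card' q (hcard ▸ hqd)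
  rw [← Subgroup.orderOf_coe] at hy
  have hP : IsPGroup q D := by
    intro d
    by_cases hd : (d : G) = 1
    · exact ⟨0, Subtype.ext (by simpa using hd)⟩
    refine ⟨1, Subtype.ext ?_⟩
    have hy1 : (y : G) • α ≠ α := fun h => hq.ne_one (by rw [← hy, hreg y y.2 h, orderOf_one])
    obtain ⟨h, hh⟩ : (d : G) • α ∈ MulAction.orbit H ((y : G) • α) := by
      rw [(key _ hy1).2]; exact fun h => hd (hreg d d.2 h)
    change (h : G) • (y : G) • α = (d : G) • α at hh
    have h' : (h : G)⁻¹ • α = α := H.inv_mem h.2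
    have hdy : (d : G) = h * y * (h : G)⁻¹ := by
      refine (inv_mul_eq_one.mp (hreg ((d : G)⁻¹ * (h * y * (h : G)⁻¹))
        (D.mul_mem (D.inv_mem d.2) (hDn.conj_mem y y.2 h)) ?_))
      rw [mul_smul, mul_smul, mul_smul, h', hh, inv_smul_smul]
    rw [pow_one, Subgroup.coe_pow, hdy, conj_pow, ← hy, pow_orderOf_eq_one]
    simp
  obtain ⟨k, hk⟩ := IsPGroup.iff_card.mp hP
  rw [← hcard, hk, isPrimePow_nat_iff]
  exact ⟨q, k, hq, Nat.pos_of_ne_zero (by rintro rfl; rw [pow_zero, hcard] at hk; omega), rfl⟩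

end Cfsg.Agent.S3548
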