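import Cfsg.Statements.S3549
import Cfsg.Agent.Lib.PrimRecog.DerangementSubgroup

set_option autoImplicit false
open Cfsg
open CfsgLib.PrimRecog
open scoped Pointwise

namespace Cfsg.Agent.S3549

/-- Let G act faithfully, transitively but imprimitively on a finite set with n points, and let D be the subgroup generated by the derangements. Then the index of D in G is at most √n − 1. -/
theorem result {G Ω : Type*} [Group G] [Finite G] [MulAction G Ω] [FaithfulSMul G Ω] [Finite Ω]
    (htrans : MulAction.IsPretransitive G Ω) (himp : ¬ MulAction.IsPreprimitive G Ω) :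
    ((Subgroup.closure {g : G | ∀ ω : Ω, g • ω ≠ ω}).index : ℝ) ≤ Real.sqrt (Nat.card Ω) - 1 := by
  classical
  set D := derSubgroup G Ω with hD
  have hDn : D.Normal := derSubgroup_normal
  have hDtr := derSubgroup_transitive htrans
  obtain ⟨B, hB, hBnt⟩ : ∃ B : Set Ω, MulAction.IsBlock G B ∧ ¬ MulAction.IsTrivialBlock B := by
    by_contra hne
    push Not at hne
    exact himp ⟨fun {B} hB => hne B hB⟩
  simp only [MulAction.IsTrivialBlock, not_or, Set.not_subsingleton_iff] at hBnt
  obtain ⟨hBnon, hBuniv⟩ := hBnt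
  obtain ⟨α, hα⟩ := hBnon.nonempty
  have hb2 : 2 ≤ B.ncard := (Set.one_lt_ncard (Set.toFinite _)).mpr hBnon
  set i := D.index
  -- within the block
  have hib : i ∣ B.ncard - 1 := by
    have := index_dvd_ncard hDn hDtr α (B \ {α}) (fun g hg x hx => ⟨?_, ?_⟩)
      (fun x hx g h1 h2 => mem_of_fix_two htrans hx.2 h2 h1)
    · rwa [Set.ncard_sdiff_singleton_of_mem hα] at this
    · have h1 : g • B = B :=
        hB.smul_eq_of_mem hα (by rw [MulAction.mem_stabilizer_iff.mp hg]; exact hα)
      rw [← h1]
      exact Set.smul_mem_smul_set hx.1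
    · exact fun h => hx.2 (smul_left_cancel g (h.trans (MulAction.mem_stabilizer_iff.mp hg).symm))
  -- between the blocks
  let X := MulAction.orbit G B
  have htrX : MulAction.IsPretransitive D X := by
    refine ⟨?_⟩
    rintro ⟨_, g, rfl⟩ ⟨_, k, rfl⟩
    obtain ⟨⟨d, hd⟩, hdα⟩ := hDtr.exists_smul_eq (g • α) (k • α)
    change d • g • α = k • α at hdα
    refine ⟨⟨d, hd⟩, Subtype.ext ?_⟩
    show d • g • B = k • B
    have h1 : (k⁻¹ * (d * g)) • B = B := by
      refine hB.smul_eq_of_mem hα ?_
      rw [mul_smul, mul_smul, hdα, inv_smul_smul]; exact hα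
    rw [mul_smul, inv_smul_eq_iff, mul_smul] at h1
    exact h1
  have him : i ∣ X.ncard - 1 := by
    have := index_dvd_ncard hDn htrX (⟨B, MulAction.mem_orbit_self B⟩ : X)
      ({(⟨B, MulAction.mem_orbit_self B⟩ : X)}ᶜ) (fun g hg x hx h => hx (smul_left_cancel g (h.trans (MulAction.mem_stabilizer_iff.mp hg).symm)))
      (fun x hx g h1 h2 => by
        by_contra hg
        obtain ⟨_, k, rfl⟩ := x
        have e1 : g • B = B := congrArg Subtype.val h1
        have e2 : g • k • B = k • B := congrArg Subtype.val h2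
        obtain ⟨y, hy, hyfix⟩ := exists_fix_mem_block htrans hB hα hg
          (fun z hz => e1 ▸ Set.smul_mem_smul_set hz)
        obtain ⟨z, hz, hzfix⟩ := exists_fix_mem_block htrans (hB.translate k)
          (Set.smul_mem_smul_set hα : k • α ∈ k • B) hg (fun w hw => by
            rw [← e2]; exact Set.smul_mem_smul_set hw)
        have hyz : y ≠ z := fun e => hx (Subtype.ext (by
          have h3 : k • B = B := hB.smul_eq_of_nonempty ⟨y, e ▸ hz, hy⟩
          exact h3))
        exact hg (mem_of_fix_two htrans hyz hyfix hzfix))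
    rwa [Set.ncard_compl, Set.ncard_singleton, Nat.card_coe_set_eq] at this
  have hmul := hB.ncard_block_mul_ncard_orbit_eq hBnon.nonempty
  have hm2 : 2 ≤ X.ncard := by
    by_contra hlt
    apply hBuniv
    refine Set.eq_of_subset_of_ncard_le (Set.subset_univ _) ?_ (Set.toFinite _)
    rw [Set.ncard_univ, ← hmul]
    calc B.ncard * X.ncard ≤ B.ncard * 1 := Nat.mul_le_mul_left _ (by omega)
      _ = B.ncard := mul_one _
  have hi1 := Nat.le_of_dvd (by omega) hib
  have hi2 := Nat.le_of_dvd (by omega) him
  have hsq : (i + 1) * (i + 1) ≤ Nat.card Ω := by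
    rw [← hmul]; exact Nat.mul_le_mul (by omega) (by change _ ≤ X.ncard; omega)
  change (i : ℝ) ≤ _
  rw [le_sub_iff_add_le]
  refine (Real.le_sqrt (by positivity) (by positivity)).mpr ?_
  rw [sq]
  exact_mod_cast hsq

end Cfsg.Agent.S3549
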