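import Cfsg.Statements.S3554

set_option autoImplicit false
open Cfsg

namespace Cfsg.Agent.S3554

/-- Let G act faithfully and transitively on a finite set and suppose G has a non-trivial cyclic normal subgroup. Then some element of G of prime order fixes no point. -/
theorem result {G Ω : Type*} [Group G] [Finite G] [MulAction G Ω] [FaithfulSMul G Ω] [Finite Ω]
    (htrans : MulAction.IsPretransitive G Ω) (C : Subgroup G) (hC : C.Normal) (hC1 : C ≠ ⊥) (hcyc : IsCyclic ↥C) :
    ∃ g : G, (orderOf g).Prime ∧ ∀ ω : Ω, g • ω ≠ ω := by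
  classical
  obtain ⟨c, hc⟩ := C.ne_bot_iff_exists_ne_one.mp hC1
  obtain ⟨q, hq, hqd⟩ := Nat.exists_prime_and_dvd (n := orderOf c) (fun h => hc (orderOf_eq_one_iff.mp h))
  set y := c ^ (orderOf c / q)
  have hyord : orderOf y = q := by
    rw [orderOf_pow_of_dvd (Nat.div_pos (Nat.le_of_dvd (orderOf_pos c) hqd) hq.pos).ne'
      (Nat.div_dvd_of_dvd hqd), Nat.div_div_self hqd (orderOf_pos c).ne']
  refine ⟨(y : G), by rw [Subgroup.orderOf_coe, hyord]; exact hq, fun ω hω => ?_⟩
  -- conjugates of `y` are powers of it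
  have hchar : ∀ g : G, g⁻¹ * y * g ∈ Subgroup.zpowers (y : G) := by
    intro g
    have hmem : g⁻¹ * (y : G) * g ∈ C := by simpa using hC.conj_mem y y.2 g⁻¹
    have hord : orderOf (⟨g⁻¹ * (y : G) * g, hmem⟩ : C) = q := by
      rw [← Subgroup.orderOf_coe]
      have : g⁻¹ * (y : G) * g = (MulAut.conj g⁻¹) (y : G) := by simp
      show orderOf (g⁻¹ * (y : G) * g) = q
      rw [this, MulEquiv.orderOf_eq, Subgroup.orderOf_coe, hyord]
    have heq : Subgroup.zpowers (⟨g⁻¹ * (y : G) * g, hmem⟩ : C) = Subgroup.zpowers y := by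
      have := Fintype.ofFinite C
      have hsub : (Finset.range q).image (fun i => y ^ i) ⊆
          Finset.univ.filter (fun x : C => x ^ q = 1) := by
        intro x hx
        obtain ⟨i, -, rfl⟩ := Finset.mem_image.mp hx
        refine Finset.mem_filter.mpr ⟨Finset.mem_univ _, ?_⟩
        rw [← pow_mul, mul_comm, pow_mul, ← hyord, pow_orderOf_eq_one, one_pow]
      have hfe := Finset.eq_of_subset_of_card_le hsub (by
        rw [Finset.card_image_of_injOn (by
          intro a ha b hb hab
          exact pow_injOn_Iio_orderOf (by simpa [hyord] using ha) (by simpa [hyord] using hb) hab),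
          Finset.card_range]
        exact IsCyclic.card_pow_eq_one_le hq.pos)
      refine Subgroup.eq_of_le_of_card_ge (Subgroup.zpowers_le.mpr ?_) (by
        rw [Nat.card_zpowers, Nat.card_zpowers, hord, hyord])
      have hz : (⟨g⁻¹ * (y : G) * g, hmem⟩ : C) ∈ Finset.univ.filter (fun x : C => x ^ q = 1) :=
        Finset.mem_filter.mpr ⟨Finset.mem_univ _, by rw [← hord, pow_orderOf_eq_one]⟩
      rw [← hfe] at hz
      obtain ⟨i, -, hi⟩ := Finset.mem_image.mp hz
      exact hi ▸ Subgroup.npow_mem_zpowers _ i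
    obtain ⟨k, hk⟩ := (heq ▸ Subgroup.mem_zpowers _ : (⟨g⁻¹ * (y : G) * g, hmem⟩ : C) ∈ Subgroup.zpowers y)
    exact ⟨k, by simpa using congrArg Subtype.val hk⟩
  have hy1 : (y : G) = 1 := by
    refine FaithfulSMul.eq_of_smul_eq_smul (α := Ω) fun x => ?_
    obtain ⟨g, rfl⟩ := htrans.exists_smul_eq ω x
    obtain ⟨k, hk⟩ := hchar g
    have : (g⁻¹ * (y : G) * g) • ω = ω := by
      rw [← hk]
      exact Subgroup.zpow_mem _ (show (y : G) ∈ MulAction.stabilizer G ω from hω) k
    rw [mul_smul, mul_smul, inv_smul_eq_iff] at this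
    rw [one_smul, this]
  have hy1' : y = 1 := Subtype.ext hy1
  rw [hy1', orderOf_one] at hyord
  exact hq.ne_one hyord.symm

end Cfsg.Agent.S3554
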