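import Cfsg.Statements.S3555
import Cfsg.Agent.Lib.PrimRecog.DerangementInvolutions

set_option autoImplicit false
open Cfsg
open scoped Pointwise

namespace Cfsg.Agent.S3555

/-- Let G act faithfully and transitively on a finite set and suppose every element of G fixing no point is an involution. Then either G is an elementary abelian 2-group, or G is a Frobenius group whose Frobenius kernel is an elementary abelian 2-group: G has a Frobenius complement H, and the elements lying in no conjugate of H, together with the identity, pairwise commute and square to the identity. -/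
theorem result {G Ω : Type*} [Group G] [Finite G] [MulAction G Ω] [FaithfulSMul G Ω] [Finite Ω]
    (htrans : MulAction.IsPretransitive G Ω) (hinv : ∀ g : G, (∀ ω : Ω, g • ω ≠ ω) → orderOf g = 2) :
    (IsMulCommutative G ∧ ∀ g : G, g ^ 2 = 1) ∨
    (∃ H : Subgroup G, Cfsg.IsFrobeniusComplement H ∧
      (∀ x ∈ Cfsg.frobeniusKernel H, x ^ 2 = 1) ∧
      ∀ x ∈ Cfsg.frobeniusKernel H, ∀ y ∈ Cfsg.frobeniusKernel H, x * y = y * x) := by
  have hne : Nonempty Ω := by
    by_contra h
    rw [not_nonempty_iff] at h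
    have := hinv 1 fun ω => isEmptyElim ω
    rw [orderOf_one] at this
    omega
  obtain ⟨a⟩ := hne
  set S := MulAction.stabilizer G a with hSdef
  have hcore : S.normalCore = ⊥ := by
    rw [eq_bot_iff]
    intro x hx
    refine Subgroup.mem_bot.mpr (FaithfulSMul.eq_of_smul_eq_smul (α := Ω) fun ω => ?_)
    obtain ⟨g, rfl⟩ := htrans.exists_smul_eq a ω
    have h1 : g⁻¹ * x * g⁻¹⁻¹ ∈ S := hx g⁻¹
    rw [inv_inv, hSdef, MulAction.mem_stabilizer_iff, mul_smul, mul_smul, inv_smul_eq_iff] at h1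
    rw [h1, one_smul]
  have hyp : ∀ g : G, (∀ x : G, x⁻¹ * g * x ∉ S) → g * g = 1 := by
    intro g hg
    rw [← pow_two, ← hinv g fun ω hω => ?_, pow_orderOf_eq_one]
    obtain ⟨x, rfl⟩ := htrans.exists_smul_eq a ω
    refine hg x ?_
    rw [hSdef, MulAction.mem_stabilizer_iff, mul_smul, mul_smul, hω, inv_smul_smul]
  rcases CfsgLib.PrimRecog.involDerangeShape _ G rfl S hcore hyp with
    ⟨-, h⟩ | ⟨hne, V, hV, hinf, hsup, hsq, -, hfpf⟩
  · exact Or.inl ⟨⟨⟨fun x y => CfsgLib.PrimRecog.comm_of_sq (V := (⊤ : Subgroup G)) (fun v _ => h v) trivial trivial⟩⟩,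
      fun g => by rw [pow_two]; exact h g⟩
  right
  have hbot : ∀ x, x ∈ V → x ∈ S → x = 1 := fun x h1 h2 =>
    Subgroup.mem_bot.mp (hinf ▸ Subgroup.mem_inf.mpr ⟨h1, h2⟩)
  have hsolve : ∀ h ∈ S, h ≠ 1 → ∀ v ∈ V, ∃ w ∈ V, w * h * w⁻¹ = v * h := by
    intro h hh hh1 v hv
    let f : V → V := fun w => ⟨w * (h * (w : G)⁻¹ * h⁻¹),
      V.mul_mem w.2 (hV.conj_mem _ (V.inv_mem w.2) h)⟩
    have hf : Function.Injective f := by
      intro u w huw
      have e1 : (u : G) * (h * (u : G)⁻¹ * h⁻¹) = w * (h * (w : G)⁻¹ * h⁻¹) := congrArg Subtype.val huw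
      have e1' := congrArg (fun y => (w : G)⁻¹ * y * h * (u : G)) e1
      have e2 : h * ((w : G)⁻¹ * u) = (w : G)⁻¹ * u * h := by
        simpa [mul_assoc] using e1'.symm
      have := hfpf h hh hh1 _ (V.mul_mem (V.inv_mem w.2) u.2) e2
      exact Subtype.ext (inv_mul_eq_one.mp this).symm
    obtain ⟨w, hw⟩ := (Finite.injective_iff_surjective.mp hf) ⟨v, hv⟩
    refine ⟨w, w.2, ?_⟩
    have e : (w : G) * (h * (w : G)⁻¹ * h⁻¹) = v := congrArg Subtype.val hw
    rw [← e]
    group
  have hker : ∀ x ∈ Cfsg.frobeniusKernel S, x ∈ V := by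
    intro x hx
    rcases hx with rfl | hx
    · exact V.one_mem
    obtain ⟨v, hv, h, hh, rfl⟩ := CfsgLib.PrimRecog.eq_decomp hsup x
    by_cases hh1 : h = 1
    · rw [hh1, mul_one]; exact hv
    obtain ⟨w, -, hw⟩ := hsolve h hh hh1 v hv
    exfalso
    refine hx w ?_
    rw [← hw]
    exact Subgroup.smul_mem_pointwise_smul h (MulAut.conj w) S hh
  refine ⟨S, ⟨hne, fun htop => ?_, fun g hg => ?_⟩, fun x hx => by rw [pow_two]; exact hsq x (hker x hx),
    fun x hx y hy => CfsgLib.PrimRecog.comm_of_sq hsq (hker x hx) (hker y hy)⟩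
  · refine hne ?_
    rw [htop, Subgroup.normalCore_eq_self] at hcore
    rw [htop, hcore]
  · rw [eq_bot_iff]
    intro x hx
    obtain ⟨hxS, hxg⟩ := Subgroup.mem_inf.mp hx
    rw [Subgroup.mem_pointwise_smul_iff_inv_smul_mem, ← map_inv, MulAut.smul_def, MulAut.conj_apply,
      inv_inv] at hxg
    obtain ⟨v, hv, h, hh, rfl⟩ := CfsgLib.PrimRecog.eq_decomp hsup g
    rw [Subgroup.mem_bot]
    by_contra hx1
    have hy : v⁻¹ * x * v ∈ S := by
      simpa [mul_assoc] using S.mul_mem (S.mul_mem hh hxg) (S.inv_mem hh)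
    have h0 : v⁻¹ * x * v * x⁻¹ = 1 := hbot _ (by
      rw [show v⁻¹ * x * v * x⁻¹ = v⁻¹ * (x * v * x⁻¹) by group]
      exact V.mul_mem (V.inv_mem hv) (hV.conj_mem v hv x)) (S.mul_mem hy (S.inv_mem hxS))
    have hcomm : x * v = v * x := by
      simpa [mul_assoc] using congrArg (fun y => v * y * x) h0
    refine hg ?_
    rw [hfpf x hxS hx1 v hv hcomm, one_mul]
    exact hh

end Cfsg.Agent.S3555
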