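import Cfsg.Statements.S3556
import Cfsg.Agent.Lib.PrimRecog.Affine

set_option autoImplicit false
open Cfsg

namespace Cfsg.Agent.S3556

/-- Let G act faithfully and primitively on a finite set with at least two points, and suppose that for some fixed prime p every element of G fixing no point has order a power of p. Then G is of affine type (it has a regular normal subgroup that is an elementary abelian r-group for some prime r) or almost simple (it has a non-abelian simple normal subgroup with trivial centralizer). -/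
theorem result {G Ω : Type*} [Group G] [Finite G] [MulAction G Ω] [FaithfulSMul G Ω] [Finite Ω]
    (hprim : MulAction.IsPreprimitive G Ω) (hΩ : 2 ≤ Nat.card Ω) (p : ℕ) (hp : p.Prime)
    (hder : ∀ g : G, (∀ ω : Ω, g • ω ≠ ω) → ∃ k : ℕ, orderOf g = p ^ k) :
    (∃ (N : Subgroup G) (r : ℕ), r.Prime ∧ N.Normal ∧ Cfsg.IsElementaryAbelian r N ∧
      MulAction.IsPretransitive N Ω ∧ ∀ a : Ω, MulAction.stabilizer N a = ⊥) ∨
    (∃ T : Subgroup G, T.Normal ∧ IsSimpleGroup ↥T ∧ ¬ IsMulCommutative ↥T ∧
      Subgroup.centralizer (T : Set G) = ⊥) := by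
  have : Nontrivial Ω := Finite.one_lt_card_iff_nontrivial.mp (by omega)
  have := hprim.toIsPretransitive
  have : Nontrivial G := by
    obtain ⟨a, b, hab⟩ := exists_pair_ne Ω
    obtain ⟨g, hg⟩ := MulAction.exists_smul_eq G a b
    exact ⟨g, 1, fun h => hab (by rw [← hg, h, one_smul])⟩
  obtain ⟨N, hN, hN1, hmin⟩ := CfsgLib.PrimRecog.exists_minimal_normal (G := G)
  have htr := CfsgLib.PrimRecog.transitive_of_normal hprim hN hN1
  by_cases hc : IsMulCommutative N
  · obtain ⟨r, hr, hpow⟩ := CfsgLib.PrimRecog.exists_prime_exponent hN hN1 hmin hc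
    exact Or.inl ⟨N, r, hr, hN, ⟨hc, hpow⟩, htr,
      CfsgLib.PrimRecog.stabilizer_eq_bot_of_comm htr hc⟩
  · refine Or.inr (by_contra fun hnas => ?_)
    obtain ⟨g, hg, hne⟩ :=
      CfsgLib.PrimRecog.exists_isDer_not_pElement (Ω := Ω) hprim hN hN1 hmin hc hnas p hp
    obtain ⟨k, hk⟩ := hder g hg
    exact hne k hk

end Cfsg.Agent.S3556
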