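import Cfsg.Statements.S3560

set_option autoImplicit false
open Cfsg
open scoped Pointwise

namespace Cfsg.Agent.S3560

/-- Let K be a finite group isomorphic to a direct product of r ≥ 2 groups all of the same order m ≥ 3. Then K is not a B-group: there is a primitive but not doubly transitive permutation group (on some finite set) containing a regular subgroup isomorphic to K. -/
theorem result {K : Type*} [Group K] [Finite K] {ι : Type*} [Fintype ι] (F : ι → Type*) [∀ i, Group (F i)]
    (hr : 2 ≤ Fintype.card ι) (m : ℕ) (hm : 3 ≤ m) (hcard : ∀ i, Nat.card (F i) = m) (e : K ≃* (∀ i, F i)) :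
    ∃ (n : ℕ) (G R : Subgroup (Equiv.Perm (Fin n))), R ≤ G ∧ Nonempty (↥R ≃* K) ∧
      MulAction.IsPretransitive ↥R (Fin n) ∧ (∀ a : Fin n, MulAction.stabilizer ↥R a = ⊥) ∧
      MulAction.IsPreprimitive ↥G (Fin n) ∧ ¬ MulAction.IsMultiplyPretransitive ↥G (Fin n) 2 := by
  classical
  have hfin : ∀ i, Finite (F i) := fun i => Nat.finite_of_card_ne_zero (by rw [hcard]; omega)
  have := fun i => Fintype.ofFinite (F i)
  set X := ∀ i, F i
  let φ : X ≃ Fin (Fintype.card X) := Fintype.equivFin X
  let adj : X → X → Prop := fun x y => ∃ i, ∀ j, j ≠ i → x j = y j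
  let A : Subgroup (Equiv.Perm X) :=
    { carrier := {σ | ∀ x y, adj x y ↔ adj (σ x) (σ y)}
      one_mem' := fun x y => Iff.rfl
      mul_mem' := fun {s t} hs ht x y => (ht x y).trans (hs _ _)
      inv_mem' := fun {s} hs x y => by
        have := hs (s⁻¹ x) (s⁻¹ y)
        rw [Equiv.Perm.inv_def, Equiv.apply_symm_apply, Equiv.apply_symm_apply] at this
        rw [Equiv.Perm.inv_def]
        exact this.symm }
  let G := A.map φ.permCongrHom.toMonoidHom
  let ρ : K →* Equiv.Perm X :=
    { toFun := fun k => Equiv.mulLeft (e k)
      map_one' := by ext x; simp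
      map_mul' := fun a b => by ext x; simp [mul_assoc] }
  let ρ' : K →* Equiv.Perm (Fin (Fintype.card X)) := φ.permCongrHom.toMonoidHom.comp ρ
  have hρA : ∀ k, ρ k ∈ A := fun k x y =>
    ⟨fun ⟨i, hi⟩ => ⟨i, fun j hj => congrArg (e k j * ·) (hi j hj)⟩,
      fun ⟨i, hi⟩ => ⟨i, fun j hj => mul_left_cancel (hi j hj)⟩⟩
  have hinj : Function.Injective ρ' := fun a b h => by
    have h1 := DFunLike.congr_fun (φ.permCongrHom.injective h) (1 : X)
    exact e.injective (by simpa [ρ] using h1)
  have hRact : ∀ (k : K) (x : X), ρ' k (φ x) = φ (e k * x) := fun k x => by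
    show φ (ρ k (φ.symm (φ x))) = _
    rw [φ.symm_apply_apply]; rfl
  refine ⟨Fintype.card X, G, ρ'.range, ?_, ⟨(MonoidHom.ofInjective hinj).symm⟩, ?_, ?_, ?_, ?_⟩
  · rintro _ ⟨k, rfl⟩
    exact ⟨ρ k, hρA k, rfl⟩
  · refine ⟨fun u v => ⟨⟨ρ' (e.symm (φ.symm v * (φ.symm u)⁻¹)), _, rfl⟩, ?_⟩⟩
    show ρ' _ u = v
    conv_lhs => rw [← φ.apply_symm_apply u, hRact, MulEquiv.apply_symm_apply, φ.symm_apply_apply, inv_mul_cancel_right,
      φ.apply_symm_apply]
  · refine fun a => (Subgroup.eq_bot_iff_forall _).mpr ?_
    rintro ⟨_, k, rfl⟩ hk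
    have hk' : ρ' k a = a := hk
    rw [← φ.apply_symm_apply a, hRact, φ.apply_eq_iff_eq] at hk'
    refine Subtype.ext ?_
    show ρ' k = 1
    rw [show k = 1 from e.injective (by rw [map_one]; simpa using hk'), map_one]
  · -- primitivity
    have htr : MulAction.IsPretransitive G (Fin (Fintype.card X)) := by
      refine ⟨fun u v => ⟨⟨ρ' (e.symm (φ.symm v * (φ.symm u)⁻¹)), _, hρA _, rfl⟩, ?_⟩⟩
      show ρ' _ u = v
      conv_lhs => rw [← φ.apply_symm_apply u, hRact, MulEquiv.apply_symm_apply, φ.symm_apply_apply, inv_mul_cancel_right,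
        φ.apply_symm_apply]
    have hsep : ∀ (s : Equiv.Perm X) (hs : s ∈ A) (x : X), (⟨_, s, hs, rfl⟩ : G) • φ x = φ (s x) := by
      intro s hs x
      show φ (s (φ.symm (φ x))) = _
      rw [φ.symm_apply_apply]
    refine ⟨fun {B} hB => ?_⟩
    rcases B.subsingleton_or_nontrivial with h | hnt
    · exact Or.inl h
    right
    set S : Set X := {x | φ x ∈ B} with hS
    have hmove : ∀ (s : Equiv.Perm X), s ∈ A → ∀ x ∈ S, s x ∈ S → ∀ y ∈ S, s y ∈ S := by
      intro s hs x hx hsx y hy
      have h1 := hB.smul_eq_of_mem (g := (⟨_, s, hs, rfl⟩ : G)) hx (by rw [hsep s hs]; exact hsx)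
      show φ (s y) ∈ B
      rw [← hsep s hs y, ← h1]
      exact Set.smul_mem_smul_set hy
    -- coordinatewise permutations and coordinate exchanges
    have hcoord : ∀ (i : ι) (π : Equiv.Perm (F i)), ∃ s ∈ A, ∀ x : X, s x = Function.update x i (π (x i)) := by
      intro i π
      let s : Equiv.Perm X :=
        { toFun := fun x => Function.update x i (π (x i))
          invFun := fun x => Function.update x i (π.symm (x i))
          left_inv := fun x => by simp
          right_inv := fun x => by simp }
      refine ⟨s, fun x y => exists_congr fun k => forall_congr' fun j => imp_congr_right fun _ => ?_,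
        fun x => rfl⟩
      show x j = y j ↔ Function.update x i (π (x i)) j = Function.update y i (π (y i)) j
      by_cases hj : j = i
      · subst hj; simp
      · simp [hj]
    have hswap : ∀ (i k : ι) (hik : i ≠ k) (ε : F i ≃ F k), ∃ s ∈ A, ∀ x : X,
        s x = Function.update (Function.update x i (ε.symm (x k))) k (ε (x i)) := by
      intro i k hik ε
      let f : X → X := fun x => Function.update (Function.update x i (ε.symm (x k))) k (ε (x i))
      have hff : ∀ x, f (f x) = x := by
        intro x; funext j
        by_cases hjk : j = k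
        · subst hjk; simp [f, hik]
        · by_cases hji : j = i
          · subst hji; simp [f, hik]
          · simp [f, hjk, hji]
      have hadj : ∀ x y, adj x y → adj (f x) (f y) := by
        rintro x y ⟨l, hl⟩
        refine ⟨if l = i then k else if l = k then i else l, fun j hj => ?_⟩
        by_cases hjk : j = k
        · subst hjk
          simp only [f, Function.update_self]
          rw [hl i ?_]
          rintro rfl; simp at hj
        · by_cases hji : j = i
          · subst hji
            simp only [f, Function.update_of_ne hjk, Function.update_self]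
            rw [hl k ?_]
            rintro rfl; simp [Ne.symm hjk] at hj
          · simp only [f, Function.update_of_ne hjk, Function.update_of_ne hji]
            refine hl j ?_
            rintro rfl; simp [hji, hjk] at hj
      refine ⟨⟨f, f, hff, hff⟩, fun x y => ⟨hadj x y, fun h => ?_⟩, fun x => rfl⟩
      have := hadj _ _ h
      change adj (f (f x)) (f (f y)) at this
      rwa [hff, hff] at this
    have htrans : ∀ a ∈ S, ∀ b : X, b ∈ S → b ≠ a → ∀ (j : ι) (w : F j), Function.update a j w ∈ S := by
      intro a haS b hb hba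
      obtain ⟨k, hk⟩ : ∃ k, b k ≠ a k := Function.ne_iff.mp hba
      obtain ⟨z, hz1, hz2⟩ : ∃ z : F k, z ≠ a k ∧ z ≠ b k := by
        by_contra hne
        push Not at hne
        have h2 : (Finset.univ : Finset (F k)) ⊆ {a k, b k} := fun z _ => by
          by_cases h : z = a k
          · simp [h]
          · simp [hne z h]
        have h3 := Finset.card_le_card h2
        rw [Finset.card_univ, ← Nat.card_eq_fintype_card, hcard] at h3
        have := Finset.card_le_two (a := a k) (b := b k)
        omega
      obtain ⟨s, hs, hsx⟩ := hcoord k (Equiv.swap (b k) z)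
      have hfixa : s a = a := by
        rw [hsx, Equiv.swap_apply_of_ne_of_ne hk.symm hz1.symm, Function.update_eq_self]
      have hb' : Function.update b k z ∈ S := by
        have := hmove s hs a haS (hfixa.symm ▸ haS) b hb
        rwa [hsx, Equiv.swap_apply_left] at this
      -- move the pair `b, b'` to `a`
      set t := e.symm (a * b⁻¹)
      have htb : e t * b = a := by rw [MulEquiv.apply_symm_apply, inv_mul_cancel_right]
      have hv := hmove _ (hρA t) b hb (by show e t * b ∈ S; rw [htb]; exact haS) _ hb'
      have hv' : Function.update a k (e t k * z) ∈ S := by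
        convert hv using 1
        show _ = e t * Function.update b k z
        funext j
        by_cases hj : j = k
        · subst hj; simp
        · simp only [Pi.mul_apply, Function.update_of_ne hj]
          rw [← htb, Pi.mul_apply]
      set v := e t k * z
      have hv1 : v ≠ a k := by
        rw [← htb, Pi.mul_apply]; exact fun h => hz2 (mul_left_cancel h)
      have hline : ∀ w : F k, Function.update a k w ∈ S := by
        intro w
        by_cases hw : w = a k
        · rw [hw, Function.update_eq_self]; exact haS
        obtain ⟨s', hs', hsx'⟩ := hcoord k (Equiv.swap v w)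
        have hfix' : s' a = a := by
          rw [hsx', Equiv.swap_apply_of_ne_of_ne hv1.symm (Ne.symm hw), Function.update_eq_self]
        have := hmove s' hs' a haS (hfix'.symm ▸ haS) _ hv'
        rwa [hsx', Function.update_self, Equiv.swap_apply_left, Function.update_idem] at this
      intro j w
      by_cases hj : j = k
      · subst hj; exact hline w
      let ε₀ : F k ≃ F j := Fintype.equivOfCardEq (by
        rw [← Nat.card_eq_fintype_card, ← Nat.card_eq_fintype_card, hcard, hcard])
      let ε := ε₀.trans (Equiv.swap (ε₀ (a k)) (a j))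
      have hεa : ε (a k) = a j := by simp [ε]
      obtain ⟨s', hs', hsx'⟩ := hswap k j (Ne.symm hj) ε
      have hfix' : s' a = a := by
        rw [hsx', hεa, ← hεa, Equiv.symm_apply_apply, Function.update_eq_self, hεa,
          Function.update_eq_self]
      have := hmove s' hs' a haS (hfix'.symm ▸ haS) _ (hline (ε.symm w))
      rwa [hsx', Function.update_self, Function.update_of_ne hj, Equiv.apply_symm_apply,
        Function.update_idem, ← hεa, Equiv.symm_apply_apply, Function.update_eq_self] at this
    obtain ⟨u, hu, v, hv, huv⟩ := hnt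
    have huS : φ.symm u ∈ S := by simpa [hS] using hu
    have hvS : φ.symm v ∈ S := by simpa [hS] using hv
    have hall : ∀ x : X, x ∈ S := by
      intro x
      suffices h : ∀ s : Finset ι, (fun i => if i ∈ s then x i else φ.symm u i) ∈ S by simpa using h Finset.univ
      intro s
      induction s using Finset.induction with
      | empty => simpa using huS
      | insert j s hjs ih =>
        obtain ⟨c, hcS, hc⟩ : ∃ c ∈ S, c ≠ (fun i => if i ∈ s then x i else φ.symm u i) := by
          by_cases h : φ.symm u = fun i => if i ∈ s then x i else φ.symm u i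
          · exact ⟨_, hvS, fun he => huv (φ.symm.injective (h.trans he.symm))⟩
          · exact ⟨_, huS, h⟩
        convert htrans _ ih c hcS hc j (x j) using 1
        funext i
        by_cases hi : i = j
        · subst hi; simp
        · simp [hi]
    exact Set.eq_univ_of_forall fun w => by simpa [hS] using hall (φ.symm w)
  · -- not doubly transitive
    rw [MulAction.is_two_pretransitive_iff]
    push Not
    obtain ⟨i, k, hik⟩ := Fintype.one_lt_card_iff.mp (show 1 < Fintype.card ι by omega)
    have hnt : ∀ j, ∃ w : F j, w ≠ 1 := fun j => by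
      have : Nontrivial (F j) := Finite.one_lt_card_iff_nontrivial.mp (by rw [hcard]; omega)
      exact exists_ne 1
    obtain ⟨w₁, hw₁⟩ := hnt i
    obtain ⟨w₂, hw₂⟩ := hnt k
    have h1j : ∀ j, (1 : X) j = 1 := fun j => rfl
    set x : X := Function.update 1 i w₁
    set y : X := Function.update x k w₂
    have hx : x ≠ 1 := fun h => hw₁ (by simpa [x, h1j] using congrFun h i)
    have hy : y ≠ 1 := fun h => hw₂ (by simpa [y, h1j] using congrFun h k)
    refine ⟨φ 1, φ x, φ 1, φ y, fun h => hx (φ.injective h).symm, fun h => hy (φ.injective h).symm, ?_⟩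
    rintro ⟨_, s, hs, rfl⟩ h1 h2
    have e1 : φ (s (φ.symm (φ 1))) = φ 1 := h1
    have e2 : φ (s (φ.symm (φ x))) = φ y := h2
    rw [φ.symm_apply_apply, φ.apply_eq_iff_eq] at e1 e2
    obtain ⟨l, hl⟩ := (hs 1 x).mp ⟨i, fun j hj => by simp [x, hj, h1j]⟩
    rw [e1, e2] at hl
    by_cases hli : l = i
    · subst hli
      exact hw₂ (by simpa [y, h1j] using (hl k (Ne.symm hik)).symm)
    · exact hw₁ (by simpa [y, x, hik, h1j] using (hl i (Ne.symm hli)).symm)

end Cfsg.Agent.S3560
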