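import Cfsg.Statements.S3571
import Cfsg.Agent.Lib.Recog.AltDerangement
import Cfsg.Agent.Lib.PermGroup.Basic

set_option autoImplicit false
open Cfsg

namespace Cfsg.Agent.S3571

open MulAction
open scoped Pointwise

/-- Let G be an almost simple group whose socle is an alternating group of degree m ≥ 5 (G has a normal subgroup T isomorphic to that alternating group with trivial centralizer), acting faithfully and primitively on a finite set Ω with at least two points, and let r be the largest prime divisor of the number of points. Then G contains an element of order r fixing no point. -/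
theorem result {G Ω : Type*} [Group G] [Finite G] [MulAction G Ω] [FaithfulSMul G Ω] [Finite Ω]
    (T : Subgroup G) (hT : T.Normal) (hTc : Subgroup.centralizer (T : Set G) = ⊥) (m : ℕ) (hm : 5 ≤ m)
    (eT : ↥T ≃* ↥(alternatingGroup (Fin m))) (hprim : MulAction.IsPreprimitive G Ω) (hΩ : 2 ≤ Nat.card Ω)
    (r : ℕ) (hr : r.Prime) (hrd : r ∣ Nat.card Ω) (hmax : ∀ s : ℕ, s.Prime → s ∣ Nat.card Ω → s ≤ r) :
    ∃ g : G, orderOf g = r ∧ ∀ ω : Ω, g • ω ≠ ω := by
  classical
  have : IsPreprimitive G Ω := hprim
  have : Nontrivial Ω := Finite.one_lt_card_iff_nontrivial.1 (by omega)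
  have : Nonempty Ω := inferInstance
  obtain ⟨α⟩ := this
  have hA : 1 < Nat.card ↥(alternatingGroup (Fin m)) := by
    have : Nontrivial (Fin m) := Fin.nontrivial_iff_two_le.2 (by omega)
    have h := two_mul_nat_card_alternatingGroup (α := Fin m)
    have := Nat.factorial_le (show 3 ≤ m by omega)
    rw [Nat.card_perm, Nat.card_fin] at h
    norm_num at this
    omega
  have hTne : T ≠ ⊥ := fun h => by
    rw [← Nat.card_congr eT.toEquiv, h, Subgroup.card_bot] at hA
    omega
  have hTt : IsPretransitive ↥T Ω := CfsgLib.PermGroup.isPretransitive_of_normal hTne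
  set K : Subgroup ↥(alternatingGroup (Fin m)) := (stabilizer ↥T α).map eT.toMonoidHom with hK
  have hidx : K.index = Nat.card Ω := by
    exact (Subgroup.index_map_equiv _ eT).trans (index_stabilizer_of_transitive _ α)
  have hbig : m = 6 ∨ ∀ z : Fin m, m < 2 * (orbit ↥K z).ncard → orbit ↥K z ≠ Set.univ →
      stabilizer ↥(alternatingGroup (Fin m)) (orbit ↥K z) ≤ K := by
    by_cases h6 : m = 6
    · exact Or.inl h6
    refine Or.inr fun z hz hzu a ha => ?_
    have : T.Normal := hT
    let φ := (MulEquiv.ofBijective _ (CfsgLib.Schur.conjNormal_bijective (n := m)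
      (by omega) h6))
    let σ : G →* Equiv.Perm (Fin m) := φ.symm.toMonoidHom.comp
      ((MulAut.congr eT).toMonoidHom.comp (MulAut.conjNormal : G →* MulAut ↥T))
    have hσ : ∀ (g : G) (b : ↥(alternatingGroup (Fin m))),
        MulAut.conjNormal (σ g) b = eT (MulAut.conjNormal g (eT.symm b)) := by
      intro g b
      have h : MulAut.conjNormal (σ g) = MulAut.congr eT (MulAut.conjNormal g) := φ.apply_symm_apply _
      rw [h]; rfl
    have hσT : ∀ t : ↥T, σ t = (eT t : Equiv.Perm (Fin m)) := by
      intro t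
      apply (CfsgLib.Schur.conjNormal_bijective (n := m) (by omega) h6).1
      refine MulEquiv.ext fun b => ?_
      rw [hσ]
      have h1 : MulAut.conjNormal (t : G) (eT.symm b) = t * eT.symm b * t⁻¹ :=
        Subtype.ext (by simp)
      rw [h1, map_mul, map_mul, map_inv, MulEquiv.apply_symm_apply]
      exact Subtype.ext (by simp)
    set D := orbit ↥K z with hD
    let M : Subgroup G := (stabilizer (Equiv.Perm (Fin m)) D).comap σ
    have hHM : stabilizer G α ≤ M := by
      intro g hg
      have hKn : ∀ {b : ↥(alternatingGroup (Fin m))}, b ∈ K → MulAut.conjNormal (σ g) b ∈ K := by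
        rintro b ⟨s, hs, rfl⟩
        rw [hσ]
        refine ⟨MulAut.conjNormal g s, ?_, by simp⟩
        show ((MulAut.conjNormal g s : ↥T) : G) • α = α
        rw [MulAut.conjNormal_apply, mul_smul, mul_smul, inv_smul_eq_iff.2 (mem_stabilizer_iff.1 hg).symm,
          show (s : G) • α = α from hs, mem_stabilizer_iff.1 hg]
      have hinj : Function.Injective fun y : Fin m => σ g y := (σ g).injective
      have hsub : σ g • D = orbit ↥K (σ g z) := by
        refine Set.eq_of_subset_of_ncard_le ?_ ?_ (Set.toFinite _)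
        · rintro _ ⟨_, ⟨k, rfl⟩, rfl⟩
          refine ⟨⟨_, hKn k.2⟩, ?_⟩
          show ((MulAut.conjNormal (σ g) (k : ↥(alternatingGroup (Fin m))) : ↥(alternatingGroup (Fin m))) : Equiv.Perm (Fin m)) (σ g z) = σ g ((k : ↥(alternatingGroup (Fin m))) • z)
          rw [MulAut.conjNormal_apply, Equiv.Perm.mul_apply, Equiv.Perm.mul_apply, Equiv.Perm.inv_def,
            Equiv.symm_apply_apply]
          rfl
        · -- the inverse automorphism gives the other inequality
          rw [Set.ncard_smul_set]
          have hg' : g⁻¹ ∈ stabilizer G α := inv_mem hg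
          have hback : ∀ {b : ↥(alternatingGroup (Fin m))}, b ∈ K → MulAut.conjNormal (σ g)⁻¹ b ∈ K := by
            rintro b ⟨s, hs, rfl⟩
            rw [← map_inv, hσ]
            refine ⟨MulAut.conjNormal g⁻¹ s, ?_, by simp⟩
            show ((MulAut.conjNormal g⁻¹ s : ↥T) : G) • α = α
            rw [MulAut.conjNormal_apply, mul_smul, mul_smul, inv_smul_eq_iff.2 (mem_stabilizer_iff.1 hg').symm,
              show (s : G) • α = α from hs, mem_stabilizer_iff.1 hg']
          refine le_trans (le_of_eq (Set.ncard_image_of_injective _ (σ g)⁻¹.injective).symm)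
            (Set.ncard_le_ncard ?_ (Set.toFinite _))
          rintro _ ⟨_, ⟨k, rfl⟩, rfl⟩
          refine ⟨⟨_, hback k.2⟩, ?_⟩
          show ((MulAut.conjNormal (σ g)⁻¹ (k : ↥(alternatingGroup (Fin m))) : ↥(alternatingGroup (Fin m))) : Equiv.Perm (Fin m)) z = (σ g)⁻¹ ((k : ↥(alternatingGroup (Fin m))) • σ g z)
          rw [MulAut.conjNormal_apply, inv_inv, Equiv.Perm.mul_apply, Equiv.Perm.mul_apply]
          rfl
      show σ g • D = D
      rw [hsub]
      obtain ⟨w, hw1, hw2⟩ : (orbit ↥K (σ g z) ∩ D).Nonempty := by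
        rw [← hsub, ← Set.ncard_pos (Set.toFinite _)]
        have h1 := Set.ncard_inter_add_ncard_union (σ g • D) D (Set.toFinite _) (Set.toFinite _)
        have h2 : (σ g • D ∪ D).ncard ≤ m := by
          have := Set.ncard_le_ncard (Set.subset_univ (σ g • D ∪ D)) (Set.toFinite _)
          rwa [Set.ncard_univ, Nat.card_fin] at this
        have h3 : (σ g • D).ncard = D.ncard := Set.ncard_smul_set _ _
        omega
      rw [← orbit_eq_iff.2 hw1, orbit_eq_iff.2 hw2]
    rcases (isCoatom_stabilizer_iff_preprimitive G α).2 hprim |>.le_iff.1 hHM with h | h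
    · exfalso
      have hne : D.Nonempty := ⟨z, mem_orbit_self z⟩
      obtain ⟨y, hy⟩ := hne
      obtain ⟨w, hw⟩ := (Set.ne_univ_iff_exists_notMem D).1 hzu
      have := alternatingGroup.isPretransitive_of_three_le_card (α := Fin m) (by rw [Nat.card_fin]; omega)
      obtain ⟨b, rfl⟩ := exists_smul_eq ↥(alternatingGroup (Fin m)) y w
      have hm' : ((eT.symm b : ↥T) : G) ∈ M := h ▸ Subgroup.mem_top _
      have hstab : σ (eT.symm b : G) • D = D := hm'
      rw [hσT, MulEquiv.apply_symm_apply] at hstab
      exact hw (hstab ▸ Set.smul_mem_smul_set hy)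
    · refine ⟨eT.symm a, ?_, by simp⟩
      show ((eT.symm a : ↥T) : G) ∈ stabilizer G α
      rw [← h]
      show σ (eT.symm a : G) • D = D
      rw [hσT, MulEquiv.apply_symm_apply]
      exact ha
  obtain ⟨x, hx, hxK⟩ := CfsgLib.Recog.AltDerangement.main hm K hr (hidx ▸ hrd)
    (fun s hs hd => hmax s hs (hidx ▸ hd)) hbig
  refine ⟨(eT.symm x : G), by rw [Subgroup.orderOf_coe, eT.symm.orderOf_eq]; exact hx, fun ω hω => ?_⟩
  obtain ⟨t, rfl⟩ := hTt.exists_smul_eq α ω
  refine hxK (eT t⁻¹) ⟨t⁻¹ * eT.symm x * t, ?_, by simp⟩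
  · show (t⁻¹ * eT.symm x * t) • α = α
    rw [mul_smul, mul_smul, inv_smul_eq_iff]
    exact hω

end Cfsg.Agent.S3571
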