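import Cfsg.Statements.S3573
import Cfsg.Agent.Lib.Recog.PrimeOrderPerm

set_option autoImplicit false
open Cfsg

namespace Cfsg.Agent.S3573

open CfsgLib.Recog.PrimeOrderPerm

theorem all_fix_iff {n k r : ℕ} (hr : r.Prime) (hrn : r ≤ n) (hkn : k ≤ n) :
    (∀ σ : Equiv.Perm (Fin n), orderOf σ = r → ∃ s : Finset (Fin n), s.card = k ∧ s.image σ = s) ↔
      k % r ≤ n % r := by
  have : NeZero r := ⟨hr.ne_zero⟩
  constructor
  · intro h
    obtain ⟨σ, e, hσ, he⟩ := exists_perm_shape (α := Fin n) (j := n / r) (f := n % r) hr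
      (Nat.div_pos hrn hr.pos) (by simp [Nat.div_add_mod'])
    obtain ⟨i, -, h1, h2⟩ := (fixes_subset_iff σ e he).1 (h σ hσ)
    by_contra hlt
    have h3 : i ≤ k / r := (Nat.le_div_iff_mul_le hr.pos).2 h1
    have := Nat.mul_le_mul_right r h3
    have := Nat.div_add_mod' k r
    omega
  · intro h σ hσ
    obtain ⟨j, f, e, hj, hn, he⟩ := exists_equiv_shiftPerm hr σ hσ
    rw [fixes_subset_iff σ e he]
    rw [Fintype.card_fin] at hn
    have hk := Nat.div_add_mod' k r
    rcases le_total (k / r) j with h1 | h1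
    · refine ⟨k / r, h1, by omega, ?_⟩
      have h2 : n % r ≤ f := by
        have : n % r = f % r := by rw [← hn]; simp
        rw [this]; exact Nat.mod_le _ _
      omega
    · have := Nat.mul_le_mul_right r h1
      exact ⟨j, le_rfl, by omega, by omega⟩

/-- Let 1 ≤ k with 2k < n and consider the symmetric group of degree n acting on the k-subsets of an n-set. Let r be a prime dividing the number C(n,k) of k-subsets. If r is odd, then every permutation of order r fixes some k-subset if and only if r ≤ k and the remainder of k modulo r is at most the remainder of n modulo r. If r = 2, then every involution fixes some k-subset if and only if k is even or n is odd. -/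
theorem result (n k : ℕ) (hk : 1 ≤ k) (hkn : 2 * k < n) (r : ℕ) (hr : r.Prime) (hrd : r ∣ Nat.choose n k) :
    (r ≠ 2 → ((∀ σ : Equiv.Perm (Fin n), orderOf σ = r → ∃ s : Finset (Fin n), s.card = k ∧ s.image σ = s) ↔
      (r ≤ k ∧ k % r ≤ n % r))) ∧
    (r = 2 → ((∀ σ : Equiv.Perm (Fin n), orderOf σ = 2 → ∃ s : Finset (Fin n), s.card = k ∧ s.image σ = s) ↔
      (Even k ∨ Odd n))) := by
  have hrn : r ≤ n := hr.dvd_factorial.1 <| hrd.trans ⟨k.factorial * (n - k).factorial, by
    rw [← mul_assoc, Nat.choose_mul_factorial_mul_factorial (by omega)]⟩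
  refine ⟨fun _ => ?_, ?_⟩
  · rw [all_fix_iff hr hrn (by omega)]
    refine ⟨fun h => ⟨?_, h⟩, fun h => h.2⟩
    by_contra hlt
    have : Fact r.Prime := ⟨hr⟩
    have h1 := Choose.choose_modEq_choose_mod_mul_choose_div_nat (n := n) (k := k) (p := r)
    have hkm : k % r = k := Nat.mod_eq_of_lt (by omega)
    rw [hkm, Nat.div_eq_of_lt (show k < r by omega), Nat.choose_zero_right, mul_one] at h1
    have h2 : r ∣ (n % r).choose k := (Nat.ModEq.dvd_iff h1 dvd_rfl).1 hrd
    have h3 : r ∣ (n % r).factorial := h2.trans ⟨k.factorial * (n % r - k).factorial, by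
      rw [← mul_assoc, Nat.choose_mul_factorial_mul_factorial (by omega)]⟩
    have := hr.dvd_factorial.1 h3
    have := Nat.mod_lt n hr.pos
    omega
  · rintro rfl
    rw [all_fix_iff hr hrn (by omega), Nat.even_iff, Nat.odd_iff]
    omega

end Cfsg.Agent.S3573
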