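import Cfsg.Statements.S3575
import Cfsg.Agent.Lib.Recog.UniformPartition

set_option autoImplicit false
open Cfsg

namespace Cfsg.Agent.S3575

open CfsgLib.Recog.PrimeOrderPerm CfsgLib.Recog.UniformPartition

/-- Let a, b ≥ 2 and consider the symmetric group of degree a·b acting on the partitions of an (a·b)-set into b parts of size a (encoded as maps onto a b-element set all of whose fibres have a elements; a permutation fixes such a partition when it permutes the fibres). Let r be a prime dividing the number (ab)!/((a!)^b·b!) of such partitions, and let ℓ and k be the remainders of a and b modulo r. Then every permutation of order r fixes some such partition if and only if r ≤ a and one of the following holds: ℓ = 0; or k = 0 and ℓ = 1; or ℓ and k are non-zero, k·ℓ < r, and either b < r or (k + r)·ℓ ≤ k·a + r. -/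
theorem result (a b : ℕ) (ha : 2 ≤ a) (hb : 2 ≤ b) (r : ℕ) (hr : r.Prime)
    (hrd : r ∣ (a * b).factorial / (a.factorial ^ b * b.factorial)) :
    (∀ σ : Equiv.Perm (Fin (a * b)), orderOf σ = r →
        ∃ f : Fin (a * b) → Fin b, (∀ j : Fin b, Nat.card {x : Fin (a * b) // f x = j} = a) ∧
          ∃ π : Equiv.Perm (Fin b), ∀ x : Fin (a * b), f (σ x) = π (f x)) ↔
      (r ≤ a ∧ (a % r = 0 ∨ (b % r = 0 ∧ a % r = 1) ∨
        (a % r ≠ 0 ∧ b % r ≠ 0 ∧ (b % r) * (a % r) < r ∧ (b < r ∨ (b % r + r) * (a % r) ≤ (b % r) * a + r)))) := by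
  have : NeZero r := ⟨hr.ne_zero⟩
  have hrn : r ≤ a * b := hr.dvd_factorial.1 <| hrd.trans <| Nat.div_dvd_of_dvd
    ⟨Nat.uniformBell b a, by rw [mul_comm a b, ← Nat.uniformBell_mul_eq b (show a ≠ 0 by omega)]; ring⟩
  rw [← arith_iff ha hr.two_le hrn]
  constructor
  · intro h j hj hjr
    obtain ⟨σ, e, hσ, he⟩ := exists_perm_shape (α := Fin (a * b)) (j := j) (f := a * b - j * r) hr hj
      (by simp; omega)
    obtain ⟨f, hf, π, hπ⟩ := h σ hσ
    refine necessity hr (show 1 ≤ a by omega) (fun p => f (e.symm p)) (fun v => ?_) π (fun p => ?_)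
    · exact (Nat.card_congr (e.symm.subtypeEquiv fun p => Iff.rfl)).trans (hf v)
    · obtain ⟨x, rfl⟩ := e.surjective p
      rw [← he, Equiv.symm_apply_apply, Equiv.symm_apply_apply, hπ]
  · intro h σ hσ
    obtain ⟨j, f, e, hj, hn, he⟩ := exists_equiv_shiftPerm hr σ hσ
    rw [Fintype.card_fin] at hn
    obtain ⟨t, ht, hta, hjt⟩ := h j hj (by omega)
    obtain ⟨g, π, hg, hπ⟩ := sufficiency hn ht hta hjt
    refine ⟨fun x => g (e x), fun v => ?_, π, fun x => ?_⟩
    · exact (Nat.card_congr (e.subtypeEquiv fun p => Iff.rfl)).trans (hg v)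
    · simp only [he, hπ]

end Cfsg.Agent.S3575
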