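import Cfsg.Statements.S3580
import Mathlib.GroupTheory.GroupAction.Quotient
import Cfsg.Agent.Lib.SylowFix.Induction

set_option autoImplicit false
open Cfsg
open scoped Pointwise
open MulAction CfsgLib.SylowFix

namespace Cfsg.Agent.S3580

/-- Let G act faithfully and transitively on a finite set Ω, let p be an odd prime dividing the order of G and P a Sylow p-subgroup of G. Then the number of orbits of P on Ω is at most (p/(2p − 1))·(number of points). -/
theorem result {G Ω : Type*} [Group G] [Finite G] [MulAction G Ω] [FaithfulSMul G Ω] [Finite Ω]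
    (htrans : MulAction.IsPretransitive G Ω) (p : ℕ) [Fact p.Prime] (hp2 : p ≠ 2) (hpG : p ∣ Nat.card G)
    (P : Sylow p G) :
    (2 * p - 1) * Nat.card (MulAction.orbitRel.Quotient ↥(P : Subgroup G) Ω) ≤ p * Nat.card Ω := by
  classical
  have hp : p.Prime := Fact.out
  have := Fintype.ofFinite Ω
  have := htrans
  set K : Subgroup G := gen (Set.univ : Set (Sylow p G)) with hK
  have hPK : (P : Subgroup G) ≤ K := le_gen (Set.mem_univ P)
  -- the orbits of the group of all Sylow subgroups are nontrivial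
  have hsize : ∀ y : Ω, 2 ≤ (orbit K y).ncard := by
    intro y
    by_contra hlt
    have hfix : ∀ Q : Sylow p G, y ∈ CfsgLib.SylowFix.Fix (Q : Subgroup G) := fun Q q hq => by
      rw [mem_stabilizer_iff]
      exact (Set.ncard_le_one (Set.toFinite _)).1 (Nat.le_of_lt_succ (not_le.1 hlt)) _
        (show q • y ∈ orbit K y from ⟨(⟨q, le_gen (Set.mem_univ Q) hq⟩ : K), rfl⟩) _
        (mem_orbit_self y)
    refine P.ne_bot_of_dvd_card hpG (eq_bot_iff.2 fun q hq => ?_)
    refine Subgroup.mem_bot.2 (FaithfulSMul.eq_of_smul_eq_smul (α := Ω) fun z => ?_)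
    obtain ⟨g, rfl⟩ := MulAction.exists_smul_eq G y z
    rw [one_smul]
    refine mem_stabilizer_iff.1 (?_ : q ∈ stabilizer G (g • y))
    have := (mem_Fix_smul_iff g (g⁻¹ • P) y).2 (hfix _)
    rw [smul_inv_smul] at this
    exact this hq
  have hA : 0 ≤ dev p (P : Subgroup G) (Set.univ : Set Ω) :=
    dev_nonneg_of_orbits _ (K := K) (fun _ _ _ _ => trivial) fun y _ =>
      dev_orbit_nonneg (bound (Nat.card Ω + 1)) (lt_of_le_of_lt (by
        rw [← Set.ncard_univ]; exact Set.ncard_le_ncard (Set.subset_univ _)) (Nat.lt_succ_self _))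
        (hsize y) hPK
  rw [dev, Set.univ_inter, Set.ncard_univ] at hA
  -- counting the orbits of `P`
  set π : Ω → orbitRel.Quotient (P : Subgroup G) Ω := fun x => Quotient.mk'' x with hπ
  set F : Finset Ω := (CfsgLib.SylowFix.Fix (α := Ω) (P : Subgroup G)).toFinset with hF
  set M : Finset Ω := Finset.univ \ F with hM
  have hFc : F.card = (CfsgLib.SylowFix.Fix (α := Ω) (P : Subgroup G)).ncard := (Set.ncard_eq_toFinset_card' _).symm
  have := Fintype.ofFinite (orbitRel.Quotient (P : Subgroup G) Ω)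
  have hcover : (Finset.univ : Finset (orbitRel.Quotient (P : Subgroup G) Ω)) ⊆
      F.image π ∪ M.image π := by
    intro q _
    induction q using Quotient.inductionOn' with
    | h x =>
      rw [← Finset.image_union, hM, Finset.union_sdiff_of_subset (Finset.subset_univ _)]
      exact Finset.mem_image_of_mem π (Finset.mem_univ x)
  have hfib : ∀ q ∈ M.image π, p ≤ (M.filter fun x => π x = q).card := by
    intro q hq
    obtain ⟨x, hx, rfl⟩ := Finset.mem_image.1 hq
    have hxn : x ∉ CfsgLib.SylowFix.Fix (P : Subgroup G) := fun h =>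
      (Finset.mem_sdiff.1 hx).2 (Set.mem_toFinset.2 h)
    refine le_trans (le_ncard_orbit P.2 hxn) ?_
    rw [Set.ncard_eq_toFinset_card']
    refine Finset.card_le_card fun w hw => ?_
    rw [Set.mem_toFinset] at hw
    refine Finset.mem_filter.2 ⟨Finset.mem_sdiff.2 ⟨Finset.mem_univ w, fun hwF => hxn ?_⟩,
      Quotient.sound' hw⟩
    rw [Set.mem_toFinset] at hwF
    obtain ⟨⟨g, hg⟩, hgw⟩ := mem_orbit_symm.1 hw
    change g • w = x at hgw
    rw [← hgw, mem_Fix.1 hwF g hg]
    exact hwF
  have h1 : M.card ≥ (M.image π).card * p := by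
    rw [Finset.card_eq_sum_card_image π M, ← smul_eq_mul, ← Finset.sum_const]
    exact Finset.sum_le_sum hfib
  have h2 : Nat.card (orbitRel.Quotient (P : Subgroup G) Ω) ≤ F.card + (M.image π).card := by
    rw [Nat.card_eq_fintype_card, ← Finset.card_univ]
    exact le_trans (Finset.card_le_card hcover) (le_trans (Finset.card_union_le _ _)
      (Nat.add_le_add_right Finset.card_image_le _))
  have h3 : M.card + F.card = Nat.card Ω := by
    rw [hM, Finset.card_sdiff_add_card_eq_card (Finset.subset_univ _), Finset.card_univ,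
      Nat.card_eq_fintype_card]
  rw [hFc] at h2 h3
  have hp1 : 1 ≤ p := hp.one_lt.le
  have hp2' : 1 ≤ 2 * p := by omega
  have hppos : (0 : ℤ) < p := by exact_mod_cast hp.pos
  zify [hp2'] at h1 h2 h3 ⊢
  refine le_of_mul_le_mul_left ?_ hppos
  have e1 := mul_le_mul_of_nonneg_left h2 (show (0 : ℤ) ≤ (p : ℤ) * (2 * p - 1) by
    have : (0 : ℤ) ≤ 2 * (p : ℤ) - 1 := by linarith
    positivity)
  have e2 := mul_le_mul_of_nonneg_left h1 (show (0 : ℤ) ≤ 2 * (p : ℤ) - 1 by linarith)
  have e3 := mul_nonneg (show (0 : ℤ) ≤ (p : ℤ) - 1 by linarith) hA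
  nlinarith

end Cfsg.Agent.S3580
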