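import Cfsg.Statements.S3583
import Cfsg.Agent.Lib.Recog.ClassSizesPSLTwoSplit
-- import your own Cfsg.Agent.* helpers here

set_option autoImplicit false
open Cfsg

namespace Cfsg.Agent.S3583

/-- Let F be a finite field with q elements, where either q is even and q > 2, or q is odd and q ≥ 7, and let G be a finite group whose set of conjugacy class sizes equals that of PSL(2,F). Then G is the direct product of a normal subgroup isomorphic to PSL(2,F) and a central (hence abelian) subgroup: there are subgroups N and A of G with N normal and isomorphic to PSL(2,F), A contained in the centre, N ∩ A = 1 and NA = G. -/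
theorem result {F : Type*} [Field F] [Fintype F]
    (hq : (2 ∣ Fintype.card F ∧ 2 < Fintype.card F) ∨ (¬ 2 ∣ Fintype.card F ∧ 7 ≤ Fintype.card F))
    {G : Type*} [Group G] [Finite G]
    (h : Set.range (fun g : G => (Subgroup.centralizer ({g} : Set G)).index) = Set.range (fun g : (Matrix.ProjectiveSpecialLinearGroup (Fin 2) F) => (Subgroup.centralizer ({g} : Set (Matrix.ProjectiveSpecialLinearGroup (Fin 2) F))).index)) :
    ∃ N A : Subgroup G, N.Normal ∧ A ≤ Subgroup.center G ∧ N ⊓ A = ⊥ ∧ N ⊔ A = ⊤ ∧
      Nonempty (N ≃* Matrix.ProjectiveSpecialLinearGroup (Fin 2) F) := by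
  classical
  rcases hq with ⟨h2, h2'⟩ | ⟨hodd, h7⟩
  · have h4 : 4 ≤ Fintype.card F := by omega
    obtain ⟨f, S⟩ := CfsgLib.Recog.ClassSizesPSLTwo.sizes_even h2 h4 h
    obtain ⟨K, _, _, hK, ⟨e⟩⟩ := S.quotient_iso (fun _ => h4) (fun hp => absurd rfl hp)
    exact CfsgLib.Recog.ClassSizesPSLTwoSplit.split h4 S
      (e.trans (CfsgLib.ClassicalGroups.pslFieldCongr (FiniteField.ringEquivOfCardEq hK)))
      fun hn => absurd h2 hn
  · obtain ⟨p, f, hp2, S⟩ := CfsgLib.Recog.ClassSizesPSLTwo.sizes_odd hodd h7 h
    obtain ⟨K, _, _, hK, ⟨e⟩⟩ := S.quotient_iso (fun hp => absurd hp hp2)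
      (fun _ => ⟨rfl, by omega⟩)
    refine CfsgLib.Recog.ClassSizesPSLTwoSplit.split (by omega) S
      (e.trans (CfsgLib.ClassicalGroups.pslFieldCongr (FiniteField.ringEquivOfCardEq hK))) fun _ => ?_
    obtain ⟨S1, S3⟩ := Cfsg.Agent.S2508.result hodd h7
    obtain ⟨a, ha⟩ : ∃ a, Fintype.card F = 2 * a + 1 := ⟨Fintype.card F / 2, by omega⟩
    -- the odd class size `D`
    obtain ⟨m, hm, n, hn, hrange⟩ : ∃ m, Odd m ∧ ∃ n, Even n ∧
        (∃ g : Matrix.ProjectiveSpecialLinearGroup (Fin 2) F,
          (Subgroup.centralizer ({g} : Set _)).index = Fintype.card F * m) ∧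
        ∀ g : Matrix.ProjectiveSpecialLinearGroup (Fin 2) F,
          (Subgroup.centralizer ({g} : Set _)).index ∈ ({1, n, Fintype.card F * m,
            Fintype.card F * (Fintype.card F + 1), Fintype.card F * (Fintype.card F - 1)} : Set ℕ) := by
      have hA : Even ((Fintype.card F ^ 2 - 1) / 2) := by
        rw [ha, show (2 * a + 1) ^ 2 - 1 = 2 * (2 * (a * a + a)) by
          rw [Nat.sub_eq_iff_eq_add (Nat.one_le_pow _ _ (by omega))]; ring, Nat.mul_div_cancel_left _ two_pos]
        exact even_two_mul _
      rcases (show Fintype.card F % 4 = 1 ∨ Fintype.card F % 4 = 3 by omega) with h4 | h4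
      · refine ⟨a + 1, ⟨a / 2, by omega⟩, _, hA, ?_, fun g => ?_⟩
        · obtain ⟨g, hg⟩ : Fintype.card F * (Fintype.card F + 1) / 2 ∈ Set.range _ := by
            rw [S1 h4]; simp
          refine ⟨g, hg.trans ?_⟩
          rw [show Fintype.card F + 1 = 2 * (a + 1) by omega, mul_left_comm,
            Nat.mul_div_cancel_left _ two_pos]
        · have := S1 h4 ▸ Set.mem_range_self g
          rw [show Fintype.card F * (Fintype.card F + 1) / 2 = Fintype.card F * (a + 1) by
            rw [show Fintype.card F + 1 = 2 * (a + 1) by omega, mul_left_comm,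
              Nat.mul_div_cancel_left _ two_pos]] at this
          simp only [Set.mem_insert_iff, Set.mem_singleton_iff] at this ⊢
          tauto
      · refine ⟨a, ⟨a / 2, by omega⟩, _, hA, ?_, fun g => ?_⟩
        · obtain ⟨g, hg⟩ : Fintype.card F * (Fintype.card F - 1) / 2 ∈ Set.range _ := by
            rw [S3 h4]; simp
          refine ⟨g, hg.trans ?_⟩
          rw [show Fintype.card F - 1 = 2 * a by omega, mul_left_comm,
            Nat.mul_div_cancel_left _ two_pos]
        · have := S3 h4 ▸ Set.mem_range_self g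
          rw [show Fintype.card F * (Fintype.card F - 1) / 2 = Fintype.card F * a by
            rw [show Fintype.card F - 1 = 2 * a by omega, mul_left_comm,
              Nat.mul_div_cancel_left _ two_pos]] at this
          simp only [Set.mem_insert_iff, Set.mem_singleton_iff] at this ⊢
          tauto
    have hD : Odd (Fintype.card F * m) := Odd.mul ⟨a, ha⟩ hm
    obtain ⟨⟨g, hg⟩, hall⟩ := hrange
    obtain ⟨w, hw⟩ := (Set.ext_iff.1 h (Fintype.card F * m)).2 ⟨g, hg⟩
    refine ⟨w, ?_, ?_, fun u hu hdvd => ?_⟩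
    · rw [show CfsgLib.Recog.ClassSizesPSLTwo.cs w = _ from hw]
      intro e
      have := Nat.eq_one_of_mul_eq_one_right e
      omega
    · rw [show CfsgLib.Recog.ClassSizesPSLTwo.cs w = _ from hw]; exact hD
    · rw [show CfsgLib.Recog.ClassSizesPSLTwo.cs w = _ from hw] at hdvd ⊢
      have hodd' := hD.of_dvd_nat hdvd
      rw [Nat.odd_iff] at hodd'
      rcases hall u with e | e | e | e | e
      · exfalso
        have := CfsgLib.Recog.ClassSizesPSLTwo.mem_center_iff_cs.1 e
        rw [(CfsgLib.Recog.ClassSizesPSLTwoSplit.psl_perfect (by omega)).2.2, Subgroup.mem_bot] at this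
        exact hu this
      · change (Subgroup.centralizer ({u} : Set _)).index % 2 = 1 at hodd'
        rw [e] at hodd'; rw [Nat.even_iff] at hn; omega
      · exact e
      · change (Subgroup.centralizer ({u} : Set _)).index % 2 = 1 at hodd'
        rw [e, ha, Nat.mul_mod, show (2 * a + 1 + 1) % 2 = 0 by omega] at hodd'; simp at hodd'
      · change (Subgroup.centralizer ({u} : Set _)).index % 2 = 1 at hodd'
        rw [Set.mem_singleton_iff] at e
        rw [e, ha, Nat.mul_mod, show (2 * a + 1 - 1) % 2 = 0 by omega] at hodd'; simp at hodd'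

end Cfsg.Agent.S3583
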