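import Cfsg.Statements.S3590
import Cfsg.Agent.Lib.Recog.SympEightSpectrum
import Cfsg.Agent.Lib.Recog.Isospectral
-- import your own Cfsg.Agent.* helpers here

set_option autoImplicit false
open Cfsg

namespace Cfsg.Agent.S3590

/-- Let F be a finite field of characteristic 2. Then PSp(8,F) is not determined by its set of element orders, not even up to finitely many groups: for every bound there is a finite group of larger order with exactly the same set of element orders as PSp(8,F). -/
theorem result {F : Type*} [Field F] [Fintype F]
    [CharP F 2] (M : ℕ) :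
    ∃ (H : Type) (_ : Group H) (_ : Fintype H), M < Fintype.card H ∧ Set.range (orderOf : H → ℕ) = Set.range (orderOf : Cfsg.PSp 4 F → ℕ) := by
  obtain ⟨b, han⟩ := CfsgLib.Recog.SympEightSpectrum.exists_aniso (F := F)
  let K : Subgroup (CfsgLib.Recog.SympEightSpectrum.Ext han) :=
    (SemidirectProduct.inl (φ := CfsgLib.Recog.SympEightSpectrum.act han)).range
  have hKn : K.Normal := by
    change (SemidirectProduct.inl).range.Normal
    rw [SemidirectProduct.range_inl_eq_ker_rightHom]
    infer_instance
  have hK : K ≠ ⊥ := by
    intro h
    have h1 : SemidirectProduct.inl (φ := CfsgLib.Recog.SympEightSpectrum.act han)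
        (Multiplicative.ofAdd fun _ => (1 : F)) ∈ K := ⟨_, rfl⟩
    rw [h, Subgroup.mem_bot] at h1
    have h2 := Multiplicative.ofAdd.injective
      (SemidirectProduct.inl_injective (h1.trans (map_one _).symm))
    exact one_ne_zero (congrFun h2 (Sum.inr 0))
  have hs : Group.IsSolvable K :=
    Group.isSolvable_of_surjective (MonoidHom.rangeRestrict_surjective
      (SemidirectProduct.inl (φ := CfsgLib.Recog.SympEightSpectrum.act han)))
  obtain ⟨H, iG, iF, hcard, hH⟩ := CfsgLib.Recog.exists_large_isospectral K hK hs M
  exact ⟨H, iG, iF, hcard, by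
    rw [hH, CfsgLib.Recog.SympEightSpectrum.range_orderOf_Ext,
      CfsgLib.Recog.SympEightSpectrum.range_orderOf_PSp]⟩

end Cfsg.Agent.S3590
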