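import Cfsg.Statements.S3594
import Cfsg.Agent.Lib.MathieuTwentyTwo.Orbits
import Cfsg.Agent.Lib.MathieuTwentyTwo.ModelCounts

set_option autoImplicit false
open Cfsg

namespace Cfsg.Agent.S3594

/-- Let M be the Mathieu group M₂₂ (order 443520). If a finite group G has the same order as M and the same set of values of the function 'number of elements of order n' (taken over the element orders n that occur), then G is isomorphic to M. -/
theorem result {G : Type*} [Group G] [Finite G]
    (hcard : Nat.card G = Nat.card ↥Cfsg.Spor.M22)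
    (hnse : {c : ℕ | 0 < c ∧ ∃ n : ℕ, c = Nat.card {g : G // orderOf g = n}} =
      {c : ℕ | 0 < c ∧ ∃ n : ℕ, c = Nat.card {g : ↥Cfsg.Spor.M22 // orderOf g = n}}) :
    Nonempty (G ≃* ↥Cfsg.Spor.M22) := by
  have hM := CfsgLib.MathieuTwentyTwo.NseRoute.nse_model
  have h : CfsgLib.MathieuTwentyTwo.NseRoute.Nse G := by
    refine ⟨hcard.trans hM.card, fun n hn => ?_⟩
    have hmem : Nat.card {g : G // orderOf g = n} ∈
        {c : ℕ | 0 < c ∧ ∃ n : ℕ, c = Nat.card {g : G // orderOf g = n}} :=
      ⟨Nat.pos_of_ne_zero hn, n, rfl⟩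
    rw [hnse] at hmem
    obtain ⟨hpos, m, hm⟩ := hmem
    have := hM.value m (fun e => by rw [hm] at hpos; exact hpos.ne' e)
    rwa [CfsgLib.Recog.OrderCounts.cntOrd, ← hm] at this
  exact h.toLocal.isoM22

end Cfsg.Agent.S3594
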