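import Cfsg.Statements.S3595
import Cfsg.Agent.Lib.MathieuTwentyThree.ReduceLocal
import Cfsg.Agent.Lib.MathieuTwentyThree.ModelCounts
import Cfsg.Agent.Lib.MathieuTwentyThree.Main

set_option autoImplicit false
open Cfsg

namespace Cfsg.Agent.S3595

/-- Let M be the Mathieu group M₂₃ (order 10200960). If a finite group G has the same order as M and the same set of values of the function 'number of elements of order n' (taken over the element orders n that occur), then G is isomorphic to M. -/
theorem result {G : Type*} [Group G] [Finite G]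
    (hcard : Nat.card G = Nat.card ↥Cfsg.Spor.M23)
    (hnse : {c : ℕ | 0 < c ∧ ∃ n : ℕ, c = Nat.card {g : G // orderOf g = n}} =
      {c : ℕ | 0 < c ∧ ∃ n : ℕ, c = Nat.card {g : ↥Cfsg.Spor.M23 // orderOf g = n}}) :
    Nonempty (G ≃* ↥Cfsg.Spor.M23) := by
  have h : CfsgLib.MathieuTwentyThree.Nse G := by
    refine ⟨hcard.trans CfsgLib.Golay.natCard_sporM23, fun n hn => ?_⟩
    have hmem : CfsgLib.Recog.OrderCounts.cntOrd G n ∈
        {c : ℕ | 0 < c ∧ ∃ n : ℕ, c = Nat.card {g : G // orderOf g = n}} :=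
      ⟨Nat.pos_of_ne_zero hn, n, rfl⟩
    rw [hnse] at hmem
    obtain ⟨hpos, m, hm⟩ := hmem
    rw [hm] at hpos ⊢
    exact CfsgLib.MathieuTwentyThree.value_model m hpos.ne'
  haveI := h.isSimple
  exact CfsgLib.MathieuTwentyThree.nonempty_equiv_of_counts h.counts

end Cfsg.Agent.S3595
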