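import Cfsg.Statements.S3598
import Cfsg.Agent.Lib.Recog.DegreeMultisetPSL
import Cfsg.Agent.Lib.Recog.DegreeMultisetSquare
import Cfsg.Agent.Lib.Recognition.Icosahedral
import Cfsg.Agent.Lib.Small.OrderSixty
import Cfsg.Agent.Lib.ClassicalGroups.SmallIso

set_option autoImplicit false
set_option linter.style.haveILetI false
open Cfsg

namespace Cfsg.Agent.S3598

/-- Let p be a prime and F a field with p² elements. If a finite group G has, for every d, the same number of irreducible complex characters of degree d as PSL(2,F) (the same first column of the character table, with multiplicities), then G is isomorphic to PSL(2,F). -/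
theorem result {F : Type*} [Field F] [Fintype F] (p : ℕ) (hp : p.Prime)
    (hF : Fintype.card F = p ^ 2) {G : Type*} [Group G] [Finite G]
    (h : ∀ d : ℕ, Nat.card {χ : Cfsg.IrrCharacter G // (χ : G → ℂ) 1 = (d : ℂ)} =
      Nat.card {χ : Cfsg.IrrCharacter (Matrix.ProjectiveSpecialLinearGroup (Fin 2) F) // (χ : Matrix.ProjectiveSpecialLinearGroup (Fin 2) F → ℂ) 1 = (d : ℂ)}) :
    Nonempty (G ≃* Matrix.ProjectiveSpecialLinearGroup (Fin 2) F) := by
  classical
  haveI : Fintype G := Fintype.ofFinite G
  haveI : Fact p.Prime := ⟨hp⟩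
  obtain ⟨e, he⟩ := CfsgLib.Recog.DegreeMultiset.exists_degree_equiv h
  have h4 : 4 ≤ Fintype.card F := hF ▸ Nat.pow_le_pow_left hp.two_le 2
  haveI : CharP F p := by
    obtain ⟨c, hc⟩ := CharP.exists F
    haveI := hc
    haveI : Fact c.Prime := ⟨CharP.char_is_prime F c⟩
    obtain ⟨n, hcp, hn⟩ := FiniteField.card F c
    have : c = p := ((Nat.prime_dvd_prime_iff_eq hcp hp).1
      (hcp.dvd_of_dvd_pow (n := 2) (by rw [← hF, hn]; exact dvd_pow_self c n.pos.ne')))
    exact this ▸ hc
  have hprin : ∀ χ : Cfsg.IrrCharacter G, Cfsg.charDegree (χ : G → ℂ) = 1 →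
      χ = CfsgLib.Characters.principalIrr G := by
    intro χ hχ
    have h1 : ∀ ψ : Cfsg.IrrCharacter G, Cfsg.charDegree (ψ : G → ℂ) = 1 →
        e ψ = CfsgLib.Characters.principalIrr _ := fun ψ hψ =>
      CfsgLib.Recog.DegreeMultiset.eq_principal_psl h4 _ ((he ψ).trans hψ)
    refine e.injective ((h1 χ hχ).trans (h1 _ ?_).symm)
    have := CfsgLib.Chars17.cast_irrDegree (CfsgLib.Characters.principalIrr G)
    rw [CfsgLib.Characters.principalIrr_apply] at this
    exact_mod_cast this
  have hcard : Nat.card G = Nat.card (Matrix.ProjectiveSpecialLinearGroup (Fin 2) F) := by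
    haveI : Fintype (Matrix.ProjectiveSpecialLinearGroup (Fin 2) F) := Fintype.ofFinite _
    rw [← CfsgLib.Chars17.natSum_sq_degrees, ← CfsgLib.Chars17.natSum_sq_degrees]
    exact Fintype.sum_equiv e _ _ fun χ => by rw [he]
  have hK := CfsgLib.ClassicalGroups.card_psl_two_gcd (K := F)
  rw [← hcard] at hK
  rcases eq_or_ne p 2 with rfl | hp2
  · -- `q = 4`
    have hG : Nat.card G = 60 := by
      rw [hF] at hK
      norm_num [-Nat.card_eq_fintype_card] at hK
      omega
    have hns : ¬ Group.IsSolvable G := fun hsol => by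
      haveI := hsol
      haveI : Nontrivial G := Finite.one_lt_card_iff_nontrivial.1 (by omega)
      exact (Group.IsSolvable.commutator_lt_top_of_nontrivial G).ne
        (CfsgLib.Recog.DegreeMultiset.commutator_eq_top_of_unique hprin)
    haveI := CfsgLib.Icosahedral.isSimpleGroup_of_card_sixty hG hns
    obtain ⟨a⟩ := CfsgLib.Small.nonempty_mulEquiv_alternating_five (G := G) hG
    obtain ⟨b⟩ := CfsgLib.ClassicalGroups.psl_two_four_alternating (K := F) hF
    exact ⟨a.trans b.symm⟩
  · have hmod : Fintype.card F % 4 = 1 := by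
      obtain ⟨k, rfl⟩ := hp.odd_of_ne_two hp2
      rw [hF, show (2 * k + 1) ^ 2 = 4 * (k * k + k) + 1 by ring]
      omega
    have hgcd : Nat.gcd 2 (Fintype.card F - 1) = 2 :=
      Nat.gcd_eq_left (Nat.dvd_of_mod_eq_zero (by omega))
    have hm : 2 * ((p ^ 2 + 1) / 2) = p ^ 2 + 1 := by omega
    obtain ⟨η, hη, -⟩ := CfsgLib.Recog.DegreeMultiset.existsUnique_degree_card (F := F) p h4
    have S : CfsgLib.Recog.DegreeMultiset.SquareHyp G p ((p ^ 2 + 1) / 2) :=
      { prime := hp
        ne_two := hp2
        two_m := hm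
        card_eq := by
          rw [hgcd, hF] at hK
          have hsq : (p ^ 2) ^ 2 - 1 = (p ^ 2 - 1) * (p ^ 2 + 1) := by
            rw [mul_comm, ← Nat.sq_sub_sq, one_pow]
          rw [hsq, ← hm] at hK
          refine Nat.eq_of_mul_eq_mul_left two_pos (hK.trans ?_)
          ring
        unique_one := hprin
        exists_q := ⟨e.symm η, by rw [← he, e.apply_symm_apply, hη, hF]⟩
        cases := fun χ => by
          have hc := CfsgLib.Recog.DegreeMultiset.degree_cases_psl hmod (e χ)
          rw [he, hF] at hc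
          rcases hc with h | h | h | h | h
          · exact Or.inl h
          · exact Or.inr (Or.inl h)
          · exact Or.inr (Or.inr (Or.inl h))
          · exact Or.inr (Or.inr (Or.inr (Or.inl h)))
          · exact Or.inr (Or.inr (Or.inr (Or.inr (by omega)))) }
    obtain ⟨K, iF, iT, hKc, ⟨f⟩⟩ := S.recognition
    exact ⟨f.trans (CfsgLib.ClassicalGroups.pslFieldCongr
      (FiniteField.ringEquivOfCardEq (hKc.trans hF.symm)))⟩

end Cfsg.Agent.S3598
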