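import Cfsg.Statements.S3600
import Cfsg.Agent.S3433
import Cfsg.Agent.Lib.Recog.CriticalSix

set_option autoImplicit false
open Cfsg

namespace Cfsg.Agent.S3600

theorem no_order_four : ∀ g : alternatingGroup (Fin 5), orderOf g ≠ 4 := by
  intro g hg
  obtain ⟨h4, h2⟩ := (orderOf_eq_iff (by norm_num : 0 < 4)).1 hg
  have key : ∀ g : alternatingGroup (Fin 5), g ^ 4 = 1 → g ^ 2 = 1 := by decide +kernel
  exact h2 2 (by norm_num) (by norm_num) (key g h4)

theorem minimal {G : Type*} [Group G] [Finite G] (hS : CfsgLib.Recog.OrdersFive.Small G)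
    {N : Subgroup G} [N.Normal] [IsMulCommutative N] (h2 : ∀ n ∈ N, n ^ 2 = 1)
    (e : G ⧸ N ≃* alternatingGroup (Fin 5))
    (hrange : Set.range (orderOf : G → ℕ) = {k : ℕ | 1 ≤ k ∧ k ≤ 5})
    (hsec : ∀ (H : Subgroup G) (K : Subgroup ↥H) [K.Normal], (H ≠ ⊤ ∨ K ≠ ⊥) →
      Set.range (orderOf : (↥H ⧸ K) → ℕ) ≠ ({1, 2, 3, 4, 5} : Set ℕ))
    {M : Subgroup G} (hM : M.Normal) (hMN : M ≤ N) (hMb : M ≠ ⊥) : M = N := by
  by_contra hne
  have := hM
  have hex : ∀ k, 1 ≤ k → k ≤ 5 → ∃ g : G, orderOf g = k := fun k a b => by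
    have : k ∈ Set.range (orderOf : G → ℕ) := by rw [hrange]; exact ⟨a, b⟩
    exact this
  haveI : IsSimpleGroup (G ⧸ N) := by
    haveI := alternatingGroup.isSimpleGroup (α := Fin 5) (by simp)
    exact e.isSimpleGroup
  have hM2 : ∀ m ∈ M, m ^ 2 = 1 := fun m hm => h2 m (hMN hm)
  have hpr : ∀ p : ℕ, p.Prime → ∀ g : G, orderOf g = p → p ≠ 2 →
      orderOf (QuotientGroup.mk g : G ⧸ M) = p := by
    intro p hp g hg hp2
    haveI := Fact.mk hp
    refine orderOf_eq_prime (by rw [← QuotientGroup.mk_pow, ← hg, pow_orderOf_eq_one, QuotientGroup.mk_one]) ?_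
    intro h1
    have := orderOf_dvd_of_pow_eq_one (hM2 g ((QuotientGroup.eq_one_iff g).1 h1))
    rw [hg] at this
    exact hp2 ((Nat.prime_dvd_prime_iff_eq hp Nat.prime_two).1 this)
  -- no element of order four in the quotient by `M`
  have hno : ∀ q : G ⧸ M, orderOf q ≠ 4 := by
    intro q hq
    let K : Subgroup (⊤ : Subgroup G) := M.subgroupOf ⊤
    refine hsec ⊤ K (Or.inr ?_) ?_
    · intro hK
      exact hMb (by simpa [K, Subgroup.subgroupOf_eq_bot] using hK)
    · let E : (⊤ : Subgroup G) ⧸ K ≃* G ⧸ M :=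
        QuotientGroup.congr K M Subgroup.topEquiv (by
          ext g
          simp [K, Subgroup.mem_map, Subgroup.mem_subgroupOf])
      have hE : Set.range (orderOf : (⊤ : Subgroup G) ⧸ K → ℕ) = Set.range (orderOf : G ⧸ M → ℕ) := by
        ext k
        constructor
        · rintro ⟨a, rfl⟩; exact ⟨E a, MulEquiv.orderOf_eq E a⟩
        · rintro ⟨a, rfl⟩; exact ⟨E.symm a, MulEquiv.orderOf_eq E.symm a⟩
      rw [hE]
      ext k
      constructor
      · rintro ⟨q', rfl⟩
        obtain ⟨g, rfl⟩ := QuotientGroup.mk'_surjective M q'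
        have h5 := (hS g).2
        have hd := Nat.le_of_dvd (hS g).1 (orderOf_map_dvd (QuotientGroup.mk' M) g)
        have h0 := orderOf_pos (QuotientGroup.mk' M g)
        simp only [Set.mem_insert_iff, Set.mem_singleton_iff]
        omega
      · simp only [Set.mem_insert_iff, Set.mem_singleton_iff]
        rintro (rfl | rfl | rfl | rfl | rfl)
        · exact ⟨1, orderOf_one⟩
        · refine ⟨q ^ 2, ?_⟩
          rw [orderOf_pow, hq]; rfl
        · obtain ⟨g, hg⟩ := hex 3 (by norm_num) (by norm_num)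
          exact ⟨_, hpr 3 Nat.prime_three g hg (by norm_num)⟩
        · exact ⟨q, hq⟩
        · obtain ⟨g, hg⟩ := hex 5 (by norm_num) (by norm_num)
          exact ⟨_, hpr 5 Nat.prime_five g hg (by norm_num)⟩
  -- the centraliser of `N/M` is everything
  let C : Subgroup G :=
    { carrier := {g | ∀ n ∈ N, g * n * g⁻¹ * n⁻¹ ∈ M}
      one_mem' := fun n _ => by simp
      mul_mem' := fun {a b} ha hb n hn => by
        have h1 := ha _ (‹N.Normal›.conj_mem _ hn b)
        have := M.mul_mem h1 (hb n hn)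
        rwa [show a * (b * n * b⁻¹) * a⁻¹ * (b * n * b⁻¹)⁻¹ * (b * n * b⁻¹ * n⁻¹) =
          a * b * n * (a * b)⁻¹ * n⁻¹ by group] at this
      inv_mem' := fun {a} ha n hn => by
        have h1 := M.inv_mem (ha _ (‹N.Normal›.conj_mem _ hn a⁻¹))
        rwa [show (a * (a⁻¹ * n * a⁻¹⁻¹) * a⁻¹ * (a⁻¹ * n * a⁻¹⁻¹)⁻¹)⁻¹ =
          a⁻¹ * n * a⁻¹⁻¹ * n⁻¹ by group] at h1 }
  haveI hCn : C.Normal := ⟨fun c hc g n hn => by
    have h1 := hM.conj_mem _ (hc _ (‹N.Normal›.conj_mem _ hn g⁻¹)) g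
    rwa [show g * (c * (g⁻¹ * n * g⁻¹⁻¹) * c⁻¹ * (g⁻¹ * n * g⁻¹⁻¹)⁻¹) * g⁻¹ =
      g * c * g⁻¹ * n * (g * c * g⁻¹)⁻¹ * n⁻¹ by group] at h1⟩
  have hNC : N ≤ C := fun a ha n hn => by
    have h1 : a * n = n * a := congrArg Subtype.val
      ((IsMulCommutative.is_comm (M := N)).comm ⟨a, ha⟩ ⟨n, hn⟩)
    rw [h1, mul_inv_cancel_right, mul_inv_cancel]
    exact M.one_mem
  obtain ⟨T, hT1, hT2⟩ : ∃ T : alternatingGroup (Fin 5), T ≠ 1 ∧ T ^ 2 = 1 := by decide +kernel
  obtain ⟨g, hg⟩ := QuotientGroup.mk'_surjective N (e.symm T)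
  have hgN : g ∉ N := by
    intro h
    apply hT1
    have h1 : e.symm T = 1 := by rw [← hg]; exact (QuotientGroup.eq_one_iff g).2 h
    simpa using congrArg e h1
  have hg4 : g ^ 4 = 1 := by
    have h1 : g ^ 2 ∈ N := by
      rw [← QuotientGroup.eq_one_iff, QuotientGroup.mk_pow,
        show (g : G ⧸ N) = e.symm T from hg, ← map_pow, hT2, map_one]
    rw [show (4 : ℕ) = 2 * 2 from rfl, pow_mul]
    exact h2 _ h1
  have hsq : ∀ q : G ⧸ M, q ^ 4 = 1 → q ^ 2 = 1 := by
    intro q hq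
    obtain ⟨j, hj, hj'⟩ := (Nat.dvd_prime_pow Nat.prime_two).1
      (show orderOf q ∣ 2 ^ 2 from orderOf_dvd_of_pow_eq_one hq)
    interval_cases j
    · rw [(orderOf_eq_one_iff (x := q)).1 (by simpa using hj'), one_pow]
    · rw [← orderOf_dvd_iff_pow_eq_one, hj']; norm_num
    · exact absurd hj' (hno q)
  have hgC : g ∈ C := by
    intro n hn
    have hgn : (g * n) ^ 4 = 1 := by
      have h1 : (g * n) ^ 2 ∈ N := by
        rw [← QuotientGroup.eq_one_iff, QuotientGroup.mk_pow, QuotientGroup.mk_mul,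
          (QuotientGroup.eq_one_iff n).2 hn, mul_one, show (g : G ⧸ N) = e.symm T from hg, ← map_pow,
          hT2, map_one]
      rw [show (4 : ℕ) = 2 * 2 from rfl, pow_mul]
      exact h2 _ h1
    rw [← QuotientGroup.eq_one_iff]
    have a1 := hsq (g : G ⧸ M) (by rw [← QuotientGroup.mk_pow, hg4, QuotientGroup.mk_one])
    have a2 := hsq ((g * n : G) : G ⧸ M) (by rw [← QuotientGroup.mk_pow, hgn, QuotientGroup.mk_one])
    have a3 : ((n : G) : G ⧸ M) ^ 2 = 1 := by rw [← QuotientGroup.mk_pow, h2 n hn, QuotientGroup.mk_one]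
    simp only [QuotientGroup.mk_mul, QuotientGroup.mk_inv, sq] at a1 a2 a3 ⊢
    rw [inv_eq_of_mul_eq_one_right a1, inv_eq_of_mul_eq_one_right a3]
    simpa [mul_assoc] using a2
  have hCtop : C = ⊤ := by
    rcases IsSimpleGroup.eq_bot_or_eq_top_of_normal (C.map (QuotientGroup.mk' N))
      (hCn.map _ (QuotientGroup.mk'_surjective N)) with h | h
    · exfalso
      apply hgN
      rw [Subgroup.map_eq_bot_iff, QuotientGroup.ker_mk'] at h
      exact h hgC
    · have := congrArg (Subgroup.comap (QuotientGroup.mk' N)) h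
      rwa [Subgroup.comap_top, Subgroup.comap_map_eq, QuotientGroup.ker_mk', sup_of_le_left hNC] at this
  -- an element of order three fixing a point of `N ∖ M`
  obtain ⟨x, hx⟩ := hex 3 (by norm_num) (by norm_num)
  have hxC : x ∈ C := hCtop ▸ Subgroup.mem_top x
  obtain ⟨n, hn, hnM⟩ := SetLike.exists_of_lt (lt_of_le_of_ne hMN hne)
  have hx3 : x ^ 3 = 1 := by rw [← hx, pow_orderOf_eq_one]
  set p := x * n * x⁻¹ with hp
  set q := x * (x * n * x⁻¹) * x⁻¹ with hq
  have hpN : p ∈ N := ‹N.Normal›.conj_mem _ hn x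
  have hqN : q ∈ N := ‹N.Normal›.conj_mem _ hpN x
  have hcomm : ∀ a ∈ N, ∀ b ∈ N, a * b = b * a := fun a ha b hb => congrArg Subtype.val
    ((IsMulCommutative.is_comm (M := N)).comm ⟨a, ha⟩ ⟨b, hb⟩)
  have hfix : Commute x (n * p * q) := by
    have hxq : x * q * x⁻¹ = n := by
      calc x * q * x⁻¹ = (x ^ 3) * n * (x ^ 3)⁻¹ := by rw [hq, pow_succ, sq]; group
        _ = n := by rw [hx3]; group
    have h1 : x * (n * p * q) * x⁻¹ = n * p * q := by
      calc x * (n * p * q) * x⁻¹ = p * q * (x * q * x⁻¹) := by rw [hq, hp]; group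
        _ = _ := by rw [hxq, ← hcomm n hn _ (N.mul_mem hpN hqN), ← mul_assoc]
    exact mul_inv_eq_iff_eq_mul.1 h1
  have h1 := CfsgLib.Recog.CriticalSix.fixed_eq_one hS h2 (Or.inl hx) (N.mul_mem (N.mul_mem hn hpN) hqN) hfix
  apply hnM
  rw [← QuotientGroup.eq_one_iff]
  have hp' : (p : G ⧸ M) = n := by
    have := (QuotientGroup.eq_one_iff _).2 (hxC n hn)
    rwa [← hp, QuotientGroup.mk_mul, QuotientGroup.mk_inv, mul_inv_eq_one] at this
  have hq' : (q : G ⧸ M) = n := by
    have := (QuotientGroup.eq_one_iff _).2 (hxC p hpN)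
    rw [hp, ← hq, QuotientGroup.mk_mul, QuotientGroup.mk_inv, mul_inv_eq_one] at this
    rw [this, ← hp, hp']
  have h3 := congrArg (QuotientGroup.mk : G → G ⧸ M) h1
  rw [QuotientGroup.mk_mul, QuotientGroup.mk_mul, hp', hq', QuotientGroup.mk_one] at h3
  have h4 : (n : G ⧸ M) * n = 1 := by rw [← QuotientGroup.mk_mul, ← sq, h2 n hn, QuotientGroup.mk_one]
  rwa [h4, one_mul] at h3


/-- A finite group is critical with respect to a set Ω of natural numbers when its set of element orders is Ω while no proper section has Ω as its set of element orders. A finite group critical with respect to {1, 2, 3, 4, 5} (the set of element orders of the alternating group of degree 6) is isomorphic either to the alternating group of degree 6 or to the affine group F² ⋊ SL(2,F) over the field F with four elements (realised as the matrices of SL(3,F) with last row (0, 0, 1)). -/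
theorem result {G : Type*} [Group G] [Finite G]
    (hcrit : Set.range (orderOf : G → ℕ) = ({1, 2, 3, 4, 5} : Set ℕ) ∧
      ∀ (H : Subgroup G) (N : Subgroup ↥H) [N.Normal], (H ≠ ⊤ ∨ N ≠ ⊥) → Set.range (orderOf : (↥H ⧸ N) → ℕ) ≠ ({1, 2, 3, 4, 5} : Set ℕ)) :
    Nonempty (G ≃* alternatingGroup (Fin 6)) ∨
      ∃ (F : Type) (_ : Field F) (_ : Fintype F), Fintype.card F = 4 ∧
        Nonempty (G ≃* ↥(Subgroup.closure {M : Matrix.SpecialLinearGroup (Fin 3) F |
          (M : Matrix (Fin 3) (Fin 3) F) 2 0 = 0 ∧ (M : Matrix (Fin 3) (Fin 3) F) 2 1 = 0 ∧ (M : Matrix (Fin 3) (Fin 3) F) 2 2 = 1})) := by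
  obtain ⟨hspec, hsec⟩ := hcrit
  have hrange : Set.range (orderOf : G → ℕ) = {k : ℕ | 1 ≤ k ∧ k ≤ 5} := by
    rw [hspec]; ext k
    simp only [Set.mem_insert_iff, Set.mem_singleton_iff, Set.mem_ofPred_eq]
    omega
  have hS : CfsgLib.Recog.OrdersFive.Small G := fun g => by
    have hm : orderOf g ∈ Set.range (orderOf : G → ℕ) := ⟨g, rfl⟩
    rw [hrange] at hm
    exact ⟨orderOf_pos g, hm.2⟩
  have hex : ∀ k, 1 ≤ k → k ≤ 5 → ∃ g : G, orderOf g = k := fun k a b => by
    have : k ∈ Set.range (orderOf : G → ℕ) := by rw [hrange]; exact ⟨a, b⟩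
    exact this
  rcases Cfsg.Agent.S3433.result hrange with e | ⟨N, hN, ⟨hc, h2⟩, ⟨e⟩⟩
  · exact Or.inl e
  right
  haveI : Fact (Nat.Prime 2) := ⟨Nat.prime_two⟩
  let F := GaloisField 2 2
  letI : Fintype F := Fintype.ofFinite F
  have hF : Fintype.card F = 4 := by
    rw [← Nat.card_eq_fintype_card, GaloisField.card 2 2 (by norm_num)]; norm_num
  have hbot : N ≠ ⊥ := by
    intro hb
    subst hb
    obtain ⟨g, hg⟩ := hex 4 (by norm_num) (by norm_num)
    let E : G ≃* alternatingGroup (Fin 5) := QuotientGroup.quotientBot.symm.trans e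
    exact no_order_four (E g) (by rw [MulEquiv.orderOf_eq, hg])
  refine ⟨F, inferInstance, inferInstance, hF, ?_⟩
  exact CfsgLib.Recog.CriticalSix.equiv_affine hF hS h2 hbot
    (fun M hM hMN hMb => minimal hS h2 e hrange hsec hM hMN hMb) e (hex 3 (by norm_num) (by norm_num))

end Cfsg.Agent.S3600
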