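import Cfsg.Statements.S3614
import Cfsg.Agent.Lib.TwinPrime.Transfer
import Cfsg.Agent.Lib.TwinPrime.Alternating
-- import your own Cfsg.Agent.* helpers here

set_option autoImplicit false
open Cfsg

namespace Cfsg.Agent.S3614

/-- Let G be an insoluble group acting faithfully and transitively on a finite set of prime size p, and suppose the normalizer of a Sylow p-subgroup of G has order p(p-1)/2. If p = q + 2 = 2r + 3 > 9 or p = q + 2 = 3r + 4 > 13 with q and r prime, then G is isomorphic to the alternating group of degree p. -/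
theorem result {G Ω : Type*} [Group G] [Finite G] [MulAction G Ω] [FaithfulSMul G Ω] [Finite Ω]
    (p : ℕ) (hp : p.Prime) (hΩ : Nat.card Ω = p) (htrans : MulAction.IsPretransitive G Ω)
    (hins : ¬ Group.IsSolvable G) (P : Sylow p G)
    (hN : 2 * Nat.card ↥(Subgroup.normalizer ((P : Subgroup G) : Set G)) = p * (p - 1))
    (q r : ℕ) (hq : q.Prime) (hr : r.Prime)
    (hcases : (p = q + 2 ∧ p = 2 * r + 3 ∧ 9 < p) ∨ (p = q + 2 ∧ p = 3 * r + 4 ∧ 13 < p)) :
    Nonempty (G ≃* alternatingGroup (Fin p)) := by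
  classical
  haveI := Fintype.ofFinite Ω
  obtain ⟨hpq, hp9⟩ : p = q + 2 ∧ 9 < p := by omega
  obtain ⟨hA, h5⟩ := CfsgLib.TwinPrime.img_five hp hΩ htrans hins P hN hq (by omega) hpq
  have hcard : Fintype.card Ω = p := by rw [← hΩ, Nat.card_eq_fintype_card]
  haveI := CfsgLib.PermGroup.Half.img_pretransitive (G := G) htrans
  have hprim : MulAction.IsPreprimitive (CfsgLib.PermGroup.Half.img G Ω) Ω :=
    MulAction.IsPreprimitive.of_prime_card (hΩ ▸ hp)
  have hle : ∀ n, n ≤ 5 → MulAction.IsMultiplyPretransitive (CfsgLib.PermGroup.Half.img G Ω) Ω n :=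
    fun n hn => by
      haveI := h5
      exact MulAction.isMultiplyPretransitive_of_le hn (by omega)
  have hge : alternatingGroup Ω ≤ CfsgLib.PermGroup.Half.img G Ω := by
    have hr5 : 5 ≤ r := by
      by_contra hr5
      obtain rfl : r = 4 := by omega
      exact absurd hr (by decide)
    rcases hcases with ⟨-, h, -⟩ | ⟨-, h, -⟩
    · exact CfsgLib.TwinPrime.alternating_le_two hr hr5 (hcard.trans h) hprim hA
        (hle 3 (by omega)) (hle 4 (by omega))
    · exact CfsgLib.TwinPrime.alternating_le_three hr hr5 (hcard.trans h) hprim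
        (hle 4 (by omega)) (hle 5 le_rfl)
  exact ⟨(CfsgLib.PermGroup.Half.imgEquiv (Ω := Ω)).trans
    ((MulEquiv.subgroupCongr (le_antisymm hA hge)).trans
      (Equiv.altCongrHom (Fintype.equivFinOfCardEq hcard)))⟩

end Cfsg.Agent.S3614
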