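import Cfsg.Statements.S3615
import Cfsg.Agent.Lib.PrimeFour.Transport

set_option autoImplicit false
open Cfsg CfsgLib.PermGroup.Half

namespace Cfsg.Agent.S3615

/-- Let G be an insoluble group acting faithfully and transitively on a finite set of prime size p, and suppose the normalizer of a Sylow p-subgroup of G has order p(p-1)/2. If p = 2q + 1 with q prime, then G is 4-fold transitive, unless p is 5, 7 or 11 and G is isomorphic to PSL(2, p). -/
theorem result {G Ω : Type*} [Group G] [Finite G] [MulAction G Ω] [FaithfulSMul G Ω] [Finite Ω]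
    (p : ℕ) (hp : p.Prime) (hΩ : Nat.card Ω = p) (htrans : MulAction.IsPretransitive G Ω)
    (hins : ¬ Group.IsSolvable G) (P : Sylow p G)
    (hN : 2 * Nat.card ↥(Subgroup.normalizer ((P : Subgroup G) : Set G)) = p * (p - 1))
    (q : ℕ) (hq : q.Prime) (hpq : p = 2 * q + 1) :
    MulAction.IsMultiplyPretransitive G Ω 4 ∨
    ((p = 5 ∨ p = 7 ∨ p = 11) ∧ Nonempty (G ≃* Matrix.ProjectiveSpecialLinearGroup (Fin 2) (ZMod p))) := by
  classical
  haveI : Fact p.Prime := ⟨hp⟩
  letI := Fintype.ofFinite Ω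
  have hΩ' : Fintype.card Ω = p := by rw [← Nat.card_eq_fintype_card]; exact hΩ
  haveI := img_pretransitive (G := G) htrans
  have hφ : Function.Surjective (imgEquiv (G := G) (Ω := Ω)).toMonoidHom :=
    (imgEquiv (G := G) (Ω := Ω)).surjective
  have hN' : 2 * Nat.card (Subgroup.normalizer
      ((P.mapSurjective hφ : Subgroup (img G Ω)) : Set (img G Ω))) = p * (p - 1) := by
    rw [← hN, Sylow.coe_mapSurjective]
    congr 1
    show Nat.card (Subgroup.normalizer
      ((((P : Subgroup G)).map (imgEquiv (G := G) (Ω := Ω)).toMonoidHom : Subgroup (img G Ω)) :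
        Set (img G Ω))) = _
    rw [← Subgroup.map_equiv_normalizer_eq]
    exact (Nat.card_congr
      (Subgroup.equivMapOfInjective _ _ (imgEquiv (G := G) (Ω := Ω)).injective).toEquiv).symm
  have hins' := not_solvable_img (Ω := Ω) hins
  have hq2 := hq.two_le
  have hcases : q = 2 ∨ q = 3 ∨ q = 5 ∨ 11 ≤ q := by
    by_contra hcon
    simp only [not_or, not_le] at hcon
    obtain ⟨h2, h3, h5, h11⟩ := hcon
    interval_cases q <;> first | omega | (exfalso; revert hq; norm_num; done) | (subst hpq; exfalso; revert hp; norm_num)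
  rcases hcases with rfl | rfl | rfl | h11
  · obtain rfl : p = 5 := hpq
    obtain ⟨e, -, hle⟩ :=
      CfsgLib.TwinPrime.exists_half hΩ' (by norm_num) (img G Ω) (P.mapSurjective hφ) hN'
    obtain ⟨hc, hs⟩ := CfsgLib.PrimeFour.degree_five hΩ' (img G Ω) hins' hle
    haveI := hs
    obtain ⟨f⟩ := CfsgLib.Small.nonempty_mulEquiv_psl_five hc
    exact Or.inr ⟨Or.inl rfl, ⟨(imgEquiv (G := G) (Ω := Ω)).trans f⟩⟩
  · obtain rfl : p = 7 := hpq
    by_cases hA : alternatingGroup Ω ≤ img G Ω
    · exact Or.inl (CfsgLib.TwinPrime.of_img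
        (CfsgLib.PrimeFour.four_of_alternating le_rfl hΩ' hA))
    · obtain ⟨hc, hs⟩ := CfsgLib.PermGroup.degree_seven hΩ' (img G Ω) hins' hA
      haveI := hs
      obtain ⟨f⟩ := CfsgLib.Small.Order168.nonempty_mulEquiv_psl_seven hc
      exact Or.inr ⟨Or.inr (Or.inl rfl), ⟨(imgEquiv (G := G) (Ω := Ω)).trans f⟩⟩
  · obtain rfl : p = 11 := hpq
    by_cases hA : alternatingGroup Ω ≤ img G Ω
    · exact Or.inl (CfsgLib.TwinPrime.of_img
        (CfsgLib.PrimeFour.four_of_alternating (by norm_num) hΩ' hA))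
    · have hc : CfsgLib.PermGroup.Eleven.Ctx (img G Ω) := ⟨hΩ', inferInstance, hins', hA⟩
      rcases hc.classification with ⟨h4, -⟩ | ⟨⟨f⟩⟩
      · exact Or.inl (CfsgLib.TwinPrime.of_img h4)
      · exact Or.inr ⟨Or.inr (Or.inr rfl), ⟨(imgEquiv (G := G) (Ω := Ω)).trans f⟩⟩
  · exact Or.inl (CfsgLib.TwinPrime.of_img
      (CfsgLib.PrimeFour.four_transitive_or_small hq hpq h11 hΩ' (img G Ω) hins'
        (P.mapSurjective hφ) hN'))

end Cfsg.Agent.S3615
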