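import Cfsg.Statements.S3616
import Cfsg.Agent.Lib.PermGroup.PSLExtension

set_option autoImplicit false
open Cfsg

namespace Cfsg.Agent.S3616

/-- Let p > 7 be prime and let X be a finite group acting faithfully on a set of p + 1 points by even permutations. Suppose X has a proper subgroup isomorphic to PSL(2, p) that acts doubly transitively on the set (such an action is necessarily the natural one on the projective line). Then X is 4-fold transitive. -/
theorem result {X Ω : Type*} [Group X] [Finite X] [MulAction X Ω] [FaithfulSMul X Ω] [Fintype Ω] [DecidableEq Ω]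
    (p : ℕ) (hp : p.Prime) (hp7 : 7 < p) (hΩ : Fintype.card Ω = p + 1)
    (heven : ∀ x : X, Equiv.Perm.sign (MulAction.toPerm x : Equiv.Perm Ω) = 1)
    (L : Subgroup X) (hL : Nonempty (↥L ≃* Matrix.ProjectiveSpecialLinearGroup (Fin 2) (ZMod p)))
    (hLt : MulAction.IsMultiplyPretransitive ↥L Ω 2) (hLX : L ≠ ⊤) :
    MulAction.IsMultiplyPretransitive X Ω 4 := by
  classical
  have : Fact p.Prime := ⟨hp⟩
  obtain ⟨eL⟩ := hL
  have hLcard : 2 * Nat.card L = (p + 1) * (p * (p - 1)) := by
    have h := CfsgLib.PSL2.card_psl (F := ZMod p)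
    rw [ZMod.card, show Nat.gcd 2 (p - 1) = 2 from
      Nat.gcd_eq_left (by obtain ⟨c, hc⟩ := hp.odd_of_ne_two (by omega); exact ⟨c, by omega⟩)] at h
    rw [Nat.card_congr eL.toEquiv, h]
  have : Nonempty Ω := Fintype.card_pos_iff.1 (by omega)
  obtain ⟨a⟩ := this
  have hXt : MulAction.IsPretransitive X Ω := by
    have : MulAction.IsPretransitive ↥L Ω := by
      haveI := hLt; exact MulAction.isPretransitive_of_is_two_pretransitive
    exact ⟨fun u v => by
      obtain ⟨g, hg⟩ := MulAction.exists_smul_eq ↥L u v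
      exact ⟨(g : X), hg⟩⟩
  rw [SubMulAction.ofStabilizer.isMultiplyPretransitive (a := a)]
  obtain ⟨hcard, htr, hins, P, hPL, hPcard, hLN, hLacard⟩ :=
    CfsgLib.PermGroup.PSLExt.stabilizer_facts hp hp7 hΩ heven L hLcard hLt hLX a
  rcases (show p % 4 = 1 ∨ p % 4 = 3 by
      obtain ⟨c, hc⟩ := hp.odd_of_ne_two (by omega); omega) with h4 | h4
  · have hN : p * (p - 1) ≤ 2 * Nat.card (Subgroup.normalizer
        ((P : Subgroup ↥(MulAction.stabilizer X a)) : Set ↥(MulAction.stabilizer X a))) :=
      hLacard ▸ Nat.mul_le_mul_left 2 (Subgroup.card_le_of_le hLN)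
    have hcard' : Fintype.card ↥(SubMulAction.ofStabilizer X a) = p := by
      rw [← Nat.card_eq_fintype_card, hcard]
    obtain ⟨e, he, hsq⟩ := CfsgLib.PermGroup.Half.exists_squares_action hcard' htr P hN
    have := CfsgLib.PermGroup.Half.img_pretransitive htr
    have h3 := CfsgLib.PermGroup.Half.card_orbits_le_three hcard' _
      (CfsgLib.PermGroup.Half.not_solvable_img hins) e he hsq h4
    rw [← CfsgLib.PermGroup.Half.card_orbits_img] at h3
    exact CfsgLib.PermGroup.Half.three_of_card_orbits
      (CfsgLib.PermGroup.Half.two_transitive hp hcard htr hins)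
      (fun h => zero_ne_one (e.injective h)) h3
  · exact CfsgLib.PermGroup.PSLExt.two_trans_of_dihedral hp hp7 h4 hΩ heven L eL hLcard hLt hLX a

end Cfsg.Agent.S3616
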