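import Cfsg.Statements.S3626
import Cfsg.Agent.Lib.Recog.CubeSpectrum
import Cfsg.Agent.S1159

set_option autoImplicit false
open Cfsg

namespace Cfsg.Agent.S3626

/-- Let R be the small Ree group over the field with q = 3^(2m+1) ≥ 27 elements. Then there are finite groups of arbitrarily large order with exactly the same set of element orders as R × R × R. -/
theorem result {K : Type*} [Field K] [Fintype K] {m : ℕ} (hm : 1 ≤ m) (hK : Fintype.card K = 3 ^ (2 * m + 1)) (N : ℕ) :
    ∃ (H : Type) (_ : Group H) (_ : Fintype H), N < Fintype.card H ∧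
      Set.range (orderOf : H → ℕ) = Set.range (orderOf : ↥(Cfsg.Lie.twistedG2 K (3 ^ m)) × ↥(Cfsg.Lie.twistedG2 K (3 ^ m)) × ↥(Cfsg.Lie.twistedG2 K (3 ^ m)) → ℕ) := by
  have : CharP K 3 := CfsgLib.Recog.CubeSpectrum.charP_three hK
  refine CfsgLib.Recog.CubeSpectrum.exists_large_cube (K := K)
    (CfsgLib.Recog.CubeSpectrum.card_mod_four hK) (3 ^ (2 * m + 1) - 3 ^ (m + 1) + 1)
    (3 ^ (2 * m + 1) + 3 ^ (m + 1) + 1) (fun d => ?_) N
  rw [Cfsg.Agent.S1159.result hm hK d, ← hK]
  simp only [CfsgLib.Recog.ReeCubeExtension.orders, Set.mem_setOf_eq, or_assoc]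

end Cfsg.Agent.S3626
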