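import Cfsg.Statements.S3627
import Cfsg.Agent.Lib.Recog.ProperDivisorSpectrum
import Cfsg.Agent.Lib.Recog.JankoOneSpectrum

/-!
The element orders of the fourth power of J1 are the proper divisors of
43890 = 2 * 3 * 5 * 7 * 11 * 19, and so are those of arbitrarily large soluble groups.
-/

set_option autoImplicit false
open Cfsg

namespace Cfsg.Agent.S3627

open CfsgLib.Recog.JankoOneSpectrum (allowed orderOf_mem)

/-- The fourth power. -/
abbrev JFour : Type := ↥Cfsg.Spor.J1 × ↥Cfsg.Spor.J1 × ↥Cfsg.Spor.J1 × ↥Cfsg.Spor.J1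

theorem lcm_allowed : (allowed.all fun a => allowed.all fun b => allowed.all fun c =>
    allowed.all fun d => !(Nat.lcm a (Nat.lcm b (Nat.lcm c d)) == 43890)) = true := by
  decide +kernel

theorem allowed_dvd : ∀ a ∈ allowed, a ∣ 43890 := by decide +kernel

/-- Four maximal orders covering all primes but one. -/
theorem exists_cover {D : ℕ} (hD : D ∣ 43890) (hne : D ≠ 43890) :
    ∃ q : ℕ × ℕ × ℕ × ℕ, q.1 ∈ ({6, 7, 10, 11, 15, 19} : Finset ℕ) ∧
      q.2.1 ∈ ({6, 7, 10, 11, 15, 19} : Finset ℕ) ∧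
      q.2.2.1 ∈ ({6, 7, 10, 11, 15, 19} : Finset ℕ) ∧
      q.2.2.2 ∈ ({6, 7, 10, 11, 15, 19} : Finset ℕ) ∧
      D ∣ Nat.lcm q.1 (Nat.lcm q.2.1 (Nat.lcm q.2.2.1 q.2.2.2)) := by
  obtain ⟨k, hk⟩ := hD
  have hk1 : k ≠ 1 := by rintro rfl; omega
  obtain ⟨s, hs, hsk⟩ := Nat.exists_prime_and_dvd hk1
  have hsn : s ∣ 2 * (3 * (5 * (7 * (11 * 19)))) := by
    have h : s ∣ 43890 := hsk.trans ⟨D, by rw [hk, mul_comm]⟩
    exact h
  have hDs : D ∣ 43890 / s := by
    obtain ⟨r, rfl⟩ := hsk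
    exact ⟨r, by rw [hk, Nat.mul_left_comm, Nat.mul_div_cancel_left _ hs.pos]⟩
  have hcases : s = 2 ∨ s = 3 ∨ s = 5 ∨ s = 7 ∨ s = 11 ∨ s = 19 := by
    rcases hs.dvd_mul.1 hsn with h | h
    · exact Or.inl ((Nat.prime_dvd_prime_iff_eq hs (by norm_num)).1 h)
    rcases hs.dvd_mul.1 h with h | h
    · exact Or.inr (Or.inl ((Nat.prime_dvd_prime_iff_eq hs (by norm_num)).1 h))
    rcases hs.dvd_mul.1 h with h | h
    · exact Or.inr (Or.inr (Or.inl ((Nat.prime_dvd_prime_iff_eq hs (by norm_num)).1 h)))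
    rcases hs.dvd_mul.1 h with h | h
    · exact Or.inr (Or.inr (Or.inr (Or.inl ((Nat.prime_dvd_prime_iff_eq hs (by norm_num)).1 h))))
    rcases hs.dvd_mul.1 h with h | h
    · exact Or.inr (Or.inr (Or.inr (Or.inr (Or.inl
        ((Nat.prime_dvd_prime_iff_eq hs (by norm_num)).1 h)))))
    · exact Or.inr (Or.inr (Or.inr (Or.inr (Or.inr
        ((Nat.prime_dvd_prime_iff_eq hs (by norm_num)).1 h)))))
  rcases hcases with rfl | rfl | rfl | rfl | rfl | rfl
  · exact ⟨(15, 7, 11, 19), by decide, by decide, by decide, by decide,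
      hDs.trans (by decide +kernel)⟩
  · exact ⟨(10, 7, 11, 19), by decide, by decide, by decide, by decide,
      hDs.trans (by decide +kernel)⟩
  · exact ⟨(6, 7, 11, 19), by decide, by decide, by decide, by decide,
      hDs.trans (by decide +kernel)⟩
  · exact ⟨(10, 15, 11, 19), by decide, by decide, by decide, by decide,
      hDs.trans (by decide +kernel)⟩
  · exact ⟨(10, 15, 7, 19), by decide, by decide, by decide, by decide,
      hDs.trans (by decide +kernel)⟩
  · exact ⟨(10, 15, 7, 11), by decide, by decide, by decide, by decide,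
      hDs.trans (by decide +kernel)⟩

/-- The element orders of the fourth power of J1. -/
theorem range_orderOf_fourth :
    Set.range (orderOf : JFour → ℕ) = {D | D ∣ 43890 ∧ D ≠ 43890} := by
  refine Set.ext fun D => ⟨?_, ?_⟩
  · rintro ⟨⟨a, b, c, d⟩, rfl⟩
    simp only [Prod.orderOf, Set.mem_setOf_eq]
    refine ⟨Nat.lcm_dvd (allowed_dvd _ (orderOf_mem a)) (Nat.lcm_dvd
      (allowed_dvd _ (orderOf_mem b)) (Nat.lcm_dvd (allowed_dvd _ (orderOf_mem c))
        (allowed_dvd _ (orderOf_mem d)))), ?_⟩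
    have h := lcm_allowed
    rw [List.all_eq_true] at h
    have h1 := h _ (orderOf_mem a)
    rw [List.all_eq_true] at h1
    have h2 := h1 _ (orderOf_mem b)
    rw [List.all_eq_true] at h2
    have h3 := h2 _ (orderOf_mem c)
    rw [List.all_eq_true] at h3
    have h4 := h3 _ (orderOf_mem d)
    simpa using h4
  · rintro ⟨hD, hne⟩
    obtain ⟨⟨i, j, k, l⟩, hi, hj, hk, hl, hdvd⟩ := exists_cover hD hne
    obtain ⟨a, rfl⟩ := CfsgLib.Recog.JankoOneSpectrum.exists_orderOf hi
    obtain ⟨b, rfl⟩ := CfsgLib.Recog.JankoOneSpectrum.exists_orderOf hj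
    obtain ⟨c, rfl⟩ := CfsgLib.Recog.JankoOneSpectrum.exists_orderOf hk
    obtain ⟨d, rfl⟩ := CfsgLib.Recog.JankoOneSpectrum.exists_orderOf hl
    have ho : orderOf ((a, b, c, d) : JFour) =
        Nat.lcm (orderOf a) (Nat.lcm (orderOf b) (Nat.lcm (orderOf c) (orderOf d))) := by
      simp only [Prod.orderOf]
    rw [← ho] at hdvd
    exact ⟨_, orderOf_pow_orderOf_div (orderOf_pos _).ne' hdvd⟩

/-- Let J be the first Janko group. Then there are finite groups of arbitrarily large order with exactly the same set of element orders as J × J × J × J. -/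
theorem result (N : ℕ) : ∃ (H : Type) (_ : Group H) (_ : Fintype H), N < Fintype.card H ∧
      Set.range (orderOf : H → ℕ) = Set.range (orderOf : ↥Cfsg.Spor.J1 × ↥Cfsg.Spor.J1 × ↥Cfsg.Spor.J1 × ↥Cfsg.Spor.J1 → ℕ) := by
  obtain ⟨H, iG, iF, hN, hH⟩ := CfsgLib.Recog.ProperDivisorSpectrum.exists_large_group
    (p := 2) (m := 21945) Nat.prime_two (by norm_num) (by norm_num) N
  refine ⟨H, iG, iF, hN, ?_⟩
  rw [hH, range_orderOf_fourth]

end Cfsg.Agent.S3627
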