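import Cfsg.Statements.S3633
import Cfsg.Agent.Lib.Recog.Coclique

set_option autoImplicit false
open Cfsg

namespace Cfsg.Agent.S3633

/-- Let G be a finite group and ρ a set of at least three prime divisors of the order of G that are pairwise non-adjacent in the prime graph (no element of order rs for distinct r, s ∈ ρ). Then at most one prime of ρ divides the order of any given solvable normal subgroup of G; in particular G is not solvable. -/
theorem result {G : Type*} [Group G] [Finite G] (ρ : Finset ℕ) (hρ : 3 ≤ ρ.card) (hc : ((∀ r ∈ ρ, r.Prime ∧ r ∣ Nat.card G) ∧ (∀ r ∈ ρ, ∀ s ∈ ρ, r ≠ s → ¬ ∃ x : G, orderOf x = r * s)))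
    (K : Subgroup G) [K.Normal] (hK : Group.IsSolvable ↥K) :
    (∀ r ∈ ρ, ∀ s ∈ ρ, r ∣ Nat.card ↥K → s ∣ Nat.card ↥K → r = s) ∧ ¬ Group.IsSolvable G := by
  have hS : CfsgLib.Recog.Coclique.IsCoclique G ρ := ⟨fun r hr => (hc.1 r hr).1, hc.2⟩
  exact ⟨fun r hr s hs => CfsgLib.Recog.Coclique.coclique_meets_solvable hS hρ
      (fun a ha => (hc.1 a ha).2) K hK hr hs,
    CfsgLib.Recog.Coclique.not_isSolvable_of_coclique hS hρ fun a ha => (hc.1 a ha).2⟩

end Cfsg.Agent.S3633
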