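import Cfsg.Statements.S3639
import Cfsg.Agent.Lib.Recog.SuzukiFixedPointFree
import Cfsg.Agent.Lib.Suzuki.Finite

set_option autoImplicit false
open Cfsg

namespace Cfsg.Agent.S3639

open Matrix CfsgLib.Suzuki

/-- Scaling of vectors by a matrix group. -/
def vecAct (k : ℕ) (F : Type*) [Field F] :
    GL (Fin 4) F →* MulAut (Multiplicative (Fin k → Fin 4 → F)) where
  toFun g :=
    { toFun := fun v => Multiplicative.ofAdd fun i => (g : Matrix (Fin 4) (Fin 4) F) *ᵥ v.toAdd i
      invFun := fun v => Multiplicative.ofAdd fun i =>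
        ((g⁻¹ : GL (Fin 4) F) : Matrix (Fin 4) (Fin 4) F) *ᵥ v.toAdd i
      left_inv := fun v => Multiplicative.toAdd.injective <| funext fun i => by
        simp [Matrix.mulVec_mulVec]
      right_inv := fun v => Multiplicative.toAdd.injective <| funext fun i => by
        simp [Matrix.mulVec_mulVec]
      map_mul' := fun v w => Multiplicative.toAdd.injective <| funext fun i => by
        simp [Matrix.mulVec_add] }
  map_one' := MulEquiv.ext fun v => Multiplicative.toAdd.injective <| funext fun i => by simp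
  map_mul' g h := MulEquiv.ext fun v => Multiplicative.toAdd.injective <| funext fun i => by
    simp [Matrix.mulVec_mulVec]

theorem exists_large.{u} {F : Type u} [Field F] [Fintype F] {m : ℕ}
    (hF : Fintype.card F = 2 ^ (2 * m + 1)) (N : ℕ) :
    ∃ (H : Type) (_ : Group H) (_ : Fintype H), N < Fintype.card H ∧ ((∀ r : ℕ, r.Prime → (r ∣ Nat.card ↥(Cfsg.Lie.Sz F (2 ^ (m + 1))) ↔ r ∣ Nat.card H)) ∧
      (∀ r s : ℕ, r.Prime → s.Prime → r ≠ s → ((∃ x : ↥(Cfsg.Lie.Sz F (2 ^ (m + 1))), orderOf x = r * s) ↔ (∃ y : H, orderOf y = r * s)))) := by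
  suffices h : ∃ (H : Type u) (_ : Group H) (_ : Finite H), N < Nat.card H ∧
      ((∀ r : ℕ, r.Prime → (r ∣ Nat.card ↥(Cfsg.Lie.Sz F (2 ^ (m + 1))) ↔ r ∣ Nat.card H)) ∧
      (∀ r s : ℕ, r.Prime → s.Prime → r ≠ s → ((∃ x : ↥(Cfsg.Lie.Sz F (2 ^ (m + 1))), orderOf x = r * s) ↔ (∃ y : H, orderOf y = r * s)))) by
    obtain ⟨H, iG, iF, hN, hdvd, hedge⟩ := h
    let e' : Shrink.{0} H ≃* H := Shrink.mulEquiv
    haveI : Finite (Shrink.{0} H) := Finite.of_equiv H (equivShrink.{0} H)
    have hc : Nat.card (Shrink.{0} H) = Nat.card H := Nat.card_congr (equivShrink.{0} H).symm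
    haveI : Fintype (Shrink.{0} H) := Fintype.ofFinite _
    refine ⟨Shrink.{0} H, inferInstance, inferInstance,
      by rw [← Nat.card_eq_fintype_card, hc]; exact hN,
      fun r hr => hc ▸ hdvd r hr, fun r s hr hs hrs => (hedge r s hr hs hrs).trans ?_⟩
    exact ⟨fun ⟨y, hy⟩ => ⟨e'.symm y, by rw [MulEquiv.orderOf_eq, hy]⟩,
      fun ⟨y, hy⟩ => ⟨e' y, by rw [MulEquiv.orderOf_eq, hy]⟩⟩
  classical
  haveI : CharP F 2 := charP_two_of_card hF
  obtain ⟨θ, hθe, hθ⟩ := exists_theta hF
  set S := Cfsg.Lie.Sz F (2 ^ (m + 1))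
  let V := Multiplicative (Fin (N + 1) → Fin 4 → F)
  let φ := (vecAct (N + 1) F).comp S.subtype
  let H := V ⋊[φ] S
  have hfin : Finite H := Finite.of_equiv _ SemidirectProduct.equivProd.symm
  have hVexp : ∀ v : V, v ^ 2 = 1 := fun v => by
    rw [sq]
    exact Multiplicative.toAdd.injective (funext fun i => funext fun j =>
      CharTwo.add_self_eq_zero _)
  have hV : Nat.card V = Fintype.card F ^ (4 * (N + 1)) := by
    rw [Nat.card_congr Multiplicative.toAdd]
    simp [← pow_mul, mul_comm]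
  have hcard : Nat.card H = Nat.card V * Nat.card S := SemidirectProduct.card
  have h2S : 2 ∣ Nat.card S := by
    have hw : szW F ∈ S := (mem_sz_iff hθe _).2 (memSz_szW)
    have h1 : orderOf (⟨szW F, hw⟩ : S) = 2 := by
      rw [Subgroup.orderOf_mk]
      refine orderOf_eq_prime ?_ ?_
      · rw [sq]
        nth_rewrite 1 [← szW_inv (F := F)]
        exact inv_mul_cancel _
      · intro h
        have := congrFun (congrFun (congrArg (fun g : GL (Fin 4) F =>
          (g : Matrix (Fin 4) (Fin 4) F)) h) 0) 0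
        simp [coe_szW, szJ] at this
    rw [← h1]
    exact orderOf_dvd_natCard _
  refine ⟨H, inferInstance, hfin, ?_, fun r hr => ?_, ?_⟩
  · rw [hcard, hV, hF, ← pow_mul]
    calc N < 2 ^ N := Nat.lt_two_pow_self
      _ ≤ 2 ^ ((2 * m + 1) * (4 * (N + 1))) :=
          Nat.pow_le_pow_right (by norm_num)
            ((show N ≤ 4 * (N + 1) by omega).trans (Nat.le_mul_of_pos_left _ (Nat.succ_pos _)))
      _ ≤ _ := Nat.le_mul_of_pos_right _ Nat.card_pos
  · rw [hcard, hV, hF, ← pow_mul]
    refine ⟨fun h => h.mul_left _, fun h => ?_⟩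
    rcases hr.dvd_mul.1 h with h | h
    · rw [(Nat.prime_dvd_prime_iff_eq hr Nat.prime_two).1 (hr.dvd_of_dvd_pow h)]
      exact h2S
    · exact h
  intro r s hr hs hrs
  refine ⟨fun ⟨x, hx⟩ => ⟨SemidirectProduct.inr x, ?_⟩, fun ⟨y, hy⟩ => ?_⟩
  · rw [orderOf_injective _ SemidirectProduct.inr_injective, hx]
  let π : H →* S := SemidirectProduct.rightHom
  have hker : ∀ z : H, π z = 1 → z ^ 2 = 1 := by
    intro z hz
    obtain ⟨v, hv⟩ : ∃ v, SemidirectProduct.inl v = z := by
      refine ⟨z.left, SemidirectProduct.ext (by simp) ?_⟩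
      have hz' : z.right = 1 := hz
      simp [hz']
    rw [← hv, ← map_pow, hVexp, map_one]
  -- an element of odd prime order cannot centralise an involution of the kernel
  have hno : ∀ (a : ℕ), a.Prime → a ≠ 2 → ∀ z t : H, orderOf (π z) = a → π t = 1 →
      Commute z t → t = 1 := by
    intro a ha ha2 z t hz ht hc
    have hl : φ (π z) t.left = t.left := by
      have h := congrArg SemidirectProduct.left hc.eq
      have ht' : t.right = 1 := ht
      rw [SemidirectProduct.mul_left, SemidirectProduct.mul_left, ht', map_one] at h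
      have h' : z.left * φ z.right t.left = z.left * t.left := h.trans (mul_comm _ _)
      exact mul_left_cancel h'
    refine SemidirectProduct.ext ?_ (show t.right = 1 from ht)
    refine Multiplicative.toAdd.injective (funext fun i => ?_)
    by_contra hne
    have hfix := congrFun (congrArg Multiplicative.toAdd hl) i
    have hg : MemSz θ ((π z : S) : GL (Fin 4) F) := (mem_sz_iff hθe _).1 (π z).2
    have h1 := CfsgLib.Recog.SuzukiFixedPointFree.eq_one_of_fixes hg
      (by rw [Subgroup.orderOf_coe, hz]; exact ha.odd_of_ne_two ha2) hne hfix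
    rw [OneMemClass.coe_eq_one] at h1
    rw [h1, orderOf_one] at hz
    exact ha.ne_one hz.symm
  have hcase : ∀ a b : ℕ, a.Prime → b.Prime → a ≠ b → orderOf y = a * b →
      orderOf (π y) = a → False := by
    intro a b ha hb hab hy hπ
    have ht : π (y ^ a) = 1 := by rw [map_pow, ← hπ, pow_orderOf_eq_one]
    have hd : b ∣ 2 := by
      have := orderOf_dvd_of_pow_eq_one (hker _ ht)
      rwa [orderOf_pow_of_dvd ha.ne_zero (hy ▸ dvd_mul_right a b), hy,
        Nat.mul_div_cancel_left _ ha.pos] at this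
    have hb2 : b = 2 := (Nat.prime_dvd_prime_iff_eq hb Nat.prime_two).1 hd
    have h1 := hno a ha (fun h => hab (h.trans hb2.symm)) y _ hπ ht
      ((Commute.refl y).pow_right a)
    have h2 := orderOf_dvd_of_pow_eq_one h1
    rw [hy] at h2
    have := Nat.le_of_dvd ha.pos h2
    have := hb.two_le
    nlinarith [ha.pos]
  have hd : orderOf (π y) ∣ r * s := hy ▸ orderOf_map_dvd π y
  obtain ⟨a, b, ha, hb, hab⟩ := Nat.dvd_mul.1 hd
  rcases (Nat.dvd_prime hr).1 ha with rfl | rfl <;> rcases (Nat.dvd_prime hs).1 hb with rfl | rfl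
  · have := orderOf_dvd_of_pow_eq_one (hker y (orderOf_eq_one_iff.1 (by simpa using hab.symm)))
    rw [hy] at this
    have := Nat.le_of_dvd (by norm_num) this
    have := hr.two_le
    have := hs.two_le
    nlinarith
  · exact (hcase b r hs hr hrs.symm (by rw [hy, mul_comm]) (by simpa using hab.symm)).elim
  · exact (hcase a s hr hs hrs hy (by simpa using hab.symm)).elim
  · exact ⟨π y, hab.symm⟩

/-- Let S be the Suzuki group over the field with q = 2^(2m+1) ≥ 8 elements. Then there are finite groups of arbitrarily large order with the same prime graph as S. -/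
theorem result {F : Type*} [Field F] [Fintype F] {m : ℕ} (hm : 1 ≤ m) (hF : Fintype.card F = 2 ^ (2 * m + 1)) (N : ℕ) :
    ∃ (H : Type) (_ : Group H) (_ : Fintype H), N < Fintype.card H ∧ ((∀ r : ℕ, r.Prime → (r ∣ Nat.card ↥(Cfsg.Lie.Sz F (2 ^ (m + 1))) ↔ r ∣ Nat.card H)) ∧
      (∀ r s : ℕ, r.Prime → s.Prime → r ≠ s → ((∃ x : ↥(Cfsg.Lie.Sz F (2 ^ (m + 1))), orderOf x = r * s) ↔ (∃ y : H, orderOf y = r * s)))) := by
  exact exists_large hF N

end Cfsg.Agent.S3639
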