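import Cfsg.Statements.S3641
import Cfsg.Agent.Lib.Recog.SylowPSLSeventeen
import Cfsg.Agent.Lib.SylowNumber.Basic
import Cfsg.Agent.Lib.OddOrder.PuigSeries

set_option autoImplicit false
open Cfsg

namespace Cfsg.Agent.S3641

open MulAction CfsgLib.Recog.SylowPSLSeventeen

section Aux

variable {G : Type*} [Group G] [Finite G]

/-- The possible Sylow numbers determine the possible primes. -/
theorem prime_cases
    (hNS : {c : ℕ | ∃ r : ℕ, r.Prime ∧ r ∣ Nat.card G ∧ c = Nat.card (Sylow r G)} = ({18, 136, 153} : Set ℕ))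
    {r : ℕ} (hr : r.Prime) (hd : r ∣ Nat.card G) :
    (r = 17 ∧ Nat.card (Sylow r G) = 18) ∨
      ((r = 3 ∨ r = 5) ∧ Nat.card (Sylow r G) = 136) ∨
      ((r = 2 ∨ r = 19) ∧ Nat.card (Sylow r G) = 153) := by
  haveI := Fact.mk hr
  have hmem : Nat.card (Sylow r G) ∈ ({18, 136, 153} : Set ℕ) := hNS ▸ ⟨r, hr, hd, rfl⟩
  have hm := card_sylow_modEq_one r G
  simp only [Set.mem_insert_iff, Set.mem_singleton_iff] at hmem
  rcases hmem with h | h | h <;> rw [h] at hm ⊢
  · left
    have h17 : r ∣ 17 := (Nat.modEq_iff_dvd' (by norm_num : 1 ≤ 18)).1 hm.symm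
    exact ⟨(Nat.prime_dvd_prime_iff_eq hr prime_seventeen).1 h17, rfl⟩
  · right; left
    have h135 : r ∣ 3 ^ 3 * 5 := (Nat.modEq_iff_dvd' (by norm_num : 1 ≤ 136)).1 hm.symm
    refine ⟨?_, rfl⟩
    rcases hr.dvd_mul.1 h135 with h1 | h1
    · exact Or.inl ((Nat.prime_dvd_prime_iff_eq hr Nat.prime_three).1 (hr.dvd_of_dvd_pow h1))
    · exact Or.inr ((Nat.prime_dvd_prime_iff_eq hr Nat.prime_five).1 h1)
  · right; right
    have h152 : r ∣ 2 ^ 3 * 19 := (Nat.modEq_iff_dvd' (by norm_num : 1 ≤ 153)).1 hm.symm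
    refine ⟨?_, rfl⟩
    rcases hr.dvd_mul.1 h152 with h1 | h1
    · exact Or.inl ((Nat.prime_dvd_prime_iff_eq hr Nat.prime_two).1 (hr.dvd_of_dvd_pow h1))
    · exact Or.inr ((Nat.prime_dvd_prime_iff_eq hr (by norm_num)).1 h1)

/-- A Sylow 17-subgroup is transitive on the other 17 Sylow 17-subgroups. -/
theorem sylow_move (hn : Nat.card (Sylow 17 G) = 18) (P : Sylow 17 G) (y z : Sylow 17 G)
    (hy : y ≠ P) (hz : z ≠ P) : ∃ g : G, g ∈ (P : Subgroup G) ∧ g • y = z := by
  classical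
  obtain ⟨i, hi⟩ := P.2.card_orbit (α := Sylow 17 G) y
  have hne : ∀ w ∈ orbit (P : Subgroup G) y, w ≠ P := by
    rintro w ⟨g, hg⟩ rfl
    apply hy
    have hfix : (g : G) • w = w :=
      Sylow.smul_eq_iff_mem_normalizer.2 (Subgroup.le_normalizer g.2)
    exact smul_left_cancel (g : G) (hg.trans hfix.symm)
  have hi1 : i = 1 := by
    have hle : Nat.card (orbit (P : Subgroup G) y) ≤ 18 := hn ▸ Finite.card_subtype_le _
    rw [hi] at hle
    rcases i with _ | _ | i
    · exfalso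
      rw [pow_zero] at hi
      haveI := (Nat.card_eq_one_iff_unique.1 hi).1
      have hfix : ∀ g : (P : Subgroup G), g • y = y := fun g =>
        congrArg Subtype.val (Subsingleton.elim (⟨g • y, mem_orbit y g⟩ : orbit (P : Subgroup G) y)
          ⟨y, mem_orbit_self y⟩)
      have hle' : (P : Subgroup G) ≤ Subgroup.normalizer ((y : Subgroup G) : Set G) := fun g hg =>
        Sylow.smul_eq_iff_mem_normalizer.1 (hfix ⟨g, hg⟩)
      have := P.2.sylow_mem_fixedPoints_iff.1 ((Subgroup.sylow_mem_fixedPoints_iff _).2 hle')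
      exact hy (Sylow.ext (P.3 y.2 this).symm).symm
    · rfl
    · exfalso
      have : (17 : ℕ) ^ 2 ≤ 18 :=
        (Nat.pow_le_pow_right (by norm_num) (by omega : 2 ≤ i + 1 + 1)).trans hle
      norm_num at this
  rw [hi1, pow_one] at hi
  have heq : orbit (P : Subgroup G) y = {w | w ≠ P} :=
    Set.eq_of_subset_of_ncard_le hne (by
      rw [← Nat.card_coe_set_eq (orbit (P : Subgroup G) y), hi,
        show {w : Sylow 17 G | w ≠ P} = {P}ᶜ from rfl, Set.ncard_compl, Set.ncard_singleton, hn])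
      (Set.toFinite _)
  obtain ⟨g, hg⟩ := (heq.symm ▸ hz : z ∈ orbit (P : Subgroup G) y)
  exact ⟨g, g.2, hg⟩

variable {X : Type*} [Group X] [Finite X] (f : G →* X) (hf : Function.Surjective f)

include hf

/-- If the image has as many Sylow subgroups, the kernel normalises them all. -/
theorem ker_le_normalizer {p : ℕ} [Fact p.Prime]
    (hcard : Nat.card (Sylow p X) = Nat.card (Sylow p G)) (P : Sylow p G) :
    f.ker ≤ Subgroup.normalizer ((P : Subgroup G) : Set G) := by
  intro k hk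
  have hinj : Function.Injective (Sylow.mapSurjective hf : Sylow p G → Sylow p X) :=
    ((Nat.bijective_iff_surjective_and_card _).2
      ⟨Sylow.mapSurjective_surjective hf p, hcard.symm⟩).1
  refine Sylow.smul_eq_iff_mem_normalizer.1 (hinj (Sylow.ext ?_))
  rw [Sylow.coe_mapSurjective, Sylow.coe_mapSurjective, Sylow.coe_subgroup_smul]
  ext x
  simp only [Subgroup.mem_map, Subgroup.mem_pointwise_smul_iff_inv_smul_mem]
  constructor
  · rintro ⟨y, hy, rfl⟩
    refine ⟨_, hy, ?_⟩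
    rw [MonoidHom.mem_ker] at hk
    simp [hk]
  · rintro ⟨y, hy, rfl⟩
    refine ⟨MulAut.conj k y, ?_, ?_⟩
    · simpa [MulAut.smul_def, mul_assoc] using hy
    · rw [MonoidHom.mem_ker] at hk
      simp [hk]

end Aux

section Kernel

variable {G : Type*} [Group G] [Finite G] (K : Subgroup G) [K.Normal]

/-- No prime outside those of the quotient has a Sylow number divisible by exactly one 17. -/
theorem no_extra_prime {l : ℕ} [Fact l.Prime] (hlG : ¬ l ∣ K.index) (hl : ¬ l ∣ 16) (hl17 : l ≠ 17)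
    (h17 : (Nat.card (Sylow l G)).factorization 17 = 1)
    (P : Sylow 17 G) (hK : K ≤ Subgroup.normalizer ((P : Subgroup G) : Set G)) : False := by
  classical
  obtain ⟨L⟩ : Nonempty (Sylow l K) := inferInstance
  have hLcard : Nat.card (Sylow l G) = Nat.card (Sylow l K) := by
    have htop := Sylow.normalizer_sup_eq_top L
    have hmap : ∃ Q : Sylow l G, (Q : Subgroup G) = (L : Subgroup K).map K.subtype := by
      refine ⟨(L.2.map K.subtype).toSylow ?_, rfl⟩
      rw [Subgroup.index_map_subtype]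
      exact fun h => ((Fact.out : l.Prime).dvd_mul.1 h).elim L.not_dvd_index hlG
    obtain ⟨Q, hQ⟩ := hmap
    rw [CfsgLib.SylowNumber.card_sylow_eq_relIndex K L, Sylow.card_eq_index_normalizer Q, ← Sylow.coe_coe,
      hQ, ← CfsgLib.SylowNumber.relIndex_sup_eq_relIndex _ K]
    erw [htop]
    rw [Subgroup.relIndex_top_right]
  obtain ⟨R, hR⟩ := CfsgLib.SylowNumber.exists_sylow_map_eq_inf P K
  haveI hRn : (R : Subgroup K).Normal := by
    refine ⟨fun x hx k => ?_⟩
    have hx' : (x : G) ∈ (P : Subgroup G) ⊓ K := hR ▸ Subgroup.mem_map_of_mem _ hx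
    have hy : ((k * x * k⁻¹ : K) : G) ∈ (P : Subgroup G) ⊓ K :=
      ⟨(Subgroup.mem_normalizer_iff.1 (hK k.2) x).1 hx'.1, (k * x * k⁻¹).2⟩
    rw [← hR] at hy
    obtain ⟨z, hz, he⟩ := hy
    rwa [← (Subtype.ext he : z = k * x * k⁻¹)]
  have hRone : Nat.card (Sylow l (R : Subgroup K)) = 1 := by
    have hbot : ∀ Q : Sylow l (R : Subgroup K), (Q : Subgroup (R : Subgroup K)) = ⊥ := by
      intro Q
      have hd : IsPGroup 17 (Q : Subgroup (R : Subgroup K)) := R.2.to_subgroup _
      obtain ⟨i, hi⟩ := Q.2.exists_card_eq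
      obtain ⟨i', hi'⟩ := hd.exists_card_eq
      refine Subgroup.eq_bot_of_card_eq _ ?_
      exact Nat.eq_one_of_dvd_coprimes
        (Nat.Coprime.pow i i' ((Nat.coprime_primes Fact.out prime_seventeen).2 hl17))
        (dvd_of_eq hi) (dvd_of_eq hi')
    haveI : Subsingleton (Sylow l (R : Subgroup K)) :=
      ⟨fun Q Q' => Sylow.ext ((hbot Q).trans (hbot Q').symm)⟩
    exact Nat.card_of_subsingleton Classical.ofNonempty
  have hmul := CfsgLib.SylowNumber.card_sylow_eq_mul L (R : Subgroup K)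
  rw [← hLcard, hRone, mul_one] at hmul
  have hfac := CfsgLib.SylowNumber.factor_modEq_one L (R : Subgroup K) 17 prime_seventeen
  set B := Nat.card (Sylow l ↥(((L : Subgroup K) ⊔ (R : Subgroup K)) ⊓
    Subgroup.normalizer (((L : Subgroup K) ⊓ (R : Subgroup K) : Subgroup K) : Set K))) with hB
  set A := Nat.card (Sylow l (K ⧸ (R : Subgroup K))) with hA
  have hA0 : A.factorization 17 = 0 := by
    refine Nat.factorization_eq_zero_of_not_dvd fun h => R.not_dvd_index ?_
    refine h.trans ?_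
    obtain ⟨Q⟩ : Nonempty (Sylow l (K ⧸ (R : Subgroup K))) := inferInstance
    exact Q.card_dvd_index.trans (Subgroup.index_dvd_card _)
  have hApos : A ≠ 0 := Nat.card_pos.ne'
  have hBpos : B ≠ 0 := Nat.card_pos.ne'
  rw [hmul, Nat.factorization_mul hApos hBpos, Finsupp.add_apply, hA0, zero_add] at h17
  rw [h17, pow_one] at hfac
  exact hl ((Nat.modEq_iff_dvd' (by norm_num : 1 ≤ 17)).1 hfac.symm)

/-- The kernel is trivial. -/
theorem kernel_eq_bot (hZ : Subgroup.center G = ⊥)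
    (hprimes : ∀ r : ℕ, r.Prime → r ∣ Nat.card G → r = 2 ∨ r = 3 ∨ r = 17)
    (hK : ∀ r : ℕ, r = 2 ∨ r = 3 ∨ r = 17 → ∀ P : Sylow r G,
      K ≤ Subgroup.normalizer ((P : Subgroup G) : Set G)) : K = ⊥ := by
  classical
  by_contra hne
  have h1 : Nat.card K ≠ 1 := fun h => hne (Subgroup.card_eq_one.1 h)
  obtain ⟨r, hr, hrd⟩ := Nat.exists_prime_and_dvd h1
  haveI := Fact.mk hr
  have hrc := hprimes r hr (hrd.trans K.card_subgroup_dvd_card)
  obtain ⟨P⟩ : Nonempty (Sylow r G) := inferInstance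
  obtain ⟨R, hR⟩ := CfsgLib.SylowNumber.exists_sylow_map_eq_inf P K
  haveI hRn : (R : Subgroup K).Normal := by
    refine ⟨fun x hx k => ?_⟩
    have hx' : (x : G) ∈ (P : Subgroup G) ⊓ K := hR ▸ Subgroup.mem_map_of_mem _ hx
    have hy : ((k * x * k⁻¹ : K) : G) ∈ (P : Subgroup G) ⊓ K :=
      ⟨(Subgroup.mem_normalizer_iff.1 (hK r hrc P k.2) x).1 hx'.1, (k * x * k⁻¹).2⟩
    rw [← hR] at hy
    obtain ⟨z, hz, he⟩ := hy
    rwa [← (Subtype.ext he : z = k * x * k⁻¹)]
  haveI : (R : Subgroup K).Characteristic := Sylow.characteristic_of_normal R hRn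
  set U := (P : Subgroup G) ⊓ K with hU
  haveI hUn : U.Normal := by
    rw [← hR]
    exact ConjAct.normal_of_characteristic_of_normal
  have hUne : U ≠ ⊥ := by
    rw [← hR, Ne, Subgroup.map_eq_bot_iff_of_injective _ K.subtype_injective]
    exact R.ne_bot_of_dvd_card hrd
  haveI : Group.IsNilpotent (P : Subgroup G) := P.2.isNilpotent
  have hUne' : U.subgroupOf (P : Subgroup G) ≠ ⊥ := by
    rw [Ne, Subgroup.subgroupOf_eq_bot, disjoint_iff, inf_eq_left.2 inf_le_left]
    exact hUne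
  haveI : (U.subgroupOf (P : Subgroup G)).Normal := hUn.comap _
  obtain ⟨z, hz, hz1⟩ := (Subgroup.bot_or_exists_ne_one _).resolve_left
    (CfsgLib.OddOrder.PuigSeries.inf_center_ne_bot (U.subgroupOf (P : Subgroup G)) hUne')
  have hzU : (z : G) ∈ U := hz.2
  have hle : ∀ s : ℕ, s = 2 ∨ s = 3 ∨ s = 17 → ∀ Q : Sylow s G, s ≠ r →
      (Q : Subgroup G) ≤ Subgroup.centralizer {(z : G)} := by
    intro s hs Q hsr y hy
    haveI : Fact s.Prime := ⟨by rcases hs with rfl | rfl | rfl <;> norm_num⟩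
    rw [Subgroup.mem_centralizer_singleton_iff]
    have h1 : y * z * y⁻¹ * (z : G)⁻¹ ∈ U :=
      mul_mem (hUn.conj_mem _ hzU y) (inv_mem hzU)
    have h2 : y * z * y⁻¹ * (z : G)⁻¹ ∈ (Q : Subgroup G) := by
      rw [show y * z * y⁻¹ * (z : G)⁻¹ = y * ((z : G) * y⁻¹ * (z : G)⁻¹) by group]
      exact mul_mem hy ((Subgroup.mem_normalizer_iff.1 (hK s hs Q hzU.2) _).1 (inv_mem hy))
    have hdis := IsPGroup.disjoint_of_ne r s (Ne.symm hsr) U (Q : Subgroup G)
      (P.2.to_le inf_le_left) Q.2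
    have := (Subgroup.disjoint_def.1 hdis) h1 h2
    rw [mul_inv_eq_one, mul_inv_eq_iff_eq_mul] at this
    exact this
  have hPle : (P : Subgroup G) ≤ Subgroup.centralizer {(z : G)} := by
    intro y hy
    rw [Subgroup.mem_centralizer_singleton_iff]
    exact congrArg Subtype.val (Subgroup.mem_center_iff.1 hz.1 ⟨y, hy⟩)
  have hidx : (Subgroup.centralizer {(z : G)}).index = 1 := by
    by_contra hne1
    obtain ⟨s, hs, hsd⟩ := Nat.exists_prime_and_dvd hne1
    haveI := Fact.mk hs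
    have hsc := hprimes s hs (hsd.trans (Subgroup.index_dvd_card _))
    by_cases hsr : s = r
    · subst hsr
      exact P.not_dvd_index (hsd.trans (Subgroup.index_dvd_of_le hPle))
    · obtain ⟨Q⟩ : Nonempty (Sylow s G) := inferInstance
      exact Q.not_dvd_index (hsd.trans (Subgroup.index_dvd_of_le (hle s hsc Q hsr)))
  apply hz1
  have : (z : G) ∈ Subgroup.center G := Subgroup.mem_center_iff.2 fun g => by
    have := Subgroup.index_eq_one.1 hidx ▸ Subgroup.mem_top g
    exact Subgroup.mem_centralizer_singleton_iff.1 this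
  rw [hZ, Subgroup.mem_bot] at this
  exact Subtype.ext this

end Kernel

/-- Let G be a finite group with trivial centre whose set of Sylow numbers (numbers of Sylow r-subgroups, r over the prime divisors of its order) is exactly {18, 136, 153}. Then G is isomorphic to PSL(2, 17) or to PGL(2, 17). -/
theorem result {G : Type*} [Group G] [Finite G] (hZ : Subgroup.center G = ⊥) (hNS : {c : ℕ | ∃ r : ℕ, r.Prime ∧ r ∣ Nat.card G ∧ c = Nat.card (Sylow r G)} = ({18, 136, 153} : Set ℕ))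
    {F : Type*} [Field F] [Fintype F] (hF : Fintype.card F = 17) :
    Nonempty (G ≃* Matrix.ProjectiveSpecialLinearGroup (Fin 2) F) ∨ Nonempty (G ≃* (GL (Fin 2) F ⧸ Subgroup.center (GL (Fin 2) F))) := by
  classical
  obtain ⟨q, hq, hqd, hq18⟩ : (18 : ℕ) ∈ {c : ℕ | ∃ r : ℕ, r.Prime ∧ r ∣ Nat.card G ∧ c = Nat.card (Sylow r G)} :=
    hNS.symm ▸ Set.mem_insert _ _
  obtain rfl : q = 17 := by
    rcases prime_cases hNS hq hqd with ⟨h, -⟩ | ⟨-, h⟩ | ⟨-, h⟩
    · exact h
    · omega
    · omega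
  obtain ⟨P⟩ : Nonempty (Sylow 17 G) := inferInstance
  let φ : G →* Equiv.Perm (Sylow 17 G) := MulAction.toPermHom G (Sylow 17 G)
  have hf : Function.Surjective φ.rangeRestrict := φ.rangeRestrict_surjective
  set f := φ.rangeRestrict with hfdef
  have hsmul : ∀ (g : G) (y : Sylow 17 G), f g • y = g • y := fun g y => rfl
  let S : Setup φ.range (Sylow 17 G) :=
    { card_points := hq18.symm
      trans := ⟨fun y z => by
        obtain ⟨g, hg⟩ := exists_smul_eq G y z
        exact ⟨f g, hg⟩⟩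
      a := P
      U := (P : Subgroup G).map f
      isPGroup := P.2.map f
      fix := by
        rintro u ⟨g, hg, rfl⟩
        rw [hsmul]
        exact Sylow.smul_eq_iff_mem_normalizer.2 (Subgroup.le_normalizer hg)
      move := fun y z hy hz => by
        obtain ⟨g, hg, hgy⟩ := sylow_move hq18.symm P y z hy hz
        exact ⟨f g, Subgroup.mem_map_of_mem f hg, hgy⟩
      norm := fun x hx u hu => by
        obtain ⟨g, rfl⟩ := hf x
        obtain ⟨h, hh, rfl⟩ := hu
        rw [hsmul] at hx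
        have hn := Sylow.smul_eq_iff_mem_normalizer.1 hx
        rw [← map_inv, ← map_mul, ← map_mul]
        exact Subgroup.mem_map_of_mem f ((Subgroup.mem_normalizer_iff.1 hn h).1 hh) }
  have hcardX : Nat.card φ.range = 4896 ∨ Nat.card φ.range = 2448 :=
    S.shape.imp And.left And.left
  have hdvdX : Nat.card φ.range ∣ Nat.card G := Subgroup.card_range_dvd φ
  have h2 : 2 ∣ Nat.card G := by rcases hcardX with h | h <;> rw [h] at hdvdX <;> omega
  have h3 : 3 ∣ Nat.card G := by rcases hcardX with h | h <;> rw [h] at hdvdX <;> omega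
  have hn2 : Nat.card (Sylow 2 G) = 153 := by
    rcases prime_cases hNS Nat.prime_two h2 with ⟨h, -⟩ | ⟨h, -⟩ | ⟨-, h⟩
    · omega
    · omega
    · exact h
  have hn3 : Nat.card (Sylow 3 G) = 136 := by
    rcases prime_cases hNS Nat.prime_three h3 with ⟨h, -⟩ | ⟨-, h⟩ | ⟨h, -⟩
    · omega
    · exact h
    · omega
  haveI := Fact.mk Nat.prime_two
  haveI := Fact.mk Nat.prime_three
  have e2 : Nat.card (Sylow 2 φ.range) = Nat.card (Sylow 2 G) := by rw [S.card_sylow_two, hn2]
  have e3 : Nat.card (Sylow 3 φ.range) = Nat.card (Sylow 3 G) := by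
    rw [hn3]
    refine S.card_sylow_three (hn3 ▸ ?_)
    exact Nat.card_le_card_of_surjective _ (Sylow.mapSurjective_surjective hf 3)
  have hK : ∀ r : ℕ, r = 2 ∨ r = 3 ∨ r = 17 → ∀ Q : Sylow r G,
      f.ker ≤ Subgroup.normalizer ((Q : Subgroup G) : Set G) := by
    rintro r (rfl | rfl | rfl) Q
    · exact ker_le_normalizer f hf e2 Q
    · exact ker_le_normalizer f hf e3 Q
    · intro k hk
      refine Sylow.smul_eq_iff_mem_normalizer.1 ?_
      rw [← hsmul, MonoidHom.mem_ker.1 hk, one_smul]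
  have hidx : f.ker.index = Nat.card φ.range := by
    rw [Subgroup.index_ker, MonoidHom.range_eq_top.2 hf, Subgroup.card_top]
  have hprimes : ∀ r : ℕ, r.Prime → r ∣ Nat.card G → r = 2 ∨ r = 3 ∨ r = 17 := by
    intro r hr hd
    by_contra hnot
    simp only [not_or] at hnot
    haveI := Fact.mk hr
    have hndvd : ¬ r ∣ f.ker.index := by
      rw [hidx]
      intro h
      have h' : r ∣ 2 ^ 5 * (3 ^ 2 * 17) := by
        rcases hcardX with h4 | h4 <;> rw [h4] at h <;> exact h.trans (by norm_num)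
      rcases hr.dvd_mul.1 h' with h1 | h1
      · exact hnot.1 ((Nat.prime_dvd_prime_iff_eq hr Nat.prime_two).1 (hr.dvd_of_dvd_pow h1))
      · rcases hr.dvd_mul.1 h1 with h1 | h1
        · exact hnot.2.1 ((Nat.prime_dvd_prime_iff_eq hr Nat.prime_three).1 (hr.dvd_of_dvd_pow h1))
        · exact hnot.2.2 ((Nat.prime_dvd_prime_iff_eq hr prime_seventeen).1 h1)
    rcases prime_cases hNS hr hd with ⟨h, -⟩ | ⟨h, hn⟩ | ⟨h, hn⟩
    · exact hnot.2.2 h
    · refine no_extra_prime f.ker hndvd ?_ hnot.2.2 ?_ P (hK 17 (by simp) P)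
      · rcases h with rfl | rfl <;> norm_num
      · rw [hn, show (136 : ℕ) = 17 ^ 1 * 8 by norm_num]
        exact factorization_odd_part (by norm_num)
    · refine no_extra_prime f.ker hndvd ?_ hnot.2.2 ?_ P (hK 17 (by simp) P)
      · rcases h with rfl | rfl
        · exact absurd rfl hnot.1
        · norm_num
      · rw [hn, show (153 : ℕ) = 17 ^ 1 * 9 by norm_num]
        exact factorization_odd_part (by norm_num)
  have hker : f.ker = ⊥ := kernel_eq_bot f.ker hZ hprimes hK
  let e : G ≃* φ.range := MulEquiv.ofBijective f ⟨(MonoidHom.ker_eq_bot_iff f).1 hker, hf⟩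
  rcases S.shape with ⟨-, K, iK, iT, hKc, ⟨eK⟩⟩ | ⟨-, K, iK, iT, hKc, ⟨eK⟩⟩
  · exact Or.inr ⟨(e.trans eK).trans
      (CfsgLib.PSL2.pglFieldCongr (FiniteField.ringEquivOfCardEq (hKc.trans hF.symm)))⟩
  · exact Or.inl ⟨(e.trans eK).trans
      (CfsgLib.ClassicalGroups.pslFieldCongr (FiniteField.ringEquivOfCardEq (hKc.trans hF.symm)))⟩

end Cfsg.Agent.S3641
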