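import Cfsg.Statements.S3643
import Cfsg.Agent.Lib.MathieuTwelve.ReduceDegreeGraph
import Cfsg.Agent.Lib.MathieuTwelve.DegreeFacts
-- import your own Cfsg.Agent.* helpers here

set_option autoImplicit false
open Cfsg

namespace Cfsg.Agent.S3643

/-- Let G be a finite group of the same order as the Mathieu group M₁₂ whose character degree graph equals that of M₁₂ (same primes dividing some irreducible complex character degree, same pairs of distinct primes whose product divides some degree). Then G is isomorphic to M₁₂ or to the direct product of the alternating group of degree 4 with M₁₁. -/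
theorem result {G : Type*} [Group G] [Finite G] (hcard : Nat.card G = Nat.card ↥Cfsg.Spor.M12) (hΔ : Cfsg.degreePrimes G = Cfsg.degreePrimes ↥Cfsg.Spor.M12 ∧ Cfsg.degreeGraph G = Cfsg.degreeGraph ↥Cfsg.Spor.M12) :
    Nonempty (G ≃* ↥Cfsg.Spor.M12) ∨ Nonempty (G ≃* alternatingGroup (Fin 4) × ↥Cfsg.Spor.M11)   := by
  have := CfsgLib.Golay.isSimpleGroup_sporM12
  obtain ⟨-, ⟨d₃, hd₃, h33⟩, d₅, hd₅, h55⟩ :=
    CfsgLib.MathieuTwelve.exists_degree_dvd (G := ↥Cfsg.Spor.M12) CfsgLib.Golay.natCard_sporM12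
  have hadj : ∀ p q : ℕ, p.Prime → q.Prime → p ≠ q → (∃ d ∈ Cfsg.charDegrees ↥Cfsg.Spor.M12, p * q ∣ d) →
      ∃ d ∈ Cfsg.charDegrees G, p * q ∣ d := by
    intro p q hp hq hpq h
    have h' : (Cfsg.degreeGraph G).Adj p q := by
      rw [hΔ.2]
      exact ⟨hpq, hp, hq, h⟩
    exact h'.2.2.2
  exact CfsgLib.MathieuTwelve.nonempty_equiv_of_degrees (hcard.trans CfsgLib.Golay.natCard_sporM12)
    (hadj 3 11 (by norm_num) (by norm_num) (by norm_num) ⟨d₃, hd₃, h33⟩)
    (hadj 5 11 (by norm_num) (by norm_num) (by norm_num) ⟨d₅, hd₅, h55⟩)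

end Cfsg.Agent.S3643
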