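import Cfsg.Statements.S3648
import Cfsg.Agent.Lib.Recog.PGL2Nse
import Cfsg.Agent.Lib.Recog.PGL2Spectrum
import Cfsg.Agent.Lib.PSL2.Basic

set_option autoImplicit false
open Cfsg

namespace Cfsg.Agent.S3648

open CfsgLib.OrderCount CfsgLib.Recog.PGL2 Matrix

universe u

section pgl

variable {F : Type u} [Field F] [Fintype F] {p f : ℕ} [hp : Fact p.Prime] [CharP F p]

theorem card_eq : Nat.card (PGL F) = Fintype.card F * (Fintype.card F * Fintype.card F - 1) := by
  show Nat.card (ProjGenLinGroup (Fin 2) F) = _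
  rw [CfsgLib.PSL2.card_pgl, show Fintype.card F * Fintype.card F - 1 =
    (Fintype.card F + 1) * (Fintype.card F - 1) by rw [← mul_self_tsub_one]]
  ring

theorem singular (hp2 : p ≠ 2) (hf : 0 < f) (hq : Fintype.card F = p ^ f) (x : PGL F) (h : p ∣ orderOf x) :
    orderOf x = p := by
  obtain ⟨g, rfl⟩ := QuotientGroup.mk'_surjective _ x
  have hpq : p ∣ Fintype.card F := hq ▸ dvd_pow_self p hf.ne'
  rcases pow_mk_cases hp2 hq g with h' | h' | h'
  · have h1 := Nat.dvd_sub hpq (h.trans h')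
    rw [Nat.sub_sub_self Fintype.card_pos] at h1
    exact absurd (Nat.dvd_one.1 h1) hp.out.one_lt.ne'
  · exact absurd (Nat.dvd_one.1 ((Nat.dvd_add_right hpq).1 (h.trans h'))) hp.out.one_lt.ne'
  · exact Nat.dvd_antisymm h' h

theorem dvd_cnt (hp2 : p ≠ 2) (hf : 0 < f) (hq : Fintype.card F = p ^ f) (k : ℕ) (hk1 : k ≠ 1) (hk : ¬ p ∣ k) :
    Fintype.card F ∣ cnt (PGL F) k := by
  classical
  have : Fintype (PGL F) := Fintype.ofFinite _
  have e : cnt (PGL F) k = ∑ _x ∈ Finset.univ.filter (fun x : PGL F => orderOf x = k), 1 := by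
    rw [cnt, Nat.card_eq_fintype_card, Fintype.card_subtype, Finset.card_eq_sum_ones]
  rw [e]
  refine dvd_sum_of_conj_invariant _ _ _ ?_ (fun _ _ _ => rfl) ?_
  · intro g u hu
    simp only [Finset.mem_filter, Finset.mem_univ, true_and] at hu ⊢
    rw [orderOf_conj', hu]
  · intro x hx
    simp only [Finset.mem_filter, Finset.mem_univ, true_and] at hx
    rw [mul_one]
    have hcard := (Subgroup.centralizer ({x} : Set (PGL F))).card_mul_index
    rw [card_eq] at hcard
    have hco : Nat.Coprime (Fintype.card F) (Nat.card (Subgroup.centralizer ({x} : Set (PGL F)))) := by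
      rw [hq]
      refine Nat.Coprime.pow_left _ (hp.out.coprime_iff_not_dvd.2 fun hd => ?_)
      obtain ⟨y, hy⟩ := exists_prime_orderOf_dvd_card' p hd
      rw [← Subgroup.orderOf_coe] at hy
      have hc : Commute (y : PGL F) x := (Subgroup.mem_centralizer_singleton_iff.1 y.2 :)
      have h := hc.orderOf_mul_eq_mul_orderOf_of_coprime (by rw [hy, hx]; exact hp.out.coprime_iff_not_dvd.2 hk)
      rw [hy, hx] at h
      have h1 := singular hp2 hf hq _ (h ▸ dvd_mul_right p k)
      rw [h] at h1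
      exact hk1 ((Nat.mul_eq_left hp.out.ne_zero).1 h1)
    exact hco.dvd_of_dvd_mul_left (hcard ▸ dvd_mul_right _ _)

theorem cnt_prime (hp2 : p ≠ 2) (hf : 0 < f) (hq : Fintype.card F = p ^ f) :
    cnt (PGL F) p = Fintype.card F * Fintype.card F - 1 := by
  classical
  have : Fintype (PGL F) := Fintype.ofFinite _
  set q := Fintype.card F with hq0
  have hq1 : 2 ≤ q := Fintype.one_lt_card
  have hN : Nat.card (PGL F) = q * (q * q - 1) := card_eq
  set R := Finset.univ.filter fun g : PGL F => ¬ p ∣ orderOf g with hR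
  have hsum : R.card + cnt (PGL F) p = Nat.card (PGL F) := by
    rw [cnt, Nat.card_eq_fintype_card, Nat.card_eq_fintype_card, Fintype.card_subtype,
      show Finset.univ.filter (fun g : PGL F => orderOf g = p) = Finset.univ.filter fun g : PGL F => p ∣ orderOf g from
        Finset.filter_congr fun g _ => ⟨fun e => e ▸ dvd_rfl, singular hp2 hf hq g⟩,
      hR, add_comm, Finset.card_filter_add_card_filter_not, Finset.card_univ]
  have hins : R = insert 1 (Finset.univ.filter fun g : PGL F => ¬ p ∣ orderOf g ∧ orderOf g ≠ 1) := by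
    ext g
    simp only [hR, Finset.mem_filter, Finset.mem_univ, true_and, Finset.mem_insert, ne_eq, orderOf_eq_one_iff]
    by_cases h : g = 1
    · simp [h, hp.out.one_lt.ne']
    · simp [h]
  have hRq : q ∣ (R.card - 1) := by
    rw [hins, Finset.card_insert_of_notMem (by simp), Nat.add_sub_cancel]
    exact CfsgLib.PGL2Nse.dvd_card_filter (fun k => ¬ p ∣ k ∧ k ≠ 1) q fun g hg => dvd_cnt hp2 hf hq _ hg.2 hg.1
  have hR1 : 1 ≤ R.card := by rw [hins, Finset.card_insert_of_notMem (by simp)]; omega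
  refine CfsgLib.PGL2Nse.eq_of_congruences hq1 ?_ ?_ (by omega)
  · have h : cnt (PGL F) p + 1 = q * (q * q - 1) - (R.card - 1) := by omega
    rw [h]
    exact Nat.dvd_sub (dvd_mul_right _ _) hRq
  · have h1 : q * q - 1 ∣ R.card + cnt (PGL F) p := by rw [hsum, hN]; exact dvd_mul_left _ _
    exact (Nat.dvd_add_right (CfsgLib.PGL2Nse.dvd_card_regular hf hq hN)).1 h1

theorem card_sq_le_cnt_two (hp2 : p ≠ 2) : Fintype.card F * Fintype.card F ≤ cnt (PGL F) 2 := by
  classical
  have hF2 : ringChar F ≠ 2 := by rw [ringChar.eq F p]; exact hp2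
  have hm1 : (1 : F) ≠ -1 := fun e => Ring.neg_one_ne_one_of_char_ne_two hF2 e.symm
  let M : F × F → Matrix (Fin 2) (Fin 2) F := fun z =>
    if z.1 * z.2 = -1 then !![0, 1; z.2, 0] else !![1, z.1; z.2, -1]
  have hdet : ∀ z, (M z).det ≠ 0 := fun z => by
    by_cases h : z.1 * z.2 = -1
    · simp only [M, if_pos h, Matrix.det_fin_two_of]
      intro e
      have : z.2 = 0 := by linear_combination -e
      rw [this, mul_zero] at h
      exact one_ne_zero (neg_eq_zero.1 h.symm)
    · simp only [M, if_neg h, Matrix.det_fin_two_of]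
      intro e
      exact h (by linear_combination -e)
  let g : F × F → GL (Fin 2) F := fun z => GeneralLinearGroup.mkOfDetNeZero (M z) (hdet z)
  have hg : ∀ z, (g z : Matrix (Fin 2) (Fin 2) F) = M z := fun z => rfl
  let π := QuotientGroup.mk' (Subgroup.center (GL (Fin 2) F))
  have hord : ∀ z, orderOf (π (g z)) = 2 := fun z => by
    refine orderOf_eq_prime ?_ fun h1 => ?_
    · rw [← map_pow]
      refine mk_eq_one_of_scalar (c := (M z 0 0) * (M z 0 0) + M z 0 1 * M z 1 0) ?_
      rw [Units.val_pow_eq_pow_val, hg, pow_two]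
      by_cases h : z.1 * z.2 = -1
      · simp only [M, if_pos h]
        ext i j; fin_cases i <;> fin_cases j <;> simp [Matrix.mul_apply, Fin.sum_univ_two]
      · simp only [M, if_neg h]
        ext i j; fin_cases i <;> fin_cases j <;> simp [Matrix.mul_apply, Fin.sum_univ_two] <;> ring
    · obtain ⟨h01, -, h00⟩ := scalar_of_mk_eq_one h1
      rw [hg] at h01 h00
      by_cases h : z.1 * z.2 = -1
      · simp [M, if_pos h] at h01
      · simp [M, if_neg h] at h00
        exact hm1 h00
  have hinj : Function.Injective fun z => (⟨π (g z), hord z⟩ : {x : PGL F // orderOf x = 2}) := by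
    intro z w e
    have e' : π (g z) = π (g w) := congrArg Subtype.val e
    have h1 : π ((g z)⁻¹ * g w) = 1 := by rw [map_mul, map_inv, e', inv_mul_cancel]
    obtain ⟨s01, s10, s⟩ := scalar_of_mk_eq_one h1
    have hmul := congrArg Units.val (mul_inv_cancel_left (g z) (g w))
    rw [Units.val_mul, hg, hg] at hmul
    set S := (((g z)⁻¹ * g w : GL (Fin 2) F) : Matrix (Fin 2) (Fin 2) F)
    have key : ∀ i j, M z i j * S 0 0 = M w i j := fun i j => by
      rw [← hmul, Matrix.mul_apply, Fin.sum_univ_two]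
      fin_cases j <;> simp [s01, s10, s]
    have k00 := key 0 0
    have k01 := key 0 1
    have k10 := key 1 0
    by_cases hz : z.1 * z.2 = -1 <;> by_cases hw : w.1 * w.2 = -1
    · simp [M, if_pos hz, if_pos hw] at k01 k10
      rw [k01, mul_one] at k10
      have h2 : w.2 ≠ 0 := fun e => by simp [e] at hw
      exact Prod.ext (mul_right_cancel₀ h2 (by rw [hw, ← hz, k10])) k10
    · simp [M, if_pos hz, if_neg hw] at k00
    · simp [M, if_neg hz, if_pos hw] at k00 k01
      simp [k00] at k01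
    · simp [M, if_neg hz, if_neg hw] at k00 k01 k10
      rw [k00, mul_one] at k01 k10
      exact Prod.ext k01 k10
  have := Nat.card_le_card_of_injective _ hinj
  rwa [Nat.card_prod, Nat.card_eq_fintype_card] at this

end pgl

/-- For a finite group X let nse(X) be the set of values of the function 'number of elements of order k' over the element orders k that occur. Let F be a finite field of odd order q > 3 and P = PGL(2, F) = GL(2, F) modulo its centre. If G is a finite group with the same order as P and nse(G) = nse(P), then G is isomorphic to P. -/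
theorem result {F : Type*} [Field F] [Fintype F] (hodd : Odd (Fintype.card F)) (h3 : 3 < Fintype.card F)
    {G : Type*} [Group G] [Finite G] (hcard : Nat.card G = Nat.card (GL (Fin 2) F ⧸ Subgroup.center (GL (Fin 2) F)))
    (hnse : {c : ℕ | 0 < c ∧ ∃ n : ℕ, c = Nat.card {g : G // orderOf g = n}} = {c : ℕ | 0 < c ∧ ∃ n : ℕ, c = Nat.card {g : (GL (Fin 2) F ⧸ Subgroup.center (GL (Fin 2) F)) // orderOf g = n}}) :
    Nonempty (G ≃* (GL (Fin 2) F ⧸ Subgroup.center (GL (Fin 2) F))) := by
  have := h3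
  obtain ⟨p, hchar⟩ := CharP.exists F
  obtain ⟨⟨f, hf⟩, hp, hq⟩ := FiniteField.card F p
  have : Fact p.Prime := ⟨hp⟩
  simp only [PNat.mk_coe] at hq
  have hp2 : p ≠ 2 := fun e => by
    have : 2 ∣ Fintype.card F := by rw [hq, e]; exact dvd_pow_self 2 hf.ne'
    exact (Nat.not_even_iff_odd.2 hodd) (even_iff_two_dvd.2 this)
  set q := Fintype.card F with hq0
  have hN : Nat.card G = q * (q * q - 1) := hcard.trans card_eq
  have h2G : 2 ∣ Nat.card G := by
    rw [hN]
    refine dvd_mul_of_dvd_right (even_iff_two_dvd.1 ?_) _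
    exact Nat.Odd.sub_odd (hodd.mul hodd) odd_one
  have h2P : 2 ∣ Nat.card (PGL F) := by rw [card_eq, ← hN]; exact h2G
  have hP2 : q ∣ cnt (PGL F) 2 := dvd_cnt hp2 hf hq 2 (by omega) fun h =>
    hp2 ((Nat.prime_dvd_prime_iff_eq hp Nat.prime_two).1 h)
  have hsq : q * q ≤ cnt (PGL F) 2 := card_sq_le_cnt_two hp2
  have hq2 : 9 ≤ q * q := Nat.mul_le_mul (show 3 ≤ q by omega) (show 3 ≤ q by omega)
  have hP2odd : ¬ 2 ∣ cnt (PGL F) 2 := fun h => by
    have h1 := Nat.dvd_sub (prime_dvd_one_add_cnt Nat.prime_two h2P) h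
    rw [Nat.add_sub_cancel, Nat.dvd_one] at h1
    omega
  obtain ⟨-, n, hn⟩ : cnt (PGL F) 2 ∈ {c : ℕ | 0 < c ∧ ∃ n : ℕ, c = Nat.card {g : G // orderOf g = n}} := by
    rw [hnse]
    exact ⟨cnt_pos_prime Nat.prime_two h2P, 2, rfl⟩
  change cnt (PGL F) 2 = cnt G n at hn
  have hG2 : cnt G 2 = cnt (PGL F) 2 := by
    obtain ⟨x, hx⟩ := cnt_pos_iff.1 (show 0 < cnt G n by omega)
    have hn0 : 0 < n := hx ▸ orderOf_pos x
    rcases (by omega : n = 1 ∨ n = 2 ∨ 2 < n) with h | h | h
    · rw [h, cnt_one] at hn; omega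
    · rw [hn, h]
    · exact absurd (hn ▸ even_cnt h) hP2odd
  have hval : ∀ k, 2 < k → 0 < cnt G k → q ∣ cnt G k ∨ cnt G k = q * q - 1 := fun k hk hpos => by
    obtain ⟨-, m, hm⟩ : cnt G k ∈ {c : ℕ | 0 < c ∧ ∃ n : ℕ,
        c = Nat.card {g : (GL (Fin 2) F ⧸ Subgroup.center (GL (Fin 2) F)) // orderOf g = n}} := by
      rw [← hnse]
      exact ⟨hpos, k, rfl⟩
    change cnt G k = cnt (PGL F) m at hm
    have hm1 : m ≠ 1 := fun e => by
      have h1 := even_cnt (G := G) hk
      rw [hm, e, cnt_one] at h1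
      omega
    by_cases hpm : p ∣ m
    · obtain ⟨x, hx⟩ := cnt_pos_iff.1 (show 0 < cnt (PGL F) m by omega)
      have hmp : m = p := by rw [← hx]; exact singular hp2 hf hq x (hx ▸ hpm)
      right
      rw [hm, hmp, cnt_prime hp2 hf hq]
    · exact Or.inl (hm ▸ dvd_cnt hp2 hf hq m hm1 hpm)
  obtain ⟨hnp, hsing⟩ := CfsgLib.PGL2Nse.counts hp2 hf hq hN hval (hG2 ▸ hP2)
  obtain ⟨K, iK, fK, hK, ⟨e⟩⟩ := CfsgLib.PGL2Nse.iso_pgl hp2 hf hq hN hnp hsing (hG2 ▸ hsq)
  exact ⟨e.trans (CfsgLib.PSL2.pglFieldCongr (FiniteField.ringEquivOfCardEq (hK.trans hq0)))⟩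

end Cfsg.Agent.S3648
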