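import Cfsg.Statements.S3663
import Cfsg.Agent.Lib.Recognition.PSU34.PrimeGraph

set_option autoImplicit false
open Cfsg

namespace Cfsg.Agent.S3663

/-- The prime graph of a finite group has the prime divisors of its order as vertices, two distinct primes p, q being joined when the group has an element of order pq; two groups have the same prime graph when they have the same prime divisors and the same joined pairs. Let F be the field with 16 elements and L = PSU(3,4) realised over F. There are finite groups of arbitrarily large order with the same prime graph as L. -/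
theorem result {F : Type*} [Field F] [Fintype F] (hF : Fintype.card F = 16) (N : ℕ) :
    ∃ (H : Type) (_ : Group H) (_ : Finite H), N < Nat.card H ∧
      ((∀ p : ℕ, p.Prime → (p ∣ Nat.card (Cfsg.PSU 3 F 4) ↔ p ∣ Nat.card H)) ∧
      (∀ p q : ℕ, p.Prime → q.Prime → p ≠ q → ((∃ g : (Cfsg.PSU 3 F 4), orderOf g = p * q) ↔ (∃ g : H, orderOf g = p * q)))) := by
  obtain ⟨e⟩ : Nonempty (CfsgLib.Recognition.PSU34.F16 ≃+* F) :=
    ⟨FiniteField.ringEquivOfCardEq (CfsgLib.Recognition.PSU34.F16.card_eq.trans hF.symm)⟩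
  let g := CfsgLib.Recognition.PSU34.goodEquiv hF e
  have hc : Subgroup.center (Cfsg.SU 3 F 4) = ⊥ := by
    have h := CfsgLib.ClassicalGroups.card_center_SU (q := 4) (n := 3) (by rw [hF]; norm_num) (by norm_num)
    exact Subgroup.eq_bot_of_card_eq _ (h.trans (by decide))
  let ψ : CfsgLib.Recognition.PSU34.Good ≃* Cfsg.PSU 3 F 4 :=
    g.trans ((QuotientGroup.quotientMulEquivOfEq hc).trans QuotientGroup.quotientBot).symm
  obtain ⟨H, i1, i2, hN, hp, he⟩ := CfsgLib.Recognition.PSU34.exists_large N
  refine ⟨H, i1, i2, hN, fun p h => ?_, fun p q h1 h2 h3 => ?_⟩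
  · rw [← Nat.card_congr ψ.toEquiv]; exact hp p h
  · rw [← he p q h1 h2 h3]
    exact ⟨fun ⟨x, hx⟩ => ⟨ψ.symm x, by rw [MulEquiv.orderOf_eq, hx]⟩,
      fun ⟨x, hx⟩ => ⟨ψ x, by rw [MulEquiv.orderOf_eq, hx]⟩⟩

end Cfsg.Agent.S3663
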