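import Cfsg.Statements.S3664
import Cfsg.Agent.Lib.Recognition.SzGraph.SpGraph

set_option autoImplicit false
open Cfsg

namespace Cfsg.Agent.S3664

theorem map_J {A B : Type*} [Field A] [Field B] (m : ℕ) (f : A ≃+* B) :
    (Matrix.J (Fin m) A).map f = Matrix.J (Fin m) B := by
  rw [Matrix.J, Matrix.J, Matrix.fromBlocks_map]
  congr 1 <;> ext i j <;> simp [Matrix.one_apply, apply_ite f]

/-- A field isomorphism induces one of symplectic groups. -/
def spCongr {K L : Type*} [Field K] [Field L] (m : ℕ) (e : K ≃+* L) :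
    Matrix.symplecticGroup (Fin m) K ≃* Matrix.symplecticGroup (Fin m) L :=
  { toFun := fun M => ⟨M.1.map e, by
      have h := congrArg (fun N => N.map e) (SymplecticGroup.mem_iff.1 M.2)
      rw [Matrix.map_mul, Matrix.map_mul, Matrix.transpose_map, map_J] at h
      exact SymplecticGroup.mem_iff.2 h⟩
    invFun := fun M => ⟨M.1.map e.symm, by
      have h := congrArg (fun N => N.map e.symm) (SymplecticGroup.mem_iff.1 M.2)
      rw [Matrix.map_mul, Matrix.map_mul, Matrix.transpose_map, map_J] at h
      exact SymplecticGroup.mem_iff.2 h⟩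
    left_inv := fun M => Subtype.ext (Matrix.ext fun i j => e.symm_apply_apply _)
    right_inv := fun M => Subtype.ext (Matrix.ext fun i j => e.apply_symm_apply _)
    map_mul' := fun M N => Subtype.ext Matrix.map_mul }

/-- The centre corresponds. -/
theorem map_center {K L : Type*} [Group K] [Group L] (e : K ≃* L) :
    (Subgroup.center K).map e.toMonoidHom = Subgroup.center L := by
  ext y
  obtain ⟨x, rfl⟩ := e.surjective y
  rw [Subgroup.mem_map_equiv, e.symm_apply_apply, Subgroup.mem_center_iff, Subgroup.mem_center_iff]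
  refine ⟨fun h g => ?_, fun h g => e.injective (by rw [map_mul, map_mul]; exact h _)⟩
  obtain ⟨g, rfl⟩ := e.surjective g
  rw [← map_mul, ← map_mul, h]

/-- The prime graph of a finite group has the prime divisors of its order as vertices, two distinct primes p, q being joined when the group has an element of order pq; two groups have the same prime graph when they have the same prime divisors and the same joined pairs. Let F be the field with 3 elements and L = PSp(6,F). There are finite groups of arbitrarily large order with the same prime graph as L (a prime graph shared by the orthogonal groups Ω₇(3) and PΩ⁺₈(3)). -/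
theorem result {F : Type*} [Field F] [Fintype F] (hF : Fintype.card F = 3) (N : ℕ) :
    ∃ (H : Type) (_ : Group H) (_ : Finite H), N < Nat.card H ∧
      ((∀ p : ℕ, p.Prime → (p ∣ Nat.card (Cfsg.PSp 3 F) ↔ p ∣ Nat.card H)) ∧
      (∀ p q : ℕ, p.Prime → q.Prime → p ≠ q → ((∃ g : (Cfsg.PSp 3 F), orderOf g = p * q) ↔ (∃ g : H, orderOf g = p * q)))) := by
  haveI : Fact (Nat.Prime 3) := ⟨Nat.prime_three⟩
  let e : ZMod 3 ≃+* F := ZMod.ringEquivOfPrime F Nat.prime_three hF
  let g := spCongr 3 e
  let ψ : CfsgLib.Recognition.SzGraph.Sp.P6 ≃* Cfsg.PSp 3 F :=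
    QuotientGroup.congr _ _ g (map_center g)
  obtain ⟨H, i1, i2, hN, hp, he⟩ := CfsgLib.Recognition.SzGraph.exists_large N
  refine ⟨H, i1, i2, hN, fun p h => ?_, fun p q h1 h2 h3 => ?_⟩
  · rw [← Nat.card_congr ψ.toEquiv, hp p h]
    exact CfsgLib.Recognition.SzGraph.Sp.primes_P6 h
  · rw [he p q h1 h2 h3, ← CfsgLib.Recognition.SzGraph.Sp.edge_P6 h1 h2 h3]
    exact ⟨fun ⟨x, hx⟩ => ⟨ψ.symm x, by rw [MulEquiv.orderOf_eq, hx]⟩,
      fun ⟨x, hx⟩ => ⟨ψ x, by rw [MulEquiv.orderOf_eq, hx]⟩⟩

end Cfsg.Agent.S3664
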