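import Cfsg.Statements.S3668
import Cfsg.Agent.Lib.Small.GraphSixty
import Cfsg.Agent.Lib.Small.Order5616Plane
import Cfsg.Agent.Lib.Small.Order168
import Cfsg.Agent.Lib.OrderElim.A6Line
import Cfsg.Agent.S0494
import Cfsg.Agent.S1020

set_option autoImplicit false
open Cfsg

namespace Cfsg.Agent.S3668

open CfsgLib.Small CfsgLib.Palfy80

universe u v

/-- Simple groups of the same order below 6000 are isomorphic. -/
theorem same_order {G : Type u} [Group G] [Finite G] [IsSimpleGroup G] {S : Type v} [Group S]
    [Finite S] [IsSimpleGroup S] (hG : Nat.card G = Nat.card S)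
    (hmem : Nat.card S ∈ ([60, 168, 360, 504, 660, 1092, 2448, 2520, 3420, 4080, 5616] : List ℕ)) :
    Nonempty (G ≃* S) := by
  haveI : Fact (Nat.Prime 2) := ⟨Nat.prime_two⟩
  have : Fact (Nat.Prime 7) := ⟨by norm_num⟩
  have : Fact (Nat.Prime 11) := ⟨by norm_num⟩
  have : Fact (Nat.Prime 13) := ⟨by norm_num⟩
  have : Fact (Nat.Prime 17) := ⟨by norm_num⟩
  have : Fact (Nat.Prime 19) := ⟨by norm_num⟩
  simp only [List.mem_cons, List.not_mem_nil, or_false] at hmem
  have both : ∀ {K : Type} [Group K], Nonempty (G ≃* K) → Nonempty (S ≃* K) →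
      Nonempty (G ≃* S) := fun ⟨e⟩ ⟨e'⟩ => ⟨e.trans e'.symm⟩
  rcases hmem with h | h | h | h | h | h | h | h | h | h | h <;> have g := hG.trans h
  · exact both (Cfsg.Agent.S0494.result g) (Cfsg.Agent.S0494.result h)
  · exact both (Order168.nonempty_mulEquiv_psl_seven g) (Order168.nonempty_mulEquiv_psl_seven h)
  · exact both (CfsgLib.OrderElim.A6.nonempty_mulEquiv_alternating_six g)
      (CfsgLib.OrderElim.A6.nonempty_mulEquiv_alternating_six h)
  · let F := GaloisField 2 3
    have : Fintype F := Fintype.ofFinite _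
    have hF : Fintype.card F = 8 := by
      rw [← Nat.card_eq_fintype_card, GaloisField.card 2 3 (by norm_num)]
      norm_num
    exact both (Cfsg.Agent.S1011.result g hF) (Cfsg.Agent.S1011.result h hF)
  · exact both (Cfsg.Agent.S0498.result 11 (Or.inl rfl) (by rw [g]; norm_num) (ZMod.card 11))
      (Cfsg.Agent.S0498.result 11 (Or.inl rfl) (by rw [h]; norm_num) (ZMod.card 11))
  · exact both (Cfsg.Agent.S0498.result 13 (Or.inr rfl) (by rw [g]; norm_num) (ZMod.card 13))
      (Cfsg.Agent.S0498.result 13 (Or.inr rfl) (by rw [h]; norm_num) (ZMod.card 13))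
  · exact both (Cfsg.Agent.S1020.result g (ZMod.card 17)) (Cfsg.Agent.S1020.result h (ZMod.card 17))
  · exact both (Cfsg.Agent.S0984.result g) (Cfsg.Agent.S0984.result h)
  · exact both (Cfsg.Agent.S1021.result g (ZMod.card 19)) (Cfsg.Agent.S1021.result h (ZMod.card 19))
  · let F := GaloisField 2 4
    have : Fintype F := Fintype.ofFinite _
    have hF : Fintype.card F = 16 := by
      rw [← Nat.card_eq_fintype_card, GaloisField.card 2 4 (by norm_num)]
      norm_num
    exact both (Cfsg.Agent.S0981.result g hF) (Cfsg.Agent.S0981.result h hF)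
  · exact Order5616.nonempty_mulEquiv g h

/-- The primes of 5616. -/
theorem primes_5616 {d : ℕ} (hd : d ∈ Nat.divisors 5616) (hp : d.Prime) :
    d = 2 ∨ d = 3 ∨ d = 13 := by
  have h : d ∣ 2 ^ 4 * 3 ^ 3 * 13 := by
    have := Nat.dvd_of_mem_divisors hd
    norm_num
    exact this
  rcases hp.dvd_mul.mp h with h | h
  · rcases hp.dvd_mul.mp h with h | h
    · exact Or.inl ((Nat.prime_dvd_prime_iff_eq hp Nat.prime_two).mp (hp.dvd_of_dvd_pow h))
    · exact Or.inr (Or.inl ((Nat.prime_dvd_prime_iff_eq hp Nat.prime_three).mp (hp.dvd_of_dvd_pow h)))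
  · exact Or.inr (Or.inr ((Nat.prime_dvd_prime_iff_eq hp (by norm_num)).mp h))

/-- Divisibility of degrees by a product of two primes is read off the graph. -/
theorem degDvd_iff {X : Type u} [Group X] {p q : ℕ} (hp : p.Prime) (hq : q.Prime) (hpq : p ≠ q) :
    DegDvd (p * q) X ↔ (Cfsg.degreeGraph X).Adj p q := by
  constructor
  · rintro ⟨χ, hχ⟩
    exact ⟨hpq, hp, hq, _, ⟨χ, rfl⟩, hχ⟩
  · rintro ⟨-, -, -, _, ⟨χ, rfl⟩, hχ⟩
    exact ⟨χ, hχ⟩

/-- The character degree graph of a finite group has as vertices the primes dividing some irreducible complex character degree, two distinct primes being joined when their product divides some irreducible character degree; two groups have the same character degree graph when they have the same vertices and the same joined pairs. Let S be a finite non-abelian simple group of order less than 6000. If a finite group G has the same order as S and the same character degree graph as S, then G is isomorphic to S. -/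
theorem result {S : Type*} [Group S] [Finite S] [IsSimpleGroup S] (hS : ¬ IsMulCommutative S)
    (hlt : Nat.card S < 6000) {G : Type*} [Group G] [Finite G] (hcard : Nat.card G = Nat.card S) (hΓ : Cfsg.degreePrimes G = Cfsg.degreePrimes S ∧ Cfsg.degreeGraph G = Cfsg.degreeGraph S) :
    Nonempty (G ≃* S) := by
  have hmem := Low.card_mem hS hlt
  by_cases hs : IsSimpleGroup G
  · exact same_order hcard hmem
  exfalso
  obtain ⟨hP, hE⟩ := hΓ
  have mem : ∀ {p : ℕ}, p ∈ Cfsg.degreePrimes S → p ∈ Cfsg.degreePrimes G := fun hp => hP ▸ hp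
  have adj : ∀ {p q : ℕ}, p.Prime → q.Prime → p ≠ q → (DegDvd (p * q) G ↔ DegDvd (p * q) S) := by
    intro p q hp hq hpq
    rw [degDvd_iff hp hq hpq, degDvd_iff hp hq hpq, hE]
  have n2 := Nat.prime_two
  have n3 := Nat.prime_three
  have n5 : Nat.Prime 5 := by norm_num
  have n7 : Nat.Prime 7 := by norm_num
  have n13 : Nat.Prime 13 := by norm_num
  simp only [List.mem_cons, List.not_mem_nil, or_false] at hmem
  rcases hmem with h | h | h | h | h | h | h | h | h | h | h <;> have g := hcard.trans h
  · exact GraphTools.not_mem_60 g hs (mem (SimpleDegrees.mem_of_three h (by norm_num) n2 n3 n5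
      (by decide +kernel)))
  · rcases GraphTools.not_mem_168 g hs with h1 | h1
    · exact h1 (mem (SimpleDegrees.mem_of_three h (by norm_num) n2 n3 n7 (by decide +kernel)))
    · exact h1 (mem (SimpleDegrees.mem_of_three h (by norm_num) n3 n7 n2 (by decide +kernel)))
  · have : Fact (Nat.Prime 5) := ⟨n5⟩
    obtain ⟨h10, h6⟩ := SimpleDegrees.graph_360 (S := S) h
    exact GraphTools.false_of_360 g hs
      (mem (SimpleDegrees.mem_of_three h (by norm_num) n2 n3 n5 (by decide +kernel)))
      ((adj n2 n5 (by norm_num)).mpr h10) fun h' => h6 ((adj n2 n3 (by norm_num)).mp h')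
  · rcases GraphTools.not_mem_504 g hs (fun H _ _ _ hH => SimpleDegrees.degrees_168 hH)
      with h1 | h1 | h1
    · exact h1 (mem (SimpleDegrees.mem_of_three h (by norm_num) n2 n3 n7 (by decide +kernel)))
    · exact h1 (mem (SimpleDegrees.mem_of_three h (by norm_num) n3 n7 n2 (by decide +kernel)))
    · exact SimpleDegrees.not_six_504 (S := S) h ((adj n2 n3 (by norm_num)).mp h1)
  · exact GraphTools.not_mem_660 g hs (mem (SimpleDegrees.mem_660 h))
  · exact GraphTools.not_mem_1092 g hs (mem (SimpleDegrees.mem_1092 h))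
  · have n17 : Nat.Prime 17 := by norm_num
    exact GraphTools.not_mem_2448 g hs (mem (SimpleDegrees.mem_of_three h (by norm_num) n2 n3 n17
      (by decide +kernel)))
  · rcases GraphTools.not_mem_2520 g hs with h1 | h1
    · exact h1 (mem (SimpleDegrees.mem_2520 h).1)
    · exact h1 (mem (SimpleDegrees.mem_2520 h).2)
  · exact GraphTools.not_mem_3420 g hs (mem (SimpleDegrees.mem_3420 h))
  · exact GraphTools.not_mem_4080 g hs (mem (SimpleDegrees.mem_4080 h))
  · rcases GraphTools.not_mem_5616 g hs with h1 | h1
    · exact h1 (mem (SimpleDegrees.mem_of_three h (by norm_num) n2 n3 n13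
      fun d hd hp => primes_5616 hd hp))
    · exact h1 (mem (SimpleDegrees.mem_of_three h (by norm_num) n2 n13 n3
      fun d hd hp => (primes_5616 hd hp).imp_right Or.symm))

end Cfsg.Agent.S3668
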