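import Cfsg.Statements.S3669
import Cfsg.Agent.Lib.Characters.Basic
import Cfsg.Agent.Lib.Characters.Scalar
import Cfsg.Agent.Lib.Characters.Decomp
import Cfsg.Agent.Lib.Recognition.OrderSixtyFive
import Cfsg.Agent.Lib.Recognition.AltFiveClasses

set_option autoImplicit false
open Cfsg

namespace Cfsg.Agent.S3669

theorem four_squares : ∀ a b c d : Fin 8, 1 ≤ a → 1 ≤ b → 1 ≤ c → 1 ≤ d →
    a.val ^ 2 + b.val ^ 2 + c.val ^ 2 + d.val ^ 2 = 59 → a = 5 ∨ b = 5 ∨ c = 5 ∨ d = 5 := by
  decide +kernel

theorem charDegree_eq {G : Type*} [Group G] (χ : G → ℂ) {n : ℕ} (h : χ 1 = n) :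
    charDegree χ = n := by
  unfold charDegree
  rw [h]
  simp

/-- The alternating group of degree five has an irreducible character of degree five. -/
theorem alt_five_degree : ∃ χ : IrrCharacter (alternatingGroup (Fin 5)),
    charDegree (χ : alternatingGroup (Fin 5) → ℂ) = 5 := by
  classical
  let := Fintype.ofFinite (IrrCharacter (alternatingGroup (Fin 5)))
  choose d hd0 hd using fun χ : IrrCharacter (alternatingGroup (Fin 5)) =>
    CfsgLib.Characters.irr_exists_degree χ.2
  have h60 : Nat.card (alternatingGroup (Fin 5)) = 60 := by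
    rw [nat_card_alternatingGroup, Nat.card_fin]; rfl
  have hsum : ∑ χ, d χ ^ 2 = 60 := by
    have h : ∑ χ : IrrCharacter (alternatingGroup (Fin 5)), (χ : alternatingGroup (Fin 5) → ℂ) 1 ^ 2 =
        (Nat.card (alternatingGroup (Fin 5)) : ℂ) := by
      convert CfsgLib.Characters.sum_sq_degrees (G := alternatingGroup (Fin 5))
    rw [h60] at h
    simp only [hd] at h
    exact_mod_cast h
  set χ₁ := CfsgLib.Characters.principalIrr (alternatingGroup (Fin 5))
  have h1 : d χ₁ = 1 := by
    have := hd χ₁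
    exact (Nat.cast_eq_one.1 this.symm)
  set s := (Finset.univ : Finset (IrrCharacter (alternatingGroup (Fin 5)))).erase χ₁ with hs
  have hcard : s.card = 4 := by
    rw [hs, Finset.card_erase_of_mem (Finset.mem_univ _), Finset.card_univ,
      ← Nat.card_eq_fintype_card, CfsgLib.Characters.card_irr_eq_card_conjClasses,
      CfsgLib.Recognition.AltFive.card_conjClasses]
  have h59 : ∑ χ ∈ s, d χ ^ 2 = 59 := by
    rw [← Finset.add_sum_erase _ _ (Finset.mem_univ χ₁), h1] at hsum
    rw [hs]
    omega
  let e := (Finset.equivFinOfCardEq hcard).symm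
  have hsum4 : ∑ i : Fin 4, d (e i).1 ^ 2 = 59 := by
    rw [← h59, ← Finset.sum_coe_sort s]
    exact Fintype.sum_equiv e _ _ (fun _ => rfl)
  have hlt : ∀ i : Fin 4, d (e i).1 < 8 := by
    intro i
    have : d (e i).1 ^ 2 ≤ 59 :=
      hsum4 ▸ Finset.single_le_sum (f := fun i => d (e i).1 ^ 2) (fun _ _ => Nat.zero_le _)
        (Finset.mem_univ i)
    by_contra h
    have := Nat.pow_le_pow_left (not_lt.1 h) 2
    omega
  rw [Fin.sum_univ_four] at hsum4
  rcases four_squares ⟨_, hlt 0⟩ ⟨_, hlt 1⟩ ⟨_, hlt 2⟩ ⟨_, hlt 3⟩ (hd0 _) (hd0 _) (hd0 _) (hd0 _)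
    hsum4 with h | h | h | h <;>
  exact ⟨_, (charDegree_eq _ (hd _)).trans (congrArg Fin.val h)⟩

/-- An irreducible representation of degree five of a group of order 60 rules out a normal
subgroup of order five. -/
theorem no_normal_five {G : Type*} [Group G] [Finite G] (hG : Nat.card G = 60)
    (ρ : Representation ℂ G (Fin 5 → ℂ)) (hρ : ρ.IsIrreducible)
    (P : Subgroup G) [hPn : P.Normal] (hP : Nat.card P = 5) : False := by
  classical
  have := hρ
  have : Fact (Nat.Prime 5) := ⟨by norm_num⟩
  let := Fintype.ofFinite P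
  have hidx : P.index = 12 := by
    have := P.card_mul_index
    rw [hP, hG] at this
    omega
  obtain ⟨g', hg'⟩ := exists_prime_orderOf_dvd_card' (G := P) 5 (dvd_of_eq hP.symm)
  set g : G := g'.1 with hgdef
  have hgord : orderOf g = 5 := by rw [hgdef, Subgroup.orderOf_coe, hg']
  have hPz : P = Subgroup.zpowers g :=
    CfsgLib.Small.eq_zpowers_of_mem hP g'.2 (fun e => by
      rw [show g = 1 from e, orderOf_one] at hgord; norm_num at hgord)
  have hg5 : g ^ 5 = 1 := hgord ▸ pow_orderOf_eq_one g
  have hnat : ∀ z ∈ P, ∃ k : ℕ, k < 5 ∧ g ^ k = z := by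
    intro z hz
    rw [hPz, mem_zpowers_iff_mem_range_orderOf, hgord] at hz
    simpa using hz
  have hscal : (∀ z ∈ P, ∃ c : ℂ, ρ z = c • (1 : Module.End ℂ (Fin 5 → ℂ))) → False := by
    intro h
    have hd := CfsgLib.CharScalar.finrank_dvd_index ρ P h
    rw [Module.finrank_fin_fun, hidx] at hd
    norm_num at hd
  -- the sum over P vanishes
  let S : Module.End ℂ (Fin 5 → ℂ) := ∑ z : P, ρ z.1
  have hScomm : ∀ h, S * ρ h = ρ h * S := by
    intro h
    simp only [S, Finset.sum_mul, Finset.mul_sum, ← map_mul]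
    refine Fintype.sum_equiv (MulAut.conjNormal (H := P) h⁻¹).toEquiv _ _ (fun z => ?_)
    congr 1
    show z.1 * h = h * ((MulAut.conjNormal h⁻¹ z : P) : G)
    rw [MulAut.conjNormal_apply]
    group
  obtain ⟨c, hc⟩ := CfsgLib.CharScalar.exists_scalar ρ S hScomm
  have hgS : ρ g * S = S := by
    simp only [S, Finset.mul_sum, ← map_mul]
    exact Fintype.sum_equiv (Equiv.mulLeft g') _ _ (fun z => rfl)
  have hc0 : c = 0 := by
    by_contra hc0
    rw [hc, mul_smul_comm, mul_one] at hgS
    have hg1 : ρ g = 1 := smul_right_injective _ hc0 hgS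
    refine hscal (fun z hz => ⟨1, ?_⟩)
    obtain ⟨k, -, rfl⟩ := hnat z hz
    rw [map_pow, hg1, one_pow, one_smul]
  have hsum : ∑ k ∈ Finset.range 5, ρ.character (g ^ k) = 0 := by
    have h0 : LinearMap.trace ℂ (Fin 5 → ℂ) S = 0 := by rw [hc, hc0, zero_smul, map_zero]
    rw [← h0]
    simp only [S, map_sum]
    show _ = ∑ z : P, ρ.character z.1
    symm
    refine Finset.sum_bij' (fun z _ => (Classical.choose (hnat z.1 z.2)))
      (fun k _ => (⟨g ^ k, P.pow_mem g'.2 k⟩ : P)) ?_ (fun _ _ => Finset.mem_univ _) ?_ ?_ ?_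
    · intro z _
      exact Finset.mem_range.2 (Classical.choose_spec (hnat z.1 z.2)).1
    · intro z _
      exact Subtype.ext (Classical.choose_spec (hnat z.1 z.2)).2
    · intro k hk
      have h := Classical.choose_spec (hnat (g ^ k) (P.pow_mem g'.2 k))
      exact pow_injOn_Iio_orderOf (Set.mem_Iio.2 (hgord.symm ▸ h.1))
        (Set.mem_Iio.2 (hgord.symm ▸ Finset.mem_range.1 hk)) h.2
    · intro z _
      show ρ.character z.1 = ρ.character (g ^ _)
      rw [(Classical.choose_spec (hnat z.1 z.2)).2]
  -- either g is central or it is conjugate to its inverse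
  by_cases hcen : g ∈ Subgroup.center G
  · obtain ⟨c, hc⟩ := CfsgLib.CharScalar.center_scalar ρ hcen
    refine hscal (fun z hz => ?_)
    obtain ⟨k, -, rfl⟩ := hnat z hz
    exact ⟨c ^ k, by rw [map_pow, hc, smul_pow, one_pow]⟩
  rw [Subgroup.mem_center_iff] at hcen
  push Not at hcen
  obtain ⟨h, hh⟩ := hcen
  obtain ⟨j, hj5, hj⟩ := hnat _ (hPn.conj_mem g g'.2 h)
  have hinv : ∃ y : G, y * g * y⁻¹ = g ^ 4 := by
    interval_cases j
    · rw [pow_zero, eq_comm, conj_eq_one_iff] at hj
      rw [hj, orderOf_one] at hgord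
      norm_num at hgord
    · rw [pow_one, eq_comm, mul_inv_eq_iff_eq_mul] at hj
      exact absurd hj hh
    · refine ⟨h * h, ?_⟩
      rw [show h * h * g * (h * h)⁻¹ = h * (h * g * h⁻¹) * h⁻¹ by group, ← hj, ← conj_pow, ← hj,
        ← pow_mul]
    · refine ⟨h * h, ?_⟩
      rw [show h * h * g * (h * h)⁻¹ = h * (h * g * h⁻¹) * h⁻¹ by group, ← hj, ← conj_pow, ← hj,
        ← pow_mul, show 3 * 3 = 5 + 4 from rfl, pow_add, hg5, one_mul]
    · exact ⟨h, hj.symm⟩
  obtain ⟨y, hy⟩ := hinv
  have e4 : ρ.character (g ^ 4) = ρ.character g := by rw [← hy, Representation.char_conj]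
  have e3 : ρ.character (g ^ 3) = ρ.character (g ^ 2) := by
    have : g ^ 3 = y * g ^ 2 * y⁻¹ := by
      rw [← conj_pow, hy, ← pow_mul, show 4 * 2 = 5 + 3 from rfl, pow_add, hg5, one_mul]
    rw [this, Representation.char_conj]
  rw [Finset.sum_range_succ, Finset.sum_range_succ, Finset.sum_range_succ, Finset.sum_range_succ,
    Finset.sum_range_succ, Finset.sum_range_zero, pow_zero, pow_one, Representation.char_one,
    Module.finrank_fin_fun, e3, e4, zero_add] at hsum
  have hint : IsIntegral ℤ (((5 : ℕ) : ℂ) / ((2 : ℕ) : ℂ)) := by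
    have h2 : ((5 : ℕ) : ℂ) / ((2 : ℕ) : ℂ) = -(ρ.character g + ρ.character (g ^ 2)) := by
      push_cast
      push_cast at hsum
      linear_combination (1 / 2 : ℂ) * hsum
    rw [h2]
    exact ((CfsgLib.CharScalar.isIntegral_character ρ g).add
      (CfsgLib.CharScalar.isIntegral_character ρ (g ^ 2))).neg
  have := CfsgLib.CharScalar.dvd_of_isIntegral_div (by norm_num) hint
  norm_num at this

/-- The character degree graph of a finite group has as vertices the primes dividing some irreducible complex character degree, two distinct primes being joined when their product divides some irreducible character degree; two groups have the same character degree graph when they have the same vertices and the same joined pairs. A finite group of order 60 with the same character degree graph as the alternating group A₅ (whose character degrees are 1, 3, 4, 5, so the graph has vertices 2, 3, 5 and no edges) is isomorphic to A₅. -/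
theorem result {G : Type*} [Group G] [Finite G] (hcard : Nat.card G = 60)
    (hΓ : Cfsg.degreePrimes G = Cfsg.degreePrimes (alternatingGroup (Fin 5)) ∧ Cfsg.degreeGraph G = Cfsg.degreeGraph (alternatingGroup (Fin 5))) : Nonempty (G ≃* alternatingGroup (Fin 5)) := by
  classical
  have h5 : Fact (Nat.Prime 5) := ⟨by norm_num⟩
  have hmem : 5 ∈ Cfsg.degreePrimes G := by
    rw [hΓ.1]
    obtain ⟨χ, hχ⟩ := alt_five_degree
    exact ⟨h5.out, 5, ⟨χ, hχ⟩, dvd_rfl⟩
  obtain ⟨-, d, ⟨⟨χ, n, ρ, hρ, rfl⟩, rfl⟩, hd⟩ := hmem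
  have hn : charDegree ρ.character = n := charDegree_eq _ (by simp)
  change 5 ∣ charDegree ρ.character at hd
  rw [hn] at hd
  -- the degree is five
  have hn5 : n = 5 := by
    let := Fintype.ofFinite G
    let := Fintype.ofFinite (IrrCharacter G)
    have hsq : n ^ 2 ≤ 60 := by
      choose d hd0 hd using fun χ : IrrCharacter G => CfsgLib.Characters.irr_exists_degree χ.2
      have hs : ∑ χ, d χ ^ 2 = 60 := by
        have h : ∑ χ : IrrCharacter G, (χ : G → ℂ) 1 ^ 2 = (Nat.card G : ℂ) := by
          convert CfsgLib.Characters.sum_sq_degrees (G := G)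
        rw [hcard] at h
        simp only [hd] at h
        exact_mod_cast h
      let χ₀ : IrrCharacter G := ⟨ρ.character, n, ρ, hρ, rfl⟩
      have hχ₀ : d χ₀ = n := by
        have := hd χ₀
        rw [show (χ₀ : G → ℂ) 1 = ρ.character 1 from rfl, Representation.char_one,
          Module.finrank_fin_fun] at this
        exact_mod_cast this.symm
      rw [← hχ₀, ← hs]
      exact Finset.single_le_sum (f := fun χ => d χ ^ 2) (fun _ _ => Nat.zero_le _) (Finset.mem_univ χ₀)
    have hpos : n ≠ 0 := by
      rintro rfl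
      have := CfsgLib.CharScalar.finrank_pos ρ
      simp at this
    obtain ⟨k, rfl⟩ := hd
    have : k < 2 := by
      by_contra hk
      have := Nat.pow_le_pow_left (Nat.mul_le_mul_left 5 (not_lt.1 hk)) 2
      omega
    interval_cases k <;> omega
  subst hn5
  obtain ⟨P⟩ := (inferInstance : Nonempty (Sylow 5 G))
  have hP : Nat.card P = 5 := by
    simpa using CfsgLib.Small.card_sylow_of_card_eq (k := 1) (m := 12) (by rw [hcard]; rfl) (by norm_num) P
  have hd12 : Nat.card (Sylow 5 G) ∣ 12 := by
    rw [← CfsgLib.Small.index_sylow_of_card_eq (k := 1) (m := 12) (by rw [hcard]; rfl) (by norm_num) P]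
    exact P.card_dvd_index
  have hm : Nat.card (Sylow 5 G) % 5 = 1 := card_sylow_modEq_one 5 G
  have hne : Nat.card (Sylow 5 G) ≠ 1 := fun h1 => by
    have : Subsingleton (Sylow 5 G) := (Nat.card_eq_one_iff_unique.1 h1).1
    have : (P : Subgroup G).Normal := Sylow.normal_of_subsingleton P
    exact no_normal_five hcard ρ hρ (P : Subgroup G) hP
  refine CfsgLib.Recognition.OrderSixty.nonempty_mulEquiv_alternating_five hcard ?_
  have := Nat.le_of_dvd (by norm_num) hd12
  interval_cases h : Nat.card (Sylow 5 G) <;> omega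

end Cfsg.Agent.S3669
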