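import Cfsg.Statements.S3670
import Cfsg.Agent.Lib.Recognition.PSU33.Degrees
import Cfsg.Agent.Lib.Recognition.PSU33.Instance
import Cfsg.Agent.Lib.Recognition.PSU33.Solvable

set_option autoImplicit false
open Cfsg

namespace Cfsg.Agent.S3670

theorem charDegree_of_eq {G : Type*} [Group G] (χ : G → ℂ) (d : ℕ) (h : χ 1 = d) :
    Cfsg.charDegree χ = d := by
  simp [Cfsg.charDegree, h]

theorem degree_dvd {G : Type*} [Group G] [Finite G] (hG : Nat.card G = 6048) {d : ℕ}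
    (hd : d ∈ Cfsg.charDegrees G) : d ∣ 6048 := by
  obtain ⟨χ, rfl⟩ := hd
  obtain ⟨n, hn, -, hdvd⟩ := CfsgLib.Characters.irr_degree_dvd_card χ
  rw [charDegree_of_eq _ n hn, ← hG]
  exact hdvd

theorem prime_cases {p : ℕ} (hp : p.Prime) (h : p ∣ 6048) : p = 2 ∨ p = 3 ∨ p = 7 := by
  rw [show (6048 : ℕ) = 2 ^ 5 * (3 ^ 3 * 7) by norm_num] at h
  rcases hp.dvd_mul.1 h with h | h
  · exact Or.inl ((Nat.prime_dvd_prime_iff_eq hp Nat.prime_two).1 (hp.dvd_of_dvd_pow h))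
  rcases hp.dvd_mul.1 h with h | h
  · exact Or.inr (Or.inl ((Nat.prime_dvd_prime_iff_eq hp Nat.prime_three).1 (hp.dvd_of_dvd_pow h)))
  · exact Or.inr (Or.inr ((Nat.prime_dvd_prime_iff_eq hp (by norm_num)).1 h))

theorem graph_of_degrees {G : Type*} [Group G] [Finite G] (hG : Nat.card G = 6048)
    (h6 : ∃ d ∈ Cfsg.charDegrees G, 6 ∣ d) (h14 : ∃ d ∈ Cfsg.charDegrees G, 14 ∣ d)
    (h21 : ∃ d ∈ Cfsg.charDegrees G, 21 ∣ d) :
    Cfsg.degreePrimes G = {p | p.Prime ∧ p ∣ 6048} ∧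
      ∀ p q, (Cfsg.degreeGraph G).Adj p q ↔
        (p ≠ q ∧ p.Prime ∧ q.Prime ∧ p ∣ 6048 ∧ q ∣ 6048) := by
  obtain ⟨a, ha, a6⟩ := h6
  obtain ⟨b, hb, b14⟩ := h14
  obtain ⟨c, hc, c21⟩ := h21
  refine ⟨Set.ext fun p => ⟨fun h => ?_, fun h => ?_⟩, fun p q => ⟨fun h => ?_, fun h => ?_⟩⟩
  · obtain ⟨hp, d, hd, hpd⟩ := h
    exact ⟨hp, hpd.trans (degree_dvd hG hd)⟩
  · refine ⟨h.1, ?_⟩
    rcases prime_cases h.1 h.2 with rfl | rfl | rfl
    · exact ⟨a, ha, dvd_trans (by norm_num) a6⟩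
    · exact ⟨a, ha, dvd_trans (by norm_num) a6⟩
    · exact ⟨b, hb, dvd_trans (by norm_num) b14⟩
  · obtain ⟨hne, hp, hq, d, hd, hpq⟩ := h
    have := degree_dvd hG hd
    exact ⟨hne, hp, hq, (dvd_mul_right p q).trans (hpq.trans this),
      (dvd_mul_left q p).trans (hpq.trans this)⟩
  · obtain ⟨hne, hp, hq, hp', hq'⟩ := h
    refine ⟨hne, hp, hq, ?_⟩
    rcases prime_cases hp hp' with rfl | rfl | rfl <;> rcases prime_cases hq hq' with rfl | rfl | rfl <;>
      first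
        | exact absurd rfl hne
        | exact ⟨a, ha, by simpa using a6⟩
        | exact ⟨b, hb, by simpa using b14⟩
        | exact ⟨c, hc, by simpa using c21⟩

/-- The character degree graph of a finite group has as vertices the primes dividing some irreducible complex character degree, two distinct primes being joined when their product divides some irreducible character degree; two groups have the same character degree graph when they have the same vertices and the same joined pairs. Let F be the field with 9 elements and L = PSU(3,3) realised over F (order 6048). There is a finite solvable group of order 6048 with the same character degree graph as L; so L is not determined by its order together with its character degree graph. -/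
theorem result {F : Type*} [Field F] [Fintype F] (hF : Fintype.card F = 9) :
    ∃ (H : Type) (_ : Group H) (_ : Fintype H), Group.IsSolvable H ∧ Nat.card H = 6048 ∧ Cfsg.degreePrimes H = Cfsg.degreePrimes (Cfsg.PSU 3 F 3) ∧ Cfsg.degreeGraph H = Cfsg.degreeGraph (Cfsg.PSU 3 F 3) := by
  classical
  haveI : Fact (Nat.Prime 3) := ⟨Nat.prime_three⟩
  haveI : CharP F 3 := charP_of_card_eq_prime_pow (f := 2) (by norm_num [hF])
  obtain ⟨φ, hφ⟩ := CfsgLib.Recog.SU33.exists_hom hF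
  let D := CfsgLib.Recognition.PSU33.dataSU hF φ hφ.1
  let e := CfsgLib.Recognition.PSU33.psuEquivSU (F := F) φ
  haveI : Finite (Cfsg.SU 3 F 3) := D.finite
  haveI : Fintype (Cfsg.SU 3 F 3) := Fintype.ofFinite _
  haveI : Finite (Cfsg.PSU 3 F 3) := Finite.of_equiv _ e.symm.toEquiv
  have hmove : ∀ (χ : Cfsg.IrrCharacter (Cfsg.SU 3 F 3)) (d : ℕ), (χ : Cfsg.SU 3 F 3 → ℂ) 1 = d →
      d ∈ Cfsg.charDegrees (Cfsg.PSU 3 F 3) := fun χ d hd =>
    ⟨⟨_, CfsgLib.BrauerPerm.isIrrCharacter_comp_equiv χ.2 e⟩,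
      charDegree_of_eq _ d ((congrArg (χ : Cfsg.SU 3 F 3 → ℂ) (map_one e)).trans hd)⟩
  obtain ⟨⟨χ1, d1, h1, k1⟩, ⟨χ2, d2, h2, k2⟩, ⟨χ3, d3, h3, k3⟩⟩ := D.degrees
  obtain ⟨hP, hA⟩ := graph_of_degrees (G := Cfsg.PSU 3 F 3)
    (by rw [Nat.card_congr e.toEquiv]; exact CfsgLib.Recognition.PSU33.card_SU33 hF)
    ⟨d1, hmove χ1 d1 h1, k1⟩ ⟨d2, hmove χ2 d2 h2, k2⟩ ⟨d3, hmove χ3 d3 h3, k3⟩
  obtain ⟨χ, hχ⟩ := CfsgLib.Recognition.PSU33.exists_irr_HS
  have h42 : 42 ∈ Cfsg.charDegrees CfsgLib.Recognition.PSU33.HS :=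
    ⟨χ, charDegree_of_eq _ 42 (by rw [hχ]; norm_num)⟩
  obtain ⟨hP', hA'⟩ := graph_of_degrees (G := CfsgLib.Recognition.PSU33.HS)
    CfsgLib.Recognition.PSU33.card_HS ⟨42, h42, by norm_num⟩ ⟨42, h42, by norm_num⟩ ⟨42, h42, by norm_num⟩
  refine ⟨CfsgLib.Recognition.PSU33.HS, inferInstance, inferInstance,
    CfsgLib.Recognition.PSU33.isSolvable_HS, CfsgLib.Recognition.PSU33.card_HS, hP'.trans hP.symm, ?_⟩
  refine SimpleGraph.ext ?_
  funext p q
  exact propext ((hA' p q).trans (hA p q).symm)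

end Cfsg.Agent.S3670
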