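import Cfsg.Statements.S3678
import Cfsg.Agent.Lib.Recognition.AffineEvenSL2
import Cfsg.Agent.Lib.Recognition.GraphTwoThreeSeven

set_option autoImplicit false
open Cfsg

namespace Cfsg.Agent.S3678

/-- The prime graph of a finite group has the prime divisors of its order as vertices, two distinct primes p, q being joined when the group has an element of order pq; two groups have the same prime graph when they have the same prime divisors and the same joined pairs. Let F be the field with 7 elements. There are finite groups of arbitrarily large order with the same prime graph as PSL(2,F) (the graph on {2, 3, 7} with no edges, which is also the prime graph of PSL(2,8)). -/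
theorem result {F : Type*} [Field F] [Fintype F] (hF : Fintype.card F = 7) (N : ℕ) :
    ∃ (H : Type) (_ : Group H) (_ : Finite H), N < Nat.card H ∧
      ((∀ p : ℕ, p.Prime → (p ∣ Nat.card (Matrix.ProjectiveSpecialLinearGroup (Fin 2) F) ↔ p ∣ Nat.card H)) ∧
      (∀ p q : ℕ, p.Prime → q.Prime → p ≠ q → ((∃ g : (Matrix.ProjectiveSpecialLinearGroup (Fin 2) F), orderOf g = p * q) ↔ (∃ g : H, orderOf g = p * q)))) := by
  classical
  have : Fact (Nat.Prime 2) := ⟨Nat.prime_two⟩
  let K := GaloisField 2 3
  let : Fintype K := Fintype.ofFinite K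
  have hK : Fintype.card K = 8 := by
    rw [← Nat.card_eq_fintype_card, GaloisField.card 2 3 (by norm_num)]
    norm_num
  obtain ⟨H, iG, iF, hN, hπ, hedge⟩ :=
    CfsgLib.Recognition.AffineEven.exists_large_same_primeGraph (F := K) N
  obtain ⟨h1, h2⟩ := CfsgLib.Recognition.TwoThreeSeven.IsEmpty237.primeGraph
    (CfsgLib.Recognition.TwoThreeSeven.psl2_seven hF) (CfsgLib.Recognition.TwoThreeSeven.sl2_eight hK)
  exact ⟨H, iG, iF, hN, fun p hp => (h1 p hp).trans (hπ p hp),
    fun p q hp hq hpq => (h2 p q hp hq hpq).trans (hedge p q hp hq hpq)⟩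

end Cfsg.Agent.S3678
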