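import Cfsg.Statements.S3680
import Cfsg.Agent.Lib.Structure.MinimalNormal
import Cfsg.Agent.Lib.Recognition.PowerOfSimple
import Cfsg.Agent.Lib.Recog.Isospectral

set_option autoImplicit false
open Cfsg MulAction

namespace Cfsg.Agent.S3680

open CfsgLib.Structure

variable {G Ω : Type*} [Group G] [MulAction G Ω] [FaithfulSMul G Ω]

/-- An element centralizing a transitive subgroup and fixing a point is trivial. -/
theorem eq_one_of_centralizes {A : Subgroup G} (hA : IsPretransitive A Ω) {c : G}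
    (hc : c ∈ Subgroup.centralizer (A : Set G)) {ω : Ω} (h : c • ω = ω) : c = 1 := by
  apply FaithfulSMul.eq_of_smul_eq_smul (α := Ω)
  intro z
  obtain ⟨a, rfl⟩ := exists_smul_eq A ω z
  show c • ((a : G) • ω) = (1 : G) • ((a : G) • ω)
  rw [one_smul, smul_smul, ← Subgroup.mem_centralizer_iff.1 hc a a.2, mul_smul, h]

/-- The centralizer of a transitive subgroup containing a transitive subgroup `B` is `B`. -/
theorem centralizer_eq_of_transitive [Nonempty Ω] {A B : Subgroup G} (hA : IsPretransitive A Ω)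
    (hB : IsPretransitive B Ω) (hBA : B ≤ Subgroup.centralizer (A : Set G)) :
    Subgroup.centralizer (A : Set G) = B := by
  refine le_antisymm (fun c hc => ?_) hBA
  obtain ⟨ω⟩ := ‹Nonempty Ω›
  obtain ⟨b, hb⟩ := exists_smul_eq B ω (c • ω)
  have h1 : (b : G)⁻¹ * c = 1 :=
    eq_one_of_centralizes hA (Subgroup.mul_mem _ (Subgroup.inv_mem _ (hBA b.2)) hc) (ω := ω)
      (by rw [mul_smul, inv_smul_eq_iff]; exact hb.symm)
  rw [inv_mul_eq_one] at h1
  exact h1 ▸ b.2

/-- Two commuting regular subgroups are isomorphic. -/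
theorem nonempty_mulEquiv_of_regular [Nonempty Ω] {A B : Subgroup G} (hA : IsPretransitive A Ω)
    (hB : IsPretransitive B Ω) (hAB : B ≤ Subgroup.centralizer (A : Set G)) :
    Nonempty (A ≃* B) := by
  obtain ⟨ω⟩ := ‹Nonempty Ω›
  have hBA : A ≤ Subgroup.centralizer (B : Set G) := Subgroup.le_centralizer_iff.1 hAB
  choose f hf using fun a : A => exists_smul_eq B ω ((a : G)⁻¹ • ω)
  have hBinj : ∀ b b' : B, (b : G) • ω = (b' : G) • ω → b = b' := by
    intro b b' h
    have := eq_one_of_centralizes hA (hAB (b'⁻¹ * b).2) (ω := ω)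
      (by rw [Subgroup.coe_mul, Subgroup.coe_inv, mul_smul, inv_smul_eq_iff]; exact h)
    rw [Subgroup.coe_mul, Subgroup.coe_inv, inv_mul_eq_one] at this
    exact Subtype.ext this.symm
  have hmul : ∀ a a' : A, f (a * a') = f a * f a' := by
    intro a a'
    apply hBinj
    have h1 : (f (a * a') : G) • ω = (((a * a' : A) : G))⁻¹ • ω := hf (a * a')
    have h2 : (f a : G) • ω = (a : G)⁻¹ • ω := hf a
    have h3 : (f a' : G) • ω = (a' : G)⁻¹ • ω := hf a'
    have hcomm : (a' : G)⁻¹ * (f a : G) = (f a : G) * (a' : G)⁻¹ :=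
      Subgroup.mem_centralizer_iff.1 (hAB (f a).2) _ (A.inv_mem a'.2)
    rw [h1, Subgroup.coe_mul, mul_inv_rev, mul_smul, ← h2, smul_smul, hcomm, mul_smul, ← h3,
      smul_smul, Subgroup.coe_mul]
  let φ : A →* B := MonoidHom.mk' f hmul
  refine ⟨MulEquiv.ofBijective φ ⟨?_, ?_⟩⟩
  · intro a a' h
    have h2 : (f a : G) • ω = (a : G)⁻¹ • ω := hf a
    have h3 : (f a' : G) • ω = (a' : G)⁻¹ • ω := hf a'
    have h4 : (a : G)⁻¹ • ω = (a' : G)⁻¹ • ω := by
      rw [← h2, ← h3]; exact congrArg (fun b : B => (b : G) • ω) h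
    have := eq_one_of_centralizes hB (hBA (a * a'⁻¹).2) (ω := ω)
      (by rw [Subgroup.coe_mul, Subgroup.coe_inv, mul_smul, ← h4, smul_inv_smul])
    rw [Subgroup.coe_mul, Subgroup.coe_inv, mul_inv_eq_one] at this
    exact Subtype.ext this
  · intro b
    obtain ⟨a, ha⟩ := exists_smul_eq A ω ((b : G) • ω)
    refine ⟨a⁻¹, hBinj _ _ ?_⟩
    have h2 : (f a⁻¹ : G) • ω = ((a⁻¹ : A) : G)⁻¹ • ω := hf a⁻¹
    show (f a⁻¹ : G) • ω = (b : G) • ω
    rw [h2, Subgroup.coe_inv, inv_inv]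
    exact ha

/-- The socle of a finite primitive permutation group. Let a finite group G act faithfully and primitively on a set Ω, and let N be the subgroup generated by the minimal normal subgroups of G. Then either N is an elementary abelian p-group for some prime p and acts regularly on Ω (transitively with trivial point stabilizers), or N is isomorphic to a direct product of m ≥ 1 copies of a non-abelian simple group. -/
theorem result {G Ω : Type*} [Group G] [Finite G] [MulAction G Ω] [FaithfulSMul G Ω] [Finite Ω]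
    (hprim : MulAction.IsPreprimitive G Ω) (N : Subgroup G)
    (hN : N = sSup {V : Subgroup G | V.Normal ∧ V ≠ ⊥ ∧ ∀ M : Subgroup G, M.Normal → M ≤ V → M = ⊥ ∨ M = V}) :
    (∃ p : ℕ, p.Prime ∧ IsMulCommutative N ∧ (∀ x : N, x ^ p = 1) ∧
      MulAction.IsPretransitive N Ω ∧ ∀ ω : Ω, MulAction.stabilizer N ω = ⊥) ∨
    (∃ (T : Type) (_ : Group T) (m : ℕ), 1 ≤ m ∧ IsSimpleGroup T ∧ ¬ IsMulCommutative T ∧ Nonempty (N ≃* (Fin m → T))) := by
  classical
  have := hprim
  have hmin : ∀ V : Subgroup G, (V ∈ {V : Subgroup G | V.Normal ∧ V ≠ ⊥ ∧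
      ∀ M : Subgroup G, M.Normal → M ≤ V → M = ⊥ ∨ M = V}) ↔ IsMinNormal V :=
    fun V => ⟨fun h => ⟨h.2.1, h.1, h.2.2⟩, fun h => ⟨h.2.1, h.1, h.2.2⟩⟩
  have hNle : ∀ V, IsMinNormal V → V ≤ N := fun V hV => hN ▸ le_sSup ((hmin V).2 hV)
  have hNsup : ∀ X : Subgroup G, (∀ V, IsMinNormal V → V ≤ X) → N ≤ X := fun X hX =>
    hN ▸ sSup_le fun V hV => hX V ((hmin V).1 hV)
  rcases subsingleton_or_nontrivial Ω with hΩ | hΩ
  · have hG : ∀ g : G, g = 1 := fun g => FaithfulSMul.eq_of_smul_eq_smul (α := Ω)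
      fun z => Subsingleton.elim _ _
    refine Or.inl ⟨2, Nat.prime_two, ⟨⟨fun a b => Subtype.ext ((hG _).trans (hG _).symm)⟩⟩,
      fun x => Subtype.ext (hG _), ⟨fun x y => ⟨1, Subsingleton.elim _ _⟩⟩, fun ω => ?_⟩
    rw [Subgroup.eq_bot_iff_forall]
    exact fun x _ => Subtype.ext (hG _)
  obtain ⟨ω₀⟩ : Nonempty Ω := inferInstance
  have htrans : ∀ V : Subgroup G, IsMinNormal V → IsPretransitive V Ω := by
    intro V hV
    have := hV.normal
    refine IsQuasiPreprimitive.isPretransitive_of_normal (G := G) (X := Ω) fun hfix => hV.ne_bot ?_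
    rw [Subgroup.eq_bot_iff_forall]
    intro x hx
    apply FaithfulSMul.eq_of_smul_eq_smul (α := Ω)
    intro z
    rw [one_smul]
    have hz : z ∈ fixedPoints V Ω := hfix ▸ Set.mem_univ z
    exact hz ⟨x, hx⟩
  by_cases hab : ∃ A : Subgroup G, IsMinNormal A ∧ IsMulCommutative A
  · obtain ⟨A, hA, hAc⟩ := hab
    left
    have hAA : A ≤ Subgroup.centralizer (A : Set G) := fun x hx y hy =>
      congrArg Subtype.val (mul_comm' (⟨y, hy⟩ : A) ⟨x, hx⟩)
    have hCA := centralizer_eq_of_transitive (htrans A hA) (htrans A hA) hAA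
    have hNA : N = A := by
      refine le_antisymm (hNsup A fun V hV => ?_) (hNle A hA)
      by_cases hVA : V = A
      · exact hVA.le
      · exact hCA ▸ hV.le_centralizer hA hVA
    obtain ⟨p, hp, -, hexp⟩ := hA.exponent_prime hAc
    rw [hNA]
    refine ⟨p, hp, hAc, fun x => Subtype.ext ?_, htrans A hA, fun ω => ?_⟩
    · rw [SubmonoidClass.coe_pow, OneMemClass.coe_one]
      exact hexp _ x.2
    · rw [Subgroup.eq_bot_iff_forall]
      intro x hx
      exact Subtype.ext (eq_one_of_centralizes (htrans A hA) (hAA x.2) hx)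
  push Not at hab
  right
  have : Nontrivial G := by
    obtain ⟨y, hy⟩ := exists_ne ω₀
    obtain ⟨g, hg⟩ := exists_smul_eq G ω₀ y
    refine ⟨⟨g, 1, fun h => hy ?_⟩⟩
    rw [← hg, h, one_smul]
  obtain ⟨M₀, hM₀⟩ := exists_isMinNormal (G := G)
  have : Nontrivial M₀ := (Subgroup.nontrivial_iff_ne_bot M₀).2 hM₀.ne_bot
  obtain ⟨S₀, hS₀⟩ := exists_isMinNormal (G := M₀)
  obtain ⟨T, iT, iF, -, ⟨eT⟩⟩ := CfsgLib.Recog.exists_small_copy S₀
  have hS₀s := hM₀.isSimpleGroup_minNormal hS₀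
  have hTs : IsSimpleGroup T := by
    have : Nontrivial T := eT.toEquiv.nontrivial
    exact IsSimpleGroup.isSimpleGroup_of_surjective eT.symm.toMonoidHom eT.symm.surjective
  have hTna : ¬ IsMulCommutative T := fun h =>
    hM₀.not_isMulCommutative_minNormal (hab M₀ hM₀) hS₀
      ⟨⟨fun a b => eT.symm.injective (by rw [map_mul, map_mul]; exact mul_comm' _ _)⟩⟩
  -- every simple factor is isomorphic to T
  have hfac : ∀ (M : Subgroup G), IsMinNormal M → ∀ S : Subgroup M, IsMinNormal S →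
      Nonempty (S ≃* T) := by
    intro M hM S hS
    obtain ⟨S₁, hS₁, ⟨e₁⟩⟩ : ∃ S₁ : Subgroup M₀, IsMinNormal S₁ ∧ Nonempty (S ≃* S₁) := by
      by_cases hMM : M = M₀
      · subst hMM; exact ⟨S, hS, ⟨MulEquiv.refl _⟩⟩
      · obtain ⟨e⟩ := nonempty_mulEquiv_of_regular (htrans M hM) (htrans M₀ hM₀)
          (hM₀.le_centralizer hM (Ne.symm hMM))
        exact ⟨_, hS.map_equiv e, ⟨S.equivMapOfInjective _ e.injective⟩⟩
    have := hM₀.normal
    obtain ⟨g, hg⟩ := hM₀.exists_conj_eq (hab M₀ hM₀) hS₀ hS₁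
    exact ⟨e₁.trans ((MulEquiv.subgroupCongr hg.symm).trans
      ((S₀.equivMapOfInjective _ (conjAut M₀ g).injective).symm.trans eT.symm))⟩
  let ι := {S : Subgroup G // ∃ M : Subgroup G, IsMinNormal M ∧
    ∃ S' : Subgroup M, IsMinNormal S' ∧ S'.map M.subtype = S}
  have : Finite ι := Subtype.finite
  have hne : Nonempty ι := ⟨⟨_, M₀, hM₀, S₀, hS₀, rfl⟩⟩
  obtain ⟨eN⟩ := CfsgLib.Recognition.PowerOfSimple.nonempty_mulEquiv_pow hTna (fun i : ι => i.1)
    (by
      rintro ⟨_, M, hM, S', hS', rfl⟩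
      obtain ⟨e⟩ := hfac M hM S' hS'
      exact ⟨(S'.equivMapOfInjective _ M.subtype_injective).symm.trans e⟩)
    (by
      rintro ⟨_, M, hM, S, hS, rfl⟩ ⟨_, M', hM', S', hS', rfl⟩ hne x y ⟨a, ha, rfl⟩ ⟨b, hb, rfl⟩
      by_cases hMM : M = M'
      · subst hMM
        exact (hS.commute hS' (fun e => hne (Subtype.ext (by simp [e]))) a ha b hb).map M.subtype
      · exact hM.commute hM' hMM _ a.2 _ b.2)
    N (by
      refine le_antisymm (hNsup _ fun M hM => ?_) (iSup_le ?_)
      · conv_lhs => rw [← M.range_subtype, MonoidHom.range_eq_map, ← hM.socle_eq_top]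
        rw [socle, Subgroup.map_le_iff_le_comap]
        refine sSup_le fun S hS => ?_
        rw [← Subgroup.map_le_iff_le_comap]
        exact le_iSup (fun i : ι => i.1) ⟨_, M, hM, S, hS, rfl⟩
      · rintro ⟨_, M, hM, S, hS, rfl⟩
        exact (Subgroup.map_subtype_le S).trans (hNle M hM))
  exact ⟨T, iT, Nat.card ι, Nat.card_pos, hTs, hTna, ⟨eN⟩⟩

end Cfsg.Agent.S3680
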