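import Cfsg.Statements.S3681
import Mathlib.GroupTheory.GroupAction.Jordan
import Mathlib.GroupTheory.Perm.Cycle.Type
import Mathlib.Data.Fintype.CardEmbedding

set_option autoImplicit false
open Cfsg MulAction

namespace Cfsg.Agent.S3681

open Equiv

/-- The commutator of two permutations whose supports meet in one point is a three-cycle. -/
theorem isThreeCycle_commutator_of_meet {Ω : Type*} [Fintype Ω] [DecidableEq Ω] (a b : Perm Ω)
    (α : Ω) (hα : a α ≠ α) (hβ : b α ≠ α) (hmeet : ∀ x, a x ≠ x → b x ≠ x → x = α) :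
    Perm.IsThreeCycle (a * b * a⁻¹ * b⁻¹) := by
  have ha : ∀ x, a x ≠ x → x ≠ α → b x = x := fun x h h' => by_contra fun h'' => h' (hmeet x h h'')
  have hb : ∀ x, b x ≠ x → x ≠ α → a x = x := fun x h h' => by_contra fun h'' => h' (hmeet x h'' h)
  have haα : a (a α) ≠ a α := fun h => hα (a.injective h)
  have hbα : b (b α) ≠ b α := fun h => hβ (b.injective h)
  have hai : a⁻¹ α ≠ α := fun h => hα (by conv_lhs => rw [← h]; simp)
  have hbi : b⁻¹ α ≠ α := fun h => hβ (by conv_lhs => rw [← h]; simp)
  have hai' : a (a⁻¹ α) ≠ a⁻¹ α := fun h => hai (by simpa using h.symm)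
  have hbi' : b (b⁻¹ α) ≠ b⁻¹ α := fun h => hbi (by simpa using h.symm)
  set c := a * b * a⁻¹ * b⁻¹ with hc
  have hinv : ∀ (f : Perm Ω) x, f x = x → f⁻¹ x = x := fun f x h => by
    conv_lhs => rw [← h]
    simp
  have happ : ∀ x, c x = a (b (a⁻¹ (b⁻¹ x))) := fun x => rfl
  have c1 : c α = a α := by
    rw [happ, hinv a _ (hb _ hbi' hbi)]
    simp
  have c2 : c (a α) = b α := by
    rw [happ, hinv b _ (ha _ haα hα)]
    simp [hb _ hbα hβ]
  have c3 : c (b α) = α := by
    rw [happ, show b⁻¹ (b α) = α from by simp, ha _ hai' hai]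
    simp
  have cfix : ∀ x, x ≠ α → x ≠ a α → x ≠ b α → c x = x := by
    intro x h1 h2 h3
    rw [happ]
    by_cases hax : a x = x
    · have hy : a (b⁻¹ x) = b⁻¹ x := by
        by_contra hy
        have h4 : b⁻¹ x ≠ α := fun e => h3 (by rw [← e]; simp)
        have h5 := ha _ hy h4
        simp only [Perm.coe_inv, Equiv.apply_symm_apply] at h5
        exact hy (by rw [Perm.coe_inv, ← h5]; exact hax)
      rw [hinv a _ hy]
      simpa using hax
    · rw [hinv b _ (ha x hax h1)]
      have h4 : a⁻¹ x ≠ α := fun e => h2 (by rw [← e]; simp)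
      have h5 : a (a⁻¹ x) ≠ a⁻¹ x := fun e => hax (by
        have h6 : x = a⁻¹ x := by simpa using e
        conv_lhs => rw [h6]
        simp)
      rw [ha _ h5 h4]
      simp
  have hne : a α ≠ b α := fun e => hbα (ha (b α) (e ▸ haα) hβ)
  rw [← card_support_eq_three_iff]
  have hsupp : c.support = {α, a α, b α} := by
    ext x
    rw [Perm.mem_support, Finset.mem_insert, Finset.mem_insert, Finset.mem_singleton]
    constructor
    · intro h
      by_contra h'
      push Not at h'
      exact h (cfix x h'.1 h'.2.1 h'.2.2)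
    · rintro (rfl | rfl | rfl)
      · rwa [c1]
      · rw [c2]; exact hne.symm
      · rw [c3]; exact hβ.symm
  rw [hsupp, Finset.card_insert_of_notMem, Finset.card_pair hne]
  simp [Ne.symm hα, Ne.symm hβ]

/-- Bochert's bound for primitive groups. Let a finite group G act faithfully and primitively on a finite set Ω with n elements, and suppose the image of G in the symmetric group of Ω does not contain the alternating group of Ω. Then |G| · ⌊(n + 1)/2⌋! ≤ n!, that is, the index of G in the symmetric group is at least ⌊(n + 1)/2⌋!. -/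
theorem result {G Ω : Type*} [Group G] [Finite G] [MulAction G Ω] [FaithfulSMul G Ω] [Fintype Ω] [DecidableEq Ω]
    (hprim : MulAction.IsPreprimitive G Ω) (hA : ¬ alternatingGroup Ω ≤ (MulAction.toPermHom G Ω).range) :
    Nat.card G * Nat.factorial ((Fintype.card Ω + 1) / 2) ≤ Nat.factorial (Fintype.card Ω) := by
  classical
  set R := (MulAction.toPermHom G Ω).range with hR
  have hRprim : IsPreprimitive R Ω := by
    have := hprim
    exact IsPreprimitive.of_surjective (M := G) (N := R) (φ := (toPermHom G Ω).rangeRestrict)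
      (f := { toFun := id, map_smul' := fun _ _ => rfl }) Function.surjective_id
  -- a smallest set of points with trivial pointwise stabilizer
  obtain ⟨Δ, hΔ, hmin⟩ := Set.Finite.exists_minimalFor Finset.card
    {Δ : Finset Ω | ∀ g : G, (∀ x ∈ Δ, g • x = x) → g = 1} (Set.toFinite _)
    ⟨Finset.univ, fun g hg => FaithfulSMul.eq_of_smul_eq_smul (α := Ω)
      fun x => by rw [hg x (Finset.mem_univ x), one_smul]⟩
  have hk : 2 * Δ.card ≤ Fintype.card Ω := by
    by_contra hcon
    have hCc : Δᶜ ∉ {Δ : Finset Ω | ∀ g : G, (∀ x ∈ Δ, g • x = x) → g = 1} := fun h => by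
      have h1 : Δᶜ.card < Δ.card := by rw [Finset.card_compl]; omega
      have := hmin h h1.le
      omega
    simp only [Set.mem_ofPred_eq, not_forall] at hCc
    obtain ⟨g, hg, hg1⟩ := hCc
    obtain ⟨α, hα⟩ : ∃ α, g • α ≠ α := by
      by_contra h
      push Not at h
      exact hg1 (FaithfulSMul.eq_of_smul_eq_smul (α := Ω) fun x => by rw [h x, one_smul])
    have hαΔ : α ∈ Δ := by
      by_contra h
      exact hα (hg α (Finset.mem_compl.2 h))
    have hE : Δ.erase α ∉ {Δ : Finset Ω | ∀ g : G, (∀ x ∈ Δ, g • x = x) → g = 1} := fun h => by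
      have h1 := Finset.card_erase_lt_of_mem hαΔ
      have := hmin h h1.le
      omega
    simp only [Set.mem_ofPred_eq, not_forall] at hE
    obtain ⟨k, hk, hk1⟩ := hE
    have hkα : k • α ≠ α := fun h => hk1 (hΔ k fun x hx => by
      by_cases e : x = α
      · rw [e]; exact h
      · exact hk x (Finset.mem_erase.2 ⟨e, hx⟩))
    have h3 := isThreeCycle_commutator_of_meet (toPermHom G Ω g) (toPermHom G Ω k) α hα hkα
      (fun x hgx hkx => by
        by_contra hne
        by_cases hxΔ : x ∈ Δ
        · exact hkx (hk x (Finset.mem_erase.2 ⟨hne, hxΔ⟩))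
        · exact hgx (hg x (Finset.mem_compl.2 hxΔ)))
    exact hA (Equiv.Perm.alternatingGroup_le_of_isPreprimitive_of_isThreeCycle_mem hRprim h3
      ⟨g * k * g⁻¹ * k⁻¹, by simp only [map_mul, map_inv]⟩)
  have hinj : Function.Injective
      (fun g : G => (⟨fun x : Δ => g • (x : Ω), fun x y h => Subtype.ext (smul_left_cancel g h)⟩ :
        (Δ : Type _) ↪ Ω)) := by
    intro g k h
    rw [← inv_mul_eq_one]
    refine hΔ _ fun x hx => ?_
    rw [mul_smul, inv_smul_eq_iff]
    have h' := congrArg (fun e : (Δ : Type _) ↪ Ω => e ⟨x, hx⟩) h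
    exact h'.symm
  have hle := Nat.card_le_card_of_injective _ hinj
  rw [Nat.card_eq_fintype_card (α := (Δ : Type _) ↪ Ω), Fintype.card_embedding_eq,
    Fintype.card_coe] at hle
  calc Nat.card G * Nat.factorial ((Fintype.card Ω + 1) / 2)
      ≤ (Fintype.card Ω).descFactorial Δ.card * Nat.factorial (Fintype.card Ω - Δ.card) :=
        Nat.mul_le_mul hle (Nat.factorial_le (by omega))
    _ = Nat.factorial (Fintype.card Ω) := by
        rw [mul_comm, Nat.factorial_mul_descFactorial (by omega)]

end Cfsg.Agent.S3681
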