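import Cfsg.Statements.S3683
import Mathlib.GroupTheory.GroupAction.Primitive
import Mathlib.GroupTheory.SpecificGroups.Cyclic

set_option autoImplicit false
open Cfsg MulAction

namespace Cfsg.Agent.S3683

/-- Let a finite group G act faithfully and primitively on a set Ω, and suppose the stabilizer of a point a fixes a second point b ≠ a (a suborbit of length 1 other than {a}). Then the stabilizer of a is trivial and G is cyclic of prime order. -/
theorem result {G Ω : Type*} [Group G] [Finite G] [MulAction G Ω] [FaithfulSMul G Ω] [Finite Ω]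
    (hprim : MulAction.IsPreprimitive G Ω) (a b : Ω) (hab : a ≠ b) (hfix : ∀ g : G, g • a = a → g • b = b) :
    MulAction.stabilizer G a = ⊥ ∧ IsCyclic G ∧ (Nat.card G).Prime := by
  classical
  haveI := hprim
  haveI : Nontrivial Ω := nontrivial_of_ne a b hab
  have hmax := IsPreprimitive.isCoatom_stabilizer_of_isPreprimitive (G := G) a
  obtain ⟨g, hg⟩ := exists_smul_eq G a b
  have hab' : stabilizer G a = stabilizer G b := by
    rcases hmax.le_iff.1 (show stabilizer G a ≤ stabilizer G b from fun h hh => hfix h hh) with h | h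
    · exact absurd h (IsPreprimitive.isCoatom_stabilizer_of_isPreprimitive (G := G) b).ne_top
    · exact h.symm
  have hgn : g ∈ Subgroup.normalizer (stabilizer G a : Set G) := by
    rw [Subgroup.mem_normalizer_iff]
    intro h
    conv_rhs => rw [hab', mem_stabilizer_iff, ← hg]
    rw [mem_stabilizer_iff, mul_smul, mul_smul, inv_smul_smul]
    exact (smul_left_cancel_iff g).symm
  have hN : Subgroup.normalizer (stabilizer G a : Set G) = ⊤ := by
    rcases hmax.le_iff.1 (Subgroup.le_normalizer (H := stabilizer G a)) with h | h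
    · exact h
    · rw [h] at hgn
      exact absurd (by simpa [hg] using hgn) hab.symm
  have hnor : (stabilizer G a).Normal := Subgroup.normalizer_eq_top_iff.mp hN
  have hbot : stabilizer G a = ⊥ := by
    rw [Subgroup.eq_bot_iff_forall]
    intro x hx
    apply FaithfulSMul.eq_of_smul_eq_smul (α := Ω)
    intro c
    obtain ⟨k, rfl⟩ := exists_smul_eq G a c
    have : k⁻¹ * x * k⁻¹⁻¹ ∈ stabilizer G a := hnor.conj_mem x hx k⁻¹
    rw [mem_stabilizer_iff, inv_inv, mul_smul, mul_smul, inv_smul_eq_iff] at this
    rw [one_smul, this]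
  rw [hbot] at hmax
  haveI : Nontrivial G := by
    refine ⟨⟨g, 1, fun h => hab ?_⟩⟩
    rw [h, one_smul] at hg
    exact hg
  have hb : ∀ H : Subgroup G, H = ⊥ ∨ H = ⊤ := by
    intro H
    rcases hmax.le_iff.1 (bot_le (a := H)) with h | h
    · exact Or.inr h
    · exact Or.inl h
  have hcyc : IsCyclic G := by
    obtain ⟨x, hx⟩ := exists_ne (1 : G)
    rcases hb (Subgroup.zpowers x) with h | h
    · exact absurd (Subgroup.zpowers_eq_bot.1 h) hx
    · exact ⟨⟨x, fun y => (h.symm ▸ Subgroup.mem_top y : y ∈ Subgroup.zpowers x)⟩⟩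
  refine ⟨hbot, hcyc, ?_⟩
  obtain ⟨p, hp, hpd⟩ := Nat.exists_prime_and_dvd (Finite.one_lt_card (α := G)).ne'
  haveI : Fact p.Prime := ⟨hp⟩
  obtain ⟨x, hx⟩ := exists_prime_orderOf_dvd_card' p hpd
  rcases hb (Subgroup.zpowers x) with h | h
  · exact absurd (Subgroup.zpowers_eq_bot.1 h) (by rintro rfl; rw [orderOf_one] at hx; exact hp.ne_one hx.symm)
  · have hc := Nat.card_zpowers x
    rw [h, Subgroup.card_top, hx] at hc
    rwa [hc]

end Cfsg.Agent.S3683
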