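import Cfsg.Statements.S3684
import Mathlib.GroupTheory.GroupAction.Primitive
import Mathlib.GroupTheory.SpecificGroups.Dihedral
import Mathlib.GroupTheory.Index

set_option autoImplicit false
open Cfsg MulAction

namespace Cfsg.Agent.S3684

/-- A normal subgroup contained in a point stabilizer of a transitive faithful action is trivial. -/
theorem normal_le_stabilizer_eq_bot {G Ω : Type*} [Group G] [MulAction G Ω] [FaithfulSMul G Ω]
    [IsPretransitive G Ω] (a : Ω) (N : Subgroup G) (hN : N.Normal) (h : N ≤ stabilizer G a) :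
    N = ⊥ := by
  rw [Subgroup.eq_bot_iff_forall]
  intro x hx
  apply FaithfulSMul.eq_of_smul_eq_smul (α := Ω)
  intro c
  obtain ⟨k, rfl⟩ := exists_smul_eq G a c
  have : k⁻¹ * x * k⁻¹⁻¹ ∈ stabilizer G a := h (hN.conj_mem x hx k⁻¹)
  rw [mem_stabilizer_iff, inv_inv, mul_smul, mul_smul, inv_smul_eq_iff] at this
  rw [one_smul, this]

/-- A subgroup of index two in `H` is normalized by `H`. -/
theorem le_normalizer_of_card {G : Type*} [Group G] [Finite G] {K H : Subgroup G} (hKH : K ≤ H)
    (h : Nat.card H = 2 * Nat.card K) : H ≤ Subgroup.normalizer (K : Set G) := by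
  have hi : (K.subgroupOf H).index = 2 := by
    have := Subgroup.card_mul_index (K.subgroupOf H)
    rw [Nat.card_congr (Subgroup.subgroupOfEquivOfLe hKH).toEquiv, h, mul_comm 2] at this
    exact Nat.eq_of_mul_eq_mul_left Nat.card_pos this
  exact (Subgroup.normal_subgroupOf_iff_le_normalizer hKH).1 (Subgroup.normal_of_index_eq_two hi)

/-- A group generated by an involution `s` and an element `r` of order `m` inverted by `s`,
outside of which `s` lies, is dihedral. -/
theorem dihedral_of_gen {G : Type*} [Group G] (s r : G) (hs : s * s = 1)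
    (hc : s * r * s⁻¹ = r⁻¹) (hout : s ∉ Subgroup.zpowers r)
    (hgen : ∀ H : Subgroup G, s ∈ H → r ∈ H → H = ⊤) :
    Nonempty (G ≃* DihedralGroup (orderOf r)) := by
  let L : ZMod (orderOf r) →+ Additive G :=
    ZMod.lift (orderOf r) ⟨zmultiplesHom (Additive G) (Additive.ofMul r), by
      rw [zmultiplesHom_apply, natCast_zsmul, ← ofMul_pow, pow_orderOf_eq_one]; rfl⟩
  let pw : ZMod (orderOf r) → G := fun i => (L i).toMul
  have hpw : ∀ k : ℤ, pw (k : ZMod (orderOf r)) = r ^ k := by
    intro k
    simp only [pw, L, ZMod.lift_coe, zmultiplesHom_apply, ← ofMul_zpow, toMul_ofMul]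
  have hadd : ∀ i j, pw (i + j) = pw i * pw j := by
    intro i j
    simp only [pw, map_add, toMul_add]
  have hconj : ∀ i, s * pw i = pw (-i) * s := by
    intro i
    obtain ⟨k, rfl⟩ := ZMod.intCast_surjective i
    rw [← Int.cast_neg, hpw, hpw, zpow_neg, ← inv_zpow, ← hc, conj_zpow, inv_mul_cancel_right]
  let f : DihedralGroup (orderOf r) → G := fun x =>
    match x with
    | .r i => pw i
    | .sr i => s * pw i
  have hf : ∀ x y, f (x * y) = f x * f y := by
    rintro (i | i) (j | j)
    · rw [DihedralGroup.r_mul_r]; exact hadd i j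
    · rw [DihedralGroup.r_mul_sr]
      show s * pw (j - i) = pw i * (s * pw j)
      have := hconj (-i)
      rw [neg_neg] at this
      rw [← mul_assoc, ← this, mul_assoc, ← hadd, sub_eq_neg_add]
    · rw [DihedralGroup.sr_mul_r]
      show s * pw (i + j) = s * pw i * pw j
      rw [hadd, mul_assoc]
    · rw [DihedralGroup.sr_mul_sr]
      show pw (j - i) = s * pw i * (s * pw j)
      rw [hconj i, mul_assoc, ← mul_assoc s s, hs, one_mul, ← hadd, sub_eq_neg_add]
  let φ : DihedralGroup (orderOf r) →* G := MonoidHom.mk' f hf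
  refine ⟨(MulEquiv.ofBijective φ ⟨?_, ?_⟩).symm⟩
  · rw [injective_iff_map_eq_one]
    rintro (i | i) h
    · obtain ⟨k, rfl⟩ := ZMod.intCast_surjective i
      have h' : pw (k : ZMod (orderOf r)) = 1 := h
      rw [hpw, ← orderOf_dvd_iff_zpow_eq_one] at h'
      rw [(ZMod.intCast_zmod_eq_zero_iff_dvd k _).2 h', DihedralGroup.r_zero]
    · obtain ⟨k, rfl⟩ := ZMod.intCast_surjective i
      have h' : s * pw (k : ZMod (orderOf r)) = 1 := h
      rw [hpw, mul_eq_one_iff_eq_inv, ← zpow_neg] at h'
      exact absurd (Subgroup.mem_zpowers_iff.2 ⟨-k, h'.symm⟩) hout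
  · rw [← MonoidHom.range_eq_top]
    refine hgen _ ⟨.sr 0, ?_⟩ ⟨.r 1, ?_⟩
    · show s * pw 0 = s
      rw [← Int.cast_zero, hpw, zpow_zero, mul_one]
    · show pw 1 = r
      rw [← Int.cast_one, hpw, zpow_one]

/-- Let a finite group G act faithfully and primitively on a set Ω, and suppose the stabilizer of a point a has an orbit of length 2. Then the stabilizer of a has order 2 and G is isomorphic to the dihedral group of order 2p for some prime p. -/
theorem result {G Ω : Type*} [Group G] [Finite G] [MulAction G Ω] [FaithfulSMul G Ω] [Finite Ω]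
    (hprim : MulAction.IsPreprimitive G Ω) (a b : Ω) (h2 : Nat.card (MulAction.orbit (MulAction.stabilizer G a) b) = 2) :
    Nat.card (MulAction.stabilizer G a) = 2 ∧ ∃ p : ℕ, p.Prime ∧ Nonempty (G ≃* DihedralGroup p) := by
  classical
  have := hprim
  have hab : a ≠ b := by
    rintro rfl
    have horb : orbit (stabilizer G a) a = {a} :=
      Set.eq_singleton_iff_unique_mem.2 ⟨mem_orbit_self a, by
        rintro _ ⟨k, rfl⟩
        exact k.2⟩
    rw [horb, Nat.card_eq_fintype_card, Set.card_singleton] at h2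
    omega
  have : Nontrivial Ω := nontrivial_of_ne a b hab
  have hmax := IsPreprimitive.isCoatom_stabilizer_of_isPreprimitive (G := G) a
  obtain ⟨g, hg⟩ := exists_smul_eq G a b
  have hcard : Nat.card (stabilizer G b) = Nat.card (stabilizer G a) :=
    Nat.card_congr (stabilizerEquivStabilizer hg.symm).toEquiv.symm
  set K := stabilizer G a ⊓ stabilizer G b with hK
  have hKa : Nat.card (stabilizer G a) = 2 * Nat.card K := by
    have h1 : stabilizer (stabilizer G a) b = K.subgroupOf (stabilizer G a) := by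
      ext k
      rw [Subgroup.mem_subgroupOf, hK, Subgroup.mem_inf, mem_stabilizer_iff]
      exact ⟨fun h => ⟨k.2, h⟩, fun h => h.2⟩
    have h3 := Subgroup.card_mul_index (K.subgroupOf (stabilizer G a))
    rw [Nat.card_congr (Subgroup.subgroupOfEquivOfLe (show K ≤ stabilizer G a from inf_le_left)).toEquiv,
      ← h1, index_stabilizer, ← Nat.card_coe_set_eq, h2] at h3
    omega
  have hne : stabilizer G b ≠ stabilizer G a := by
    intro h
    rw [hK, h, inf_idem] at hKa
    have := Nat.card_pos (α := stabilizer G a)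
    omega
  have hbnot : ¬ stabilizer G b ≤ stabilizer G a := fun h =>
    hne (Subgroup.eq_of_le_of_card_ge h hcard.ge)
  have hKn : K.Normal := by
    apply Subgroup.normalizer_eq_top_iff.mp
    have h1 := le_normalizer_of_card (show K ≤ stabilizer G a from inf_le_left) hKa
    have h3 := le_normalizer_of_card (show K ≤ stabilizer G b from inf_le_right) (hcard.trans hKa)
    rcases hmax.le_iff.1 h1 with h | h
    · exact h
    · exact absurd (h ▸ h3) hbnot
  have hKbot : K = ⊥ := normal_le_stabilizer_eq_bot a K hKn inf_le_left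
  rw [hKbot, Subgroup.card_bot, mul_one] at hKa
  refine ⟨hKa, ?_⟩
  obtain ⟨⟨s, hsA⟩, hs1, hsu⟩ := (Nat.card_eq_two_iff' (1 : stabilizer G a)).1 hKa
  have hsne : s ≠ 1 := fun h => hs1 (Subtype.ext h)
  have hA : ∀ x ∈ stabilizer G a, x = 1 ∨ x = s := by
    intro x hx
    by_cases h : x = 1
    · exact Or.inl h
    · exact Or.inr (congrArg Subtype.val (hsu ⟨x, hx⟩ (fun e => h (congrArg Subtype.val e))))
  have hAle : ∀ H : Subgroup G, s ∈ H → stabilizer G a ≤ H := by
    intro H hsH x hx
    rcases hA x hx with rfl | rfl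
    · exact H.one_mem
    · exact hsH
  have hss : s * s = 1 := by
    rcases hA _ ((stabilizer G a).mul_mem hsA hsA) with h | h
    · exact h
    · exact absurd (mul_eq_left.1 h) hsne
  set t := g * s * g⁻¹ with ht
  have htt : t * t = 1 := by
    rw [ht, show g * s * g⁻¹ * (g * s * g⁻¹) = g * (s * s) * g⁻¹ by group, hss]
    group
  have htA : t ∉ stabilizer G a := by
    intro h
    rcases hA t h with h1 | h1
    · exact hsne (by simpa [ht] using h1)
    · have htb : t ∈ K := by
        refine ⟨h, ?_⟩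
        show t • b = b
        rw [ht, mul_smul, mul_smul, ← hg, inv_smul_smul, mem_stabilizer_iff.1 hsA]
      rw [hKbot, Subgroup.mem_bot, h1] at htb
      exact hsne htb
  have hgen : ∀ H : Subgroup G, s ∈ H → t ∈ H → H = ⊤ := by
    intro H hsH htH
    rcases hmax.le_iff.1 (hAle H hsH) with h | h
    · exact h
    · exact absurd (h ▸ htH) htA
  set r := s * t with hr
  have hsinv : s⁻¹ = s := inv_eq_of_mul_eq_one_right hss
  have htinv : t⁻¹ = t := inv_eq_of_mul_eq_one_right htt
  have hc : s * r * s⁻¹ = r⁻¹ := by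
    rw [hr, mul_inv_rev, htinv, hsinv, ← mul_assoc s s t, hss, one_mul]
  have hgen' : ∀ H : Subgroup G, s ∈ H → r ∈ H → H = ⊤ := fun H hsH hrH =>
    hgen H hsH (by
      have := H.mul_mem hsH hrH
      rwa [hr, ← mul_assoc, hss, one_mul] at this)
  have hout : s ∉ Subgroup.zpowers r := by
    intro hsr
    have htop := hgen' _ hsr (Subgroup.mem_zpowers r)
    have hnor : (stabilizer G a).Normal := by
      constructor
      intro x hx k
      have hk : k ∈ Subgroup.zpowers r := htop ▸ Subgroup.mem_top k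
      have hx' : x ∈ Subgroup.zpowers r := htop ▸ Subgroup.mem_top x
      obtain ⟨i, rfl⟩ := hk
      obtain ⟨j, rfl⟩ := hx'
      simpa [← zpow_neg, ← zpow_add] using hx
    exact hsne (Subgroup.mem_bot.1 ((normal_le_stabilizer_eq_bot a _ hnor le_rfl) ▸ hsA))
  have hr1 : orderOf r ≠ 1 := by
    intro h
    rw [orderOf_eq_one_iff, hr, mul_eq_one_iff_eq_inv, htinv] at h
    exact htA (h ▸ hsA)
  refine ⟨orderOf r, ?_, dihedral_of_gen s r hss hc hout hgen'⟩
  obtain ⟨q, hq, hqd⟩ := Nat.exists_prime_and_dvd hr1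
  set H := Subgroup.zpowers (r ^ q) ⊔ stabilizer G a with hH
  have hnorm : stabilizer G a ≤ Subgroup.normalizer (Subgroup.zpowers (r ^ q) : Set G) := by
    refine hAle _ ?_
    rw [Subgroup.mem_normalizer_iff_map_conj_eq, MonoidHom.map_zpowers]
    show Subgroup.zpowers (s * r ^ q * s⁻¹) = _
    rw [← conj_pow, hc, inv_pow, Subgroup.zpowers_inv]
  rcases hmax.le_iff.1 (show stabilizer G a ≤ H from le_sup_right) with h | h
  · exfalso
    have hrH : r ∈ (H : Set G) := by
      rw [SetLike.mem_coe, h]
      exact Subgroup.mem_top r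
    rw [hH, Subgroup.coe_mul_of_right_le_normalizer_left _ _ hnorm] at hrH
    obtain ⟨y, hy, e, he, hye⟩ := hrH
    obtain ⟨k, rfl⟩ := hy
    simp only [← zpow_natCast r q, ← zpow_mul] at hye
    rcases hA e he with rfl | hes
    · rw [mul_one, ← mul_inv_eq_one, ← zpow_sub_one, ← orderOf_dvd_iff_zpow_eq_one] at hye
      have hdd : (q : ℤ) ∣ (q : ℤ) * k - 1 := (Int.natCast_dvd_natCast.2 hqd).trans hye
      rw [dvd_sub_right (dvd_mul_right _ _)] at hdd
      exact hq.ne_one (by exact_mod_cast Int.eq_one_of_dvd_one (Int.natCast_nonneg q) hdd)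
    · refine hout ⟨-((q : ℤ) * k) + 1, ?_⟩
      show r ^ (-((q : ℤ) * k) + 1) = s
      rw [hes] at hye
      rw [zpow_add, zpow_one, zpow_neg, inv_mul_eq_iff_eq_mul]
      exact hye.symm
  · have : r ^ q ∈ stabilizer G a := h ▸ Subgroup.mem_sup_left (Subgroup.mem_zpowers _)
    rcases hA _ this with h1 | h1
    · rwa [Nat.dvd_antisymm (orderOf_dvd_of_pow_eq_one h1) hqd]
    · exact absurd ⟨q, by simpa using h1⟩ hout

end Cfsg.Agent.S3684
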