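import Cfsg.Statements.S3687
import Cfsg.Agent.Lib.Recognition.AltSubMain

set_option autoImplicit false
open Cfsg

namespace Cfsg.Agent.S3687

open CfsgLib.Maximal.TW CfsgLib.Recognition in
lemma pair_of_stabilizers {G Ω : Type*} [Group G] [Finite G] [MulAction G Ω] [FaithfulSMul G Ω]
    (hprim : MulAction.IsPreprimitive G Ω) (a b : Ω) (d : ℕ)
    (hd : Nat.card (MulAction.orbit (MulAction.stabilizer G a) b) = d) (h6 : 6 ≤ d)
    (hl : d.factorial ≤ 2 * (coreIn (MulAction.stabilizer G a) (MulAction.stabilizer G a ⊓ MulAction.stabilizer G b)).relIndex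
      (MulAction.stabilizer G a)) :
    AltSub.Pair (MulAction.stabilizer G a) (MulAction.stabilizer G b)
      (MulAction.stabilizer G a ⊓ MulAction.stabilizer G b) d := by
  classical
  obtain ⟨hmax, hcore, hne, ⟨g, hgab, hconj⟩, hr, hr'⟩ := WielandtBound.setting hprim hd (by omega : 2 ≤ d)
  obtain ⟨g', hg'⟩ := MulAction.exists_smul_eq G b a
  set H := MulAction.stabilizer G a with hH
  set K := MulAction.stabilizer G b with hK
  have hHb : Nat.card (MulAction.orbit K a) = d := by
    have h := hr'
    rw [Subgroup.inf_relIndex_right] at h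
    rw [← h]
    show _ = (MulAction.stabilizer K a).index
    rw [MulAction.index_stabilizer, Nat.card_coe_set_eq]
  obtain ⟨hmax', hcore', -, -, -, -⟩ := WielandtBound.setting hprim hHb (by omega : 2 ≤ d)
  have P0 : coreIn H (coreIn H (H ⊓ K) ⊓ coreIn K (H ⊓ K)) = ⊥ ∨
      coreIn K (coreIn H (H ⊓ K) ⊓ coreIn K (H ⊓ K)) = ⊥ := by
    have := Fintype.ofFinite (AltSub.OffPt ((H ⊓ K).subgroupOf H))
    have hoff : Nat.card (AltSub.OffPt ((H ⊓ K).subgroupOf H)) = d - 1 := by
      rw [AltSub.card_offPt]; exact congrArg (· - 1) hr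
    have h5 : 5 ≤ Nat.card (AltSub.OffPt ((H ⊓ K).subgroupOf H)) := by omega
    have hpc : ∀ p : ℕ, p.Prime → pC p (H ⊓ K) = ⊥ := by
      intro p hp
      have := Fact.mk hp
      refine WielandtBound.pC_inf_eq_bot hprim hd (by omega) ?_
      have hU : alternatingGroup (AltSub.OffPt ((H ⊓ K).subgroupOf H)) ≤
          (⊤ : Subgroup ↥(H ⊓ K)).map (AltSub.offHom (inf_le_left : H ⊓ K ≤ H)) := by
        rw [← MonoidHom.range_eq_map]
        refine Equiv.Perm.alternatingGroup_le_of_index_le_two (AltPerm.range_of_large h5 _ ?_)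
        rw [AltSub.offHom_ker, hoff]
        have h1 := Subgroup.relIndex_mul_relIndex (coreIn H (H ⊓ K)) (H ⊓ K) H (coreIn_le_right _ _) inf_le_left
        rw [hr] at h1
        rw [← h1, ← Nat.mul_factorial_pred (by omega : d ≠ 0), mul_comm _ d, mul_left_comm 2 d] at hl
        exact Nat.le_of_mul_le_mul_left hl (by omega)
      have hn : (Cfsg.pCore p ↥(H ⊓ K)).Normal := CfsgLib.Fitting.pCore_normal p
      rcases AltPerm.image_cases (AltSub.offHom (inf_le_left : H ⊓ K ≤ H)) h5 hU
        (N := Cfsg.pCore p ↥(H ⊓ K)) (by rw [Subgroup.normalizer_eq_top_iff.mpr hn]) with h | h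
      · rintro _ ⟨x, hx, rfl⟩
        have h1 := h hx
        rw [AltSub.offHom_ker] at h1
        exact h1
      · exfalso
        have hpg : IsPGroup p (alternatingGroup (AltSub.OffPt ((H ⊓ K).subgroupOf H))) :=
          ((CfsgLib.PCore.pCore_isPGroup (p := p)).map _).to_le h
        have := alternatingGroup.nontrivial_of_three_le_card
          (α := AltSub.OffPt ((H ⊓ K).subgroupOf H)) (by omega)
        have hc := hpg.center_nontrivial
        rw [Subgroup.nontrivial_iff_ne_bot] at hc
        exact hc (alternatingGroup.center_eq_bot (by omega))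
    by_contra hcon
    push Not at hcon
    let AB : ℕ → Subgroup G × Subgroup G := fun i =>
      Nat.rec (H, K) (fun _ q => (coreIn H (q.1 ⊓ q.2), coreIn K (q.1 ⊓ q.2))) i
    obtain ⟨p, hp, hpg, -⟩ := thompson_wielandt H K hmax g hconj hne hcore
      (fun i => (AB i).1) (fun i => (AB i).2) rfl rfl (fun _ => rfl) (fun _ => rfl) hcon.1 hcon.2
    have := Fact.mk hp
    refine hcon.1 (le_bot_iff.mp (hpc p hp ▸ le_pC le_rfl Subgroup.le_normalizer
      ((coreIn_le_right _ _).trans (inf_le_left.trans (coreIn_le_right _ _)))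
      (hpg.to_le le_sup_left) (inf_le_left.trans (le_normalizer_coreIn _ _))))
  exact ⟨hmax, hcore, hmax', hcore', hne, rfl, h6, hr, hr', P0⟩


/-- Let a finite group G act faithfully and primitively on a set Ω, let a and b be points such that the orbit Δ of b under the stabilizer H of a has d ≥ 6 elements, and suppose that the permutation group induced by H on Δ contains the alternating group of Δ (the image of H in the symmetric group of Δ has index at most 2) while H does not act faithfully on Δ. Then either H induces exactly the alternating group of Δ and H is isomorphic to the direct product of the alternating groups of degrees d and d - 1; or H induces the full symmetric group of Δ and H is isomorphic to one of: the direct product of the symmetric groups of degrees d and d - 1, the direct product of the symmetric group of degree d with the alternating group of degree d - 1, or the subgroup of the direct product of the symmetric groups of degrees d and d - 1 consisting of the pairs of permutations with equal signs. -/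
theorem result {G Ω : Type*} [Group G] [Finite G] [MulAction G Ω] [FaithfulSMul G Ω] [Finite Ω]
    (hprim : MulAction.IsPreprimitive G Ω) (a b : Ω) (d : ℕ) (hd : Nat.card (MulAction.orbit (MulAction.stabilizer G a) b) = d) (h6 : 6 ≤ d)
    (halt : (MulAction.toPermHom (MulAction.stabilizer G a) (MulAction.orbit (MulAction.stabilizer G a) b)).range.index ≤ 2)
    (hunf : ¬ Function.Injective (MulAction.toPermHom (MulAction.stabilizer G a) (MulAction.orbit (MulAction.stabilizer G a) b))) :
    ((MulAction.toPermHom (MulAction.stabilizer G a) (MulAction.orbit (MulAction.stabilizer G a) b)).range.index = 2 ∧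
      Nonempty (MulAction.stabilizer G a ≃* alternatingGroup (Fin d) × alternatingGroup (Fin (d - 1)))) ∨
    ((MulAction.toPermHom (MulAction.stabilizer G a) (MulAction.orbit (MulAction.stabilizer G a) b)).range = ⊤ ∧
      (Nonempty (MulAction.stabilizer G a ≃* Equiv.Perm (Fin d) × Equiv.Perm (Fin (d - 1))) ∨
       Nonempty (MulAction.stabilizer G a ≃* Equiv.Perm (Fin d) × alternatingGroup (Fin (d - 1))) ∨
       Nonempty (MulAction.stabilizer G a ≃* ((Equiv.Perm.sign.comp (MonoidHom.fst (Equiv.Perm (Fin d)) (Equiv.Perm (Fin (d - 1))))) *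
         (Equiv.Perm.sign.comp (MonoidHom.snd (Equiv.Perm (Fin d)) (Equiv.Perm (Fin (d - 1)))))).ker))) := by
  classical
  set H := MulAction.stabilizer G a with hH
  set K := MulAction.stabilizer G b with hK
  set φ := MulAction.toPermHom H (MulAction.orbit H b) with hφ
  have hker : φ.ker = (CfsgLib.Maximal.TW.coreIn H (H ⊓ K)).subgroupOf H := by
    rw [CfsgLib.Recognition.AltSub.coreIn_subgroupOf]
    ext x
    rw [MonoidHom.mem_ker]
    constructor
    · intro hx k
      have h1 : x • (k⁻¹ • b) = k⁻¹ • b :=
        congrArg Subtype.val (congrArg (fun σ : Equiv.Perm (MulAction.orbit H b) => σ ⟨k⁻¹ • b, MulAction.mem_orbit b k⁻¹⟩) hx)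
      refine ⟨(k * x * k⁻¹).2, ?_⟩
      show ((k * x * k⁻¹ : H) : G) • b = b
      change (k * x * k⁻¹) • b = b
      rw [mul_smul, mul_smul, h1, smul_inv_smul]
    · intro hx
      ext ⟨w, ⟨k, rfl⟩⟩
      have h1 : (k⁻¹ * x * k⁻¹⁻¹) • b = b := (hx k⁻¹).2
      show x • k • b = k • b
      rw [inv_inv, mul_smul, mul_smul, inv_smul_eq_iff] at h1
      exact h1
  have hcard : Nat.card φ.range = (CfsgLib.Maximal.TW.coreIn H (H ⊓ K)).relIndex H := by
    rw [← Subgroup.index_ker, hker]; rfl
  have hperm : Nat.card (Equiv.Perm (MulAction.orbit H b)) = d.factorial := by rw [Nat.card_perm, hd]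
  have hmul := φ.range.card_mul_index
  rw [hperm, hcard] at hmul
  have hl : d.factorial ≤ 2 * (CfsgLib.Maximal.TW.coreIn H (H ⊓ K)).relIndex H := by
    rw [← hmul, mul_comm 2]
    exact Nat.mul_le_mul_left _ halt
  have P := pair_of_stabilizers hprim a b d hd h6 hl
  obtain ⟨-, -, -, ⟨g, -, hconj⟩, -, -⟩ :=
    CfsgLib.Recognition.WielandtBound.setting hprim hd (by omega : 2 ≤ d)
  have hA0 : CfsgLib.Maximal.TW.coreIn H (H ⊓ K) ≠ ⊥ := by
    intro h0
    refine hunf ((MonoidHom.ker_eq_bot_iff φ).mp ?_)
    rw [hker, h0, Subgroup.bot_subgroupOf]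
  have hpos : 0 < d.factorial := Nat.factorial_pos d
  rcases P.structure g hconj.symm hl hA0 with ⟨h2, hiso⟩ | ⟨h1, hiso⟩
  · refine Or.inl ⟨?_, hiso⟩
    refine Nat.eq_of_mul_eq_mul_left (n := (CfsgLib.Maximal.TW.coreIn H (H ⊓ K)).relIndex H)
      (Nat.pos_of_ne_zero Subgroup.index_ne_zero_of_finite) ?_
    rw [hmul, mul_comm]; exact h2.symm
  · refine Or.inr ⟨?_, hiso.elim Or.inl fun h => Or.inr (Or.inr h)⟩
    rw [h1] at hmul
    exact Subgroup.index_eq_one.mp (Nat.eq_of_mul_eq_mul_left hpos (hmul.trans (mul_one _).symm))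

end Cfsg.Agent.S3687
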