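import Cfsg.Statements.S3693
import Cfsg.Agent.Lib.Recognition.WielandtBound

set_option autoImplicit false
open Cfsg

namespace Cfsg.Agent.S3693

/-- Let a finite group G act faithfully and primitively on a set Ω, let a and b be points such that the orbit Δ of b under the stabilizer H of a has length d ≥ 2, and consider the permutation group induced on Δ by the elements of H fixing b. If that induced group has trivial Fitting subgroup (no non-trivial nilpotent normal subgroup), then the two-point stabilizer of a and b has trivial Fitting subgroup and the order of H divides d! · ((d - 1)!)^d. -/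
theorem result {G Ω : Type*} [Group G] [Finite G] [MulAction G Ω] [FaithfulSMul G Ω] [Finite Ω]
    (hprim : MulAction.IsPreprimitive G Ω) (a b : Ω) (d : ℕ) (hd : Nat.card (MulAction.orbit (MulAction.stabilizer G a) b) = d) (h2 : 2 ≤ d)
    (hF : Cfsg.fittingSubgroup ↥(((MulAction.stabilizer G b).subgroupOf (MulAction.stabilizer G a)).map (MulAction.toPermHom (MulAction.stabilizer G a) (MulAction.orbit (MulAction.stabilizer G a) b))) = ⊥) :
    Cfsg.fittingSubgroup ↥(MulAction.stabilizer G a ⊓ MulAction.stabilizer G b) = ⊥ ∧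
      Nat.card (MulAction.stabilizer G a) ∣ Nat.factorial d * (Nat.factorial (d - 1)) ^ d := by
  have hker : ∀ x ∈ Cfsg.fittingSubgroup ↥(MulAction.stabilizer G a ⊓ MulAction.stabilizer G b),
      ∀ w : MulAction.orbit (MulAction.stabilizer G a) b, (⟨x.1, x.2.1⟩ : MulAction.stabilizer G a) • w = w := by
    intro x hx w
    let φ := MulAction.toPermHom (MulAction.stabilizer G a) (MulAction.orbit (MulAction.stabilizer G a) b)
    let T := ((MulAction.stabilizer G b).subgroupOf (MulAction.stabilizer G a)).map φ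
    let f : ↥(MulAction.stabilizer G a ⊓ MulAction.stabilizer G b) →* T :=
      MonoidHom.codRestrict (φ.comp (Subgroup.inclusion inf_le_left)) T
        fun y => ⟨⟨y.1, y.2.1⟩, y.2.2, rfl⟩
    have hf : Function.Surjective f := by
      rintro ⟨_, y, hy, rfl⟩
      exact ⟨⟨y.1, y.2, hy⟩, rfl⟩
    have h := CfsgLib.Fitting.map_fitting_le f hf ⟨x, hx, rfl⟩
    rw [show Cfsg.fittingSubgroup T = ⊥ from hF, Subgroup.mem_bot] at h
    exact congrArg (fun σ : T => (σ : Equiv.Perm _) w) h
  have hp0 : ∀ p : ℕ, p.Prime →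
      CfsgLib.Maximal.TW.pC p (MulAction.stabilizer G a ⊓ MulAction.stabilizer G b) = ⊥ := by
    intro p hp
    have := Fact.mk hp
    refine CfsgLib.Recognition.WielandtBound.pC_inf_eq_bot hprim hd h2 ?_
    rintro _ ⟨x, hx, rfl⟩
    refine ⟨⟨x.1, x.2.1⟩, fun k => ?_, rfl⟩
    have h' : x.1 • ((k⁻¹ : MulAction.stabilizer G a).1 • b) = (k⁻¹ : MulAction.stabilizer G a).1 • b :=
      congrArg Subtype.val (hker x (CfsgLib.Fitting.pCore_le_fitting hp hx) ⟨k⁻¹ • b, MulAction.mem_orbit b k⁻¹⟩)
    change (k.1 * x.1 * (k⁻¹ : MulAction.stabilizer G a).1) ∈ MulAction.stabilizer G a ⊓ MulAction.stabilizer G b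
    refine ⟨mul_mem (mul_mem k.2 x.2.1) (k⁻¹).2, ?_⟩
    show ((k.1 * x.1 * (k⁻¹ : MulAction.stabilizer G a).1) • b : Ω) = b
    rw [mul_smul, mul_smul, h', smul_smul]
    simp
  refine ⟨?_, ?_⟩
  · rw [CfsgLib.Fitting.fitting_eq_iSup_pCore, iSup_eq_bot]
    intro q
    exact CfsgLib.Maximal.TW.pC_eq_bot_iff.mp (hp0 q (Nat.prime_of_mem_primeFactors q.2))
  · rcases CfsgLib.Recognition.WielandtBound.wielandt_dichotomy hprim hd h2 with h | ⟨p, hp, -, P, hn, hne, hP, hle, -⟩
    · exact h
    · have := Fact.mk hp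
      refine absurd ((Subgroup.map_eq_bot_iff_of_injective P (Subgroup.subtype_injective _)).mp
        (le_bot_iff.mp (hp0 p hp ▸ CfsgLib.Maximal.TW.le_pC le_rfl Subgroup.le_normalizer hle (hP.map _) ?_))) hne
      refine inf_le_left.trans ?_
      rw [← Subgroup.normal_subgroupOf_iff_le_normalizer (Subgroup.map_subtype_le P), Subgroup.subgroupOf,
        Subgroup.comap_map_eq_self_of_injective (Subgroup.subtype_injective _)]
      exact hn

end Cfsg.Agent.S3693
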