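import Cfsg.Statements.S3696
import Mathlib.GroupTheory.PGroup
import Mathlib.Algebra.Order.Ring.Pow
import Mathlib.Tactic.Linarith
import Mathlib.Tactic.FieldSimp

set_option autoImplicit false
open Cfsg

namespace Cfsg.Agent.S3696

/-- The inequality between geometric and arithmetic mean, for natural numbers. -/
theorem amgm (s : Multiset ℕ) : s.prod * s.card ^ s.card ≤ s.sum ^ s.card := by
  induction s using Multiset.induction with
  | empty => simp
  | cons x s ih =>
    rw [Multiset.prod_cons, Multiset.sum_cons, Multiset.card_cons]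
    generalize s.card = k at ih ⊢
    generalize s.prod = P at ih ⊢
    generalize s.sum = S at ih ⊢
    rcases Nat.eq_zero_or_pos k with rfl | hk
    · simp only [pow_zero, mul_one] at ih
      simp only [zero_add, pow_one, mul_one]
      exact (Nat.mul_le_mul_left x ih).trans (by omega)
    rcases Nat.eq_zero_or_pos S with rfl | hS
    · rw [zero_pow hk.ne'] at ih
      have : P = 0 := by
        have h1 : 0 < k ^ k := Nat.pow_pos hk
        by_contra h
        exact absurd ih (Nat.not_le.2 (Nat.mul_pos (Nat.pos_of_ne_zero h) h1))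
      simp [this]
    have main : ((x : ℝ) * P * ((k : ℝ) + 1) ^ (k + 1)) ≤ ((x : ℝ) + S) ^ (k + 1) := by
      have hk' : (0 : ℝ) < k := Nat.cast_pos.2 hk
      have hS' : (0 : ℝ) < S := Nat.cast_pos.2 hS
      have hk1 : (0 : ℝ) < (k : ℝ) + 1 := by linarith
      have ih' : (P : ℝ) * (k : ℝ) ^ k ≤ (S : ℝ) ^ k := by exact_mod_cast ih
      have hx : (0 : ℝ) ≤ x := Nat.cast_nonneg x
      set t : ℝ := ((x : ℝ) + S) * k / (((k : ℝ) + 1) * S) with ht
      have ht0 : 0 ≤ t := by positivity
      have hber := one_add_mul_le_pow (a := t - 1) (by linarith) (k + 1)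
      rw [add_sub_cancel] at hber
      have hlin : 1 + ((k + 1 : ℕ) : ℝ) * (t - 1) = (x : ℝ) * k / S := by
        rw [ht]; push_cast; field_simp; ring
      rw [hlin, ht, div_pow, mul_pow, mul_pow] at hber
      rw [le_div_iff₀ (by positivity), div_mul_eq_mul_div, div_le_iff₀ hS'] at hber
      have h1 : (x : ℝ) * k * ((k + 1) ^ (k + 1) * S ^ k) ≤ ((x : ℝ) + S) ^ (k + 1) * k ^ (k + 1) := by
        have h2 : (x : ℝ) * k * ((k + 1) ^ (k + 1) * S ^ k) * S ≤
            ((x : ℝ) + S) ^ (k + 1) * k ^ (k + 1) * S := by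
          refine le_trans (le_of_eq ?_) hber
          ring
        exact le_of_mul_le_mul_right h2 hS'
      have h3 : (x : ℝ) * P * ((k : ℝ) + 1) ^ (k + 1) * k ^ (k + 1) ≤
          (x : ℝ) * k * ((k + 1) ^ (k + 1) * S ^ k) := by
        have h4 := mul_le_mul_of_nonneg_left ih'
          (show (0 : ℝ) ≤ x * k * (k + 1) ^ (k + 1) by positivity)
        refine le_trans (le_of_eq ?_) (h4.trans (le_of_eq ?_)) <;> ring
      exact le_of_mul_le_mul_right (h3.trans h1) (by positivity)
    exact_mod_cast main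

theorem split_bound (p k : ℕ) (hp : 2 ≤ p) :
    ∀ (j : ℕ) (s : Multiset ℕ), (∀ e ∈ s, 1 ≤ e) → s.card + j = k → k ≤ s.sum →
      (s.map (p ^ ·)).prod * k ^ k ≤ (s.map (p ^ ·)).sum ^ k := by
  intro j
  induction j with
  | zero =>
    intro s _ hc _
    have := amgm (s.map (p ^ ·))
    rwa [Multiset.card_map, show s.card = k by omega] at this
  | succ j ih =>
    intro s h1 hc hsum
    obtain ⟨e, he, he2⟩ : ∃ e ∈ s, 2 ≤ e := by
      by_contra hcon
      have : s.sum ≤ s.card • 1 := Multiset.sum_le_card_nsmul s 1 (fun e he => by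
        by_contra h; exact hcon ⟨e, he, by omega⟩)
      simp only [smul_eq_mul, mul_one] at this
      omega
    obtain ⟨t, rfl⟩ := Multiset.exists_cons_of_mem he
    have key := ih (1 ::ₘ (e - 1) ::ₘ t)
      (fun i hi => by
        rcases Multiset.mem_cons.1 hi with rfl | hi
        · rfl
        rcases Multiset.mem_cons.1 hi with rfl | hi
        · omega
        · exact h1 i (Multiset.mem_cons_of_mem hi))
      (by simp only [Multiset.card_cons] at hc ⊢; omega)
      (by simp only [Multiset.sum_cons] at hsum ⊢; omega)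
    simp only [Multiset.map_cons, Multiset.prod_cons, Multiset.sum_cons] at key ⊢
    obtain ⟨f, rfl⟩ : ∃ f, e = f + 1 := ⟨e - 1, by omega⟩
    simp only [Nat.add_sub_cancel, pow_one] at key
    have hpf : p + p ^ f ≤ p ^ (f + 1) := by
      have h5 : p ≤ p ^ f := Nat.le_self_pow (by omega) p
      calc p + p ^ f ≤ 2 * p ^ f := by omega
        _ ≤ p ^ f * p := by rw [mul_comm (p ^ f)]; exact Nat.mul_le_mul_right _ hp
    calc p ^ (f + 1) * (t.map (p ^ ·)).prod * k ^ k
        = p * (p ^ f * (t.map (p ^ ·)).prod) * k ^ k := by ring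
      _ ≤ (p + (p ^ f + (t.map (p ^ ·)).sum)) ^ k := key
      _ ≤ (p ^ (f + 1) + (t.map (p ^ ·)).sum) ^ k := Nat.pow_le_pow_left (by omega) _

/-- Let p be a prime, Ω a finite set with n ≥ p elements, and A an abelian p-subgroup of the symmetric group on Ω whose elements of order dividing p number p^k (so k is the rank of A). Then |A| · k^k ≤ n^k, that is, |A| ≤ (n/k)^k. -/
theorem result {Ω : Type*} [Fintype Ω] [DecidableEq Ω]
    (p : ℕ) (hp : p.Prime) (hn : p ≤ Fintype.card Ω) (A : Subgroup (Equiv.Perm Ω)) (hA : IsPGroup p A) (hab : IsMulCommutative A)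
    (k : ℕ) (hk : Nat.card {x : A // x ^ p = 1} = p ^ k) :
    Nat.card A * k ^ k ≤ Fintype.card Ω ^ k := by
  classical
  have : Fact p.Prime := ⟨hp⟩
  have hcomm : ∀ x y : A, x * y = y * x := mul_comm'
  -- a p-subgroup without elements of order p is trivial
  have htriv : ∀ x : A, x ≠ 1 → ∃ i : ℕ, x ^ i ≠ 1 ∧ (x ^ i) ^ p = 1 := by
    intro x hx
    obtain ⟨e, he⟩ := (IsPGroup.iff_orderOf.1 hA) x
    rcases e with _ | e
    · rw [pow_zero, orderOf_eq_one_iff] at he; exact absurd he hx
    · refine ⟨p ^ e, fun h => ?_, ?_⟩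
      · have := orderOf_dvd_of_pow_eq_one h
        rw [he, Nat.pow_dvd_pow_iff_le_right hp.one_lt] at this
        omega
      · rw [← pow_mul, ← pow_succ, ← he, pow_orderOf_eq_one]
  -- a minimal set of points separating the elements of order p
  have hex : ∃ B : Finset Ω, ∀ x : A, x ^ p = 1 → (∀ b ∈ B, (x : Equiv.Perm Ω) b = b) → x = 1 :=
    ⟨Finset.univ, fun x _ h => Subtype.ext (Equiv.ext (fun b => h b (Finset.mem_univ b)))⟩
  obtain ⟨B, hB, hBmin⟩ := Set.Finite.exists_minimalFor Finset.card
    {B : Finset Ω | ∀ x : A, x ^ p = 1 → (∀ b ∈ B, (x : Equiv.Perm Ω) b = b) → x = 1}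
    (Set.toFinite _) hex
  have hsep : ∀ b : {b // b ∈ B}, ∃ u : A, u ^ p = 1 ∧
      (∀ c ∈ B, c ≠ b.1 → (u : Equiv.Perm Ω) c = c) ∧ (u : Equiv.Perm Ω) b.1 ≠ b.1 := by
    intro ⟨b, hb⟩
    by_contra hcon
    push Not at hcon
    have hmem : B.erase b ∈ {B : Finset Ω | ∀ x : A, x ^ p = 1 →
        (∀ b ∈ B, (x : Equiv.Perm Ω) b = b) → x = 1} := by
      intro x hx hfix
      refine hB x hx (fun c hc => ?_)
      by_cases hcb : c = b
      · subst hcb
        exact hcon x hx (fun d hd hdc => hfix d (Finset.mem_erase.2 ⟨hdc, hd⟩))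
      · exact hfix c (Finset.mem_erase.2 ⟨hcb, hc⟩)
    have h1 := hBmin hmem (Finset.card_le_card (Finset.erase_subset b B))
    have h2 := Finset.card_erase_lt_of_mem hb
    omega
  choose u hu hufix humove using hsep
  let : CommGroup A := { (inferInstance : Group A) with mul_comm := hcomm }
  -- the stabilizer of the separating set is trivial
  have hbase : ∀ x : A, (∀ b ∈ B, (x : Equiv.Perm Ω) b = b) → x = 1 := by
    intro x hx
    by_contra hne
    obtain ⟨i, hi, hi'⟩ := htriv x hne
    refine hi (hB _ hi' (fun b hb => ?_))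
    rw [SubmonoidClass.coe_pow]
    exact Equiv.Perm.pow_apply_eq_self_of_apply_eq_self (hx b hb) i
  -- at most k points
  have hBk : B.card ≤ k := by
    let Φ : ({b // b ∈ B} → Fin p) → {x : A // x ^ p = 1} := fun c =>
      ⟨∏ b, u b ^ (c b : ℕ), by
        rw [← Finset.prod_pow]
        refine Finset.prod_eq_one (fun b _ => ?_)
        rw [← pow_mul, mul_comm, pow_mul, hu, one_pow]⟩
    have hev : ∀ (c : {b // b ∈ B} → Fin p) (b : {b // b ∈ B}),
        ((Φ c).1 : Equiv.Perm Ω) b.1 = ((u b : Equiv.Perm Ω) ^ (c b : ℕ)) b.1 := by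
      intro c b
      show ((∏ b', u b' ^ (c b' : ℕ) : A) : Equiv.Perm Ω) b.1 = _
      rw [← Finset.mul_prod_erase _ _ (Finset.mem_univ b), Subgroup.coe_mul, Equiv.Perm.mul_apply,
        SubmonoidClass.coe_pow]
      congr 1
      refine Finset.prod_induction (fun b' => u b' ^ (c b' : ℕ))
        (fun y : A => (y : Equiv.Perm Ω) b.1 = b.1) ?_ ?_ ?_
      · intro y z hy hz
        rw [Subgroup.coe_mul, Equiv.Perm.mul_apply, hz, hy]
      · simp
      · intro b' hb'
        rw [SubmonoidClass.coe_pow]
        exact Equiv.Perm.pow_apply_eq_self_of_apply_eq_self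
          (hufix b' b.1 b.2 (fun h => (Finset.mem_erase.1 hb').1 (Subtype.ext h).symm)) _
    have hΦ : Function.Injective Φ := by
      intro c c' h
      funext b
      have h1 := hev c b
      rw [h, hev c' b] at h1
      have huord : orderOf ((u b : A) : Equiv.Perm Ω) = p := by
        refine orderOf_eq_prime ?_ (fun e => humove b (by rw [e]; rfl))
        rw [← SubmonoidClass.coe_pow, hu]; rfl
      by_contra hne
      have hne' : (c b : ℕ) ≠ (c' b : ℕ) := fun e => hne (Fin.ext e)
      -- a nontrivial power of u fixing the point forces u to fix it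
      have key : ∀ i j : ℕ, i < j → j < p →
          ((u b : Equiv.Perm Ω) ^ i) b.1 = ((u b : Equiv.Perm Ω) ^ j) b.1 → False := by
        intro i j hij hj he
        have hfix : ((u b : Equiv.Perm Ω) ^ (j - i)) b.1 = b.1 := by
          apply ((u b : Equiv.Perm Ω) ^ i).injective
          rw [← Equiv.Perm.mul_apply, ← pow_add, Nat.add_sub_cancel' hij.le, he]
        have hcop : (orderOf ((u b : A) : Equiv.Perm Ω)).Coprime (j - i) := by
          rw [huord, hp.coprime_iff_not_dvd]
          exact fun hd => absurd (Nat.le_of_dvd (by omega) hd) (by omega)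
        obtain ⟨m, hm⟩ := exists_pow_eq_self_of_coprime hcop.symm
        apply humove b
        rw [← hm]
        exact Equiv.Perm.pow_apply_eq_self_of_apply_eq_self hfix m
      rcases lt_or_gt_of_ne hne' with hlt | hlt
      · exact key _ _ hlt (c' b).2 h1.symm
      · exact key _ _ hlt (c b).2 h1
    have := Nat.card_le_card_of_injective Φ hΦ
    rw [hk, Nat.card_fun, Nat.card_fin, Nat.card_eq_fintype_card, Fintype.card_coe] at this
    exact (Nat.pow_le_pow_iff_right hp.one_lt).1 this
  -- orbits of the separating points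
  let O : {b // b ∈ B} → Finset Ω := fun b => Finset.univ.image (fun x : A => (x : Equiv.Perm Ω) b.1)
  have hdisj : ∀ b c, b ≠ c → Disjoint (O b) (O c) := by
    intro b c hbc
    rw [Finset.disjoint_left]
    intro z hz hz'
    simp only [O, Finset.mem_image, Finset.mem_univ, true_and] at hz hz'
    obtain ⟨x, rfl⟩ := hz
    obtain ⟨y, hy⟩ := hz'
    -- then `b` is a translate of `c`, so `u b`, fixing `c`, fixes `b`
    apply humove b
    have hb : b.1 = ((x⁻¹ * y : A) : Equiv.Perm Ω) c.1 := by
      rw [Subgroup.coe_mul, Equiv.Perm.mul_apply, hy, Subgroup.coe_inv]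
      simp
    rw [hb, ← Equiv.Perm.mul_apply, ← Subgroup.coe_mul, hcomm, Subgroup.coe_mul,
      Equiv.Perm.mul_apply, hufix b c.1 c.2 (fun h => hbc (Subtype.ext h).symm)]
  have hpow : ∀ b, ∃ e : ℕ, 1 ≤ e ∧ (O b).card = p ^ e := by
    intro b
    let S : Subgroup A :=
      { carrier := {x | (x : Equiv.Perm Ω) b.1 = b.1}
        one_mem' := by simp
        mul_mem' := by
          intro x y hx hy
          simp only [Set.mem_ofPred_eq, Subgroup.coe_mul, Equiv.Perm.mul_apply] at *
          rw [hy, hx]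
        inv_mem' := by
          intro x hx
          simp only [Set.mem_ofPred_eq, Subgroup.coe_inv, Equiv.Perm.inv_def] at *
          rw [Equiv.symm_apply_eq, hx] }
    have hcard : (O b).card = S.index := by
      rw [Subgroup.index]
      rw [← Fintype.card_coe, ← Nat.card_eq_fintype_card]
      symm
      refine Nat.card_eq_of_bijective
        (Quotient.lift (fun x : A => (⟨(x : Equiv.Perm Ω) b.1, Finset.mem_image_of_mem _ (Finset.mem_univ x)⟩ : {z // z ∈ O b})) ?_) ⟨?_, ?_⟩
      · intro x y hxy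
        have hxy' : ((x⁻¹ * y : A) : Equiv.Perm Ω) b.1 = b.1 := QuotientGroup.leftRel_apply.1 hxy
        rw [Subgroup.coe_mul, Subgroup.coe_inv, Equiv.Perm.mul_apply, Equiv.Perm.inv_def,
          Equiv.symm_apply_eq] at hxy'
        exact Subtype.ext hxy'.symm
      · intro q r
        refine Quotient.inductionOn₂ q r (fun x y hxy => Quotient.sound ?_)
        have hxy' : (x : Equiv.Perm Ω) b.1 = (y : Equiv.Perm Ω) b.1 := congrArg Subtype.val hxy
        refine QuotientGroup.leftRel_apply.2 ?_
        show ((x⁻¹ * y : A) : Equiv.Perm Ω) b.1 = b.1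
        rw [Subgroup.coe_mul, Subgroup.coe_inv, Equiv.Perm.mul_apply, ← hxy']
        simp
      · rintro ⟨z, hz⟩
        obtain ⟨x, -, rfl⟩ := Finset.mem_image.1 hz
        exact ⟨Quotient.mk'' x, rfl⟩
    obtain ⟨e, he⟩ := hA.index S
    refine ⟨e, ?_, hcard.trans he⟩
    rcases e with _ | e
    · rw [pow_zero, Subgroup.index_eq_one] at he
      exact absurd (show u b ∈ S by rw [he]; exact Subgroup.mem_top _) (humove b)
    · omega
  choose e he1 hec using hpow
  have hAle : Nat.card A ≤ ∏ b, (O b).card := by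
    have := Nat.card_le_card_of_injective
      (fun (x : A) (b : {b // b ∈ B}) => (⟨(x : Equiv.Perm Ω) b.1,
        Finset.mem_image_of_mem _ (Finset.mem_univ x)⟩ : {z // z ∈ O b})) (by
      intro x y hxy
      rw [← inv_mul_eq_one]
      refine hbase _ (fun c hc => ?_)
      have h3 : (x : Equiv.Perm Ω) c = (y : Equiv.Perm Ω) c :=
        congrArg Subtype.val (congrFun hxy ⟨c, hc⟩)
      rw [Subgroup.coe_mul, Subgroup.coe_inv, Equiv.Perm.mul_apply, ← h3]
      simp)
    simpa [Nat.card_pi, Nat.card_eq_fintype_card] using this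
  have hle : ∑ b, (O b).card ≤ Fintype.card Ω := by
    rw [← Finset.card_biUnion (fun b _ c _ hbc => hdisj b c hbc)]
    exact Finset.card_le_univ _
  have hksum : k ≤ ∑ b, e b := by
    refine (Nat.pow_le_pow_iff_right hp.one_lt).1 ?_
    rw [← hk, ← Finset.prod_pow_eq_pow_sum]
    refine (Finite.card_subtype_le _).trans (hAle.trans (le_of_eq ?_))
    exact Finset.prod_congr rfl (fun b _ => hec b)
  have hsb := split_bound p k hp.two_le (k - B.card) (Finset.univ.val.map e)
    (fun x hx => by obtain ⟨b, -, rfl⟩ := Multiset.mem_map.1 hx; exact he1 b)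
    (by rw [Multiset.card_map, ← Finset.card_def, Finset.card_univ, Fintype.card_coe]; omega) hksum
  rw [Multiset.map_map, ← Finset.prod_eq_multiset_prod, ← Finset.sum_eq_multiset_sum] at hsb
  simp only [Function.comp_apply, ← hec] at hsb
  exact (Nat.mul_le_mul_right _ hAle).trans (hsb.trans (Nat.pow_le_pow_left hle k))

end Cfsg.Agent.S3696
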