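import Cfsg.Statements.S3699
import Cfsg.Agent.Lib.CITThree.Quotient
import Cfsg.Agent.Lib.CITThree.SzGraph
import Cfsg.Agent.Lib.Recog.Coclique
-- import your own Cfsg.Agent.* helpers here

set_option autoImplicit false
open Cfsg

namespace Cfsg.Agent.S3699

/-- Let `q = 2^(2m+1) ≥ 8` and `S = Sz(q)` the Suzuki group. If a finite group `G` has the same prime graph as `S` (same prime divisors of the order; for distinct primes `r, s` an element of order `rs` in one iff in the other), then `G/O₂(G)` is isomorphic to `S`. The known proof uses the classification of finite simple groups. -/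
theorem result {F : Type*} [Field F] [Fintype F] (m : ℕ) (hm : 1 ≤ m)
    (hF : Fintype.card F = 2 ^ (2 * m + 1)) {G : Type*} [Group G] [Finite G]
    (h : ((∀ r : ℕ, r.Prime → (r ∣ Nat.card ↥(Cfsg.Lie.Sz F (2 ^ (m + 1))) ↔ r ∣ Nat.card G)) ∧
      (∀ r s : ℕ, r.Prime → s.Prime → r ≠ s → ((∃ x : ↥(Cfsg.Lie.Sz F (2 ^ (m + 1))), orderOf x = r * s) ↔ (∃ y : G, orderOf y = r * s))))) :
    Nonempty (G ⧸ Cfsg.pCore 2 G ≃* ↥(Cfsg.Lie.Sz F (2 ^ (m + 1)))) := by
  classical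
  obtain ⟨hd, he⟩ := h
  have hcard := CfsgLib.CITThree.SzGraph.card_eq (F := F) hF
  obtain ⟨q, hq⟩ : ∃ q, q = 2 ^ (2 * m + 1) := ⟨_, rfl⟩
  rw [← hq] at hcard
  have hq8 : 8 ≤ q := hq ▸ (show 8 ≤ 2 ^ 3 from le_rfl).trans (Nat.pow_le_pow_right (by norm_num) (by omega))
  have hqe : Even q := hq ▸ even_two.pow_of_ne_zero (by omega)
  obtain ⟨r, hr, hrd⟩ := Nat.exists_prime_and_dvd (n := q - 1) (by omega)
  obtain ⟨s, hs, hsd⟩ := Nat.exists_prime_and_dvd (n := q ^ 2 + 1) (by nlinarith)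
  have hr2 : r ≠ 2 := fun e => by
    rw [e] at hrd
    obtain ⟨c, hc⟩ := hqe
    omega
  have hs2 : s ≠ 2 := fun e => by
    rw [e] at hsd
    obtain ⟨c, hc⟩ := (Nat.even_pow.2 ⟨hqe, two_ne_zero⟩ : Even (q ^ 2))
    omega
  have hrS : r ∣ Nat.card ↥(Cfsg.Lie.Sz F (2 ^ (m + 1))) :=
    hcard ▸ (hrd.trans (dvd_mul_left _ _)).trans (dvd_mul_right _ _)
  have hsS : s ∣ Nat.card ↥(Cfsg.Lie.Sz F (2 ^ (m + 1))) := hcard ▸ hsd.trans (dvd_mul_left _ _)
  have h2S : 2 ∣ Nat.card ↥(Cfsg.Lie.Sz F (2 ^ (m + 1))) :=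
    hcard ▸ (((hqe.two_dvd).trans (dvd_pow_self q two_ne_zero)).trans (dvd_mul_right _ _)).trans
      (dvd_mul_right _ _)
  have hiso : ∀ t : ℕ, t.Prime → t ≠ 2 → ∀ x : G, orderOf x ≠ 2 * t := by
    intro t ht ht2 x hx
    obtain ⟨y, hy⟩ := (he 2 t Nat.prime_two ht (Ne.symm ht2)).2 ⟨x, hx⟩
    exact CfsgLib.CITThree.SzGraph.two_isolated hF hm ht ht2 y hy
  have hrs : r ≠ s := fun e => by
    subst e
    have h1 : r ∣ (q - 1) * (q + 1) := hrd.mul_right _
    rw [show (q - 1) * (q + 1) = q ^ 2 - 1 by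
      obtain ⟨c, rfl⟩ : ∃ c, q = c + 1 := ⟨q - 1, by omega⟩
      rw [Nat.add_sub_cancel, show (c + 1) ^ 2 = c * (c + 1 + 1) + 1 by ring, Nat.add_sub_cancel]] at h1
    have h2 := Nat.dvd_sub hsd h1
    rw [show q ^ 2 + 1 - (q ^ 2 - 1) = 2 by have := Nat.one_le_pow 2 q (by omega); omega] at h2
    exact hr2 ((Nat.prime_dvd_prime_iff_eq hr Nat.prime_two).1 h2)
  have hpair : ¬ ∃ x : G, orderOf x = r * s := by
    intro hx
    obtain ⟨y, hy⟩ := (he r s hr hs hrs).2 hx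
    exact CfsgLib.CITThree.SzGraph.pair hF hm hr hs (hq ▸ hrd) (hq ▸ hsd) y hy
  have hns : ¬ Group.IsSolvable G := by
    refine CfsgLib.Recog.Coclique.not_isSolvable_of_coclique (S := {2, r, s}) ⟨?_, ?_⟩ ?_ ?_
    · simp only [Finset.mem_insert, Finset.mem_singleton]
      rintro t (rfl | rfl | rfl) <;> first | exact Nat.prime_two | assumption
    · simp only [Finset.mem_insert, Finset.mem_singleton]
      rintro a (rfl | rfl | rfl) b (rfl | rfl | rfl) hab ⟨x, hx⟩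
      all_goals first
        | exact hab rfl
        | exact hiso _ hr hr2 x hx
        | exact hiso _ hs hs2 x hx
        | exact hiso _ hr hr2 x (hx.trans (mul_comm _ _))
        | exact hiso _ hs hs2 x (hx.trans (mul_comm _ _))
        | exact hpair ⟨x, hx⟩
        | exact hpair ⟨x, hx.trans (mul_comm _ _)⟩
    · rw [Finset.card_insert_of_notMem (by simp [Ne.symm hr2, Ne.symm hs2]), Finset.card_pair hrs]
    · simp only [Finset.mem_insert, Finset.mem_singleton]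
      rintro t (rfl | rfl | rfl)
      exacts [(hd 2 Nat.prime_two).1 h2S, (hd _ hr).1 hrS, (hd _ hs).1 hsS]
  have h3 : ¬ 3 ∣ Nat.card G := fun e =>
    CfsgLib.CITThree.SzGraph.three hF hm ((hd 3 Nat.prime_three).2 e)
  obtain ⟨K, iK, fK, k, hk, hK, ⟨f⟩⟩ :=
    CfsgLib.CITThree.isoSuzuki_quotient h3 ((hd 2 Nat.prime_two).1 h2S) hiso hns
  have hqcard : Nat.card (G ⧸ Cfsg.pCore 2 G) =
      (2 ^ (2 * k + 1)) ^ 2 * (2 ^ (2 * k + 1) - 1) * ((2 ^ (2 * k + 1)) ^ 2 + 1) :=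
    (Nat.card_congr f.toEquiv).trans (CfsgLib.CITThree.SzGraph.card_eq hK)
  have : Fact (Nat.Prime 2) := ⟨Nat.prime_two⟩
  have hmk : m = k := CfsgLib.CITThree.SzGraph.param_eq fun t ht => by
    rw [← hqcard, ← hq, ← hcard, hd t ht, Subgroup.card_eq_card_quotient_mul_card_subgroup (Cfsg.pCore 2 G),
      ht.dvd_mul]
    refine ⟨fun e => e.elim id fun e' => ?_, Or.inl⟩
    obtain ⟨j, hj⟩ := (CfsgLib.PCore.pCore_isPGroup (p := 2) (G := G)).exists_card_eq
    rw [hj] at e'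
    obtain rfl := (Nat.prime_dvd_prime_iff_eq ht Nat.prime_two).1 (ht.dvd_of_dvd_pow e')
    rw [hqcard]
    exact ((dvd_pow_self 2 (Nat.succ_ne_zero _)).trans (dvd_pow_self _ two_ne_zero)).trans
      (dvd_mul_right _ _) |>.trans (dvd_mul_right _ _)
  subst hmk
  obtain ⟨g⟩ := CfsgLib.CITThree.SzGraph.nonempty_equiv hF hK
  exact ⟨f.trans g⟩
end Cfsg.Agent.S3699
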