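import Cfsg.Statements.S3703
import Cfsg.Agent.Lib.Frobenius.Basic
import Cfsg.Agent.Lib.Coprime.Action
import Cfsg.Agent.Lib.Coprime.Commutator
import Mathlib.GroupTheory.Abelianization.Defs

set_option autoImplicit false
open Cfsg

namespace Cfsg.Agent.S3703

/-- In a fixed point free action of a cyclic group on a group `Q` acting nontrivially on an abelian
group of coprime order, the norm of the cyclic group is not trivial. -/
theorem exists_norm_ne_one {V A : Type*} [CommGroup V] [Group A] (φ : A →* MulAut V)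
    (Q : Subgroup A) [Finite Q] [Finite V] (x : A) (h : ℕ) (hh : 0 < h)
    (hxQ : ∀ q ∈ Q, x * q * x⁻¹ ∈ Q)
    (hfpf : ∀ i, 0 < i → i < h → ∀ q ∈ Q, Commute q (x ^ i) → q = 1)
    (hcop : (Nat.card Q).Coprime (Nat.card V))
    (hnt : ∃ q ∈ Q, ∃ v, φ q v ≠ v) :
    ∃ w : V, ∏ i ∈ Finset.range h, φ (x ^ i) w ≠ 1 := by
  classical
  have := Fintype.ofFinite Q
  by_contra hcon
  push Not at hcon
  obtain ⟨a, ha, v₀, hv₀⟩ := hnt
  -- an element whose norm over Q is trivial but which is not trivial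
  let S : V := ∏ q : Q, φ q v₀
  have hS : ∀ b ∈ Q, φ b S = S := by
    intro b hb
    simp only [S, map_prod, ← MulAut.mul_apply, ← map_mul]
    exact Fintype.prod_equiv (Equiv.mulLeft (⟨b, hb⟩ : Q)) _ _ (fun q => rfl)
  set v : V := v₀ ^ Nat.card Q * S⁻¹ with hv
  have hpow : Function.Injective fun u : V => u ^ Nat.card Q :=
    (powCoprime hcop.symm).injective
  have hvQ : ∏ q : Q, φ q v = 1 := by
    simp only [hv, map_mul, map_pow, map_inv, Finset.prod_mul_distrib, Finset.prod_pow,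
      Finset.prod_inv_distrib]
    rw [show ∏ q : Q, φ q S = ∏ _q : Q, S from Finset.prod_congr rfl (fun q _ => hS q q.2),
      Finset.prod_const, Finset.card_univ, ← Nat.card_eq_fintype_card, mul_inv_cancel]
  have hv1 : v ≠ 1 := by
    intro e
    rw [hv, mul_inv_eq_one] at e
    apply hv₀
    apply hpow
    show (φ a v₀) ^ Nat.card Q = v₀ ^ Nat.card Q
    rw [← map_pow, e]
    exact hS a ha
  -- norms of the conjugates of the cyclic group
  have hxi : ∀ (i : ℕ), ∀ q ∈ Q, x ^ i * q * (x ^ i)⁻¹ ∈ Q := by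
    intro i
    induction i with
    | zero => intro q hq; simpa using hq
    | succ i ih =>
      intro q hq
      have := hxQ _ (ih q hq)
      simpa [pow_succ', mul_assoc] using this
  let f : ℕ → Q → Q := fun i b =>
    ⟨(b : A) * (x ^ i * (b : A)⁻¹ * (x ^ i)⁻¹), Q.mul_mem b.2 (hxi i _ (Q.inv_mem b.2))⟩
  have hfix : ∀ i : ℕ, ∏ q : Q, φ q (φ (x ^ i) v) = 1 := by
    intro i
    let e : Q → Q := fun q => ⟨x ^ i * q * (x ^ i)⁻¹, hxi i q q.2⟩
    have he : Function.Bijective e := Finite.injective_iff_bijective.1 fun q q' hq => by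
      apply Subtype.ext
      have := congrArg Subtype.val hq
      simpa [e] using this
    rw [← Fintype.prod_bijective e he (fun q => φ (x ^ i) (φ q v)) _ (fun q => by
      simp [e, map_mul])]
    rw [← map_prod, hvQ, map_one]
  have hterm : ∀ i ∈ Finset.range h, i ≠ 0 →
      ∏ b : Q, φ b (φ (x ^ i) (φ (b : A)⁻¹ v)) = 1 := by
    intro i hi hi0
    have hinj : Function.Injective (f i) := by
      intro b b' hbb
      have e := congrArg Subtype.val hbb
      simp only [f, ← mul_assoc] at e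
      have e2 : (b : A) * x ^ i * (b : A)⁻¹ = (b' : A) * x ^ i * (b' : A)⁻¹ := mul_right_cancel e
      have h3 : Commute ((b' : A)⁻¹ * b) (x ^ i) := by
        have e3 := congrArg (fun z => (b' : A)⁻¹ * z * b) e2
        simp only [mul_assoc, inv_mul_cancel, mul_one, inv_mul_cancel_left] at e3
        show (b' : A)⁻¹ * b * x ^ i = x ^ i * ((b' : A)⁻¹ * b)
        rw [mul_assoc, e3]
      have h4 := hfpf i (Nat.pos_of_ne_zero hi0) (Finset.mem_range.1 hi) _
        (Q.mul_mem (Q.inv_mem b'.2) b.2) h3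
      exact Subtype.ext (inv_mul_eq_one.1 h4).symm
    rw [← hfix i]
    exact Fintype.prod_bijective (f i) (Finite.injective_iff_bijective.1 hinj) _ _
      (fun b => by simp [f, map_mul])
  have htot : ∏ i ∈ Finset.range h, ∏ b : Q, φ b (φ (x ^ i) (φ (b : A)⁻¹ v)) = v ^ Nat.card Q := by
    rw [← Finset.mul_prod_erase _ _ (Finset.mem_range.2 hh),
      Finset.prod_eq_one (fun i hi => hterm i (Finset.mem_erase.1 hi).2 (Finset.mem_erase.1 hi).1),
      mul_one]
    simp only [pow_zero, map_one, MulAut.one_apply]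
    rw [Finset.prod_congr rfl (fun (b : Q) _ => show φ (b : A) (φ (b : A)⁻¹ v) = v by
      rw [← MulAut.mul_apply, ← map_mul, mul_inv_cancel, map_one, MulAut.one_apply]),
      Finset.prod_const, Finset.card_univ, Nat.card_eq_fintype_card]
  rw [Finset.prod_comm] at htot
  have : ∀ b : Q, ∏ i ∈ Finset.range h, φ b (φ (x ^ i) (φ (b : A)⁻¹ v)) = 1 := fun b => by
    rw [← map_prod, hcon, map_one]
  simp only [this, Finset.prod_const_one] at htot
  exact hv1 (hpow (show v ^ Nat.card Q = 1 ^ Nat.card Q by rw [one_pow]; exact htot.symm))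

variable {G : Type*} [Group G]

/-- An element mapping to order `h` with nontrivial `h`-th power gives order `r * h`. -/
theorem exists_prime_order_of_pow_ne_one [Finite G] (N : Subgroup G) [N.Normal] {y : G} {h : ℕ}
    (hy : orderOf (y : G ⧸ N) = h) (hne : y ^ h ≠ 1) :
    ∃ p : ℕ, p.Prime ∧ p ∣ Nat.card N ∧ ∃ g : G, orderOf g = p * h := by
  have hyN : y ^ h ∈ N := by
    rw [← QuotientGroup.eq_one_iff, QuotientGroup.mk_pow, ← hy]
    exact pow_orderOf_eq_one _
  obtain ⟨r, hr, hrd⟩ := Nat.exists_prime_and_dvd (n := orderOf (y ^ h))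
    (fun e => hne (orderOf_eq_one_iff.1 e))
  refine ⟨r, hr, hrd.trans ?_, ?_⟩
  · rw [← Subgroup.orderOf_mk (H := N) _ hyN]
    exact orderOf_dvd_natCard _
  have hdvd : h ∣ orderOf y := hy ▸ orderOf_map_dvd (QuotientGroup.mk' N) y
  have h0 : h ≠ 0 := hy ▸ (orderOf_pos (y : G ⧸ N)).ne'
  rw [orderOf_pow_of_dvd h0 hdvd] at hrd
  have : r * h ∣ orderOf y := by
    obtain ⟨m, hm⟩ := hdvd
    rw [hm, Nat.mul_div_cancel_left _ (Nat.pos_of_ne_zero h0)] at hrd
    rw [hm, mul_comm h]
    exact Nat.mul_dvd_mul hrd dvd_rfl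
  exact ⟨y ^ (orderOf y / (r * h)), orderOf_pow_orderOf_div (orderOf_pos y).ne' this⟩

/-- The coset representatives normalizing a coprime subgroup which acts nontrivially. -/
theorem core [Finite G] (N : Subgroup G) [N.Normal] (Q : Subgroup G) {h : ℕ} (x : G)
    (hcop : (Nat.card Q).Coprime (Nat.card N)) (hQs : Group.IsSolvable Q)
    (hnot : ¬ Q ≤ Subgroup.centralizer (N : Set G))
    (hxQ : x ∈ Subgroup.normalizer (Q : Set G)) (hord : orderOf (x : G ⧸ N) = h)
    (hfpf : ∀ q ∈ Q, ∀ i : ℕ, 0 < i → i < h →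
      Commute (q : G ⧸ N) ((x : G ⧸ N) ^ i) → q = 1) :
    ∃ p : ℕ, p.Prime ∧ p ∣ Nat.card N ∧ ∃ g : G, orderOf g = p * h := by
  classical
  have hQN : Q ≤ Subgroup.normalizer (N : Set G) := by rw [Subgroup.normalizer_eq_top]; exact le_top
  -- a Sylow subgroup of N not centralized by Q, normalized by Q
  obtain ⟨p, hp, P, hP⟩ : ∃ (p : ℕ) (_ : Fact p.Prime) (P : Sylow p N),
      Q ≤ Subgroup.normalizer ((P : Subgroup N).map N.subtype : Set G) ∧
      ¬ Q ≤ Subgroup.centralizer (((P : Subgroup N).map N.subtype : Subgroup G) : Set G) := by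
    by_contra hcon
    push Not at hcon
    apply hnot
    rw [Subgroup.le_centralizer_iff]
    have hdvd : Nat.card N ∣ Nat.card (N ⊓ Subgroup.centralizer (Q : Set G) : Subgroup G) := by
      rw [← Nat.factorization_le_iff_dvd Nat.card_pos.ne' Nat.card_pos.ne']
      intro r
      by_cases hr : r.Prime
      · have := Fact.mk hr
        obtain ⟨R, hR⟩ := CfsgLib.Coprime.exists_invariant_sylow Q N hQN hcop (Or.inl hQs) r
        have h1 : r ^ (Nat.card N).factorization r ∣
            Nat.card (N ⊓ Subgroup.centralizer (Q : Set G) : Subgroup G) := by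
          rw [← R.card_eq_multiplicity, ← Subgroup.card_subtype N]
          exact Subgroup.card_dvd_of_le (le_inf (Subgroup.map_subtype_le _)
            (Subgroup.le_centralizer_iff.1 (hcon r this R hR)))
        exact (hr.pow_dvd_iff_le_factorization Nat.card_pos.ne').1 h1
      · simp [Nat.factorization_eq_zero_of_not_prime _ hr]
    have he : N ⊓ Subgroup.centralizer (Q : Set G) = N :=
      Subgroup.eq_of_le_of_card_ge inf_le_left (Nat.le_of_dvd Nat.card_pos hdvd)
    exact he ▸ inf_le_right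
  obtain ⟨hPn, hPc⟩ := hP
  -- correct x inside C_N(Q) so that it normalizes P
  obtain ⟨P', hP'⟩ : ∃ P' : Sylow p N, P' = MulAut.conjNormal (H := N) x • P := ⟨_, rfl⟩
  have hmemP' : ∀ z : G, z ∈ (P' : Subgroup N).map N.subtype ↔
      x⁻¹ * z * x ∈ (P : Subgroup N).map N.subtype := by
    intro z
    rw [hP', Subgroup.mem_map, Subgroup.mem_map]
    constructor
    · rintro ⟨_, ⟨w, hw, rfl⟩, rfl⟩
      exact ⟨w, hw, by
        show (w : G) = x⁻¹ * (((MulAut.conjNormal (H := N) x) w : N) : G) * x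
        rw [MulAut.conjNormal_apply]; group⟩
    · rintro ⟨w, hw, hwz⟩
      refine ⟨MulAut.conjNormal (H := N) x w, ⟨w, hw, rfl⟩, ?_⟩
      show ((MulAut.conjNormal (H := N) x w : N) : G) = z
      rw [MulAut.conjNormal_apply, show (w : G) = x⁻¹ * z * x from hwz]
      group
  have hP'n : Q ≤ Subgroup.normalizer ((P' : Subgroup N).map N.subtype : Set G) := by
    rw [Subgroup.le_normalizer_iff]
    intro q hq z hz
    rw [hmemP'] at hz ⊢
    have hq' : x⁻¹ * q * x ∈ Q := CfsgLib.Coprime.mem_normalizer_conj' hxQ hq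
    have := CfsgLib.Coprime.mem_normalizer_conj (hPn hq') hz
    simpa [mul_assoc] using this
  obtain ⟨c, hcQ, hc⟩ := CfsgLib.Coprime.invariant_sylow_conj Q N hQN hcop (Or.inl hQs) p P' P
    hP'n hPn
  set y : G := (c : G) * x with hy
  have hymk : (y : G ⧸ N) = (x : G ⧸ N) := by
    rw [hy, QuotientGroup.mk_mul, (QuotientGroup.eq_one_iff _).2 c.2, one_mul]
  have hyQ : y ∈ Subgroup.normalizer (Q : Set G) := by
    refine Subgroup.mul_mem _ ?_ hxQ
    exact Subgroup.centralizer_le_normalizer _ hcQ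
  have hyP : ∀ z ∈ (P : Subgroup N).map N.subtype, y * z * y⁻¹ ∈ (P : Subgroup N).map N.subtype := by
    intro z hz
    rw [← hc, CfsgLib.Coprime.mem_map_subtype_smul, hmemP']
    simpa [hy, mul_assoc] using hz
  by_cases hy1 : y ^ h = 1
  swap
  · exact exists_prime_order_of_pow_ne_one N (hymk.symm ▸ hord) hy1
  -- a minimal invariant p-subgroup not centralized by Q
  set PG := (P : Subgroup N).map N.subtype with hPG
  obtain ⟨M, ⟨hMp, hMN, hMQ, hMy, hMc⟩, hMmin⟩ := Set.Finite.exists_minimalFor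
    (fun M : Subgroup G => Nat.card M)
    {M : Subgroup G | IsPGroup p M ∧ M ≤ N ∧ Q ≤ Subgroup.normalizer (M : Set G) ∧
      y ∈ Subgroup.normalizer (M : Set G) ∧ ¬ Q ≤ Subgroup.centralizer (M : Set G)}
    (Set.toFinite _)
    ⟨PG, P.isPGroup'.map _, Subgroup.map_subtype_le _, hPn,
      CfsgLib.Coprime.mem_normalizer_of_forall_conj hyP, hPc⟩
  set D : Subgroup G := ⁅M, M⁆ with hD
  have hDM : D ≤ M := M.commutator_le_self
  have hMne : M ≠ ⊥ := by
    rintro rfl
    refine hMc fun q _ => Subgroup.mem_centralizer_iff.2 fun z hz => ?_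
    rw [SetLike.mem_coe, Subgroup.mem_bot] at hz
    simp [hz]
  have hMs : Group.IsSolvable M := by
    have := hMp.isNilpotent
    infer_instance
  have hDlt : Nat.card D < Nat.card M := by
    have := M.nontrivial_iff_ne_bot.2 hMne
    by_contra hge
    have he : D = M := Subgroup.eq_of_le_of_card_ge hDM (not_lt.1 hge)
    rw [hD, ← Subgroup.map_subtype_commutator] at he
    refine (Group.IsSolvable.commutator_lt_top_of_nontrivial M).ne
      (Subgroup.map_injective M.subtype_injective ?_)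
    rw [he, ← MonoidHom.range_eq_map, Subgroup.range_subtype]
  have hDnorm : ∀ g ∈ Subgroup.normalizer (M : Set G), g ∈ Subgroup.normalizer (D : Set G) := by
    intro g hg
    rw [Subgroup.mem_normalizer_iff_map_conj_eq, hD, Subgroup.map_commutator,
      Subgroup.mem_normalizer_iff_map_conj_eq.1 hg]
  have hDQ : Q ≤ Subgroup.centralizer (D : Set G) := by
    by_contra hDc
    have := hMmin ⟨hMp.to_le hDM, hDM.trans hMN, fun q hq => hDnorm q (hMQ hq), hDnorm y hMy,
      hDc⟩ hDlt.le
    simp only at this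
    omega
  -- the action on the abelianization
  let A := Subgroup.normalizer (M : Set G)
  let ψ : A →* MulAut (Abelianization M) :=
    { toFun := fun g => (M.normalizerMonoidHom g).abelianizationCongr
      map_one' := by
        ext z
        induction z using QuotientGroup.induction_on with
        | _ z => rw [map_one]; rfl
      map_mul' := fun g k => by
        ext z
        induction z using QuotientGroup.induction_on with
        | _ z => rw [map_mul]; rfl }
  have hψ : ∀ (g : A) (m : M), ψ g (Abelianization.of m) =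
      Abelianization.of (M.normalizerMonoidHom g m) := fun g m => rfl
  have hval : ∀ (g : A) (m : M), ((M.normalizerMonoidHom g m : M) : G) = g * m * (g : G)⁻¹ :=
    fun g m => rfl
  have hQa : Nat.card (Q.subgroupOf A) = Nat.card Q :=
    Nat.card_congr (Subgroup.subgroupOfEquivOfLe hMQ).toEquiv
  have hcopV : (Nat.card (Q.subgroupOf A)).Coprime (Nat.card (Abelianization M)) := by
    rw [hQa]
    exact hcop.coprime_dvd_right ((Subgroup.card_quotient_dvd_card _).trans (Subgroup.card_dvd_of_le hMN))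
  have hpow0 : 0 < h := hord ▸ orderOf_pos (x : G ⧸ N)
  have hQyA : ∀ q ∈ Q.subgroupOf A, (⟨y, hMy⟩ : A) * q * (⟨y, hMy⟩ : A)⁻¹ ∈ Q.subgroupOf A := by
    intro q hq
    exact CfsgLib.Coprime.mem_normalizer_conj (H := Q) (a := y) (x := (q : G)) hyQ hq
  have hQfpf : ∀ i, 0 < i → i < h → ∀ q ∈ Q.subgroupOf A,
      Commute q ((⟨y, hMy⟩ : A) ^ i) → q = 1 := by
    intro i hi hih q hq hc
    refine Subtype.ext (hfpf q hq i hi hih ?_)
    rw [← hymk]
    have := (hc.map A.subtype).map (QuotientGroup.mk' N)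
    simpa using this
  have hnt : ∃ q ∈ Q.subgroupOf A, ∃ v, ψ q v ≠ v := by
    by_contra hcon
    push Not at hcon
    refine hMc (CfsgLib.Coprime.le_centralizer_of_trivial_on_series Q M hMQ
      (hcop.coprime_dvd_right (Subgroup.card_dvd_of_le hMN)) (Or.inl hQs) D hDM hDQ ?_)
    intro a ha k hk
    have h1 := hcon ⟨a, hMQ ha⟩ ha (Abelianization.of ⟨k, hk⟩)
    rw [hψ, ← inv_mul_eq_one, ← map_inv, ← map_mul] at h1
    have h2 : (M.normalizerMonoidHom ⟨a, hMQ ha⟩ ⟨k, hk⟩)⁻¹ * ⟨k, hk⟩ ∈ commutator M := by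
      rw [← Abelianization.ker_of, MonoidHom.mem_ker]; exact h1
    have h3 := Subgroup.mem_map_of_mem M.subtype ((commutator M).inv_mem h2)
    rw [Subgroup.map_subtype_commutator, ← hD] at h3
    simpa [hval, mul_assoc] using h3
  obtain ⟨w, hw⟩ := exists_norm_ne_one ψ (Q.subgroupOf A) ⟨y, hMy⟩ h hpow0 hQyA hQfpf hcopV hnt
  obtain ⟨m, rfl⟩ := QuotientGroup.mk_surjective w
  -- the twisted element
  have hprod : ∀ n : ℕ, ∃ c : M, ((m : G) * y) ^ n = c * y ^ n ∧
      Abelianization.of c = ∏ i ∈ Finset.range n, ψ ((⟨y, hMy⟩ : A) ^ i) (Abelianization.of m) := by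
    intro n
    induction n with
    | zero => exact ⟨1, by simp, by simp⟩
    | succ n ih =>
      obtain ⟨c, hc1, hc2⟩ := ih
      refine ⟨c * M.normalizerMonoidHom ((⟨y, hMy⟩ : A) ^ n) m, ?_, ?_⟩
      · rw [pow_succ, hc1, Subgroup.coe_mul, hval, pow_succ, SubmonoidClass.coe_pow]
        group
      · rw [map_mul, hc2, Finset.prod_range_succ, hψ]
  have hmy : (((m : G) * y : G) : G ⧸ N) = (x : G ⧸ N) := by
    rw [QuotientGroup.mk_mul, (QuotientGroup.eq_one_iff _).2 (hMN m.2), one_mul, hymk]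
  refine exists_prime_order_of_pow_ne_one N (hmy.symm ▸ hord) fun hone => hw ?_
  obtain ⟨c, hc1, hc2⟩ := hprod h
  rw [hone, hy1, mul_one] at hc1
  have hc0 : c = 1 := Subtype.ext hc1.symm
  rw [hc0, map_one] at hc2
  exact hc2.symm

/-- Let N be a normal subgroup of the finite group G such that G/N is a Frobenius group with kernel F and cyclic complement H, where the order of F is coprime to that of N and F is not contained in the image of C_G(N) in G/N. Then G has an element of order p·#H for some prime p dividing the order of N. (A standard tool in recognising groups by their element orders.) -/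
theorem result {G : Type*} [Group G] [Finite G] (N : Subgroup G) [N.Normal]
    (Fb Hb : Subgroup (G ⧸ N)) [Fb.Normal] (hHb : Cfsg.IsFrobeniusComplement Hb) (hker : Cfsg.frobeniusKernel Hb = (Fb : Set (G ⧸ N)))
    (hcyc : IsCyclic Hb) (hcop : (Nat.card Fb).Coprime (Nat.card N))
    (hnot : ¬ Fb ≤ (Subgroup.centralizer (N : Set G)).map (QuotientGroup.mk' N)) :
    ∃ p : ℕ, p.Prime ∧ p ∣ Nat.card N ∧ ∃ g : G, orderOf g = p * Nat.card Hb := by
  classical
  let π := QuotientGroup.mk' N
  let K := Fb.comap π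
  have hKn : K.Normal := inferInstance
  have hKcard : Nat.card K = Nat.card N * Nat.card Fb := by
    exact QuotientGroup.card_preimage_mk N (Fb : Set (G ⧸ N))
  -- a Sylow subgroup of K outside N C(N)
  obtain ⟨q, hq, hqF, Q, hQnot⟩ : ∃ (q : ℕ) (_ : Fact q.Prime) (_ : q ∣ Nat.card Fb) (Q : Sylow q K),
      ¬ (Q : Subgroup K).map K.subtype ≤ Subgroup.centralizer (N : Set G) := by
    by_contra hcon
    push Not at hcon
    apply hnot
    have hle : K ≤ N ⊔ Subgroup.centralizer (N : Set G) := by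
      refine CfsgLib.Coprime.le_of_forall_sylow_le fun r hr Q => ?_
      have := Fact.mk hr
      by_cases hrF : r ∣ Nat.card Fb
      · exact (hcon r this hrF Q).trans le_sup_right
      · refine le_trans ?_ le_sup_left
        intro z hz
        obtain ⟨k, hk, rfl⟩ := hz
        rw [← QuotientGroup.eq_one_iff, ← orderOf_eq_one_iff]
        obtain ⟨e, he⟩ := IsPGroup.iff_orderOf.1 Q.isPGroup' ⟨k, hk⟩
        have h1 : orderOf ((k : G) : G ⧸ N) ∣ r ^ e := by
          rw [← he, Subgroup.orderOf_mk, ← Subgroup.orderOf_coe]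
          exact orderOf_map_dvd π (k : G)
        have h2 : orderOf ((k : G) : G ⧸ N) ∣ Nat.card Fb := by
          exact Subgroup.orderOf_mk (H := Fb) (π (k : G)) k.2 ▸ orderOf_dvd_natCard _
        exact Nat.eq_one_of_dvd_coprimes
          ((Nat.Prime.coprime_iff_not_dvd hr).2 hrF |>.pow_left e) h1 h2
    intro f hf
    obtain ⟨k, rfl⟩ := QuotientGroup.mk'_surjective N f
    obtain ⟨a, ha, c, hc, rfl⟩ := Subgroup.mem_sup_of_normal_left.1 (hle hf)
    exact ⟨c, hc, by simp [(QuotientGroup.eq_one_iff a).2 ha]⟩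
  set QG := (Q : Subgroup K).map K.subtype with hQG
  have hqN : ¬ q ∣ Nat.card N := fun h =>
    hq.out.ne_one (Nat.eq_one_of_dvd_coprimes hcop hqF h)
  have hQp : IsPGroup q QG := Q.isPGroup'.map _
  have hcopQ : (Nat.card QG).Coprime (Nat.card N) := by
    obtain ⟨e, he⟩ := IsPGroup.iff_card.1 hQp
    rw [he]
    exact ((Nat.Prime.coprime_iff_not_dvd hq.out).2 hqN).pow_left e
  -- a lift of a generator normalizing Q
  obtain ⟨⟨b, hb⟩, hbgen⟩ := hcyc.exists_generator
  obtain ⟨g, rfl⟩ := QuotientGroup.mk_surjective b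
  have hbord : orderOf (g : G ⧸ N) = Nat.card Hb := by
    rw [← Subgroup.orderOf_mk (H := Hb) _ hb, orderOf_eq_card_of_forall_mem_zpowers hbgen]
  have hfrat := Sylow.normalizer_sup_eq_top Q
  have hg : g ∈ (Subgroup.normalizer (QG : Set G) : Subgroup G) ⊔ K := by
    rw [hQG, hfrat]; exact Subgroup.mem_top g
  obtain ⟨n, hn, k, hk, hnk⟩ := Subgroup.mem_sup_of_normal_right.1 hg
  have hFHb : Fb ⊓ Hb = ⊥ := by
    rw [Subgroup.eq_bot_iff_forall]
    rintro z ⟨hz, hz'⟩
    have : z ∈ Cfsg.frobeniusKernel Hb := hker ▸ hz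
    rcases this with h | h
    · exact h
    · exact absurd (by simpa using hz') (h 1)
  have hkF : ((k : G) : G ⧸ N) ∈ Fb := hk
  -- the image of n has order |Hb|
  have hnimg : (n : G ⧸ N) = (g : G ⧸ N) * (k : G ⧸ N)⁻¹ := by
    rw [← hnk, QuotientGroup.mk_mul, mul_inv_cancel_right]
  have hmod : ∀ d : ℕ, (((n : G ⧸ N) ^ d)⁻¹ * (g : G ⧸ N) ^ d) ∈ Fb := by
    intro d
    rw [← QuotientGroup.eq, QuotientGroup.mk_pow, QuotientGroup.mk_pow, hnimg, QuotientGroup.mk_mul,
      QuotientGroup.mk_inv, (QuotientGroup.eq_one_iff _).2 hkF, inv_one, mul_one]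
  have hdvd1 : Nat.card Hb ∣ orderOf (n : G ⧸ N) := by
    have h1 := hmod (orderOf (n : G ⧸ N))
    rw [pow_orderOf_eq_one, inv_one, one_mul] at h1
    have h2 : (g : G ⧸ N) ^ orderOf (n : G ⧸ N) ∈ Fb ⊓ Hb := ⟨h1, Hb.pow_mem hb _⟩
    rw [hFHb, Subgroup.mem_bot] at h2
    rw [← hbord]
    exact orderOf_dvd_of_pow_eq_one h2
  have hHb1 : 1 < Nat.card Hb := Hb.one_lt_card_iff_ne_bot.2 hHb.1
  have hnF : (n : G ⧸ N) ∉ Fb := by
    intro hnF
    have h2 : (g : G ⧸ N) ∈ Fb ⊓ Hb := ⟨by
      rw [← hnk, QuotientGroup.mk_mul]; exact Fb.mul_mem hnF hkF, hb⟩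
    rw [hFHb, Subgroup.mem_bot] at h2
    rw [h2, orderOf_one] at hbord
    omega
  obtain ⟨a, ha⟩ : ∃ a : G ⧸ N, a⁻¹ * (n : G ⧸ N) * a ∈ Hb := by
    by_contra hcon
    push Not at hcon
    refine hnF ?_
    rw [← SetLike.mem_coe, ← hker]
    exact Or.inr fun a h => hcon a (CfsgLib.Frobenius.mem_conj_smul_iff.1 h)
  have hnord : orderOf (n : G ⧸ N) = Nat.card Hb :=
    Nat.dvd_antisymm (CfsgLib.Frobenius.orderOf_dvd_card_of_conj_mem ha) hdvd1
  refine core N QG n hcopQ ?_ hQnot hn hnord ?_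
  · have := hQp.isNilpotent
    infer_instance
  · intro z hz i hi hih hc
    have hzK : z ∈ K := Subgroup.map_subtype_le _ hz
    have hzF : (z : G ⧸ N) ∈ Fb := hzK
    have hni : (n : G ⧸ N) ^ i ≠ 1 := fun e => by
      have := orderOf_dvd_of_pow_eq_one e
      rw [hnord] at this
      exact absurd (Nat.le_of_dvd hi this) (not_le.2 hih)
    have hdis : Disjoint Fb Hb := disjoint_iff.2 hFHb
    have h3 := CfsgLib.Frobenius.eq_one_of_commute hHb hdis (k := a⁻¹ * (z : G ⧸ N) * a)
      (Subgroup.Normal.conj_mem' inferInstance _ hzF a)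
      (h := (a⁻¹ * (n : G ⧸ N) * a) ^ i) (Hb.pow_mem ha i)
      (by
        intro e
        apply hni
        have h4 : a⁻¹ * (n : G ⧸ N) ^ i * a = 1 := by
          rw [← e]
          have := (conj_pow (a := a⁻¹) (b := (n : G ⧸ N)) (i := i)).symm
          simpa using this
        have h5 : (n : G ⧸ N) ^ i = a * (a⁻¹ * (n : G ⧸ N) ^ i * a) * a⁻¹ := by group
        rw [h4] at h5
        simpa using h5)
      (by
        have h4 : (a⁻¹ * (n : G ⧸ N) * a) ^ i = a⁻¹ * (n : G ⧸ N) ^ i * a := by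
          have := conj_pow (a := a⁻¹) (b := (n : G ⧸ N)) (i := i)
          simpa using this
        rw [h4]
        show a⁻¹ * (n : G ⧸ N) ^ i * a * (a⁻¹ * (z : G ⧸ N) * a) =
          a⁻¹ * (z : G ⧸ N) * a * (a⁻¹ * (n : G ⧸ N) ^ i * a)
        simp only [mul_assoc, mul_inv_cancel_left]
        rw [← mul_assoc ((n : G ⧸ N) ^ i), ← hc.eq, mul_assoc])
    have hz1 : (z : G ⧸ N) = 1 := by
      have h5 : (z : G ⧸ N) = a * (a⁻¹ * (z : G ⧸ N) * a) * a⁻¹ := by group
      rw [h3] at h5
      simpa using h5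
    rw [QuotientGroup.eq_one_iff] at hz1
    have hd := Nat.eq_one_of_dvd_coprimes hcopQ
      (Subgroup.orderOf_mk (H := QG) _ hz ▸ orderOf_dvd_natCard _)
      (Subgroup.orderOf_mk (H := N) _ hz1 ▸ orderOf_dvd_natCard _)
    exact orderOf_eq_one_iff.1 hd

end Cfsg.Agent.S3703
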