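import Cfsg.Statements.S3704
import Mathlib.GroupTheory.GroupAction.MultipleTransitivity
import Mathlib.LinearAlgebra.FiniteDimensional.Basic
import Mathlib.LinearAlgebra.Dimension.Constructions

set_option autoImplicit false
open Cfsg MulAction

namespace Cfsg.Agent.S3704

section
open scoped Classical

variable {G Ω : Type*} [Group G] [Fintype G] [MulAction G Ω] [Fintype Ω]

/-- Correlation of two functions at a pair of points. -/
def cor (f f' : Ω → ℚ) (x y : Ω) : ℚ := ∑ g : G, f (g • x) * f' (g • y)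

theorem cor_smul (f f' : Ω → ℚ) (k : G) (x y : Ω) :
    cor (G := G) f f' (k • x) (k • y) = cor (G := G) f f' x y := by
  unfold cor
  refine Fintype.sum_equiv (Equiv.mulRight k) _ _ (fun g => ?_)
  simp [mul_smul]

theorem cor_values (h2 : IsMultiplyPretransitive G Ω 2) (f f' : Ω → ℚ) (hf' : ∑ u, f' u = 0)
    (x y : Ω) :
    (Fintype.card Ω : ℚ) * cor (G := G) f f' x x = Fintype.card G * ∑ u, f u * f' u ∧
      (x ≠ y → (Fintype.card Ω : ℚ) * ((Fintype.card Ω : ℚ) - 1) * cor (G := G) f f' x y =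
        -(Fintype.card G * ∑ u, f u * f' u)) := by
  have h2' : ∀ {a b c d : Ω}, a ≠ b → c ≠ d → ∃ g : G, g • a = c ∧ g • b = d :=
    fun h h' => is_two_pretransitive_iff.1 h2 h h'
  have hdiag : ∀ z : Ω, cor (G := G) f f' z z = cor (G := G) f f' x x := by
    intro z
    by_cases hzx : z = x
    · rw [hzx]
    · obtain ⟨g, hg, -⟩ := h2' (a := x) (b := z) (c := z) (d := x) (Ne.symm hzx) hzx
      rw [← hg, cor_smul]
  have hE : (Fintype.card Ω : ℚ) * cor (G := G) f f' x x = Fintype.card G * ∑ u, f u * f' u := by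
    have h1 : ∑ z, cor (G := G) f f' z z = Fintype.card Ω * cor (G := G) f f' x x := by
      rw [Finset.sum_congr rfl (fun z _ => hdiag z), Finset.sum_const, Finset.card_univ,
        nsmul_eq_mul]
    have h3 : ∑ z, cor (G := G) f f' z z = Fintype.card G * ∑ u, f u * f' u := by
      unfold cor
      rw [Finset.sum_comm]
      have : ∀ g : G, ∑ z : Ω, f (g • z) * f' (g • z) = ∑ u, f u * f' u := fun g =>
        Fintype.sum_equiv (MulAction.toPerm g) _ _ (fun _ => rfl)
      rw [Finset.sum_congr rfl (fun g _ => this g), Finset.sum_const, Finset.card_univ,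
        nsmul_eq_mul]
    rw [← h1, h3]
  refine ⟨hE, fun hxy => ?_⟩
  have hoff : ∀ z, z ≠ x → cor (G := G) f f' x z = cor (G := G) f f' x y := by
    intro z hz
    obtain ⟨g, hg, hg'⟩ := h2' (a := x) (b := z) (c := x) (d := y) hz.symm hxy
    rw [← cor_smul f f' g x z, hg, hg']
  have hsum : ∑ z, cor (G := G) f f' x z = 0 := by
    unfold cor
    rw [Finset.sum_comm]
    refine Finset.sum_eq_zero (fun g _ => ?_)
    rw [← Finset.mul_sum, Fintype.sum_equiv (MulAction.toPerm g) (fun z => f' (g • z)) f'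
      (fun _ => rfl), hf', mul_zero]
  rw [← Finset.add_sum_erase _ _ (Finset.mem_univ x),
    Finset.sum_congr rfl (fun z hz => hoff z (Finset.mem_erase.1 hz).1), Finset.sum_const,
    Finset.card_erase_of_mem (Finset.mem_univ x), Finset.card_univ, nsmul_eq_mul,
    Nat.cast_sub (Fintype.card_pos_iff.2 ⟨x⟩), Nat.cast_one] at hsum
  linear_combination (Fintype.card Ω : ℚ) * hsum - hE

/-- Sum of values over a translate of `A`. -/
def tsum (A : Finset Ω) (f : Ω → ℚ) (g : G) : ℚ := ∑ x ∈ A, f (g • x)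

theorem tsum_mul (A B : Finset Ω) (f f' : Ω → ℚ) :
    ∑ g : G, tsum A f g * tsum B f' g = ∑ x ∈ A, ∑ y ∈ B, cor (G := G) f f' x y := by
  unfold tsum cor
  simp only [Finset.sum_mul_sum]
  rw [Finset.sum_comm]
  exact Finset.sum_congr rfl (fun x _ => Finset.sum_comm)

theorem tsum_disjoint (h2 : IsMultiplyPretransitive G Ω 2) {A B : Finset Ω} (hAB : Disjoint A B)
    (f f' : Ω → ℚ) (hf' : ∑ u, f' u = 0) :
    (Fintype.card Ω : ℚ) * ((Fintype.card Ω : ℚ) - 1) * ∑ g : G, tsum A f g * tsum B f' g =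
      -(A.card * B.card * Fintype.card G * ∑ u, f u * f' u) := by
  rw [tsum_mul, Finset.mul_sum]
  have : ∀ x ∈ A, (Fintype.card Ω : ℚ) * ((Fintype.card Ω : ℚ) - 1) *
      ∑ y ∈ B, cor (G := G) f f' x y = -((B.card : ℚ) * (Fintype.card G * ∑ u, f u * f' u)) := by
    intro x hx
    rw [Finset.mul_sum, Finset.sum_congr rfl (fun y hy =>
      (cor_values h2 f f' hf' x y).2 (fun e => Finset.disjoint_left.1 hAB hx (e ▸ hy))),
      Finset.sum_const, nsmul_eq_mul]
    ring
  rw [Finset.sum_congr rfl this, Finset.sum_const, nsmul_eq_mul]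
  ring

theorem tsum_self (h2 : IsMultiplyPretransitive G Ω 2) (A : Finset Ω)
    (f f' : Ω → ℚ) (hf' : ∑ u, f' u = 0) :
    (Fintype.card Ω : ℚ) * ((Fintype.card Ω : ℚ) - 1) * ∑ g : G, tsum A f g * tsum A f' g =
      A.card * ((Fintype.card Ω : ℚ) - A.card) * Fintype.card G * ∑ u, f u * f' u := by
  rw [tsum_mul, Finset.mul_sum]
  have : ∀ x ∈ A, (Fintype.card Ω : ℚ) * ((Fintype.card Ω : ℚ) - 1) *
      ∑ y ∈ A, cor (G := G) f f' x y =
        ((Fintype.card Ω : ℚ) - A.card) * (Fintype.card G * ∑ u, f u * f' u) := by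
    intro x hx
    rw [Finset.mul_sum, ← Finset.add_sum_erase _ _ hx, Finset.sum_congr rfl (fun y hy =>
      (cor_values h2 f f' hf' x y).2 (Finset.mem_erase.1 hy).1.symm), Finset.sum_const,
      Finset.card_erase_of_mem hx, nsmul_eq_mul, Nat.cast_sub (Finset.card_pos.2 ⟨x, hx⟩)]
    have h1 := (cor_values h2 f f' hf' x x).1
    linear_combination ((Fintype.card Ω : ℚ) - 1) * h1
  rw [Finset.sum_congr rfl this, Finset.sum_const, nsmul_eq_mul]
  ring

theorem sum_tsum [IsPretransitive G Ω] (A : Finset Ω) (f : Ω → ℚ) :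
    (Fintype.card Ω : ℚ) * ∑ g : G, tsum A f g = A.card * Fintype.card G * ∑ u, f u := by
  have key : ∀ x : Ω, (Fintype.card Ω : ℚ) * ∑ g : G, f (g • x) = Fintype.card G * ∑ u, f u := by
    intro x
    have hinv : ∀ z : Ω, ∑ g : G, f (g • z) = ∑ g : G, f (g • x) := by
      intro z
      obtain ⟨k, rfl⟩ := exists_smul_eq G x z
      exact Fintype.sum_equiv (Equiv.mulRight k) _ _ (fun g => by simp [mul_smul])
    have h1 : ∑ z : Ω, ∑ g : G, f (g • z) = Fintype.card Ω * ∑ g : G, f (g • x) := by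
      rw [Finset.sum_congr rfl (fun z _ => hinv z), Finset.sum_const, Finset.card_univ,
        nsmul_eq_mul]
    rw [← h1, Finset.sum_comm]
    have : ∀ g : G, ∑ z : Ω, f (g • z) = ∑ u, f u := fun g =>
      Fintype.sum_equiv (MulAction.toPerm g) _ _ (fun _ => rfl)
    rw [Finset.sum_congr rfl (fun g _ => this g), Finset.sum_const, Finset.card_univ, nsmul_eq_mul]
  unfold tsum
  rw [Finset.sum_comm, Finset.mul_sum, Finset.sum_congr rfl (fun x _ => key x), Finset.sum_const,
    nsmul_eq_mul]
  ring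

theorem tsum_coset {H : Subgroup G} {A : Finset Ω} (hA : ∀ h ∈ H, ∀ x ∈ A, h • x ∈ A)
    (f : Ω → ℚ) {g k : G} (hgk : g⁻¹ * k ∈ H) : tsum A f k = tsum A f g := by
  unfold tsum
  refine Finset.sum_bij' (fun x _ => (g⁻¹ * k) • x) (fun x _ => (g⁻¹ * k)⁻¹ • x)
    (fun x hx => hA _ hgk x hx) (fun x hx => hA _ (H.inv_mem hgk) x hx)
    (fun x _ => inv_smul_smul _ _) (fun x _ => smul_inv_smul _ _) (fun x _ => ?_)
  rw [smul_smul, mul_inv_cancel_left]

/-- The incidence map of `A`. -/
noncomputable def inc (H : Subgroup G) (A : Finset Ω) : (Ω → ℚ) →ₗ[ℚ] (G ⧸ H → ℚ) where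
  toFun f q := tsum A f q.out
  map_add' f f' := by funext q; simp [tsum, Finset.sum_add_distrib]
  map_smul' c f := by funext q; simp [tsum, Finset.mul_sum]

theorem inc_mk {H : Subgroup G} {A : Finset Ω} (hA : ∀ h ∈ H, ∀ x ∈ A, h • x ∈ A)
    (f : Ω → ℚ) (g : G) : inc H A f (QuotientGroup.mk g) = tsum A f g :=
  tsum_coset hA f (QuotientGroup.eq.1 (QuotientGroup.out_eq' _).symm)

theorem inc_bijective (h2 : IsMultiplyPretransitive G Ω 2) {H : Subgroup G}
    (hidx : Nat.card (G ⧸ H) = Fintype.card Ω) {A : Finset Ω} (hA : ∀ h ∈ H, ∀ x ∈ A, h • x ∈ A)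
    (hne : A.Nonempty) (hpr : A.card < Fintype.card Ω) : Function.Bijective (inc H A) := by
  have : IsPretransitive G Ω := by
    have := h2
    exact isPretransitive_of_is_two_pretransitive
  have hinj : Function.Injective (inc H A) := by
    rw [injective_iff_map_eq_zero]
    intro f hf
    have hz : ∀ g : G, tsum A f g = 0 := fun g => by rw [← inc_mk hA f g, hf]; rfl
    have hA0 : (A.card : ℚ) ≠ 0 := Nat.cast_ne_zero.2 hne.card_pos.ne'
    have hG0 : (Fintype.card G : ℚ) ≠ 0 := Nat.cast_ne_zero.2 Fintype.card_ne_zero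
    have hn : (A.card : ℚ) < Fintype.card Ω := Nat.cast_lt.2 hpr
    have hs : ∑ u, f u = 0 := by
      have := sum_tsum (G := G) A f
      simp only [hz, Finset.sum_const_zero, mul_zero] at this
      have h3 := this.symm
      simpa [hA0, hG0] using h3
    have h3 := (tsum_self h2 A f f hs).symm
    simp only [hz, mul_zero, Finset.sum_const_zero] at h3
    simp only [mul_eq_zero, hA0, hG0, sub_eq_zero, hn.ne', false_or] at h3
    funext u
    exact mul_self_eq_zero.1 ((Finset.sum_eq_zero_iff_of_nonneg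
      (fun i _ => mul_self_nonneg (f i))).1 h3 u (Finset.mem_univ u))
  refine ⟨hinj, ?_⟩
  refine (LinearMap.injective_iff_surjective_of_finrank_eq_finrank ?_).1 hinj
  rw [Module.finrank_fintype_fun_eq_card, Module.finrank_fintype_fun_eq_card, ← hidx,
    Nat.card_eq_fintype_card]

theorem no_three (h2 : IsMultiplyPretransitive G Ω 2) {H : Subgroup G}
    (hidx : Nat.card (G ⧸ H) = Fintype.card Ω) {A B C : Finset Ω}
    (hA : ∀ h ∈ H, ∀ x ∈ A, h • x ∈ A) (hB : ∀ h ∈ H, ∀ x ∈ B, h • x ∈ B)
    (hC : ∀ h ∈ H, ∀ x ∈ C, h • x ∈ C) (nA : A.Nonempty) (nB : B.Nonempty) (nC : C.Nonempty)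
    (dAB : Disjoint A B) (dAC : Disjoint A C) (dBC : Disjoint B C) : False := by
  have hlt : A.card < Fintype.card Ω := by
    refine Finset.card_lt_univ_of_notMem (x := nB.choose) (fun h => ?_)
    exact Finset.disjoint_left.1 dAB h nB.choose_spec
  obtain ⟨-, hsur⟩ := inc_bijective h2 hidx hA nA hlt
  have : IsPretransitive G Ω := by
    have := h2
    exact isPretransitive_of_is_two_pretransitive
  set n : ℚ := (Fintype.card Ω : ℚ) with hn
  have hna : (A.card : ℚ) < n := by rw [hn]; exact_mod_cast hlt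
  have hApos : 0 < (A.card : ℚ) := Nat.cast_pos.2 nA.card_pos
  have hBpos : 0 < (B.card : ℚ) := Nat.cast_pos.2 nB.card_pos
  have hCpos : 0 < (C.card : ℚ) := Nat.cast_pos.2 nC.card_pos
  have hn1 : 1 < n := lt_of_le_of_lt (Nat.one_le_cast.2 nA.card_pos) hna
  have hG : 0 < (Fintype.card G : ℚ) := Nat.cast_pos.2 Fintype.card_pos
  have hcc : n * (n - 1) ≠ 0 := (mul_pos (by linarith) (by linarith)).ne'
  -- every orbit incidence map is a negative multiple of that of `A` on sum-zero functions
  have key : ∀ D : Finset Ω, (∀ h ∈ H, ∀ x ∈ D, h • x ∈ D) → Disjoint A D → ∀ f : Ω → ℚ,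
      ∑ u, f u = 0 → ∀ g : G, (n - A.card) * tsum D f g = -(D.card : ℚ) * tsum A f g := by
    intro D hD dAD f hf g
    obtain ⟨f', hf'⟩ := hsur ((n - A.card) • inc H D f + (D.card : ℚ) • inc H A f)
    have hg : ∀ g : G, tsum A f' g = (n - A.card) * tsum D f g + D.card * tsum A f g := by
      intro g
      rw [← inc_mk hA f' g, hf', Pi.add_apply, Pi.smul_apply, Pi.smul_apply, inc_mk hD, inc_mk hA,
        smul_eq_mul, smul_eq_mul]
    have hz : ∑ g : G, tsum A f' g * tsum A f' g = 0 := by
      have e1 := tsum_disjoint h2 dAD f' f hf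
      have e2 := tsum_self h2 A f' f hf
      have hsplit : ∑ g : G, tsum A f' g * tsum A f' g =
          (n - A.card) * ∑ g : G, tsum A f' g * tsum D f g +
            D.card * ∑ g : G, tsum A f' g * tsum A f g := by
        rw [Finset.mul_sum, Finset.mul_sum, ← Finset.sum_add_distrib]
        refine Finset.sum_congr rfl (fun g _ => ?_)
        conv_lhs => arg 2; rw [hg]
        ring
      refine (mul_eq_zero.1 ?_).resolve_left hcc
      rw [hsplit, hn]
      linear_combination ((Fintype.card Ω : ℚ) - A.card) * e1 + (D.card : ℚ) * e2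
    have := mul_self_eq_zero.1 ((Finset.sum_eq_zero_iff_of_nonneg
      (fun i _ => mul_self_nonneg (tsum A f' i))).1 hz g (Finset.mem_univ g))
    rw [hg] at this
    linarith
  obtain ⟨a, ha⟩ := nA
  obtain ⟨b, hb⟩ := nB
  have hab : a ≠ b := fun e => Finset.disjoint_left.1 dAB ha (e ▸ hb)
  let f : Ω → ℚ := fun u => (if u = a then 1 else 0) - (if u = b then 1 else 0)
  have hf : ∑ u, f u = 0 := by simp [f, Finset.sum_sub_distrib]
  have hff : 0 < ∑ u, f u * f u := by
    refine Finset.sum_pos' (fun i _ => mul_self_nonneg _) ⟨a, Finset.mem_univ a, ?_⟩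
    simp [f, hab]
  have e1 := tsum_disjoint h2 dBC f f hf
  have e2 := tsum_self h2 A f f hf
  have hBC : (n - A.card) * (n - A.card) * ∑ g : G, tsum B f g * tsum C f g =
      B.card * C.card * ∑ g : G, tsum A f g * tsum A f g := by
    rw [Finset.mul_sum, Finset.mul_sum]
    refine Finset.sum_congr rfl (fun g _ => ?_)
    have k1 := key B hB dAB f hf g
    have k2 := key C hC dAC f hf g
    linear_combination ((n - A.card) * tsum C f g) * k1 - ((B.card : ℚ) * tsum A f g) * k2
  have hall : (n - A.card) * (n - A.card) *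
      -(B.card * C.card * Fintype.card G * ∑ u, f u * f u) =
      B.card * C.card * (A.card * (n - A.card) * Fintype.card G * ∑ u, f u * f u) := by
    rw [← e1, ← e2, ← hn]
    linear_combination (n * (n - 1)) * hBC
  have hpos : 0 < (B.card : ℚ) * C.card * Fintype.card G * (∑ u, f u * f u) * (n - A.card) * n :=
    mul_pos (mul_pos (mul_pos (mul_pos (mul_pos hBpos hCpos) hG) hff) (by linarith)) (by linarith)
  nlinarith

end

/-- Let G be a finite group acting faithfully and 2-transitively on a finite set Ω of size n, and let H be a subgroup of index n in G which is not transitive on Ω and fixes no point of Ω. Then H has exactly two orbits on Ω. -/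
theorem result {G Ω : Type*} [Group G] [Finite G] [MulAction G Ω] [FaithfulSMul G Ω] [Finite Ω] (h2 : MulAction.IsMultiplyPretransitive G Ω 2) (H : Subgroup G) (hidx : H.index = Nat.card Ω) (hnt : ¬ MulAction.IsPretransitive H Ω) (hfix : ∀ a : Ω, ∃ h : H, h • a ≠ a) : Nat.card (MulAction.orbitRel.Quotient H Ω) = 2 := by
  classical
  have := Fintype.ofFinite G
  have := Fintype.ofFinite Ω
  have : Finite (orbitRel.Quotient H Ω) := Quotient.finite _
  have := Fintype.ofFinite (orbitRel.Quotient H Ω)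
  refine le_antisymm ?_ ?_
  · by_contra hcon
    rw [not_le, Nat.card_eq_fintype_card, Fintype.two_lt_card_iff] at hcon
    obtain ⟨p, q, r, hpq, hpr, hqr⟩ := hcon
    let O : orbitRel.Quotient H Ω → Finset Ω := fun c =>
      Finset.univ.filter (fun x => (Quotient.mk'' x : orbitRel.Quotient H Ω) = c)
    have hinv : ∀ c, ∀ h ∈ H, ∀ x ∈ O c, h • x ∈ O c := by
      intro c h hh x hx
      simp only [O, Finset.mem_filter, Finset.mem_univ, true_and] at hx ⊢
      rw [← hx]
      exact Quotient.sound' (mem_orbit x (⟨h, hh⟩ : H))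
    have hne : ∀ c, (O c).Nonempty := fun c => by
      induction c using Quotient.inductionOn' with
      | h x => exact ⟨x, by simp [O]⟩
    have hd : ∀ c e, c ≠ e → Disjoint (O c) (O e) := by
      intro c e hce
      rw [Finset.disjoint_left]
      intro x hx hx'
      simp only [O, Finset.mem_filter, Finset.mem_univ, true_and] at hx hx'
      exact hce (hx.symm.trans hx')
    exact no_three h2 (hidx.trans Nat.card_eq_fintype_card) (hinv p) (hinv q) (hinv r)
      (hne p) (hne q) (hne r) (hd p q hpq) (hd p r hpr) (hd q r hqr)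
  · by_contra hcon
    apply hnt
    have hsub : Subsingleton (orbitRel.Quotient H Ω) :=
      Finite.card_le_one_iff_subsingleton.1 (by omega)
    exact ⟨fun x y => orbitRel_apply.1 (Quotient.exact'
      (Subsingleton.elim (Quotient.mk'' y : orbitRel.Quotient H Ω) (Quotient.mk'' x)))⟩

end Cfsg.Agent.S3704
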