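import Cfsg.Statements.S3707
import Mathlib.GroupTheory.GroupAction.Jordan

set_option autoImplicit false
open Cfsg MulAction
open scoped Pointwise

namespace Cfsg.Agent.S3707

variable {G Ω : Type*} [Group G] [MulAction G Ω]

/-- A Jordan set: the pointwise stabilizer of the outside is transitive inside. -/
def IsJordanSet (G : Type*) {Ω : Type*} [Group G] [MulAction G Ω] (J : Set Ω) : Prop :=
  ∀ x ∈ J, ∀ y ∈ J, ∃ g : G, (∀ z ∉ J, g • z = z) ∧ g • x = y

theorem IsJordanSet.smul {J : Set Ω} (h : IsJordanSet G J) (k : G) : IsJordanSet G (k • J) := by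
  rintro _ ⟨x, hx, rfl⟩ _ ⟨y, hy, rfl⟩
  obtain ⟨g, hg, hgx⟩ := h x hx y hy
  refine ⟨k * g * k⁻¹, fun z hz => ?_, ?_⟩
  · rw [Set.mem_smul_set_iff_inv_smul_mem] at hz
    rw [mul_smul, mul_smul, hg _ hz, smul_inv_smul]
  · show (k * g * k⁻¹) • (k • x) = k • y
    rw [mul_smul, mul_smul, inv_smul_smul, hgx]

theorem IsJordanSet.union {J J' : Set Ω} (h : IsJordanSet G J) (h' : IsJordanSet G J')
    (hne : (J ∩ J').Nonempty) : IsJordanSet G (J ∪ J') := by
  obtain ⟨c, hc, hc'⟩ := hne
  have key : ∀ x ∈ J ∪ J', ∃ g : G, (∀ z ∉ J ∪ J', g • z = z) ∧ g • x = c := by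
    rintro x (hx | hx)
    · obtain ⟨g, hg, hgx⟩ := h x hx c hc
      exact ⟨g, fun z hz => hg z fun e => hz (Or.inl e), hgx⟩
    · obtain ⟨g, hg, hgx⟩ := h' x hx c hc'
      exact ⟨g, fun z hz => hg z fun e => hz (Or.inr e), hgx⟩
  intro x hx y hy
  obtain ⟨g, hg, hgx⟩ := key x hx
  obtain ⟨k, hk, hky⟩ := key y hy
  refine ⟨k⁻¹ * g, fun z hz => ?_, ?_⟩
  · rw [mul_smul, hg z hz, inv_smul_eq_iff, hk z hz]
  · rw [mul_smul, hgx, ← hky, inv_smul_smul]

/-- A Jordan set with at least two points and at least one point outside makes a primitive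
group doubly transitive. -/
theorem two_pretransitive [Finite Ω] (hprim : IsPreprimitive G Ω) {J : Set Ω}
    (hJ : IsJordanSet G J) (h2 : 2 ≤ J.ncard) (hout : J.ncard < Nat.card Ω) :
    IsMultiplyPretransitive G Ω 2 := by
  have hc : Jᶜ.ncard = (Jᶜ.ncard - 1) + 1 := by
    have := Set.ncard_add_ncard_compl J
    omega
  refine IsPreprimitive.is_two_pretransitive hprim hc ?_ ⟨fun x y => ?_⟩
  · have := Set.ncard_add_ncard_compl J
    omega
  · have hx : (x : Ω) ∈ J := by
      have h' : (x : Ω) ∉ Jᶜ := (SubMulAction.mem_ofFixingSubgroup_iff G).1 x.2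
      simpa using h'
    have hy : (y : Ω) ∈ J := by
      have h' : (y : Ω) ∉ Jᶜ := (SubMulAction.mem_ofFixingSubgroup_iff G).1 y.2
      simpa using h'
    obtain ⟨g, hg, hgx⟩ := hJ _ hx _ hy
    exact ⟨⟨g, (mem_fixingSubgroup_iff G).2 hg⟩, Subtype.ext hgx⟩

/-- Let G be a finite primitive permutation group on Ω of degree n and Γ ⊂ Ω a subset with 1 < #Γ ≤ n/2 such that the pointwise stabilizer of Ω ∖ Γ is transitive on Γ. Then G is 3-transitive on Ω. -/
theorem result {G Ω : Type*} [Group G] [Finite G] [MulAction G Ω] [FaithfulSMul G Ω] [Finite Ω] (hprim : MulAction.IsPreprimitive G Ω) (Γ : Set Ω) (h1 : 1 < Γ.ncard) (h2 : 2 * Γ.ncard ≤ Nat.card Ω) (htr : ∀ x ∈ Γ, ∀ y ∈ Γ, ∃ g : G, (∀ z ∉ Γ, g • z = z) ∧ g • x = y) : MulAction.IsMultiplyPretransitive G Ω 3 := by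
  classical
  have := hprim
  have hΓ : IsJordanSet G Γ := htr
  have h2t := two_pretransitive hprim hΓ h1 (by omega)
  have h2' : ∀ {a b c d : Ω}, a ≠ b → c ≠ d → ∃ g : G, g • a = c ∧ g • b = d :=
    fun h h' => is_two_pretransitive_iff.1 h2t h h'
  -- a largest Jordan set omitting at least two points
  obtain ⟨J, ⟨hJ, hJΓ, hJn⟩, hmax⟩ := Set.Finite.exists_maximalFor Set.ncard
    {J : Set Ω | IsJordanSet G J ∧ Γ.ncard ≤ J.ncard ∧ J.ncard + 2 ≤ Nat.card Ω}
    (Set.toFinite _) ⟨Γ, hΓ, le_rfl, by omega⟩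
  have hgrow : ∀ g : G, (J ∩ g • J).Nonempty → g • J ≠ J →
      (J ∪ g • J).ncard + 2 ≤ Nat.card Ω → False := by
    intro g hne hneq hle
    have hlt : J.ncard < (J ∪ g • J).ncard := by
      refine Set.ncard_lt_ncard ⟨Set.subset_union_left, fun h => hneq ?_⟩
      exact Set.eq_of_subset_of_ncard_le (Set.subset_union_right.trans h)
        (Set.ncard_smul_set g J).ge
    have := hmax ⟨hJ.union (hJ.smul g) hne, by omega, hle⟩ hlt.le
    omega
  have hcompl := Set.ncard_add_ncard_compl J
  rcases Nat.lt_or_ge (J.ncard + 2) (Nat.card Ω) with hlt | hge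
  · exfalso
    have hJ1 : 1 < J.ncard := by omega
    by_cases hsmall : 2 * J.ncard < Nat.card Ω
    · obtain ⟨a, ha, b, hb, hab⟩ := (Set.one_lt_ncard).1 hJ1
      obtain ⟨g, hga, hgb⟩ := IsPreprimitive.exists_mem_smul_and_notMem_smul (G := G)
        J.toFinite ⟨a, ha⟩ (fun h => by rw [h, Set.ncard_univ] at hlt; omega) hab
      refine hgrow g ⟨a, ha, hga⟩ (fun e => hgb (e.symm ▸ hb)) ?_
      have := Set.ncard_union_add_ncard_inter J (g • J)
      have hpos : 0 < (J ∩ g • J).ncard := (Set.ncard_pos).2 ⟨a, ha, hga⟩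
      rw [Set.ncard_smul_set] at this
      omega
    push Not at hsmall
    set s := Jᶜ with hs
    have hs3 : 3 ≤ s.ncard := by omega
    -- translates of the complement through two common points coincide
    have hline : ∀ g k : G, ∀ u v : Ω, u ≠ v → u ∈ g • s → v ∈ g • s → u ∈ k • s → v ∈ k • s →
        g • s = k • s := by
      have base : ∀ g : G, ∀ u v : Ω, u ≠ v → u ∈ s → v ∈ s → u ∈ g • s → v ∈ g • s → g • s = s := by
        intro g u v huv hu hv hgu hgv
        by_contra hne
        refine hgrow g ?_ ?_ ?_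
        · by_contra hemp
          rw [Set.not_nonempty_iff_eq_empty] at hemp
          have hdisj : Disjoint J (g • J) := Set.disjoint_iff_inter_eq_empty.2 hemp
          have h4 := Set.ncard_union_eq hdisj
          rw [Set.ncard_smul_set] at h4
          have h5 : J ∪ g • J ⊆ ({u, v} : Set Ω)ᶜ := by
            rintro z hz (rfl | rfl) <;> rcases hz with hz | hz
            · exact hu hz
            · rw [hs, Set.smul_set_compl] at hgu; exact hgu hz
            · exact hv hz
            · rw [hs, Set.smul_set_compl] at hgv; exact hgv hz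
          have h6 := Set.ncard_le_ncard h5
          have h7 := Set.ncard_add_ncard_compl ({u, v} : Set Ω)
          rw [Set.ncard_pair huv] at h7
          omega
        · intro e
          apply hne
          rw [hs, Set.smul_set_compl, e]
        · have h5 : J ∪ g • J ⊆ ({u, v} : Set Ω)ᶜ := by
            rintro z hz (rfl | rfl) <;> rcases hz with hz | hz
            · exact hu hz
            · rw [hs, Set.smul_set_compl] at hgu; exact hgu hz
            · exact hv hz
            · rw [hs, Set.smul_set_compl] at hgv; exact hgv hz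
          have h6 := Set.ncard_le_ncard h5
          have h7 := Set.ncard_add_ncard_compl ({u, v} : Set Ω)
          rw [Set.ncard_pair huv] at h7
          omega
      intro g k u v huv hgu hgv hku hkv
      have hb := base (g⁻¹ * k) (g⁻¹ • u) (g⁻¹ • v) (fun e => huv (smul_left_cancel _ e))
        (Set.mem_smul_set_iff_inv_smul_mem.1 hgu) (Set.mem_smul_set_iff_inv_smul_mem.1 hgv)
        (by rw [mul_smul]; exact Set.smul_mem_smul_set hku)
        (by rw [mul_smul]; exact Set.smul_mem_smul_set hkv)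
      rw [mul_smul, inv_smul_eq_iff] at hb
      exact hb.symm
    -- every pair lies in a translate
    have hex : ∀ u v : Ω, u ≠ v → ∃ g : G, u ∈ g • s ∧ v ∈ g • s := by
      intro u v huv
      obtain ⟨a, ha, b, hb, hab⟩ := (Set.one_lt_ncard).1 (show 1 < s.ncard by omega)
      obtain ⟨g, hga, hgb⟩ := h2' hab huv
      exact ⟨g, hga ▸ Set.smul_mem_smul_set ha, hgb ▸ Set.smul_mem_smul_set hb⟩
    have hthird : ∀ (g : G) (u v : Ω), ∃ w ∈ g • s, w ≠ u ∧ w ≠ v := by
      intro g u v
      by_contra hcon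
      push Not at hcon
      have : g • s ⊆ {u, v} := fun w hw => by
        by_cases hwu : w = u
        · exact Or.inl hwu
        · exact Or.inr (hcon w hw hwu)
      have h8 := Set.ncard_le_ncard this
      rw [Set.ncard_smul_set] at h8
      have := Set.ncard_insert_le u ({v} : Set Ω)
      rw [Set.ncard_singleton] at this
      omega
    -- a translate with a point of Γ and two points outside contains Γ
    have hcont : ∀ (g : G) (x u v : Ω), x ∈ Γ → u ∉ Γ → v ∉ Γ → u ≠ v → x ∈ g • s → u ∈ g • s →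
        v ∈ g • s → Γ ⊆ g • s := by
      intro g x u v hx hu hv huv hxs hus hvs y hy
      obtain ⟨k, hk, hkx⟩ := hΓ x hx y hy
      have := hline (k * g) g u v huv
        (by rw [mul_smul, ← hk u hu]; exact Set.smul_mem_smul_set hus)
        (by rw [mul_smul, ← hk v hv]; exact Set.smul_mem_smul_set hvs) hus hvs
      rw [← this, mul_smul, ← hkx]
      exact Set.smul_mem_smul_set hxs
    have hnone : ∀ (g : G) (x u v : Ω), x ∈ Γ → u ∉ Γ → v ∉ Γ → u ≠ v → x ∈ g • s → u ∈ g • s →
        v ∈ g • s → False := by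
      intro g x u v hx hu hv huv hxs hus hvs
      have hΓs := hcont g x u v hx hu hv huv hxs hus hvs
      obtain ⟨w, hw⟩ : ∃ w, w ∉ g • s := by
        by_contra hcon
        push Not at hcon
        have h9 : (g • s).ncard = Nat.card Ω := by
          rw [Set.eq_univ_of_forall hcon, Set.ncard_univ]
        rw [Set.ncard_smul_set] at h9
        omega
      obtain ⟨y, hy, hyx⟩ : ∃ y ∈ Γ, y ≠ x := Set.exists_ne_of_one_lt_ncard h1 x
      have hwx : x ≠ w := fun e => hw (e ▸ hxs)
      obtain ⟨k, hkx, hkw⟩ := hex x w hwx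
      obtain ⟨z, hz, hzx, hzw⟩ := hthird k x w
      by_cases hzΓ : z ∈ Γ
      · exact hw (hline k g x z hzx.symm hkx hz hxs (hΓs hzΓ) ▸ hkw)
      · have hΓk := hcont k x w z hx (fun e => hw (hΓs e)) hzΓ hzw.symm hkx hkw hz
        exact hw (hline k g x y hyx.symm hkx (hΓk hy) hxs (hΓs hy) ▸ hkw)
    obtain ⟨x, hx⟩ : Γ.Nonempty := (Set.ncard_pos).1 (by omega)
    choose gl hgx hgu using fun u : (Γᶜ : Set Ω) => hex x u.1 (fun e => u.2 (e ▸ hx))
    choose f hf hfx hfu using fun u : (Γᶜ : Set Ω) => hthird (gl u) x u.1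
    have hfΓ : ∀ u, f u ∈ Γ := by
      intro u
      by_contra hn
      exact hnone (gl u) x u.1 (f u) hx u.2 hn (fun e => hfu u e.symm) (hgx u) (hgu u) (hf u)
    have hfinj : Function.Injective (fun u : (Γᶜ : Set Ω) =>
        (⟨f u, hfΓ u, hfx u⟩ : (Γ \ {x} : Set Ω))) := by
      intro u v huv
      have e : f u = f v := congrArg Subtype.val huv
      by_contra hne
      have hl := hline (gl u) (gl v) x (f u) (hfx u).symm (hgx u) (hf u) (hgx v) (e ▸ hf v)
      exact hnone (gl v) x u.1 v.1 hx u.2 v.2 (fun h => hne (Subtype.ext h)) (hgx v)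
        (hl ▸ hgu u) (hgu v)
    have hle := Nat.card_le_card_of_injective _ hfinj
    rw [Nat.card_coe_set_eq, Nat.card_coe_set_eq, Set.ncard_sdiff_singleton_of_mem hx] at hle
    have := Set.ncard_add_ncard_compl Γ
    omega
  · -- exactly two points are left out
    have hc2 : (Jᶜ).ncard = 2 := by omega
    obtain ⟨a, b, hab, hJab⟩ := Set.ncard_eq_two.1 hc2
    have hmem : ∀ z : Ω, z ≠ a → z ≠ b → z ∈ J := by
      intro z hza hzb
      by_contra hz
      have : z ∈ ({a, b} : Set Ω) := hJab ▸ hz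
      rcases this with h | h
      · exact hza h
      · exact hzb h
    have hout : ∀ z : Ω, z = a ∨ z = b → z ∉ J := fun z hz hzJ => by
      have h10 : z ∈ Jᶜ := by rw [hJab]; exact hz
      exact h10 hzJ
    have base : ∀ x : Fin 3 ↪ Ω, ∃ g : G, g • x 0 = a ∧ g • x 1 = b ∧ g • x 2 ∈ J := by
      intro x
      obtain ⟨g, hg0, hg1⟩ := h2' (show x 0 ≠ x 1 from fun h => by simpa using x.injective h) hab
      refine ⟨g, hg0, hg1, hmem _ (fun h => ?_) (fun h => ?_)⟩
      · rw [← hg0] at h
        simpa using x.injective (smul_left_cancel g h)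
      · rw [← hg1] at h
        simpa using x.injective (smul_left_cancel g h)
    refine ⟨fun x y => ?_⟩
    obtain ⟨g, g0, g1, g2⟩ := base x
    obtain ⟨k, k0, k1, k2⟩ := base y
    obtain ⟨m, hm, hm2⟩ := hJ _ g2 _ k2
    refine ⟨k⁻¹ * m * g, ?_⟩
    ext i
    show (k⁻¹ * m * g) • x i = y i
    rw [mul_smul, mul_smul, inv_smul_eq_iff]
    fin_cases i
    · show m • g • x 0 = k • y 0
      rw [g0, k0, hm a (hout a (Or.inl rfl))]
    · show m • g • x 1 = k • y 1
      rw [g1, k1, hm b (hout b (Or.inr rfl))]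
    · exact hm2

end Cfsg.Agent.S3707
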