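import Cfsg.Statements.S3708
import Cfsg.Agent.Lib.Phan.Pairs
import Cfsg.Agent.Lib.Phan.PairRecog
-- import your own Cfsg.Agent.* helpers here

set_option autoImplicit false
open Cfsg

namespace Cfsg.Agent.S3708

open CfsgLib.Phan

section
variable {F : Type*} [Field F] [Fintype F] {q : ℕ}

/-- No homomorphism of `SU 2` with an element of order `q + 1` is an isomorphism onto `SU 3`. -/
theorem not_surjective (hF : Fintype.card F = q ^ 2) (ρ : Cfsg.SU 2 F q →* Cfsg.SU 3 F q)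
    (hρ : Function.Injective ρ) (d : Cfsg.SU 2 F q) (hd : orderOf d = q + 1) : ¬ Function.Surjective ρ := by
  intro hs
  obtain ⟨M, l, -, -, h1, -, -⟩ := exists_frame hF ρ hρ d hd
  have hq : q ≠ 0 := by have := CfsgLib.ClassicalGroups.herm_two_le hF; omega
  have hw : (0 : F) * 0 ^ q + 1 * 1 ^ q = 1 := by simp [hq]
  obtain ⟨x, hx⟩ := hs (M * b12 (mk2 hF 0 1 hw) * M⁻¹)
  obtain ⟨g, hg⟩ := h1 x
  rw [hx] at hg
  have e : b01 g = b12 (mk2 hF 0 1 hw) := mul_left_cancel (mul_right_cancel hg)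
  have h := congrArg (fun s : Cfsg.SU 3 F q => act s (Pi.single 2 1) 2) e
  simp only [act_b01_two, Pi.single_eq_same] at h
  rw [show (2 : Fin 3) = ⟨1 + ((1 : Fin 2) : ℕ), by decide⟩ from rfl] at h
  change (1 : F) = act (bk 1 _ _) _ _ at h
  rw [act_bk_coord] at h
  simp [act, mk2, Matrix.mulVec, dotProduct, Fin.sum_univ_two, seg, Pi.single_apply, Fin.ext_iff, hq] at h

/-- Two subgroups generating a copy of `SU 3` form a standard pair. -/
theorem standard_pair {G : Type*} [Group G] (hF : Fintype.card F = q ^ 2) (A B : Subgroup G)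
    (eA : Cfsg.SU 2 F q ≃* A) (eB : Cfsg.SU 2 F q ≃* B) (φ : ↥(A ⊔ B) ≃* Cfsg.SU 3 F q)
    (DA DB : Subgroup G) (hDA : DA ≤ A ∧ IsCyclic ↥DA ∧ Nat.card ↥DA = q + 1)
    (hDB : DB ≤ B ∧ IsCyclic ↥DB ∧ Nat.card ↥DB = q + 1) (hc : ∀ x ∈ DA, ∀ y ∈ DB, x * y = y * x) :
    Cfsg.IsStandardUnitaryPair (A ⊔ B) A B F q := by
  obtain ⟨hAle, hAc, hAn⟩ := hDA
  obtain ⟨hBle, hBc, hBn⟩ := hDB
  obtain ⟨x, hx⟩ := hAc.exists_generator
  obtain ⟨y, hy⟩ := hBc.exists_generator
  have hox : orderOf (x : G) = q + 1 := by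
    rw [Subgroup.orderOf_coe, orderOf_eq_card_of_forall_mem_zpowers hx, hAn]
  have hoy : orderOf (y : G) = q + 1 := by
    rw [Subgroup.orderOf_coe, orderOf_eq_card_of_forall_mem_zpowers hy, hBn]
  let ρA : Cfsg.SU 2 F q →* Cfsg.SU 3 F q :=
    φ.toMonoidHom.comp ((Subgroup.inclusion le_sup_left).comp eA.toMonoidHom)
  let ρB : Cfsg.SU 2 F q →* Cfsg.SU 3 F q :=
    φ.toMonoidHom.comp ((Subgroup.inclusion le_sup_right).comp eB.toMonoidHom)
  have hA : Function.Injective ρA := φ.injective.comp ((Subgroup.inclusion_injective (le_sup_left : A ≤ A ⊔ B)).comp eA.injective)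
  have hB : Function.Injective ρB := φ.injective.comp ((Subgroup.inclusion_injective (le_sup_right : B ≤ A ⊔ B)).comp eB.injective)
  let dA : Cfsg.SU 2 F q := eA.symm ⟨x, hAle x.2⟩
  let dB : Cfsg.SU 2 F q := eB.symm ⟨y, hBle y.2⟩
  have hdA : orderOf dA = q + 1 := by
    rw [← hox]
    refine (orderOf_injective (A.subtype.comp eA.toMonoidHom) (Subtype.val_injective.comp eA.injective) dA).symm.trans ?_
    simp [dA]
  have hdB : orderOf dB = q + 1 := by
    rw [← hoy]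
    refine (orderOf_injective (B.subtype.comp eB.toMonoidHom) (Subtype.val_injective.comp eB.injective) dB).symm.trans ?_
    simp [dB]
  have hcomm : ρA dA * ρB dB = ρB dB * ρA dA := by
    simp only [ρA, ρB, dA, dB, MonoidHom.comp_apply, MulEquiv.coe_toMonoidHom, MulEquiv.apply_symm_apply]
    rw [← map_mul, ← map_mul]
    congr 1
    exact Subtype.ext (hc _ x.2 _ y.2)
  have valA : ∀ z, ((φ.symm (ρA z) : ↥(A ⊔ B)) : G) = eA z := fun z => by simp [ρA]
  have valB : ∀ z, ((φ.symm (ρB z) : ↥(A ⊔ B)) : G) = eB z := fun z => by simp [ρB]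
  have hne : ρA.range ≠ ρB.range := by
    intro h
    refine not_surjective hF ρA hA dA hdA fun s => ?_
    have hBA : B ≤ A := fun b hb => by
      obtain ⟨z, hz⟩ : ρB (eB.symm ⟨b, hb⟩) ∈ ρA.range := by rw [h]; exact ⟨_, rfl⟩
      have := congrArg (fun s => ((φ.symm s : ↥(A ⊔ B)) : G)) hz
      simp only [valA, valB, MulEquiv.apply_symm_apply] at this
      rw [← this]; exact SetLike.coe_mem _
    have hs : ((φ.symm s : ↥(A ⊔ B)) : G) ∈ A := (sup_le le_rfl hBA : A ⊔ B ≤ A) (φ.symm s).2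
    refine ⟨eA.symm ⟨_, hs⟩, φ.symm.injective (Subtype.ext ?_)⟩
    rw [valA, MulEquiv.apply_symm_apply]
  obtain ⟨M, hA1, hA2, hB1, hB2⟩ := exists_pair_frame hF ρA ρB hA hB dA dB hdA hdB hcomm hne
  refine Or.inl ⟨(MulAut.conj M).trans φ.symm, ?_, ?_⟩
  · rw [suBlock_01 hF]
    ext a
    constructor
    · rintro ⟨_, ⟨g, rfl⟩, rfl⟩
      obtain ⟨z, hz⟩ := hA1 g
      show ((φ.symm (M * b01 g * M⁻¹) : ↥(A ⊔ B)) : G) ∈ A
      rw [← hz, valA]; exact SetLike.coe_mem _
    · intro ha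
      obtain ⟨g, hg⟩ := hA2 (eA.symm ⟨a, ha⟩)
      refine ⟨b01 g, ⟨g, rfl⟩, ?_⟩
      show ((φ.symm (M * b01 g * M⁻¹) : ↥(A ⊔ B)) : G) = a
      rw [hg, valA, MulEquiv.apply_symm_apply]
  · rw [suBlock_12 hF]
    ext a
    constructor
    · rintro ⟨_, ⟨g, rfl⟩, rfl⟩
      obtain ⟨z, hz⟩ := hB1 g
      show ((φ.symm (M * b12 g * M⁻¹) : ↥(A ⊔ B)) : G) ∈ B
      rw [← hz, valB]; exact SetLike.coe_mem _
    · intro ha
      obtain ⟨g, hg⟩ := hB2 (eB.symm ⟨a, ha⟩)
      refine ⟨b12 g, ⟨g, rfl⟩, ?_⟩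
      show ((φ.symm (M * b12 g * M⁻¹) : ↥(A ⊔ B)) : G) = a
      rw [hg, valB, MulEquiv.apply_symm_apply]

end

/-- Phan's recognition of unitary groups. Let F be a finite field with q² elements, q > 4, and n ≥ 2. Let G be a group generated by subgroups U_0, …, U_{n−1}, each isomorphic to the special unitary group SU(2, q²) (determinant-one isometries of the standard Hermitian form in two variables over F), and let D_i ≤ U_i be cyclic subgroups of order q + 1. Suppose that U_i and U_j commute elementwise whenever the indices differ by at least 2, that the subgroup generated by U_i and U_{i+1} is isomorphic to SU(3, q²) for each i, and that D_i and D_j commute elementwise for all i, j. Then G is a homomorphic image of SU(n+1, q²). (Generation of G by the U_i is part of the hypothesis; G is not assumed finite.) -/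
theorem result {G : Type*} [Group G] (n : ℕ) (hn : 2 ≤ n)
    (F : Type*) [Field F] [Fintype F] (q : ℕ) (hq : 4 < q) (hF : Fintype.card F = q ^ 2)
    (U : Fin n → Subgroup G) (e : ∀ i, ↥(Cfsg.SU 2 F q) ≃* ↥(U i)) (hgen : ⨆ i, U i = ⊤)
    (D : Fin n → Subgroup G) (hD : ∀ i, D i ≤ U i ∧ IsCyclic ↥(D i) ∧ Nat.card ↥(D i) = q + 1)
    (h1 : ∀ i j : Fin n, (i : ℕ) + 2 ≤ j → ∀ x ∈ U i, ∀ y ∈ U j, x * y = y * x)
    (h2 : ∀ i j : Fin n, (i : ℕ) + 1 = j → Nonempty (↥(U i ⊔ U j) ≃* ↥(Cfsg.SU 3 F q)))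
    (h3 : ∀ i j : Fin n, i ≠ j → ∀ x ∈ D i, ∀ y ∈ D j, x * y = y * x) :
    ∃ f : ↥(Cfsg.SU (n + 1) F q) →* G, Function.Surjective f := by
  refine exists_surjective_of_pairs hF (by omega) hn U (fun i j => U i ⊔ U j) h1 (fun i j hij => ?_)
    (eq_top_iff.2 (hgen ▸ le_sup_left))
  obtain ⟨φ⟩ := h2 i j hij
  exact standard_pair hF (U i) (U j) (e i) (e j) φ (D i) (D j) (hD i) (hD j)
    (h3 i j fun h => by rw [h] at hij; omega)

end Cfsg.Agent.S3708
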