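import Cfsg.Statements.S3710
import Cfsg.Agent.Lib.Phan.NineFour
import Cfsg.Agent.Lib.Phan.Pairs
-- import your own Cfsg.Agent.* helpers here

set_option autoImplicit false
open Cfsg

namespace Cfsg.Agent.S3710

open CfsgLib.Phan

/-- Recognition of unitary groups over the field with 9 elements from a weak Phan system. Let F be a field with 9 elements and n ≥ 4. Let G be a group with subgroups U_0, …, U_{n−1}, each isomorphic to SU(2, 9), and, for consecutive indices, subgroups V_{i,i+1} in which U_i and U_{i+1} form a standard pair (via an isomorphism from SU(3, 9) or PSU(3, 9) carrying the block-diagonal subgroups, or their images, onto U_i and U_{i+1}); suppose U_i and U_j commute elementwise whenever the indices differ by at least 2, that G is generated by the U_i and the V_{i,i+1}, and moreover that for each i the subgroup generated by V_{i,i+1} and V_{i+1,i+2} is a homomorphic image of SU(4, 9). Then G is a homomorphic image of SU(n+1, 9). (G is not assumed finite.) -/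
theorem result {G : Type*} [Group G] (n : ℕ) (hn : 4 ≤ n)
    (F : Type*) [Field F] [Fintype F] (hF : Fintype.card F = 9)
    (U : Fin n → Subgroup G) (e : ∀ i, ↥(Cfsg.SU 2 F 3) ≃* ↥(U i))
    (V : Fin n → Fin n → Subgroup G)
    (h1 : ∀ i j : Fin n, (i : ℕ) + 2 ≤ j → ∀ x ∈ U i, ∀ y ∈ U j, x * y = y * x)
    (h2 : ∀ i j : Fin n, (i : ℕ) + 1 = j → Cfsg.IsStandardUnitaryPair (V i j) (U i) (U j) F 3)
    (hgen : (⨆ i, U i) ⊔ (⨆ (i : Fin n) (j : Fin n) (_ : (i : ℕ) + 1 = j), V i j) = ⊤)
    (h4 : ∀ i j k : Fin n, (i : ℕ) + 1 = j → (j : ℕ) + 1 = k →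
      ∃ g : ↥(Cfsg.SU 4 F 3) →* ↥(V i j ⊔ V j k), Function.Surjective g) :
    ∃ f : ↥(Cfsg.SU (n + 1) F 3) →* G, Function.Surjective f := by
  classical
  have hF' : Fintype.card F = 3 ^ 2 := by rw [hF]; norm_num
  let U' : ℕ → Subgroup G := fun i => if h : i < n then U ⟨i, h⟩ else ⊥
  let V' : ℕ → Subgroup G := fun i => if h : i + 1 < n then V ⟨i, by omega⟩ ⟨i + 1, h⟩ else ⊥
  obtain ⟨S, hφ, hψ⟩ := exists_sys hF' le_rfl U' V' (n + 1) (by omega)
    (fun i hi => by
      simp only [U', V', dif_pos (show i < n by omega), dif_pos (show i + 1 < n by omega)]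
      exact exists_isPair hF' (h2 _ _ rfl))
    (fun i j hij hj => by
      simp only [U', dif_pos (show i < n by omega), dif_pos (show j < n by omega)]
      exact h1 _ _ hij)
  have link : ∀ i, i + 3 ≤ n + 1 → Nine.Link (S.φ i) (S.φ (i + 1)) (S.ψ i) := fun i hi =>
    { e1 := S.c01 i hi
      e2 := S.c12 i hi
      i1 := by
        rw [show S.φ i = (S.ψ i).comp b01 from MonoidHom.ext fun x => (S.c01 i hi x).symm]
        exact (hψ i hi).inj01
      i2 := by
        rw [show S.φ (i + 1) = (S.ψ i).comp b12 from MonoidHom.ext fun x => (S.c12 i hi x).symm]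
        exact (hψ i hi).inj12 }
  refine exists_surjective' hF' le_rfl (by omega) S (Or.inr fun i hi => ?_) fun K hK hK' =>
    eq_top_iff.2 (hgen ▸ sup_le ?_ ?_)
  · obtain ⟨g, hg⟩ := h4 ⟨i, by omega⟩ ⟨i + 1, by omega⟩ ⟨i + 2, by omega⟩ rfl rfl
    have hin : ∀ x ∈ V ⟨i, by omega⟩ ⟨i + 1, by omega⟩ ⊔ V ⟨i + 1, by omega⟩ ⟨i + 2, by omega⟩,
        ∃ h, (Subgroup.subtype _).comp g h = x := fun x hx => by
      obtain ⟨h, hh⟩ := hg ⟨x, hx⟩
      exact ⟨h, congrArg Subtype.val hh⟩
    obtain ⟨f, f0, f1, f2⟩ := Nine.exists_four hF' _ (link i (by omega)) (link (i + 1) (by omega))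
      (fun z z' => (S.comm i (i + 1 + 1) le_rfl (by omega) z z').eq)
      (fun x => hin _ (Subgroup.mem_sup_left (by
        have h := (hψ i (by omega)).rY
        simp only [V', dif_pos (show i + 1 < n by omega)] at h
        rw [← h]; exact ⟨x, rfl⟩)))
      (fun x => hin _ (Subgroup.mem_sup_right (by
        have h := (hψ (i + 1) (by omega)).rY
        simp only [V', dif_pos (show i + 1 + 1 < n by omega)] at h
        rw [← h]; exact ⟨x, rfl⟩)))
    refine ⟨f, fun k hk x => ?_⟩
    rcases (show k = 0 ∨ k = 1 ∨ k = 2 by omega) with rfl | rfl | rfl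
    exacts [f0 x, f1 x, f2 x]
  · refine iSup_le fun i => ?_
    have := hK i (by omega)
    rw [hφ i (by omega)] at this
    simpa [U'] using this
  · refine iSup_le fun i => iSup_le fun j => iSup_le fun hij => ?_
    have := hK' i (by omega)
    rw [(hψ i (by omega)).rY] at this
    simp only [V', dif_pos (show (i : ℕ) + 1 < n by omega)] at this
    rwa [show (⟨i + 1, by omega⟩ : Fin n) = j from Fin.ext hij] at this

end Cfsg.Agent.S3710
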