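import Cfsg.Statements.S3711
import Cfsg.Agent.Lib.Phan.TwoChain
-- import your own Cfsg.Agent.* helpers here

set_option autoImplicit false
open Cfsg

namespace Cfsg.Agent.S3711

open CfsgLib.Phan

/-- Recognition of unitary groups over the field with 4 elements from a weak Phan system. Let F be a field with 4 elements and n ≥ 4. Let G be a group with subgroups U_0, …, U_{n−1}, each isomorphic to SU(2, 4), and, for consecutive indices, subgroups V_{i,i+1} in which U_i and U_{i+1} form a standard pair (via an isomorphism from SU(3, 4) or PSU(3, 4) carrying the block-diagonal subgroups, or their images, onto U_i and U_{i+1}); suppose U_i and U_j commute elementwise whenever the indices differ by at least 2, that G is generated by the U_i and the V_{i,i+1}, that for each i the subgroup generated by V_{i,i+1} and V_{i+1,i+2} is a homomorphic image of SU(4, 4), that U_i and V_{j,j+1} commute elementwise whenever i ≤ j − 2 or i ≥ j + 3,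 and that V_{i,i+1} and V_{k,k+1} commute elementwise whenever k ≥ i + 3. Then G is a homomorphic image of SU(n+1, 4). (G is not assumed finite.) -/
theorem result {G : Type*} [Group G] (n : ℕ) (hn : 4 ≤ n)
    (F : Type*) [Field F] [Fintype F] (hF : Fintype.card F = 4)
    (U : Fin n → Subgroup G) (e : ∀ i, ↥(Cfsg.SU 2 F 2) ≃* ↥(U i))
    (V : Fin n → Fin n → Subgroup G)
    (h1 : ∀ i j : Fin n, (i : ℕ) + 2 ≤ j → ∀ x ∈ U i, ∀ y ∈ U j, x * y = y * x)
    (h2 : ∀ i j : Fin n, (i : ℕ) + 1 = j → Cfsg.IsStandardUnitaryPair (V i j) (U i) (U j) F 2)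
    (hgen : (⨆ i, U i) ⊔ (⨆ (i : Fin n) (j : Fin n) (_ : (i : ℕ) + 1 = j), V i j) = ⊤)
    (h4 : ∀ i j k : Fin n, (i : ℕ) + 1 = j → (j : ℕ) + 1 = k →
      ∃ g : ↥(Cfsg.SU 4 F 2) →* ↥(V i j ⊔ V j k), Function.Surjective g)
    (h5 : ∀ i j k : Fin n, (j : ℕ) + 1 = k → ((i : ℕ) + 2 ≤ j ∨ (k : ℕ) + 2 ≤ i) →
      ∀ x ∈ U i, ∀ y ∈ V j k, x * y = y * x)
    (h6 : ∀ i j k l : Fin n, (i : ℕ) + 1 = j → (k : ℕ) + 1 = l → (j : ℕ) + 2 ≤ k →
      ∀ x ∈ V i j, ∀ y ∈ V k l, x * y = y * x) :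
    ∃ f : ↥(Cfsg.SU (n + 1) F 2) →* G, Function.Surjective f := by
  classical
  have hF' : Fintype.card F = 2 ^ 2 := by rw [hF]; norm_num
  obtain ⟨ω, hω⟩ := Two.exists_omega hF'
  let U' : ℕ → Subgroup G := fun i => if h : i < n then U ⟨i, h⟩ else ⊥
  let V' : ℕ → Subgroup G := fun i => if h : i + 1 < n then V ⟨i, by omega⟩ ⟨i + 1, h⟩ else ⊥
  obtain ⟨ψ, hψ, hlink⟩ := Two.exists_maps hF' U' V' (n - 2) (fun i hi => by
    simp only [U', V', dif_pos (show i < n by omega), dif_pos (show i + 1 < n by omega)]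
    exact Two.exists_pair hF' (h2 _ _ rfl))
  have mU0 : ∀ i (hi : i ≤ n - 2) (x : Cfsg.SU 2 F 2), ψ i (b01 x) ∈ U ⟨i, by omega⟩ := fun i hi x => by
    have h := (hψ i hi).toIs.r01
    simp only [U', dif_pos (show i < n by omega)] at h
    rw [← h]; exact ⟨x, rfl⟩
  have mU1 : ∀ i (hi : i ≤ n - 2) (x : Cfsg.SU 2 F 2), ψ i (b12 x) ∈ U ⟨i + 1, by omega⟩ := fun i hi x => by
    have h := (hψ i hi).toIs.r12
    simp only [U', dif_pos (show i + 1 < n by omega)] at h
    rw [← h]; exact ⟨x, rfl⟩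
  have hrV : ∀ i (hi : i ≤ n - 2), (ψ i).range = V ⟨i, by omega⟩ ⟨i + 1, by omega⟩ := fun i hi => by
    have h := (hψ i hi).toIs.rY
    simpa only [V', dif_pos (show i + 1 < n by omega)] using h
  have mV : ∀ i (hi : i ≤ n - 2) (x : Cfsg.SU 3 F 2), ψ i x ∈ V ⟨i, by omega⟩ ⟨i + 1, by omega⟩ := fun i hi x => by
    rw [← hrV i hi]; exact ⟨x, rfl⟩
  have hcom : ∀ i, i + 1 ≤ n - 2 → ∀ x y, Commute (ψ i (b01 x)) (ψ (i + 1) (b12 y)) := fun i hi x y =>
    h1 ⟨i, by omega⟩ ⟨i + 1 + 1, by omega⟩ le_rfl _ (mU0 i (by omega) x) _ (mU1 (i + 1) hi y)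
  have hinj : ∀ i, i ≤ n - 2 → Function.Injective (ψ i) := fun i hi => by
    by_cases h : i + 1 ≤ n - 2
    · exact Two.pair_injective hF' (hψ i hi) (hψ (i + 1) h) (Or.inl ⟨hlink i (by omega), hcom i h⟩)
    · obtain ⟨j, rfl⟩ : ∃ j, i = j + 1 := ⟨i - 1, by omega⟩
      exact Two.pair_injective hF' (hψ (j + 1) hi) (hψ j (by omega)) (Or.inr ⟨hlink j (by omega), hcom j hi⟩)
  let S : Two.Sys F G (n + 1) :=
    { ψ := ψ
      link := fun i hi => hlink i (by omega)
      far := fun i j hij hj x y =>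
        h5 ⟨i, by omega⟩ ⟨j, by omega⟩ ⟨j + 1, by omega⟩ rfl (Or.inl hij) _ (mU0 i (by omega) x) _
          (mV j (by omega) y)
      far3 := fun i hi x y =>
        h6 ⟨i, by omega⟩ ⟨i + 1, by omega⟩ ⟨i + 3, by omega⟩ ⟨i + 3 + 1, by omega⟩ rfl rfl le_rfl _
          (mV i (by omega) x) _ (mV (i + 3) (by omega) y)
      four := fun i hi => by
        obtain ⟨g, hg⟩ := h4 ⟨i, by omega⟩ ⟨i + 1, by omega⟩ ⟨i + 2, by omega⟩ rfl rfl
        have hr : ((Subgroup.subtype _).comp g).range =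
            V ⟨i, by omega⟩ ⟨i + 1, by omega⟩ ⊔ V ⟨i + 1, by omega⟩ ⟨i + 2, by omega⟩ := by
          rw [MonoidHom.range_comp, MonoidHom.range_eq_top.2 hg, ← MonoidHom.range_eq_map, Subgroup.range_subtype]
        refine Two.exists_four hF' hω ((Subgroup.subtype _).comp g) (ψ i) (ψ (i + 1)) (hinj i (by omega)) (hinj (i + 1) (by omega))
          (hlink i (by omega)) (hcom i (by omega)) ?_ ?_ ?_
        · rw [hr, hrV i (by omega)]; exact le_sup_left
        · rw [hr, hrV (i + 1) (by omega)]; exact le_sup_right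
        · rw [hr, hrV i (by omega), hrV (i + 1) (by omega)] }
  obtain ⟨f, hf⟩ := Two.exists_hom hF' (n + 1) (by omega) S
  refine ⟨f, MonoidHom.range_eq_top.1 (eq_top_iff.2 (hgen ▸ sup_le ?_ ?_))⟩
  · refine iSup_le fun i => ?_
    by_cases hi : (i : ℕ) ≤ n - 2
    · have h := (hψ i hi).toIs.r01
      simp only [U', dif_pos i.isLt] at h
      rw [← h]
      rintro _ ⟨x, rfl⟩
      exact ⟨bk i (by omega) (b01 x), hf i (by omega) _⟩
    · obtain ⟨j, hj⟩ : ∃ j, (i : ℕ) = j + 1 := ⟨(i : ℕ) - 1, by omega⟩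
      have h := (hψ j (by omega)).toIs.r12
      simp only [U', dif_pos (show j + 1 < n by omega)] at h
      rw [show i = ⟨j + 1, by omega⟩ from Fin.ext hj, ← h]
      rintro _ ⟨x, rfl⟩
      exact ⟨bk j (by omega) (b12 x), hf j (by omega) _⟩
  · refine iSup_le fun i => iSup_le fun j => iSup_le fun hij => ?_
    rw [show j = ⟨(i : ℕ) + 1, by omega⟩ from Fin.ext hij.symm, ← hrV i (by omega)]
    rintro _ ⟨x, rfl⟩
    exact ⟨bk i (by omega) x, hf i (by omega) x⟩

end Cfsg.Agent.S3711
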