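import Cfsg.Statements.S3716
import Cfsg.Agent.Lib.DihedralNine.Local
import Cfsg.Agent.Lib.DihedralNine.Arith
import Cfsg.Agent.Lib.Sporadic.CharTools
import Cfsg.Agent.Lib.MathieuBlocks.PElements
import Cfsg.Agent.Lib.Characters.Galois
import Cfsg.Agent.Lib.Small.Sieve
import Cfsg.Agent.Lib.Small.Order720
import Cfsg.Agent.Lib.Small.Order2016
-- import your own Cfsg.Agent.* helpers here

set_option autoImplicit false
open Cfsg

namespace Cfsg.Agent.S3716

theorem pow_three_eq_one_of_isConj {G : Type*} [Group G] {x y : G} (h : IsConj x y) (hy : y ^ 3 = 1) :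
    x ^ 3 = 1 := by
  obtain ⟨c, hc⟩ := isConj_iff.mp h.symm
  rw [← hc, conj_pow, hy, mul_one, mul_inv_cancel]

open CfsgLib.Characters in
/-- An element of order six with real, rational cube and fourth power takes an integral value. -/
theorem exists_int_value_six {G : Type*} [Group G] [Fintype G] (χ : Cfsg.IrrCharacter G) {g : G}
    (hg : g ^ 6 = 1) (hreal : IsConj g g⁻¹) {A : ℤ} (hA : (χ : G → ℂ) (g ^ 4) = A) :
    ∃ B : ℤ, (χ : G → ℂ) g = B ∧ 2 ∣ A - B := by
  classical
  obtain ⟨c, m, ρ, hρ, rfl⟩ := χ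
  obtain ⟨b, w, hw, hb⟩ := exists_eigenbasis ρ g
  have hpow : ∀ k : ℕ, ρ.character (g ^ k) = ∑ i, w i ^ k := fun k =>
    character_eq_sum_of_eigenbasis ρ (g ^ k) b _ fun i => by
      induction k with
      | zero => simp
      | succ k ih => rw [pow_succ', map_mul, Module.End.mul_apply, ih, map_smul, hb, smul_smul, ← pow_succ]
  have hw6 : ∀ i, w i ^ 6 = 1 := fun i => by
    obtain ⟨l, hl⟩ := orderOf_dvd_of_pow_eq_one hg
    rw [hl, pow_mul, hw i, one_pow]
  have hw3 : ∀ i, w i ^ 3 = 1 ∨ w i ^ 3 = -1 := fun i => by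
    refine sq_eq_one_iff.mp ?_
    rw [← pow_mul]; exact hw6 i
  have h5 : ρ.character (g ^ 5) = ρ.character g := by
    have e : g ^ 5 = g⁻¹ := eq_inv_of_mul_eq_one_left (by rw [← pow_succ]; exact hg)
    obtain ⟨x, hx⟩ := isConj_iff.mp hreal
    rw [e, ← hx, Representation.char_conj]
  have h2 : ρ.character (g ^ 2) = A := by
    have e : g ^ 2 = (g ^ 4)⁻¹ := eq_inv_of_mul_eq_one_left (by rw [← pow_add]; exact hg)
    change ρ.character (g ^ 4) = _ at hA
    rw [e, char_inv_eq_conj, hA, map_intCast]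
  change ρ.character (g ^ 4) = _ at hA
  have ht : ∀ i, ∃ t : ℤ, w i ^ 3 = t := fun i => by
    rcases hw3 i with h | h
    · exact ⟨1, by rw [h, Int.cast_one]⟩
    · exact ⟨-1, by rw [h, Int.cast_neg, Int.cast_one]⟩
  have hs : ∀ i, ∃ s : ℤ, w i ^ 0 + w i ^ 1 + w i ^ 2 + w i ^ 3 + w i ^ 4 + w i ^ 5 = s := fun i => by
    rcases eq_or_ne (w i) 1 with h | h
    · exact ⟨6, by rw [h]; norm_num⟩
    · refine ⟨0, ?_⟩
      have e : (w i - 1) * (w i ^ 0 + w i ^ 1 + w i ^ 2 + w i ^ 3 + w i ^ 4 + w i ^ 5) = 0 := by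
        linear_combination hw6 i
      rw [Int.cast_zero]
      exact (mul_eq_zero.mp e).resolve_left (sub_ne_zero.mpr h)
  choose t ht using ht
  choose s hs using hs
  have hB : 2 * ρ.character g = (((∑ i, s i) - (∑ i, t i) - 2 * A - (Module.finrank ℂ (Fin m → ℂ) : ℤ) : ℤ) : ℂ) := by
    push_cast
    rw [Finset.sum_congr rfl fun i _ => (hs i).symm, Finset.sum_congr rfl fun i _ => (ht i).symm]
    simp only [Finset.sum_add_distrib, ← hpow, pow_zero, pow_one, Finset.sum_const, Finset.card_univ,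
      Fintype.card_fin, nsmul_one, h5, h2, hA, ← character_eq_sum_of_eigenbasis ρ g b w hb]
    ring
  have hint : IsIntegral ℤ (ρ.character g) := CfsgLib.ClassCount.irr_isIntegral ⟨ρ.character, m, ρ, hρ, rfl⟩ g
  obtain ⟨K, hK⟩ : ∃ K : ℤ, K = (∑ i, s i) - (∑ i, t i) - 2 * A - (Module.finrank ℂ (Fin m → ℂ) : ℤ) := ⟨_, rfl⟩
  rw [← hK] at hB
  have hq : ((((K : ℚ) / 2 : ℚ)) : ℂ) = ρ.character g := by push_cast; linear_combination (-1 / 2 : ℂ) * hB
  obtain ⟨B, hB'⟩ := exists_int_of_isIntegral_rat (hq ▸ hint)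
  have hgB : ρ.character g = (B : ℂ) := by rw [← hq, ← hB']; push_cast; rfl
  refine ⟨B, hgB, ?_⟩
  -- half the difference is an algebraic integer
  have hu : ∀ i, IsIntegral ℤ ((w i ^ 4 - w i) / 2) := fun i => by
    rcases hw3 i with h | h
    · rw [pow_succ, h, one_mul, sub_self, zero_div]; exact isIntegral_zero
    · rw [pow_succ, h, show (-1 * w i - w i) / 2 = -w i by ring]
      exact (IsIntegral.of_pow (n := 6) (by norm_num) (by rw [hw6]; exact isIntegral_one)).neg
  have hdiff : ((((A : ℚ) - B) / 2 : ℚ) : ℂ) = ∑ i, (w i ^ 4 - w i) / 2 := by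
    rw [← Finset.sum_div, Finset.sum_sub_distrib, ← hpow, hA,
      ← character_eq_sum_of_eigenbasis ρ g b w hb, hgB]
    push_cast; rfl
  obtain ⟨C, hC⟩ := exists_int_of_isIntegral_rat (hdiff ▸ IsIntegral.sum _ fun i _ => hu i)
  refine ⟨C, ?_⟩
  have h : ((A : ℚ) - B) = 2 * C := by linarith
  exact_mod_cast h

open CfsgLib.Characters in
/-- A character of degree five determined by its values on the elements of order three is absent when
seven divides the order. -/
theorem no_five {G : Type*} [Group G] [Fintype G] [IsSimpleGroup G] (hnc : ¬ IsMulCommutative G)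
    (h3G : 3 ∣ Nat.card G) (h7 : 7 ∣ Nat.card G) {a d : G} (ha : orderOf a = 3) (hd : orderOf d = 3)
    (hra : IsConj a a⁻¹) (hrd : IsConj d d⁻¹) (χ : Cfsg.IrrCharacter G) (hχ1 : (χ : G → ℂ) 1 = (5 : ℕ))
    (huniq : ∀ ψ : Cfsg.IrrCharacter G, (ψ : G → ℂ) 1 = (5 : ℕ) → (ψ : G → ℂ) a = (χ : G → ℂ) a →
      (ψ : G → ℂ) d = (χ : G → ℂ) d → ψ = χ) : False := by
  classical
  have : Fact (Nat.Prime 7) := ⟨by norm_num⟩
  obtain ⟨x, hx⟩ := exists_prime_orderOf_dvd_card' 7 h7
  have hfix : ∀ m : ℕ, m.Coprime (Nat.card G) → (χ : G → ℂ) (x ^ m) = (χ : G → ℂ) x := by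
    intro m hm
    obtain ⟨ψ, hψ⟩ : ∃ ψ : Cfsg.IrrCharacter G, ∀ y, (ψ : G → ℂ) y = (χ : G → ℂ) (y ^ m) :=
      ⟨⟨_, CfsgLib.CharGalois.isIrrCharacter_pow χ.2 hm⟩, fun y => rfl⟩
    have hm3 : m % 3 = 1 ∨ m % 3 = 2 := by
      have h : Nat.Coprime m 3 := Nat.Coprime.coprime_dvd_right h3G hm
      have : ¬ 3 ∣ m := (Nat.prime_three.coprime_iff_not_dvd).mp h.symm
      omega
    have hpw : ∀ c : G, orderOf c = 3 → IsConj c c⁻¹ → (χ : G → ℂ) (c ^ m) = (χ : G → ℂ) c := by
      intro c hc hrc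
      rw [← pow_mod_orderOf, hc]
      rcases hm3 with h | h <;> rw [h]
      · rw [pow_one]
      · rw [show c ^ 2 = c⁻¹ from eq_inv_of_mul_eq_one_left (by rw [← pow_succ]; have := pow_orderOf_eq_one c; rwa [hc] at this)]
        exact (classFunction_eq_of_isConj (irr_isClassFunction χ) hrc).symm
    have e := huniq ψ (by rw [hψ, one_pow, hχ1]) (by rw [hψ, hpw a ha hra]) (by rw [hψ, hpw d hd hrd])
    rw [← hψ, e]
  have hN : NeZero (Nat.card G) := ⟨Nat.card_pos.ne'⟩
  have hall : ∀ k : ℕ, ¬ 7 ∣ k → (χ : G → ℂ) (x ^ k) = (χ : G → ℂ) x := by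
    intro k hk
    have hkc : Nat.Coprime k 7 := ((Nat.Prime.coprime_iff_not_dvd (by norm_num)).mpr hk).symm
    obtain ⟨u, hu⟩ := ZMod.unitsMap_surjective h7 (ZMod.unitOfCoprime k hkc)
    have e := congrArg (fun v : (ZMod 7)ˣ => (v : ZMod 7)) hu
    simp only [ZMod.unitsMap_val, ZMod.coe_unitOfCoprime] at e
    have hmod : ((u : ZMod (Nat.card G)).val : ZMod 7) = (k : ZMod 7) := by
      rw [← e, ZMod.natCast_val]
    rw [ZMod.natCast_eq_natCast_iff'] at hmod
    rw [← hfix _ (ZMod.val_coe_unit_coprime u), ← pow_mod_orderOf x k, hx, ← hmod]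
    conv_rhs => rw [← pow_mod_orderOf, hx]
  have : Fintype (Subgroup.zpowers x) := Fintype.ofFinite _
  obtain ⟨m, hm⟩ := CfsgLib.Sporadic.CharTools.exists_nat_sum (irr_isCharacter χ) (Subgroup.zpowers x).subtype
  have hcard : Fintype.card (Subgroup.zpowers x) = 7 := by
    rw [← Nat.card_eq_fintype_card, Nat.card_zpowers, hx]
  rw [← Finset.add_sum_erase _ _ (Finset.mem_univ (1 : Subgroup.zpowers x)),
    Finset.sum_congr rfl (g := fun _ => (χ : G → ℂ) x) (fun h hh => by
      obtain ⟨k, hk⟩ := (isOfFinOrder_of_finite x).mem_powers_iff_mem_zpowers.mpr h.2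
      show (χ : G → ℂ) (h : G) = _
      rw [← hk]
      refine hall k fun ⟨l, hl⟩ => (Finset.mem_erase.1 hh).1 (Subtype.ext ?_)
      rw [← hk]
      show x ^ k = 1
      rw [hl, pow_mul, ← hx, pow_orderOf_eq_one, one_pow]),
    Finset.sum_const, Finset.card_erase_of_mem (Finset.mem_univ _), Finset.card_univ, hcard,
    nsmul_eq_mul, Nat.card_eq_fintype_card, hcard] at hm
  simp only [Subgroup.coe_subtype, OneMemClass.coe_one, hχ1] at hm
  push_cast at hm
  have hq : ((((7 : ℚ) * m - 5) / 6 : ℚ) : ℂ) = (χ : G → ℂ) x := by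
    push_cast; linear_combination -hm / 6
  obtain ⟨z, hz⟩ := exists_int_of_isIntegral_rat (hq ▸ CfsgLib.ClassCount.irr_isIntegral χ x)
  have hxz : (χ : G → ℂ) x = (z : ℂ) := by rw [← hq, ← hz]; push_cast; rfl
  rw [hxz] at hm
  have h : (5 : ℤ) + 6 * z = 7 * m := by
    apply Int.cast_injective (α := ℂ)
    push_cast
    push_cast at hm
    linear_combination hm
  have hne : χ ≠ principalIrr G := fun e => by
    rw [e] at hχ1
    exact absurd (show (1 : ℂ) = (5 : ℕ) from hχ1) (by norm_num)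
  have hlt := CfsgLib.Sporadic.CharTools.norm_lt_degree hnc hne hχ1 (g := x) (fun e => by
    rw [e, orderOf_one] at hx; omega)
  rw [hxz, Complex.norm_intCast] at hlt
  have : |z| < 5 := by exact_mod_cast hlt
  rw [abs_lt] at this
  omega

set_option maxHeartbeats 2000000 in
/-- Let G be a finite group with an elementary abelian Sylow 3-subgroup M of order 9 which is self-centralizing (C_G(M) = M), let N = N_G(M), and suppose C_G(g) ≤ N for every nonidentity g ∈ M. If the Sylow 2-subgroups of N are dihedral of order 8, then G is not simple. -/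
theorem result {G : Type*} [Group G] [Finite G] (M : Sylow 3 G) (hM9 : Nat.card ↥(M : Subgroup G) = 9)
    (hMel : ∀ m ∈ (M : Subgroup G), m ^ 3 = 1)
    (hCM : Subgroup.centralizer ((M : Subgroup G) : Set G) = (M : Subgroup G))
    (N : Subgroup G) (hN : N = Subgroup.normalizer ((M : Subgroup G) : Set G))
    (hCg : ∀ g ∈ (M : Subgroup G), g ≠ 1 → Subgroup.centralizer ({g} : Set G) ≤ N)
    (hS : ∀ S : Sylow 2 ↥N, Nonempty (↥(S : Subgroup ↥N) ≃* DihedralGroup 4)) :
    ¬ IsSimpleGroup G := by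
  classical
  intro hsimp
  have := Fintype.ofFinite G
  obtain ⟨L⟩ := CfsgLib.DihedralNine.exists_local M hM9 hMel hCM hN hCg hS
  obtain ⟨n, hn⟩ : ∃ n, N.index = n := ⟨_, rfl⟩
  have hcard := L.card_eq
  have hmod := L.mod_nine
  rw [hn] at hcard hmod
  have hnc : ¬ IsMulCommutative G := CfsgLib.Small.nc_of_not_prime (by
    rw [hcard]
    exact Nat.not_prime_mul (by norm_num) (fun h => by
      rw [h, mul_one] at hcard
      have htop : N = ⊤ := Subgroup.index_eq_one.mp (hn.trans h)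
      have hnorm : (M : Subgroup G).Normal := Subgroup.normalizer_eq_top_iff.mp (hN.symm.trans htop)
      rcases hnorm.eq_bot_or_eq_top with e | e
      · rw [e, Subgroup.card_bot] at hM9; omega
      · rw [e, Subgroup.card_top, hcard] at hM9; omega))
  have hn1 : 1 < n := by
    by_contra h
    obtain rfl : n = 1 := by omega
    have hnorm : (M : Subgroup G).Normal :=
      Subgroup.normalizer_eq_top_iff.mp (hN.symm.trans (Subgroup.index_eq_one.mp hn))
    rcases hnorm.eq_bot_or_eq_top with e | e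
    · rw [e, Subgroup.card_bot] at hM9; omega
    · rw [e, Subgroup.card_top, hcard] at hM9; omega
  -- the columns
  choose y hy using fun χ : Cfsg.IrrCharacter G =>
    (⟨_, CfsgLib.ClassCount.degree_eq χ⟩ : ∃ k : ℕ, (χ : G → ℂ) 1 = k ∧ k ∣ Nat.card G ∧ 0 < k)
  choose A hA hA3 using fun χ : Cfsg.IrrCharacter G =>
    CfsgLib.MathieuBlocks.exists_int_value_three χ L.ord_a L.real_a (hy χ).1
  choose D hD hD3 using fun χ : Cfsg.IrrCharacter G =>
    CfsgLib.MathieuBlocks.exists_int_value_three χ L.ord_d L.real_d (hy χ).1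
  choose B hB hB2 using fun χ : Cfsg.IrrCharacter G =>
    exists_int_value_six χ L.g6 L.real_g (A := A χ) (by rw [L.g4]; exact hA χ)
  choose C hC hC2 using fun χ : Cfsg.IrrCharacter G =>
    exists_int_value_six χ L.h6 L.real_h (A := D χ) (by rw [L.h4]; exact hD χ)
  have horth : ∀ (u w : G) (U W : Cfsg.IrrCharacter G → ℤ), (∀ χ : Cfsg.IrrCharacter G, (χ : G → ℂ) u = U χ) →
      (∀ χ : Cfsg.IrrCharacter G, (χ : G → ℂ) w = W χ) →
      ∑ χ, U χ * W χ = if IsConj u w then (Nat.card (Subgroup.centralizer ({u} : Set G)) : ℤ) else 0 := by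
    intro u w U W hU hW
    have h := CfsgLib.Characters.column_orth u w
    simp only [hU, hW, map_intCast] at h
    apply Int.cast_injective (α := ℂ)
    push_cast
    exact h
  have hy' : ∀ χ : Cfsg.IrrCharacter G, (χ : G → ℂ) 1 = ((y χ : ℤ) : ℂ) := fun χ => by
    rw [(hy χ).1, Int.cast_natCast]
  have ha3 : L.a ^ 3 = 1 := L.ord_a ▸ pow_orderOf_eq_one L.a
  have hd3 : L.d ^ 3 = 1 := L.ord_d ▸ pow_orderOf_eq_one L.d
  have h1a : ¬ IsConj 1 L.a := fun h => by
    have e := isConj_one_right.mp h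
    have := L.ord_a
    rw [e, orderOf_one] at this; omega
  have h1d : ¬ IsConj 1 L.d := fun h => by
    have e := isConj_one_right.mp h
    have := L.ord_d
    rw [e, orderOf_one] at this; omega
  have h1g : ¬ IsConj 1 L.g := fun h => L.g3 (pow_three_eq_one_of_isConj h.symm (one_pow 3))
  have h1h : ¬ IsConj 1 L.h := fun h => L.h3 (pow_three_eq_one_of_isConj h.symm (one_pow 3))
  have hag : ¬ IsConj L.a L.g := fun h => L.g3 (pow_three_eq_one_of_isConj h.symm ha3)
  have hah : ¬ IsConj L.a L.h := fun h => L.h3 (pow_three_eq_one_of_isConj h.symm ha3)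
  have hdg : ¬ IsConj L.d L.g := fun h => L.g3 (pow_three_eq_one_of_isConj h.symm hd3)
  have hdh : ¬ IsConj L.d L.h := fun h => L.h3 (pow_three_eq_one_of_isConj h.symm hd3)
  have hgh : ¬ IsConj L.g L.h := fun h => L.not_conj (by
    obtain ⟨c, hc⟩ := isConj_iff.mp h
    exact isConj_iff.mpr ⟨c, by rw [← L.g4, ← L.h4, ← hc, conj_pow]⟩)
  let o := CfsgLib.Characters.principalIrr G
  have ho : ∀ x : G, (o : G → ℂ) x = 1 := fun _ => rfl
  let cS := fun χ : Cfsg.IrrCharacter G => (CfsgLib.ClassCount.cofDegree χ : ℤ)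
  have hc : ∀ χ, (y χ : ℤ) * cS χ = 72 * (n : ℤ) := fun χ => by
    have h := CfsgLib.ClassCount.degree_mul_cofDegree χ
    rw [show Cfsg.charDegree (χ : G → ℂ) = y χ by
      exact_mod_cast (CfsgLib.ClassCount.degree_eq χ).1.symm.trans (hy χ).1, hcard] at h
    simp only [cS]
    exact_mod_cast h
  have hcount : ∀ (u w : G) (U W : Cfsg.IrrCharacter G → ℤ), (∀ χ : Cfsg.IrrCharacter G, (χ : G → ℂ) u = U χ) →
      (∀ χ : Cfsg.IrrCharacter G, (χ : G → ℂ) w = W χ) → IsConj w w⁻¹ →
      (CfsgLib.ClassCount.pairs u u {w}).card = 2 → Nat.card (Subgroup.centralizer ({u} : Set G)) = 18 →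
      (n : ℚ) * ∑ χ, (U χ : ℚ) * U χ * W χ / (y χ : ℤ) = 9 := by
    intro u w U W hU hW hrw hpair hcent
    have h := CfsgLib.ClassCount.card_pairs_mul_centralizers u u {w}
    rw [hpair, hcent] at h
    simp only [Finset.sum_singleton, hU, ← CfsgLib.Characters.classFunction_eq_of_isConj
      (CfsgLib.Characters.irr_isClassFunction _) hrw, hW] at h
    have h' : (648 : ℤ) = ∑ χ, cS χ * (U χ * U χ * W χ) := by
      apply Int.cast_injective (α := ℂ)
      simp only [cS]
      push_cast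
      rw [← h]; norm_num
    have hq : (648 : ℚ) = ∑ χ, (cS χ : ℚ) * (U χ * U χ * W χ) := by exact_mod_cast h'
    rw [Finset.sum_congr rfl (g := fun χ => 72 * ((n : ℚ) * ((U χ : ℚ) * U χ * W χ / (y χ : ℤ)))) (fun χ _ => by
      have hy0 : ((y χ : ℤ) : ℚ) ≠ 0 := by exact_mod_cast (hy χ).2.2.ne'
      have e : ((y χ : ℤ) : ℚ) * (cS χ : ℚ) = 72 * (n : ℚ) := by exact_mod_cast hc χ
      field_simp
      linear_combination ((U χ : ℚ) ^ 2 * W χ) * e), ← Finset.mul_sum, ← Finset.mul_sum] at hq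
    linarith
  have hyone : ∀ χ, χ ≠ o → (y χ : ℤ) ≠ 1 := fun χ hne h1 => by
    have hlt := CfsgLib.Sporadic.CharTools.norm_lt_degree hnc hne (hy χ).1 (g := L.a) (fun e => by
      have := L.ord_a; rw [e, orderOf_one] at this; omega)
    rw [hA χ, Complex.norm_intCast, show y χ = 1 by exact_mod_cast h1, Nat.cast_one] at hlt
    have hA0 : |A χ| < 1 := by exact_mod_cast hlt
    have := Int.abs_lt_one_iff.mp hA0
    have := hA3 χ
    omega
  have hone : ∀ (u : G) (U : Cfsg.IrrCharacter G → ℤ), (∀ χ : Cfsg.IrrCharacter G, (χ : G → ℂ) u = U χ) →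
      U o = 1 := fun u U hU => by exact_mod_cast (hU o).symm.trans (ho u)
  have hm : ∀ χ, ∃ m : ℕ, (y χ : ℤ) + 4 * A χ + 4 * D χ = 9 * (m : ℤ) := fun χ => by
    obtain ⟨m, hm⟩ := L.sum_M χ
    rw [hy', hA, hD] at hm
    exact ⟨m, by exact_mod_cast hm⟩
  let T : CfsgLib.DihedralNine.Table (Cfsg.IrrCharacter G) :=
    { o := o
      n := n
      y := fun χ => y χ
      A := A
      D := D
      B := B
      C := C
      ypos := fun χ => by exact_mod_cast (hy χ).2.2
      yo := hone 1 _ hy'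
      Ao := hone _ A hA
      Do := hone _ D hD
      Bo := hone _ B hB
      Co := hone _ C hC
      y_ne_one := hyone
      AA := by rw [horth _ _ A A hA hA, if_pos (IsConj.refl _), L.cent_a]; rfl
      DD := by rw [horth _ _ D D hD hD, if_pos (IsConj.refl _), L.cent_d]; rfl
      AD := by rw [horth _ _ A D hA hD, if_neg L.not_conj]
      yA := by rw [horth _ _ _ A hy' hA, if_neg h1a]
      yD := by rw [horth _ _ _ D hy' hD, if_neg h1d]
      BB := by rw [horth _ _ B B hB hB, if_pos (IsConj.refl _), L.cent_g]; rfl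
      CC := by rw [horth _ _ C C hC hC, if_pos (IsConj.refl _), L.cent_h]; rfl
      BC := by rw [horth _ _ B C hB hC, if_neg hgh]
      AB := by rw [horth _ _ A B hA hB, if_neg hag]
      DB := by rw [horth _ _ D B hD hB, if_neg hdg]
      yB := by rw [horth _ _ _ B hy' hB, if_neg h1g]
      AC := by rw [horth _ _ A C hA hC, if_neg hah]
      DC := by rw [horth _ _ D C hD hC, if_neg hdh]
      yC := by rw [horth _ _ _ C hy' hC, if_neg h1h]
      parB := hB2
      parC := hC2
      hAAD := hcount _ _ A D hA hD L.real_d L.pairs_a L.cent_a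
      hADD := by
        rw [Finset.sum_congr rfl fun χ _ => show (A χ : ℚ) * D χ * D χ / (y χ : ℤ) = (D χ : ℚ) * D χ * A χ / (y χ : ℤ) by ring]
        exact hcount _ _ D A hD hA L.real_a L.pairs_d L.cent_d
      hmod := fun χ => by obtain ⟨m, h⟩ := hm χ; exact ⟨m, h⟩
      hnn := fun χ => by obtain ⟨m, h⟩ := hm χ; rw [h]; positivity
      hthree := fun χ => by have := hA3 χ; have := hD3 χ; omega
      hsq := by
        have h := horth _ _ _ _ hy' hy'
        rw [if_pos (IsConj.refl _), show Subgroup.centralizer ({(1 : G)} : Set G) = ⊤ from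
          (Subgroup.eq_top_iff' _).mpr fun g => Subgroup.mem_centralizer_singleton_iff.mpr (by rw [mul_one, one_mul]),
          Subgroup.card_top, hcard] at h
        rw [h]; push_cast; exact le_refl _ }
  rcases CfsgLib.DihedralNine.possible T hn1 hmod with ⟨h91, h55⟩ | ⟨h7, j, hj5, hjA, hjD, huniq⟩
  · have h91' : n ≤ 91 := h91
    have h55' : n ≠ 55 := h55
    have hs := CfsgLib.Small.Sieve.survive_of_simple hnc (by omega)
    rw [hcard] at hs
    obtain ⟨k, hk, hk10⟩ : ∃ k, n = 9 * k + 1 ∧ k ≤ 10 := ⟨n / 9, by omega, by omega⟩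
    have hall : ∀ k ≤ 10, CfsgLib.Small.Sieve.survive (72 * (9 * k + 1)) = true → k = 1 ∨ k = 3 ∨ k = 6 := by
      decide +kernel
    rw [hk] at hs hcard h55'
    rcases hall k hk10 hs with rfl | rfl | rfl
    · exact CfsgLib.Small.Order720.card_ne (G := G) (by rw [hcard])
    · exact CfsgLib.Small.Order2016.card_ne (G := G) (by rw [hcard])
    · exact h55' rfl
  · refine no_five hnc ?_ ?_ L.ord_a L.ord_d L.real_a L.real_d j ?_ ?_
    · rw [hcard]; exact Dvd.dvd.mul_right (by norm_num) n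
    · rw [hcard]; exact Dvd.dvd.mul_left h7 72
    · have hj : (y j : ℤ) = 5 := hj5
      rw [(hy j).1, show y j = 5 by exact_mod_cast hj]
    · intro ψ hψ hψa hψd
      refine huniq ψ ?_ ?_ ?_
      · show (y ψ : ℤ) = 5
        have e : y ψ = 5 := Nat.cast_injective (R := ℂ) ((hy ψ).1.symm.trans hψ)
        rw [e]; rfl
      · have e : A ψ = A j := Int.cast_injective (α := ℂ) (((hA ψ).symm.trans hψa).trans (hA j))
        exact e.trans hjA
      · have e : D ψ = D j := Int.cast_injective (α := ℂ) (((hD ψ).symm.trans hψd).trans (hD j))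
        exact e.trans hjD

end Cfsg.Agent.S3716
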