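import Cfsg.Statements.S3730
import Cfsg.Agent.Lib.EvenCyclicNorm.PGL
-- import your own Cfsg.Agent.* helpers here

set_option autoImplicit false
open Cfsg

namespace Cfsg.Agent.S3730

/-- Let G be a nontrivial finite group with no nontrivial solvable normal subgroup, such that for every cyclic subgroup X of even order and every nontrivial subgroup Y of X one has N_G(X) = N_G(Y) (every nontrivial subgroup of a cyclic subgroup of even order has the same normalizer as the whole cyclic subgroup). Then G is isomorphic to PSL(2, q) or to PGL(2, q) for some prime power q > 3. -/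
theorem result
    {G : Type*} [Group G] [Finite G] [Nontrivial G]
    (hss : ∀ N : Subgroup G, N.Normal → Group.IsSolvable ↥N → N = ⊥)
    (hii : ∀ X : Subgroup G, IsCyclic ↥X → Even (Nat.card ↥X) → ∀ Y : Subgroup G, Y ≤ X → Y ≠ ⊥ →
      Subgroup.normalizer (X : Set G) = Subgroup.normalizer (Y : Set G)) :
    ∃ (F : Type) (_ : Field F) (_ : Fintype F), 3 < Fintype.card F ∧
      (Nonempty (G ≃* Matrix.ProjectiveSpecialLinearGroup (Fin 2) F) ∨
        Nonempty (G ≃* Matrix.ProjGenLinGroup (Fin 2) F)) := by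
  have h : CfsgLib.EvenCyclicNorm.Hyp G := ⟨hss, hii⟩
  rcases h.reduce with ⟨F, iF, iT, hF, h3, ⟨e⟩⟩ | ⟨K, z, v₀, d₀⟩
  · exact ⟨F, iF, iT, h3, Or.inl (CfsgLib.EvenCyclicNorm.exists_psl_of_sl e)⟩
  obtain ⟨v, d, hv⟩ := d₀.exists_rep h
  by_cases hone : ∀ x : G, orderOf x = 2 → IsConj x z
  · obtain ⟨F, iF, iT, h3, e⟩ := d.psl h hone
    exact ⟨F, iF, iT, h3, Or.inl e⟩
  · push Not at hone
    obtain ⟨x, hx, hxz⟩ := hone
    obtain ⟨M, u, o⟩ := d.two_class hv hx hxz
    obtain ⟨F, iF, iT, h3, e⟩ := o.pgl h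
    exact ⟨F, iF, iT, h3, Or.inr e⟩

end Cfsg.Agent.S3730
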