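import Cfsg.Statements.S3733


set_option autoImplicit false
open Cfsg

namespace Cfsg.Agent.S3733

/-- Let A and V be subgroups of a finite group with V abelian and nontrivial and A normalizing V. Suppose a nonempty finite family of proper subgroups of A partitions A: every non-identity element of A lies in exactly one member. If the number of members minus one is coprime to the order of V, then some member B of the family has a non-identity fixed point on V, that is V ∩ C(B) ≠ 1. -/
theorem result {G : Type*} [Group G] [Finite G] (A V : Subgroup G) (hVab : IsMulCommutative V) (hV : V ≠ ⊥) (hAV : A ≤ Subgroup.normalizer (V : Set G)) (𝒜 : Finset (Subgroup G)) (hne : 𝒜.Nonempty) (hprop : ∀ B ∈ 𝒜, B < A) (hpart : ∀ a ∈ A, a ≠ 1 → ∃! B, B ∈ 𝒜 ∧ a ∈ B) (hk : (𝒜.card - 1).Coprime (Nat.card V)) : ∃ B ∈ 𝒜, V ⊓ Subgroup.centralizer (B : Set G) ≠ ⊥ := by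
  classical
  haveI := Fintype.ofFinite G
  let _ : CommGroup V := { (inferInstance : Group V) with
    mul_comm := fun a b => Std.Commutative.comm (op := ((· * ·) : V → V → V)) a b }
  by_contra hcon
  push Not at hcon
  obtain ⟨v, hv, hv1⟩ := (Subgroup.bot_or_exists_ne_one V).resolve_left hV
  let f : G → V := fun g => if h : g ∈ A then ⟨g * v * g⁻¹, Subgroup.le_normalizer_iff.mp hAV g h v hv⟩ else 1
  let N : Subgroup G → V := fun B => ∏ b ∈ Finset.univ.filter (fun g => g ∈ B), f b
  have hf : ∀ g ∈ A, (f g : G) = g * v * g⁻¹ := fun g hg => by simp [f, hg]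
  have hfix : ∀ B, B ≤ A → (N B : G) ∈ Subgroup.centralizer (B : Set G) := by
    intro B hB c hc
    let φ : V →* V := MonoidHom.mk' (fun w => ⟨c * w * c⁻¹, Subgroup.le_normalizer_iff.mp hAV c (hB hc) w w.2⟩)
      (fun a b => Subtype.ext (by simp [mul_assoc]))
    have h1 : φ (N B) = N B := by
      rw [map_prod]
      refine Finset.prod_bij' (fun b _ => c * b) (fun b _ => c⁻¹ * b) ?_ ?_ ?_ ?_ ?_
      · intro b hb; simp only [Finset.mem_filter_univ] at hb ⊢; exact mul_mem hc hb
      · intro b hb; simp only [Finset.mem_filter_univ] at hb ⊢; exact mul_mem (inv_mem hc) hb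
      · intro b _; simp
      · intro b _; simp
      · intro b hb
        simp only [Finset.mem_filter_univ] at hb
        apply Subtype.ext
        show c * (f b : G) * c⁻¹ = (f (c * b) : G)
        rw [hf b (hB hb), hf (c * b) (mul_mem (hB hc) (hB hb))]
        group
    exact (mul_inv_eq_iff_eq_mul.mp (congrArg Subtype.val h1))
  have hNB : ∀ B ∈ 𝒜, N B = 1 := fun B hB => by
    have h := (hcon B hB).le ⟨(N B).2, hfix B (hprop B hB).le⟩
    exact Subtype.ext (Subgroup.mem_bot.mp h)
  have hNA : N A = 1 := by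
    obtain ⟨B, hB⟩ := hne
    have h := (hcon B hB).le ⟨(N A).2, Subgroup.centralizer_le (fun x hx => (hprop B hB).le hx) (hfix A le_rfl)⟩
    exact Subtype.ext (Subgroup.mem_bot.mp h)
  have hsplit : ∀ B, B ≤ A → N B = (∏ b ∈ Finset.univ.filter (fun g => g ∈ B ∧ g ≠ 1), f b) * f 1 := by
    intro B hB
    show ∏ b ∈ Finset.univ.filter (fun g => g ∈ B), f b = _
    have he : Finset.univ.filter (fun g => g ∈ B ∧ g ≠ 1) = (Finset.univ.filter (fun g => g ∈ B)).erase 1 := by
      ext g; simp [and_comm]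
    rw [he, Finset.prod_erase_mul _ _ (by simp [one_mem])]
  have hrest : ∀ B ∈ 𝒜, ∏ b ∈ Finset.univ.filter (fun g => g ∈ B ∧ g ≠ 1), f b = (f 1)⁻¹ := fun B hB =>
    eq_inv_of_mul_eq_one_left ((hsplit B (hprop B hB).le).symm.trans (hNB B hB))
  have hbU : Finset.univ.filter (fun g => g ∈ A ∧ g ≠ 1) =
      𝒜.biUnion (fun B => Finset.univ.filter (fun g => g ∈ B ∧ g ≠ 1)) := by
    ext g
    simp only [Finset.mem_filter_univ, Finset.mem_biUnion]
    exact ⟨fun ⟨h1, h2⟩ => by obtain ⟨B, hB, -⟩ := hpart g h1 h2; exact ⟨B, hB.1, hB.2, h2⟩,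
      fun ⟨B, hB, h1, h2⟩ => ⟨(hprop B hB).le h1, h2⟩⟩
  have hdisj : ((𝒜 : Finset (Subgroup G)) : Set (Subgroup G)).PairwiseDisjoint
      (fun B => Finset.univ.filter (fun g => g ∈ B ∧ g ≠ 1)) := by
    intro B hB C hC hne'
    refine Finset.disjoint_left.mpr fun g h1 h2 => hne' ?_
    simp only [Finset.mem_filter_univ] at h1 h2
    exact (hpart g ((hprop B hB).le h1.1) h1.2).unique ⟨hB, h1.1⟩ ⟨hC, h2.1⟩
  have key := hsplit A le_rfl
  rw [hNA, hbU, Finset.prod_biUnion hdisj, Finset.prod_congr rfl hrest, Finset.prod_const] at key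
  obtain ⟨k, hk'⟩ : ∃ k, 𝒜.card = k + 1 := ⟨𝒜.card - 1, by have := hne.card_pos; omega⟩
  rw [hk', pow_succ, mul_assoc, inv_mul_cancel, mul_one] at key
  have hpow : (f 1) ^ k = 1 := by rw [← inv_inj, ← inv_pow, inv_one]; exact key.symm
  rw [hk', add_tsub_cancel_right] at hk
  have h1 : f 1 = 1 := by
    rw [← orderOf_eq_one_iff]
    exact Nat.dvd_one.mp (hk ▸ Nat.dvd_gcd (orderOf_dvd_of_pow_eq_one hpow) (orderOf_dvd_natCard (f 1)))
  have := hf 1 A.one_mem
  rw [h1] at this
  simp at this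
  exact hv1 this.symm

end Cfsg.Agent.S3733
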