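import Cfsg.Statements.S3735
import Cfsg.Agent.Lib.Structure.Subnormal

set_option autoImplicit false
open Cfsg

namespace Cfsg.Agent.S3735

open Subgroup

/-- Minimal nontrivial `A`-invariant subgroups of `V`. -/
def IsMinInv {G : Type*} [Group G] (A V S : Subgroup G) : Prop :=
  S ≠ ⊥ ∧ S ≤ V ∧ A ≤ normalizer (S : Set G) ∧
    ∀ S' : Subgroup G, S' ≤ S → A ≤ normalizer (S' : Set G) → S' = ⊥ ∨ S' = S

theorem exists_isMinInv_le {G : Type*} [Group G] [Finite G] {A V W : Subgroup G} (hWV : W ≤ V)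
    (hAW : A ≤ normalizer (W : Set G)) (hne : W ≠ ⊥) : ∃ S, IsMinInv A V S ∧ S ≤ W := by
  obtain ⟨S, hSW, hS⟩ := ({S : Subgroup G | A ≤ normalizer (S : Set G) ∧ S ≠ ⊥}).toFinite.exists_le_minimal
    (a := W) ⟨hAW, hne⟩
  refine ⟨S, ⟨hS.prop.2, hSW.trans hWV, hS.prop.1, fun S' h1 h2 => ?_⟩, hSW⟩
  by_cases h : S' = ⊥
  · exact Or.inl h
  · exact Or.inr (le_antisymm h1 (hS.le_of_le ⟨h2, h⟩ h1))


/-- Clifford's Theorem for actions on finite abelian groups, first part. Let H and V be subgroups of a finite group with V abelian and H normalizing V, and let A be a normal subgroup of H. If every H-invariant subgroup of V has an H-invariant complement in V, then every A-invariant subgroup of V has an A-invariant complement in V. -/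
theorem result {G : Type*} [Group G] [Finite G] (H A V : Subgroup G) (hVab : IsMulCommutative V) (hHV : H ≤ Subgroup.normalizer (V : Set G)) (hAH : A ≤ H) (hAn : H ≤ Subgroup.normalizer (A : Set G)) (hss : ∀ U : Subgroup G, U ≤ V → H ≤ Subgroup.normalizer (U : Set G) → ∃ W : Subgroup G, W ≤ V ∧ H ≤ Subgroup.normalizer (W : Set G) ∧ U ⊓ W = ⊥ ∧ U ⊔ W = V) (U : Subgroup G) (hUV : U ≤ V) (hAU : A ≤ Subgroup.normalizer (U : Set G)) : ∃ W : Subgroup G, W ≤ V ∧ A ≤ Subgroup.normalizer (W : Set G) ∧ U ⊓ W = ⊥ ∧ U ⊔ W = V := by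
  classical
  have hT : sSup {S | IsMinInv A V S} = V := by
    set T := sSup {S | IsMinInv A V S}
    have hTV : T ≤ V := sSup_le fun S hS => hS.2.1
    have hTH : H ≤ Subgroup.normalizer (T : Set G) := by
      refine CfsgLib.Structure.le_normalizer_sSup fun g hg S hS => ?_
      obtain ⟨h1, h2, h3, h4⟩ := hS
      have hA' : A.map (MulAut.conj g).toMonoidHom = A :=
        Subgroup.mem_normalizer_iff_map_conj_eq.mp (hAn hg)
      refine ⟨fun h => h1 ((Subgroup.map_eq_bot_iff_of_injective S (MulAut.conj g).injective).mp h), ?_, ?_, ?_⟩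
      · rw [← Subgroup.mem_normalizer_iff_map_conj_eq.mp (hHV hg)]
        exact Subgroup.map_mono h2
      · rw [← hA']
        exact (Subgroup.map_mono h3).trans (Subgroup.le_normalizer_map _)
      · intro S' hle hinv
        have hA'' : A ≤ Subgroup.normalizer ((S'.comap (MulAut.conj g).toMonoidHom : Subgroup G) : Set G) := by
          refine le_trans ?_ (Subgroup.le_normalizer_comap _)
          rw [← Subgroup.map_le_iff_le_comap, hA']
          exact hinv
        have he := Subgroup.map_comap_eq_self_of_surjective (f := (MulAut.conj g).toMonoidHom) (MulAut.conj g).surjective S'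
        rcases h4 _ ((Subgroup.comap_mono hle).trans_eq (Subgroup.comap_map_eq_self_of_injective (MulAut.conj g).injective S)) hA'' with h | h
        · exact Or.inl (by rw [← he, h, Subgroup.map_bot])
        · exact Or.inr (by rw [← he, h])
    obtain ⟨W, hWV, hHW, hinf, hsup⟩ := hss T hTV hTH
    rcases eq_or_ne W ⊥ with rfl | hne
    · simpa using hsup
    · obtain ⟨S, hS, hSW⟩ := exists_isMinInv_le hWV (hAH.trans hHW) hne
      have hST : S ≤ T := le_sSup (show S ∈ {S | IsMinInv A V S} from hS)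
      exact absurd (le_bot_iff.mp ((le_inf hST hSW).trans hinf.le)) hS.1
  obtain ⟨W, -, hW⟩ := ({W : Subgroup G | W ≤ V ∧ A ≤ Subgroup.normalizer (W : Set G) ∧ U ⊓ W = ⊥}).toFinite.exists_le_maximal
    (a := ⊥) ⟨bot_le, Subgroup.le_normalizer_of_normal, inf_bot_eq U⟩
  obtain ⟨hWV, hAW, hUW⟩ := hW.prop
  refine ⟨W, hWV, hAW, hUW, le_antisymm (sup_le hUV hWV) ?_⟩
  refine hT.ge.trans (sSup_le fun S hS => ?_)
  rcases hS.2.2.2 (S ⊓ (U ⊔ W)) inf_le_left
    ((le_inf hS.2.2.1 (CfsgLib.Structure.le_normalizer_sup_of_le hAU hAW)).trans Subgroup.inf_normalizer_le_normalizer_inf) with h | h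
  · have hmem : U ⊓ (W ⊔ S) = ⊥ := by
      rw [eq_bot_iff]
      intro x hx
      have hx2 : x ∈ W ⊔ S := hx.2
      have hWS : S ≤ Subgroup.normalizer (W : Set G) :=
        (hS.2.1.trans (Subgroup.le_centralizer V)).trans
          ((Subgroup.centralizer_le fun y hy => hWV hy).trans (Subgroup.centralizer_le_normalizer _))
      rw [sup_comm, ← SetLike.mem_coe, Subgroup.coe_mul_of_left_le_normalizer_right _ _ hWS] at hx2
      obtain ⟨s, hs, w, hw, rfl⟩ := hx2
      have hs' : s ∈ S ⊓ (U ⊔ W) := by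
        refine ⟨hs, ?_⟩
        simpa using mul_mem (Subgroup.mem_sup_left hx.1 : s * w ∈ U ⊔ W) (inv_mem (Subgroup.mem_sup_right hw : w ∈ U ⊔ W))
      rw [h, Subgroup.mem_bot] at hs'
      subst hs'
      exact hUW.le ⟨hx.1, by simpa using hw⟩
    exact (le_sup_right.trans (hW.le_of_ge
      ⟨sup_le hWV hS.2.1, CfsgLib.Structure.le_normalizer_sup_of_le hAW hS.2.2.1, hmem⟩ le_sup_left)).trans le_sup_right
  · exact h ▸ inf_le_right

end Cfsg.Agent.S3735
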