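import Cfsg.Statements.S3736
import Cfsg.Agent.Lib.Coprime.Commutator
import Cfsg.Agent.Lib.PGroup.Frattini
import Cfsg.Agent.Lib.PGroup.Class2
import Cfsg.Agent.Lib.Structure.Subnormal

set_option autoImplicit false
open Cfsg

namespace Cfsg.Agent.S3736

open Subgroup
open scoped commutatorElement

theorem inf_centralizer_le_derived_of_normal {X : Type*} [Group X] [Finite X] (A P : Subgroup X) [P.Normal]
    (hcop : (Nat.card A).Coprime (Nat.card P)) (hfull : ⁅P, A⁆ = P) :
    P ⊓ centralizer (A : Set X) ≤ (_root_.commutator P).map P.subtype := by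
  set N := (_root_.commutator P).map P.subtype with hN
  haveI : N.Normal := inferInstance
  set f := QuotientGroup.mk' N with hf
  haveI hab : IsMulCommutative (P.map f) := by
    rw [← commutator_self_eq_bot_iff, ← map_commutator, Subgroup.map_eq_bot_iff, hf,
      QuotientGroup.ker_mk', hN, map_subtype_commutator]
  haveI : (P.map f).Normal := Normal.map inferInstance _ (QuotientGroup.mk'_surjective N)
  have h := CfsgLib.Coprime.commutator_inf_centralizer_eq_bot (A.map f) (P.map f) le_normalizer_of_normal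
    ((hcop.coprime_dvd_left (card_map_dvd A f)).coprime_dvd_right (card_map_dvd P f))
  rw [← map_commutator, hfull] at h
  intro x hx
  have hmem : f x ∈ P.map f ⊓ centralizer ((A.map f : Subgroup (X ⧸ N)) : Set (X ⧸ N)) := by
    refine ⟨mem_map_of_mem f hx.1, ?_⟩
    rintro _ ⟨a, ha, rfl⟩
    rw [← map_mul, ← map_mul, hx.2 a ha]
  rw [h, mem_bot] at hmem
  exact (QuotientGroup.eq_one_iff x).mp hmem

theorem inf_centralizer_le_derived {X : Type*} [Group X] [Finite X] (A P : Subgroup X)
    (hAP : A ≤ normalizer (P : Set X)) (hcop : (Nat.card A).Coprime (Nat.card P)) (hfull : ⁅P, A⁆ = P) :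
    P ⊓ centralizer (A : Set X) ≤ ⁅P, P⁆ := by
  set M : Subgroup X := normalizer (P : Set X) with hM
  have hPM : P ≤ M := le_normalizer
  haveI : (P.subgroupOf M).Normal := (normal_subgroupOf_iff_le_normalizer hPM).mpr le_rfl
  have h := inf_centralizer_le_derived_of_normal (A.subgroupOf M) (P.subgroupOf M) (by
      rwa [Nat.card_congr (subgroupOfEquivOfLe hAP).toEquiv, Nat.card_congr (subgroupOfEquivOfLe hPM).toEquiv])
    (by
      apply map_injective M.subtype_injective
      rw [map_commutator, map_subgroupOf_eq_of_le hPM, map_subgroupOf_eq_of_le hAP, hfull])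
  intro x hx
  have hmem := h (show (⟨x, hPM hx.1⟩ : M) ∈ P.subgroupOf M ⊓ centralizer (A.subgroupOf M : Set M) from
    ⟨hx.1, fun a ha => Subtype.ext (hx.2 (a : X) ha)⟩)
  rw [map_subtype_commutator] at hmem
  have := mem_map_of_mem M.subtype hmem
  rwa [map_commutator, map_subgroupOf_eq_of_le hPM] at this


/-- The Hall–Higman reduction for a minimal non-trivial action. Let B, A and P be subgroups of a finite group with P a p-group, B normalizing P, and A a normal subgroup of B of order prime to p. Suppose A does not centralize P but centralizes every proper B-invariant subgroup of P. Then [P, A] = P; P is elementary abelian or special; B acts irreducibly on P/Φ(P), that is, the only B-invariant subgroups of P containing Φ(P) are Φ(P) and P; and if p is odd then every element of P has order dividing p. -/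
theorem result {X : Type*} [Group X] [Finite X] {p : ℕ} [Fact p.Prime] (B A P : Subgroup X) (hP : IsPGroup p P) (hBP : B ≤ Subgroup.normalizer (P : Set X)) (hAB : A ≤ B) (hAn : B ≤ Subgroup.normalizer (A : Set X)) (hAp : (Nat.card A).Coprime p) (hnt : ⁅P, A⁆ ≠ ⊥) (hmin : ∀ U : Subgroup X, U < P → B ≤ Subgroup.normalizer (U : Set X) → ⁅U, A⁆ = ⊥) : ⁅P, A⁆ = P ∧ (Cfsg.IsElementaryAbelian p P ∨ Cfsg.IsSpecial p ↥P) ∧ (∀ U : Subgroup X, (frattini ↥P).map P.subtype ≤ U → U ≤ P → B ≤ Subgroup.normalizer (U : Set X) → U = (frattini ↥P).map P.subtype ∨ U = P) ∧ (p ≠ 2 → ∀ x ∈ P, x ^ p = 1) := by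
  have hp : p.Prime := Fact.out
  have hAP : A ≤ Subgroup.normalizer (P : Set X) := hAB.trans hBP
  have hcop : (Nat.card A).Coprime (Nat.card P) := by
    obtain ⟨n, hn⟩ := IsPGroup.iff_card.mp hP
    rw [hn]
    exact hAp.pow_right n
  have hsolv : Group.IsSolvable A ∨ Group.IsSolvable P := Or.inr (haveI := hP.isNilpotent; inferInstance)
  have hPne : P ≠ ⊥ := fun h => hnt (by rw [h, Subgroup.commutator_bot_left])
  have hBinv : ∀ H : Subgroup X, (∀ b ∈ B, H.map (MulAut.conj b).toMonoidHom = H) → B ≤ Subgroup.normalizer (H : Set X) :=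
    fun H h b hb => Subgroup.mem_normalizer_iff_map_conj_eq.mpr (h b hb)
  have hPA : ⁅P, A⁆ = P := by
    by_contra hne
    have h1 := hmin ⁅P, A⁆ (lt_of_le_of_ne (CfsgLib.Coprime.commutator_le_of_normalizes hAP) hne) (hBinv _ fun b hb => by
      have hP' : P.map (MulAut.conj b).toMonoidHom = P := Subgroup.mem_normalizer_iff_map_conj_eq.mp (hBP hb)
      have hA' : A.map (MulAut.conj b).toMonoidHom = A := Subgroup.mem_normalizer_iff_map_conj_eq.mp (hAn hb)
      rw [Subgroup.map_commutator, hP', hA'])
    exact hnt (CfsgLib.Coprime.commutator_eq_bot_of_commutator_commutator_eq_bot A P hAP hcop hsolv h1)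
  set C := P ⊓ Subgroup.centralizer (A : Set X) with hC
  have hCD : C ≤ ⁅P, P⁆ := inf_centralizer_le_derived A P hAP hcop hPA
  set Φ := (frattini ↥P).map P.subtype with hΦ
  have hDΦ : ⁅P, P⁆ ≤ Φ := by
    rw [← Subgroup.map_subtype_commutator]
    exact Subgroup.map_mono (CfsgLib.PGroup.commutator_le_frattini hP)
  have hΦP : Φ < P := by
    refine lt_of_le_of_ne (Subgroup.map_subtype_le _) fun h => ?_
    haveI : Nontrivial P := P.nontrivial_iff_ne_bot.mpr hPne
    refine CfsgLib.PGroup.frattini_ne_top (P := P) (Subgroup.map_injective P.subtype_injective ?_)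
    rw [← hΦ, h, ← MonoidHom.range_eq_map, Subgroup.range_subtype]
  have hBΦ : B ≤ Subgroup.normalizer (Φ : Set X) := by
    refine hBP.trans ?_
    exact CfsgLib.Structure.normalizer_le_normalizer_map_subtype P (frattini ↥P)
  have hcent : ∀ U : Subgroup X, U < P → B ≤ Subgroup.normalizer (U : Set X) → U ≤ C := fun U hU hBU =>
    le_inf hU.le (Subgroup.commutator_eq_bot_iff_le_centralizer.mp (hmin U hU hBU))
  have hΦC : Φ ≤ C := hcent Φ hΦP hBΦ
  have hΦD : Φ = ⁅P, P⁆ := le_antisymm (hΦC.trans hCD) hDΦ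
  have hCΦ : C = Φ := le_antisymm (hCD.trans hDΦ) hΦC
  refine ⟨hPA, ?_, ?_, ?_⟩
  · by_cases hab : IsMulCommutative P
    · left
      refine ⟨hab, fun x hx => ?_⟩
      have h1 : x ^ p ∈ Φ := ⟨_, CfsgLib.PGroup.pow_mem_frattini hP ⟨x, hx⟩, by simp⟩
      rw [hΦD, Subgroup.commutator_self_eq_bot_iff.mpr hab, Subgroup.mem_bot] at h1
      exact h1
    · right
      have h1 : ⁅⁅Φ, A⁆, P⁆ = ⊥ := by
        rw [Subgroup.commutator_eq_bot_iff_le_centralizer.mpr (hΦC.trans inf_le_right), Subgroup.commutator_bot_left]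
      have h2 : ⁅⁅P, Φ⁆, A⁆ = ⊥ := by
        rw [Subgroup.commutator_eq_bot_iff_le_centralizer]
        have hle : ⁅P, Φ⁆ ≤ Φ := by
          rw [hΦD]
          exact Subgroup.le_normalizer_iff_commutator_le_right.mp
            (CfsgLib.Coprime.le_normalizer_commutator_left P P)
        exact hle.trans (hΦC.trans inf_le_right)
      have h3 : ⁅⁅A, P⁆, Φ⁆ = ⊥ := Subgroup.commutator_commutator_eq_bot_of_rotate h2 h1
      rw [Subgroup.commutator_comm A P, hPA] at h3
      have hΦZ : frattini ↥P ≤ Subgroup.center ↥P := by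
        intro x hx
        rw [Subgroup.mem_center_iff]
        intro y
        exact Subtype.ext ((Subgroup.commutator_eq_bot_iff_le_centralizer.mp h3 y.2) (x : X)
          (Subgroup.mem_map_of_mem _ hx)).symm
      have hZ : (Subgroup.center ↥P).map P.subtype ≤ C := by
        refine hcent _ (lt_of_le_of_ne (Subgroup.map_subtype_le _) fun h => hab ?_)
          (hBP.trans (CfsgLib.Structure.normalizer_le_normalizer_map_subtype P (Subgroup.center ↥P)))
        refine ⟨⟨fun a b => ?_⟩⟩
        obtain ⟨c, hc, hcb⟩ : (b : X) ∈ (Subgroup.center ↥P).map P.subtype := h.symm ▸ b.2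
        obtain rfl : c = b := Subtype.ext hcb
        exact Subgroup.mem_center_iff.mp hc a
      have hZeq : frattini ↥P = Subgroup.center ↥P := by
        refine le_antisymm hΦZ ((Subgroup.map_le_map_iff_of_injective P.subtype_injective).mp ?_)
        exact hZ.trans hCΦ.le
      refine ⟨hP, hZeq, ?_⟩
      rw [← hZeq]
      apply Subgroup.map_injective P.subtype_injective
      rw [Subgroup.map_subtype_commutator, ← hΦD]
  · intro U h1 h2 h3
    rcases eq_or_ne U P with h | h
    · exact Or.inr h
    · exact Or.inl (le_antisymm ((hcent U (lt_of_le_of_ne h2 h) h3).trans hCΦ.le) h1)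
  · intro hp2 x hx
    have hodd : Odd p := hp.odd_of_ne_two hp2
    have hcl : ∀ a b : P, ⁅a, b⁆ ∈ Subgroup.center ↥P ∧ a ^ p ∈ Subgroup.center ↥P := by
      have hΦZ : frattini ↥P ≤ Subgroup.center ↥P := by
        by_cases hab : IsMulCommutative P
        · intro z _
          rw [Subgroup.mem_center_iff]
          exact fun y => Std.Commutative.comm (op := ((· * ·) : P → P → P)) y z
        · have h1 : ⁅⁅Φ, A⁆, P⁆ = ⊥ := by
            rw [Subgroup.commutator_eq_bot_iff_le_centralizer.mpr (hΦC.trans inf_le_right), Subgroup.commutator_bot_left]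
          have h2 : ⁅⁅P, Φ⁆, A⁆ = ⊥ := by
            rw [Subgroup.commutator_eq_bot_iff_le_centralizer]
            have hle : ⁅P, Φ⁆ ≤ Φ := by
              rw [hΦD]
              exact Subgroup.le_normalizer_iff_commutator_le_right.mp
                (CfsgLib.Coprime.le_normalizer_commutator_left P P)
            exact hle.trans (hΦC.trans inf_le_right)
          have h3 : ⁅⁅A, P⁆, Φ⁆ = ⊥ := Subgroup.commutator_commutator_eq_bot_of_rotate h2 h1
          rw [Subgroup.commutator_comm A P, hPA] at h3
          intro z hz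
          rw [Subgroup.mem_center_iff]
          intro y
          exact Subtype.ext ((Subgroup.commutator_eq_bot_iff_le_centralizer.mp h3 y.2) (z : X)
            (Subgroup.mem_map_of_mem _ hz)).symm
      exact fun a b => ⟨hΦZ (CfsgLib.PGroup.commutator_le_frattini hP
        (Subgroup.commutator_mem_commutator (Subgroup.mem_top a) (Subgroup.mem_top b))),
        hΦZ (CfsgLib.PGroup.pow_mem_frattini hP a)⟩
    let f : P →* P := MonoidHom.mk' (fun a => a ^ p) (fun a b =>
      CfsgLib.PGroup.mul_pow_odd_of_central hodd (hcl b a).1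
        (CfsgLib.PGroup.commutatorElement_pow_eq_one_of_pow_central (hcl b a).1 (hcl b a).2))
    have hle : ⁅P, A⁆ ≤ f.ker.map P.subtype := by
      rw [Subgroup.commutator_le]
      intro y hy a ha
      let y' : P := ⟨y, hy⟩
      let z' : P := ⟨a * y⁻¹ * a⁻¹, Subgroup.le_normalizer_iff.mp hAP a ha _ (inv_mem hy)⟩
      refine ⟨y' * z', ?_, ?_⟩
      · show (y' * z') ^ p = 1
        rw [show (y' * z') ^ p = f y' * f z' from map_mul f y' z']
        have hfy : ((f y' : P) : X) ∈ C := hΦC ⟨_, CfsgLib.PGroup.pow_mem_frattini hP y', rfl⟩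
        have hz : f z' = (f y')⁻¹ := by
          apply Subtype.ext
          show (a * y⁻¹ * a⁻¹) ^ p = (y ^ p)⁻¹
          rw [conj_pow, inv_pow, mul_inv_eq_iff_eq_mul]
          exact hfy.2 a ha |> fun h => by
            have h' : a * y ^ p = y ^ p * a := h
            calc a * (y ^ p)⁻¹ = (y ^ p)⁻¹ * (y ^ p * a) * (y ^ p)⁻¹ := by group
              _ = (y ^ p)⁻¹ * a := by rw [← h']; group
        rw [hz, mul_inv_cancel]
      · show y * (a * y⁻¹ * a⁻¹) = y * a * y⁻¹ * a⁻¹
        group
    obtain ⟨w, hw, rfl⟩ := hle (hPA.symm ▸ hx)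
    exact congrArg Subtype.val hw

end Cfsg.Agent.S3736
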