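import Cfsg.Statements.S3737
import Cfsg.Agent.Lib.Coprime.Commutator
import Cfsg.Agent.Lib.PGroup.Class2
import Cfsg.Agent.Lib.PGroup.Critical
import Cfsg.Agent.Lib.Structure.Subnormal

set_option autoImplicit false
open Cfsg

namespace Cfsg.Agent.S3737

open Subgroup CfsgLib.Coprime CfsgLib.PGroup CfsgLib.Structure
open scoped commutatorElement

section Baer

variable (G : Type*) [Group G]

/-- Type synonym carrying the additive group of the Baer correspondence. -/
@[ext] structure BaerLog (h : ℕ) where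
  val : G

end Baer

variable {G : Type*} [Group G]

/-- The Baer correspondence for a finite group of class at most two and odd exponent. -/
@[reducible] def baerGroup (h m : ℕ) (hm : 2 * h = m + 1) (hexp : ∀ x : G, x ^ m = 1)
    (hcl : ∀ x y : G, ⁅x, y⁆ ∈ Subgroup.center G) : AddCommGroup (BaerLog G h) where
  add a b := ⟨a.val * b.val * ⁅b.val, a.val⁆ ^ h⟩
  zero := ⟨1⟩
  neg a := ⟨a.val⁻¹⟩
  nsmul := @nsmulRec _ ⟨⟨1⟩⟩ ⟨fun a b => ⟨a.val * b.val * ⁅b.val, a.val⁆ ^ h⟩⟩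
  zsmul := @zsmulRec _ ⟨⟨1⟩⟩ ⟨fun a b => ⟨a.val * b.val * ⁅b.val, a.val⁆ ^ h⟩⟩ ⟨fun a => ⟨a.val⁻¹⟩⟩
    (@nsmulRec _ ⟨⟨1⟩⟩ ⟨fun a b => ⟨a.val * b.val * ⁅b.val, a.val⁆ ^ h⟩⟩)
  add_assoc a b c := by
    obtain ⟨a⟩ := a; obtain ⟨b⟩ := b; obtain ⟨c⟩ := c
    apply BaerLog.ext
    show a * b * ⁅b, a⁆ ^ h * c * ⁅c, a * b * ⁅b, a⁆ ^ h⁆ ^ h =
      a * (b * c * ⁅c, b⁆ ^ h) * ⁅b * c * ⁅c, b⁆ ^ h, a⁆ ^ h
    have hc : ∀ x y z : G, z * ⁅x, y⁆ ^ h = ⁅x, y⁆ ^ h * z := fun x y z =>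
      Subgroup.mem_center_iff.mp (pow_mem (hcl x y) h) z
    have hz : ∀ {z : G}, z ∈ Subgroup.center G → ∀ x : G, ⁅x, z⁆ = 1 ∧ ⁅z, x⁆ = 1 := fun hz x =>
      ⟨commutatorElement_eq_one_iff_mul_comm.mpr (Subgroup.mem_center_iff.mp hz x),
        commutatorElement_eq_one_iff_mul_comm.mpr (Subgroup.mem_center_iff.mp hz x).symm⟩
    rw [commutatorElement_mul_right_of_central _ _ _ (hcl _ _),
      commutatorElement_mul_right_of_central _ _ _ (hcl _ _),
      commutatorElement_mul_left_of_central _ _ _ (hcl _ _),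
      commutatorElement_mul_left_of_central _ _ _ (hcl _ _),
      (hz (pow_mem (hcl b a) h) c).1, (hz (pow_mem (hcl c b) h) a).2, mul_one, mul_one]
    have hcomm : ∀ x y x' y' : G, Commute ⁅x, y⁆ ⁅x', y'⁆ := fun x y x' y' =>
      (Subgroup.mem_center_iff.mp (hcl x y) _).symm
    rw [(hcomm c a c b).mul_pow, (hcomm b a c a).mul_pow]
    calc a * b * ⁅b, a⁆ ^ h * c * (⁅c, a⁆ ^ h * ⁅c, b⁆ ^ h)
        = a * b * (c * ⁅b, a⁆ ^ h) * (⁅c, a⁆ ^ h * ⁅c, b⁆ ^ h) := by rw [hc b a c]; simp only [mul_assoc]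
      _ = a * (b * c) * (⁅b, a⁆ ^ h * ⁅c, a⁆ ^ h * ⁅c, b⁆ ^ h) := by simp only [mul_assoc]
      _ = _ := by rw [hc c b (⁅b, a⁆ ^ h * ⁅c, a⁆ ^ h)]; simp only [mul_assoc]
  zero_add a := by
    apply BaerLog.ext
    show 1 * a.val * ⁅a.val, 1⁆ ^ h = a.val
    simp [commutatorElement_def]
  add_zero a := by
    apply BaerLog.ext
    show a.val * 1 * ⁅1, a.val⁆ ^ h = a.val
    simp [commutatorElement_def]
  neg_add_cancel a := by
    apply BaerLog.ext
    show a.val⁻¹ * a.val * ⁅a.val, a.val⁻¹⁆ ^ h = 1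
    simp [commutatorElement_def]
  add_comm a b := by
    obtain ⟨a⟩ := a; obtain ⟨b⟩ := b
    apply BaerLog.ext
    show a * b * ⁅b, a⁆ ^ h = b * a * ⁅a, b⁆ ^ h
    have h2 : ⁅a, b⁆ * (⁅b, a⁆ ^ h) = ⁅a, b⁆ ^ h := by
      rw [← commutatorElement_inv a b, inv_pow]
      calc ⁅a, b⁆ * (⁅a, b⁆ ^ h)⁻¹ = ⁅a, b⁆ ^ (m + 1) * (⁅a, b⁆ ^ h)⁻¹ := by rw [pow_succ, hexp, one_mul]
        _ = _ := by rw [← hm, two_mul, pow_add, mul_inv_cancel_right]
    calc a * b * ⁅b, a⁆ ^ h = b * a * (⁅a, b⁆ * ⁅b, a⁆ ^ h) := by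
          rw [mul_eq_commutatorElement_mul a b, ← Subgroup.mem_center_iff.mp (hcl a b) (b * a)]
          simp only [mul_assoc]
      _ = _ := by rw [h2]

/-- A `p`-group acting compatibly with a coprime group on a `p`-group of class two, `p` odd. -/
theorem class_two_case [Finite G] {p : ℕ} [hp : Fact p.Prime] (hp2 : p ≠ 2) (hG : IsPGroup p G)
    (hcl : ∀ x y : G, ⁅x, y⁆ ∈ Subgroup.center G) (P Q : Subgroup (MulAut G)) (hP : IsPGroup p P)
    (hQ : (Nat.card Q).Coprime p) (hPQ : P ≤ Subgroup.normalizer (Q : Set (MulAut G)))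
    (hC : ∀ x : G, (∀ a ∈ P, a x = x) → ∀ b ∈ Q, b x = x) : ∀ b ∈ Q, ∀ x : G, b x = x := by
  classical
  obtain ⟨N, hN⟩ := IsPGroup.iff_card.mp hG
  obtain ⟨h, hh⟩ : ∃ h, 2 * h = p ^ N + 1 := by
    obtain ⟨k, hk⟩ := (hp.out.odd_of_ne_two hp2).pow (n := N)
    exact ⟨k + 1, by omega⟩
  have hexp : ∀ x : G, x ^ p ^ N = 1 := fun x => by rw [← hN]; exact pow_card_eq_one'
  letI := baerGroup h _ hh hexp hcl
  let L := BaerLog G h
  let e : L ≃ G := ⟨BaerLog.val, BaerLog.mk, fun _ => rfl, fun _ => rfl⟩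
  haveI : Finite L := Finite.of_equiv G e.symm
  have hcard : Nat.card L = p ^ N := by rw [Nat.card_congr e, hN]
  let lift : MulAut G → L →+ L := fun a =>
    { toFun := fun x => ⟨a x.val⟩
      map_zero' := BaerLog.ext (map_one a)
      map_add' := fun x y => BaerLog.ext (by
        show a (x.val * y.val * ⁅y.val, x.val⁆ ^ h) = a x.val * a y.val * ⁅a y.val, a x.val⁆ ^ h
        simp [map_commutatorElement]) }
  have hlift : ∀ a b x, lift (a * b) x = lift a (lift b x) := fun a b x => rfl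
  have := Fintype.ofFinite Q
  let T : L →+ L := ∑ b : Q, lift b
  have hT : ∀ x, T x = ∑ b : Q, lift b x := fun x => AddMonoidHom.finset_sum_apply _ _ _
  by_contra hne
  push Not at hne
  obtain ⟨b, hb, g, hg⟩ := hne
  have hkne : lift b ⟨g⟩ - ⟨g⟩ ∈ T.ker ∧ lift b ⟨g⟩ - (⟨g⟩ : L) ≠ 0 := by
    refine ⟨?_, fun h0 => hg (congrArg BaerLog.val (sub_eq_zero.mp h0))⟩
    rw [AddMonoidHom.mem_ker, map_sub, sub_eq_zero, hT, hT]
    exact Fintype.sum_equiv (Equiv.mulRight ⟨b, hb⟩) _ _ fun c => (hlift c b _).symm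
  have hinv : ∀ (a : P) (x : L), x ∈ T.ker → lift a x ∈ T.ker := by
    intro a x hx
    rw [AddMonoidHom.mem_ker, hT] at hx ⊢
    have hn : ∀ c : Q, ((a : MulAut G) * c * (a : MulAut G)⁻¹) ∈ Q := fun c =>
      (Subgroup.mem_normalizer_iff.mp (hPQ a.2) c).mp c.2
    have hbij : Function.Bijective fun c : Q => (⟨_, hn c⟩ : Q) := by
      refine Finite.injective_iff_bijective.mp fun c d hcd => Subtype.ext ?_
      exact mul_left_cancel (mul_right_cancel (congrArg Subtype.val hcd))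
    rw [← Fintype.sum_bijective _ hbij (fun c : Q => lift a (lift c x)) (fun c : Q => lift c (lift a x))
      (fun c => by rw [← hlift, ← hlift, inv_mul_cancel_right]), ← map_sum, hx, map_zero]
  letI act : MulAction P T.ker :=
    { smul := fun a x => ⟨lift a x, hinv a x x.2⟩
      one_smul := fun x => Subtype.ext rfl
      mul_smul := fun a c x => Subtype.ext rfl }
  have hdvd : p ∣ Nat.card T.ker := by
    have hd : Nat.card T.ker ∣ p ^ N := hcard ▸ T.ker.card_addSubgroup_dvd_card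
    obtain ⟨j, -, hj⟩ := (Nat.dvd_prime_pow hp.out).mp hd
    rcases j with _ | j
    · rw [pow_zero] at hj
      exact absurd (AddSubgroup.mem_bot.mp ((AddSubgroup.card_eq_one.mp hj).le hkne.1)) hkne.2
    · exact hj ▸ dvd_pow_self p (Nat.succ_ne_zero j)
  obtain ⟨k, hk, hk0⟩ := hP.exists_fixed_point_of_prime_dvd_card_of_fixed_point (T.ker) hdvd
    (a := 0) fun a => Subtype.ext ((lift a).map_zero)
  have hkQ := hC k.1.val fun a ha => congrArg (fun z : T.ker => z.1.val) (hk ⟨a, ha⟩)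
  have hsum : T k.1 = Nat.card Q • k.1 := by
    rw [hT, Finset.sum_congr rfl (fun (c : Q) _ => show lift c k.1 = k.1 from BaerLog.ext (hkQ c c.2)),
      Finset.sum_const, Finset.card_univ, Nat.card_eq_fintype_card]
  rw [k.2] at hsum
  refine hk0 (Subtype.ext ?_)
  show (0 : L) = k.1
  have h1 : addOrderOf (k.1 : L) ∣ Nat.card Q := addOrderOf_dvd_iff_nsmul_eq_zero.mpr hsum.symm
  have h2 : addOrderOf (k.1 : L) ∣ p ^ N := hcard ▸ addOrderOf_dvd_natCard _
  have h3 : addOrderOf (k.1 : L) = 1 := Nat.dvd_one.mp ((hQ.pow_right N) ▸ Nat.dvd_gcd h1 h2)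
  exact (AddMonoid.addOrderOf_eq_one_iff.mp h3).symm


/-- Thompson's strengthening of the P × Q lemma for odd primes. Let p be an odd prime and let P, Q and G be subgroups of a finite group with P a p-group, Q of order prime to p and normalized by P, and G a p-group normalized by both P and Q. If every element of G centralized by P is centralized by Q, then Q centralizes G. -/
theorem result {X : Type*} [Group X] [Finite X] {p : ℕ} [Fact p.Prime] (hp : p ≠ 2) (P Q G : Subgroup X) (hP : IsPGroup p P) (hQ : (Nat.card Q).Coprime p) (hPQ : P ≤ Subgroup.normalizer (Q : Set X)) (hG : IsPGroup p G) (hPG : P ≤ Subgroup.normalizer (G : Set X)) (hQG : Q ≤ Subgroup.normalizer (G : Set X)) (hC : G ⊓ Subgroup.centralizer (P : Set X) ≤ Subgroup.centralizer (Q : Set X)) : Q ≤ Subgroup.centralizer (G : Set X) := by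
  classical
  obtain ⟨H, hHc, hHC, hHcomm, -⟩ := exists_critical hG
  haveI := hHc
  set K := H.map G.subtype with hK
  have hKG : K ≤ G := Subgroup.map_subtype_le H
  have hPK : P ≤ Subgroup.normalizer (K : Set X) := hPG.trans (normalizer_le_normalizer_map_subtype G H)
  have hQK : Q ≤ Subgroup.normalizer (K : Set X) := hQG.trans (normalizer_le_normalizer_map_subtype G H)
  let ρ := Subgroup.normalizerMonoidHom K
  have hcoe : ∀ (a : Subgroup.normalizer (K : Set X)) (x : K), ((ρ a x : K) : X) = a * x * (a : X)⁻¹ := fun a x => rfl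
  have hQcK : Q ≤ Subgroup.centralizer (K : Set X) := by
    have hcl : ∀ x y : K, ⁅x, y⁆ ∈ Subgroup.center K := by
      rintro ⟨_, ⟨x, hx, rfl⟩⟩ ⟨_, ⟨y, hy, rfl⟩⟩
      rw [Subgroup.mem_center_iff]
      rintro ⟨_, ⟨z, hz, rfl⟩⟩
      refine Subtype.ext ?_
      have := congrArg (G.subtype) (Subgroup.mem_centralizer_iff.mp (hHcomm x y hy).2 z hz)
      simpa [commutatorElement_def] using this
    let PQ := fun S : Subgroup X => (S.subgroupOf (Subgroup.normalizer (K : Set X))).map ρ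
    have hcardle : Nat.card (PQ Q) ∣ Nat.card Q := by
      refine (Subgroup.card_map_dvd _ _).trans (dvd_of_eq ?_)
      exact Nat.card_congr (Subgroup.subgroupOfEquivOfLe hQK).toEquiv
    have key := class_two_case hp (hG.to_le hKG) hcl (PQ P) (PQ Q)
      ((hP.comap_of_injective _ (Subgroup.subtype_injective _)).map _) (hQ.coprime_dvd_left hcardle) ?_ ?_
    · intro q hq
      rw [Subgroup.mem_centralizer_iff]
      intro x hx
      have := congrArg Subtype.val (key (ρ ⟨q, hQK hq⟩) (Subgroup.mem_map_of_mem ρ hq) ⟨x, hx⟩)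
      rw [hcoe, mul_inv_eq_iff_eq_mul] at this
      exact this.symm
    · refine le_trans ?_ (Subgroup.le_normalizer_map ρ)
      refine Subgroup.map_mono fun a ha => ?_
      rw [Subgroup.mem_normalizer_iff]
      intro c
      exact Subgroup.mem_normalizer_iff.mp (hPQ ha) (c : X)
    · intro x hx b hb
      obtain ⟨b, hbQ, rfl⟩ := hb
      have hxP : (x : X) ∈ G ⊓ Subgroup.centralizer (P : Set X) := by
        refine ⟨hKG x.2, Subgroup.mem_centralizer_iff.mpr fun a ha => ?_⟩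
        have := congrArg Subtype.val (hx (ρ ⟨a, hPK ha⟩) (Subgroup.mem_map_of_mem ρ ha))
        rw [hcoe, mul_inv_eq_iff_eq_mul] at this
        exact this
      refine Subtype.ext ?_
      rw [hcoe]
      exact conj_eq_of_mem_centralizer (hC hxP) hbQ
  haveI : Group.IsSolvable G := by
    haveI := hG.isNilpotent
    infer_instance
  have hcop : (Nat.card Q).Coprime (Nat.card G) := by
    obtain ⟨n, hn⟩ := hG.exists_card_eq
    rw [hn]; exact hQ.pow_right _
  have hGK : ⁅K, G⁆ ≤ K := by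
    refine Subgroup.commutator_le.mpr fun x hx g hg => ?_
    obtain ⟨h, hh, rfl⟩ := hx
    have := (hHcomm ⟨g, hg⟩ h hh).1
    rw [← commutatorElement_inv]
    exact Subgroup.inv_mem _ ⟨_, this, rfl⟩
  have h1 : ⁅⁅K, G⁆, Q⁆ = ⊥ := Subgroup.commutator_eq_bot_iff_le_centralizer.mpr
    (hGK.trans (Subgroup.le_centralizer_iff.mp hQcK))
  have h2 : ⁅⁅Q, K⁆, G⁆ = ⊥ := by
    rw [Subgroup.commutator_eq_bot_iff_le_centralizer.mpr hQcK, Subgroup.commutator_bot_left]
  have h3 : ⁅⁅G, Q⁆, K⁆ = ⊥ := Subgroup.commutator_commutator_eq_bot_of_rotate h2 h1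
  have h4 : ⁅G, Q⁆ ≤ K := by
    intro x hx
    have hxG : x ∈ G := commutator_le_of_normalizes hQG hx
    refine ⟨⟨x, hxG⟩, hHC ?_, rfl⟩
    rw [Subgroup.mem_centralizer_iff]
    intro z hz
    exact Subtype.ext (Subgroup.mem_centralizer_iff.mp
      (Subgroup.commutator_eq_bot_iff_le_centralizer.mp h3 hx) _ ⟨z, hz, rfl⟩)
  have h5 : ⁅⁅G, Q⁆, Q⁆ = ⊥ := Subgroup.commutator_eq_bot_iff_le_centralizer.mpr
    (h4.trans (Subgroup.le_centralizer_iff.mp hQcK))
  have h6 := commutator_eq_bot_of_commutator_commutator_eq_bot Q G hQG hcop (Or.inr inferInstance) h5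
  exact Subgroup.le_centralizer_iff.mp (Subgroup.commutator_eq_bot_iff_le_centralizer.mp h6)

end Cfsg.Agent.S3737
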