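import Cfsg.Statements.S3738
import Cfsg.Agent.Lib.Structure.TwoRankTwo

set_option autoImplicit false
open Cfsg

namespace Cfsg.Agent.S3738

open Subgroup CfsgLib.Structure

variable {X : Type*} [Group X] [Finite X]

theorem cube_fixes {α : Type*} [Finite α] (d : X) [MulAction (Subgroup.zpowers d) α] (a : α)
    (h : Nat.card (MulAction.orbit (Subgroup.zpowers d) a) ∣ 3) :
    (⟨d ^ 3, Subgroup.pow_mem _ (mem_zpowers d) 3⟩ : Subgroup.zpowers d) • a = a := by
  haveI : (MulAction.stabilizer (Subgroup.zpowers d) a).Normal := ⟨fun n hn g => by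
    have e : g * n * g⁻¹ = n := by
      rw [show g * n = n * g from Subtype.ext ((mem_zpowers_iff.mp g.2).elim fun i hi =>
        (mem_zpowers_iff.mp n.2).elim fun j hj => by
          rw [Subgroup.coe_mul, Subgroup.coe_mul, ← hi, ← hj, ← zpow_add, ← zpow_add, add_comm]), mul_inv_cancel_right]
    rwa [e]⟩
  rw [Nat.card_coe_set_eq, ← MulAction.index_stabilizer] at h
  obtain ⟨c, hc⟩ := h
  rw [← MulAction.mem_stabilizer_iff]
  have h1 := Subgroup.pow_index_mem (MulAction.stabilizer (Subgroup.zpowers d) a) ⟨d, mem_zpowers d⟩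
  have h2 := Subgroup.pow_mem _ h1 c
  rw [← pow_mul, ← hc] at h2
  exact h2


/-- Let d be a non-identity 3-element of a finite group and P a 2-subgroup normalized by d on which ⟨d⟩ acts faithfully (no non-identity power of d centralizes P) and without non-identity fixed points (C_P(d) = 1). If every abelian subgroup of P has 2-rank at most 2, then d has order 3. -/
theorem result {X : Type*} [Group X] [Finite X] (d : X) (n : ℕ) (hn : 1 ≤ n) (hd : orderOf d = 3 ^ n) (P : Subgroup X) (hP : IsPGroup 2 P) (hdP : d ∈ Subgroup.normalizer (P : Set X)) (hfaith : Subgroup.zpowers d ⊓ Subgroup.centralizer (P : Set X) = ⊥) (hfpf : P ⊓ Subgroup.centralizer {d} = ⊥) (hrank : ∀ V : Subgroup X, V ≤ P → IsMulCommutative V → Cfsg.PRankLE 2 2 V) : orderOf d = 3 := by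
  classical
  haveI : Fact (Nat.Prime 2) := ⟨Nat.prime_two⟩
  haveI : Fact (Nat.Prime 3) := ⟨Nat.prime_three⟩
  have hd3 : IsPGroup 3 (Subgroup.zpowers d) := IsPGroup.of_card (n := n) (by rw [Nat.card_zpowers, hd])
  have hd1 : d ≠ 1 := fun h => by
    rw [h, orderOf_one] at hd
    have := Nat.one_lt_pow (by omega : n ≠ 0) (by norm_num : 1 < 3)
    omega
  have hrank' : ∀ V : Subgroup X, V ≤ P → (∀ a ∈ V, ∀ b ∈ V, a * b = b * a) → (∀ a ∈ V, a ^ 2 = 1) →
      Nat.card V ≤ 4 := by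
    intro V hVP hc h2
    have hi : IsMulCommutative V := ⟨⟨fun a b => Subtype.ext (hc a a.2 b b.2)⟩⟩
    have h := hrank V hVP hi ⊤ ⟨⟨fun a b => Subtype.ext (Subtype.ext (hc _ a.1.2 _ b.1.2))⟩⟩
      fun a _ => Subtype.ext (h2 a a.2)
    rwa [Subgroup.card_top] at h
  let W : Subgroup X :=
    { carrier := {x | x ∈ P ⊓ Subgroup.centralizer (P : Set X) ∧ x ^ 2 = 1}
      one_mem' := ⟨one_mem _, one_pow 2⟩
      mul_mem' := fun {a b} ha hb => ⟨mul_mem ha.1 hb.1, by
        have hc : Commute a b := (Subgroup.mem_centralizer_iff.mp ha.1.2 b hb.1.1).symm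
        rw [hc.mul_pow, ha.2, hb.2, one_mul]⟩
      inv_mem' := fun {a} ha => ⟨inv_mem ha.1, by rw [inv_pow, ha.2, inv_one]⟩ }
  have hWcomm : ∀ a ∈ W, ∀ b ∈ W, a * b = b * a := fun a ha b hb => Subgroup.mem_centralizer_iff.mp hb.1.2 a ha.1.1
  have hWne : W ≠ ⊥ := by
    intro hbot
    rcases eq_or_ne P ⊥ with h | h
    · apply hd1
      rw [← zpowers_eq_bot, eq_bot_iff]
      intro y hy
      refine hfaith.le ⟨hy, ?_⟩
      show y ∈ Subgroup.centralizer (P : Set X)
      rw [h, Subgroup.mem_centralizer_iff]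
      intro z hz
      rw [Subgroup.coe_bot, Set.mem_singleton_iff] at hz
      simp [hz]
    · haveI : Nontrivial P := nontrivial_iff_ne_bot P |>.mpr h
      haveI := hP.center_nontrivial
      obtain ⟨t, ht⟩ := exists_prime_orderOf_dvd_card' 2
        ((hP.to_subgroup (Subgroup.center P)).card_eq_or_dvd.resolve_left (Finite.one_lt_card (α := Subgroup.center P)).ne')
      have hmem : ((t : P) : X) ∈ W := by
        refine ⟨⟨(t : P).2, Subgroup.mem_centralizer_iff.mpr fun y hy =>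
          congrArg Subtype.val (Subgroup.mem_center_iff.mp t.2 ⟨y, hy⟩)⟩, ?_⟩
        have h1 : t ^ 2 = 1 := by rw [← ht]; exact pow_orderOf_eq_one t
        exact congrArg (fun z : Subgroup.center P => ((z : P) : X)) h1
      rw [hbot, mem_bot] at hmem
      have : t = 1 := Subtype.ext (Subtype.ext hmem)
      rw [this, orderOf_one] at ht
      omega
  have hdW : d ∈ Subgroup.normalizer (W : Set X) := by
    rw [Subgroup.mem_normalizer_iff]
    intro x
    have h1 := Subgroup.mem_normalizer_iff.mp hdP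
    have h2 : x ∈ Subgroup.centralizer (P : Set X) ↔ d * x * d⁻¹ ∈ Subgroup.centralizer (P : Set X) := by
      rw [Subgroup.mem_centralizer_iff, Subgroup.mem_centralizer_iff]
      refine ⟨fun h y hy => ?_, fun h y hy => ?_⟩
      · have hy' : d⁻¹ * y * d ∈ P := by rw [h1, show d * (d⁻¹ * y * d) * d⁻¹ = y by group]; exact hy
        calc y * (d * x * d⁻¹) = d * (d⁻¹ * y * d * x) * d⁻¹ := by group
          _ = d * (x * (d⁻¹ * y * d)) * d⁻¹ := by rw [h _ hy']
          _ = _ := by group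
      · have hy' : d * y * d⁻¹ ∈ P := (h1 y).mp hy
        calc y * x = d⁻¹ * ((d * y * d⁻¹) * (d * x * d⁻¹)) * d := by group
          _ = d⁻¹ * ((d * x * d⁻¹) * (d * y * d⁻¹)) * d := by rw [h _ hy']
          _ = _ := by group
    show (x ∈ P ∧ x ∈ Subgroup.centralizer (P : Set X)) ∧ x ^ 2 = 1 ↔
      (d * x * d⁻¹ ∈ P ∧ d * x * d⁻¹ ∈ Subgroup.centralizer (P : Set X)) ∧ (d * x * d⁻¹) ^ 2 = 1
    rw [h1 x, h2, conj_pow, conj_eq_one_iff]
  have hW4 := card_eq_four hd3 W (hP.to_le fun w hw => hw.1.1) hdW (fun w hw he => by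
    refine mem_bot.mp (hfpf.le ⟨hw.1.1, ?_⟩)
    show w ∈ Subgroup.centralizer ({d} : Set X)
    rw [Subgroup.mem_centralizer_singleton_iff]
    rw [mul_inv_eq_iff_eq_mul] at he
    exact he.symm) hWne (hrank' W (fun w hw => hw.1.1) hWcomm (fun a ha => ha.2))
  have hinvW : ∀ t ∈ P, t ^ 2 = 1 → t ∈ W := by
    intro t ht ht2
    obtain ⟨V, hVc, hV2, hWV, htV, hVmin⟩ := exists_elemAb_sup W hWcomm (fun a ha => ha.2) ht2
      fun a ha => (Subgroup.mem_centralizer_iff.mp ha.1.2 t ht).symm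
    have hVP : V ≤ P := hVmin P (fun w hw => hw.1.1) ht
    rw [eq_of_le_of_card_ge hWV ((hrank' V hVP hVc hV2).trans hW4.ge)]
    exact htV
  set x := d ^ 3 with hx
  have hxW : ∀ w ∈ W, x * w * x⁻¹ = w := by
    intro w hw
    letI act : MulAction (Subgroup.zpowers d) W :=
      MulAction.compHom W ((Subgroup.normalizerMonoidHom W).comp (Subgroup.inclusion (Subgroup.zpowers_le.mpr hdW)))
    have hdvd : Nat.card (MulAction.orbit (Subgroup.zpowers d) (⟨w, hw⟩ : W)) ∣ 3 := by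
      obtain ⟨j, hj⟩ := hd3.card_orbit (⟨w, hw⟩ : W)
      have hle : Nat.card (MulAction.orbit (Subgroup.zpowers d) (⟨w, hw⟩ : W)) ≤ 4 :=
        hW4 ▸ Nat.card_le_card_of_injective _ Subtype.val_injective
      rw [hj] at hle ⊢
      rcases j with _ | _ | j
      · simp
      · simp
      · have : 3 ^ (j + 2) = 3 ^ j * 9 := by ring
        have := Nat.one_le_pow j 3 (by norm_num)
        omega
    exact congrArg Subtype.val (cube_fixes d (⟨w, hw⟩ : W) hdvd)
  obtain ⟨H, hHP, hHn, hHcomm, hHsq, hHfaith⟩ := exists_critical_in P hP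
  obtain ⟨K, hK, hK64⟩ := exists_four_subgroup H W hHcomm hHsq (fun h hh h2 => hinvW h (hHP hh) h2)
    (fun a ha => ha.2) (fun w hw h hh => Subgroup.mem_centralizer_iff.mp hw.1.2 h (hHP hh)) hW4.le
  have hxn : x ∈ Subgroup.normalizer (P : Set X) := Subgroup.pow_mem _ hdP 3
  have hodd : Odd (orderOf x) := by
    have h1 : orderOf x ∣ 3 ^ n := hd ▸ orderOf_pow_dvd 3
    exact (Odd.pow (by decide : Odd 3)).of_dvd_nat h1
  have hfixK : ∀ h ∈ K, x * h * x⁻¹ = h := by
    by_contra hcon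
    push Not at hcon
    have h9 := not_nine_dvd_moved K (hP.to_le fun h hh => hHP ((hK h).mp hh).1) hK64 x
      (fun h hh h2 => hxW h (hinvW h (hHP ((hK h).mp hh).1) h2)) hcon
    have hinv : ∀ (g : Subgroup.zpowers d) (h : X), (h ∈ K ∧ x * h * x⁻¹ ≠ h) →
        ((g : X) * h * (g : X)⁻¹ ∈ K ∧ x * ((g : X) * h * (g : X)⁻¹) * x⁻¹ ≠ (g : X) * h * (g : X)⁻¹) := by
      rintro ⟨g, hg⟩ h ⟨hh, hxh⟩
      obtain ⟨i, rfl⟩ := mem_zpowers_iff.mp hg
      refine ⟨(hK _).mpr ⟨(Subgroup.mem_normalizer_iff.mp (hHn (Subgroup.zpow_mem _ hdP i)) h).mp ((hK h).mp hh).1,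
        by rw [conj_pow, ((hK h).mp hh).2]; group⟩, fun he => hxh ?_⟩
      apply (MulAut.conj (d ^ i)).injective
      show d ^ i * (x * h * x⁻¹) * (d ^ i)⁻¹ = d ^ i * h * (d ^ i)⁻¹
      rw [← he, hx]
      group
    letI : MulAction (Subgroup.zpowers d) {h : X // h ∈ K ∧ x * h * x⁻¹ ≠ h} :=
      { smul := fun g h => ⟨_, hinv g h h.2⟩
        one_smul := fun h => Subtype.ext (by show (1 : X) * h * (1 : X)⁻¹ = h; group)
        mul_smul := fun a b h => Subtype.ext (by
          show ((a * b : Subgroup.zpowers d) : X) * h * ((a * b : Subgroup.zpowers d) : X)⁻¹ = a * (b * h * (b : X)⁻¹) * (a : X)⁻¹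
          rw [Subgroup.coe_mul]; group) }
    obtain ⟨h, hh⟩ := exists_orbit_three hd3 h9
    exact h.2.2 (congrArg Subtype.val (cube_fixes d h hh))
  have hxH := centralizes_of_fixes_four H (hP.to_le hHP) hHcomm hHsq x (hHn hxn) hodd
    fun h hh h4 => hfixK h ((hK h).mpr ⟨hh, h4⟩)
  have hcent : Subgroup.zpowers x ≤ Subgroup.centralizer (P : Set X) := by
    refine hHfaith _ (zpowers_le.mpr hxn) ?_ ?_
    · rw [Nat.card_zpowers]; exact Nat.coprime_two_right.mpr hodd
    · rw [zpowers_le, Subgroup.mem_centralizer_iff]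
      intro h hh
      exact (mul_inv_eq_iff_eq_mul.mp (hxH h hh)).symm
  have hx1 : x = 1 := mem_bot.mp (hfaith.le ⟨Subgroup.pow_mem _ (mem_zpowers d) 3, hcent (mem_zpowers x)⟩)
  exact orderOf_eq_prime hx1 hd1

end Cfsg.Agent.S3738
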