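import Cfsg.Statements.S3739
import Cfsg.Agent.Lib.Structure.TwoRankTwo
import Cfsg.Agent.Lib.PCore.Basic

set_option autoImplicit false
open Cfsg

namespace Cfsg.Agent.S3739

open Subgroup CfsgLib.Structure

variable {G : Type*} [Group G] [Finite G]

/-- An element of order three fixing a nonidentity element of a four-group centralises it. -/
theorem fixes_four {y : G} (hy : y ^ 3 = 1) (W : Subgroup G) [W.Normal] (hW : Nat.card W = 4) {w : G} (hw : w ∈ W)
    (hw1 : w ≠ 1) (hfix : y * w * y⁻¹ = w) : ∀ u ∈ W, y * u * y⁻¹ = u := by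
  classical
  intro u hu
  by_contra hne
  haveI := Fintype.ofFinite W
  let f : W → W := fun v => ⟨y * v * y⁻¹, ‹W.Normal›.conj_mem _ v.2 y⟩
  have hf : Function.Injective f := fun a b h => Subtype.ext (by simpa [f] using congrArg Subtype.val h)
  have h3 : ∀ v, f (f (f v)) = v := fun v => Subtype.ext (by
    show y * (y * (y * v * y⁻¹) * y⁻¹) * y⁻¹ = v
    calc _ = (y * y * y) * v * (y * y * y)⁻¹ := by group
      _ = _ := by rw [show y * y * y = 1 by rw [← pow_three']; exact hy]; group)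
  set v : W := ⟨u, hu⟩
  have hv : f v ≠ v := fun h => hne (congrArg Subtype.val h)
  have hf1 : f 1 = 1 := Subtype.ext (by show y * 1 * y⁻¹ = 1; group)
  have hfw : f ⟨w, hw⟩ = ⟨w, hw⟩ := Subtype.ext hfix
  have hcard : ({1, ⟨w, hw⟩, v, f v, f (f v)} : Finset W).card ≤ 4 := by
    rw [← hW, Nat.card_eq_fintype_card]; exact Finset.card_le_univ _
  have hne1 : ∀ x : W, f x = x → x ≠ v ∧ x ≠ f v ∧ x ≠ f (f v) := fun x hx =>
    ⟨fun h => hv (h ▸ hx), fun h => hv (hf (h ▸ hx)), fun h => hv (hf (hf (h ▸ hx)))⟩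
  obtain ⟨a1, a2, a3⟩ := hne1 1 hf1
  obtain ⟨b1, b2, b3⟩ := hne1 ⟨w, hw⟩ hfw
  have c1 : v ≠ f (f v) := fun h => hv (by conv_rhs => rw [← h3 v]; rw [← h])
  have c2 : f v ≠ f (f v) := fun h => hv (hf h).symm
  have d1 : (1 : W) ≠ ⟨w, hw⟩ := fun h => hw1 (congrArg Subtype.val h).symm
  rw [Finset.card_insert_of_notMem (by simp [d1, a1, a2, a3]), Finset.card_insert_of_notMem (by simp [b1, b2, b3]),
    Finset.card_insert_of_notMem (by simp [Ne.symm hv, c1]), Finset.card_insert_of_notMem (by simp [c2]),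
    Finset.card_singleton] at hcard
  omega


/-- Let G be a finite group with C_G(O₂(G)) ≤ O₂(G) containing an element of order 6, and let d be a non-identity 3-element of G normalizing a nontrivial elementary abelian 2-subgroup W with C_W(d) = 1. Then G has an elementary abelian subgroup of order 8. -/
theorem result {G : Type*} [Group G] [Finite G] (hchar : Subgroup.centralizer (Cfsg.pCore 2 G : Set G) ≤ Cfsg.pCore 2 G) (hsix : ∃ g : G, orderOf g = 6) (d : G) (hd1 : d ≠ 1) (hd : IsPGroup 3 ↥(Subgroup.zpowers d)) (W : Subgroup G) (hW : Cfsg.IsElementaryAbelian 2 W) (hW1 : W ≠ ⊥) (hdW : d ∈ Subgroup.normalizer (W : Set G)) (hfpf : W ⊓ Subgroup.centralizer {d} = ⊥) : ∃ E : Subgroup G, Cfsg.IsElementaryAbelian 2 E ∧ Nat.card E = 8 := by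
  classical
  haveI : Fact (Nat.Prime 2) := ⟨Nat.prime_two⟩
  haveI : Fact (Nat.Prime 3) := ⟨Nat.prime_three⟩
  by_contra hcon
  push Not at hcon
  have hW2 : ∀ a ∈ W, a ^ 2 = 1 := hW.2
  have hWc : ∀ a ∈ W, ∀ b ∈ W, a * b = b * a := fun a ha b hb =>
    congrArg Subtype.val (hW.1.is_comm.comm (⟨a, ha⟩ : W) ⟨b, hb⟩)
  have hrank' : ∀ V : Subgroup G, (∀ a ∈ V, ∀ b ∈ V, a * b = b * a) → (∀ a ∈ V, a ^ 2 = 1) → Nat.card V ≤ 4 := by
    intro V hc h2
    by_contra hlt
    push Not at hlt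
    have hV : IsPGroup 2 V := fun a => ⟨1, Subtype.ext (by rw [pow_one]; exact h2 a a.2)⟩
    obtain ⟨k, hk⟩ := hV.exists_card_eq
    have hk3 : 3 ≤ k := by
      by_contra hk'
      have := Nat.pow_le_pow_right (show 0 < 2 by norm_num) (show k ≤ 2 by omega)
      omega
    obtain ⟨E, hE⟩ := Sylow.exists_subgroup_card_pow_prime 2 (n := 3) (G := V) (hk ▸ pow_dvd_pow 2 hk3)
    refine hcon (E.map V.subtype) ⟨⟨⟨?_⟩⟩, ?_⟩ ?_
    · rintro ⟨_, a, -, rfl⟩ ⟨_, b, -, rfl⟩
      exact Subtype.ext (hc a a.2 b b.2)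
    · rintro _ ⟨a, -, rfl⟩; exact h2 a a.2
    · rw [Subgroup.card_map_of_injective V.subtype_injective, hE]; rfl
  have hW2grp : ∀ V : Subgroup G, (∀ a ∈ V, a ^ 2 = 1) → IsPGroup 2 V := fun V h2 a =>
    ⟨1, Subtype.ext (by rw [pow_one]; exact h2 a a.2)⟩
  have hfix1 : ∀ w ∈ W, d * w * d⁻¹ = w → w = 1 := by
    intro w hw he
    refine mem_bot.mp (hfpf.le ⟨hw, ?_⟩)
    show w ∈ Subgroup.centralizer ({d} : Set G)
    rw [Subgroup.mem_centralizer_singleton_iff]
    rw [mul_inv_eq_iff_eq_mul] at he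
    exact he.symm
  have hW4 := card_eq_four hd W (hW2grp W hW2) hdW hfix1 hW1 (hrank' W hWc hW2)
  set Q := pCore 2 G with hQ
  have hQp : IsPGroup 2 Q := CfsgLib.PCore.pCore_isPGroup
  let Z : Subgroup G :=
    { carrier := {x | x ∈ Q ⊓ Subgroup.centralizer (Q : Set G) ∧ x ^ 2 = 1}
      one_mem' := ⟨one_mem _, one_pow 2⟩
      mul_mem' := fun {a b} ha hb => ⟨mul_mem ha.1 hb.1, by
        have hc : Commute a b := (Subgroup.mem_centralizer_iff.mp ha.1.2 b hb.1.1).symm
        rw [hc.mul_pow, ha.2, hb.2, one_mul]⟩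
      inv_mem' := fun {a} ha => ⟨inv_mem ha.1, by rw [inv_pow, ha.2, inv_one]⟩ }
  haveI : Z.Normal := ⟨fun x hx g => by
    refine ⟨⟨(inferInstance : Q.Normal).conj_mem _ hx.1.1 g, ?_⟩, by rw [conj_pow, hx.2]; group⟩
    exact (inferInstance : (Subgroup.centralizer (Q : Set G)).Normal).conj_mem _ hx.1.2 g⟩
  have hZc : ∀ a ∈ Z, ∀ b ∈ Z, a * b = b * a := fun a ha b hb => Subgroup.mem_centralizer_iff.mp hb.1.2 a ha.1.1
  have hZne : Z ≠ ⊥ := by
    intro hbot
    rcases eq_or_ne Q ⊥ with h | h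
    · refine hd1 (mem_bot.mp (h ▸ hchar ?_))
      show d ∈ Subgroup.centralizer (Q : Set G)
      rw [h, Subgroup.mem_centralizer_iff]
      intro z hz
      rw [Subgroup.coe_bot, Set.mem_singleton_iff] at hz
      simp [hz]
    · haveI : Nontrivial Q := (nontrivial_iff_ne_bot Q).mpr h
      haveI := hQp.center_nontrivial
      obtain ⟨t, ht⟩ := exists_prime_orderOf_dvd_card' 2
        ((hQp.to_subgroup (Subgroup.center Q)).card_eq_or_dvd.resolve_left (Finite.one_lt_card (α := Subgroup.center Q)).ne')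
      have hmem : ((t : Q) : G) ∈ Z := by
        refine ⟨⟨(t : Q).2, Subgroup.mem_centralizer_iff.mpr fun y hy =>
          congrArg Subtype.val (Subgroup.mem_center_iff.mp t.2 ⟨y, hy⟩)⟩, ?_⟩
        have h1 : t ^ 2 = 1 := by rw [← ht]; exact pow_orderOf_eq_one t
        exact congrArg (fun z : Subgroup.center Q => ((z : Q) : G)) h1
      rw [hbot, mem_bot] at hmem
      have : t = 1 := Subtype.ext (Subtype.ext hmem)
      rw [this, orderOf_one] at ht
      omega
  have hsupW : ∀ t : G, t ^ 2 = 1 → (∀ a ∈ W, a * t = t * a) → t ∈ W := by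
    intro t ht2 htc
    obtain ⟨V, hVc, hV2, hWV, htV, -⟩ := exists_elemAb_sup W hWc hW2 ht2 htc
    rw [eq_of_le_of_card_ge hWV ((hrank' V hVc hV2).trans hW4.ge)]
    exact htV
  have hZ4 : Nat.card Z = 4 := by
    obtain ⟨k, hk⟩ := (hW2grp Z fun a ha => ha.2).exists_card_eq
    have hle := hrank' Z hZc (fun a ha => ha.2)
    have hk2 : k ≤ 2 := (Nat.pow_le_pow_iff_right one_lt_two).mp (hk ▸ hle)
    interval_cases k
    · exact absurd (Subgroup.card_eq_one.mp hk) hZne
    · exfalso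
      obtain ⟨⟨z, hz⟩, hz1⟩ := ne_bot_iff_exists_ne_one.mp hZne
      have hz1' : z ≠ 1 := fun h => hz1 (Subtype.ext h)
      haveI := Fintype.ofFinite Z
      have hcent : ∀ g : G, g * z * g⁻¹ = z := by
        intro g
        by_contra hne
        have hs : ({1, (⟨z, hz⟩ : Z), ⟨g * z * g⁻¹, ‹Z.Normal›.conj_mem _ hz g⟩} : Finset Z).card ≤ 2 := by
          rw [pow_one] at hk
          rw [← hk, Nat.card_eq_fintype_card]; exact Finset.card_le_univ _
        rw [Finset.card_insert_of_notMem (by simp [Subtype.ext_iff, Ne.symm hz1', eq_comm (a := (1 : G)), hz1']),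
          Finset.card_insert_of_notMem (by simp [Subtype.ext_iff, Ne.symm hne]), Finset.card_singleton] at hs
        omega
      refine hz1' (hfix1 z ?_ (hcent d))
      exact hsupW z hz.2 fun a _ => mul_inv_eq_iff_eq_mul.mp (hcent a)
    · exact hk
  have hWZ : W = Z := by
    haveI := Fintype.ofFinite Z
    let ρ : W →* Equiv.Perm {z : Z // z ≠ 1} :=
      { toFun := fun w => (((MulAut.conjNormal (w : G) : MulAut Z).toEquiv).subtypeEquiv fun z => by simp)
        map_one' := Equiv.ext fun z => Subtype.ext (Subtype.ext (by simp))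
        map_mul' := fun a b => Equiv.ext fun z => Subtype.ext (Subtype.ext (by simp [mul_assoc])) }
    have hperm : Nat.card (Equiv.Perm {z : Z // z ≠ 1}) = 6 := by
      rw [Nat.card_perm, Nat.card_eq_fintype_card, Fintype.card_subtype_compl, Fintype.card_subtype_eq,
        ← Nat.card_eq_fintype_card, hZ4]
      rfl
    have hrange : Nat.card ρ.range ∣ 2 := by
      have h1 : Nat.card ρ.range ∣ 4 := hW4 ▸ Subgroup.card_range_dvd ρ
      have h2 : Nat.card ρ.range ∣ 6 := hperm ▸ Subgroup.card_subgroup_dvd_card ρ.range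
      exact Nat.dvd_gcd h1 h2
    have hker : 2 ≤ Nat.card ρ.ker := by
      have h := ρ.ker.card_mul_index
      rw [index_ker, hW4] at h
      have := Nat.le_of_dvd two_pos hrange
      nlinarith
    haveI : Nontrivial ρ.ker := Finite.one_lt_card_iff_nontrivial.mp (by omega)
    obtain ⟨⟨w₀, hw₀⟩, hw₀1⟩ := exists_ne (1 : ρ.ker)
    have hw₀Z : (w₀ : G) ∈ Z := by
      obtain ⟨V, hVc, hV2, hZV, htV, -⟩ := exists_elemAb_sup Z hZc (fun a ha => ha.2) (hW2 w₀ w₀.2) fun a ha => by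
        by_cases ha1 : a = 1
        · simp [ha1]
        · have h := congrArg (fun e : Equiv.Perm {z : Z // z ≠ 1} =>
            (((e ⟨⟨a, ha⟩, fun h => ha1 (congrArg Subtype.val h)⟩ : {z : Z // z ≠ 1}) : Z) : G)) (MonoidHom.mem_ker.mp hw₀)
          simp [ρ, MulAut.conjNormal_apply] at h
          exact (mul_inv_eq_iff_eq_mul.mp h).symm
      rw [eq_of_le_of_card_ge hZV ((hrank' V hVc hV2).trans hZ4.ge)]
      exact htV
    have hWZ4 := card_eq_four hd (W ⊓ Z) ((hW2grp W hW2).to_le inf_le_left)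
      (by
        rw [Subgroup.mem_normalizer_iff]
        intro x
        rw [Subgroup.mem_inf, Subgroup.mem_inf, ← Subgroup.mem_normalizer_iff.mp hdW x]
        refine and_congr_right fun _ => ⟨fun h => ‹Z.Normal›.conj_mem _ h d, fun h => ?_⟩
        have := ‹Z.Normal›.conj_mem _ h d⁻¹
        simpa [mul_assoc] using this)
      (fun w hw => hfix1 w hw.1) (fun hbot => hw₀1 (Subtype.ext (Subtype.ext (mem_bot.mp (hbot.le ⟨w₀.2, hw₀Z⟩)))))
      ((card_le_of_le inf_le_left).trans hW4.le)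
    rw [← eq_of_le_of_card_ge (inf_le_left : W ⊓ Z ≤ W) (hW4.trans hWZ4.symm).le]
    exact eq_of_le_of_card_ge inf_le_right (hZ4.trans hWZ4.symm).le
  haveI hWn : W.Normal := hWZ ▸ inferInstance
  obtain ⟨g, hg⟩ := hsix
  have ha₀ : orderOf (g ^ 2) = 3 := by
    rw [orderOf_pow, hg]; rfl
  set a₀ := g ^ 2 with ha₀def
  set t := g ^ 3 with ht
  have ht2 : t ^ 2 = 1 := by
    have h6 := pow_orderOf_eq_one g
    rw [hg] at h6
    rw [ht, ← pow_mul]
    exact h6
  have ht1 : t ≠ 1 := fun h => by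
    have := Nat.le_of_dvd (by norm_num) (hg ▸ orderOf_dvd_of_pow_eq_one h)
    omega
  have hat : a₀ * t = t * a₀ := by rw [ha₀def, ht, ← pow_add, ← pow_add]
  have ha₀W : ∀ u ∈ W, a₀ * u * a₀⁻¹ = u := by
    have h3 : a₀ ^ 3 = 1 := by rw [← ha₀]; exact pow_orderOf_eq_one _
    by_cases htc : ∀ a ∈ W, a * t = t * a
    · exact fixes_four h3 W hW4 (hsupW t ht2 htc) ht1 (by rw [hat, mul_inv_cancel_right])
    · push Not at htc
      obtain ⟨u, hu, hut⟩ := htc
      set w := u * (t * u * t⁻¹) with hw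
      have htu : t * u * t⁻¹ ∈ W := hWn.conj_mem _ hu t
      have hwW : w ∈ W := W.mul_mem hu htu
      have hw1 : w ≠ 1 := fun h => hut (by
        have h1 : t * u * t⁻¹ = u := by
          rw [← inv_eq_of_mul_eq_one_right h]
          exact inv_eq_of_mul_eq_one_right (by rw [← sq]; exact hW2 u hu)
        exact (mul_inv_eq_iff_eq_mul.mp h1).symm)
      have htw : t * w * t⁻¹ = w := by
        have htt : t * t = 1 := by rw [← sq]; exact ht2
        calc t * w * t⁻¹ = (t * u * t⁻¹) * ((t * t) * u * (t * t)⁻¹) := by rw [hw]; group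
          _ = (t * u * t⁻¹) * u := by rw [htt]; group
          _ = w := hWc _ htu u hu
      refine fixes_four h3 W hW4 hwW hw1 ?_
      by_contra hne
      set w' := a₀ * w * a₀⁻¹ with hw'
      have hw'W : w' ∈ W := hWn.conj_mem _ hwW a₀
      let F := W ⊓ Subgroup.centralizer ({t} : Set G)
      have hF : ∀ x ∈ W, t * x * t⁻¹ = x → x ∈ F := fun x hx hxt =>
        ⟨hx, Subgroup.mem_centralizer_singleton_iff.mpr (mul_inv_eq_iff_eq_mul.mp hxt).symm⟩
      have htw' : t * w' * t⁻¹ = w' := by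
        calc t * w' * t⁻¹ = (t * a₀) * w * (t * a₀)⁻¹ := by rw [hw']; group
          _ = (a₀ * t) * w * (a₀ * t)⁻¹ := by rw [hat]
          _ = a₀ * (t * w * t⁻¹) * a₀⁻¹ := by group
          _ = w' := by rw [htw]
      have hw'1 : w' ≠ 1 := fun h => hw1 (by rwa [hw', conj_eq_one_iff] at h)
      haveI := Fintype.ofFinite F
      have hs : ({1, (⟨w, hF w hwW htw⟩ : F), ⟨w', hF w' hw'W htw'⟩} : Finset F).card ≤ Nat.card F := by
        rw [Nat.card_eq_fintype_card]; exact Finset.card_le_univ _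
      rw [Finset.card_insert_of_notMem (by simp [Subtype.ext_iff, eq_comm (a := (1 : G)), hw1, hw'1]),
        Finset.card_insert_of_notMem (by simp [Subtype.ext_iff, Ne.symm hne]), Finset.card_singleton] at hs
      have hdvd : Nat.card F ∣ 2 ^ 2 := by
        rw [show (2 : ℕ) ^ 2 = Nat.card W by rw [hW4]; rfl]
        exact Subgroup.card_dvd_of_le inf_le_left
      obtain ⟨j, hj, hj'⟩ := (Nat.dvd_prime_pow Nat.prime_two).mp hdvd
      have : Nat.card F = 4 := by
        interval_cases j <;> omega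
      have hmem : u ∈ F := (eq_of_le_of_card_ge (inf_le_left : F ≤ W) (hW4.trans this.symm).le).ge hu
      exact hut (Subgroup.mem_centralizer_singleton_iff.mp hmem.2)
  obtain ⟨P3, hP3⟩ := hd.exists_le_sylow
  have hdP3 : d ∈ (P3 : Subgroup G) := hP3 (mem_zpowers d)
  have hdQ : Subgroup.zpowers a₀ ⊓ Q = ⊥ := Subgroup.inf_eq_bot_of_coprime (by
    obtain ⟨k, hk⟩ := hQp.exists_card_eq
    rw [Nat.card_zpowers, ha₀, hk]
    exact Nat.Coprime.pow_right _ (by norm_num))
  obtain ⟨a, haP, haW, ha3, hacent⟩ : ∃ a, a ∈ (P3 : Subgroup G) ∧ (∀ u ∈ W, a * u * a⁻¹ = u) ∧ orderOf a = 3 ∧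
      ∀ y ∈ (P3 : Subgroup G), a * y = y * a := by
    obtain ⟨P', hP'⟩ := (IsPGroup.of_card (p := 3) (n := 1) (G := Subgroup.zpowers a₀)
      (by rw [Nat.card_zpowers, ha₀, pow_one])).exists_le_sylow
    obtain ⟨c, hc⟩ := MulAction.exists_smul_eq G P' P3
    set C := Subgroup.centralizer (W : Set G) with hC
    have ha₁ : c * a₀ * c⁻¹ ∈ (P3 : Subgroup G) ⊓ C := by
      refine ⟨?_, ?_⟩
      · rw [← hc]
        show c * a₀ * c⁻¹ ∈ ((c • P' : Sylow 3 G) : Subgroup G)
        rw [Sylow.coe_subgroup_smul]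
        exact CfsgLib.Coprime.mem_conj_smul.mpr (by simpa [mul_assoc] using hP' (mem_zpowers a₀))
      · refine (inferInstance : C.Normal).conj_mem _ ?_ c
        rw [hC, Subgroup.mem_centralizer_iff]
        exact fun u hu => (mul_inv_eq_iff_eq_mul.mp (ha₀W u hu)).symm
    set M := C.subgroupOf (P3 : Subgroup G) with hM
    have hM1 : (⟨c * a₀ * c⁻¹, ha₁.1⟩ : (P3 : Subgroup G)) ∈ M := ha₁.2
    letI : MulAction (P3 : Subgroup G) M := MulAction.compHom M (MulAut.conjNormal : (P3 : Subgroup G) →* MulAut M)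
    have hMdvd : 3 ∣ Nat.card M := by
      refine (P3.isPGroup'.to_subgroup M).card_eq_or_dvd.resolve_left fun h => ?_
      have h1 := congrArg Subtype.val (mem_bot.mp ((Subgroup.card_eq_one.mp h).le hM1))
      have h2 : a₀ = 1 := conj_eq_one_iff.mp h1
      rw [h2, orderOf_one] at ha₀
      omega
    obtain ⟨m, hm, hm1⟩ := P3.isPGroup'.exists_fixed_point_of_prime_dvd_card_of_fixed_point M hMdvd (a := 1)
      (fun y => map_one (MulAut.conjNormal y))
    obtain ⟨k, hk⟩ := IsPGroup.iff_orderOf.mp P3.isPGroup' (m : (P3 : Subgroup G))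
    rcases k with _ | k
    · rw [pow_zero, orderOf_eq_one_iff] at hk
      exact absurd (Subtype.ext hk).symm hm1
    set m' := ((m : (P3 : Subgroup G)) : G) with hm'
    have hmC : m' ∈ C := m.2
    have hord : orderOf m' = 3 ^ (k + 1) := by rw [hm', Subgroup.orderOf_coe]; exact hk
    refine ⟨m' ^ 3 ^ k, Subgroup.pow_mem _ (m : (P3 : Subgroup G)).2 _, fun u hu => ?_, ?_, fun y hy => ?_⟩
    · have h1 := Subgroup.mem_centralizer_iff.mp (Subgroup.pow_mem C hmC (3 ^ k)) u hu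
      rw [← h1, mul_inv_cancel_right]
    · rw [orderOf_pow, hord, Nat.gcd_eq_right (pow_dvd_pow 3 (Nat.le_succ k)),
        Nat.pow_div (Nat.le_succ k) (by norm_num), show k.succ - k = 1 by omega, pow_one]
    · have h1 : y * m' * y⁻¹ = m' := congrArg (fun z : M => ((z : (P3 : Subgroup G)) : G)) (hm ⟨y, hy⟩)
      have hc : Commute m' y := (mul_inv_eq_iff_eq_mul.mp h1).symm
      exact hc.pow_left _
  obtain ⟨H, hHQ, hHn, hHcomm, hHsq, hHfaith⟩ := exists_critical_in Q hQp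
  have hnQ : ∀ x : G, x ∈ Subgroup.normalizer (H : Set G) := fun x => hHn (by rw [Subgroup.normalizer_eq_top]; exact mem_top x)
  have hWQ : ∀ w ∈ W, ∀ h ∈ Q, h * w = w * h := fun w hw h hh => Subgroup.mem_centralizer_iff.mp (hWZ ▸ hw).1.2 h hh
  obtain ⟨K, hK, hK64⟩ := exists_four_subgroup H W hHcomm hHsq
    (fun h hh h2 => hsupW h h2 fun w hw => ((hWQ w hw h (hHQ hh))).symm) hW2 (fun w hw h hh => hWQ w hw h (hHQ hh)) hW4.le
  have hmoved : ∃ h ∈ K, a * h * a⁻¹ ≠ h := by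
    by_contra hall
    push Not at hall
    have hodd : Odd (orderOf a) := by rw [ha3]; decide
    have hxH := centralizes_of_fixes_four H (hQp.to_le hHQ) hHcomm hHsq a (hnQ a) hodd
      fun h hh h4 => hall h ((hK h).mpr ⟨hh, h4⟩)
    have hcent : Subgroup.zpowers a ≤ Subgroup.centralizer (Q : Set G) := by
      refine hHfaith _ (zpowers_le.mpr (by rw [Subgroup.normalizer_eq_top]; exact mem_top a)) ?_ ?_
      · rw [Nat.card_zpowers]; exact Nat.coprime_two_right.mpr hodd
      · rw [zpowers_le, Subgroup.mem_centralizer_iff]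
        intro h hh
        exact (mul_inv_eq_iff_eq_mul.mp (hxH h hh)).symm
    have haQ : a ∈ Q := hchar (hcent (mem_zpowers a))
    obtain ⟨k, hk⟩ := hQp ⟨a, haQ⟩
    have := orderOf_dvd_of_pow_eq_one (congrArg Subtype.val hk : a ^ 2 ^ k = 1)
    rw [ha3] at this
    have := (Nat.prime_dvd_prime_iff_eq Nat.prime_three Nat.prime_two).mp (Nat.prime_three.dvd_of_dvd_pow this)
    omega
  have hinvol : ∀ h ∈ K, h ^ 2 = 1 → a * h * a⁻¹ = h := fun h hh h2 =>
    haW h (hsupW h h2 fun w hw => (hWQ w hw h (hHQ ((hK h).mp hh).1)).symm)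
  have h9 := not_nine_dvd_moved K (hQp.to_le fun h hh => hHQ ((hK h).mp hh).1) hK64 a hinvol hmoved
  set D := Subgroup.closure ({a, d} : Set G) with hD
  have hDP : D ≤ (P3 : Subgroup G) := (Subgroup.closure_le _).mpr (Set.pair_subset_iff.mpr ⟨haP, hdP3⟩)
  have hinv : ∀ (y : D) (h : G), (h ∈ K ∧ a * h * a⁻¹ ≠ h) →
      ((y : G) * h * (y : G)⁻¹ ∈ K ∧ a * ((y : G) * h * (y : G)⁻¹) * a⁻¹ ≠ (y : G) * h * (y : G)⁻¹) := by
    rintro ⟨y, hy⟩ h ⟨hh, hah⟩
    refine ⟨(hK _).mpr ⟨(Subgroup.mem_normalizer_iff.mp (hnQ y) h).mp ((hK h).mp hh).1,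
      by rw [conj_pow, ((hK h).mp hh).2]; group⟩, fun he => hah ?_⟩
    have hcy := hacent y (hDP hy)
    apply (MulAut.conj y).injective
    show y * (a * h * a⁻¹) * y⁻¹ = y * h * y⁻¹
    calc y * (a * h * a⁻¹) * y⁻¹ = (y * a) * h * (y * a)⁻¹ := by group
      _ = (a * y) * h * (a * y)⁻¹ := by rw [hcy]
      _ = a * (y * h * y⁻¹) * a⁻¹ := by group
      _ = _ := he
  letI : MulAction D {h : G // h ∈ K ∧ a * h * a⁻¹ ≠ h} :=
    { smul := fun y h => ⟨_, hinv y h h.2⟩
      one_smul := fun h => Subtype.ext (by show (1 : G) * h * (1 : G)⁻¹ = h; group)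
      mul_smul := fun y z h => Subtype.ext (by
        show ((y * z : D) : G) * h * ((y * z : D) : G)⁻¹ = y * (z * h * (z : G)⁻¹) * (y : G)⁻¹
        rw [Subgroup.coe_mul]; group) }
  obtain ⟨h, hh⟩ := exists_orbit_three (P3.isPGroup'.to_le hDP) h9
  let da : D := ⟨d, Subgroup.subset_closure (Or.inr rfl)⟩
  let aa : D := ⟨a, Subgroup.subset_closure (Or.inl rfl)⟩
  have ha3' : a ^ 3 = 1 := by rw [← ha3]; exact pow_orderOf_eq_one a
  have hmem : da • h ∈ ({h, aa • h, aa • aa • h} : Set _) := by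
    have hsub : ({h, aa • h, aa • aa • h} : Set {x : G // x ∈ K ∧ a * x * a⁻¹ ≠ x}) ⊆ MulAction.orbit D h := by
      rintro x (rfl | rfl | rfl)
      · exact MulAction.mem_orbit_self _
      · exact MulAction.mem_orbit _ aa
      · exact ⟨aa * aa, mul_smul _ _ _⟩
    have hne1 : aa • h ≠ h := fun e => h.2.2 (congrArg Subtype.val e)
    have hne3 : aa • aa • h ≠ h := fun e => hne1 (by
      calc aa • h = aa • (aa • aa • h) := by rw [e]
        _ = (aa * aa * aa) • h := by rw [mul_smul, mul_smul]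
        _ = h := by
          rw [show aa * aa * aa = 1 from Subtype.ext (by show a * a * a = 1; rw [← pow_three']; exact ha3'), one_smul])
    have hne2 : aa • aa • h ≠ aa • h := fun e => (aa • h).2.2 (congrArg Subtype.val e)
    have hcard : ({h, aa • h, aa • aa • h} : Set _).ncard = 3 :=
      Set.ncard_eq_three.mpr ⟨_, _, _, hne1.symm, hne3.symm, hne2.symm, rfl⟩
    have heq := Set.eq_of_subset_of_ncard_le hsub (by
      rw [hcard, ← Nat.card_coe_set_eq]; exact Nat.le_of_dvd (by norm_num) hh) (Set.toFinite _)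
    rw [heq]
    exact MulAction.mem_orbit _ da
  have hh2 : (h : G) ^ 2 ∈ W := hsupW _ (by rw [← pow_mul]; exact ((hK h).mp h.2.1).2) fun w hw =>
    (hWQ w hw _ (Q.pow_mem (hHQ ((hK h).mp h.2.1).1) 2)).symm
  have hsq : ∀ x : {x : G // x ∈ K ∧ a * x * a⁻¹ ≠ x}, (x : G) ^ 2 = (h : G) ^ 2 →
      ((aa • x : {x : G // x ∈ K ∧ a * x * a⁻¹ ≠ x}) : G) ^ 2 = (h : G) ^ 2 := by
    intro x hx
    show (a * x * a⁻¹) ^ 2 = (h : G) ^ 2
    rw [conj_pow, hx, haW _ hh2]
  have hd2 : d * (h : G) ^ 2 * d⁻¹ = (h : G) ^ 2 := by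
    rw [← conj_pow]
    show ((da • h : {x : G // x ∈ K ∧ a * x * a⁻¹ ≠ x}) : G) ^ 2 = _
    rcases hmem with e | e | e <;> rw [e]
    · exact hsq h rfl
    · exact hsq _ (hsq h rfl)
  exact h.2.2 (hinvol h h.2.1 (hfix1 _ hh2 hd2))

end Cfsg.Agent.S3739
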