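import Cfsg.Statements.S3740
import Cfsg.Agent.S0106
import Cfsg.Agent.Lib.Transfer.QuadraticAction
import Cfsg.Agent.Lib.TwoGroups.OneInvolution
import Cfsg.Agent.Lib.ClassicalGroups.SL2
import Cfsg.Agent.Lib.Structure.Subnormal
import Cfsg.Agent.Lib.Coprime.Action

set_option autoImplicit false
open Cfsg

namespace Cfsg.Agent.S3740

open Subgroup Matrix

abbrev S2 (F : Type) [CommRing F] := Matrix.SpecialLinearGroup (Fin 2) F

variable {F : Type} [Field F] [Fintype F] {p : ℕ}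

theorem nilp_sq {N : Matrix (Fin 2) (Fin 2) F} {B : S2 F} (h : IsNilpotent ((B : Matrix (Fin 2) (Fin 2) F) - 1))
    (hN : N = (B : Matrix (Fin 2) (Fin 2) F) - 1) : N * N = 0 := by
  subst hN
  set M := (B : Matrix (Fin 2) (Fin 2) F) - 1 with hM
  have ht : M.trace = 0 := (Matrix.isNilpotent_trace_of_isNilpotent h).eq_zero
  have hd : M.det = 0 := by
    obtain ⟨n, hn⟩ := h
    have h0 : M.det ^ n = 0 := by rw [← Matrix.det_pow, hn, Matrix.det_zero]
    exact eq_zero_of_pow_eq_zero h0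
  rw [Matrix.trace_fin_two] at ht
  rw [Matrix.det_fin_two] at hd
  ext i j
  fin_cases i <;> fin_cases j <;> simp [Matrix.mul_apply, Fin.sum_univ_two] <;> grind

theorem sq_eq_one_of_commute [Fact p.Prime] [CharP F p] (hp : p ≠ 2) (A B : S2 F) (hA : A ≠ 1)
    (hN : ((A : Matrix (Fin 2) (Fin 2) F) - 1) * ((A : Matrix (Fin 2) (Fin 2) F) - 1) = 0)
    (hc : Commute A B) (hB : (orderOf B).Coprime p) : B ^ 2 = 1 := by
  have hc' : ((A : Matrix (Fin 2) (Fin 2) F) - 1) * B = B * ((A : Matrix (Fin 2) (Fin 2) F) - 1) := by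
    have h := congrArg Subtype.val hc.eq
    simp only [Matrix.SpecialLinearGroup.coe_mul] at h
    rw [sub_mul, mul_sub, one_mul, mul_one, h]
  have hne : (A : Matrix (Fin 2) (Fin 2) F) - 1 ≠ 0 := fun h => hA (Subtype.ext (sub_eq_zero.mp h))
  generalize (A : Matrix (Fin 2) (Fin 2) F) - 1 = N at hN hc' hne
  have hdet : (B : Matrix (Fin 2) (Fin 2) F).det = 1 := B.2
  have n00 := congrFun (congrFun hN 0) 0
  have n01 := congrFun (congrFun hN 0) 1
  have n10 := congrFun (congrFun hN 1) 0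
  have n11 := congrFun (congrFun hN 1) 1
  have c00 := congrFun (congrFun hc' 0) 0
  have c01 := congrFun (congrFun hc' 0) 1
  have c10 := congrFun (congrFun hc' 1) 0
  simp [Matrix.mul_apply, Fin.sum_univ_two] at n00 n01 n10 n11 c00 c01 c10
  rw [Matrix.det_fin_two] at hdet
  have hne' : N 0 0 ≠ 0 ∨ N 0 1 ≠ 0 ∨ N 1 0 ≠ 0 ∨ N 1 1 ≠ 0 := by
    by_contra hcon
    push Not at hcon
    obtain ⟨h1, h2, h3, h4⟩ := hcon
    exact hne (Matrix.ext fun i j => by fin_cases i <;> fin_cases j <;> assumption)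
  have h2 : (2 : F) ≠ 0 := Ring.two_ne_zero (by rw [ringChar.eq F p]; exact hp)
  set M : Matrix (Fin 2) (Fin 2) F := (B : Matrix (Fin 2) (Fin 2) F)
  have htr : (M 0 0 + M 1 1) * (M 0 0 + M 1 1) = 4 := by grind
  have hsq : ((M * M) - 1) * ((M * M) - 1) = 0 := by
    ext i j
    fin_cases i <;> fin_cases j <;> simp [Matrix.mul_apply, Fin.sum_univ_two] <;> grind
  have hpow : (B ^ 2) ^ p = 1 := by
    apply Subtype.ext
    simp only [Matrix.SpecialLinearGroup.coe_pow, Matrix.SpecialLinearGroup.coe_one]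
    have h := sub_pow_char_of_commute p (x := M * M) (y := 1) (Commute.one_right _)
    rw [one_pow, pow_eq_zero_of_le (Fact.out : p.Prime).two_le (by rw [pow_two, hsq]), eq_comm, sub_eq_zero] at h
    rw [pow_two]; exact h
  refine orderOf_eq_one_iff.mp (Nat.eq_one_of_dvd_coprimes hB ?_ (orderOf_dvd_of_pow_eq_one hpow))
  exact orderOf_dvd_of_pow_eq_one (by rw [← pow_mul, mul_comm, pow_mul, pow_orderOf_eq_one, one_pow])

theorem commute_of_group [Fact p.Prime] [CharP F p] (hp : p ≠ 2) (a : S2 F)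
    (hN : ((a : Matrix (Fin 2) (Fin 2) F) - 1) * ((a : Matrix (Fin 2) (Fin 2) F) - 1) = 0) (hap : a ^ p = 1)
    {q : ℕ} [Fact q.Prime] (hqp : q ≠ p) (S : Subgroup (S2 F)) (hS : IsPGroup q S)
    (haS : a ∈ Subgroup.normalizer (S : Set (S2 F))) (hcase : q ≠ 2 ∨ p ≠ 3 ∨ IsMulCommutative S)
    {x : S2 F} (hx : x ∈ S) : Commute a x := by
  set H := S ⊔ Subgroup.zpowers a with hH
  haveI : Group.IsSolvable H := by
    haveI : Group.IsSolvable S := by
      haveI := hS.isNilpotent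
      infer_instance
    haveI : Group.IsSolvable (Subgroup.zpowers a) :=
      Group.isSolvable_of_comm fun u v => (IsCyclic.commutative (α := Subgroup.zpowers a)).is_comm.comm u v
    exact CfsgLib.Structure.isSolvable_sup_of_le_normalizer (Subgroup.zpowers_le.mpr haS)
  letI : Algebra (ZMod p) F := ZMod.algebra F p
  let rr : Module.End F (Fin 2 → F) →* Module.End (ZMod p) (Fin 2 → F) :=
    { toFun := fun f => f.restrictScalars (ZMod p)
      map_one' := rfl
      map_mul' := fun _ _ => rfl }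
  let μ : H →* Matrix (Fin 2) (Fin 2) F :=
    { toFun := fun g => ((g : S2 F) : Matrix (Fin 2) (Fin 2) F)
      map_one' := rfl
      map_mul' := fun _ _ => rfl }
  let ρ : H →* Module.End (ZMod p) (Fin 2 → F) :=
    rr.comp ((Matrix.toLinAlgEquiv' (R := F) (n := Fin 2)).toAlgHom.toMonoidHom.comp μ)
  have hρ : ∀ (g : H) w, ρ g w = ((g : S2 F) : Matrix (Fin 2) (Fin 2) F).mulVec w := fun g w => rfl
  set aH : H := ⟨a, Subgroup.mem_sup_right (Subgroup.mem_zpowers a)⟩ with haH
  have hNρ : (ρ aH - 1) * (ρ aH - 1) = 0 := by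
    refine LinearMap.ext fun w => ?_
    have e : ∀ w, (ρ aH - 1) w = ((a : Matrix (Fin 2) (Fin 2) F) - 1).mulVec w := fun w => by
      rw [LinearMap.sub_apply, hρ, Module.End.one_apply, Matrix.sub_mulVec, Matrix.one_mulVec]
    rw [Module.End.mul_apply, e, e, Matrix.mulVec_mulVec, hN, Matrix.zero_mulVec]; rfl
  have haQ : aH ∈ Subgroup.normalizer ((S.subgroupOf H : Subgroup H) : Set H) := by
    rw [Subgroup.mem_normalizer_iff]
    intro g
    exact (Subgroup.mem_normalizer_iff.mp haS (g : S2 F))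
  have hQ : IsPGroup q (S.subgroupOf H) := hS.comap_subtype
  have hcase' : q ≠ 2 ∨ p ≠ 3 ∨ IsMulCommutative (S.subgroupOf H) := by
    refine hcase.imp id (fun h => h.imp id fun h => ?_)
    exact ⟨⟨fun u v => by
      have e := congrArg Subtype.val (h.is_comm.comm (⟨((u : H) : S2 F), u.2⟩ : S) ⟨((v : H) : S2 F), v.2⟩)
      exact Subtype.ext (Subtype.ext (by simpa using e))⟩⟩
  have h := CfsgLib.Transfer.QuadraticAction.commute_of_isPGroup ρ hp hNρ (k := 1)
    (Subtype.ext (by rw [pow_one]; exact hap)) hqp hQ haQ hcase'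
    (x := ⟨x, Subgroup.mem_sup_left hx⟩) hx
  apply Subtype.ext
  show (a : Matrix (Fin 2) (Fin 2) F) * (x : Matrix (Fin 2) (Fin 2) F) = (x : Matrix (Fin 2) (Fin 2) F) * a
  refine Matrix.toLin'.injective (LinearMap.ext fun w => ?_)
  have := LinearMap.congr_fun h.eq w
  simp only [Module.End.mul_apply, hρ, Matrix.mulVec_mulVec] at this
  exact this


/-- Let F be a finite field of odd characteristic p and let a be a p-element of SL₂(F) normalizing a subgroup R of order prime to p with [R, a] ≠ 1. Then p = 3, R is a quaternion group of order 8, and R⟨a⟩ is isomorphic to SL₂(3). -/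
theorem result (F : Type) [Field F] [Fintype F] {p : ℕ} [Fact p.Prime] [CharP F p] (hp : p ≠ 2) (a : Matrix.SpecialLinearGroup (Fin 2) F) (ha : IsPGroup p ↥(Subgroup.zpowers a)) (R : Subgroup (Matrix.SpecialLinearGroup (Fin 2) F)) (hR : (Nat.card R).Coprime p) (haR : a ∈ Subgroup.normalizer (R : Set (Matrix.SpecialLinearGroup (Fin 2) F))) (hnt : ⁅R, Subgroup.zpowers a⁆ ≠ ⊥) : p = 3 ∧ Nonempty (↥R ≃* QuaternionGroup 2) ∧ Nonempty (↥(R ⊔ Subgroup.zpowers a) ≃* Matrix.SpecialLinearGroup (Fin 2) (ZMod 3)) := by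
  classical
  obtain ⟨k, hk⟩ := ha ⟨a, Subgroup.mem_zpowers a⟩
  have hak : a ^ p ^ k = 1 := congrArg Subtype.val hk
  have hN : ((a : Matrix (Fin 2) (Fin 2) F) - 1) * ((a : Matrix (Fin 2) (Fin 2) F) - 1) = 0 := by
    refine nilp_sq ⟨p ^ k, ?_⟩ rfl
    rw [sub_pow_char_pow_of_commute _ _ (Commute.one_right _), one_pow, ← Matrix.SpecialLinearGroup.coe_pow, hak]
    exact sub_self _
  have hap : a ^ p = 1 := by
    apply Subtype.ext
    simp only [Matrix.SpecialLinearGroup.coe_pow, Matrix.SpecialLinearGroup.coe_one]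
    have h := sub_pow_char_of_commute p (x := (a : Matrix (Fin 2) (Fin 2) F)) (y := 1) (Commute.one_right _)
    rw [one_pow, pow_eq_zero_of_le (Fact.out : p.Prime).two_le (by rw [pow_two, hN]), eq_comm, sub_eq_zero] at h
    exact h
  have ha1 : a ≠ 1 := fun h => hnt (by rw [h, Subgroup.zpowers_one_eq_bot, Subgroup.commutator_bot_right])
  have hord : orderOf a = p := orderOf_eq_prime hap ha1
  have hcopZ : (Nat.card (Subgroup.zpowers a)).Coprime (Nat.card R) := by
    rw [Nat.card_zpowers, hord]; exact hR.symm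
  have hZsolv : Group.IsSolvable (Subgroup.zpowers a) :=
    Group.isSolvable_of_comm fun u v => (IsCyclic.commutative (α := Subgroup.zpowers a)).is_comm.comm u v
  have hZR : Subgroup.zpowers a ≤ Subgroup.normalizer (R : Set (S2 F)) := Subgroup.zpowers_le.mpr haR
  have hcopx : ∀ x ∈ R, (orderOf x).Coprime p := fun x hx =>
    hR.coprime_dvd_left (Subgroup.orderOf_dvd_natCard _ hx)
  have htwo : ∀ q : ℕ, q.Prime → q ∣ Nat.card R → q = 2 := by
    intro q hq hqR
    by_contra hq2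
    haveI := Fact.mk hq
    have hqp : q ≠ p := fun h => hq.ne_one (Nat.eq_one_of_dvd_coprimes hR hqR (h ▸ dvd_rfl))
    obtain ⟨P, hP⟩ := CfsgLib.Coprime.exists_invariant_sylow (Subgroup.zpowers a) R hZR hcopZ (Or.inl hZsolv) q
    set S := (P : Subgroup R).map R.subtype with hSdef
    have hdvd : q ∣ Nat.card S := by
      rw [hSdef, Subgroup.card_map_of_injective R.subtype_injective]
      exact P.dvd_card_of_dvd_card hqR
    obtain ⟨⟨x, hxS⟩, hxo⟩ := exists_prime_orderOf_dvd_card' q hdvd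
    rw [Subgroup.orderOf_mk] at hxo
    have hxR : x ∈ R := Subgroup.map_subtype_le _ hxS
    have hc := commute_of_group hp a hN hap hqp S (P.isPGroup'.map _) (hP (Subgroup.mem_zpowers a))
      (Or.inl hq2) hxS
    have h2 := orderOf_dvd_of_pow_eq_one (sq_eq_one_of_commute hp a x ha1 hN hc (hcopx x hxR))
    rw [hxo] at h2
    exact hq2 ((Nat.prime_dvd_prime_iff_eq hq Nat.prime_two).mp h2)
  haveI := Fact.mk Nat.prime_two
  have hR2 : IsPGroup 2 R :=
    IsPGroup.of_card (Nat.eq_prime_pow_of_unique_prime_dvd Nat.card_pos.ne' fun hq hqR => htwo _ hq hqR)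
  have hbad : ∀ (h : 2 ≠ 2 ∨ p ≠ 3 ∨ IsMulCommutative R), False := by
    intro h
    apply hnt
    rw [Subgroup.commutator_eq_bot_iff_le_centralizer, Subgroup.le_centralizer_iff, Subgroup.zpowers_le,
      Subgroup.mem_centralizer_iff]
    intro x hx
    exact (commute_of_group hp a hN hap (Ne.symm hp) R hR2 haR h hx).symm.eq
  have hp3 : p = 3 := by
    by_contra h
    exact hbad (Or.inr (Or.inl h))
  subst hp3
  have h2F : (2 : F) ≠ 0 := Ring.two_ne_zero (by rw [ringChar.eq F 3]; norm_num)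
  have hone : ∀ x y : R, orderOf x = 2 → orderOf y = 2 → x = y := fun x y hx hy =>
    Subtype.ext (CfsgLib.ClassicalGroups.SL2.orderOf_two_unique h2F _ _
      (by rw [Subgroup.orderOf_coe]; exact hx) (by rw [Subgroup.orderOf_coe]; exact hy))
  rcases CfsgLib.TwoGroups.OneInvolution.isCyclic_or_quaternion hR2 hone with hc | ⟨m, hm, ⟨e⟩⟩
  · exact (hbad (Or.inr (Or.inr IsCyclic.commutative))).elim
  let f := R.normalizerMonoidHom
  let σ := f ⟨a, haR⟩
  have hσ3 : σ ^ 3 = 1 := by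
    rw [← map_pow, show (⟨a, haR⟩ : Subgroup.normalizer (R : Set (S2 F))) ^ 3 = 1 from Subtype.ext hap, map_one]
  have hσact : ∀ x : R, ((σ x : R) : S2 F) = a * x * a⁻¹ := fun x => rfl
  have hσ1 : σ ≠ 1 := by
    intro h
    apply hnt
    rw [Subgroup.commutator_eq_bot_iff_le_centralizer, Subgroup.le_centralizer_iff, Subgroup.zpowers_le,
      Subgroup.mem_centralizer_iff]
    intro x hx
    have := congrArg Subtype.val (DFunLike.congr_fun h ⟨x, hx⟩)
    rw [hσact] at this
    exact (mul_inv_eq_iff_eq_mul.mp this).symm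
  let c := MulAut.congr e
  have hc3 : (c σ) ^ 3 = 1 := by rw [← map_pow, hσ3, map_one]
  have hcne : c σ ≠ 1 := fun h => hσ1 (c.injective (h.trans (map_one c).symm))
  by_cases hm2 : 2 ≤ m
  · exact absurd (Cfsg.Agent.S0106.quaternion_aut_trivial hm2 _
      (by rw [orderOf_eq_prime hc3 hcne]; decide)) hcne
  obtain rfl : m = 1 := by omega
  obtain ⟨e8⟩ : Nonempty (R ≃* QuaternionGroup 2) := ⟨e⟩
  refine ⟨rfl, ⟨e8⟩, ?_⟩
  let c := MulAut.congr e8
  have hc3 : (c σ) ^ 3 = 1 := by rw [← map_pow, hσ3, map_one]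
  have hcne : c σ ≠ 1 := fun h => hσ1 (c.injective (h.trans (map_one c).symm))
  obtain ⟨u, hu2, huv, hconj, hall, hthird, -⟩ := Cfsg.Agent.S0106.q8_aut (c σ) hc3 hcne
  set X : Subgroup (S2 F) := R ⊔ Subgroup.zpowers a with hX
  have haX : a ∈ X := Subgroup.mem_sup_right (Subgroup.mem_zpowers a)
  let ψ : QuaternionGroup 2 →* X := (Subgroup.inclusion (le_sup_left : R ≤ X)).comp e8.symm.toMonoidHom
  have hψ : ∀ x, ((ψ x : X) : S2 F) = (e8.symm x : S2 F) := fun x => rfl
  set τ : X := ⟨a, haX⟩ with hτdef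
  have hτ : ∀ x, τ * ψ x * τ⁻¹ = ψ (c σ x) := by
    intro x
    apply Subtype.ext
    have h1 : e8.symm (c σ x) = σ (e8.symm x) := by simp [c]
    show a * (e8.symm x : S2 F) * a⁻¹ = (e8.symm (c σ x) : S2 F)
    rw [h1, hσact]
  have hcard : 24 ≤ Nat.card X := by
    have h8 : 8 ∣ Nat.card X := by
      have := Subgroup.card_dvd_of_le (le_sup_left : R ≤ X)
      rwa [Nat.card_congr e8.toEquiv, Nat.card_eq_fintype_card, QuaternionGroup.card] at this
    have h3 : 3 ∣ Nat.card X := hord ▸ Subgroup.orderOf_dvd_natCard _ haX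
    exact Nat.le_of_dvd Nat.card_pos (Nat.Coprime.mul_dvd_of_dvd_of_dvd (by norm_num : Nat.Coprime 8 3) h8 h3)
  refine Cfsg.Agent.S0106.iso_of_relations (ψ u) τ hcard (Subtype.ext hap) ?_ ?_ ?_ ?_ ?_
  · rw [← map_pow, (by decide +kernel : ∀ q : QuaternionGroup 2, q ^ 4 = 1) u, map_one]
  · rw [hτ, sq, sq, ← map_mul ψ, ← map_mul ψ, huv]
  · rw [hτ, ← map_inv ψ, ← map_mul ψ, ← map_mul ψ, hconj, map_inv ψ]
  · rw [hτ, hτ, hthird, map_mul ψ]
  · refine top_le_iff.mp fun y _ => ?_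
    have hle : X ≤ (Subgroup.zpowers (ψ u) ⊔ Subgroup.zpowers τ).map X.subtype := by
      refine hX.le.trans (sup_le ?_ (Subgroup.zpowers_le.mpr ⟨τ, Subgroup.mem_sup_right (Subgroup.mem_zpowers τ), rfl⟩))
      intro q hq
      refine ⟨ψ (e8 ⟨q, hq⟩), ?_, by simp [hψ]⟩
      obtain ⟨i, j, hij⟩ := hall (e8 ⟨q, hq⟩)
      rw [hij, map_mul, map_pow, map_pow, ← hτ u]
      exact mul_mem (pow_mem (Subgroup.mem_sup_left (Subgroup.mem_zpowers _)) _)
        (pow_mem (mul_mem (mul_mem (Subgroup.mem_sup_right (Subgroup.mem_zpowers τ))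
          (Subgroup.mem_sup_left (Subgroup.mem_zpowers _))) (inv_mem (Subgroup.mem_sup_right (Subgroup.mem_zpowers τ)))) _)
    obtain ⟨y', hy', e'⟩ := hle y.2
    rwa [← (Subtype.ext e' : y' = y)]

end Cfsg.Agent.S3740
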