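import Cfsg.Statements.S3741


set_option autoImplicit false
open Cfsg

namespace Cfsg.Agent.S3741

open scoped commutatorElement

theorem left_le_normalizer_comm {G : Type*} [Group G] (A B : Subgroup G) :
    A ≤ Subgroup.normalizer ((⁅A, B⁆ : Subgroup G) : Set G) := by
  rw [Subgroup.le_normalizer_iff]
  intro g hg d hd
  have h : ⁅A, B⁆ ≤ (⁅A, B⁆ : Subgroup G).comap (MulAut.conj g).toMonoidHom := by
    refine Subgroup.commutator_le.mpr fun a ha b hb => ?_
    show g * ⁅a, b⁆ * g⁻¹ ∈ ⁅A, B⁆
    have e : g * ⁅a, b⁆ * g⁻¹ = ⁅g * a, b⁆ * ⁅g, b⁆⁻¹ := by simp [commutatorElement_def, mul_assoc]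
    rw [e]
    exact mul_mem (Subgroup.commutator_mem_commutator (mul_mem hg ha) hb)
      (inv_mem (Subgroup.commutator_mem_commutator hg hb))
  exact h hd

theorem card_pairs {G : Type*} [Group G] [Finite G] {p : ℕ} [Fact p.Prime] (hG : IsPGroup p G)
    (A B : Subgroup G) (hAB : ⁅A, B⁆ ≤ A ⊓ B) (hcard : Nat.card ↥⁅A, B⁆ ≤ p) :
    Nat.card ↥(A ⊓ Subgroup.centralizer (B : Set G)) * Nat.card B * (p - 1) +
        Nat.card A * Nat.card B =
      p * Nat.card {x : A × B // (x.1 : G) * x.2 = x.2 * x.1} := by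
  classical
  haveI := Fintype.ofFinite G
  have hp : p.Prime := Fact.out
  -- every element of the commutator subgroup commutes with `A` and `B`
  have hnorm : A ⊔ B ≤ Subgroup.normalizer ((⁅A, B⁆ : Subgroup G) : Set G) :=
    sup_le (left_le_normalizer_comm A B) (Subgroup.commutator_comm A B ▸ left_le_normalizer_comm B A)
  have hcent : ∀ d ∈ ⁅A, B⁆, ∀ g ∈ A ⊔ B, g * d = d * g := by
    intro d hd g hg
    by_cases hd1 : d = 1
    · simp [hd1]
    · have hD : Nat.card ↥⁅A, B⁆ = p := by
        rcases (hG.to_subgroup ⁅A, B⁆).card_eq_or_dvd with h | h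
        · exact absurd (Subgroup.mem_bot.mp (Subgroup.eq_bot_of_card_eq _ h ▸ hd)) hd1
        · exact le_antisymm hcard (Nat.le_of_dvd Nat.card_pos h)
      let φ : Subgroup.normalizer ((⁅A, B⁆ : Subgroup G) : Set G) →* MulAut ↥⁅A, B⁆ :=
        Subgroup.normalizerMonoidHom ⁅A, B⁆
      have hgp : IsPGroup p ↥(Subgroup.zpowers (φ ⟨g, hnorm hg⟩)) := by
        have := ((hG.to_subgroup _).to_subgroup (Subgroup.zpowers (⟨g, hnorm hg⟩ : Subgroup.normalizer ((⁅A, B⁆ : Subgroup G) : Set G)))).map φ
        rwa [MonoidHom.map_zpowers] at this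
      have horder : orderOf (φ ⟨g, hnorm hg⟩) ∣ p - 1 := by
        haveI : IsCyclic ↥⁅A, B⁆ := isCyclic_of_prime_card hD
        have := orderOf_dvd_natCard (φ ⟨g, hnorm hg⟩)
        rwa [IsCyclic.card_mulAut, hD, Nat.totient_prime hp] at this
      have h1 : φ ⟨g, hnorm hg⟩ = 1 := by
        rw [← orderOf_eq_one_iff]
        rcases hgp.card_eq_or_dvd with h | h
        · rwa [Nat.card_zpowers] at h
        · rw [Nat.card_zpowers] at h
          have h2 := Nat.le_of_dvd (Nat.sub_pos_of_lt hp.one_lt) (h.trans horder)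
          have := hp.pos
          omega
      have h2 : g * d * g⁻¹ = d := by
        simpa [φ] using congrArg Subtype.val (DFunLike.congr_fun h1 ⟨d, hd⟩)
      exact mul_inv_eq_iff_eq_mul.mp h2
  have key : ∀ a : A, p * Nat.card {b : B // (a : G) * b = b * a} =
      if (a : G) ∈ Subgroup.centralizer (B : Set G) then p * Nat.card B else Nat.card B := by
    intro a
    split_ifs with ha
    · congr 1
      exact Nat.card_congr (Equiv.subtypeUnivEquiv fun b => (ha b b.2).symm)
    · let f : B →* ↥⁅A, B⁆ := MonoidHom.mk'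
        (fun b => ⟨⁅(a : G), (b : G)⁆, Subgroup.commutator_mem_commutator a.2 b.2⟩) (by
          intro b c
          apply Subtype.ext
          show ⁅(a : G), (b : G) * c⁆ = ⁅(a : G), (b : G)⁆ * ⁅(a : G), (c : G)⁆
          have hc := hcent _ (Subgroup.commutator_mem_commutator a.2 c.2) b (Subgroup.mem_sup_right b.2)
          calc ⁅(a : G), (b : G) * c⁆ = ⁅(a : G), (b : G)⁆ * ((b : G) * ⁅(a : G), (c : G)⁆ * (b : G)⁻¹) := by
                simp [commutatorElement_def, mul_assoc]
            _ = ⁅(a : G), (b : G)⁆ * ⁅(a : G), (c : G)⁆ := by rw [hc, mul_inv_cancel_right])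
      have hker : Nat.card {b : B // (a : G) * b = b * a} = Nat.card f.ker := by
        refine Nat.card_congr (Equiv.subtypeEquivRight fun b => ?_)
        rw [MonoidHom.mem_ker, Subtype.ext_iff]
        exact commutatorElement_eq_one_iff_mul_comm.symm
      have hne : f.range ≠ ⊥ := by
        intro h
        refine ha fun b hb => ?_
        have : f ⟨b, hb⟩ = 1 := Subgroup.mem_bot.mp (h ▸ ⟨⟨b, hb⟩, rfl⟩)
        exact (commutatorElement_eq_one_iff_mul_comm.mp (congrArg Subtype.val this)).symm
      have hr : Nat.card f.range = p := by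
        have hle : Nat.card f.range ≤ p := (Subgroup.card_le_card_group _).trans hcard
        rcases ((hG.to_subgroup ⁅A, B⁆).to_subgroup f.range).card_eq_or_dvd with h | h
        · exact absurd (Subgroup.eq_bot_of_card_eq _ h) hne
        · exact le_antisymm hle (Nat.le_of_dvd Nat.card_pos h)
      rw [hker, Subgroup.card_eq_card_quotient_mul_card_subgroup f.ker,
        Nat.card_congr (QuotientGroup.quotientKerEquivRange f).toEquiv, hr]
  haveI := Fintype.ofFinite A
  rw [Nat.card_congr (Equiv.subtypeProdEquivSigmaSubtype fun (a : A) (b : B) => (a : G) * b = b * a),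
    Nat.card_sigma, Finset.mul_sum]
  simp only [key]
  rw [Finset.sum_ite, Finset.sum_const, Finset.sum_const, smul_eq_mul, smul_eq_mul]
  have hc : (Finset.univ.filter fun a : A => (a : G) ∈ Subgroup.centralizer (B : Set G)).card =
      Nat.card ↥(A ⊓ Subgroup.centralizer (B : Set G)) := by
    rw [← Fintype.card_subtype, ← Nat.card_eq_fintype_card]
    exact Nat.card_congr (Equiv.subtypeSubtypeEquivSubtypeInter _ _)
  have hsum := Finset.card_filter_add_card_filter_not (s := (Finset.univ : Finset A))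
    (fun a : A => (a : G) ∈ Subgroup.centralizer (B : Set G))
  rw [Finset.card_univ, ← Nat.card_eq_fintype_card, hc] at hsum
  rw [hc]
  obtain ⟨q, rfl⟩ : ∃ q, p = q + 1 := ⟨p - 1, by have := hp.two_le; omega⟩
  rw [add_tsub_cancel_right]
  nlinarith [hsum]


/-- Let A and B be subgroups of a finite p-group with [A, B] ≤ A ∩ B and [A, B] of order at most p. Then |A : C_A(B)| = |B : C_B(A)|. -/
theorem result {G : Type*} [Group G] [Finite G] {p : ℕ} [Fact p.Prime] (hG : IsPGroup p G) (A B : Subgroup G) (hAB : ⁅A, B⁆ ≤ A ⊓ B) (hcard : Nat.card ↥⁅A, B⁆ ≤ p) : (A ⊓ Subgroup.centralizer (B : Set G)).relIndex A = (B ⊓ Subgroup.centralizer (A : Set G)).relIndex B := by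
  have hp : p.Prime := Fact.out
  have h1 := card_pairs hG A B hAB hcard
  have h2 := card_pairs hG B A (by rwa [Subgroup.commutator_comm, inf_comm]) (by rwa [Subgroup.commutator_comm])
  have hswap : Nat.card {x : A × B // (x.1 : G) * x.2 = x.2 * x.1} =
      Nat.card {x : B × A // (x.1 : G) * x.2 = x.2 * x.1} :=
    Nat.card_congr (Equiv.subtypeEquiv (Equiv.prodComm A B) fun x => eq_comm)
  rw [hswap, ← h2, mul_comm (Nat.card B) (Nat.card A), Nat.add_right_cancel_iff] at h1
  have h3 := Nat.eq_of_mul_eq_mul_right (by have := hp.two_le; omega) h1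
  have hA := Subgroup.relIndex_mul_relIndex (⊥ : Subgroup G) (A ⊓ Subgroup.centralizer (B : Set G)) A bot_le inf_le_left
  have hB := Subgroup.relIndex_mul_relIndex (⊥ : Subgroup G) (B ⊓ Subgroup.centralizer (A : Set G)) B bot_le inf_le_left
  simp only [Subgroup.relIndex_bot_left] at hA hB
  rw [← hA, ← hB] at h3
  refine Nat.eq_of_mul_eq_mul_left (Nat.mul_pos (Nat.card_pos (α := ↥(A ⊓ Subgroup.centralizer (B : Set G))))
    (Nat.card_pos (α := ↥(B ⊓ Subgroup.centralizer (A : Set G))))) ?_
  calc _ = Nat.card ↥(B ⊓ Subgroup.centralizer (A : Set G)) *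
        (Nat.card ↥(A ⊓ Subgroup.centralizer (B : Set G)) * (A ⊓ Subgroup.centralizer (B : Set G)).relIndex A) := by ring
    _ = Nat.card ↥(A ⊓ Subgroup.centralizer (B : Set G)) *
        (Nat.card ↥(B ⊓ Subgroup.centralizer (A : Set G)) * (B ⊓ Subgroup.centralizer (A : Set G)).relIndex B) := h3.symm
    _ = _ := by ring

end Cfsg.Agent.S3741
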