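import Cfsg.Statements.S3746
import Cfsg.Agent.Lib.Components.Basic

set_option autoImplicit false
open Cfsg

namespace Cfsg.Agent.S3746

/-- Let Z ≤ Z(G) be a central subgroup of a finite group G and E a subgroup of G containing Z whose image E/Z is a component of G/Z (subnormal and quasisimple). Then the derived subgroup [E, E] is a component of G. -/
theorem result {G : Type*} [Group G] [Finite G] (Z : Subgroup G) (hZ : Z ≤ Subgroup.center G) [Z.Normal] (E : Subgroup G) (hZE : Z ≤ E) (hE : Cfsg.IsComponent (E.map (QuotientGroup.mk' Z))) : Cfsg.IsComponent ⁅E, E⁆ := by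
  have hE2 : E = (E.map (QuotientGroup.mk' Z)).comap (QuotientGroup.mk' Z) := by
    rw [Subgroup.comap_map_eq, QuotientGroup.ker_mk', sup_eq_left.mpr hZE]
  have hEsn : E.IsSubnormal := hE2 ▸ hE.1.comap _
  have hperf : ⁅E.map (QuotientGroup.mk' Z), E.map (QuotientGroup.mk' Z)⁆ = E.map (QuotientGroup.mk' Z) :=
    CfsgLib.Components.component_commutator_self hE
  set D : Subgroup G := ⁅E, E⁆ with hD
  have hDE : D ≤ E := Subgroup.commutator_le_self E
  have hEDZ : E = D ⊔ Z := by
    conv_lhs => rw [hE2, ← hperf, ← Subgroup.map_commutator, Subgroup.comap_map_eq, QuotientGroup.ker_mk']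
  have hED : E ≤ Subgroup.normalizer (D : Set G) := by
    rw [hEDZ]
    exact sup_le Subgroup.le_normalizer ((hZ.trans (Subgroup.center_le_centralizer _)).trans
      (Subgroup.centralizer_le_normalizer _))
  have key : ∀ N : Subgroup G, E = N ⊔ Z → D ≤ N := by
    intro N hN
    rw [hD, Subgroup.commutator_le]
    intro a ha b hb
    haveI : Z.Normal := inferInstance
    rw [hN, ← SetLike.mem_coe, Subgroup.mul_normal] at ha hb
    obtain ⟨a1, ha1, z, hz, rfl⟩ := ha
    obtain ⟨b1, hb1, w, hw, rfl⟩ := hb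
    have hzc := Subgroup.mem_center_iff.mp (hZ hz)
    have hwc := Subgroup.mem_center_iff.mp (hZ hw)
    have : a1 * z * (b1 * w) * (a1 * z)⁻¹ * (b1 * w)⁻¹ = a1 * b1 * a1⁻¹ * b1⁻¹ := by
      rw [mul_inv_rev, mul_inv_rev]
      calc a1 * z * (b1 * w) * (z⁻¹ * a1⁻¹) * (w⁻¹ * b1⁻¹)
          = a1 * ((z * (b1 * w)) * z⁻¹) * a1⁻¹ * (w⁻¹ * b1⁻¹) := by group
        _ = a1 * (b1 * w) * a1⁻¹ * (w⁻¹ * b1⁻¹) := by rw [← hzc (b1 * w)]; group
        _ = a1 * b1 * ((w * a1⁻¹) * w⁻¹) * b1⁻¹ := by group
        _ = a1 * b1 * a1⁻¹ * b1⁻¹ := by rw [← hwc a1⁻¹]; group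
    show a1 * z * (b1 * w) * (a1 * z)⁻¹ * (b1 * w)⁻¹ ∈ N
    rw [this]
    exact mul_mem (mul_mem (mul_mem ha1 hb1) (inv_mem ha1)) (inv_mem hb1)
  have hDperf : ⁅D, D⁆ = D := by
    refine le_antisymm (Subgroup.commutator_le_self D) (key _ (le_antisymm ?_ (sup_le ?_ hZE)))
    · conv_lhs => rw [hE2, ← hperf, ← hperf, ← Subgroup.map_commutator, ← Subgroup.map_commutator,
        Subgroup.comap_map_eq, QuotientGroup.ker_mk']
    · exact (Subgroup.commutator_le_self D).trans hDE
  have hDne : D ≠ ⊥ := by
    intro h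
    refine CfsgLib.Components.component_ne_bot hE ?_
    rw [← hperf, ← Subgroup.map_commutator, ← hD, h, Subgroup.map_bot]
  haveI : Nontrivial D := D.nontrivial_iff_ne_bot.mpr hDne
  refine ⟨?_, ?_⟩
  · exact Subgroup.IsSubnormal.step D E hDE hEsn ((Subgroup.normal_subgroupOf_iff_le_normalizer hDE).mpr hED)
  · have hperf' : _root_.commutator D = ⊤ := by
      apply Subgroup.map_injective D.subtype_injective
      rw [Subgroup.map_subtype_commutator, hDperf, ← MonoidHom.range_eq_map, Subgroup.range_subtype]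
    refine CfsgLib.Components.isQuasisimple_of_normal hperf' fun M hM hne => ?_
    set N := M.map D.subtype with hN
    have hND : N ≤ D := Subgroup.map_subtype_le M
    have hEN : E ≤ Subgroup.normalizer (N : Set G) := by
      rw [hEDZ]
      refine sup_le ?_ ((hZ.trans (Subgroup.center_le_centralizer _)).trans (Subgroup.centralizer_le_normalizer _))
      rw [← Subgroup.normal_subgroupOf_iff_le_normalizer hND]
      rwa [hN, ← Subgroup.comap_subtype, Subgroup.comap_map_eq_self_of_injective D.subtype_injective]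
    set Eb := E.map (QuotientGroup.mk' Z) with hEb
    have hNb : ((N.map (QuotientGroup.mk' Z)).subgroupOf Eb).Normal := by
      rw [Subgroup.normal_subgroupOf_iff_le_normalizer (Subgroup.map_mono (hND.trans hDE))]
      exact (Subgroup.map_mono hEN).trans (Subgroup.le_normalizer_map _)
    rcases CfsgLib.Components.quasisimple_normal_eq_top_or_le_center hE.2 _ (hN := hNb) with h | h
    · refine absurd ?_ hne
      rw [Subgroup.subgroupOf_eq_top] at h
      have h' := Subgroup.comap_mono (f := QuotientGroup.mk' Z) h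
      rw [← hE2, Subgroup.comap_map_eq, QuotientGroup.ker_mk'] at h'
      have hle := key N (le_antisymm h' (sup_le (hND.trans hDE) hZE))
      apply Subgroup.map_injective D.subtype_injective
      rw [← hN, le_antisymm hND hle, ← MonoidHom.range_eq_map, Subgroup.range_subtype]
    · have hNE : ⁅N, E⁆ ≤ Z := by
        rw [← QuotientGroup.ker_mk' Z, ← Subgroup.map_eq_bot_iff, Subgroup.map_commutator,
          Subgroup.commutator_eq_bot_iff_le_centralizer]
        intro x hx y hy
        have hxc := h (show (⟨x, Subgroup.map_mono (hND.trans hDE) hx⟩ : Eb) ∈ (N.map (QuotientGroup.mk' Z)).subgroupOf Eb from hx)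
        exact congrArg Subtype.val (Subgroup.mem_center_iff.mp hxc ⟨y, hy⟩)
      have h1 : ⁅⁅N, D⁆, D⁆ = ⊥ := by
        rw [Subgroup.commutator_eq_bot_iff_le_centralizer]
        exact ((Subgroup.commutator_mono le_rfl hDE).trans hNE).trans (hZ.trans (Subgroup.center_le_centralizer _))
      have h2 : ⁅⁅D, D⁆, N⁆ = ⊥ :=
        Subgroup.commutator_commutator_eq_bot_of_rotate (H₁ := D) (H₂ := D) (H₃ := N)
          (by rwa [Subgroup.commutator_comm D N]) h1
      rw [hDperf, Subgroup.commutator_eq_bot_iff_le_centralizer] at h2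
      intro x hx
      rw [Subgroup.mem_center_iff]
      intro y
      exact Subtype.ext (h2 y.2 (x : G) (Subgroup.mem_map_of_mem _ hx)).symm

end Cfsg.Agent.S3746
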