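import Cfsg.Statements.S3747
import Cfsg.Agent.Lib.Structure.MinimalNormal
import Cfsg.Agent.Lib.Structure.Radicals
import Cfsg.Agent.Lib.Components.Basic

set_option autoImplicit false
open Cfsg

namespace Cfsg.Agent.S3747

open CfsgLib.Components CfsgLib.Structure Subgroup

theorem minNormal_normalClosure {G : Type*} [Group G] [Finite G] {K : Subgroup G}
    (hK : Cfsg.IsComponent K) (hZ : center ↥K = ⊥) : IsMinNormal (normalClosure (K : Set G)) := by
  classical
  haveI : Fintype G := Fintype.ofFinite G
  refine ⟨fun h => component_ne_bot hK (le_bot_iff.mp (le_normalClosure.trans h.le)), inferInstance,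
    fun N hN hNL => ?_⟩
  rcases le_or_commutator_eq_bot hK hN.isSubnormal with hle | hc
  · exact Or.inr (le_antisymm hNL (normalClosure_le_normal hle))
  left
  set s : Finset (Subgroup G) := Finset.univ.image fun g : G => K.map (MulAut.conj g).toMonoidHom with hs
  have hcomp : ∀ A ∈ s, Cfsg.IsComponent A := by
    intro A hA
    obtain ⟨g, -, rfl⟩ := Finset.mem_image.mp hA
    exact isComponent_conj g hK
  have hL : normalClosure (K : Set G) ≤ s.sup id := by
    refine (closure_le _).mpr fun x hx => ?_
    obtain ⟨k, hk, hkx⟩ := Group.mem_conjugatesOfSet_iff.mp hx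
    obtain ⟨g, rfl⟩ := isConj_iff.mp hkx
    have hle : K.map (MulAut.conj g).toMonoidHom ≤ s.sup id :=
      Finset.le_sup (f := id) (b := K.map (MulAut.conj g).toMonoidHom) (Finset.mem_image_of_mem _ (Finset.mem_univ g))
    exact hle (mem_map_of_mem _ hk)
  have hNc : ∀ A ∈ s, N ≤ centralizer (A : Set G) := by
    intro A hA
    obtain ⟨g, -, rfl⟩ := Finset.mem_image.mp hA
    refine le_centralizer_of_commutator_eq_bot ?_
    have hmap : N.map (MulAut.conj g).toMonoidHom = N :=
      mem_normalizer_iff_map_conj_eq.mp (normalizer_eq_top (H := N) ▸ mem_top g)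
    conv_lhs => rw [← hmap]
    rw [← map_commutator, commutator_comm, hc, Subgroup.map_bot]
  rw [eq_bot_iff]
  intro z hz
  have hmem := mem_sup_center_of_pairwise_commute s
    (fun A hA B hB hne => commutator_components_eq_bot (hcomp A hA) (hcomp B hB) hne) z (hL (hNL hz))
    (fun A hA => hNc A hA hz)
  have hz' : (s.sup fun A => A ⊓ centralizer (A : Set G)) ≤ ⊥ := by
    refine Finset.sup_le fun A hA => ?_
    obtain ⟨g, -, rfl⟩ := Finset.mem_image.mp hA
    rw [← map_center_subtype]
    intro x hx
    obtain ⟨y, hy, rfl⟩ := hx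
    let e : ↥K ≃* ↥(K.map (MulAut.conj g).toMonoidHom) :=
      K.equivMapOfInjective _ (MulAut.conj g).injective
    have hy' : e.symm y ∈ center ↥K :=
      map_center_le_center_of_surjective e.symm.toMonoidHom e.symm.surjective ⟨y, hy, rfl⟩
    rw [hZ, mem_bot, map_eq_one_iff _ e.symm.injective] at hy'
    subst hy'
    exact mem_bot.mpr (map_one _)
  exact hz' hmem


/-- Let G be a finite group. (a) If K is a component of G with trivial centre, then the normal closure of K in G is a minimal normal subgroup of G. (b) If the Fitting subgroup of G is trivial, then the layer E(G) is generated by the minimal normal subgroups of G. -/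
theorem result {G : Type*} [Group G] [Finite G] : (∀ K : Subgroup G, Cfsg.IsComponent K → Subgroup.center ↥K = ⊥ → (Subgroup.normalClosure (K : Set G) ≠ ⊥ ∧ ∀ N : Subgroup G, N.Normal → N ≤ Subgroup.normalClosure (K : Set G) → N = ⊥ ∨ N = Subgroup.normalClosure (K : Set G))) ∧ (Cfsg.fittingSubgroup G = ⊥ → sSup {N : Subgroup G | N ≠ ⊥ ∧ N.Normal ∧ ∀ N' : Subgroup G, N'.Normal → N' ≤ N → N' = ⊥ ∨ N' = N} = Cfsg.layer G) := by
  refine ⟨fun K hK hZ => ⟨(minNormal_normalClosure hK hZ).1, (minNormal_normalClosure hK hZ).2.2⟩, fun hF => ?_⟩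
  apply le_antisymm
  · refine sSup_le fun N hN => ?_
    have hmin : CfsgLib.Structure.IsMinNormal N := hN
    haveI := hmin.normal
    have hna : ¬ IsMulCommutative N := by
      intro hab
      let _ : CommGroup N := { (inferInstance : Group N) with
        mul_comm := fun a b => Std.Commutative.comm (op := ((· * ·) : N → N → N)) a b }
      exact hmin.ne_bot (le_bot_iff.mp ((le_sSup ⟨hmin.normal, inferInstance⟩ : N ≤ Cfsg.fittingSubgroup G).trans hF.le))
    rw [← N.range_subtype, MonoidHom.range_eq_map, ← hmin.socle_eq_top, Subgroup.map_le_iff_le_comap]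
    refine sSup_le fun S hS => ?_
    have hsimple := hmin.isSimpleGroup_minNormal hS
    have hSna : ¬ IsMulCommutative S := hmin.not_isMulCommutative_minNormal hna hS
    haveI : Nontrivial S := hsimple.toNontrivial
    have hperf : _root_.commutator S = ⊤ := by
      rcases (inferInstance : (_root_.commutator S).Normal).eq_bot_or_eq_top with h | h
      · refine absurd ?_ hSna
        rw [_root_.commutator_def, Subgroup.commutator_self_eq_bot_iff] at h
        exact ⟨⟨fun a b => congrArg Subtype.val
          (Std.Commutative.comm (op := ((· * ·) : (⊤ : Subgroup S) → (⊤ : Subgroup S) → (⊤ : Subgroup S))) ⟨a, trivial⟩ ⟨b, trivial⟩)⟩⟩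
      · exact h
    have hq : Cfsg.IsQuasisimple S :=
      CfsgLib.Components.isQuasisimple_of_normal hperf fun M hM hne =>
        (hM.eq_bot_or_eq_top.resolve_right hne).le.trans bot_le
    exact Subgroup.map_le_iff_le_comap.mp (CfsgLib.Components.component_le_layer
      (CfsgLib.Components.isComponent_map_subtype hmin.normal.isSubnormal ⟨hS.normal.isSubnormal, hq⟩))
  · refine sSup_le fun K hK => ?_
    have hZ : Subgroup.center ↥K = ⊥ := by
      have h1 : ((Subgroup.center ↥K).map K.subtype).IsSubnormal :=
        (Subgroup.Normal.isSubnormal inferInstance).trans' hK.1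
      have hnil : Group.IsNilpotent ↥((Subgroup.center ↥K).map K.subtype) :=
        (Group.isNilpotent_congr ((Subgroup.center ↥K).equivMapOfInjective _ K.subtype_injective)).mp (by
          let _ : CommGroup ↥(Subgroup.center ↥K) := { (inferInstance : Group ↥(Subgroup.center ↥K)) with
            mul_comm := fun a b => Subtype.ext ((Subgroup.mem_center_iff.mp b.2 a.1)) }
          infer_instance)
      have := (CfsgLib.Structure.le_fittingSubgroup_of_isSubnormal h1 hnil).trans hF.le
      exact (Subgroup.map_eq_bot_iff_of_injective _ K.subtype_injective).mp (le_bot_iff.mp this)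
    exact Subgroup.le_normalClosure.trans (le_sSup (minNormal_normalClosure hK hZ))

end Cfsg.Agent.S3747
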