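import Cfsg.Statements.S3748
import Cfsg.Agent.Lib.Structure.MinimalNormal
import Cfsg.Agent.Lib.Structure.NilpotentSubnormal

set_option autoImplicit false
open Cfsg

namespace Cfsg.Agent.S3748

open Subgroup CfsgLib.Structure

theorem subnormal_le_eq_bot {G : Type*} [Group G] [Finite G] (M : Subgroup G) (hM : M ≠ ⊤)
    (hprim : ∀ N : Subgroup G, N ≤ M → M ≤ normalizer (N : Set G) → N ≠ ⊥ → normalizer (N : Set G) = M)
    {L : Subgroup G} (hL : L.IsSubnormal) (hLM : L ≤ M) : L = ⊥ := by
  by_contra hne
  set S := {K : Subgroup G | K ≤ M ∧ K.IsSubnormal} with hS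
  set K := sSup S with hK
  have hKM : K ≤ M := sSup_le fun _ h => h.1
  have hKsn : K.IsSubnormal := by
    have key : ∀ T : Set (Subgroup G), T.Finite → T ⊆ S → (sSup T).IsSubnormal := by
      intro T hT
      refine Set.Finite.induction_on T hT (fun _ => by simp) ?_
      intro A T _ _ ih hsub
      rw [sSup_insert]
      exact isSubnormal_sup (hsub (Set.mem_insert _ _)).2 (ih ((Set.subset_insert _ _).trans hsub))
    exact key S (Set.toFinite _) le_rfl
  have hKne : K ≠ ⊥ := fun h => hne (le_bot_iff.mp ((le_sSup (show L ∈ S from ⟨hLM, hL⟩)).trans h.le))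
  have hMK : M ≤ normalizer (K : Set G) := by
    refine le_normalizer_sSup fun g hg A hA => ⟨?_, hA.2.map (MulAut.conj g).surjective⟩
    rw [← mem_normalizer_iff_map_conj_eq.mp (le_normalizer hg)]
    exact map_mono hA.1
  have hN := hprim K hKM hMK hKne
  rcases IsSubnormal.iff_eq_top_or_exists.mp hKsn with h | ⟨K', hlt, hK', hn⟩
  · exact hM (top_le_iff.mp (h ▸ hKM))
  · have hle : K' ≤ normalizer (K : Set G) := (normal_subgroupOf_iff_le_normalizer hlt.le).mp hn
    rw [hN] at hle
    exact hlt.not_ge (le_sSup (show K' ∈ S from ⟨hle, hK'⟩))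


/-- Call a proper subgroup M of G primitive when M = N_G(N) for every non-trivial normal subgroup N of M. If M is a primitive subgroup of the finite group G, then no non-trivial subnormal subgroup of G is contained in M; in particular M ∩ F(G) = 1. -/
theorem result {G : Type*} [Group G] [Finite G] (M : Subgroup G) (hM : M ≠ ⊤) (hprim : ∀ N : Subgroup G, N ≤ M → M ≤ Subgroup.normalizer (N : Set G) → N ≠ ⊥ → Subgroup.normalizer (N : Set G) = M) : (∀ L : Subgroup G, L.IsSubnormal → L ≤ M → L = ⊥) ∧ M ⊓ Cfsg.fittingSubgroup G = ⊥ := by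
  exact ⟨fun L hL hLM => subnormal_le_eq_bot M hM hprim hL hLM, subnormal_le_eq_bot M hM hprim
    (CfsgLib.Structure.isSubnormal_of_le_fittingSubgroup inf_le_right) inf_le_left⟩

end Cfsg.Agent.S3748
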