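import Cfsg.Statements.S3749
import Cfsg.Agent.Lib.Coprime.Action
import Cfsg.Agent.Lib.PCore.Basic

set_option autoImplicit false
open Cfsg

namespace Cfsg.Agent.S3749

open Subgroup CfsgLib.Coprime
open scoped Pointwise


/-- Call a proper subgroup M of G primitive when M = N_G(N) for every non-trivial normal subgroup N of M. Let M be a primitive subgroup of the finite group G, p a prime with O_p(M) ≠ 1, and N a normal subgroup of G with M ∩ N = 1. Then p does not divide the order of N; for every prime q there is exactly one Sylow q-subgroup of N normalized by M; and if the order of N has at least two prime divisors then M is not a maximal subgroup of G. -/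
theorem result {G : Type*} [Group G] [Finite G] (M : Subgroup G) (hM : M ≠ ⊤) (hprim : ∀ N : Subgroup G, N ≤ M → M ≤ Subgroup.normalizer (N : Set G) → N ≠ ⊥ → Subgroup.normalizer (N : Set G) = M) {p : ℕ} [Fact p.Prime] (hOp : Cfsg.pCore p ↥M ≠ ⊥) (N : Subgroup G) [N.Normal] (hMN : M ⊓ N = ⊥) : ¬ p ∣ Nat.card N ∧ (∀ q : ℕ, [Fact q.Prime] → ∃! Q : Sylow q ↥N, M ≤ Subgroup.normalizer ((Q : Subgroup ↥N).map N.subtype : Set G)) ∧ ((∃ q r : ℕ, q.Prime ∧ r.Prime ∧ q ≠ r ∧ q ∣ Nat.card N ∧ r ∣ Nat.card N) → ¬ IsCoatom M) := by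
  classical
  set P := (pCore p ↥M).map M.subtype with hP
  have hPM : P ≤ M := Subgroup.map_subtype_le _
  have hMP : M ≤ Subgroup.normalizer (P : Set G) := by
    refine le_trans (le_of_eq ?_) (Subgroup.le_normalizer_map M.subtype)
    rw [Subgroup.normalizer_eq_top, ← MonoidHom.range_eq_map, Subgroup.range_subtype]
  have hPne : P ≠ ⊥ := fun h => hOp ((Subgroup.map_eq_bot_iff_of_injective _ M.subtype_injective).mp h)
  have hNP := hprim P hPM hMP hPne
  have hPp : IsPGroup p P := (CfsgLib.PCore.pCore_isPGroup).map _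
  have hCN : N ⊓ Subgroup.centralizer (P : Set G) = ⊥ := by
    rw [eq_bot_iff]
    rintro x ⟨hxN, hxC⟩
    refine hMN.le ⟨?_, hxN⟩
    show x ∈ M
    rw [← hNP, Subgroup.mem_normalizer_iff]
    intro y
    have key : ∀ z ∈ P, x * z * x⁻¹ = z := fun z hz => by
      rw [← Subgroup.mem_centralizer_iff.mp hxC z hz, mul_inv_cancel_right]
    refine ⟨fun hy => by rw [key y hy]; exact hy, fun hy => ?_⟩
    have := key _ hy
    rw [mul_right_cancel_iff, mul_left_cancel_iff] at this
    rwa [this] at hy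
  letI : MulAction P N := MulAction.compHom N (MulAut.conjNormal.comp P.subtype : P →* MulAut N)
  have hfp : MulAction.fixedPoints P N = {1} := by
    ext x
    rw [MulAction.mem_fixedPoints, Set.mem_singleton_iff]
    refine ⟨fun h => Subtype.ext (mem_bot.mp (hCN.le ⟨x.2, Subgroup.mem_centralizer_iff.mpr fun y hy => ?_⟩)), ?_⟩
    · have h1 : y * (x : G) * y⁻¹ = x := congrArg Subtype.val (h ⟨y, hy⟩)
      exact mul_inv_eq_iff_eq_mul.mp h1
    · rintro rfl g
      exact map_one (MulAut.conjNormal (g : G))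
  have hmod := hPp.card_modEq_card_fixedPoints (α := N)
  rw [hfp, show Nat.card ↥({1} : Set N) = 1 by simp] at hmod
  have hp : p.Prime := Fact.out
  have hndvd : ¬ p ∣ Nat.card N := fun h => by
    have h1 : (Nat.card N) % p = 1 % p := hmod
    rw [Nat.mod_eq_zero_of_dvd h, Nat.one_mod_eq_one.mpr hp.one_lt.ne'] at h1
    omega
  haveI : Group.IsSolvable P := by
    haveI := hPp.isNilpotent
    infer_instance
  have hcop : (Nat.card P).Coprime (Nat.card N) := by
    obtain ⟨k, hk⟩ := hPp.exists_card_eq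
    rw [hk]
    exact Nat.Coprime.pow_left _ (hp.coprime_iff_not_dvd.mpr hndvd)
  have hPN : P ≤ Subgroup.normalizer (N : Set G) := le_normalizer_of_normal
  have huniq : ∀ (q : ℕ) [Fact q.Prime], ∃! Q : Sylow q ↥N,
      M ≤ Subgroup.normalizer ((Q : Subgroup ↥N).map N.subtype : Set G) := by
    intro q _
    obtain ⟨Q, hQ⟩ := exists_invariant_sylow P N hPN hcop (Or.inl inferInstance) q
    have hu : ∀ Q' : Sylow q ↥N, P ≤ Subgroup.normalizer ((Q' : Subgroup ↥N).map N.subtype : Set G) → Q' = Q := by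
      intro Q' hQ'
      obtain ⟨c, hc, hcQ⟩ := invariant_sylow_conj P N hPN hcop (Or.inl inferInstance) q Q Q' hQ hQ'
      have h1 : c = 1 := Subtype.ext (mem_bot.mp (hCN.le ⟨c.2, hc⟩))
      rw [← hcQ, h1, one_smul]
    refine ⟨Q, fun m hm => ?_, fun Q' hQ' => hu Q' (hPM.trans hQ')⟩
    set Q₀ := (Q : Subgroup ↥N).map N.subtype with hQ₀
    obtain ⟨k, hk⟩ := exists_conj_sylow Q (le_normalizer_of_normal (H := N) (K := ⊤) (mem_top m))
    have hk' : (((k • Q : Sylow q ↥N) : Subgroup ↥N).map N.subtype) = MulAut.conj m • Q₀ := by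
      rw [hk]
      ext x
      rw [mem_map_subtype_smul, mem_conj_smul]
    have hPk : P ≤ Subgroup.normalizer (((k • Q : Sylow q ↥N) : Subgroup ↥N).map N.subtype : Set G) := by
      rw [hk']
      intro y hy
      rw [Subgroup.mem_normalizer_iff]
      intro x
      rw [mem_conj_smul, mem_conj_smul]
      have h1 : m⁻¹ * y * m ∈ P := by
        have := (Subgroup.mem_normalizer_iff.mp (hMP hm) (m⁻¹ * y * m)).mpr (by
          rw [show m * (m⁻¹ * y * m) * m⁻¹ = y by group]; exact hy)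
        exact this
      rw [Subgroup.mem_normalizer_iff.mp (hQ h1) (m⁻¹ * x * m)]
      rw [show m⁻¹ * y * m * (m⁻¹ * x * m) * (m⁻¹ * y * m)⁻¹ = m⁻¹ * (y * x * y⁻¹) * m by group]
    rw [hu _ hPk] at hk'
    rw [Subgroup.mem_normalizer_iff]
    intro x
    refine ⟨fun hx => ?_, fun hx => ?_⟩
    · rw [hQ₀, hk', mem_conj_smul, show m⁻¹ * (m * x * m⁻¹) * m = x by group]
      exact hx
    · rw [hQ₀, hk', mem_conj_smul, show m⁻¹ * (m * x * m⁻¹) * m = x by group] at hx
      exact hx
  refine ⟨hndvd, fun q _ => huniq q, ?_⟩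
  rintro ⟨q, r, hq, hr, hqr, hqN, hrN⟩ hcoat
  haveI : Fact q.Prime := ⟨hq⟩
  obtain ⟨Q, hQ, -⟩ := huniq q
  set Q₀ := (Q : Subgroup ↥N).map N.subtype with hQ₀
  have hQN : Q₀ ≤ N := Subgroup.map_subtype_le _
  have hcard : Nat.card Q₀ = Nat.card (Q : Subgroup ↥N) := Subgroup.card_map_of_injective N.subtype_injective
  have hQcard := Q.card_eq_multiplicity
  have hlt : M < M ⊔ Q₀ := by
    refine lt_of_le_of_ne le_sup_left fun h => ?_
    have h1 : Q₀ = ⊥ := le_bot_iff.mp (hMN ▸ le_inf (h.symm ▸ le_sup_right) hQN)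
    rw [h1, Subgroup.card_bot, hQcard] at hcard
    have := Nat.one_lt_pow ((hq.factorization_pos_of_dvd Nat.card_pos.ne' hqN).ne') hq.one_lt
    omega
  have htop := hcoat.2 _ hlt
  have hdisj : M ⊓ Q₀ = ⊥ := le_bot_iff.mp (hMN ▸ inf_le_inf_left M hQN)
  have h1 := card_sup_of_disjoint (H := M) (N := Q₀) hQ (by rwa [inf_comm])
  rw [htop, Subgroup.card_top] at h1
  have h2 : Nat.card M * Nat.card N ≤ Nat.card G := by
    rw [← card_sup_of_disjoint (H := M) (N := N) le_normalizer_of_normal (by rwa [inf_comm])]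
    exact Subgroup.card_le_card_group _
  rw [h1] at h2
  have h3 : Nat.card N ≤ Nat.card Q₀ := Nat.le_of_mul_le_mul_left h2 Nat.card_pos
  have h4 : Nat.card Q₀ = Nat.card N := le_antisymm (Nat.le_of_dvd Nat.card_pos (Subgroup.card_dvd_of_le hQN)) h3
  rw [hcard, hQcard] at h4
  exact hqr ((Nat.prime_dvd_prime_iff_eq hr hq).mp (hr.dvd_of_dvd_pow (h4.symm ▸ hrN))).symm

end Cfsg.Agent.S3749
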