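import Cfsg.Statements.S3750
import Cfsg.Agent.Lib.Components.FStarSubnormal

set_option autoImplicit false
open Cfsg

namespace Cfsg.Agent.S3750

open Subgroup CfsgLib.Components CfsgLib.Components39


/-- Call a proper subgroup M of G primitive when M = N_G(N) for every non-trivial normal subgroup N of M. Let M be a primitive subgroup of the finite group G and N a normal subgroup of G with M ∩ F*(N) ≠ 1. Then F(G) = 1 and F*(N) = F*(G) = E(G); in particular every minimal normal subgroup of G is contained in N. -/
theorem result {G : Type*} [Group G] [Finite G] (M : Subgroup G) (hM : M ≠ ⊤) (hprim : ∀ N : Subgroup G, N ≤ M → M ≤ Subgroup.normalizer (N : Set G) → N ≠ ⊥ → Subgroup.normalizer (N : Set G) = M) (N : Subgroup G) [N.Normal] (hMF : M ⊓ (Cfsg.generalizedFittingSubgroup ↥N).map N.subtype ≠ ⊥) : Cfsg.fittingSubgroup G = ⊥ ∧ (Cfsg.generalizedFittingSubgroup ↥N).map N.subtype = Cfsg.generalizedFittingSubgroup G ∧ Cfsg.generalizedFittingSubgroup G = Cfsg.layer G ∧ ∀ K : Subgroup G, K.Normal → K ≠ ⊥ → (∀ K' : Subgroup G, K'.Normal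 → K' ≤ K → K' = ⊥ ∨ K' = K) → K ≤ N := by
  classical
  haveI hFn := CfsgLib.Fitting.fitting_normal (G := G)
  have hA : (Cfsg.generalizedFittingSubgroup ↥N).map N.subtype = Cfsg.generalizedFittingSubgroup G ⊓ N :=
    (generalizedFitting_inf_normal N).symm
  haveI := generalizedFitting_normal (G := G)
  set D := M ⊓ (Cfsg.generalizedFittingSubgroup ↥N).map N.subtype with hD
  have hDN : D ≤ N := inf_le_right.trans (Subgroup.map_subtype_le _)
  have hMD : M ≤ Subgroup.normalizer (D : Set G) := by
    intro m hm
    rw [hD, hA, Subgroup.mem_normalizer_iff]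
    intro x
    have hn : (Cfsg.generalizedFittingSubgroup G ⊓ N).Normal := inferInstance
    refine and_congr ?_ ⟨fun h => hn.conj_mem _ h m, fun h => ?_⟩
    · exact ⟨fun h => M.mul_mem (M.mul_mem hm h) (M.inv_mem hm), fun h => by
        have h2 := M.mul_mem (M.mul_mem (M.inv_mem hm) h) hm
        rwa [show m⁻¹ * (m * x * m⁻¹) * m = x by group] at h2⟩
    · have h2 := hn.conj_mem _ h m⁻¹
      rwa [show m⁻¹ * (m * x * m⁻¹) * m⁻¹⁻¹ = x by group] at h2
  have hND := hprim D inf_le_left hMD hMF
  -- a subgroup centralizing `D` lies in `M`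
  have hcent : ∀ K : Subgroup G, K ≤ Subgroup.centralizer (D : Set G) → K ≤ M := by
    intro K hK x hx
    rw [← hND, Subgroup.mem_normalizer_iff]
    intro y
    have key : ∀ z ∈ D, x * z * x⁻¹ = z := fun z hz => by
      rw [← Subgroup.mem_centralizer_iff.mp (hK hx) z hz, mul_inv_cancel_right]
    refine ⟨fun hy => by rw [key y hy]; exact hy, fun hy => ?_⟩
    have := key _ hy
    rw [mul_right_cancel_iff, mul_left_cancel_iff] at this
    rwa [this] at hy
  have hcore : ∀ K : Subgroup G, K.Normal → K ≤ M → K = ⊥ := by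
    intro K hK hKM
    by_contra hne
    have := hprim K hKM (le_top.trans_eq (Subgroup.normalizer_eq_top (H := K)).symm) hne
    rw [Subgroup.normalizer_eq_top] at this
    exact hM this.symm
  have hDF : D ≤ Cfsg.generalizedFittingSubgroup G := inf_le_right.trans (hA.le.trans inf_le_left)
  have hfit : Cfsg.fittingSubgroup G = ⊥ := by
    set F := Cfsg.fittingSubgroup G with hF
    by_contra hne
    have hZ : F ⊓ Subgroup.centralizer (F : Set G) = ⊥ := by
      refine hcore _ inferInstance (hcent _ ?_)
      refine le_trans ?_ (Subgroup.centralizer_le (SetLike.coe_subset_coe.mpr hDF))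
      rw [Subgroup.le_centralizer_iff]
      refine sup_le ?_ ?_
      · exact layer_le_centralizer_fitting.trans (Subgroup.centralizer_le (SetLike.coe_subset_coe.mpr inf_le_left))
      · exact Subgroup.le_centralizer_iff.mp inf_le_right
    haveI := CfsgLib.Fitting.fitting_isNilpotent (G := G)
    haveI : Nontrivial F := (nontrivial_iff_ne_bot F).mpr hne
    haveI : Nontrivial (Subgroup.center F) := (nontrivial_iff_ne_bot _).mpr (Group.IsNilpotent.center_ne_bot _)
    obtain ⟨⟨z, hz⟩, hz1⟩ := exists_ne (1 : Subgroup.center F)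
    refine hz1 (Subtype.ext (Subtype.ext (mem_bot.mp (hZ.le ⟨z.2, ?_⟩))))
    exact Subgroup.mem_centralizer_iff.mpr fun y hy => congrArg Subtype.val (Subgroup.mem_center_iff.mp hz ⟨y, hy⟩)
  have hlayer : Cfsg.generalizedFittingSubgroup G = Cfsg.layer G := by
    rw [Cfsg.generalizedFittingSubgroup, hfit, sup_bot_eq]
  have hle : Cfsg.generalizedFittingSubgroup G ≤ N := by
    rw [hlayer]
    refine sSup_le fun L hL => ?_
    by_contra hLN
    have hall : ∀ g : G, L.map (MulAut.conj g).toMonoidHom ≤ M := by
      intro g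
      have hgL := isComponent_conj g hL
      refine hcent _ ?_
      have h1 : ¬ L.map (MulAut.conj g).toMonoidHom ≤ N := fun h => hLN fun x hx => by
        have h2 := (inferInstance : N.Normal).conj_mem _ (h (mem_map_of_mem _ hx)) g⁻¹
        simpa [MulAut.conj_apply, mul_assoc] using h2
      refine le_trans ?_ (Subgroup.centralizer_le (SetLike.coe_subset_coe.mpr hDN))
      exact le_centralizer_of_commutator_eq_bot
        ((le_or_commutator_eq_bot hgL (inferInstance : N.Normal).isSubnormal).resolve_left h1)
    have hbot := hcore (Subgroup.normalClosure (L : Set G)) inferInstance (by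
      rw [Subgroup.normalClosure, Subgroup.closure_le]
      intro x hx
      obtain ⟨a, ha, hax⟩ := Group.mem_conjugatesOfSet_iff.mp hx
      obtain ⟨c, hc⟩ := isConj_iff.mp hax
      exact hall c ⟨a, ha, hc⟩)
    exact component_ne_bot hL (le_bot_iff.mp (hbot ▸ Subgroup.subset_normalClosure))
  refine ⟨hfit, by rw [hA, inf_eq_left.mpr hle], hlayer, fun K hK hK1 hKmin => ?_⟩
  haveI := hK
  rcases hKmin (K ⊓ N) inferInstance inf_le_left with h | h
  · exfalso
    refine hK1 (hcore K hK (hcent K (le_trans ?_ (Subgroup.centralizer_le (SetLike.coe_subset_coe.mpr hDN)))))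
    exact le_centralizer_of_commutator_eq_bot (le_bot_iff.mp (h ▸ Subgroup.commutator_le_inf K N))
  · exact h ▸ inf_le_right

end Cfsg.Agent.S3750
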