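import Cfsg.Statements.S3751
import Cfsg.Agent.Lib.PCore.Basic
import Cfsg.Agent.Lib.Solvable.Fitting
import Cfsg.Agent.Lib.Structure.Subnormal
import Cfsg.Agent.Lib.Isolated.LocalCentral

set_option autoImplicit false
open Cfsg

namespace Cfsg.Agent.S3751

open Subgroup CfsgLib.Structure

section Aux
variable {G : Type*} [Group G] [Finite G]

/-- A `p`-local subgroup: the normalizer of a nontrivial `p`-subgroup. -/
def IsLoc (p : ℕ) (M : Subgroup G) : Prop :=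
  ∃ T : Subgroup G, IsPGroup p T ∧ T ≠ ⊥ ∧ M = Subgroup.normalizer (T : Set G)

/-- A maximal `p`-local subgroup. -/
def IsMaxLoc (p : ℕ) (M : Subgroup G) : Prop :=
  IsLoc p M ∧ ∀ L, IsLoc p L → M ≤ L → L = M

theorem exists_maxLoc {p : ℕ} {N : Subgroup G} (h : IsLoc p N) : ∃ M, N ≤ M ∧ IsMaxLoc p M := by
  obtain ⟨M, hNM, hM⟩ := Finite.exists_le_maximal (p := IsLoc (G := G) p) h
  exact ⟨M, hNM, hM.prop, fun L hL hML => le_antisymm (hM.le_of_ge hL hML) hML⟩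

theorem isMaxLoc_conj {p : ℕ} {M : Subgroup G} (h : IsMaxLoc p M) (g : G) :
    IsMaxLoc p (M.map (MulAut.conj g).toMonoidHom) := by
  have hconj : ∀ (x : G) (N : Subgroup G), IsLoc p N → IsLoc p (N.map (MulAut.conj x).toMonoidHom) := by
    rintro x N ⟨T, hT, hT1, rfl⟩
    refine ⟨T.map (MulAut.conj x).toMonoidHom, hT.map _, fun h0 => hT1 ?_, ?_⟩
    · exact (Subgroup.map_eq_bot_iff_of_injective _ (MulAut.conj x).injective).mp h0
    · exact Subgroup.map_equiv_normalizer_eq T (MulAut.conj x)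
  refine ⟨hconj g M h.1, fun L hL hle => ?_⟩
  have e : ∀ (x : G) (N : Subgroup G),
      (N.map (MulAut.conj x⁻¹).toMonoidHom).map (MulAut.conj x).toMonoidHom = N := by
    intro x N
    rw [Subgroup.map_map]
    convert Subgroup.map_id N using 2
    ext y
    simp [mul_assoc]
  have h1 := h.2 _ (hconj g⁻¹ L hL) (fun m hm => ⟨MulAut.conj g m, hle (mem_map_of_mem _ hm), by simp [mul_assoc]⟩)
  rw [← h1, e]

variable {p : ℕ} [Fact p.Prime] (hloc : Cfsg.IsOfLocalCharacteristic p G)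
include hloc

/-- The normalizer of a nontrivial normal subgroup of a maximal local subgroup is that subgroup. -/
theorem normalizer_eq_of_maxLoc {M A : Subgroup G} (hM : IsMaxLoc p M) (hA : A ≠ ⊥) (hAM : A ≤ M)
    (hMA : M ≤ Subgroup.normalizer (A : Set G)) : Subgroup.normalizer (A : Set G) = M := by
  haveI : (Cfsg.pCore p ↥A).Characteristic := CfsgLib.Fitting.pCore_characteristic p
  set B := (Cfsg.pCore p ↥A).map A.subtype with hB
  have hchar : Subgroup.centralizer (Cfsg.pCore p ↥M : Set ↥M) ≤ Cfsg.pCore p ↥M := by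
    obtain ⟨T, hT, hT1, rfl⟩ := hM.1
    exact hloc.2 T hT hT1
  haveI hAn : (A.subgroupOf M).Normal :=
    ⟨fun a ha b => (Subgroup.mem_normalizer_iff.mp (hMA b.2) (a : G)).mp ha⟩
  have hBne : B ≠ ⊥ := by
    intro h0
    have h1 : Cfsg.pCore p ↥A = ⊥ := (Subgroup.map_eq_bot_iff_of_injective _ A.subtype_injective).mp h0
    have h2 : Cfsg.pCore p ↥(A.subgroupOf M) = ⊥ :=
      CfsgLib.PCore.pCore_eq_bot_of_equiv (subgroupOfEquivOfLe hAM).symm h1
    have h3 := CfsgLib.PCore.map_pCore_subtype_of_normal (p := p) (A.subgroupOf M)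
    rw [h2, Subgroup.map_bot] at h3
    have h4 : A.subgroupOf M ≤ Subgroup.centralizer (Cfsg.pCore p ↥M : Set ↥M) := by
      intro a ha
      rw [Subgroup.mem_centralizer_iff]
      intro x hx
      exact (Subgroup.commute_of_normal_of_disjoint _ _ inferInstance hAn
        (disjoint_iff.mpr (by rw [inf_comm]; exact h3.symm)) x a hx ha).eq
    apply hA
    rw [eq_bot_iff]
    intro a ha
    have h5 := h3.ge ⟨(show (⟨a, hAM ha⟩ : M) ∈ A.subgroupOf M from ha), hchar (h4 (show (⟨a, hAM ha⟩ : M) ∈ A.subgroupOf M from ha))⟩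
    exact mem_bot.mpr (congrArg Subtype.val (mem_bot.mp h5))
  have hle : Subgroup.normalizer (A : Set G) ≤ Subgroup.normalizer (B : Set G) :=
    normalizer_le_normalizer_map_subtype A (Cfsg.pCore p ↥A)
  have h := hM.2 _ ⟨B, CfsgLib.PCore.pCore_isPGroup.map _, hBne, rfl⟩ (hMA.trans hle)
  exact le_antisymm (h ▸ hle) hMA

/-- Two maximal locals sharing a subgroup which is a maximal `p`-subgroup of both give a pair. -/
theorem pair_of_common {M L T : Subgroup G} (hM : IsMaxLoc p M) (hL : IsMaxLoc p L) (hne : M ≠ L)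
    (hT : IsPGroup p T) (hTM : T ≤ M) (hTL : T ≤ L)
    (hmaxM : ∀ S : Subgroup G, IsPGroup p S → T ≤ S → S ≤ M → S = T)
    (hmaxL : ∀ S : Subgroup G, IsPGroup p S → T ≤ S → S ≤ L → S = T) :
    ∃ M₁ M₂ : Subgroup G, M₁ ≠ M₂ ∧ (∀ A : Subgroup G, A ≠ ⊥ → A ≤ M₁ ⊓ M₂ → (M₁ ≤ Subgroup.normalizer (A : Set G) → M₂ ⊓ Subgroup.normalizer (A : Set G) = M₁ ⊓ M₂) ∧ (M₂ ≤ Subgroup.normalizer (A : Set G) → M₁ ⊓ Subgroup.normalizer (A : Set G) = M₁ ⊓ M₂)) ∧ Subgroup.centralizer (Cfsg.pCore p ↥M₁ : Set ↥M₁) ≤ Cfsg.pCore p ↥M₁ ∧ Subgroup.centralizer (Cfsg.pCore p ↥M₂ : Set ↥M₂) ≤ Cfsg.pCore p ↥M₂ ∧ (Cfsg.pCore p ↥M₁).map M₁.subtype ⊔ (Cfsg.pCore p ↥M₂).map M₂.subtype ≤ M₁ ⊓ M₂ := by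
  have hchar : ∀ N : Subgroup G, IsMaxLoc p N → Subgroup.centralizer (Cfsg.pCore p ↥N : Set ↥N) ≤ Cfsg.pCore p ↥N := by
    intro N hN
    obtain ⟨U, hU, hU1, rfl⟩ := hN.1
    exact hloc.2 U hU hU1
  have hcore : ∀ N : Subgroup G, T ≤ N → (∀ S : Subgroup G, IsPGroup p S → T ≤ S → S ≤ N → S = T) →
      (Cfsg.pCore p ↥N).map N.subtype ≤ T := by
    intro N hTN hmax
    obtain ⟨P, hP⟩ := (hT.comap_subtype (K := N)).exists_le_sylow
    have h1 : (P : Subgroup N).map N.subtype = T := by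
      refine hmax _ (P.isPGroup'.map _) ?_ (Subgroup.map_subtype_le _)
      rw [← Subgroup.map_subgroupOf_eq_of_le hTN]
      exact Subgroup.map_mono hP
    exact h1 ▸ Subgroup.map_mono (CfsgLib.PCore.pCore_le_sylow P)
  refine ⟨M, L, hne, fun A hA hAML => ⟨fun h => ?_, fun h => ?_⟩, hchar M hM, hchar L hL,
    sup_le ((hcore M hTM hmaxM).trans (le_inf hTM hTL)) ((hcore L hTL hmaxL).trans (le_inf hTM hTL))⟩
  · rw [normalizer_eq_of_maxLoc hloc hM hA (hAML.trans inf_le_left) h, inf_comm]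
  · rw [normalizer_eq_of_maxLoc hloc hL hA (hAML.trans inf_le_right) h]

end Aux


/-- Two distinct subgroups M₁, M₂ of G form a primitive pair when, for {i, j} = {1, 2}, every non-trivial normal subgroup A of M_i contained in M₁ ∩ M₂ satisfies N_{M_j}(A) = M₁ ∩ M₂; the pair has characteristic p when moreover C_{M_i}(O_p(M_i)) ≤ O_p(M_i) for both i and O_p(M₁)O_p(M₂) ≤ M₁ ∩ M₂. Let G be a finite group, p a prime dividing its order, with O_p(G) = 1 and every p-local subgroup of characteristic p. Then either G has a primitive pair of characteristic p, or every maximal p-local subgroup M of G is strongly p-embedded in G: M is a proper subgroup, p divides its order, and for every g ∉ M the order of M ∩ gMg⁻¹ is prime to p. -/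
theorem result {G : Type*} [Group G] [Finite G] {p : ℕ} [Fact p.Prime] (hloc : Cfsg.IsOfLocalCharacteristic p G) (hOp : Cfsg.pCore p G = ⊥) : (∃ M₁ M₂ : Subgroup G, M₁ ≠ M₂ ∧ (∀ A : Subgroup G, A ≠ ⊥ → A ≤ M₁ ⊓ M₂ → (M₁ ≤ Subgroup.normalizer (A : Set G) → M₂ ⊓ Subgroup.normalizer (A : Set G) = M₁ ⊓ M₂) ∧ (M₂ ≤ Subgroup.normalizer (A : Set G) → M₁ ⊓ Subgroup.normalizer (A : Set G) = M₁ ⊓ M₂)) ∧ Subgroup.centralizer (Cfsg.pCore p ↥M₁ : Set ↥M₁) ≤ Cfsg.pCore p ↥M₁ ∧ Subgroup.centralizer (Cfsg.pCore p ↥M₂ : Set ↥M₂) ≤ Cfsg.pCore p ↥M₂ ∧ (Cfsg.pCore p ↥M₁).map M₁.subtype ⊔ (Cfsg.pCore p ↥M₂).map M₂.subtype ≤ M₁ ⊓ M₂) ∨ (∀ M : Subgroup G, (∃ T : Subgroup G, IsPGroup p T ∧ T ≠ ⊥ ∧ M = Subgroup.normalizer (T : Set G)) → (∀ L : Subgroup G, (∃ T : Subgroup G, IsPGroup p T ∧ T ≠ ⊥ ∧ L = Subgroup.normalizer (T : Set G)) → M ≤ L → L = M) → M ≠ ⊤ ∧ p ∣ Nat.card M ∧ ∀ g : G, g ∉ M → ¬ p ∣ Nat.card ↥(M ⊓ M.map (MulAut.conj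 g).toMonoidHom)) := by
  classical
  by_cases hpair : ∃ M₁ M₂ : Subgroup G, M₁ ≠ M₂ ∧ (∀ A : Subgroup G, A ≠ ⊥ → A ≤ M₁ ⊓ M₂ → (M₁ ≤ Subgroup.normalizer (A : Set G) → M₂ ⊓ Subgroup.normalizer (A : Set G) = M₁ ⊓ M₂) ∧ (M₂ ≤ Subgroup.normalizer (A : Set G) → M₁ ⊓ Subgroup.normalizer (A : Set G) = M₁ ⊓ M₂)) ∧ Subgroup.centralizer (Cfsg.pCore p ↥M₁ : Set ↥M₁) ≤ Cfsg.pCore p ↥M₁ ∧ Subgroup.centralizer (Cfsg.pCore p ↥M₂ : Set ↥M₂) ≤ Cfsg.pCore p ↥M₂ ∧ (Cfsg.pCore p ↥M₁).map M₁.subtype ⊔ (Cfsg.pCore p ↥M₂).map M₂.subtype ≤ M₁ ⊓ M₂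
  · exact Or.inl hpair
  refine Or.inr ?_
  intro M hMloc hMmax
  have hM : IsMaxLoc p M := ⟨hMloc, hMmax⟩
  have htop : ∀ N : Subgroup G, IsLoc p N → N ≠ ⊤ := by
    rintro N ⟨T, hT, hT1, rfl⟩ h
    haveI : T.Normal := Subgroup.normalizer_eq_top_iff.mp h
    exact hT1 (le_bot_iff.mp (hOp ▸ CfsgLib.PCore.le_pCore inferInstance hT))
  have hself : ∀ N : Subgroup G, IsMaxLoc p N → ∀ g : G, g ∉ N → N.map (MulAut.conj g).toMonoidHom ≠ N := by
    intro N hN g hg he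
    obtain ⟨T, hT, hT1, hNT⟩ := hN.1
    have hNne : N ≠ ⊥ := fun h => hT1 (le_bot_iff.mp (h ▸ hNT ▸ Subgroup.le_normalizer))
    have h1 := normalizer_eq_of_maxLoc hloc hN hNne le_rfl Subgroup.le_normalizer
    have h2 : g ∈ Subgroup.normalizer (N : Set G) := (Subgroup.mem_normalizer_iff_map_conj_eq).mpr he
    rw [h1] at h2
    exact hg h2
  -- maximal `p`-subgroups of maximal locals are maximal in `G`
  have hsyl : ∀ N : Subgroup G, IsMaxLoc p N → ∀ T : Subgroup G, IsPGroup p T → T ≤ N →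
      (∀ S : Subgroup G, IsPGroup p S → T ≤ S → S ≤ N → S = T) →
      ∀ S : Subgroup G, IsPGroup p S → T ≤ S → S = T := by
    intro N hN T hT hTN hmax S hS hTS
    by_contra hne
    have hlt : T < S := lt_of_le_of_ne hTS (Ne.symm hne)
    obtain ⟨g, hgQ, hgT⟩ := SetLike.exists_of_lt (CfsgLib.Isolated.lt_inf_normalizer hS hlt)
    have hgN : g ∉ N := by
      intro hgN
      have := hmax (S ⊓ N) (hS.to_le inf_le_left) (le_inf hTS hTN) inf_le_right
      exact hgT (this ▸ ⟨hgQ.1, hgN⟩)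
    have hTg : T.map (MulAut.conj g).toMonoidHom = T := (Subgroup.mem_normalizer_iff_map_conj_eq).mp hgQ.2
    refine hpair (pair_of_common hloc hN (isMaxLoc_conj hN g) (Ne.symm (hself N hN g hgN)) hT hTN
      (hTg ▸ Subgroup.map_mono hTN) hmax fun R hR hTR hRN => ?_)
    have hR' : R.map (MulAut.conj g⁻¹).toMonoidHom = T := by
      refine hmax _ (hR.map _) ?_ ?_
      · intro t ht
        refine ⟨MulAut.conj g t, hTR (hTg ▸ mem_map_of_mem _ ht), ?_⟩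
        simp [mul_assoc]
      · rintro _ ⟨r, hr, rfl⟩
        obtain ⟨n, hn, rfl⟩ := hRN hr
        simpa [mul_assoc] using hn
    rw [← hTg, ← hR', Subgroup.map_map]
    convert (Subgroup.map_id R).symm using 2
    ext y
    simp [mul_assoc]
  refine ⟨htop M hMloc, ?_, ?_⟩
  · obtain ⟨T, hT, hT1, hMT⟩ := hMloc
    haveI : Nontrivial T := (nontrivial_iff_ne_bot T).mpr hT1
    exact (hT.card_eq_or_dvd.resolve_left (Finite.one_lt_card (α := T)).ne').trans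
      (Subgroup.card_dvd_of_le (hMT ▸ Subgroup.le_normalizer))
  · intro g hg hdvd
    obtain ⟨⟨x, hx⟩, hxo⟩ := exists_prime_orderOf_dvd_card' p hdvd
    have hxp : IsPGroup p (Subgroup.zpowers x) := IsPGroup.of_card (n := 1) (by
      rw [Nat.card_zpowers, pow_one, ← hxo, Subgroup.orderOf_mk])
    have hx1 : Subgroup.zpowers x ≠ ⊥ := fun h => by
      rw [zpowers_eq_bot] at h
      subst h
      rw [Subgroup.orderOf_mk, orderOf_one] at hxo
      exact (Fact.out : p.Prime).ne_one hxo.symm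
    obtain ⟨T, -, hTmax⟩ := Finite.exists_le_maximal
      (p := fun T : Subgroup G => IsPGroup p T ∧ T ≠ ⊥ ∧ ∃ A B, IsMaxLoc p A ∧ IsMaxLoc p B ∧ A ≠ B ∧ T ≤ A ∧ T ≤ B)
      (a := Subgroup.zpowers x)
      ⟨hxp, hx1, M, _, hM, isMaxLoc_conj hM g, Ne.symm (hself M hM g hg), zpowers_le.mpr hx.1, zpowers_le.mpr hx.2⟩
    obtain ⟨hT, hT1, A, B, hA, hB, hAB, hTA, hTB⟩ := hTmax.prop
    obtain ⟨H, hNH, hH⟩ := exists_maxLoc (p := p) ⟨T, hT, hT1, rfl⟩
    have key : ∀ N C : Subgroup G, IsMaxLoc p N → IsMaxLoc p C → N ≠ C → T ≤ N → T ≤ C → H = N := by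
      intro N C hN hC hNC hTN hTC
      by_cases hS : ∀ S : Subgroup G, IsPGroup p S → T ≤ S → S ≤ N → S = T
      · exfalso
        have hG := hsyl N hN T hT hTN hS
        exact hpair (pair_of_common hloc hN hC hNC hT hTN hTC hS fun S hS' h1 _ => hG S hS' h1)
      · push Not at hS
        obtain ⟨S, hS1, hTS, hSN, hne⟩ := hS
        have hlt := CfsgLib.Isolated.lt_inf_normalizer hS1 (lt_of_le_of_ne hTS (Ne.symm hne))
        by_contra hHN
        exact hlt.not_ge (hTmax.le_of_ge ⟨hS1.to_le inf_le_left,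
          fun h => hT1 (le_bot_iff.mp (h ▸ hlt.le)), H, N, hH, hN, hHN, inf_le_right.trans hNH, inf_le_left.trans hSN⟩ hlt.le)
    exact hAB ((key A B hA hB hAB hTA hTB).symm.trans (key B A hB hA hAB.symm hTB hTA))

end Cfsg.Agent.S3751
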