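import Cfsg.Statements.S3752
import Cfsg.Agent.Lib.Components.FStarSubnormal

set_option autoImplicit false
open Cfsg

namespace Cfsg.Agent.S3752

open Subgroup CfsgLib.Components
open scoped commutatorElement

variable {G : Type*} [Group G] [Finite G]

/-- Subgroups `A ≤ B` with `B` normalizing `A` give normal subgroups. -/
theorem normal_sub {A B : Subgroup G} (h : B ≤ Subgroup.normalizer (A : Set G)) : (A.subgroupOf B).Normal :=
  ⟨fun a ha b => (Subgroup.mem_normalizer_iff.mp (h b.2) (a : G)).mp ha⟩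

theorem le_normalizer_map_of_normal {B : Subgroup G} (A : Subgroup B) [A.Normal] :
    B ≤ Subgroup.normalizer ((A.map B.subtype : Subgroup G) : Set G) := by
  refine le_trans (le_of_eq ?_) (Subgroup.le_normalizer_map B.subtype)
  rw [Subgroup.normalizer_eq_top, ← MonoidHom.range_eq_map, Subgroup.range_subtype]

/-- A component contained in a subgroup is a component of it, seen through the ambient group. -/
theorem component_transfer {A B : Subgroup G} {K : Subgroup A} (hK : Cfsg.IsComponent K)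
    (h : K.map A.subtype ≤ B) (hBA : B ≤ A) : Cfsg.IsComponent ((K.map A.subtype).subgroupOf B) := by
  have hKS : K ≤ B.subgroupOf A := fun k hk => h ⟨k, hk, rfl⟩
  have h1 := isComponent_map_equiv (subgroupOfEquivOfLe hBA) (isComponent_subgroupOf hK hKS)
  convert h1 using 1
  ext b
  constructor
  · rintro ⟨k, hk, hkb⟩
    have hkB : k ∈ B.subgroupOf A := hKS hk
    exact ⟨⟨k, hkB⟩, hk, Subtype.ext hkb⟩
  · rintro ⟨k, hk, rfl⟩
    exact ⟨(k : A), hk, rfl⟩

/-- A `q`-element of the Fitting subgroup lies in the `q`-core. -/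
theorem mem_pCore_of_mem_fitting {H : Type*} [Group H] [Finite H] {q : ℕ} [Fact q.Prime] {x : H}
    (hx : x ∈ Cfsg.fittingSubgroup H) {k : ℕ} (hk : x ^ q ^ k = 1) : x ∈ Cfsg.pCore q H := by
  haveI := CfsgLib.Fitting.fitting_normal (G := H)
  haveI := CfsgLib.Fitting.fitting_isNilpotent (G := H)
  set F := Cfsg.fittingSubgroup H
  let x' : F := ⟨x, hx⟩
  have hp : IsPGroup q (Subgroup.zpowers x') := by
    obtain ⟨j, -, hj⟩ := (Nat.dvd_prime_pow Fact.out).mp
      (orderOf_dvd_of_pow_eq_one (show x' ^ q ^ k = 1 from Subtype.ext hk))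
    exact IsPGroup.of_card (n := j) (by rw [Nat.card_zpowers, hj])
  obtain ⟨P, hP⟩ := hp.exists_le_sylow
  haveI hPn : (P : Subgroup F).Normal := Sylow.normal_of_normalizerCondition Group.normalizerCondition_of_isNilpotent P
  have h1 : (P : Subgroup F) ≤ Cfsg.pCore q F := CfsgLib.PCore.le_pCore hPn P.isPGroup'
  have h2 := CfsgLib.PCore.map_pCore_subtype_of_normal (p := q) F
  have h3 : x ∈ (Cfsg.pCore q F).map F.subtype := ⟨x', h1 (hP (mem_zpowers x')), rfl⟩
  rw [h2] at h3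
  exact h3.2

theorem components_le (M₁ M₂ : Subgroup G) (h₁ : (Cfsg.generalizedFittingSubgroup ↥M₁).map M₁.subtype ≤ M₂)
    (h₂ : (Cfsg.generalizedFittingSubgroup ↥M₂).map M₂.subtype ≤ M₁) :
    (Cfsg.layer ↥M₁).map M₁.subtype ≤ (Cfsg.layer ↥M₂).map M₂.subtype := by
  rw [Subgroup.map_le_iff_le_comap]
  refine sSup_le fun L hL => ?_
  rw [← Subgroup.map_le_iff_le_comap]
  set D := M₁ ⊓ M₂
  have hLD : L.map M₁.subtype ≤ D := le_inf (Subgroup.map_subtype_le L)
    ((Subgroup.map_mono ((component_le_layer hL).trans layer_le_generalizedFitting)).trans h₁)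
  set K := (L.map M₁.subtype).subgroupOf D with hKdef
  have hK : Cfsg.IsComponent K := component_transfer hL hLD inf_le_left
  haveI := generalizedFitting_normal (G := M₂)
  set F₂ := (Cfsg.generalizedFittingSubgroup ↥M₂).map M₂.subtype with hF₂
  have hF₂D : F₂ ≤ D := le_inf h₂ (Subgroup.map_subtype_le _)
  haveI : (F₂.subgroupOf D).Normal := normal_sub (inf_le_right.trans (le_normalizer_map_of_normal _))
  rcases le_or_commutator_eq_bot hK (inferInstance : (F₂.subgroupOf D).Normal).isSubnormal with h | h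
  · have hKF : K.map D.subtype ≤ F₂ := by
      rintro _ ⟨k, hk, rfl⟩
      exact h hk
    have h3 := component_transfer hK hKF hF₂D
    have hKmap : K.map D.subtype = L.map M₁.subtype := Subgroup.map_subgroupOf_eq_of_le hLD
    rw [hKmap] at h3 hKF
    have h4 := isComponent_map_equiv (Subgroup.equivMapOfInjective (Cfsg.generalizedFittingSubgroup ↥M₂) M₂.subtype M₂.subtype_injective).symm h3
    have h5 := component_le_layer (isComponent_map_subtype
      (inferInstance : (Cfsg.generalizedFittingSubgroup ↥M₂).Normal).isSubnormal h4)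
    rintro x hx
    set e := Subgroup.equivMapOfInjective (Cfsg.generalizedFittingSubgroup ↥M₂) M₂.subtype M₂.subtype_injective with he
    refine ⟨(e.symm ⟨x, hKF hx⟩ : M₂), h5 ⟨_, Subgroup.mem_map_of_mem _ hx, rfl⟩, ?_⟩
    exact congrArg Subtype.val (e.apply_symm_apply ⟨x, hKF hx⟩)
  · exfalso
    have hcomm := le_centralizer_of_commutator_eq_bot h
    have hcen : (L.map M₁.subtype).subgroupOf M₂ ≤ Subgroup.centralizer (Cfsg.generalizedFittingSubgroup ↥M₂ : Set ↥M₂) := by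
      intro x hx
      rw [Subgroup.mem_centralizer_iff]
      intro y hy
      have hxD : (x : G) ∈ D := hLD hx
      have := Subgroup.mem_centralizer_iff.mp (hcomm (show (⟨x, hxD⟩ : D) ∈ K from hx))
        ⟨y, hF₂D ⟨y, hy, rfl⟩⟩ (show (⟨(y : G), hF₂D ⟨y, hy, rfl⟩⟩ : D) ∈ F₂.subgroupOf D from ⟨y, hy, rfl⟩)
      exact Subtype.ext (congrArg (fun z : D => (z : G)) this)
    haveI := CfsgLib.Fitting.fitting_isNilpotent (G := M₂)
    have hle := hcen.trans centralizer_generalizedFitting_le_fitting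
    have hsol : Group.IsSolvable ((L.map M₁.subtype).subgroupOf M₂) :=
      Group.isSolvable_of_isSolvable_injective (Subgroup.inclusion_injective hle)
    have hsol' : Group.IsSolvable (L.map M₁.subtype) :=
      Group.isSolvable_of_surjective (f := (subgroupOfEquivOfLe (hLD.trans inf_le_right)).toMonoidHom)
        (subgroupOfEquivOfLe (hLD.trans inf_le_right)).surjective
    exact component_not_isSolvable hL (Group.isSolvable_of_surjective
      (f := (Subgroup.equivMapOfInjective L M₁.subtype M₁.subtype_injective).symm.toMonoidHom)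
      (Subgroup.equivMapOfInjective L M₁.subtype M₁.subtype_injective).symm.surjective)

/-- The `p`-core of `M₁ ∩ M₂` lies in the `p`-core of `M₁` when `M₂` has a second relevant prime. -/
theorem core_le (M₁ M₂ : Subgroup G)
    (hP : ∀ A : Subgroup G, A ≠ ⊥ → A ≤ M₁ ⊓ M₂ → M₂ ≤ Subgroup.normalizer (A : Set G) →
      M₁ ⊓ Subgroup.normalizer (A : Set G) = M₁ ⊓ M₂)
    (h₁ : (Cfsg.fittingSubgroup ↥M₁).map M₁.subtype ≤ M₂)
    (h₂ : (Cfsg.fittingSubgroup ↥M₂).map M₂.subtype ≤ M₁)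
    (hC : Subgroup.centralizer (Cfsg.fittingSubgroup ↥M₁ : Set ↥M₁) ≤ Cfsg.fittingSubgroup ↥M₁)
    {p q : ℕ} [hp : Fact p.Prime] [hq : Fact q.Prime] (hpq : p ≠ q) (hYne : Cfsg.pCore q ↥M₂ ≠ ⊥) :
    (Cfsg.pCore p ↥(M₁ ⊓ M₂)).map (M₁ ⊓ M₂).subtype ≤ (Cfsg.pCore p ↥M₁).map M₁.subtype := by
  classical
  set D := M₁ ⊓ M₂ with hD
  haveI := CfsgLib.Fitting.fitting_normal (G := M₁)
  set F₁ := Cfsg.fittingSubgroup ↥M₁ with hF₁
  have hF₁D : F₁.map M₁.subtype ≤ D := le_inf (Subgroup.map_subtype_le _) h₁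
  have hcoreY : (Cfsg.pCore q ↥M₂).map M₂.subtype ≤ D := le_inf
    ((Subgroup.map_mono (CfsgLib.Fitting.pCore_le_fitting hq.out)).trans h₂) (Subgroup.map_subtype_le _)
  set Y := (Cfsg.pCore q ↥M₂).map M₂.subtype with hY
  have hM₂Y : M₂ ≤ Subgroup.normalizer (Y : Set G) := le_normalizer_map_of_normal _
  have hNY : M₁ ⊓ Subgroup.normalizer (Y : Set G) = D :=
    hP Y (fun h => hYne ((Subgroup.map_eq_bot_iff_of_injective _ M₂.subtype_injective).mp h)) hcoreY hM₂Y
  -- cores of `D`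
  have hYq : ∀ y ∈ Y, ∀ hy : y ∈ D, (⟨y, hy⟩ : D) ∈ Cfsg.pCore q D := by
    intro y hyY hy
    haveI : (Y.subgroupOf D).Normal := normal_sub (inf_le_right.trans hM₂Y)
    have hYp : IsPGroup q (Y.subgroupOf D) :=
      ((CfsgLib.PCore.pCore_isPGroup (p := q) (G := M₂)).map _).comap_subtype
    exact CfsgLib.PCore.le_pCore inferInstance hYp (show (⟨y, hy⟩ : D) ∈ Y.subgroupOf D from hyY)
  have hFD : ∀ x ∈ F₁.map M₁.subtype, ∀ hx : x ∈ D, (⟨x, hx⟩ : D) ∈ Cfsg.fittingSubgroup D := by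
    intro x hxF hx
    haveI : ((F₁.map M₁.subtype).subgroupOf D).Normal := normal_sub (inf_le_left.trans (le_normalizer_map_of_normal _))
    haveI : Group.IsNilpotent ((F₁.map M₁.subtype).subgroupOf D) := by
      haveI := CfsgLib.Fitting.fitting_isNilpotent (G := M₁)
      exact Group.nilpotent_of_mulEquiv
        ((Subgroup.equivMapOfInjective F₁ M₁.subtype M₁.subtype_injective).trans (subgroupOfEquivOfLe hF₁D).symm)
    exact CfsgLib.Fitting.le_fitting inferInstance inferInstance (show (⟨x, hx⟩ : D) ∈ (F₁.map M₁.subtype).subgroupOf D from hxF)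
  -- the p'-part of the Fitting subgroup
  set W := F₁ ⊓ Cfsg.pPrimeCore p ↥M₁ with hW
  have hWcop : (Nat.card W).Coprime p :=
    CfsgLib.PCore.pPrimeCore_coprime.coprime_dvd_left (Subgroup.card_dvd_of_le inf_le_right)
  have hrest : ∀ r : ℕ, r.Prime → r ≠ p → Cfsg.pCore r ↥M₁ ≤ W := by
    intro r hr hrp
    haveI : Fact r.Prime := ⟨hr⟩
    refine le_inf (CfsgLib.Fitting.pCore_le_fitting hr) (CfsgLib.PCore.le_pPrimeCore inferInstance ?_)
    obtain ⟨k, hk⟩ := (CfsgLib.PCore.pCore_isPGroup (p := r) (G := M₁)).exists_card_eq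
    rw [hk]
    exact Nat.Coprime.pow_left _ ((Nat.coprime_primes hr hp.out).mpr hrp)
  set P := (Cfsg.pCore p D).map D.subtype with hPdef
  have hPW : ∀ x ∈ P, ∀ w ∈ W, x * (w : G) = (w : G) * x := by
    rintro _ ⟨x, hx, rfl⟩ w hw
    have hwD : (w : G) ∈ D := hF₁D ⟨w, hw.1, rfl⟩
    haveI hWn : ((W.map M₁.subtype).subgroupOf D).Normal := normal_sub (inf_le_left.trans (le_normalizer_map_of_normal _))
    have hd : Cfsg.pCore p D ⊓ (W.map M₁.subtype).subgroupOf D = ⊥ := by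
      apply Subgroup.inf_eq_bot_of_coprime
      obtain ⟨k, hk⟩ := (CfsgLib.PCore.pCore_isPGroup (p := p) (G := D)).exists_card_eq
      rw [hk]
      refine Nat.Coprime.pow_left _ ?_
      rw [Nat.card_congr (subgroupOfEquivOfLe ((Subgroup.map_mono (inf_le_left : W ≤ F₁)).trans hF₁D)).toEquiv,
        Subgroup.card_map_of_injective M₁.subtype_injective]
      exact hWcop.symm
    have hc := Subgroup.commute_of_normal_of_disjoint _ _ inferInstance hWn (disjoint_iff.mpr hd) x ⟨w, hwD⟩ hx ⟨w, hw, rfl⟩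
    exact congrArg Subtype.val hc.eq
  -- the key computation
  set U := Subgroup.centralizer (W : Set ↥M₁) with hU
  have key : ∀ u : M₁, u ∈ U → ¬ q ∣ orderOf u → (u : G) ∈ D := by
    intro u hu hqu
    rw [← hNY]
    refine ⟨u.2, ?_⟩
    suffices ∀ y ∈ Y, (u : G) * y * (u : G)⁻¹ = y by
      refine (Subgroup.mem_normalizer_iff_map_conj_eq).mpr ?_
      ext z
      constructor
      · rintro ⟨y, hy, rfl⟩
        show (u : G) * y * (u : G)⁻¹ ∈ Y
        rw [this y hy]; exact hy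
      · intro hz
        exact ⟨z, hz, this z hz⟩
    intro y hy
    have hyD := hcoreY hy
    set y₁ : M₁ := ⟨y, hyD.1⟩
    set c : M₁ := u * y₁ * u⁻¹ * y₁⁻¹ with hc
    haveI hUn : U.Normal := inferInstance
    have hcU : c ∈ U := by
      rw [hc, show u * y₁ * u⁻¹ * y₁⁻¹ = u * (y₁ * u⁻¹ * y₁⁻¹) by group]
      exact U.mul_mem hu (hUn.conj_mem _ (U.inv_mem hu) y₁)
    have hcX : c ∈ Subgroup.centralizer (Cfsg.pCore p ↥M₁ : Set ↥M₁) := by
      rw [Subgroup.mem_centralizer_iff]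
      intro x hx
      have hyx : ∀ x' ∈ Cfsg.pCore p ↥M₁, y₁ * x' = x' * y₁ := by
        intro x' hx'
        have hx'D : (x' : G) ∈ D := hF₁D ⟨x', CfsgLib.Fitting.pCore_le_fitting hp.out hx', rfl⟩
        have hx'p : (⟨x', hx'D⟩ : D) ∈ Cfsg.pCore p D := by
          haveI hn : (((Cfsg.pCore p ↥M₁).map M₁.subtype).subgroupOf D).Normal :=
            normal_sub (inf_le_left.trans (le_normalizer_map_of_normal _))
          exact CfsgLib.PCore.le_pCore hn ((CfsgLib.PCore.pCore_isPGroup (p := p) (G := M₁)).map _).comap_subtype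
            (show (⟨x', hx'D⟩ : D) ∈ ((Cfsg.pCore p ↥M₁).map M₁.subtype).subgroupOf D from ⟨x', hx', rfl⟩)
        have := CfsgLib.Fitting.commute_pCore_of_ne hp.out hq.out hpq hx'p (hYq y hy hyD)
        exact Subtype.ext (congrArg (fun z : D => (z : G)) this.eq.symm)
      have hn : (Cfsg.pCore p ↥M₁).Normal := inferInstance
      have h2 : Commute y₁ (u⁻¹ * x * u) := hyx _ (by simpa using hn.conj_mem x hx u⁻¹)
      have h3 : Commute y₁ x := hyx _ hx
      have e : x * c = c * (c⁻¹ * x * c) := by group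
      rw [e]
      congr 1
      calc c⁻¹ * x * c = y₁ * (u * (y₁⁻¹ * (u⁻¹ * x * u) * y₁) * u⁻¹) * y₁⁻¹ := by rw [hc]; group
        _ = y₁ * x * y₁⁻¹ := by
          rw [show y₁⁻¹ * (u⁻¹ * x * u) * y₁ = u⁻¹ * x * u by rw [h2.inv_left.eq, inv_mul_cancel_right]]; group
        _ = x := by rw [h3.eq, mul_inv_cancel_right]
    have hcF : c ∈ Subgroup.centralizer (F₁ : Set ↥M₁) := by
      rw [hF₁, CfsgLib.Fitting.fitting_eq_iSup_pCore, Subgroup.mem_centralizer_iff]
      intro x hx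
      induction hx using Subgroup.iSup_induction' with
      | hp r x hx =>
        by_cases hr : (r : ℕ) = p
        · rw [hr] at hx
          exact Subgroup.mem_centralizer_iff.mp hcX x hx
        · exact Subgroup.mem_centralizer_iff.mp hcU x (hrest r (Nat.prime_of_mem_primeFactors r.2) hr hx)
      | h1 => simp
      | hmul x y _ _ hx hy =>
        rw [mul_assoc, hy, ← mul_assoc, hx, mul_assoc]
    have hcF₁ : c ∈ F₁ := hC hcF
    have hcD : (c : G) ∈ D := hF₁D ⟨c, hcF₁, rfl⟩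
    obtain ⟨k, hk⟩ := (CfsgLib.PCore.pCore_isPGroup (p := q) (G := D)) ⟨⟨y, hyD⟩, hYq y hy hyD⟩
    have hyk : y ^ q ^ k = 1 := congrArg (fun z : Cfsg.pCore q D => ((z : D) : G)) hk
    have hz : (⟨c, hcD⟩ * ⟨y, hyD⟩ : D) ∈ Cfsg.pCore q D := by
      refine mem_pCore_of_mem_fitting (k := k) (Subgroup.mul_mem _ (hFD c ⟨c, hcF₁, rfl⟩ hcD)
        (CfsgLib.Fitting.pCore_le_fitting hq.out (hYq y hy hyD))) (Subtype.ext ?_)
      show ((c : G) * y) ^ q ^ k = 1
      rw [show (c : G) * y = (u : G) * y * (u : G)⁻¹ by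
        show (u : G) * y * (u : G)⁻¹ * y⁻¹ * y = _; group, conj_pow, hyk]
      group
    have hcq : (⟨c, hcD⟩ : D) ∈ Cfsg.pCore q D := by
      have := Subgroup.mul_mem _ hz (Subgroup.inv_mem _ (hYq y hy hyD))
      rwa [mul_inv_cancel_right] at this
    obtain ⟨j, hj⟩ := (CfsgLib.PCore.pCore_isPGroup (p := q) (G := D)) ⟨_, hcq⟩
    have hcj : c ^ q ^ j = 1 := Subtype.ext (congrArg (fun z : Cfsg.pCore q D => ((z : D) : G)) hj)
    have hcW : c ∈ W := hrest q hq.out (Ne.symm hpq) (mem_pCore_of_mem_fitting hcF₁ hcj)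
    have hcu : Commute c u := Subgroup.mem_centralizer_iff.mp hu c hcW
    have h1 : y₁ * u⁻¹ * y₁⁻¹ = u⁻¹ * c := by rw [hc]; group
    have h2 : c ^ orderOf u = 1 := by
      have := congrArg (fun z => z ^ orderOf u) h1
      simp only [conj_pow, inv_pow, pow_orderOf_eq_one, inv_one, mul_one, mul_inv_cancel, (hcu.symm.inv_left).mul_pow, one_mul] at this
      exact this.symm
    have hc1 : c = 1 := by
      rw [← orderOf_eq_one_iff]
      exact Nat.dvd_one.mp (((hq.out.coprime_iff_not_dvd.mpr hqu).pow_left j) ▸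
        Nat.dvd_gcd (orderOf_dvd_of_pow_eq_one hcj) (orderOf_dvd_of_pow_eq_one h2))
    have h3 : u * y₁ * u⁻¹ = y₁ := mul_inv_eq_one.mp hc1
    exact congrArg Subtype.val h3
  set K := Subgroup.closure {u : M₁ | u ∈ U ∧ ¬ q ∣ orderOf u} with hK
  have hKD : K.map M₁.subtype ≤ D := by
    rw [Subgroup.map_le_iff_le_comap, hK, Subgroup.closure_le]
    exact fun u hu => key u hu.1 hu.2
  haveI hKn : K.Normal := by
    refine ⟨fun x hx g => ?_⟩
    suffices K ≤ K.comap (MulAut.conj g).toMonoidHom from this hx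
    rw [hK, Subgroup.closure_le]
    intro u hu
    refine Subgroup.subset_closure ⟨(inferInstance : U.Normal).conj_mem _ hu.1 g, ?_⟩
    rw [show (MulAut.conj g).toMonoidHom u = MulAut.conj g u from rfl, MulEquiv.orderOf_eq]
    exact hu.2
  have hPM₁ : P ≤ M₁ := (Subgroup.map_subtype_le _).trans inf_le_left
  have hPK : P.subgroupOf M₁ ≤ K := by
    intro x hx
    refine Subgroup.subset_closure ⟨?_, ?_⟩
    · rw [hU, Subgroup.mem_centralizer_iff]
      intro w hw
      exact Subtype.ext (hPW x hx w hw).symm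
    · obtain ⟨k, hk⟩ := ((CfsgLib.PCore.pCore_isPGroup (p := p) (G := D)).map D.subtype) ⟨_, hx⟩
      intro hdvd
      have h1 : orderOf x ∣ p ^ k := orderOf_dvd_of_pow_eq_one (Subtype.ext (congrArg (fun z : P => (z : G)) hk))
      exact hpq ((Nat.prime_dvd_prime_iff_eq hq.out hp.out).mp (hq.out.dvd_of_dvd_pow (hdvd.trans h1))).symm
  haveI : ((P.subgroupOf M₁).subgroupOf K).Normal := by
    refine normal_sub fun k hk => ?_
    rw [Subgroup.mem_normalizer_iff]
    intro x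
    have hkD : (k : G) ∈ D := hKD ⟨k, hk, rfl⟩
    exact (Subgroup.mem_normalizer_iff.mp (le_normalizer_map_of_normal (Cfsg.pCore p D) hkD) (x : G))
  have hsub : (P.subgroupOf M₁).IsSubnormal := by
    have := (inferInstance : ((P.subgroupOf M₁).subgroupOf K).Normal).isSubnormal.trans' hKn.isSubnormal
    rwa [Subgroup.map_subgroupOf_eq_of_le hPK] at this
  have hfin := CfsgLib.PCore.le_pCore_of_isSubnormal hsub
    (((CfsgLib.PCore.pCore_isPGroup (p := p) (G := D)).map D.subtype).comap_subtype)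
  intro x hx
  exact ⟨⟨x, hPM₁ hx⟩, hfin hx, rfl⟩


/-- Bender's Theorem on primitive pairs. Two distinct subgroups M₁, M₂ of G form a primitive pair when, for {i, j} = {1, 2}, every non-trivial normal subgroup A of M_i contained in M₁ ∩ M₂ satisfies N_{M_j}(A) = M₁ ∩ M₂; the pair has characteristic p when moreover C_{M_i}(O_p(M_i)) ≤ O_p(M_i) for both i and O_p(M₁)O_p(M₂) ≤ M₁ ∩ M₂. If (M₁, M₂) is a primitive pair of the finite group G with F*(M₁) ≤ M₂ and F*(M₂) ≤ M₁, then for some prime p the pair has characteristic p. -/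
theorem result {G : Type*} [Group G] [Finite G] (M₁ M₂ : Subgroup G) (hne : M₁ ≠ M₂) (hP : ∀ A : Subgroup G, A ≠ ⊥ → A ≤ M₁ ⊓ M₂ → (M₁ ≤ Subgroup.normalizer (A : Set G) → M₂ ⊓ Subgroup.normalizer (A : Set G) = M₁ ⊓ M₂) ∧ (M₂ ≤ Subgroup.normalizer (A : Set G) → M₁ ⊓ Subgroup.normalizer (A : Set G) = M₁ ⊓ M₂)) (h₁ : (Cfsg.generalizedFittingSubgroup ↥M₁).map M₁.subtype ≤ M₂) (h₂ : (Cfsg.generalizedFittingSubgroup ↥M₂).map M₂.subtype ≤ M₁) : ∃ p : ℕ, p.Prime ∧ Subgroup.centralizer (Cfsg.pCore p ↥M₁ : Set ↥M₁) ≤ Cfsg.pCore p ↥M₁ ∧ Subgroup.centralizer (Cfsg.pCore p ↥M₂ : Set ↥M₂) ≤ Cfsg.pCore p ↥M₂ ∧ (Cfsg.pCore p ↥M₁).map M₁.subtype ⊔ (Cfsg.pCore p ↥M₂).map M₂.subtype ≤ M₁ ⊓ M₂ := by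
  classical
  have hE : (Cfsg.layer ↥M₁).map M₁.subtype = (Cfsg.layer ↥M₂).map M₂.subtype :=
    le_antisymm (components_le M₁ M₂ h₁ h₂) (components_le M₂ M₁ h₂ h₁)
  set D := M₁ ⊓ M₂ with hD
  have hnoshared : ∀ A : Subgroup G, A ≤ D → M₁ ≤ Subgroup.normalizer (A : Set G) → M₂ ≤ Subgroup.normalizer (A : Set G) → A = ⊥ := by
    intro A hA hn1 hn2
    by_contra hA0
    have e1 := (hP A hA0 hA).1 hn1
    have e2 := (hP A hA0 hA).2 hn2
    rw [inf_eq_left.mpr hn2] at e1
    rw [inf_eq_left.mpr hn1] at e2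
    exact hne (e2.trans e1.symm)
  have hE1 : (Cfsg.layer ↥M₁).map M₁.subtype = ⊥ := by
    refine hnoshared _ (le_inf (Subgroup.map_subtype_le _) (hE.le.trans (Subgroup.map_subtype_le _))) ?_ ?_
    · exact le_normalizer_map_of_normal _
    · rw [hE]; exact le_normalizer_map_of_normal _
  have hgf : ∀ (M : Subgroup G), (Cfsg.layer ↥M).map M.subtype = ⊥ →
      Cfsg.generalizedFittingSubgroup ↥M = Cfsg.fittingSubgroup ↥M := fun M h => by
    rw [Cfsg.generalizedFittingSubgroup, (Subgroup.map_eq_bot_iff_of_injective _ M.subtype_injective).mp h, bot_sup_eq]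
  have g1 := hgf M₁ hE1
  have g2 := hgf M₂ (hE ▸ hE1)
  rw [g1] at h₁
  rw [g2] at h₂
  have hC1 : Subgroup.centralizer (Cfsg.fittingSubgroup ↥M₁ : Set ↥M₁) ≤ Cfsg.fittingSubgroup ↥M₁ :=
    g1 ▸ centralizer_generalizedFitting_le
  have hC2 : Subgroup.centralizer (Cfsg.fittingSubgroup ↥M₂ : Set ↥M₂) ≤ Cfsg.fittingSubgroup ↥M₂ :=
    g2 ▸ centralizer_generalizedFitting_le
  -- a relevant prime of one member is relevant for the other
  have htrans : ∀ (A B : Subgroup G), (Cfsg.fittingSubgroup ↥A).map A.subtype ≤ B →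
      (Cfsg.fittingSubgroup ↥B).map B.subtype ≤ A →
      Subgroup.centralizer (Cfsg.fittingSubgroup ↥B : Set ↥B) ≤ Cfsg.fittingSubgroup ↥B →
      ∀ p : ℕ, p.Prime → Cfsg.pCore p ↥A ≠ ⊥ → Cfsg.pCore p ↥B ≠ ⊥ := by
    intro A B hAB hBA hCB p hp hA hB
    haveI : Fact p.Prime := ⟨hp⟩
    refine hA (eq_bot_iff.mpr fun x hx => mem_bot.mpr ?_)
    have hxB : (x : G) ∈ B := hAB ⟨x, CfsgLib.Fitting.pCore_le_fitting hp hx, rfl⟩
    have hxc : (⟨x, hxB⟩ : B) ∈ Subgroup.centralizer (Cfsg.fittingSubgroup ↥B : Set ↥B) := by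
      rw [CfsgLib.Fitting.fitting_eq_iSup_pCore, Subgroup.mem_centralizer_iff]
      intro z hz
      induction hz using Subgroup.iSup_induction' with
      | hp r z hz =>
        by_cases hr : (r : ℕ) = p
        · rw [hr, hB, mem_bot] at hz
          simp [hz]
        · have hr' := Nat.prime_of_mem_primeFactors r.2
          haveI : Fact (r : ℕ).Prime := ⟨hr'⟩
          have hzA : (z : G) ∈ A := hBA ⟨z, CfsgLib.Fitting.pCore_le_fitting hr' hz, rfl⟩
          set E := A ⊓ B with hE'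
          have hxE : (x : G) ∈ E := ⟨x.2, hxB⟩
          have hzE : (z : G) ∈ E := ⟨hzA, z.2⟩
          haveI n1 : (((Cfsg.pCore p ↥A).map A.subtype).subgroupOf E).Normal :=
            normal_sub (inf_le_left.trans (le_normalizer_map_of_normal _))
          haveI n2 : (((Cfsg.pCore r ↥B).map B.subtype).subgroupOf E).Normal :=
            normal_sub (inf_le_right.trans (le_normalizer_map_of_normal _))
          have a1 : (⟨x, hxE⟩ : E) ∈ Cfsg.pCore p E :=
            CfsgLib.PCore.le_pCore n1 ((CfsgLib.PCore.pCore_isPGroup (p := p) (G := A)).map _).comap_subtype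
              (show (⟨(x : G), hxE⟩ : E) ∈ ((Cfsg.pCore p ↥A).map A.subtype).subgroupOf E from ⟨x, hx, rfl⟩)
          have a2 : (⟨z, hzE⟩ : E) ∈ Cfsg.pCore r E :=
            CfsgLib.PCore.le_pCore n2 ((CfsgLib.PCore.pCore_isPGroup (p := (r : ℕ)) (G := B)).map _).comap_subtype
              (show (⟨(z : G), hzE⟩ : E) ∈ ((Cfsg.pCore r ↥B).map B.subtype).subgroupOf E from ⟨z, hz, rfl⟩)
          exact Subtype.ext (congrArg Subtype.val (CfsgLib.Fitting.commute_pCore_of_ne hp hr' (Ne.symm hr) a1 a2).symm.eq :)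
      | h1 => simp
      | hmul a b _ _ ha hb => rw [mul_assoc, hb, ← mul_assoc, ha, mul_assoc]
    obtain ⟨k, hk⟩ := (CfsgLib.PCore.pCore_isPGroup (p := p) (G := A)) ⟨x, hx⟩
    have := mem_pCore_of_mem_fitting (k := k) (hCB hxc)
      (Subtype.ext (congrArg (fun z : Cfsg.pCore p ↥A => ((z : A) : G)) hk))
    rw [hB, mem_bot] at this
    exact Subtype.ext (congrArg (fun z : B => (z : G)) this :)
  obtain ⟨p, hp, hXp⟩ : ∃ p : ℕ, p.Prime ∧ Cfsg.pCore p ↥M₁ ≠ ⊥ := by
    by_contra hno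
    push Not at hno
    have hF : Cfsg.fittingSubgroup ↥M₁ = ⊥ := by
      rw [CfsgLib.Fitting.fitting_eq_iSup_pCore, eq_bot_iff]
      exact iSup_le fun r => (hno r (Nat.prime_of_mem_primeFactors r.2)).le
    have hM1 : M₁ = ⊥ := by
      rw [eq_bot_iff]
      intro x hx
      have : (⟨x, hx⟩ : M₁) ∈ Cfsg.fittingSubgroup ↥M₁ := hC1 (by rw [hF, Subgroup.mem_centralizer_iff]; simp)
      rw [hF, mem_bot] at this
      exact mem_bot.mpr (congrArg Subtype.val this)
    have hF2 : Cfsg.fittingSubgroup ↥M₂ = ⊥ :=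
      (Subgroup.map_eq_bot_iff_of_injective _ M₂.subtype_injective).mp (le_bot_iff.mp (hM1 ▸ h₂))
    refine hne (hM1.trans (Eq.symm (eq_bot_iff.mpr fun x hx => ?_)))
    have : (⟨x, hx⟩ : M₂) ∈ Cfsg.fittingSubgroup ↥M₂ := hC2 (by rw [hF2, Subgroup.mem_centralizer_iff]; simp)
    rw [hF2, mem_bot] at this
    exact mem_bot.mpr (congrArg Subtype.val this)
  haveI : Fact p.Prime := ⟨hp⟩
  have hYp := htrans M₁ M₂ h₁ h₂ hC2 p hp hXp
  have honly : ∀ q : ℕ, q.Prime → q ≠ p → Cfsg.pCore q ↥M₁ = ⊥ ∧ Cfsg.pCore q ↥M₂ = ⊥ := by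
    intro q hq hqp
    haveI : Fact q.Prime := ⟨hq⟩
    by_contra hcon
    obtain ⟨q1, q2⟩ : Cfsg.pCore q ↥M₁ ≠ ⊥ ∧ Cfsg.pCore q ↥M₂ ≠ ⊥ := by
      by_cases h : Cfsg.pCore q ↥M₁ = ⊥
      · have h' : Cfsg.pCore q ↥M₂ ≠ ⊥ := fun h' => hcon ⟨h, h'⟩
        exact absurd h (htrans M₂ M₁ h₂ h₁ hC1 q hq h')
      · exact ⟨h, htrans M₁ M₂ h₁ h₂ hC2 q hq h⟩
    have e1 := core_le M₁ M₂ (fun A hA hAD => (hP A hA hAD).2) h₁ h₂ hC1 (Ne.symm hqp) q2
    have e2 := core_le M₂ M₁ (fun A hA hAD hn => by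
      rw [inf_comm M₂ M₁]; exact (hP A hA (by rwa [inf_comm] at hAD)).1 hn) h₂ h₁ hC2 (Ne.symm hqp) q1
    have hup : ∀ (A : Subgroup G) (E : Subgroup G), (Cfsg.fittingSubgroup ↥A).map A.subtype ≤ E → E ≤ A →
        (Cfsg.pCore p ↥A).map A.subtype ≤ (Cfsg.pCore p ↥E).map E.subtype := by
      intro A E hAE hEA
      have hle : (Cfsg.pCore p ↥A).map A.subtype ≤ E :=
        (Subgroup.map_mono (CfsgLib.Fitting.pCore_le_fitting hp)).trans hAE
      haveI n1 : (((Cfsg.pCore p ↥A).map A.subtype).subgroupOf E).Normal :=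
        normal_sub (hEA.trans (le_normalizer_map_of_normal _))
      rw [← Subgroup.map_subgroupOf_eq_of_le hle]
      exact Subgroup.map_mono (CfsgLib.PCore.le_pCore n1
        ((CfsgLib.PCore.pCore_isPGroup (p := p) (G := A)).map _).comap_subtype)
    have a1 := le_antisymm (hup M₁ D (le_inf (Subgroup.map_subtype_le _) h₁) inf_le_left) e1
    have a2 := le_antisymm (hup M₂ (M₂ ⊓ M₁) (le_inf (Subgroup.map_subtype_le _) h₂) inf_le_left) e2
    rw [inf_comm M₂ M₁] at a2
    have hsame : (Cfsg.pCore p ↥M₁).map M₁.subtype = (Cfsg.pCore p ↥M₂).map M₂.subtype := a1.trans a2.symm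
    refine hXp ((Subgroup.map_eq_bot_iff_of_injective _ M₁.subtype_injective).mp
      (hnoshared _ ?_ (le_normalizer_map_of_normal _) (hsame ▸ le_normalizer_map_of_normal _)))
    exact le_inf (Subgroup.map_subtype_le _) (hsame.le.trans (Subgroup.map_subtype_le _))
  have hFp : ∀ (A : Subgroup G), (∀ q : ℕ, q.Prime → q ≠ p → Cfsg.pCore q ↥A = ⊥) →
      Cfsg.fittingSubgroup ↥A = Cfsg.pCore p ↥A := by
    intro A h
    refine le_antisymm ?_ (CfsgLib.Fitting.pCore_le_fitting hp)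
    rw [CfsgLib.Fitting.fitting_eq_iSup_pCore]
    refine iSup_le fun r => ?_
    by_cases hr : (r : ℕ) = p
    · rw [hr]
    · rw [h r (Nat.prime_of_mem_primeFactors r.2) hr]; exact bot_le
  have f1 := hFp M₁ fun q hq hqp => (honly q hq hqp).1
  have f2 := hFp M₂ fun q hq hqp => (honly q hq hqp).2
  refine ⟨p, hp, centralizer_pCore_le_of_generalizedFitting_eq (g1.trans f1),
    centralizer_pCore_le_of_generalizedFitting_eq (g2.trans f2), ?_⟩
  rw [← f1, ← f2]
  exact sup_le (le_inf (Subgroup.map_subtype_le _) h₁) (le_inf h₂ (Subgroup.map_subtype_le _))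

end Cfsg.Agent.S3752
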