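import Cfsg.Statements.S3753
import Cfsg.Agent.Lib.Structure.KInfInside

set_option autoImplicit false
open Cfsg

namespace Cfsg.Agent.S3753

open Subgroup CfsgLib.Techniques


/-- Two distinct subgroups M₁, M₂ of G form a primitive pair when, for {i, j} = {1, 2}, every non-trivial normal subgroup A of M_i contained in M₁ ∩ M₂ satisfies N_{M_j}(A) = M₁ ∩ M₂; the pair has characteristic p when moreover C_{M_i}(O_p(M_i)) ≤ O_p(M_i) for both i and O_p(M₁)O_p(M₂) ≤ M₁ ∩ M₂. If the finite group G has a primitive pair (M₁, M₂) of characteristic p for some prime p, then M₁ or M₂ has non-abelian Sylow 2-subgroups. In particular no group of odd order has a primitive pair of characteristic p. -/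
theorem result {G : Type*} [Group G] [Finite G] {p : ℕ} [Fact p.Prime] (M₁ M₂ : Subgroup G) (hne : M₁ ≠ M₂) (hP : ∀ A : Subgroup G, A ≠ ⊥ → A ≤ M₁ ⊓ M₂ → (M₁ ≤ Subgroup.normalizer (A : Set G) → M₂ ⊓ Subgroup.normalizer (A : Set G) = M₁ ⊓ M₂) ∧ (M₂ ≤ Subgroup.normalizer (A : Set G) → M₁ ⊓ Subgroup.normalizer (A : Set G) = M₁ ⊓ M₂)) (hc₁ : Subgroup.centralizer (Cfsg.pCore p ↥M₁ : Set ↥M₁) ≤ Cfsg.pCore p ↥M₁) (hc₂ : Subgroup.centralizer (Cfsg.pCore p ↥M₂ : Set ↥M₂) ≤ Cfsg.pCore p ↥M₂) (hO : (Cfsg.pCore p ↥M₁).map M₁.subtype ⊔ (Cfsg.pCore p ↥M₂).map M₂.subtype ≤ M₁ ⊓ M₂) : (∃ S : Sylow 2 ↥M₁, ¬ IsMulCommutative (S : Subgroup ↥M₁)) ∨ (∃ S : Sylow 2 ↥M₂, ¬ IsMulCommutative (S : Subgroup ↥M₂)) := by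
  classical
  by_contra hcon
  push Not at hcon
  obtain ⟨hab₁, hab₂⟩ := hcon
  have hnoshared : ∀ A : Subgroup G, A ≤ M₁ ⊓ M₂ → M₁ ≤ Subgroup.normalizer (A : Set G) → M₂ ≤ Subgroup.normalizer (A : Set G) → A = ⊥ := by
    intro A hA hn1 hn2
    by_contra hA0
    have e1 := (hP A hA0 hA).1 hn1
    have e2 := (hP A hA0 hA).2 hn2
    rw [inf_eq_left.mpr hn2] at e1
    rw [inf_eq_left.mpr hn1] at e2
    exact hne (e2.trans e1.symm)
  set X₁ := (pCore p ↥M₁).map M₁.subtype with hX₁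
  set X₂ := (pCore p ↥M₂).map M₂.subtype with hX₂
  have hle₁ : X₁ ≤ M₁ ⊓ M₂ := le_sup_left.trans hO
  have hle₂ : X₂ ≤ M₁ ⊓ M₂ := le_sup_right.trans hO
  have hnM : ∀ (M : Subgroup G), M ≤ Subgroup.normalizer (((pCore p ↥M).map M.subtype : Subgroup G) : Set G) := by
    intro M
    refine le_trans (le_of_eq ?_) (Subgroup.le_normalizer_map M.subtype)
    rw [Subgroup.normalizer_eq_top, ← MonoidHom.range_eq_map, Subgroup.range_subtype]
  have hzero : ∀ (M : Subgroup G), Subgroup.centralizer (pCore p ↥M : Set ↥M) ≤ pCore p ↥M →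
      (pCore p ↥M).map M.subtype = ⊥ → M = ⊥ := by
    intro M hc h
    have h' : pCore p ↥M = ⊥ := (Subgroup.map_eq_bot_iff_of_injective _ M.subtype_injective).mp h
    rw [eq_bot_iff]
    intro x hx
    have : (⟨x, hx⟩ : M) ∈ pCore p ↥M := hc (by rw [h', Subgroup.mem_centralizer_iff]; simp)
    rw [h', mem_bot] at this
    exact mem_bot.mpr (congrArg Subtype.val this)
  have hX₁ne : X₁ ≠ ⊥ := by
    intro h
    have hM := hzero M₁ hc₁ h
    have hX2 : X₂ = ⊥ := le_bot_iff.mp (hM ▸ hle₂.trans inf_le_left)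
    exact hne (hM.trans (hzero M₂ hc₂ hX2).symm)
  have hp1 : IsPGroup p X₁ := CfsgLib.PCore.pCore_isPGroup.map _
  have hp2' : IsPGroup p X₂ := CfsgLib.PCore.pCore_isPGroup.map _
  by_cases hp2 : p = 2
  · subst hp2
    have hsyl : ∀ (M Y : Subgroup G), Subgroup.centralizer (pCore 2 ↥M : Set ↥M) ≤ pCore 2 ↥M →
        (∀ S : Sylow 2 ↥M, IsMulCommutative (S : Subgroup ↥M)) → IsPGroup 2 Y → Y ≤ M →
        Y ≤ (pCore 2 ↥M).map M.subtype := by
      intro M Y hc hab hY hYM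
      obtain ⟨S, hS⟩ := (hY.comap_subtype (K := M)).exists_le_sylow
      have hSc : (S : Subgroup ↥M) ≤ pCore 2 ↥M := by
        refine le_trans ?_ hc
        intro s hs
        rw [Subgroup.mem_centralizer_iff]
        intro x hx
        exact congrArg Subtype.val ((hab S).is_comm.comm
          (⟨x, CfsgLib.PCore.pCore_le_sylow S hx⟩ : (S : Subgroup ↥M)) ⟨s, hs⟩)
      rw [← Subgroup.map_subgroupOf_eq_of_le hYM]
      exact Subgroup.map_mono (hS.trans hSc)
    have h12 : X₁ = X₂ := le_antisymm (hsyl M₂ X₁ hc₂ hab₂ hp1 (hle₁.trans inf_le_right))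
      (hsyl M₁ X₂ hc₁ hab₁ hp2' (hle₂.trans inf_le_left))
    exact hX₁ne (hnoshared X₁ hle₁ (hnM M₁) (h12 ▸ hnM M₂))
  · set S := X₁ ⊔ X₂ with hSdef
    have hS : IsPGroup p S := hp1.to_sup_of_normal_right' hp2' ((hle₁.trans inf_le_right).trans (hnM M₂))
    have hSD : S ≤ M₁ ⊓ M₂ := sup_le hle₁ hle₂
    have key : ∀ (M : Subgroup G), S ≤ M → (pCore p ↥M).map M.subtype ≤ S →
        Subgroup.centralizer (pCore p ↥M : Set ↥M) ≤ pCore p ↥M →
        (∀ T : Sylow 2 ↥M, IsMulCommutative (T : Subgroup ↥M)) →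
        inducedFunctor (G := G) kInfLower S = inducedFunctor (G := G) kInfLower ((pCore p ↥M).map M.subtype) := by
      intro M hSM hXS hc hab
      have h := CfsgLib.Structure.kInfLower_eq_of_pCore_le hp2
        (CfsgLib.PLocal.noSLTwo_of_abelian_sylow_two hp2 hab) hc (S.subgroupOf M) hS.comap_subtype
        (Subgroup.map_le_iff_le_comap.mp hXS)
      have e1 := Fusion.inducedFunctor_map_injective (p := p) KInf.isCharPFunctor_kInfLower M.subtype
        M.subtype_injective (hS.comap_subtype (K := M))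
      have e2 := Fusion.inducedFunctor_map_injective (p := p) KInf.isCharPFunctor_kInfLower M.subtype
        M.subtype_injective (CfsgLib.PCore.pCore_isPGroup (p := p) (G := ↥M))
      rw [show (S.comap M.subtype).map M.subtype = S from Subgroup.map_subgroupOf_eq_of_le hSM] at e1
      rw [e1, e2]
      exact congrArg (Subgroup.map M.subtype) h
    have k₁ := key M₁ (hSD.trans inf_le_left) le_sup_left hc₁ hab₁
    have k₂ := key M₂ (hSD.trans inf_le_right) le_sup_right hc₂ hab₂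
    have hne0 := Fusion.inducedFunctor_ne_bot (p := p) KInf.isCharPFunctor_kInfLower hp1 hX₁ne
    refine hne0 (hnoshared _ ((Fusion.inducedFunctor_le _ X₁).trans hle₁)
      ((hnM M₁).trans (Fusion.normalizer_le_normalizer_inducedFunctor (p := p) KInf.isCharPFunctor_kInfLower hp1)) ?_)
    rw [← k₁, k₂]
    exact (hnM M₂).trans (Fusion.normalizer_le_normalizer_inducedFunctor (p := p) KInf.isCharPFunctor_kInfLower hp2')

end Cfsg.Agent.S3753
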