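import Cfsg.Statements.S3755
import Cfsg.Agent.Lib.PLocal.OffenderSquare

set_option autoImplicit false
open Cfsg

namespace Cfsg.Agent.S3755

open Subgroup
open scoped commutatorElement


/-- Let M and V be subgroups of a finite group with V an elementary abelian 2-group, M normalizing V and acting faithfully on it (M ∩ C(V) = 1), and C_M(O_{2'}(M)) ≤ O_{2'}(M). If some elementary abelian 2-subgroup A of M satisfies |V : C_V(A)| < |A|², then M has a section isomorphic to the symmetric group of degree 3. -/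
theorem result {X : Type*} [Group X] [Finite X] (M V : Subgroup X) (hV : Cfsg.IsElementaryAbelian 2 V) (hMV : M ≤ Subgroup.normalizer (V : Set X)) (hfaith : M ⊓ Subgroup.centralizer (V : Set X) = ⊥) (hcon : Subgroup.centralizer (Cfsg.pPrimeCore 2 ↥M : Set ↥M) ≤ Cfsg.pPrimeCore 2 ↥M) (A : Subgroup X) (hAM : A ≤ M) (hA : Cfsg.IsElementaryAbelian 2 A) (hsmall : (V ⊓ Subgroup.centralizer (A : Set X)).relIndex V < Nat.card A ^ 2) : Cfsg.Involves (Equiv.Perm (Fin 3)) ↥M := by
  by_contra hS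
  haveI : Fact (Nat.Prime 2) := ⟨Nat.prime_two⟩
  let ι := M.subtype
  have hinj : Function.Injective ι := M.subtype_injective
  set Q := (Cfsg.pPrimeCore 2 ↥M).map ι with hQ
  have hQM : Q ≤ M := map_subtype_le _
  have hAQ : A ≤ normalizer (Q : Set X) :=
    hAM.trans (le_trans (by rw [normalizer_eq_top, ← MonoidHom.range_eq_map, M.range_subtype])
      (le_normalizer_map (H := Cfsg.pPrimeCore 2 ↥M) ι))
  have hAf : A ⊓ centralizer (Q : Set X) = ⊥ := by
    rw [eq_bot_iff]
    intro a ha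
    obtain ⟨haA, haQ⟩ := mem_inf.1 ha
    have hc : (⟨a, hAM haA⟩ : M) ∈ Cfsg.pPrimeCore 2 ↥M := hcon (mem_centralizer_iff.2 fun q hq =>
      Subtype.ext (mem_centralizer_iff.1 haQ q ⟨q, hq, rfl⟩))
    have h1 := (CfsgLib.PCore.pPrimeCore_coprime (p := 2) (G := ↥M)).coprime_dvd_left
      (orderOf_dvd_natCard _ hc)
    rw [orderOf_mk] at h1
    rw [mem_bot, ← orderOf_eq_one_iff]
    exact Nat.eq_one_of_dvd_coprimes h1 dvd_rfl (orderOf_dvd_of_pow_eq_one (hA.2 a haA))
  have := CfsgLib.PLocal.card_sq_le_relIndex_fixed_in (S := M) hS V Q hQM hV (hQM.trans hMV)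
    (by rw [hQ, card_map_of_injective hinj]; exact CfsgLib.PCore.pPrimeCore_coprime)
    (le_bot_iff.1 ((inf_le_inf_right _ hQM).trans hfaith.le)) _ A rfl hA hAM (hAM.trans hMV) hAQ hAf
  omega

end Cfsg.Agent.S3755
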