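import Cfsg.Statements.S3756
import Cfsg.Agent.Lib.Stellmacher.Main
import Cfsg.Agent.Lib.PCore.Basic
import Cfsg.Agent.Lib.Solvable.Fitting
import Cfsg.Agent.Lib.Structure.Subnormal
import Cfsg.Agent.Lib.Isolated.LocalCentral

set_option autoImplicit false
open Cfsg

namespace Cfsg.Agent.S3756

open Subgroup CfsgLib.Stellmacher

universe u

variable {G : Type u} [Group G] [Finite G]

/-- The local hypothesis. -/
def GoodLocals (G : Type u) [Group G] : Prop :=
  ∀ M : Subgroup G, Cfsg.IsTwoLocal M → Group.IsSolvable M ∧ Cfsg.IsOfCharacteristicTwo ↥M ∧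
    ¬ Cfsg.Involves (Equiv.Perm (Fin 4)) ↥M

/-- The subgroup attached to a 2-subgroup. -/
def wIn (S : Subgroup G) : Subgroup G := (wSub ↥S).map S.subtype

theorem exists_maxLocal {N : Subgroup G} (h : Cfsg.IsTwoLocal N) :
    ∃ M, N ≤ M ∧ Cfsg.IsMaximalTwoLocal M := by
  obtain ⟨M, hNM, hM⟩ := Finite.exists_le_maximal (p := Cfsg.IsTwoLocal (G := G)) h
  exact ⟨M, hNM, hM.prop, fun L hL hML => le_antisymm (hM.le_of_ge hL hML) hML⟩

theorem normalizer_wIn_eq (hloc : GoodLocals G) {M S : Subgroup G} (hM : Cfsg.IsMaximalTwoLocal M)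
    (hS : IsPGroup 2 S) (hSM : S ≤ M)
    (hmax : ∀ R : Subgroup G, IsPGroup 2 R → S ≤ R → R ≤ M → R = S) :
    Subgroup.normalizer (wIn S : Set G) = M := by
  haveI : Fact (Nat.Prime 2) := ⟨Nat.prime_two⟩
  obtain ⟨hsol, hchar, hS4⟩ := hloc M hM.1
  obtain ⟨P, hP⟩ := (hS.comap_subtype (K := M)).exists_le_sylow
  have hPS : (P : Subgroup M).map M.subtype = S := by
    refine hmax _ (P.2.map _) ?_ (map_subtype_le _)
    rw [← map_subgroupOf_eq_of_le hSM]
    exact map_mono hP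
  have hPS' : (P : Subgroup M) = (Subgroup.inclusion hSM).range := by
    apply Subgroup.map_injective M.subtype_injective
    rw [hPS, MonoidHom.map_range, Subgroup.subtype_comp_inclusion, range_subtype]
  have hSne : S ≠ ⊥ := by
    obtain ⟨T, hT, hT1, hMT⟩ := hM.1
    intro h0
    refine hT1 (le_bot_iff.1 ?_)
    have hTM : T ≤ M := hMT ▸ le_normalizer
    rw [← h0, ← hmax T hT (h0 ▸ bot_le) hTM]
  haveI : Nontrivial S := (nontrivial_iff_ne_bot S).2 hSne
  have hn : ((wSub ↥S).map (Subgroup.inclusion hSM)).Normal :=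
    map_wSub_normal _ ↥M rfl (Subgroup.inclusion hSM) (Subgroup.inclusion_injective hSM) ⟨P, hPS'⟩
      hsol hS4 hchar
  have hle : M ≤ Subgroup.normalizer (wIn S : Set G) := by
    intro m hm
    have e : ((wSub ↥S).map (Subgroup.inclusion hSM)).map M.subtype = wIn S := by
      rw [Subgroup.map_map, Subgroup.subtype_comp_inclusion]; rfl
    rw [← e]
    exact le_normalizer_map M.subtype ⟨⟨m, hm⟩, by rw [Subgroup.normalizer_eq_top]; trivial, rfl⟩
  have hW : wIn S ≠ ⊥ := fun h =>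
    wSub_ne_bot hS ((Subgroup.map_eq_bot_iff_of_injective _ S.subtype_injective).1 h)
  exact hM.2 _ ⟨wIn S, (hS.to_subgroup _).map _, hW, rfl⟩ hle

theorem sylow_of_maxLocal (hloc : GoodLocals G) {M S : Subgroup G} (hM : Cfsg.IsMaximalTwoLocal M)
    (hS : IsPGroup 2 S) (hSM : S ≤ M)
    (hmax : ∀ R : Subgroup G, IsPGroup 2 R → S ≤ R → R ≤ M → R = S) :
    ∀ R : Subgroup G, IsPGroup 2 R → S ≤ R → R = S := by
  haveI : Fact (Nat.Prime 2) := ⟨Nat.prime_two⟩
  intro R hR hSR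
  by_contra hne
  obtain ⟨g, hgR, hgS⟩ := SetLike.exists_of_lt
    (CfsgLib.Isolated.lt_inf_normalizer hR (lt_of_le_of_ne hSR (Ne.symm hne)))
  haveI : (wSub ↥S).Characteristic := wSub_characteristic
  have hgM : g ∈ M := normalizer_wIn_eq hloc hM hS hSM hmax ▸
    CfsgLib.Structure.normalizer_le_normalizer_map_subtype S (wSub ↥S) hgR.2
  have := hmax (R ⊓ M) (hR.to_le inf_le_left) (le_inf hSR hSM) inf_le_right
  exact hgS (this ▸ ⟨hgR.1, hgM⟩)

theorem eq_of_common (hloc : GoodLocals G) {M L S : Subgroup G} (hM : Cfsg.IsMaximalTwoLocal M)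
    (hL : Cfsg.IsMaximalTwoLocal L) (hS : IsPGroup 2 S) (hSM : S ≤ M) (hSL : S ≤ L)
    (hmax : ∀ R : Subgroup G, IsPGroup 2 R → S ≤ R → R ≤ M → R = S) : M = L := by
  have h := sylow_of_maxLocal hloc hM hS hSM hmax
  rw [← normalizer_wIn_eq hloc hM hS hSM hmax,
    ← normalizer_wIn_eq hloc hL hS hSL fun R hR hSR _ => h R hR hSR]

theorem isMaxLocal_conj {M : Subgroup G} (h : Cfsg.IsMaximalTwoLocal M) (g : G) :
    Cfsg.IsMaximalTwoLocal (M.map (MulAut.conj g).toMonoidHom) := by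
  have hconj : ∀ (x : G) (N : Subgroup G), Cfsg.IsTwoLocal N →
      Cfsg.IsTwoLocal (N.map (MulAut.conj x).toMonoidHom) := by
    rintro x N ⟨T, hT, hT1, rfl⟩
    refine ⟨T.map (MulAut.conj x).toMonoidHom, hT.map _, fun h0 => hT1 ?_, ?_⟩
    · exact (Subgroup.map_eq_bot_iff_of_injective _ (MulAut.conj x).injective).mp h0
    · exact Subgroup.map_equiv_normalizer_eq T (MulAut.conj x)
  refine ⟨hconj g M h.1, fun L hL hle => ?_⟩
  have e : (L.map (MulAut.conj g⁻¹).toMonoidHom).map (MulAut.conj g).toMonoidHom = L := by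
    rw [Subgroup.map_map]
    convert Subgroup.map_id L using 2
    ext y
    simp [mul_assoc]
  rw [← e, h.2 _ (hconj g⁻¹ L hL)
    (fun m hm => ⟨MulAut.conj g m, hle (mem_map_of_mem _ hm), by simp [mul_assoc]⟩)]

theorem conj_ne_self (hloc : GoodLocals G) {M : Subgroup G} (hM : Cfsg.IsMaximalTwoLocal M) {g : G}
    (hg : g ∉ M) : M.map (MulAut.conj g).toMonoidHom ≠ M := by
  haveI : Fact (Nat.Prime 2) := ⟨Nat.prime_two⟩
  intro he
  haveI : (Cfsg.pCore 2 ↥M).Characteristic := CfsgLib.Fitting.pCore_characteristic 2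
  set B := (Cfsg.pCore 2 ↥M).map M.subtype with hB
  obtain ⟨T, hT, hT1, hMT⟩ := hM.1
  have hTM : T ≤ M := hMT ▸ le_normalizer
  haveI : (T.subgroupOf M).Normal := by
    rw [normal_subgroupOf_iff_le_normalizer hTM, hMT]
  have hTB : T ≤ B := by
    rw [← map_subgroupOf_eq_of_le hTM]
    exact map_mono (CfsgLib.PCore.le_pCore inferInstance hT.comap_subtype)
  have hle : Subgroup.normalizer (M : Set G) ≤ Subgroup.normalizer (B : Set G) :=
    CfsgLib.Structure.normalizer_le_normalizer_map_subtype M (Cfsg.pCore 2 ↥M)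
  have := hM.2 _ ⟨B, CfsgLib.PCore.pCore_isPGroup.map _, fun h => hT1 (le_bot_iff.1 (h ▸ hTB)), rfl⟩
    (le_normalizer.trans hle)
  exact hg (this ▸ hle (Subgroup.mem_normalizer_iff_map_conj_eq.2 he))

/-- Let G be a finite group of even order with O₂(G) = 1 such that every 2-local subgroup of G is solvable, of characteristic 2, and has no section isomorphic to the symmetric group of degree 4. Then every maximal 2-local subgroup of G is strongly embedded in G. -/
theorem result {G : Type*} [Group G] [Finite G] (heven : Even (Nat.card G)) (hO : Cfsg.pCore 2 G = ⊥) (hloc : ∀ M : Subgroup G, Cfsg.IsTwoLocal M → Group.IsSolvable M ∧ Cfsg.IsOfCharacteristicTwo ↥M ∧ ¬ Cfsg.Involves (Equiv.Perm (Fin 4)) ↥M) (M : Subgroup G) (hM : Cfsg.IsMaximalTwoLocal M) : Cfsg.IsStronglyEmbedded M := by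
  classical
  haveI : Fact (Nat.Prime 2) := ⟨Nat.prime_two⟩
  obtain ⟨T₀, hT₀, hT₀1, hMT⟩ := hM.1
  refine ⟨?_, ?_, ?_⟩
  · intro htop
    haveI : T₀.Normal := Subgroup.normalizer_eq_top_iff.mp (hMT ▸ htop)
    exact hT₀1 (le_bot_iff.mp (hO ▸ CfsgLib.PCore.le_pCore inferInstance hT₀))
  · haveI : Nontrivial T₀ := (nontrivial_iff_ne_bot T₀).mpr hT₀1
    exact even_iff_two_dvd.2 ((hT₀.card_eq_or_dvd.resolve_left (Finite.one_lt_card (α := T₀)).ne').trans
      (Subgroup.card_dvd_of_le (hMT ▸ Subgroup.le_normalizer)))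
  · intro g hg
    rw [← Nat.not_even_iff_odd, even_iff_two_dvd]
    intro hdvd
    obtain ⟨⟨x, hx⟩, hxo⟩ := exists_prime_orderOf_dvd_card' 2 hdvd
    have hxp : IsPGroup 2 (Subgroup.zpowers x) := IsPGroup.of_card (n := 1) (by
      rw [Nat.card_zpowers, pow_one, ← hxo, Subgroup.orderOf_mk])
    have hx1 : Subgroup.zpowers x ≠ ⊥ := fun h => by
      rw [zpowers_eq_bot] at h
      subst h
      rw [Subgroup.orderOf_mk, orderOf_one] at hxo
      exact absurd hxo (by norm_num)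
    obtain ⟨T, -, hTmax⟩ := Finite.exists_le_maximal
      (p := fun T : Subgroup G => IsPGroup 2 T ∧ T ≠ ⊥ ∧ ∃ A B, Cfsg.IsMaximalTwoLocal A ∧
        Cfsg.IsMaximalTwoLocal B ∧ A ≠ B ∧ T ≤ A ∧ T ≤ B)
      (a := Subgroup.zpowers x)
      ⟨hxp, hx1, M, _, hM, isMaxLocal_conj hM g, Ne.symm (conj_ne_self hloc hM hg),
        zpowers_le.mpr hx.1, zpowers_le.mpr hx.2⟩
    obtain ⟨hT, hT1, A, B, hA, hB, hAB, hTA, hTB⟩ := hTmax.prop
    obtain ⟨H, hNH, hH⟩ := exists_maxLocal ⟨T, hT, hT1, rfl⟩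
    have key : ∀ N C : Subgroup G, Cfsg.IsMaximalTwoLocal N → Cfsg.IsMaximalTwoLocal C → N ≠ C →
        T ≤ N → T ≤ C → H = N := by
      intro N C hN hC hNC hTN hTC
      by_cases hS : ∀ S : Subgroup G, IsPGroup 2 S → T ≤ S → S ≤ N → S = T
      · exact absurd (eq_of_common hloc hN hC hT hTN hTC hS) hNC
      · push Not at hS
        obtain ⟨S, hS1, hTS, hSN, hne⟩ := hS
        have hlt := CfsgLib.Isolated.lt_inf_normalizer hS1 (lt_of_le_of_ne hTS (Ne.symm hne))
        by_contra hHN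
        exact hlt.not_ge (hTmax.le_of_ge ⟨hS1.to_le inf_le_left,
          fun h => hT1 (le_bot_iff.mp (h ▸ hlt.le)), H, N, hH, hN, hHN, inf_le_right.trans hNH,
          inf_le_left.trans hSN⟩ hlt.le)
    exact hAB ((key A B hA hB hAB hTA hTB).symm.trans (key B A hB hA hAB.symm hTB hTA))

end Cfsg.Agent.S3756
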