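import Cfsg.Statements.S3758
import Cfsg.Agent.Lib.ZNType.Main

set_option autoImplicit false
open Cfsg

namespace Cfsg.Agent.S3758

/-- Let G be a finite group of even order in which every 2-local subgroup is solvable and C_G(Ω₁(Z(S))) ≤ N_G(S) for every Sylow 2-subgroup S, and suppose O_{2'}(G) = 1 = O₂(G). Fix a Sylow 2-subgroup S, put Z = Ω₁(Z(S)), H = O²(G) (generated by the elements of odd order) and R = S ∩ H. Then one of the following holds: H has a strongly embedded subgroup; R is dihedral (of order at least 4) or semidihedral; Z ∩ R has order 2 and is weakly closed in R with respect to H; or Z has order 4 and is exactly the subgroup generated by the involutions of R. -/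
theorem result {G : Type*} [Group G] [Finite G] (heven : Even (Nat.card G)) (hN : ∀ L : Subgroup G, Cfsg.IsTwoLocal L → Group.IsSolvable L) (hZ : ∀ S : Sylow 2 G, Subgroup.centralizer (Cfsg.omegaOne 2 ((S : Subgroup G) ⊓ Subgroup.centralizer ((S : Subgroup G) : Set G)) : Set G) ≤ Subgroup.normalizer ((S : Subgroup G) : Set G)) (hO' : Cfsg.pPrimeCore 2 G = ⊥) (hO : Cfsg.pCore 2 G = ⊥) (S : Sylow 2 G) : (∃ M : Subgroup ↥(Cfsg.pResidual 2 G), Cfsg.IsStronglyEmbedded M) ∨ ((∃ n : ℕ, 2 ≤ n ∧ Nonempty (↥((S : Subgroup G) ⊓ Cfsg.pResidual 2 G) ≃* DihedralGroup n)) ∨ Cfsg.IsQuasiDihedral ↥((S : Subgroup G) ⊓ Cfsg.pResidual 2 G)) ∨ (Nat.card ↥(Cfsg.omegaOne 2 ((S : Subgroup G) ⊓ Subgroup.centralizer ((S : Subgroup G) : Set G)) ⊓ Cfsg.pResidual 2 G) = 2 ∧ ∀ h ∈ Cfsg.pResidual 2 G, ∀ z ∈ Cfsg.omegaOne 2 ((S : Subgroup G) ⊓ Subgroup.centralizer ((S : Subgroup G) : Set G)) ⊓ Cfsg.pResidual 2 G, h * z * h⁻¹ ∈ (S : Subgroup G) → h * z * h⁻¹ ∈ Cfsg.omegaOne 2 ((S : Subgroup G)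 ⊓ Subgroup.centralizer ((S : Subgroup G) : Set G))) ∨ (Nat.card ↥(Cfsg.omegaOne 2 ((S : Subgroup G) ⊓ Subgroup.centralizer ((S : Subgroup G) : Set G))) = 4 ∧ Cfsg.omegaOne 2 ((S : Subgroup G) ⊓ Cfsg.pResidual 2 G) = Cfsg.omegaOne 2 ((S : Subgroup G) ⊓ Subgroup.centralizer ((S : Subgroup G) : Set G))) := by
  have h : CfsgLib.ZNType.ZC S :=
    ⟨heven, fun t ht => by
      haveI : Fact (Nat.Prime 2) := ⟨Nat.prime_two⟩
      haveI := hN _ ⟨Subgroup.zpowers t,
        IsPGroup.of_card (n := 1) (by rw [Nat.card_zpowers, ht, pow_one]),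
        fun e => by rw [Subgroup.zpowers_eq_bot.1 e, orderOf_one] at ht; omega, rfl⟩
      exact Group.isSolvable_of_isSolvable_injective
        (f := Subgroup.inclusion (show Subgroup.centralizer ({t} : Set G) ≤
          Subgroup.normalizer (Subgroup.zpowers t : Set G) from fun c hc =>
            CfsgLib.Coprime.mem_normalizer_of_forall_conj fun x hx => by
              obtain ⟨i, rfl⟩ := hx
              have hc' : Commute c t := Subgroup.mem_centralizer_singleton_iff.1 hc
              show c * t ^ i * c⁻¹ ∈ Subgroup.zpowers t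
              rw [(hc'.zpow_right i).eq, mul_inv_cancel_right]
              exact ⟨i, rfl⟩))
        (Subgroup.inclusion_injective _), hZ, hO', hO⟩
  rcases CfsgLib.ZNType.zn_main h hN with h1 | h1 | h1
  · exact Or.inl h1
  · exact Or.inr (Or.inl h1)
  · exact Or.inr (Or.inr (Or.inr h1))

end Cfsg.Agent.S3758
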