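import Cfsg.Statements.S3760


set_option autoImplicit false
open Cfsg

namespace Cfsg.Agent.S3760

/-- Let the group G act transitively on a set X, let x ∈ X with stabilizer H = G_x, and let K ≤ H. Then N_G(K) acts transitively on the set of fixed points of K if and only if every G-conjugate of K contained in H is already an H-conjugate of K. -/
theorem result {G : Type*} [Group G] {X : Type*} [MulAction G X] (htrans : ∀ a b : X, ∃ g : G, g • a = b) (x : X) (K : Subgroup G) (hK : K ≤ MulAction.stabilizer G x) : (∀ a b : X, (∀ k ∈ K, k • a = a) → (∀ k ∈ K, k • b = b) → ∃ g ∈ Subgroup.normalizer (K : Set G), g • a = b) ↔ ∀ g : G, K.map (MulAut.conj g).toMonoidHom ≤ MulAction.stabilizer G x → ∃ h ∈ MulAction.stabilizer G x, K.map (MulAut.conj g).toMonoidHom = K.map (MulAut.conj h).toMonoidHom := by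
  constructor
  · intro htr g hg
    have hfix : ∀ k ∈ K, k • g⁻¹ • x = g⁻¹ • x := by
      intro k hk
      have h1 : g * k * g⁻¹ ∈ MulAction.stabilizer G x := hg (Subgroup.mem_map_of_mem _ hk)
      rw [MulAction.mem_stabilizer_iff, mul_smul, mul_smul] at h1
      have := congrArg (fun t => g⁻¹ • t) h1
      simpa using this
    obtain ⟨n, hn, hnx⟩ := htr x (g⁻¹ • x) (fun k hk => hK hk) hfix
    have hmem : g * n ∈ MulAction.stabilizer G x := by
      rw [MulAction.mem_stabilizer_iff, mul_smul, hnx, smul_inv_smul]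
    refine ⟨g * n, hmem, ?_⟩
    have hn' : K.map (MulAut.conj n).toMonoidHom = K := Subgroup.mem_normalizer_iff_map_conj_eq.mp hn
    conv_lhs => rw [← hn']
    rw [Subgroup.map_map]
    congr 1
    ext y
    simp [mul_assoc]
  · intro hconj
    suffices ∀ a : X, (∀ k ∈ K, k • a = a) → ∃ g ∈ Subgroup.normalizer (K : Set G), g • x = a by
      intro a b ha hb
      obtain ⟨g, hg, rfl⟩ := this a ha
      obtain ⟨g', hg', rfl⟩ := this b hb
      exact ⟨g' * g⁻¹, mul_mem hg' (inv_mem hg), by rw [mul_smul, inv_smul_smul]⟩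
    intro a ha
    obtain ⟨g, rfl⟩ := htrans x a
    have hle : K.map (MulAut.conj g⁻¹).toMonoidHom ≤ MulAction.stabilizer G x := by
      rintro _ ⟨k, hk, rfl⟩
      simp [MulAction.mem_stabilizer_iff, mul_smul, ha k hk]
    obtain ⟨h, hh, he⟩ := hconj g⁻¹ hle
    refine ⟨g * h, ?_, by rw [mul_smul, MulAction.mem_stabilizer_iff.mp hh]⟩
    rw [Subgroup.mem_normalizer_iff_map_conj_eq]
    have := congrArg (Subgroup.map (MulAut.conj g).toMonoidHom) he
    rw [Subgroup.map_map, Subgroup.map_map] at this
    refine Eq.trans ?_ (this.symm.trans ?_)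
    · congr 1
      ext y
      simp [mul_assoc]
    · ext y
      simp [mul_assoc]

end Cfsg.Agent.S3760
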