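import Cfsg.Statements.S4416
import Cfsg.Agent.Lib.PGroup.ExtraModel
import Cfsg.Agent.Lib.PGroup.ExtraspecialIso
-- import your own Cfsg.Agent.* helpers here

set_option autoImplicit false
open Cfsg

namespace Cfsg.Agent.S4416

open CfsgLib.ExtraModel

/-- Elements squaring to one, in terms of elements of order four. -/
theorem card_sq_one {X : Type*} [Group X] [Finite X] (h : Cfsg.IsExtraspecial 2 X) :
    Nat.card {x : X // x ^ 2 = 1} + Nat.card {x : X // orderOf x = 4} = Nat.card X := by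
  haveI := Fact.mk Nat.prime_two
  classical
  have h4 : ∀ x : X, orderOf x = 4 ↔ ¬ x ^ 2 = 1 := by
    intro x
    constructor
    · intro h' e
      have := orderOf_dvd_of_pow_eq_one e
      rw [h'] at this
      norm_num at this
    · intro h'
      exact orderOf_eq_prime_pow (p := 2) (n := 1) (by simpa using h')
        (CfsgLib.PGroup.extraspecial_pow_sq_eq_one h x)
  have := Fintype.ofFinite X
  rw [Nat.card_congr (Equiv.subtypeEquivRight (p := fun x : X => orderOf x = 4) (q := fun x => ¬ x ^ 2 = 1) h4),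
    ← Nat.card_sum, Nat.card_congr (Equiv.sumCompl (fun x : X => x ^ 2 = 1))]

/-- The two models. -/
def model (σ : Bool) (n : ℕ) : Fin (n + 1) → ZMod 2 := if σ then 0 else Fin.cons 1 0

theorem card_model (σ : Bool) (n : ℕ) :
    (Nat.card {a : Ext (model σ n) // a ^ 2 = 1} : ℤ) =
      if σ then 2 ^ (2 * (n + 1)) + 2 ^ (n + 1) else 2 ^ (2 * (n + 1)) - 2 ^ (n + 1) := by
  have h1 := card_sq_one (isExtraspecial (ε := model σ n) (by omega : 1 ≤ n + 1))
  rw [card_ext] at h1
  have h2 := card_orderOf_four (ε := model σ n)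
  have h3 : (Nat.card {x : Ext (model σ n) // x ^ 2 = 1} : ℤ) +
      Nat.card {x : Ext (model σ n) // orderOf x = 4} = 2 ^ (2 * (n + 1) + 1) := by exact_mod_cast h1
  have hprod : ∏ i, (if model σ n i = 0 then (2 : ℤ) else -2) =
      if σ then 2 ^ (n + 1) else -2 ^ (n + 1) := by
    cases σ <;> simp [model, Fin.prod_univ_succ, pow_succ']
  rw [h2, hprod, pow_succ (2 : ℤ) (2 * (n + 1))] at h3
  cases σ
  · simp only [Bool.false_eq_true, if_false] at h3 ⊢
    linarith
  · simp only [if_true] at h3 ⊢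
    linarith

/-- Isomorphisms preserve the count. -/
theorem cnt {X Y : Type*} [Group X] [Group Y] (e : X ≃* Y) :
    Nat.card {x : X // x ^ 2 = 1} = Nat.card {y : Y // y ^ 2 = 1} :=
  Nat.card_congr (Equiv.subtypeEquiv e.toEquiv fun x => by
    rw [MulEquiv.toEquiv_eq_coe, EquivLike.coe_coe, ← map_pow, MulEquiv.map_eq_one_iff])

/-- Every extraspecial 2-group is one of the two models. -/
theorem classify {X : Type*} [Group X] [Finite X] (n : ℕ) (hX : Cfsg.IsExtraspecial 2 X)
    (hXc : Nat.card X = 2 ^ (2 * (n + 1) + 1)) : ∃ σ, Nonempty (X ≃* Ext (model σ n)) := by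
  haveI := Fact.mk Nat.prime_two
  have hexm : ∀ σ, Cfsg.IsExtraspecial 2 (Ext (model σ n)) := fun σ => isExtraspecial (by omega)
  have hne : ¬ Nonempty (Ext (model true n) ≃* Ext (model false n)) := by
    rintro ⟨e⟩
    have h1 := card_model true n
    have h2 := card_model false n
    rw [cnt e] at h1
    simp only [if_true, Bool.false_eq_true, if_false] at h1 h2
    have : (0 : ℤ) < 2 ^ (n + 1) := by positivity
    linarith
  obtain ⟨z₁, hz₁, hz₁'⟩ := CfsgLib.ExtraIso.exists_center_ne_one hX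
  obtain ⟨z₂, hz₂, hz₂'⟩ := CfsgLib.ExtraIso.exists_center_ne_one (hexm true)
  obtain ⟨z₃, hz₃, hz₃'⟩ := CfsgLib.ExtraIso.exists_center_ne_one (hexm false)
  obtain h | h | h := CfsgLib.ExtraIso.graphIso_two hX (hexm true) (hexm false) hz₁ hz₁' hz₂ hz₂' hz₃ hz₃'
    _ ⊤ ⊤ ⊤ CfsgLib.ExtraIso.good_top CfsgLib.ExtraIso.good_top CfsgLib.ExtraIso.good_top rfl
    (by rw [Subgroup.card_top, Subgroup.card_top, card_ext, hXc])
    (by rw [Subgroup.card_top, Subgroup.card_top, card_ext, hXc])
  · exact ⟨true, h.toMulEquiv⟩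
  · exact absurd h.toMulEquiv hne
  · exact ⟨false, h.toMulEquiv⟩

/-- Classification of extraspecial 2-groups in intrinsic form. An extraspecial 2-group has order 2^(2m+1) for some m ≥ 1, and the number of its elements squaring to the identity is either 2^(2m) + 2^m or 2^(2m) − 2^m; two extraspecial 2-groups of the same order with the same number of such elements are isomorphic. (The two cases are the central products of m dihedral groups of order 8, and of m − 1 dihedral groups with one quaternion group.) -/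
theorem result (E : Type*) [Group E] [Finite E] (hE : Cfsg.IsExtraspecial 2 E) :
    (∃ m : ℕ, 1 ≤ m ∧ Nat.card E = 2 ^ (2 * m + 1) ∧
      (Nat.card {x : E // x ^ 2 = 1} = 2 ^ (2 * m) + 2 ^ m ∨ Nat.card {x : E // x ^ 2 = 1} = 2 ^ (2 * m) - 2 ^ m)) ∧
    ∀ (E' : Type*) [Group E'] [Finite E'], Cfsg.IsExtraspecial 2 E' → Nat.card E' = Nat.card E →
      Nat.card {x : E' // x ^ 2 = 1} = Nat.card {x : E // x ^ 2 = 1} → Nonempty (E ≃* E') := by
  classical
  haveI := Fact.mk Nat.prime_two
  obtain ⟨m, hm, hcard⟩ : ∃ m, 1 ≤ m ∧ Nat.card E = 2 ^ (2 * m + 1) := by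
    obtain ⟨m, hm, h⟩ := CfsgLib.PGroup.extraspecial_card hE
    exact ⟨m, hm, by rw [h]; ring_nf⟩
  obtain ⟨n, rfl⟩ : ∃ n, m = n + 1 := ⟨m - 1, by omega⟩
  obtain ⟨σ, ⟨e⟩⟩ := classify n hE hcard
  have hsq : (Nat.card {x : E // x ^ 2 = 1} : ℤ) =
      if σ then 2 ^ (2 * (n + 1)) + 2 ^ (n + 1) else 2 ^ (2 * (n + 1)) - 2 ^ (n + 1) := by
    rw [cnt e]; exact card_model σ n
  have hle : 2 ^ (n + 1) ≤ 2 ^ (2 * (n + 1)) := Nat.pow_le_pow_right (by norm_num) (by omega)
  refine ⟨⟨n + 1, hm, hcard, ?_⟩, ?_⟩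
  · cases σ
    · right
      simp only [Bool.false_eq_true, if_false] at hsq
      zify [hle]
      exact_mod_cast hsq
    · left
      simp only [if_true] at hsq
      exact_mod_cast hsq
  · intro E' _ _ hE' hc' hs'
    obtain ⟨σ', ⟨e'⟩⟩ := classify n hE' (hc'.trans hcard)
    have hsq' : (Nat.card {x : E' // x ^ 2 = 1} : ℤ) =
        if σ' then 2 ^ (2 * (n + 1)) + 2 ^ (n + 1) else 2 ^ (2 * (n + 1)) - 2 ^ (n + 1) := by
      rw [cnt e']; exact card_model σ' n
    rw [hs', hsq] at hsq'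
    have hσ : σ = σ' := by
      have : (0 : ℤ) < 2 ^ (n + 1) := by positivity
      cases σ <;> cases σ' <;> simp at hsq' ⊢ <;> linarith
    subst hσ
    exact ⟨e.trans e'.symm⟩

end Cfsg.Agent.S4416
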