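import Cfsg.Statements.S3763
import Cfsg.Agent.S4416
import Cfsg.Agent.Lib.Large.PlusType

set_option autoImplicit false
open Cfsg

namespace Cfsg.Agent.S3763

open CfsgLib.ExtraModel Cfsg.Agent.S4416

theorem pRankLE_congr {X Y : Type*} [Group X] [Group Y] (e : X ≃* Y) {k : ℕ} (h : Cfsg.PRankLE 2 k X) :
    Cfsg.PRankLE 2 k Y := by
  intro A hA hA2
  have hA' : IsMulCommutative (A.map e.symm.toMonoidHom) := by
    refine ⟨⟨?_⟩⟩
    rintro ⟨_, a, ha, rfl⟩ ⟨_, b, hb, rfl⟩
    refine Subtype.ext ?_
    show e.symm a * e.symm b = e.symm b * e.symm a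
    rw [← map_mul, ← map_mul]
    exact congrArg e.symm (congrArg Subtype.val (hA.is_comm.comm (⟨a, ha⟩ : A) ⟨b, hb⟩))
  have := h (A.map e.symm.toMonoidHom) hA' (by
    rintro _ ⟨a, ha, rfl⟩
    rw [← map_pow, hA2 a ha, map_one])
  rwa [Subgroup.card_map_of_injective e.symm.injective] at this

theorem pRankLE_upper {X : Type*} [Group X] [Finite X] (hX : Cfsg.IsExtraspecial 2 X) {n : ℕ}
    (hn : Nat.card X = 2 ^ (2 * n + 1)) : Cfsg.PRankLE 2 (n + 1) X := by
  haveI := Fact.mk Nat.prime_two
  intro A hA hA2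
  have h := CfsgLib.PGroup.extraspecial_abelian_card hX A hA
  rw [hn, ← pow_succ', show 2 * n + 1 + 1 = (n + 1) + (n + 1) by omega, pow_add] at h
  exact Nat.mul_self_le_mul_self_iff.1 h

theorem hexp {m : ℕ} (p : Multiplicative ((Fin m → ZMod 2) × ZMod 2)) : p ^ 2 = 1 := by
  rw [pow_two]
  exact Multiplicative.toAdd.injective (Prod.ext (funext fun i => CharTwo.add_self_eq_zero _)
    (CharTwo.add_self_eq_zero _))

theorem rank_plus (n : ℕ) : ¬ Cfsg.PRankLE 2 (n + 1) (Ext (model true n)) := by
  intro h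
  have hg : ∀ i : Fin (n + 1), true = true → model true n i = 0 := fun i _ => rfl
  let f := part (ε := model true n) (fun _ => true) hg
  have hf := elementaryAbelian_range hexp f
  have h1 := h f.range hf.1 hf.2
  have hinj : Function.Injective f := by
    intro p q hpq
    apply Multiplicative.toAdd.injective
    refine Prod.ext (funext fun j => ?_) (congrArg Ext.bit hpq)
    have := congrArg (fun a : Ext (model true n) => (a.vec j).1) hpq
    simpa [f, part] using this
  rw [← Nat.card_congr (MonoidHom.ofInjective hinj).toEquiv, Nat.card_congr Multiplicative.toAdd,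
    Nat.card_prod, Nat.card_fun, Nat.card_zmod, Nat.card_fin, ← pow_succ,
    Nat.pow_le_pow_iff_right (by norm_num)] at h1
  omega

theorem rank_minus_upper (n : ℕ) : Cfsg.PRankLE 2 (n + 1) (Ext (model false n)) := by
  haveI := Fact.mk Nat.prime_two
  intro A hA hA2
  have hX : Cfsg.IsExtraspecial 2 (Ext (model false n)) := isExtraspecial (by omega)
  have h1 := pRankLE_upper hX card_ext A hA hA2
  obtain ⟨k, hk⟩ := (IsPGroup.iff_card (p := 2)).mp
    (show IsPGroup 2 A from fun v => ⟨1, by rw [pow_one]; exact Subtype.ext (hA2 v v.2)⟩)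
  rw [hk, Nat.pow_le_pow_iff_right (by norm_num)] at h1 ⊢
  by_contra hlt
  have hkn : k = n + 1 + 1 := by omega
  have h4 := CfsgLib.Large.PlusType.card_orderOf_four (n + 1) hX card_ext A ⟨hA, hA2⟩ (by rw [hk, hkn])
  have h5 := card_orderOf_four (ε := model false n)
  have hprod : ∏ i, (if model false n i = 0 then (2 : ℤ) else -2) = -2 ^ (n + 1) := by
    simp [model, Fin.prod_univ_succ, pow_succ']
  rw [hprod] at h5
  rw [h4, Nat.cast_sub (Nat.pow_le_pow_right (by norm_num) (by omega))] at h5
  push_cast at h5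
  rw [pow_succ (2 : ℤ) n] at h5
  have : (0 : ℤ) < 2 ^ n := by positivity
  linarith

theorem rank_minus_lower (n : ℕ) : ¬ Cfsg.PRankLE 2 n (Ext (model false n)) := by
  intro h
  let sh : Multiplicative ((Fin n → ZMod 2) × ZMod 2) →* Multiplicative ((Fin (n + 1) → ZMod 2) × ZMod 2) :=
    AddMonoidHom.toMultiplicative
      { toFun := fun p => (Fin.cons 0 p.1, p.2)
        map_zero' := Prod.ext (funext fun i => by cases i using Fin.cases <;> simp) rfl
        map_add' := fun p q => Prod.ext (funext fun i => by cases i using Fin.cases <;> simp) rfl }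
  let g : Fin (n + 1) → Bool := fun i => decide (i ≠ 0)
  have hg : ∀ i, g i = true → model false n i = 0 := by
    intro i hi
    cases i using Fin.cases with
    | zero => simp [g] at hi
    | succ j => simp [model]
  let f := (part g hg).comp sh
  have hf := elementaryAbelian_range hexp f
  have h1 := h f.range hf.1 hf.2
  have hinj : Function.Injective f := by
    intro p q hpq
    apply Multiplicative.toAdd.injective
    refine Prod.ext (funext fun j => ?_) (congrArg Ext.bit hpq)
    have := congrArg (fun a : Ext (model false n) => (a.vec j.succ).1) hpq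
    simpa [f, part, sh, g] using this
  rw [← Nat.card_congr (MonoidHom.ofInjective hinj).toEquiv, Nat.card_congr Multiplicative.toAdd,
    Nat.card_prod, Nat.card_fun, Nat.card_zmod, Nat.card_fin, ← pow_succ,
    Nat.pow_le_pow_iff_right (by norm_num)] at h1
  omega


/-- Let E be an extraspecial 2-group of order 2^(2n+1). Then the largest elementary abelian subgroups of E have order 2^n or 2^(n+1); and two extraspecial 2-groups of the same order whose largest elementary abelian subgroups have the same order are isomorphic. -/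
theorem result {E : Type*} [Group E] [Finite E] (hE : Cfsg.IsExtraspecial 2 E) (n : ℕ) (hn : Nat.card E = 2 ^ (2 * n + 1)) : ((Cfsg.PRankLE 2 n E ∧ ¬ Cfsg.PRankLE 2 (n - 1) E) ∨ (Cfsg.PRankLE 2 (n + 1) E ∧ ¬ Cfsg.PRankLE 2 n E)) ∧ ∀ (E' : Type*) [Group E'] [Finite E'], Cfsg.IsExtraspecial 2 E' → Nat.card E' = Nat.card E → (∀ k : ℕ, Cfsg.PRankLE 2 k E ↔ Cfsg.PRankLE 2 k E') → Nonempty (E ≃* E') := by
  haveI := Fact.mk Nat.prime_two
  obtain ⟨m, hm1, hm⟩ := CfsgLib.PGroup.extraspecial_card hE
  have hmn : m = n := by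
    have := Nat.pow_right_injective le_rfl (hm.symm.trans hn)
    omega
  subst hmn
  obtain ⟨n, rfl⟩ : ∃ n, m = n + 1 := ⟨m - 1, by omega⟩
  obtain ⟨σ, ⟨e⟩⟩ := classify n hE hn
  refine ⟨?_, fun E' _ _ hE' hc hiff => ?_⟩
  · cases σ
    · exact Or.inl ⟨pRankLE_congr e.symm (rank_minus_upper n),
        fun h => rank_minus_lower n (pRankLE_congr e h)⟩
    · exact Or.inr ⟨pRankLE_upper hE hn, fun h => rank_plus n (pRankLE_congr e h)⟩
  · obtain ⟨τ, ⟨e'⟩⟩ := classify n hE' (hc.trans hn)
    cases σ <;> cases τ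
    · exact ⟨e.trans e'.symm⟩
    · exact absurd (pRankLE_congr e' ((hiff _).1 (pRankLE_congr e.symm (rank_minus_upper n)))) (rank_plus n)
    · exact absurd (pRankLE_congr e ((hiff _).2 (pRankLE_congr e'.symm (rank_minus_upper n)))) (rank_plus n)
    · exact ⟨e.trans e'.symm⟩

end Cfsg.Agent.S3763
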