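import Cfsg.Statements.S3764
import Cfsg.Agent.Lib.Structure.FpfModule
import Cfsg.Agent.Lib.PGroup.Extraspecial
import Cfsg.Agent.Lib.PGroup.ExtraspecialIso

set_option autoImplicit false
open Cfsg

namespace Cfsg.Agent.S3764

open Finset TensorProduct CfsgLib.OddOrder41.RootProj CfsgLib.OddOrder41.SymplecticCount
open scoped IsMulCommutative commutatorElement

theorem index_of_fpf {k : Type*} [Field k] [IsAlgClosed k] {r q : ℕ} [Fact r.Prime] [hq : Fact q.Prime]
    (hrk : (r : k) ≠ 0) (hqk : (q : k) ≠ 0) {Q : Type*} [Group Q] [Finite Q] (hQ : Cfsg.IsExtraspecial q Q)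
    {W : Type*} [AddCommGroup W] [Module k W] [FiniteDimensional k W] (ρ : Q →* Module.End k W)
    (hinj : Function.Injective ρ) (σ : MulAut Q) (hσ : σ ^ r = 1)
    (hσZ : ∀ z ∈ Subgroup.center Q, σ z = z)
    (hσfix : ∀ x, x⁻¹ * σ x ∈ Subgroup.center Q → x ∈ Subgroup.center Q)
    (U : Module.End k W) (hU : ∀ x, U * ρ x = ρ (σ x) * U)
    (hsum : ∀ w, ∑ i ∈ range r, (U ^ i) w = 0) :
    ∃ i, (Subgroup.center Q).index = i * i ∧ 1 < i ∧ i + 1 = r := by
  obtain ⟨z, hz, hz1⟩ := CfsgLib.ExtraIso.exists_center_ne_one hQ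
  have hzq : z ^ q = 1 := CfsgLib.PGroup.extraspecial_center_pow_eq_one hQ hz
  haveI : NeZero (q : k) := ⟨hqk⟩
  obtain ⟨η, hη⟩ := HasEnoughRootsOfUnity.exists_primitiveRoot k q
  have hT : ρ z ^ q = 1 := by rw [← map_pow, hzq, map_one]
  obtain ⟨i, hiq, hi0, hE0⟩ : ∃ i, i < q ∧ i ≠ 0 ∧ eigen η (ρ z) i ≠ ⊥ := by
    by_contra hcon
    push Not at hcon
    refine hz1 (hinj ?_)
    rw [map_one]
    refine LinearMap.ext fun w => ?_
    have h : ∀ j ∈ range q, ρ z (proj q η (ρ z) j w) = proj q η (ρ z) j w := by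
      intro j hj
      by_cases hj0 : j = 0
      · subst hj0
        rw [apply_proj hη hqk hT, pow_zero, one_smul]
      · have hmem : proj q η (ρ z) j w ∈ eigen η (ρ z) j := mem_eigen.mpr (apply_proj hη hqk hT j w)
        rw [hcon j (Finset.mem_range.mp hj) hj0, Submodule.mem_bot] at hmem
        rw [hmem, map_zero]
    rw [eq_sum_proj (T := ρ z) hη hqk w, map_sum, Module.End.one_apply]
    exact Finset.sum_congr rfl h
  set E := eigen η (ρ z) i with hEdef
  haveI : Nontrivial E := Submodule.nontrivial_iff_ne_bot.mpr hE0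
  have hEinv : ∀ f : Module.End k W, Commute f (ρ z) → ∀ w ∈ E, f w ∈ E := by
    intro f hf w hw
    rw [hEdef, mem_eigen] at hw ⊢
    rw [← Module.End.mul_apply, ← hf.eq, Module.End.mul_apply, hw, map_smul]
  have hρE : ∀ y, ∀ w ∈ E, ρ y w ∈ E := fun y => hEinv _ (by
    rw [commute_iff_eq, ← map_mul, ← map_mul, Subgroup.mem_center_iff.mp hz y])
  have hUE : ∀ w ∈ E, U w ∈ E := hEinv _ (by rw [commute_iff_eq, hU, hσZ z hz])
  let ρE : Q →* Module.End k E :=
    { toFun := fun y => (ρ y).restrict (hρE y)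
      map_one' := LinearMap.ext fun w => Subtype.ext (by show ρ 1 (w : W) = w; rw [map_one]; rfl)
      map_mul' := fun a b => LinearMap.ext fun w => Subtype.ext (by
        show ρ (a * b) (w : W) = ρ a (ρ b w)
        rw [map_mul]; rfl) }
  have hρz : ρE z = η ^ i • (1 : Module.End k E) := LinearMap.ext fun w => Subtype.ext (by
    show ρ z (w : W) = η ^ i • (w : W)
    exact mem_eigen.mp w.2)
  have hinjE : Function.Injective ρE := by
    rw [← MonoidHom.ker_eq_bot_iff]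
    by_contra hne
    have hzker : ρE z = 1 := CfsgLib.PGroup.extraspecial_center_le_of_normal hQ ρE.ker hne hz
    have h := scalar_inj (W := E) (a := η ^ i) (b := 1) (by rw [one_smul, ← hρz, hzker])
    exact hi0 (Nat.eq_zero_of_dvd_of_lt ((hη.pow_eq_one_iff_dvd i).mp h) hiq)
  have hex : ∀ w ∈ Subgroup.center Q, ∃ a : k, ρE w = a • (1 : Module.End k E) := by
    intro w hw
    rw [← CfsgLib.PGroup.extraspecial_zpowers_eq_center hQ hz hz1, ← mem_powers_iff_mem_zpowers] at hw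
    obtain ⟨j, rfl⟩ := (Submonoid.mem_powers_iff _ _).mp hw
    exact ⟨(η ^ i) ^ j, by rw [map_pow, hρz, smul_pow, one_pow]⟩
  classical
  choose χ hχ using hex
  let S : ScalarCentre ρE :=
    { χ := fun w => if hw : w ∈ Subgroup.center Q then χ w hw else 0
      hχ := fun w hw => by rw [dif_pos hw]; exact hχ w hw
      hclass := CfsgLib.PGroup.extraspecial_comm_mem_center hQ
      hinj := hinjE }
  have hQk : (Nat.card Q : k) ≠ 0 := by
    obtain ⟨m, -, hm⟩ := CfsgLib.PGroup.extraspecial_card hQ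
    rw [hm, Nat.cast_pow]; exact pow_ne_zero _ hqk
  have hna : Subgroup.center Q ≠ ⊤ := by
    intro h
    refine CfsgLib.PGroup.extraspecial_not_isMulCommutative hQ ?_
    exact ⟨⟨fun a b => Subgroup.mem_center_iff.mp (h ▸ Subgroup.mem_top b) a⟩⟩
  haveI : NeZero (r : k) := ⟨hrk⟩
  obtain ⟨ζ, hζ⟩ := HasEnoughRootsOfUnity.exists_primitiveRoot k r
  have hUpow : ∀ (j : ℕ) (w : E), (((U.restrict hUE) ^ j) w : W) = (U ^ j) (w : W) := by
    intro j
    induction j with
    | zero => intro w; rfl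
    | succ j ih =>
      intro w
      rw [pow_succ', pow_succ', Module.End.mul_apply, Module.End.mul_apply, ← ih]; rfl
  exact CfsgLib.Structure.center_index_of_fpf S hQk hna ζ hζ hrk σ hσ hσfix (U.restrict hUE)
    (fun y => LinearMap.ext fun w => Subtype.ext (LinearMap.congr_fun (hU y) (w : W)))
    (fun w => Subtype.ext (by
      rw [AddSubmonoidClass.coe_finsetSum, Finset.sum_congr rfl fun j _ => hUpow j w, hsum]; rfl))

theorem index_of_fpf_mod {r q ℓ : ℕ} [hr : Fact r.Prime] [hq : Fact q.Prime] [hℓ : Fact ℓ.Prime]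
    (hrℓ : r ≠ ℓ) (hqℓ : q ≠ ℓ) {Q : Type*} [Group Q] [Finite Q] (hQ : Cfsg.IsExtraspecial q Q)
    {V : Type*} [AddCommGroup V] [Module (ZMod ℓ) V] [Finite V] (ρ : Q →* Module.End (ZMod ℓ) V)
    (hinj : Function.Injective ρ) (σ : MulAut Q) (hσ : σ ^ r = 1)
    (hσZ : ∀ z ∈ Subgroup.center Q, σ z = z)
    (hσfix : ∀ x, x⁻¹ * σ x ∈ Subgroup.center Q → x ∈ Subgroup.center Q)
    (U : Module.End (ZMod ℓ) V) (hU : ∀ x, U * ρ x = ρ (σ x) * U)
    (hsum : ∀ v, ∑ i ∈ range r, (U ^ i) v = 0) :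
    ∃ i, (Subgroup.center Q).index = i * i ∧ 1 < i ∧ i + 1 = r := by
  haveI : Module.Finite (ZMod ℓ) V := Module.Finite.of_finite
  let k := AlgebraicClosure (ZMod ℓ)
  haveI : CharP k ℓ := charP_of_injective_algebraMap (algebraMap (ZMod ℓ) k).injective ℓ
  have hne : ∀ s : ℕ, s.Prime → s ≠ ℓ → (s : k) ≠ 0 := fun s hs hsℓ h =>
    hsℓ ((Nat.prime_dvd_prime_iff_eq hℓ.out hs).mp ((CharP.cast_eq_zero_iff k ℓ s).mp h)).symm
  let bc : Module.End (ZMod ℓ) V →ₐ[ZMod ℓ] Module.End k (k ⊗[ZMod ℓ] V) := Module.End.baseChangeHom (ZMod ℓ) k V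
  have hbc : Function.Injective bc := by
    intro f g h
    refine LinearMap.ext fun v => ?_
    have hv : (1 : k) ⊗ₜ[ZMod ℓ] f v = (1 : k) ⊗ₜ[ZMod ℓ] g v := LinearMap.congr_fun h ((1 : k) ⊗ₜ[ZMod ℓ] v)
    exact Module.Flat.tensorProduct_mk_injective (ZMod ℓ) V k hv
  have h0 : ∑ i ∈ range r, U ^ i = 0 := LinearMap.ext fun v => by rw [LinearMap.sum_apply]; exact hsum v
  exact index_of_fpf (k := k) (hne r hr.out hrℓ) (hne q hq.out hqℓ) hQ
    ((bc : Module.End (ZMod ℓ) V →* Module.End k (k ⊗[ZMod ℓ] V)).comp ρ) (hbc.comp hinj) σ hσ hσZ hσfix (bc U)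
    (fun y => by
      show bc U * bc (ρ y) = bc (ρ (σ y)) * bc U
      rw [← map_mul, ← map_mul, hU y])
    (fun w => by
      rw [← LinearMap.sum_apply]
      simp only [← map_pow, ← map_sum, h0, map_zero]
      rfl)

theorem index_of_fpf_group {G : Type*} [Group G] [Finite G] {p q r : ℕ} [Fact p.Prime] [Fact q.Prime]
    [Fact r.Prime] (hpq : p ≠ q) (hpr : p ≠ r) (hqr : q ≠ r) (X Q V : Subgroup G) [IsMulCommutative V]
    [Module (ZMod p) (Additive V)] (hX : Nat.card X = r) (hQ : Cfsg.IsExtraspecial q ↥Q)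
    (hXQ : X ≤ Subgroup.normalizer (Q : Set G))
    (hCQ : Q ⊓ Subgroup.centralizer (X : Set G) = (Subgroup.center ↥Q).map Q.subtype)
    (hL : Q ⊔ X ≤ Subgroup.normalizer (V : Set G))
    (hfaith : (X ⊔ Q) ⊓ Subgroup.centralizer (V : Set G) = ⊥)
    (hCV : V ⊓ Subgroup.centralizer (X : Set G) = ⊥) :
    ∃ i, (Subgroup.center ↥Q).index = i * i ∧ 1 < i ∧ i + 1 = r := by
  haveI : IsCyclic X := isCyclic_of_prime_card hX
  obtain ⟨⟨x, hx⟩, hgen⟩ := IsCyclic.exists_generator (α := X)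
  have hxr : x ^ r = 1 := by
    have := congrArg Subtype.val (pow_card_eq_one' (x := (⟨x, hx⟩ : X)))
    rw [hX] at this; exact this
  have hcomm : ∀ y : G, x * y = y * x → y ∈ Subgroup.centralizer (X : Set G) := fun y h =>
    Subgroup.mem_centralizer_iff.mpr fun g hg => by
      obtain ⟨i, hi⟩ := Subgroup.mem_zpowers_iff.mp (hgen ⟨g, hg⟩)
      have hgi : g = x ^ i := (congrArg Subtype.val hi).symm
      rw [hgi]
      exact (Commute.zpow_left h i).eq
  set xL : (Q ⊔ X : Subgroup G) := ⟨x, le_sup_right (a := Q) hx⟩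
  have hsum := CfsgLib.Structure.vAction_sum_pow_eq_zero p V (Q ⊔ X) hL xL (n := r) (Subtype.ext hxr)
    (fun v hv h => by
      have h1 : v ∈ V ⊓ Subgroup.centralizer (X : Set G) := ⟨hv, hcomm v h⟩
      rwa [hCV, Subgroup.mem_bot] at h1)
  let σ : MulAut Q := Q.normalizerMonoidHom ⟨x, hXQ hx⟩
  have hσ : σ ^ r = 1 := by
    rw [← map_pow, show (⟨x, hXQ hx⟩ : Subgroup.normalizer (Q : Set G)) ^ r = 1 from Subtype.ext hxr, map_one]
  have hσapp : ∀ y : Q, ((σ y : Q) : G) = x * y * x⁻¹ := fun y => rfl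
  have hfixc : ∀ y : Q, σ y = y ↔ y ∈ Subgroup.center ↥Q := by
    intro y
    constructor
    · intro h
      have h1 : (y : G) ∈ Q ⊓ Subgroup.centralizer (X : Set G) :=
        ⟨y.2, hcomm y (by have := congrArg Subtype.val h; rwa [hσapp, mul_inv_eq_iff_eq_mul] at this)⟩
      rw [hCQ] at h1
      obtain ⟨z, hz, hzy⟩ := h1
      rwa [← Subtype.ext hzy]
    · intro h
      have h1 : (y : G) ∈ Q ⊓ Subgroup.centralizer (X : Set G) := hCQ ▸ ⟨y, h, rfl⟩
      apply Subtype.ext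
      rw [hσapp, mul_inv_eq_iff_eq_mul]
      exact Subgroup.mem_centralizer_iff.mp h1.2 x hx
  have hσfix : ∀ a, a⁻¹ * σ a ∈ Subgroup.center ↥Q → a ∈ Subgroup.center ↥Q := by
    intro a ha
    set y := a⁻¹ * σ a with hy
    have hyfix : σ y = y := (hfixc y).mpr ha
    have hiter : ∀ i : ℕ, (σ ^ i) a = a * y ^ i := by
      intro i
      induction i with
      | zero => simp
      | succ i ih =>
        rw [pow_succ', MulAut.mul_apply, ih, map_mul, map_pow, hyfix, pow_succ' y, hy, ← mul_assoc,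
          mul_inv_cancel_left]
    have h1 : y ^ r = 1 := by
      have h := hiter r
      rw [hσ, MulAut.one_apply] at h
      exact left_eq_mul.mp h
    have h2 : y ^ q = 1 := CfsgLib.PGroup.extraspecial_center_pow_eq_one hQ ha
    have hy1 : y = 1 := orderOf_eq_one_iff.mp (Nat.eq_one_of_dvd_coprimes
      ((Nat.coprime_primes (Fact.out : r.Prime) (Fact.out : q.Prime)).mpr hqr.symm)
      (orderOf_dvd_of_pow_eq_one h1) (orderOf_dvd_of_pow_eq_one h2))
    exact (hfixc a).mp (inv_mul_eq_one.mp hy1).symm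
  let ρL := CfsgLib.Structure.vAction p V (Q ⊔ X) hL
  let ρQ := ρL.comp (Subgroup.inclusion (le_sup_left : Q ≤ Q ⊔ X))
  refine index_of_fpf_mod (V := Additive V) hpr.symm hpq.symm hQ ρQ ?_ σ hσ (fun z hz => (hfixc z).mpr hz) hσfix
    (ρL xL) (fun y => ?_) hsum
  · rw [← MonoidHom.ker_eq_bot_iff, eq_bot_iff]
    intro y hy
    have h1 := (CfsgLib.Structure.vAction_eq_one_iff p V (Q ⊔ X) hL _).mp (show ρL (Subgroup.inclusion (le_sup_left : Q ≤ Q ⊔ X) y) = 1 from hy)
    have h2 : (y : G) ∈ (X ⊔ Q) ⊓ Subgroup.centralizer (V : Set G) := ⟨le_sup_right (a := X) y.2, h1⟩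
    rw [hfaith, Subgroup.mem_bot] at h2
    exact Subgroup.mem_bot.mpr (Subtype.ext h2)
  · show ρL xL * ρL (Subgroup.inclusion le_sup_left y) = ρL (Subgroup.inclusion le_sup_left (σ y)) * ρL xL
    rw [← map_mul, ← map_mul]
    congr 1
    apply Subtype.ext
    show x * (y : G) = x * y * x⁻¹ * x
    group


/-- Let p, q, r be distinct primes and let X, Q, V be subgroups of a finite group with X of order r, Q an extraspecial q-group normalized by X with C_Q(X) = Z(Q), and V an elementary abelian p-group normalized by X and Q on which XQ acts faithfully ((X ⊔ Q) ∩ C(V) = 1). If C_V(X) = 1, then q = 2, r = 2^n + 1 for some n, and Q has order 2^(2n+1). -/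
theorem result {G : Type*} [Group G] [Finite G] {p q r : ℕ} (hp : p.Prime) (hq : q.Prime) (hr : r.Prime) (hpq : p ≠ q) (hpr : p ≠ r) (hqr : q ≠ r) (X Q V : Subgroup G) (hX : Nat.card X = r) (hQ : Cfsg.IsExtraspecial q ↥Q) (hXQ : X ≤ Subgroup.normalizer (Q : Set G)) (hCQ : Q ⊓ Subgroup.centralizer (X : Set G) = (Subgroup.center ↥Q).map Q.subtype) (hV : Cfsg.IsElementaryAbelian p V) (hXV : X ≤ Subgroup.normalizer (V : Set G)) (hQV : Q ≤ Subgroup.normalizer (V : Set G)) (hfaith : (X ⊔ Q) ⊓ Subgroup.centralizer (V : Set G) = ⊥) (hCV : V ⊓ Subgroup.centralizer (X : Set G) = ⊥) : q = 2 ∧ ∃ n : ℕ, r = 2 ^ n + 1 ∧ Nat.card Q = 2 ^ (2 * n + 1) := by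
  haveI := Fact.mk hp
  haveI := Fact.mk hq
  haveI := Fact.mk hr
  haveI : IsMulCommutative V := hV.1
  letI := CfsgLib.Structure.vModule p V hV.2
  obtain ⟨i, hi, hi1, hir⟩ := index_of_fpf_group hpq hpr hqr X Q V hX hQ hXQ hCQ (sup_le hQV hXV) hfaith hCV
  obtain ⟨m, hm1, hm⟩ := CfsgLib.PGroup.extraspecial_card hQ
  have hidx := (Subgroup.center ↥Q).card_mul_index
  rw [hQ.2, hi, hm, pow_add, pow_one] at hidx
  have him : i = q ^ m := by
    have h1 := Nat.eq_of_mul_eq_mul_left hq.pos hidx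
    rw [two_mul, pow_add] at h1
    exact Nat.mul_self_inj.mp h1
  have hr2 : r ≠ 2 := by omega
  have hev : 2 ∣ i := by
    have := hr.eq_two_or_odd.resolve_left hr2
    omega
  rw [him] at hev
  have hq2 : q = 2 := ((Nat.prime_dvd_prime_iff_eq Nat.prime_two hq).mp (Nat.prime_two.dvd_of_dvd_pow hev)).symm
  subst hq2
  exact ⟨rfl, m, by omega, by rw [hm]; congr 1; omega⟩

end Cfsg.Agent.S3764
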