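import Cfsg.Statements.S3766
import Cfsg.Agent.Lib.Structure.MinimalNormal
import Cfsg.Agent.Lib.Solvable.Fitting

set_option autoImplicit false
open Cfsg

namespace Cfsg.Agent.S3766

open Subgroup

variable {G : Type*} [Group G] [Finite G]

theorem nilpotent_normal_centralizes_minNormal {M F : Subgroup G} [F.Normal] (hM : CfsgLib.Structure.IsMinNormal M)
    (hF : Group.IsNilpotent F) : ⁅M, F⁆ = ⊥ := by
  haveI := hM.normal
  rcases hM.inf_eq_bot_or_le (inferInstance : F.Normal) with h | h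
  · exact le_bot_iff.mp ((commutator_le_inf M F).trans h.le)
  · rcases hM.2.2 ⁅M, F⁆ inferInstance (commutator_le_left M F) with h' | h'
    · exact h'
    · exfalso
      have key : ∀ n, M ≤ F.lowerCentralSeries n := by
        intro n
        induction n with
        | zero => simpa using h
        | succ n ih => rw [Subgroup.lowerCentralSeries_succ, ← h']; exact commutator_mono ih le_rfl
      obtain ⟨n, hn⟩ := (isNilpotent_iff_lowerCentralSeries (S := F)).mp hF
      exact hM.ne_bot (le_bot_iff.mp ((key n).trans hn.le))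

theorem fitting_centralizes_chief {g : G} (hg : g ∈ Cfsg.fittingSubgroup G) (U V : Subgroup G)
    (hc : U.Normal ∧ V.Normal ∧ V < U ∧ ∀ W : Subgroup G, W.Normal → V ≤ W → W ≤ U → W = V ∨ W = U)
    (u : G) (hu : u ∈ U) : u * g * u⁻¹ * g⁻¹ ∈ V := by
  obtain ⟨hU, hV, hlt, hmax⟩ := hc
  haveI := hV
  haveI := CfsgLib.Fitting.fitting_normal (G := G)
  haveI : ((Cfsg.fittingSubgroup G).map (QuotientGroup.mk' V)).Normal :=
    Normal.map inferInstance _ (QuotientGroup.mk'_surjective V)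
  have hM : CfsgLib.Structure.IsMinNormal (U.map (QuotientGroup.mk' V)) := by
    refine ⟨fun h => hlt.not_ge ?_, hU.map _ (QuotientGroup.mk'_surjective V), fun K hK hKU => ?_⟩
    · rwa [Subgroup.map_eq_bot_iff, QuotientGroup.ker_mk'] at h
    · have h1 : V ≤ K.comap (QuotientGroup.mk' V) := fun x hx => by
        rw [mem_comap, QuotientGroup.mk'_apply, (QuotientGroup.eq_one_iff x).mpr hx]; exact one_mem K
      have h2 : K.comap (QuotientGroup.mk' V) ≤ U := by
        refine (comap_mono hKU).trans (le_of_eq ?_)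
        rw [comap_map_eq, QuotientGroup.ker_mk', sup_eq_left.mpr hlt.le]
      have he := map_comap_eq_self_of_surjective (QuotientGroup.mk'_surjective V) K
      rcases hmax _ (hK.comap _) h1 h2 with h | h
      · left; rw [← he, h, QuotientGroup.map_mk'_self]
      · right; rw [← he, h]
  have h := nilpotent_normal_centralizes_minNormal (F := (Cfsg.fittingSubgroup G).map (QuotientGroup.mk' V)) hM
    (CfsgLib.Fitting.isNilpotent_map CfsgLib.Fitting.fitting_isNilpotent _)
  have hmem : QuotientGroup.mk' V (u * g * u⁻¹ * g⁻¹) ∈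
      ⁅U.map (QuotientGroup.mk' V), (Cfsg.fittingSubgroup G).map (QuotientGroup.mk' V)⁆ := by
    rw [← Subgroup.map_commutator]
    exact mem_map_of_mem _ (commutator_mem_commutator hu hg)
  rw [h, mem_bot] at hmem
  exact (QuotientGroup.eq_one_iff _).mp hmem

theorem mem_fitting_of_centralizes (hG : Group.IsSolvable G) (N : Subgroup G) [N.Normal] {g : G}
    (hg : g ∈ N) (hc : ∀ U V : Subgroup G, (U.Normal ∧ V.Normal ∧ V < U ∧ ∀ W : Subgroup G, W.Normal →
      V ≤ W → W ≤ U → W = V ∨ W = U) → U ≤ Cfsg.fittingSubgroup G ⊓ N → ∀ u ∈ U, u * g * u⁻¹ * g⁻¹ ∈ V) :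
    g ∈ Cfsg.fittingSubgroup G := by
  set F := Cfsg.fittingSubgroup G ⊓ N with hF
  haveI := CfsgLib.Fitting.fitting_normal (G := G)
  let C : Subgroup G :=
    { carrier := {g | g ∈ N ∧ ∀ U V : Subgroup G, (U.Normal ∧ V.Normal ∧ V < U ∧ ∀ W : Subgroup G, W.Normal →
        V ≤ W → W ≤ U → W = V ∨ W = U) → U ≤ F → ∀ u ∈ U, u * g * u⁻¹ * g⁻¹ ∈ V}
      mul_mem' := fun {a b} ha hb => ⟨mul_mem ha.1 hb.1, fun U V h hUF u hu => by
        have e : u * (a * b) * u⁻¹ * (a * b)⁻¹ = (u * a * u⁻¹ * a⁻¹) * (a * (u * b * u⁻¹ * b⁻¹) * a⁻¹) := by group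
        rw [e]
        exact mul_mem (ha.2 U V h hUF u hu) (h.2.1.conj_mem _ (hb.2 U V h hUF u hu) a)⟩
      one_mem' := ⟨one_mem N, fun U V h _ u _ => by simp [one_mem]⟩
      inv_mem' := fun {a} ha => ⟨inv_mem ha.1, fun U V h hUF u hu => by
        have e : u * a⁻¹ * u⁻¹ * a⁻¹⁻¹ = a⁻¹ * (u * a * u⁻¹ * a⁻¹)⁻¹ * a⁻¹⁻¹ := by group
        rw [e]
        exact h.2.1.conj_mem _ (inv_mem (ha.2 U V h hUF u hu)) a⁻¹⟩ }
  haveI hCn : C.Normal := ⟨fun a ha x => ⟨(inferInstance : N.Normal).conj_mem a ha.1 x, fun U V h hUF u hu => by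
    have e : u * (x * a * x⁻¹) * u⁻¹ * (x * a * x⁻¹)⁻¹ =
        x * ((x⁻¹ * u * x⁻¹⁻¹) * a * (x⁻¹ * u * x⁻¹⁻¹)⁻¹ * a⁻¹) * x⁻¹ := by group
    rw [e]
    exact h.2.1.conj_mem _ (ha.2 U V h hUF _ (h.1.conj_mem u hu x⁻¹)) x⟩⟩
  have hgC : g ∈ C := ⟨hg, hc⟩
  suffices hCF : C ≤ F from (hCF hgC).1
  by_contra hnot
  haveI : Group.IsSolvable C := inferInstance
  let D : ℕ → Subgroup G := fun k => (derivedSeries C k).map C.subtype
  obtain ⟨n, hn⟩ := (Group.isSolvable_def C).mp inferInstance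
  have hexists : ∃ k, D k ≤ F := ⟨n, by simp [D, hn]⟩
  classical
  have hk0 : Nat.find hexists ≠ 0 := fun h0 => hnot (by
    have := Nat.find_spec hexists
    rw [h0] at this
    simpa [D, ← MonoidHom.range_eq_map] using this)
  obtain ⟨k, hk⟩ := Nat.exists_eq_succ_of_ne_zero hk0
  have hDk : ¬ D k ≤ F := Nat.find_min hexists (hk ▸ Nat.lt_succ_self k)
  have hDk1 : D (k + 1) ≤ F := by
    have h := Nat.find_spec hexists
    rwa [hk] at h
  set C0 := D k ⊔ F with hC0
  haveI : (D k).Normal := inferInstanceAs ((derivedSeries C k).map C.subtype).Normal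
  haveI : C0.Normal := inferInstance
  have hC0C : C0 ≤ C := sup_le (map_subtype_le _) fun f hf => ⟨hf.2, fun U V h _ u hu =>
    fitting_centralizes_chief hf.1 U V h u hu⟩
  have hcomm : ⁅C0, C0⁆ ≤ F := by
    have hmap : C0.map (QuotientGroup.mk' F) = (D k).map (QuotientGroup.mk' F) := by
      rw [hC0, Subgroup.map_sup, QuotientGroup.map_mk'_self, sup_bot_eq]
    rw [← QuotientGroup.ker_mk' F, ← Subgroup.map_eq_bot_iff, Subgroup.map_commutator, hmap,
      ← Subgroup.map_commutator, Subgroup.map_eq_bot_iff, QuotientGroup.ker_mk']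
    refine le_trans (le_of_eq ?_) hDk1
    exact (Subgroup.map_commutator _ _ _).symm
  have hlow : ∀ m, ∀ U : Subgroup G, Nat.card U = m → U.Normal → U ≤ F →
      (∃ j, C0.lowerCentralSeries j ≤ U) → ∃ j, C0.lowerCentralSeries j = ⊥ := by
    intro m
    induction m using Nat.strong_induction_on with
    | _ m ih =>
      intro U hU hUn hUF ⟨j, hj⟩
      rcases eq_or_ne U ⊥ with rfl | hne
      · exact ⟨j, le_bot_iff.mp hj⟩
      obtain ⟨V, -, hV⟩ := ({V : Subgroup G | V.Normal ∧ V < U}).toFinite.exists_le_maximal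
        (a := ⊥) ⟨normal_bot, hne.bot_lt⟩
      obtain ⟨hVn, hVU⟩ := hV.prop
      have hchief : ∀ W : Subgroup G, W.Normal → V ≤ W → W ≤ U → W = V ∨ W = U := by
        intro W hW h1 h2
        by_cases h : W = U
        · exact Or.inr h
        · exact Or.inl (le_antisymm (hV.le_of_ge ⟨hW, lt_of_le_of_ne h2 h⟩ h1) h1)
      refine ih (Nat.card V) ?_ V rfl hVn (hVU.le.trans hUF) ⟨j + 1, ?_⟩
      · rw [← hU]
        exact lt_of_le_of_ne (card_le_of_le hVU.le) fun he => hVU.ne (eq_of_le_of_card_ge hVU.le he.ge)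
      · rw [Subgroup.lowerCentralSeries_succ]
        refine (commutator_mono hj le_rfl).trans ?_
        rw [commutator_le]
        intro u hu c hc'
        exact (hC0C hc').2 U V ⟨hUn, hVn, hVU, hchief⟩ hUF u hu
  obtain ⟨j, hj⟩ := hlow _ F rfl inferInstance le_rfl ⟨1, by
    rw [Subgroup.lowerCentralSeries_succ, Subgroup.lowerCentralSeries_zero]; exact hcomm⟩
  have hnil : Group.IsNilpotent C0 := isNilpotent_of_lowerCentralSeries_eq_bot hj
  exact hDk (le_sup_left.trans ((le_inf ((le_sSup ⟨inferInstance, hnil⟩ : C0 ≤ Cfsg.fittingSubgroup G))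
    (fun x hx => (hC0C hx).1))))


/-- Let G be a finite solvable group and N a normal subgroup of G. Call a pair V < U of normal subgroups of G a chief factor of G when no normal subgroup of G lies strictly between them; an element g centralizes the chief factor U/V when u g u⁻¹ g⁻¹ ∈ V for all u ∈ U. Then an element of G lies in the Fitting subgroup F(N) if and only if it lies in N and centralizes every chief factor of G; and also if and only if it lies in N and centralizes every chief factor U/V of G with U ≤ F(N). -/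
theorem result {G : Type*} [Group G] [Finite G] (hG : Group.IsSolvable G) (N : Subgroup G) [N.Normal] (g : G) : (g ∈ (Cfsg.fittingSubgroup ↥N).map N.subtype ↔ g ∈ N ∧ ∀ U V : Subgroup G, (U.Normal ∧ V.Normal ∧ V < U ∧ ∀ W : Subgroup G, W.Normal → V ≤ W → W ≤ U → W = V ∨ W = U) → ∀ u ∈ U, u * g * u⁻¹ * g⁻¹ ∈ V) ∧ (g ∈ (Cfsg.fittingSubgroup ↥N).map N.subtype ↔ g ∈ N ∧ ∀ U V : Subgroup G, (U.Normal ∧ V.Normal ∧ V < U ∧ ∀ W : Subgroup G, W.Normal → V ≤ W → W ≤ U → W = V ∨ W = U) → U ≤ (Cfsg.fittingSubgroup ↥N).map N.subtype → ∀ u ∈ U, u * g * u⁻¹ * g⁻¹ ∈ V) := by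
  rw [CfsgLib.Fitting.map_fitting_of_normal (inferInstance : N.Normal)]
  exact ⟨⟨fun h => ⟨h.2, fun U V hc u hu => fitting_centralizes_chief h.1 U V hc u hu⟩,
      fun h => ⟨mem_fitting_of_centralizes hG N h.1 (fun U V hc _ => h.2 U V hc), h.1⟩⟩,
    ⟨fun h => ⟨h.2, fun U V hc _ u hu => fitting_centralizes_chief h.1 U V hc u hu⟩,
      fun h => ⟨mem_fitting_of_centralizes hG N h.1 h.2, h.1⟩⟩⟩

end Cfsg.Agent.S3766
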