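import Cfsg.Statements.S3767
import Cfsg.Agent.Lib.HallHigman.FullyRamified
import Cfsg.Agent.Lib.OddOrder41.RootProjection
import Cfsg.Agent.Lib.PGroup.Extraspecial
import Cfsg.Agent.Lib.PGroup.ExtraspecialIso

set_option autoImplicit false
open Cfsg

namespace Cfsg.Agent.S3767

open Module Finset CfsgLib.HallHigman CfsgLib.OddOrder41.RootProj
open scoped commutatorElement

theorem mod_of_variance {h : ℕ} (hh : 0 < h) (a : Fin h → ℕ)
    (H : h * ∑ i, a i * a i ≤ (∑ i, a i) * (∑ i, a i) + (h - 1)) :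
    h ∣ (∑ i, a i) ∨ (∑ i, a i) % h = 1 ∨ (∑ i, a i) % h = h - 1 := by
  set s := ∑ i, a i with hs
  set c := s / h
  set ρ := s % h with hρ
  have hρlt : ρ < h := Nat.mod_lt _ hh
  have hsum : (s : ℤ) = h * c + ρ := by exact_mod_cast (Nat.div_add_mod s h).symm
  have h1 : ∀ i, (2 * (c : ℤ) + 1) * a i - c * (c + 1) ≤ (a i : ℤ) * a i := by
    intro i
    rcases le_or_gt (a i : ℤ) (c : ℤ) with h | h
    · nlinarith [mul_nonneg_of_nonpos_of_nonpos (sub_nonpos.2 h) (show (a i : ℤ) - c - 1 ≤ 0 by linarith)]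
    · nlinarith [mul_nonneg (show (0 : ℤ) ≤ (a i : ℤ) - c by linarith) (show (0 : ℤ) ≤ (a i : ℤ) - c - 1 by linarith)]
  have h2 := Finset.sum_le_sum (s := Finset.univ) fun i _ => h1 i
  rw [Finset.sum_sub_distrib, ← Finset.mul_sum, Finset.sum_const, Finset.card_univ, Fintype.card_fin,
    nsmul_eq_mul, ← Nat.cast_sum, ← hs] at h2
  have H' : (h : ℤ) * ∑ i, (a i : ℤ) * a i ≤ (s : ℤ) * s + ((h : ℤ) - 1) := by
    have := Int.ofNat_le.2 H
    push_cast [Nat.cast_sub (show 1 ≤ h from hh)] at this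
    simpa using this
  have h3 := mul_le_mul_of_nonneg_left h2 (Int.natCast_nonneg h)
  have h4 : (ρ : ℤ) * ((h : ℤ) - ρ) ≤ (h : ℤ) - 1 := by
    rw [hsum] at h3 H'
    nlinarith [h3.trans H']
  rcases Nat.eq_zero_or_pos ρ with h0 | h0
  · exact Or.inl (Nat.dvd_of_mod_eq_zero h0)
  rcases Nat.eq_or_lt_of_le h0 with h5 | h5
  · exact Or.inr (Or.inl h5.symm)
  right; right
  by_contra h6
  have h7 : (2 : ℤ) ≤ ρ := by exact_mod_cast h5
  have h8 : (ρ : ℤ) ≤ (h : ℤ) - 2 := by
    have : ρ + 2 ≤ h := by omega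
    have : (ρ : ℤ) + 2 ≤ h := by exact_mod_cast this
    linarith
  nlinarith [mul_le_mul_of_nonneg_right h7 (show (0 : ℤ) ≤ (h : ℤ) - ρ by linarith)]

theorem eigen_count {k W : Type*} [Field k] [AddCommGroup W] [Module k W] [FiniteDimensional k W] {h : ℕ}
    {ζ : k} (hζ : IsPrimitiveRoot ζ h) (hh : (h : k) ≠ 0) (T : Module.End k W) (hT : T ^ h = 1)
    (C : Submodule k (Module.End k W)) (hC : ∀ f, T * f = f * T → f ∈ C) :
    finrank k W = ∑ i : Fin h, finrank k (eigen ζ T i) ∧
      ∑ i : Fin h, finrank k (eigen ζ T i) * finrank k (eigen ζ T i) ≤ finrank k C := by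
  classical
  have hpr : ∀ (i : Fin h) w, proj h ζ T i w ∈ eigen ζ T i := fun i w =>
    mem_eigen.mpr (apply_proj hζ hh hT i w)
  have horth : ∀ (i j : Fin h), j ≠ i → ∀ v ∈ eigen ζ T i, proj h ζ T j v = 0 := by
    intro i j hji v hv
    have h1 : T (proj h ζ T j v) = ζ ^ (i : ℕ) • proj h ζ T j v := by
      rw [← map_smul, ← mem_eigen.mp hv]
      exact (LinearMap.congr_fun (proj_commute (Commute.refl T) (j : ℕ)).eq v)
    rw [apply_proj hζ hh hT, ← sub_eq_zero, ← sub_smul] at h1
    refine (smul_eq_zero.mp h1).resolve_left fun h2 => hji (Fin.ext ?_)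
    exact hζ.pow_inj j.2 i.2 (sub_eq_zero.mp h2)
  let split : W →ₗ[k] ((i : Fin h) → eigen ζ T i) :=
    LinearMap.pi fun i => LinearMap.codRestrict _ (proj h ζ T i) (hpr i)
  have hinj : Function.Injective split := by
    rw [← LinearMap.ker_eq_bot, Submodule.eq_bot_iff]
    intro w hw
    rw [eq_sum_proj (T := T) hζ hh w, ← Fin.sum_univ_eq_sum_range (fun i => proj h ζ T i w) h]
    exact Finset.sum_eq_zero fun i _ => congrArg Subtype.val (congrFun hw i)
  have hsurj : Function.Surjective split := by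
    intro g
    refine ⟨∑ i, (g i : W), funext fun j => Subtype.ext ?_⟩
    show proj h ζ T j (∑ i, (g i : W)) = g j
    rw [map_sum, Finset.sum_eq_single j (fun i _ hij => horth i j (Ne.symm hij) _ (g i).2)
      (fun hn => absurd (Finset.mem_univ j) hn)]
    exact proj_apply_of_eigen hζ hh (mem_eigen.mp (g j).2)
  refine ⟨?_, ?_⟩
  · rw [(LinearEquiv.ofBijective split ⟨hinj, hsurj⟩).finrank_eq, finrank_pi_fintype]
  let blk : ((i : Fin h) → Module.End k (eigen ζ T i)) →ₗ[k] Module.End k W :=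
    { toFun := fun g => ∑ i : Fin h, (eigen ζ T i).subtype ∘ₗ (g i) ∘ₗ LinearMap.codRestrict _ (proj h ζ T i) (hpr i)
      map_add' := fun g g' => LinearMap.ext fun w => by simp [Finset.sum_add_distrib]
      map_smul' := fun a g => LinearMap.ext fun w => by simp [Finset.smul_sum] }
  have hblk : ∀ g, blk g ∈ C := by
    intro g
    refine hC _ (LinearMap.ext fun w => ?_)
    show T ((∑ i : Fin h, _ : Module.End k W) w) = (∑ i : Fin h, _ : Module.End k W) (T w)
    rw [LinearMap.sum_apply, LinearMap.sum_apply, map_sum]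
    refine Finset.sum_congr rfl fun i _ => ?_
    show T ((g i ⟨proj h ζ T i w, hpr i w⟩ : eigen ζ T i) : W) = ((g i ⟨proj h ζ T i (T w), hpr i _⟩ : eigen ζ T i) : W)
    have h1 : (⟨proj h ζ T i (T w), hpr i _⟩ : eigen ζ T i) = ζ ^ (i : ℕ) • ⟨proj h ζ T i w, hpr i w⟩ :=
      Subtype.ext (by
        show proj h ζ T i (T w) = ζ ^ (i : ℕ) • proj h ζ T i w
        rw [← apply_proj hζ hh hT]
        exact (LinearMap.congr_fun (proj_commute (Commute.refl T) (i : ℕ)).eq w).symm)
    rw [h1, map_smul]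
    exact mem_eigen.mp (g i ⟨proj h ζ T i w, hpr i w⟩).2
  refine le_of_eq_of_le ?_ (LinearMap.finrank_le_finrank_of_injective (f := LinearMap.codRestrict C blk hblk) ?_)
  · rw [finrank_pi_fintype]
    exact Finset.sum_congr rfl fun i _ => (Module.finrank_linearMap k k _ _).symm
  rw [← LinearMap.ker_eq_bot, Submodule.eq_bot_iff]
  intro g hg
  refine funext fun i => LinearMap.ext fun v => Subtype.ext ?_
  have h := LinearMap.congr_fun (congrArg Subtype.val hg) (v : W)
  change (∑ j : Fin _, _ : Module.End k W) (v : W) = 0 at h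
  rw [LinearMap.sum_apply, Finset.sum_eq_single i] at h
  · have e : (LinearMap.codRestrict _ (proj _ ζ T i) (hpr i)) (v : W) = v :=
      Subtype.ext (proj_apply_of_eigen hζ hh (mem_eigen.mp v.2))
    simpa [e] using h
  · intro j _ hji
    have e' : (LinearMap.codRestrict _ (proj _ ζ T j) (hpr j)) (v : W) = 0 := Subtype.ext (horth i j hji _ v.2)
    simp [e']
  · exact fun hn => absurd (Finset.mem_univ i) hn

theorem commutant_le {Q W : Type*} [Group Q] [Finite Q] [AddCommGroup W] [Module ℂ W] [FiniteDimensional ℂ W]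
    [Nontrivial W] {ρ : Q →* Module.End ℂ W} (hirr : IsIrred ρ)
    (hcl : ∀ g h : Q, ⁅g, h⁆ ∈ Subgroup.center Q) (hram : IsFullyRamified ρ) (σ : MulAut Q) {h : ℕ} (hh : 0 < h)
    (hσ : σ ^ h = 1) (hfree : ∀ i g, 0 < i → i < h → g⁻¹ * (σ ^ i) g ∈ Subgroup.center Q → g ∈ Subgroup.center Q)
    (hna : ∃ g, g ∉ Subgroup.center Q)
    (T : Module.End ℂ W) (hT : T ^ h = 1) (hTρ : ∀ g, T * ρ g = ρ (σ g) * T)
    (C : Submodule ℂ (Module.End ℂ W)) (hC : ∀ f ∈ C, T * f = f * T) :
    h * finrank ℂ C ≤ Nat.card (Q ⧸ Subgroup.center Q) + (h - 1) := by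
  classical
  set Z := Subgroup.center Q with hZ
  have hmap : Z.map σ.toMonoidHom = Z := Subgroup.characteristic_iff_map_eq.mp inferInstance σ
  let M := Q ⧸ Z
  haveI := Fintype.ofFinite M
  let π : Equiv.Perm M := (QuotientGroup.congr Z Z σ hmap).toEquiv
  have hπ : ∀ (i : ℕ) (g : Q), (π ^ i) (g : M) = (((σ ^ i) g : Q) : M) := by
    intro i
    induction i with
    | zero => intro g; rfl
    | succ i ih =>
      intro g
      rw [pow_succ, Equiv.Perm.mul_apply, pow_succ σ, MulAut.mul_apply, ← ih (σ g)]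
      rfl
  have hπh : π ^ h = 1 := Equiv.ext fun c => by rw [← QuotientGroup.out_eq' c, hπ, hσ]; rfl
  have hπord : orderOf π = h := by
    refine (Nat.le_of_dvd hh (orderOf_dvd_of_pow_eq_one hπh)).antisymm (not_lt.mp fun hlt => ?_)
    obtain ⟨g, hg⟩ := hna
    have h1 := hπ (orderOf π) g
    rw [pow_orderOf_eq_one, Equiv.Perm.one_apply] at h1
    exact hg (hfree _ g (orderOf_pos π) hlt (QuotientGroup.eq.mp h1))
  let P := Subgroup.zpowers π
  haveI := Fintype.ofFinite P
  let O := Quotient (MulAction.orbitRel P M)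
  haveI : Fintype O := Fintype.ofFinite _
  have hPc : Nat.card P = h := by rw [Nat.card_zpowers, hπord]
  have horb : h * Nat.card O = Nat.card M + (h - 1) := by
    haveI : ∀ a : P, Fintype ↑(MulAction.fixedBy M a) := fun a => Fintype.ofFinite _
    have hb := MulAction.sum_card_fixedBy_eq_card_orbits_mul_card_group P M
    rw [← Nat.card_eq_fintype_card, ← Nat.card_eq_fintype_card, hPc] at hb
    rw [mul_comm, ← hb, ← Finset.add_sum_erase _ _ (Finset.mem_univ (1 : P))]
    congr 1
    · rw [← Nat.card_eq_fintype_card]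
      refine Nat.card_congr (Equiv.subtypeUnivEquiv (p := fun c => c ∈ MulAction.fixedBy M (1 : P)) fun c => ?_)
      exact one_smul P c
    · have hone : ∀ a ∈ Finset.univ.erase (1 : P), Fintype.card ↑(MulAction.fixedBy M a) = 1 := by
        intro a ha
        obtain ⟨i, hi⟩ := (Submonoid.mem_powers_iff _ _).mp (mem_powers_iff_mem_zpowers.mpr a.2)
        have hi' : (a : Equiv.Perm M) = π ^ (i % h) := by rw [← hi, ← pow_eq_pow_mod i hπh]
        rw [Fintype.card_eq_one_iff]
        refine ⟨⟨((1 : Q) : M), ?_⟩, fun c => Subtype.ext ?_⟩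
        · show (a : Equiv.Perm M) _ = _
          rw [hi', hπ, map_one]
        · have hc : (a : Equiv.Perm M) c.1 = c.1 := c.2
          obtain ⟨g, hg⟩ := QuotientGroup.mk_surjective c.1
          rw [hi', ← hg, hπ] at hc
          rw [← hg]
          refine (QuotientGroup.eq_one_iff g).mpr (hfree (i % h) g (Nat.pos_of_ne_zero fun h0 => ?_)
            (Nat.mod_lt _ hh) (QuotientGroup.eq.mp hc.symm))
          refine (Finset.mem_erase.mp ha).1 (Subtype.ext ?_)
          rw [hi', h0, pow_zero]; rfl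
      rw [Finset.sum_congr rfl hone, Finset.sum_const, Finset.card_erase_of_mem (Finset.mem_univ _),
        Finset.card_univ, smul_eq_mul, mul_one, ← Nat.card_eq_fintype_card, hPc]
  rw [← horb]
  refine Nat.mul_le_mul_left _ ?_
  let b := Module.Basis.mk (linearIndependent_cosetOp hirr hcl hram) (span_cosetOp_eq_top hirr).ge
  have hb : ∀ a, b a = cosetOp ρ a := fun a => Module.Basis.mk_apply _ _ a
  have hcoef : ∀ a : M, ∃ ν : ℂ, T * b a = ν • (b (π a) * T) := by
    intro a
    obtain ⟨d, -, hd⟩ := exists_smul_cosetOp hirr (σ a.out)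
    have hidx : ((σ a.out : Q) : M) = π a := by
      rw [← pow_one π, ← pow_one σ, ← hπ, pow_one, QuotientGroup.out_eq']
    refine ⟨d, ?_⟩
    rw [hidx] at hd
    rw [hb, hb]
    show T * ρ a.out = _
    rw [hTρ, hd, smul_mul_assoc]
  choose ν hν using hcoef
  have hTu : T * T ^ (h - 1) = 1 := by rw [← pow_succ', Nat.sub_add_cancel hh, hT]
  have hrec : ∀ f ∈ C, ∀ a, b.repr f (π a) = ν a * b.repr f a := by
    intro f hf a
    have h1 : ∑ c, (b.repr f c * ν c) • b (π c) = f := by
      calc ∑ c, (b.repr f c * ν c) • b (π c) = (∑ c, (b.repr f c * ν c) • b (π c)) * (T * T ^ (h - 1)) := by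
            rw [hTu, mul_one]
        _ = (∑ c, b.repr f c • (T * b c)) * T ^ (h - 1) := by
            rw [← mul_assoc, Finset.sum_mul]
            congr 1
            exact Finset.sum_congr rfl fun c _ => by rw [hν, smul_smul, smul_mul_assoc]
        _ = (T * f) * T ^ (h - 1) := by
            congr 1
            conv_rhs => rw [← b.sum_repr f, Finset.mul_sum]
            exact Finset.sum_congr rfl fun c _ => (mul_smul_comm _ _ _).symm
        _ = f := by rw [hC f hf, mul_assoc, hTu, mul_one]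
    rw [← Equiv.sum_comp π.symm] at h1
    simp only [Equiv.apply_symm_apply] at h1
    have h2 : b.repr f (π a) = b.repr f (π.symm (π a)) * ν (π.symm (π a)) := by
      have h3 := congrArg (fun g => b.repr g (π a)) h1
      simp only [map_sum, map_smul, Finsupp.coe_finset_sum, Finset.sum_apply, Finsupp.coe_smul,
        Pi.smul_apply, Module.Basis.repr_self, Finsupp.single_apply, smul_eq_mul, mul_ite, mul_one, mul_zero,
        Finset.sum_ite_eq', Finset.mem_univ, if_true] at h3
      rw [Finset.sum_eq_single (π a) (fun c _ hc => if_neg hc) (fun hc => absurd (Finset.mem_univ _) hc),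
        if_pos rfl] at h3
      exact h3.symm
    rw [h2, Equiv.symm_apply_apply, mul_comm]
  let Ψ : C →ₗ[ℂ] (O → ℂ) :=
    { toFun := fun f o => b.repr (f : Module.End ℂ W) o.out
      map_add' := fun f g => funext fun o => by simp
      map_smul' := fun c f => funext fun o => by simp }
  refine le_of_le_of_eq (LinearMap.finrank_le_finrank_of_injective (f := Ψ) ?_) ?_
  · rw [← LinearMap.ker_eq_bot, Submodule.eq_bot_iff]
    intro f hf
    apply Subtype.ext
    refine b.repr.injective (Finsupp.ext fun c => ?_)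
    rw [Submodule.coe_zero, map_zero, Finsupp.zero_apply]
    have hrel : c ∈ MulAction.orbit P (Quotient.mk (MulAction.orbitRel P M) c).out := by
      rw [← MulAction.orbitRel_apply]
      exact (MulAction.orbitRel P M).symm (Quotient.mk_out c)
    obtain ⟨a, ha⟩ := hrel
    obtain ⟨i, hi⟩ := (Submonoid.mem_powers_iff _ _).mp (mem_powers_iff_mem_zpowers.mpr a.2)
    have hall : ∀ i : ℕ, b.repr (f : Module.End ℂ W) ((π ^ i) (Quotient.mk (MulAction.orbitRel P M) c).out) = 0 := by
      intro i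
      induction i with
      | zero => exact congrFun hf _
      | succ i ih => rw [pow_succ', Equiv.Perm.mul_apply, hrec _ f.2, ih, mul_zero]
    have h1 := hall i
    rw [hi] at h1
    change b.repr (f : Module.End ℂ W) (a • _) = 0 at h1
    rwa [show a • (Quotient.mk (MulAction.orbitRel P M) c).out = c from ha] at h1
  · rw [Module.finrank_pi, Nat.card_eq_fintype_card]

theorem exists_faithful_irred {Q : Type*} [Group Q] [Finite Q] {p : ℕ} [hp : Fact p.Prime]
    (hQ : Cfsg.IsExtraspecial p Q) :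
    ∃ (W : Submodule ℂ (Q → ℂ)) (ρ : Q →* Module.End ℂ W), Nontrivial W ∧ IsIrred ρ ∧
      Function.Injective ρ := by
  classical
  obtain ⟨z, hz, hz1⟩ := CfsgLib.ExtraIso.exists_center_ne_one hQ
  haveI := Fintype.ofFinite Q
  let R : Q →* Module.End ℂ (Q → ℂ) :=
    { toFun := fun g => LinearMap.funLeft ℂ ℂ (fun x => x * g)
      map_one' := LinearMap.ext fun f => funext fun x => by simp [LinearMap.funLeft_apply]
      map_mul' := fun g h => LinearMap.ext fun f => funext fun x => by simp [LinearMap.funLeft_apply, mul_assoc] }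
  have hR : ∀ g f x, R g f x = f (x * g) := fun _ _ _ => rfl
  obtain ⟨η, hη⟩ := HasEnoughRootsOfUnity.exists_primitiveRoot ℂ p
  have hpc : ((p : ℕ) : ℂ) ≠ 0 := Nat.cast_ne_zero.mpr hp.out.ne_zero
  have hzp : z ^ p = 1 := CfsgLib.PGroup.extraspecial_center_pow_eq_one hQ hz
  have hT : R z ^ p = 1 := by rw [← map_pow, hzp, map_one]
  obtain ⟨i, hip, hi0, hE⟩ : ∃ i, i < p ∧ i ≠ 0 ∧ eigen η (R z) i ≠ ⊥ := by
    by_contra hcon
    push Not at hcon
    have hfix : ∀ f, R z f = f := by
      intro f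
      have h : ∀ j ∈ range p, R z (proj p η (R z) j f) = proj p η (R z) j f := by
        intro j hj
        by_cases hj0 : j = 0
        · subst hj0
          rw [apply_proj hη hpc hT, pow_zero, one_smul]
        · have hmem : proj p η (R z) j f ∈ eigen η (R z) j := mem_eigen.mpr (apply_proj hη hpc hT j f)
          rw [hcon j (Finset.mem_range.mp hj) hj0, Submodule.mem_bot] at hmem
          rw [hmem, map_zero]
      conv_lhs => rw [eq_sum_proj (T := R z) hη hpc f, map_sum, Finset.sum_congr rfl h]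
      rw [← eq_sum_proj (T := R z) hη hpc f]
    have h := congrFun (hfix (Pi.single z 1)) 1
    rw [hR, one_mul, Pi.single_eq_same, Pi.single_eq_of_ne hz1.symm] at h
    exact one_ne_zero h
  have hE' : ∀ g, ∀ f ∈ eigen η (R z) i, R g f ∈ eigen η (R z) i := by
    intro g f hf
    rw [mem_eigen] at hf ⊢
    rw [← Module.End.mul_apply, ← map_mul, ← Subgroup.mem_center_iff.mp hz g, map_mul, Module.End.mul_apply, hf,
      map_smul]
  have hex : ∃ n, ∃ W : Submodule ℂ (Q → ℂ),
      W ≤ eigen η (R z) i ∧ W ≠ ⊥ ∧ (∀ g, ∀ w ∈ W, R g w ∈ W) ∧ finrank ℂ W = n :=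
    ⟨_, eigen η (R z) i, le_rfl, hE, hE', rfl⟩
  obtain ⟨W, hWE, hW0, hWinv, hWn⟩ := Nat.find_spec hex
  let ρ : Q →* Module.End ℂ W :=
    { toFun := fun g => (R g).restrict (hWinv g)
      map_one' := LinearMap.ext fun w => Subtype.ext (by show R 1 (w : Q → ℂ) = w; rw [map_one]; rfl)
      map_mul' := fun a b => LinearMap.ext fun w => Subtype.ext (by
        show R (a * b) (w : Q → ℂ) = R a (R b w)
        rw [map_mul]; rfl) }
  haveI hnt : Nontrivial W := Submodule.nontrivial_iff_ne_bot.mpr hW0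
  refine ⟨W, ρ, hnt, fun S hS => ?_, ?_⟩
  · by_contra hcon
    push Not at hcon
    obtain ⟨hS0, hS1⟩ := hcon
    have hlt : finrank ℂ S < finrank ℂ W := Submodule.finrank_lt hS1
    refine Nat.find_min hex (hWn ▸ hlt) ⟨S.map W.subtype, ?_, ?_, ?_, ?_⟩
    · exact (Submodule.map_subtype_le W S).trans hWE
    · exact fun h => hS0 (Submodule.map_injective_of_injective W.injective_subtype (h.trans (Submodule.map_bot _).symm))
    · rintro g _ ⟨w, hw, rfl⟩
      exact ⟨ρ g w, hS g w hw, rfl⟩
    · exact (Submodule.equivMapOfInjective W.subtype W.injective_subtype S).finrank_eq.symm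
  · rw [← MonoidHom.ker_eq_bot_iff]
    by_contra hne
    have hzker : ρ z = 1 := CfsgLib.PGroup.extraspecial_center_le_of_normal hQ ρ.ker hne hz
    obtain ⟨w, hw⟩ := exists_ne (0 : W)
    have h1 : R z (w : Q → ℂ) = w := congrArg Subtype.val (LinearMap.congr_fun hzker w)
    rw [mem_eigen.mp (hWE w.2)] at h1
    have h2 : (η ^ i - 1) • (w : Q → ℂ) = 0 := by rw [sub_smul, one_smul, h1, sub_self]
    rcases smul_eq_zero.mp h2 with h | h
    · exact hi0 (Nat.eq_zero_of_dvd_of_lt ((hη.pow_eq_one_iff_dvd i).mp (sub_eq_zero.mp h)) hip)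
    · exact hw (Subtype.ext h)


/-- Let P be an extraspecial p-group of order p^(2n+1) and H a cyclic group of order h prime to p acting on P (inside a common finite group: H normalizes P) so that C_P(x) = Z(P) for every non-identity x ∈ H. Then h divides p^n + 1 or h divides p^n − 1. -/
theorem result {G : Type*} [Group G] [Finite G] {p : ℕ} [Fact p.Prime] (P H : Subgroup G) (hP : Cfsg.IsExtraspecial p ↥P) (n : ℕ) (hn : Nat.card P = p ^ (2 * n + 1)) (hH : IsCyclic H) (hcop : (Nat.card H).Coprime p) (hHP : H ≤ Subgroup.normalizer (P : Set G)) (hfix : ∀ x ∈ H, x ≠ 1 → P ⊓ Subgroup.centralizer {x} = (Subgroup.center ↥P).map P.subtype) : Nat.card H ∣ p ^ n + 1 ∨ Nat.card H ∣ p ^ n - 1 := by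
  classical
  haveI := hH
  obtain ⟨⟨x, hx⟩, hgen⟩ := IsCyclic.exists_generator (α := H)
  set h := Nat.card H with hh_def
  have hh : 0 < h := Nat.card_pos
  have hxh : x ^ h = 1 := congrArg Subtype.val (pow_card_eq_one' (x := (⟨x, hx⟩ : H)))
  have hordx : orderOf x = h := by
    rw [← Subgroup.orderOf_mk x hx]
    exact orderOf_eq_card_of_forall_mem_zpowers hgen
  by_cases h1 : h = 1
  · right; rw [h1]; exact one_dvd _
  let σ : MulAut P := P.normalizerMonoidHom ⟨x, hHP hx⟩
  have hσi : ∀ i : ℕ, ∀ g : P, (((σ ^ i) g : P) : G) = x ^ i * g * (x ^ i)⁻¹ := fun i g => by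
    rw [← map_pow]; rfl
  have hσ : σ ^ h = 1 := by
    rw [← map_pow, show (⟨x, hHP hx⟩ : Subgroup.normalizer (P : Set G)) ^ h = 1 from Subtype.ext hxh, map_one]
  have hpi : ∀ i, 0 < i → i < h → ∀ g : P, (σ ^ i) g = g ↔ g ∈ Subgroup.center ↥P := by
    intro i hi0 hih g
    have hne : x ^ i ≠ 1 := pow_ne_one_of_lt_orderOf hi0.ne' (by rw [hordx]; exact hih)
    have hf := hfix _ (H.pow_mem hx i) hne
    constructor
    · intro hg
      have hmem : (g : G) ∈ P ⊓ Subgroup.centralizer ({x ^ i} : Set G) := by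
        refine ⟨g.2, Subgroup.mem_centralizer_iff.mpr ?_⟩
        rintro _ rfl
        have := congrArg Subtype.val hg
        rwa [hσi, mul_inv_eq_iff_eq_mul] at this
      rw [hf] at hmem
      obtain ⟨g', hg', hgg⟩ := hmem
      rwa [← Subtype.ext hgg]
    · intro hg
      have hmem : (g : G) ∈ P ⊓ Subgroup.centralizer ({x ^ i} : Set G) := hf ▸ ⟨g, hg, rfl⟩
      apply Subtype.ext
      rw [hσi, mul_inv_eq_iff_eq_mul]
      exact Subgroup.mem_centralizer_iff.mp hmem.2 _ rfl
  have hfree : ∀ i g, 0 < i → i < h → g⁻¹ * (σ ^ i) g ∈ Subgroup.center ↥P → g ∈ Subgroup.center ↥P := by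
    intro i g hi0 hih hy
    set τ := σ ^ i with hτ
    set y := g⁻¹ * τ g with hydef
    have hyfix : τ y = y := (hpi i hi0 hih y).mpr hy
    have hiter : ∀ j : ℕ, (τ ^ j) g = g * y ^ j := by
      intro j
      induction j with
      | zero => simp
      | succ j ih =>
        rw [pow_succ', MulAut.mul_apply, ih, map_mul, map_pow, hyfix, pow_succ' y, hydef, ← mul_assoc,
          mul_inv_cancel_left]
    have hy1 : y ^ h = 1 := by
      have h2 := hiter h
      rw [hτ, ← pow_mul, mul_comm, pow_mul, hσ, one_pow, MulAut.one_apply] at h2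
      exact left_eq_mul.mp h2
    have hy2 : y ^ p = 1 := CfsgLib.PGroup.extraspecial_center_pow_eq_one hP hy
    have hy0 : y = 1 := orderOf_eq_one_iff.mp (Nat.eq_one_of_dvd_coprimes hcop
      (orderOf_dvd_of_pow_eq_one hy1) (orderOf_dvd_of_pow_eq_one hy2))
    exact (hpi i hi0 hih g).mp (inv_mul_eq_one.mp hy0).symm
  have hσz : ∀ z ∈ Subgroup.center ↥P, σ z = z := fun z hz => by
    have := (hpi 1 one_pos (by omega) z).mpr hz
    rwa [pow_one] at this
  have hna : ∃ g, g ∉ Subgroup.center ↥P := by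
    by_contra hcon
    push Not at hcon
    exact CfsgLib.PGroup.extraspecial_not_isMulCommutative hP
      ⟨⟨fun a b => Subgroup.mem_center_iff.mp (hcon b) a⟩⟩
  obtain ⟨W, ρ, hWnt, hirr, hinj⟩ := exists_faithful_irred hP
  have hcl := CfsgLib.PGroup.extraspecial_comm_mem_center hP
  have hram : IsFullyRamified ρ := fun g hg => Subgroup.mem_center_iff.mpr fun a =>
    (hinj (by rw [map_mul, map_mul]; exact hg a)).symm
  obtain ⟨T, hT, hTρ⟩ := exists_twist hirr hcl hram σ hh hσ fun z hz => congrArg ρ (hσz z hz)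
  let C : Submodule ℂ (Module.End ℂ W) :=
    { carrier := {f | T * f = f * T}
      add_mem' := fun {f g} (hf : T * f = f * T) (hg : T * g = g * T) => by
        show T * (f + g) = (f + g) * T
        rw [mul_add, add_mul, hf, hg]
      zero_mem' := by show T * 0 = 0 * T; rw [mul_zero, zero_mul]
      smul_mem' := fun a f (hf : T * f = f * T) => by
        show T * (a • f) = (a • f) * T
        rw [mul_smul_comm, smul_mul_assoc, hf] }
  obtain ⟨ζ, hζ⟩ := (⟨_, Complex.isPrimitiveRoot_exp h hh.ne'⟩ : ∃ ζ : ℂ, IsPrimitiveRoot ζ h)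
  obtain ⟨hsum, hsq⟩ := eigen_count hζ (Nat.cast_ne_zero.mpr hh.ne') T hT C fun f hf => hf
  have hle := commutant_le hirr hcl hram σ hh hσ hfree hna T hT hTρ C fun f hf => hf
  have hd := finrank_sq hirr hcl hram
  have hidx : Nat.card (↥P ⧸ Subgroup.center ↥P) = p ^ n * p ^ n := by
    have := (Subgroup.center ↥P).card_mul_index
    rw [hP.2, hn, pow_succ, two_mul, pow_add, mul_comm p] at this
    rw [← Subgroup.index_eq_card]
    exact Nat.eq_of_mul_eq_mul_right (Fact.out : p.Prime).pos this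
  have hdim : finrank ℂ W = p ^ n := Nat.mul_self_inj.mp (by rw [← pow_two, hd, hidx])
  rw [hdim] at hsum
  rw [hidx] at hle
  have hmod := mod_of_variance hh (fun i : Fin h => finrank ℂ (eigen ζ T i))
    (by rw [← hsum]; exact (Nat.mul_le_mul_left h hsq).trans hle)
  rw [← hsum] at hmod
  have hp0 : 0 < p ^ n := pow_pos (Fact.out : p.Prime).pos n
  rcases hmod with h2 | h2 | h2
  · exact absurd (Nat.eq_one_of_dvd_coprimes (hcop.pow_right n) dvd_rfl h2) h1
  · right
    exact (Nat.modEq_iff_dvd' hp0).mp (show 1 ≡ p ^ n [MOD h] by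
      rw [Nat.ModEq, h2, Nat.mod_eq_of_lt (by omega)])
  · left
    refine Nat.dvd_of_mod_eq_zero ?_
    rw [Nat.add_mod, h2, Nat.mod_eq_of_lt (show 1 < h by omega), Nat.sub_add_cancel hh, Nat.mod_self]

end Cfsg.Agent.S3767
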