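import Cfsg.Statements.S3768
import Cfsg.Agent.Lib.Frobenius.Theorem
import Cfsg.Agent.Lib.Frobenius.Basic
import Cfsg.Agent.Lib.Coprime.Action

set_option autoImplicit false
open Cfsg

namespace Cfsg.Agent.S3768

/-- Let G be a finite Frobenius group with Frobenius complement R and Frobenius kernel K (the identity together with the elements in no conjugate of R), and let N be a normal subgroup of G not containing K. Then G/N is a Frobenius group with Frobenius complement RN/N whose Frobenius kernel is the image of K. -/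
theorem result {G : Type*} [Group G] [Finite G] (R : Subgroup G) (hR : Cfsg.IsFrobeniusComplement R) (N : Subgroup G) [N.Normal] (hKN : ¬ Cfsg.frobeniusKernel R ⊆ N) : Cfsg.IsFrobeniusComplement (R.map (QuotientGroup.mk' N)) ∧ Cfsg.frobeniusKernel (R.map (QuotientGroup.mk' N)) = QuotientGroup.mk' N '' Cfsg.frobeniusKernel R := by
  obtain ⟨K, hKset, hKn, hK⟩ := CfsgLib.Frobenius.exists_normal_kernel hR
  haveI := hKn
  set f := QuotientGroup.mk' N with hf
  have hNK : N ≤ K := by
    rcases CfsgLib.Frobenius.normal_le_or_ge hR hK N with h | h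
    · exact h
    · exact absurd (hKset ▸ (SetLike.coe_subset_coe.mpr h)) hKN
  have hfsurj : Function.Surjective f := QuotientGroup.mk'_surjective N
  haveI : (K.map f).Normal := hKn.map f hfsurj
  have hdisj : K ⊓ R = ⊥ := disjoint_iff.mp hK.disjoint
  have hRK : R.map f ⊓ K.map f = ⊥ := by
    rw [eq_bot_iff]
    rintro _ ⟨⟨r, hr, rfl⟩, ⟨k, hk, hkr⟩⟩
    have hd : k⁻¹ * r ∈ N := QuotientGroup.eq.mp hkr
    have hrK : r ∈ K ⊓ R := ⟨by simpa using mul_mem hk (hNK hd), hr⟩
    rw [hdisj, Subgroup.mem_bot] at hrK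
    simp [hrK]
  have hcompl : (K.map f).IsComplement' (R.map f) := by
    refine Subgroup.isComplement'_of_disjoint_and_mul_eq_univ (disjoint_iff.mpr (by rw [inf_comm]; exact hRK)) ?_
    rw [← Subgroup.normal_mul, ← Subgroup.map_sup, hK.sup_eq_top, Subgroup.map_top_of_surjective f hfsurj]
    rfl
  have hKne : K.map f ≠ ⊥ := by
    intro h
    rw [Subgroup.map_eq_bot_iff, hf, QuotientGroup.ker_mk'] at h
    exact hKN (hKset ▸ SetLike.coe_subset_coe.mpr h)
  have hRne : R.map f ≠ ⊥ := by
    intro h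
    rw [Subgroup.map_eq_bot_iff, hf, QuotientGroup.ker_mk'] at h
    exact hR.1 (le_bot_iff.mp ((le_inf (h.trans hNK) le_rfl).trans hdisj.le))
  have hfree : ∀ r ∈ R.map f, r ≠ 1 → ∀ k ∈ K.map f, r * k = k * r → k = 1 := by
    rintro _ ⟨r, hr, rfl⟩ hr1 _ ⟨k, hk, rfl⟩ hcomm
    have hr1' : r ≠ 1 := fun h => hr1 (by rw [h, map_one])
    have hcop : (Nat.card (Subgroup.zpowers r)).Coprime (Nat.card K) := by
      refine Nat.Coprime.coprime_dvd_left (Subgroup.card_dvd_of_le (Subgroup.zpowers_le.mpr hr)) ?_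
      rw [← hK.index_eq_card]
      exact CfsgLib.Frobenius.coprime_card_index hR
    have hCK : K ⊓ Subgroup.centralizer ((Subgroup.zpowers r : Subgroup G) : Set G) = ⊥ := by
      rw [eq_bot_iff]
      rintro x ⟨hx, hxc⟩
      exact Subgroup.mem_bot.mpr (CfsgLib.Frobenius.eq_one_of_commute hR hK.disjoint hx hr hr1'
        (hxc r (Subgroup.mem_zpowers r)))
    have hm := CfsgLib.Coprime.map_inf_centralizer f (Subgroup.zpowers r) K Subgroup.le_normalizer_of_normal hcop
      (Or.inl inferInstance)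
    rw [hCK, Subgroup.map_bot] at hm
    have hmem : f k ∈ K.map f ⊓ Subgroup.centralizer (((Subgroup.zpowers r).map f : Subgroup (G ⧸ N)) : Set (G ⧸ N)) := by
      refine ⟨Subgroup.mem_map_of_mem f hk, ?_⟩
      rw [MonoidHom.map_zpowers]
      intro y hy
      obtain ⟨i, rfl⟩ := Subgroup.mem_zpowers_iff.mp hy
      exact (Commute.zpow_left hcomm i).eq
    rw [← hm] at hmem
    exact Subgroup.mem_bot.mp hmem
  have hF := CfsgLib.Frobenius.isFrobeniusComplement_of_normal_complement hcompl hKne hRne hfree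
  refine ⟨hF, ?_⟩
  rw [← CfsgLib.Frobenius.normal_complement_eq_kernel hF hcompl, Subgroup.coe_map, ← hKset]

end Cfsg.Agent.S3768
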