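import Cfsg.Statements.S3769
import Cfsg.Agent.Lib.OddOrder41.FpfHallHigman
import Cfsg.Agent.Lib.Coprime.Action

set_option autoImplicit false
open Cfsg

namespace Cfsg.Agent.S3769

open Subgroup
open scoped commutatorElement


/-- Let G and V be subgroups of a finite group with G solvable of odd order normalizing V, V an elementary abelian ℓ-group for a prime ℓ not dividing the order of G, and suppose G has a normal Hall subgroup K with a complement R of prime order. If C_V(R) = 1, then [R, K] centralizes V. -/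
theorem result {X : Type*} [Group X] [Finite X] (G : Subgroup X) (hsolv : Group.IsSolvable G) (hodd : Odd (Nat.card G)) (V : Subgroup X) {ℓ : ℕ} (hℓ : ℓ.Prime) (hV : Cfsg.IsElementaryAbelian ℓ V) (hℓG : ¬ ℓ ∣ Nat.card G) (hGV : G ≤ Subgroup.normalizer (V : Set X)) (K R : Subgroup X) (hKG : K ≤ G) (hKn : G ≤ Subgroup.normalizer (K : Set X)) (hHall : (Nat.card K).Coprime (K.relIndex G)) (hRG : R ≤ G) (hR : (Nat.card R).Prime) (hKR : K ⊓ R = ⊥) (hKRG : K ⊔ R = G) (hCV : V ⊓ Subgroup.centralizer (R : Set X) = ⊥) : ⁅R, K⁆ ≤ Subgroup.centralizer (V : Set X) := by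
  classical
  haveI : Fact ℓ.Prime := ⟨hℓ⟩
  haveI : Fact (Nat.card R).Prime := ⟨hR⟩
  have hRK : R ≤ Subgroup.normalizer (K : Set X) := hRG.trans hKn
  have hcardG : Nat.card G = Nat.card R * Nat.card K := by
    rw [← hKRG, sup_comm]
    exact CfsgLib.Coprime.card_sup_of_disjoint hRK hKR
  have hrel : K.relIndex G = Nat.card R := by
    have h := Subgroup.card_mul_index (K.subgroupOf G)
    rw [Nat.card_congr (Subgroup.subgroupOfEquivOfLe hKG).toEquiv, hcardG, mul_comm (Nat.card R)] at h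
    exact Nat.eq_of_mul_eq_mul_left Nat.card_pos h
  have hcop : (Nat.card R).Coprime (Nat.card K) := (hrel ▸ hHall).symm
  have hRsolv : Group.IsSolvable R := by
    haveI : IsCyclic R := isCyclic_of_prime_card rfl
    exact Group.isSolvable_of_comm fun a b => (IsCyclic.commutative (α := R)).is_comm.comm a b
  set C := Subgroup.centralizer (V : Set X) with hC
  have hGC : ∀ g ∈ G, ∀ c ∈ C, g * c * g⁻¹ ∈ C := by
    intro g hg c hc
    rw [hC, Subgroup.mem_centralizer_iff]
    intro v hv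
    have h1 : g⁻¹ * v * g ∈ V := by
      have := (Subgroup.mem_normalizer_iff.mp (hGV (G.inv_mem hg)) v).mp hv
      rwa [inv_inv] at this
    have h2 : (g⁻¹ * v * g) * c = c * (g⁻¹ * v * g) := Subgroup.mem_centralizer_iff.mp hc _ h1
    calc v * (g * c * g⁻¹) = g * ((g⁻¹ * v * g) * c) * g⁻¹ := by group
      _ = g * (c * (g⁻¹ * v * g)) * g⁻¹ := by rw [h2]
      _ = g * c * g⁻¹ * v := by group
  let S0 : Submonoid X :=
    { carrier := {k | k ∈ K ∧ ∀ r ∈ R, ⁅k, r⁆ ∈ C}
      one_mem' := ⟨K.one_mem, fun r _ => by rw [commutatorElement_one_left]; exact C.one_mem⟩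
      mul_mem' := by
        rintro a b ⟨ha, ha'⟩ ⟨hb, hb'⟩
        refine ⟨K.mul_mem ha hb, fun r hr => ?_⟩
        rw [show ⁅a * b, r⁆ = a * ⁅b, r⁆ * a⁻¹ * ⁅a, r⁆ by simp only [commutatorElement_def]; group]
        exact C.mul_mem (hGC a (hKG ha) _ (hb' r hr)) (ha' r hr) }
  let S : Subgroup X :=
    { S0 with
      inv_mem' := fun {a} ha => by
        have h : a⁻¹ = a ^ (orderOf a - 1) := by
          refine inv_eq_of_mul_eq_one_right ?_
          rw [← pow_succ', Nat.sub_add_cancel (orderOf_pos a), pow_orderOf_eq_one]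
        show a⁻¹ ∈ S0
        rw [h]
        exact S0.pow_mem ha _ }
  have hSK : S ≤ K := fun x hx => hx.1
  have hsyl : ∀ q : ℕ, q.Prime → ∀ e, q ^ e ∣ Nat.card K → q ^ e ∣ Nat.card S := by
    intro q hq e he
    rcases Nat.eq_zero_or_pos e with rfl | hepos
    · simp
    haveI := Fact.mk hq
    obtain ⟨P, hP⟩ := CfsgLib.Coprime.exists_invariant_sylow R K hRK hcop (Or.inl hRsolv) q
    set Q := (P : Subgroup K).map K.subtype with hQ
    have hQK : Q ≤ K := Subgroup.map_subtype_le _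
    have hqK : q ∣ Nat.card K := (dvd_pow_self q hepos.ne').trans he
    have hqG : q ∣ Nat.card G := hqK.trans (Subgroup.card_dvd_of_le hKG)
    have hpG : Nat.card R ∣ Nat.card G := Subgroup.card_dvd_of_le hRG
    have hodd' : ∀ r : ℕ, r ∣ Nat.card G → r ≠ 2 := fun r hr h => by
      subst h
      exact Nat.not_even_iff_odd.mpr hodd (even_iff_two_dvd.mpr hr)
    have hle : ⁅Q, R⁆ ≤ C := CfsgLib.OddOrder41.commutator_le_centralizer_of_fpf (hodd' _ hpG) (hodd' _ hqG)
      (fun h => hR.ne_one (Nat.eq_one_of_dvd_coprimes hcop dvd_rfl (h ▸ hqK)))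
      (ℓ := ℓ) (fun h : Nat.card R = ℓ => hℓG (h ▸ hpG)) (fun h : q = ℓ => hℓG (h ▸ hqG)) Q R V (P.isPGroup'.map _) rfl
      (fun v => ⟨1, by rw [pow_one]; exact Subtype.ext (hV.2 v v.2)⟩) hP
      ((sup_le (hQK.trans hKG) hRG).trans hGV) hCV
    have hQS : Q ≤ S := fun x hx => ⟨hQK hx, fun r hr => hle (Subgroup.commutator_mem_commutator hx hr)⟩
    refine dvd_trans ?_ (Subgroup.card_dvd_of_le hQS)
    rw [hQ, Subgroup.card_map_of_injective K.subtype_injective]
    exact P.pow_dvd_card_of_pow_dvd_card he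
  have hKS : K ≤ S := by
    have h : Nat.card K ∣ Nat.card S :=
      (Nat.dvd_iff_prime_pow_dvd_dvd _ _).mpr fun q e hq he => hsyl q hq e he
    exact (Subgroup.eq_of_le_of_card_ge hSK (Nat.le_of_dvd Nat.card_pos h)).ge
  rw [Subgroup.commutator_comm]
  exact Subgroup.commutator_le.mpr fun k hk r hr => (hKS hk).2 r hr

end Cfsg.Agent.S3769
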