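import Cfsg.Statements.S3770
import Cfsg.Agent.Lib.OddOrder41.FrobeniusNilpotent
import Cfsg.Agent.Lib.Frobenius.Theorem
import Cfsg.Agent.Lib.Frobenius.FPFThompson
import Cfsg.Agent.Lib.Coprime.Commutator

set_option autoImplicit false
open Cfsg

namespace Cfsg.Agent.S3770

open Subgroup


/-- Let G and V be subgroups of a finite group with G a Frobenius group with complement R of prime order and kernel K, G normalizing V, and V an elementary abelian ℓ-group for a prime ℓ not dividing the order of G. If C_V(R) has order ℓ, then the derived subgroup of K centralizes V. -/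
theorem result {X : Type*} [Group X] [Finite X] (G : Subgroup X) (V : Subgroup X) {ℓ : ℕ} (hℓ : ℓ.Prime) (hV : Cfsg.IsElementaryAbelian ℓ V) (hℓG : ¬ ℓ ∣ Nat.card G) (hGV : G ≤ Subgroup.normalizer (V : Set X)) (R : Subgroup ↥G) (hR : Cfsg.IsFrobeniusComplement R) (hRp : (Nat.card R).Prime) (hCV : Nat.card ↥(V ⊓ Subgroup.centralizer ((R.map G.subtype : Subgroup X) : Set X)) = ℓ) : ⁅Subgroup.closure (Subtype.val '' Cfsg.frobeniusKernel R), Subgroup.closure (Subtype.val '' Cfsg.frobeniusKernel R)⁆ ≤ Subgroup.centralizer (V : Set X) := by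
  classical
  haveI : Fact ℓ.Prime := ⟨hℓ⟩
  haveI : Fact (Nat.card R).Prime := ⟨hRp⟩
  obtain ⟨N, hN, hNn, hNR⟩ := CfsgLib.Frobenius.exists_normal_kernel hR
  set K := N.map G.subtype with hKdef
  set R' := R.map G.subtype with hR'def
  have hK : Subgroup.closure (Subtype.val '' Cfsg.frobeniusKernel R) = K := by
    rw [← hN]
    exact Subgroup.closure_eq (N.map G.subtype)
  rw [hK]
  have hKG : K ≤ G := Subgroup.map_subtype_le N
  have hR'G : R' ≤ G := Subgroup.map_subtype_le R
  have hGK : G ≤ Subgroup.normalizer (K : Set X) := by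
    refine le_trans (le_of_eq ?_) (Subgroup.le_normalizer_map G.subtype)
    rw [Subgroup.normalizer_eq_top, ← MonoidHom.range_eq_map, Subgroup.range_subtype]
  have hfpf : ∀ r ∈ R', r ≠ 1 → ∀ k ∈ K, r * k = k * r → k = 1 := by
    rintro _ ⟨r, hr, rfl⟩ hr1 _ ⟨k, hk, rfl⟩ hc
    have := CfsgLib.Frobenius.eq_one_of_commute hR hNR.disjoint hk hr (fun h => hr1 (by rw [h]; rfl))
      (show Commute r k from Subtype.ext hc)
    rw [this]; rfl
  have hR'ne : R' ≠ ⊥ := fun h => hR.1 ((Subgroup.map_eq_bot_iff_of_injective _ G.subtype_injective).mp h)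
  have hKnil : Group.IsNilpotent K := by
    obtain ⟨r, hr, hr1⟩ := R'.bot_or_exists_ne_one.resolve_left hR'ne
    refine CfsgLib.Frobenius.Thompson.isNilpotent_of_element K (hGK (hR'G hr)) hRp ?_ (hfpf r hr hr1)
    have h : r ^ Nat.card R' = 1 := congrArg Subtype.val (pow_card_eq_one' (x := (⟨r, hr⟩ : R')))
    rwa [show Nat.card R' = Nat.card R from Subgroup.card_map_of_injective G.subtype_injective] at h
  haveI : IsMulCommutative V := hV.1
  have hcop : (Nat.card G).Coprime (Nat.card V) := by
    obtain ⟨k, hk⟩ := (IsPGroup.iff_card (p := ℓ)).mp (show IsPGroup ℓ V from fun v => ⟨1, by rw [pow_one]; exact Subtype.ext (hV.2 v v.2)⟩)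
    rw [hk]
    exact Nat.Coprime.pow_right _ ((hℓ.coprime_iff_not_dvd.mpr hℓG).symm)
  have hKV : K ≤ Subgroup.normalizer (V : Set X) := hKG.trans hGV
  have hcK : (Nat.card K).Coprime (Nat.card V) := hcop.coprime_dvd_left (Subgroup.card_dvd_of_le hKG)
  have hsolV : Group.IsSolvable V := Group.isSolvable_of_comm fun a b => (inferInstance : IsMulCommutative V).is_comm.comm a b
  have hdec := CfsgLib.Coprime.commutator_sup_centralizer K V hKV hcK (Or.inr hsolV)
  set M : Subgroup X := ⁅V, K⁆ with hMdef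
  have hMV : M ≤ V := CfsgLib.Coprime.commutator_le_of_normalizes hKV
  have hGM : G ≤ Subgroup.normalizer (M : Set X) := by
    intro g hg
    rw [Subgroup.mem_normalizer_iff_map_conj_eq, hMdef, Subgroup.map_commutator,
      Subgroup.mem_normalizer_iff_map_conj_eq.mp (hGV hg), Subgroup.mem_normalizer_iff_map_conj_eq.mp (hGK hg)]
  have hsolM : Group.IsSolvable M := Group.isSolvable_of_isSolvable_injective (Subgroup.inclusion_injective hMV)
  have hcyc : IsCyclic ↥(M ⊓ Subgroup.centralizer (R' : Set X)) := by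
    haveI : IsCyclic ↥(V ⊓ Subgroup.centralizer (R' : Set X)) := by
      haveI : Fact ℓ.Prime := ⟨hℓ⟩
      exact isCyclic_of_prime_card hCV
    exact Subgroup.isCyclic_of_le (inf_le_inf hMV le_rfl)
  have hmain := CfsgLib.OddOrder41.FixedFormula.commutator_le_centralizer_of_cyclic K R' hR'ne
    (hR'G.trans hGK) hKnil hfpf M ((sup_le hKG hR'G).trans hGM) hsolM
    ((hcop.coprime_dvd_left (Subgroup.card_dvd_of_le (sup_le hKG hR'G))).symm.coprime_dvd_left (Subgroup.card_dvd_of_le hMV))
    (CfsgLib.Coprime.commutator_inf_centralizer_eq_bot K V hKV hcK) hcyc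
  refine Subgroup.le_centralizer_iff.mp ?_
  rw [← hdec]
  refine sup_le (Subgroup.le_centralizer_iff.mp hmain) ?_
  exact inf_le_right.trans (Subgroup.centralizer_le (Subgroup.commutator_le_self K))

end Cfsg.Agent.S3770
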