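import Cfsg.Statements.S3771
import Cfsg.Agent.Lib.OddOrder41.NormalElementary

set_option autoImplicit false
open Cfsg

namespace Cfsg.Agent.S3771

theorem card_le_cube {R : Type*} [Group R] [Finite R] {p : ℕ} [hp : Fact p.Prime] (hR : IsPGroup p R)
    (hrank : Cfsg.PRankLE p 2 R) (hexp : ∀ x : R, x ^ p = 1) : Nat.card R ≤ p ^ 3 := by
  haveI : Group.IsNilpotent R := hR.isNilpotent
  obtain ⟨A, -, hAn, hAa, hAc⟩ := CfsgLib.OddOrder41.exists_normal_abelian_self_centralizing (⊥ : Subgroup R)
    inferInstance inferInstance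
  have hA2 : Nat.card A ≤ p ^ 2 := hrank A hAa fun a _ => hexp a
  by_cases hAZ : A ≤ Subgroup.center R
  · have htop : A = ⊤ := by
      rw [← hAc, Subgroup.centralizer_eq_top_iff_subset]
      exact hAZ
    rw [htop, Subgroup.card_top] at hA2
    exact hA2.trans (Nat.pow_le_pow_right hp.out.pos (by norm_num))
  · obtain ⟨a, haA, haZ⟩ := SetLike.not_le_iff_exists.mp hAZ
    have hZA : Subgroup.center R ≤ A := hAc ▸ Subgroup.center_le_centralizer _
    haveI : Nontrivial R := ⟨⟨a, 1, fun h => haZ (h ▸ one_mem _)⟩⟩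
    haveI : Nontrivial (Subgroup.center R) := hR.center_nontrivial
    have hZlt : Subgroup.center R < A := lt_of_le_not_ge hZA fun h => haZ (h haA)
    have hZcard : p ≤ Nat.card (Subgroup.center R) := by
      rcases (hR.to_subgroup (Subgroup.center R)).card_eq_or_dvd with h | h
      · exact absurd h (Finite.one_lt_card (α := Subgroup.center R)).ne'
      · exact Nat.le_of_dvd Nat.card_pos h
    let Y := Subgroup.center R ⊔ Subgroup.zpowers a
    have hYA : Y ≤ A := sup_le hZA (Subgroup.zpowers_le.mpr haA)
    have hZY : Subgroup.center R < Y :=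
      lt_of_le_not_ge le_sup_left fun h => haZ (h (Subgroup.mem_sup_right (Subgroup.mem_zpowers a)))
    have hYeq : Y = A := by
      refine Subgroup.eq_of_le_of_card_ge hYA (hA2.trans ?_)
      obtain ⟨i, hi⟩ := IsPGroup.iff_card.mp (hR.to_subgroup Y)
      have h1 : Nat.card (Subgroup.center R) < Nat.card Y := by
        refine lt_of_not_ge fun hge => hZY.ne (Subgroup.eq_of_le_of_card_ge hZY.le hge)
      rw [hi] at h1 ⊢
      have : 1 < i := (Nat.pow_lt_pow_iff_right hp.out.one_lt).mp (by rw [pow_one]; omega)
      exact Nat.pow_le_pow_right hp.out.pos this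
    have hC : Subgroup.centralizer ({a} : Set R) ≤ A := by
      rw [← hAc]
      intro g hg
      have hle : Y ≤ Subgroup.centralizer ({g} : Set R) := by
        refine sup_le (Subgroup.center_le_centralizer _) (Subgroup.zpowers_le.mpr ?_)
        exact Subgroup.mem_centralizer_singleton_iff.mpr (hg a rfl)
      intro y hy
      rw [SetLike.mem_coe, ← hYeq] at hy
      exact Subgroup.mem_centralizer_singleton_iff.mp (hle hy)
    have hidx : Nat.card R = (Subgroup.centralizer ({a} : Set R)).index * Nat.card (Subgroup.centralizer ({a} : Set R)) :=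
      (Subgroup.index_mul_card _).symm
    rw [hidx, show p ^ 3 = p * p ^ 2 by ring]
    refine Nat.mul_le_mul ?_ ((Subgroup.card_le_of_le hC).trans hA2)
    obtain ⟨i, hi⟩ := hR.index (Subgroup.centralizer ({a} : Set R))
    have hlt : (Subgroup.centralizer ({a} : Set R)).index < p ^ 2 := by
      classical
      haveI := Fintype.ofFinite R
      rw [Subgroup.centralizer_eq_comap_stabilizer]
      refine (Subgroup.index_comap_of_surjective _ (fun g => ⟨ConjAct.ofConjAct g, rfl⟩)).trans_lt ?_
      rw [MulAction.index_stabilizer]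
      refine lt_of_lt_of_le ?_ hA2
      rw [← SetLike.coe_sort_coe, Nat.card_coe_set_eq (A : Set R)]
      refine Set.ncard_lt_ncard ⟨?_, fun h => ?_⟩ (Set.toFinite _)
      · rintro x ⟨g, rfl⟩
        exact hAn.conj_mem a haA _
      · obtain ⟨g, hg⟩ := h A.one_mem
        exact haZ ((conj_eq_one_iff.mp hg) ▸ one_mem _)
    rw [hi] at hlt ⊢
    exact (Nat.pow_le_pow_right hp.out.pos (Nat.lt_succ_iff.mp ((Nat.pow_lt_pow_iff_right hp.out.one_lt).mp hlt))).trans_eq (pow_one p)


/-- Let p be a prime and R a finite p-group of p-rank at most 2 (no elementary abelian subgroup of order p³) in which every element has order dividing p. Then R has order at most p³. -/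
theorem result {R : Type*} [Group R] [Finite R] {p : ℕ} [Fact p.Prime] (hR : IsPGroup p R) (hrank : Cfsg.PRankLE p 2 R) (hexp : ∀ x : R, x ^ p = 1) : Nat.card R ≤ p ^ 3 := by
  exact card_le_cube hR hrank hexp

end Cfsg.Agent.S3771
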