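import Cfsg.Statements.S3772
import Cfsg.Agent.Lib.PGroup.Class2
import Cfsg.Agent.Lib.PGroup.Frattini

set_option autoImplicit false
open Cfsg

namespace Cfsg.Agent.S3772

open Subgroup CfsgLib.PGroup
open scoped commutatorElement


/-- Let G be a finite 2-group whose Frattini subgroup Φ(G) has order 2, with |G : Φ(G)| = 2^d, and let j be the number of elements x of G with x² = 1. Then j = 2^d, or j = 2^d + 2^(d−r) or j = 2^d − 2^(d−r) for some positive integer r with 2r ≤ d. Moreover if d = 2r and j is 2^d + 2^r or 2^d − 2^r, then G is extraspecial. -/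
theorem result {G : Type*} [Group G] [Finite G] (hG : IsPGroup 2 G) (hΦ : Nat.card (frattini G) = 2) (d : ℕ) (hd : (frattini G).index = 2 ^ d) : (Nat.card {x : G // x ^ 2 = 1} = 2 ^ d ∨ ∃ r : ℕ, 1 ≤ r ∧ 2 * r ≤ d ∧ (Nat.card {x : G // x ^ 2 = 1} = 2 ^ d + 2 ^ (d - r) ∨ Nat.card {x : G // x ^ 2 = 1} + 2 ^ (d - r) = 2 ^ d)) ∧ (∀ r : ℕ, d = 2 * r → (Nat.card {x : G // x ^ 2 = 1} = 2 ^ d + 2 ^ r ∨ Nat.card {x : G // x ^ 2 = 1} + 2 ^ r = 2 ^ d) → Cfsg.IsExtraspecial 2 G) := by
  classical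
  haveI := Fintype.ofFinite G
  set Φ := frattini G with hΦdef
  obtain ⟨⟨z, hzΦ⟩, hz1⟩ : ∃ z : Φ, z ≠ 1 := by
    haveI : Nontrivial Φ := Finite.one_lt_card_iff_nontrivial.mp (by omega)
    exact exists_ne 1
  have hz1' : z ≠ 1 := fun h => hz1 (Subtype.ext h)
  have hΦmem : ∀ y ∈ Φ, y = 1 ∨ y = z := by
    intro y hy
    by_contra hcon
    push Not at hcon
    haveI := Fintype.ofFinite Φ
    have hs : ({1, (⟨z, hzΦ⟩ : Φ), ⟨y, hy⟩} : Finset Φ).card ≤ 2 := by
      rw [← hΦ, Nat.card_eq_fintype_card]; exact Finset.card_le_univ _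
    rw [Finset.card_insert_of_notMem (by simp [Subtype.ext_iff, eq_comm (a := (1 : G)), hz1', hcon.1]),
      Finset.card_insert_of_notMem (by simp [Subtype.ext_iff, Ne.symm hcon.2]), Finset.card_singleton] at hs
    omega
  have hΦn : Φ.Normal := inferInstance
  have hzc : Φ ≤ Subgroup.center G := by
    intro y hy
    rw [Subgroup.mem_center_iff]
    intro g
    rcases hΦmem y hy with rfl | rfl
    · simp
    · rcases hΦmem _ (hΦn.conj_mem y hy g) with h | h
      · exact absurd (conj_eq_one_iff.mp h) hz1'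
      · exact mul_inv_eq_iff_eq_mul.mp h
  have hsq : ∀ x : G, x ^ 2 ∈ Φ := fun x => pow_mem_frattini hG x
  have hcomm : ∀ x y : G, ⁅x, y⁆ ∈ Φ := fun x y =>
    commutator_le_frattini hG (Subgroup.commutator_mem_commutator (mem_top x) (mem_top y))
  have hz2 : z * z = 1 := by
    rcases hΦmem _ (Φ.mul_mem hzΦ hzΦ) with h | h
    · exact h
    · exact absurd (mul_eq_left.mp h) hz1'
  let χ : G → ℤ := fun y => if y = 1 then 1 else -1
  have hχ : ∀ a ∈ Φ, ∀ b ∈ Φ, χ (a * b) = χ a * χ b := by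
    intro a ha b hb
    rcases hΦmem a ha with rfl | rfl <;> rcases hΦmem b hb with rfl | rfl <;> simp [χ, hz1', hz2]
  have hχ2 : ∀ a : G, χ a * χ a = 1 := fun a => by simp only [χ]; split_ifs <;> norm_num
  have hmul : ∀ x w : G, (x * w) ^ 2 = x ^ 2 * w ^ 2 * ⁅w, x⁆ := fun x w => by
    rw [mul_pow_of_central (hzc (hcomm w x)), Nat.choose_self, pow_one]
  set S : ℤ := ∑ x : G, χ (x ^ 2) with hS
  have hGcard : Fintype.card G = 2 ^ (d + 1) := by
    rw [← Nat.card_eq_fintype_card, ← Φ.card_mul_index, hΦ, hd, ← pow_succ']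
  -- the count in terms of the character sum
  have hcount : 2 * (Nat.card {x : G // x ^ 2 = 1} : ℤ) = 2 ^ (d + 1) + S := by
    rw [Nat.card_eq_fintype_card, Fintype.card_subtype]
    have h1 : ∀ x : G, (2 : ℤ) * (if x ^ 2 = 1 then 1 else 0) = 1 + χ (x ^ 2) := fun x => by
      simp only [χ]; split_ifs <;> norm_num
    rw [← Finset.sum_boole, Finset.mul_sum, Finset.sum_congr rfl fun x _ => h1 x, Finset.sum_add_distrib, ← hS,
      Finset.sum_const, Finset.card_univ, hGcard]
    simp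
  have hinner : ∀ w : G, (∑ x : G, χ ⁅w, x⁆) = if w ∈ Subgroup.center G then (2 : ℤ) ^ (d + 1) else 0 := by
    intro w
    split_ifs with hw
    · rw [Finset.sum_congr rfl (fun x _ => show χ ⁅w, x⁆ = 1 by
        simp [χ, commutatorElement_eq_one_iff_mul_comm.mpr (Subgroup.mem_center_iff.mp hw x).symm]),
        Finset.sum_const, Finset.card_univ, hGcard]
      simp
    · obtain ⟨x₀, hx₀⟩ : ∃ x₀ : G, ⁅w, x₀⁆ ≠ 1 := by
        by_contra h
        push Not at h
        exact hw (Subgroup.mem_center_iff.mpr fun x => (commutatorElement_eq_one_iff_mul_comm.mp (h x)).symm)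
      have h1 : (∑ x : G, χ ⁅w, x⁆) = ∑ x : G, -χ ⁅w, x⁆ := by
        refine (Fintype.sum_equiv (Equiv.mulLeft x₀) _ _ fun x => ?_).symm
        show -χ ⁅w, x⁆ = χ ⁅w, x₀ * x⁆
        rw [commutatorElement_mul_right_of_central w x₀ x (hzc (hcomm w x)), hχ _ (hcomm w x₀) _ (hcomm w x)]
        simp only [χ, if_neg hx₀, neg_one_mul]
      rw [Finset.sum_neg_distrib] at h1
      omega
  set Z : Finset G := Finset.univ.filter fun w : G => w ∈ Subgroup.center G with hZ
  have hSS : S * S = 2 ^ (d + 1) * ∑ w ∈ Z, χ (w ^ 2) := by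
    have h1 : ∀ x : G, χ (x ^ 2) * S = ∑ w : G, χ (w ^ 2) * χ ⁅w, x⁆ := by
      intro x
      rw [hS, Finset.mul_sum]
      refine (Fintype.sum_equiv (Equiv.mulLeft x) _ _ fun w => ?_).symm
      show χ (w ^ 2) * χ ⁅w, x⁆ = χ (x ^ 2) * χ ((x * w) ^ 2)
      rw [hmul, hχ _ (Φ.mul_mem (hsq x) (hsq w)) _ (hcomm w x), hχ _ (hsq x) _ (hsq w)]
      calc χ (w ^ 2) * χ ⁅w, x⁆ = (χ (x ^ 2) * χ (x ^ 2)) * (χ (w ^ 2) * χ ⁅w, x⁆) := by rw [hχ2, one_mul]
        _ = _ := by ring
    calc S * S = ∑ x : G, χ (x ^ 2) * S := by rw [← Finset.sum_mul, ← hS]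
      _ = ∑ w : G, χ (w ^ 2) * ∑ x : G, χ ⁅w, x⁆ := by
        rw [Finset.sum_congr rfl fun x _ => h1 x, Finset.sum_comm]
        exact Finset.sum_congr rfl fun w _ => (Finset.mul_sum _ _ _).symm
      _ = _ := by
        rw [hZ, Finset.mul_sum, Finset.sum_filter]
        refine Finset.sum_congr rfl fun w _ => ?_
        rw [hinner]; split_ifs <;> ring
  obtain ⟨k, hk⟩ := (hG.to_subgroup (Subgroup.center G)).exists_card_eq
  have hZcard : Z.card = 2 ^ k := by
    rw [hZ, ← Fintype.card_subtype, ← Nat.card_eq_fintype_card]; exact hk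
  have hnab : k ≤ d + 1 ∧ (k = d + 1 → (∀ w ∈ Z, χ (w ^ 2) = 1) → False) := by
    have hle : 2 ^ k ≤ 2 ^ (d + 1) := by rw [← hZcard, ← hGcard]; exact Finset.card_le_univ _
    refine ⟨(Nat.pow_le_pow_iff_right one_lt_two).mp hle, fun hk' hall => ?_⟩
    have htop : Z = Finset.univ := Finset.eq_univ_of_card _ (by rw [hZcard, hGcard, hk'])
    have h1 : Φ ≤ ⊥ := by
      haveI : Fact (Nat.Prime 2) := ⟨Nat.prime_two⟩
      refine frattini_le_of (p := 2) ⊥ (Subgroup.commutator_le.mpr fun x _ y _ => ?_) fun x => ?_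
      · rw [mem_bot, commutatorElement_eq_one_iff_mul_comm]
        have : x ∈ Z := by rw [htop]; exact Finset.mem_univ _
        exact (Subgroup.mem_center_iff.mp (Finset.mem_filter.mp this).2 y).symm
      · have h := hall x (by rw [htop]; exact Finset.mem_univ _)
        rw [mem_bot]
        by_contra hne
        simp [χ, hne] at h
    exact hz1' (mem_bot.mp (h1 hzΦ))
  have hk1 : 1 ≤ k := by
    by_contra h
    have h0 : k = 0 := by omega
    have h1 : Subgroup.center G = ⊥ := Subgroup.card_eq_one.mp (by rw [hk, h0, pow_zero])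
    exact hz1' (mem_bot.mp (h1 ▸ hzc hzΦ))
  -- the absolute value of the character sum
  have hcases : S = 0 ∨ ((∀ w ∈ Z, χ (w ^ 2) = 1) ∧ S * S = 2 ^ (d + 1 + k)) := by
    by_cases hall : ∀ w ∈ Z, χ (w ^ 2) = 1
    · right
      refine ⟨hall, ?_⟩
      rw [hSS, Finset.sum_congr rfl hall, Finset.sum_const, hZcard, pow_add (2 : ℤ) (d + 1) k]
      simp
    · left
      push Not at hall
      obtain ⟨w₀, hw₀, hw₀'⟩ := hall
      have hw₀c := (Finset.mem_filter.mp hw₀).2
      have h1 : ∑ w ∈ Z, χ (w ^ 2) = ∑ w ∈ Z, -χ (w ^ 2) := by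
        refine (Finset.sum_equiv (Equiv.mulLeft w₀) (fun w => ?_) fun w hw => ?_).symm
        · simp only [hZ, Finset.mem_filter, Finset.mem_univ, true_and, Equiv.coe_mulLeft]
          exact ⟨fun h => mul_mem hw₀c h, fun h => by simpa using mul_mem (inv_mem hw₀c) h⟩
        · show -χ (w ^ 2) = χ ((w₀ * w) ^ 2)
          rw [(Commute.symm (Subgroup.mem_center_iff.mp hw₀c w)).mul_pow, hχ _ (hsq w₀) _ (hsq w)]
          have : χ (w₀ ^ 2) = -1 := by
            simp only [χ] at hw₀' ⊢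
            split_ifs with h
            · simp [h] at hw₀'
            · rfl
          rw [this, neg_one_mul]
      rw [Finset.sum_neg_distrib] at h1
      have h2 : ∑ w ∈ Z, χ (w ^ 2) = 0 := by omega
      rw [h2, mul_zero] at hSS
      exact mul_self_eq_zero.mp hSS
  rcases hcases with hS0 | ⟨hall, hSS'⟩
  · have hN : Nat.card {x : G // x ^ 2 = 1} = 2 ^ d := by
      have : 2 * (Nat.card {x : G // x ^ 2 = 1} : ℤ) = 2 * ((2 ^ d : ℕ) : ℤ) := by
        rw [hcount, hS0]; push_cast; ring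
      exact_mod_cast (mul_left_cancel₀ two_ne_zero this)
    refine ⟨Or.inl hN, fun r hr h => ?_⟩
    exfalso
    have := Nat.two_pow_pos r
    omega
  have hpar : Even (d + 1 + k) := by
    by_contra hodd
    rw [Nat.not_even_iff_odd] at hodd
    obtain ⟨t, ht⟩ := hodd
    have hnat : S.natAbs * S.natAbs = 2 ^ (d + 1 + k) := by
      rw [← Int.natAbs_mul, hSS', Int.natAbs_pow]; rfl
    obtain ⟨j, -, hj⟩ := (Nat.dvd_prime_pow Nat.prime_two).mp (Dvd.intro _ hnat)
    rw [hj, ← pow_add] at hnat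
    have := Nat.pow_right_injective le_rfl hnat
    omega
  obtain ⟨t, ht⟩ := hpar
  have hSabs : S = 2 ^ t ∨ S = -2 ^ t := by
    apply mul_self_eq_mul_self_iff.mp
    rw [hSS', ht, pow_add]
  have hkd : k ≠ d + 1 := fun h => hnab.2 h hall
  have hkle := hnab.1
  set r := d + 1 - t with hr
  have hr1 : 1 ≤ r := by omega
  have hrd : 2 * r ≤ d := by omega
  have hdt : t = (d - r) + 1 := by omega
  refine ⟨Or.inr ⟨r, hr1, hrd, ?_⟩, fun r' hr' h => ?_⟩
  · rcases hSabs with h | h
    · left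
      have : 2 * (Nat.card {x : G // x ^ 2 = 1} : ℤ) = 2 * ((2 ^ d + 2 ^ (d - r) : ℕ) : ℤ) := by
        rw [hcount, h, hdt]; push_cast; ring
      exact_mod_cast (mul_left_cancel₀ two_ne_zero this)
    · right
      have : 2 * ((Nat.card {x : G // x ^ 2 = 1} + 2 ^ (d - r) : ℕ) : ℤ) = 2 * ((2 ^ d : ℕ) : ℤ) := by
        push_cast; rw [mul_add, hcount, h, hdt]; ring
      exact_mod_cast (mul_left_cancel₀ two_ne_zero this)
  · have hk1' : k = 1 := by
      have habs : S = 2 ^ (r' + 1) ∨ S = -2 ^ (r' + 1) := by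
        rcases h with h | h
        · left
          have h' : (Nat.card {x : G // x ^ 2 = 1} : ℤ) = 2 ^ d + 2 ^ r' := by exact_mod_cast h
          rw [h'] at hcount
          linear_combination -hcount
        · right
          have h' : (Nat.card {x : G // x ^ 2 = 1} : ℤ) + 2 ^ r' = 2 ^ d := by exact_mod_cast h
          linear_combination 2 * h' - hcount
      have hpow : (2 : ℤ) ^ (d + 1 + k) = 2 ^ (2 * (r' + 1)) := by
        rw [← hSS']; rcases habs with h | h <;> rw [h] <;> ring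
      have := Nat.pow_right_injective le_rfl (by exact_mod_cast hpow : (2 : ℕ) ^ (d + 1 + k) = 2 ^ (2 * (r' + 1)))
      omega
    have hZΦ : Φ = Subgroup.center G :=
      eq_of_le_of_card_ge hzc (le_of_eq (by rw [hk, hk1', hΦ, pow_one]))
    have hcΦ : commutator G = Φ := by
      refine le_antisymm (commutator_le_frattini hG) fun y hy => ?_
      rcases hΦmem y hy with rfl | rfl
      · exact one_mem _
      · by_contra hzn
        have hab : commutator G = ⊥ := by
          rw [eq_bot_iff]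
          intro c hc
          rcases hΦmem c (commutator_le_frattini hG hc) with rfl | rfl
          · exact one_mem _
          · exact absurd hc hzn
        have hctop : Subgroup.center G = ⊤ := by
          rw [eq_top_iff]
          intro x _
          rw [Subgroup.mem_center_iff]
          intro g
          refine (commutatorElement_eq_one_iff_mul_comm.mp (mem_bot.mp (hab ▸ ?_)))
          exact Subgroup.commutator_mem_commutator (mem_top g) (mem_top x)
        haveI : Nontrivial G := ⟨⟨_, 1, hz1'⟩⟩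
        exact frattini_ne_top (hZΦ.trans hctop)
    exact ⟨⟨hG, hZΦ, hcΦ.trans hZΦ⟩, by rw [hk, hk1', pow_one]⟩

end Cfsg.Agent.S3772
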