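import Cfsg.Statements.S3773
import Cfsg.Agent.Lib.Coprime.Basic
import Cfsg.Agent.Lib.Structure.TwoGroupSquares

set_option autoImplicit false
open Cfsg

namespace Cfsg.Agent.S3773

open Subgroup CfsgLib.Structure CfsgLib.PGroup
open scoped commutatorElement

variable {G : Type*} [Group G] [Finite G]

theorem strict_of_commutator_lt (Φ N : Subgroup G) (hΦc : Φ ≤ Subgroup.center G) (hΦ : ∀ z ∈ Φ, z ^ 2 = 1)
    (hsq : ∀ x : G, x ^ 2 ∈ Φ) (hN : ∀ x : G, x ∈ N ↔ x ^ 2 = 1) (hlt : commutator G < Φ) :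
    Nat.card G < Nat.card N * Nat.card Φ ^ 2 := by
  classical
  obtain ⟨Ψ, hΨ, hΨmax⟩ := Finite.exists_le_maximal (p := fun Ψ : Subgroup G => commutator G ≤ Ψ ∧ Ψ < Φ)
    (a := commutator G) ⟨le_rfl, hlt⟩
  obtain ⟨⟨hΨc, hΨΦ⟩, hmax⟩ := hΨmax
  obtain ⟨z, hz, hzΨ⟩ := SetLike.exists_of_lt hΨΦ
  haveI hΨn : Ψ.Normal := ⟨fun w hw g => by
    rwa [Subgroup.mem_center_iff.mp (hΦc (hΨΦ.le hw)) g, mul_inv_cancel_right]⟩
  have hsup : Ψ ⊔ zpowers z = Φ := by
    rcases (sup_le hΨΦ.le (zpowers_le.mpr hz)).eq_or_lt with h | h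
    · exact h
    · exact absurd (hmax ⟨hΨc.trans le_sup_left, h⟩ le_sup_left (mem_sup_right (mem_zpowers z))) hzΨ
  have hΦ2 : ∀ w ∈ Φ, w ∈ Ψ ∨ w * z⁻¹ ∈ Ψ := by
    intro w hw
    rw [← hsup] at hw
    rw [sup_comm] at hw
    obtain ⟨v, hv, u, hu, rfl⟩ := CfsgLib.Coprime.exists_mul_of_mem_sup (H := zpowers z) (N := Ψ) le_normalizer_of_normal hw
    rw [Subgroup.mem_center_iff.mp (hΦc (hΨΦ.le hu)) v]
    obtain ⟨i, rfl⟩ := mem_zpowers_iff.mp hv
    rcases Int.even_or_odd' i with ⟨j, rfl | rfl⟩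
    · left
      rw [zpow_mul, zpow_two, ← sq, hΦ z hz, one_zpow, mul_one]
      exact hu
    · right
      rw [zpow_add, zpow_mul, zpow_two, ← sq, hΦ z hz, one_zpow, one_mul, zpow_one, mul_inv_cancel_right]
      exact hu
  have hcommΨ : ∀ x y : G, ⁅y, x⁆ ∈ Ψ := fun x y => hΨc (Subgroup.commutator_mem_commutator (mem_top y) (mem_top x))
  have hmul : ∀ x y : G, (x * y) ^ 2 = x ^ 2 * y ^ 2 * ⁅y, x⁆ := fun x y => by
    rw [mul_pow_of_central (hΦc (hΨΦ.le (hcommΨ x y))), Nat.choose_self, pow_one]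
  let G₁ : Subgroup G :=
    { carrier := {x | x ^ 2 ∈ Ψ}
      one_mem' := by simp
      mul_mem' := fun {a b} ha hb => by
        show (a * b) ^ 2 ∈ Ψ
        rw [hmul]; exact Ψ.mul_mem (Ψ.mul_mem ha hb) (hcommΨ a b)
      inv_mem' := fun {a} ha => by
        show a⁻¹ ^ 2 ∈ Ψ
        rw [inv_pow]; exact Ψ.inv_mem ha }
  have hΨG₁ : Ψ ≤ G₁ := fun w hw => Ψ.pow_mem hw 2
  have hNG₁ : N ≤ G₁ := fun w hw => by show w ^ 2 ∈ Ψ; rw [(hN w).mp hw]; exact Ψ.one_mem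
  have hidx : G₁.index ≤ 2 := by
    by_cases h : G₁ = ⊤
    · rw [h, index_top]; omega
    · obtain ⟨g, -, hg⟩ := SetLike.exists_of_lt (lt_top_iff_ne_top.mpr h)
      refine le_of_eq (Subgroup.index_eq_two_iff.mpr ⟨g, fun x => ?_⟩)
      have hgz : g ^ 2 * z⁻¹ ∈ Ψ := (hΦ2 _ (hsq g)).resolve_left hg
      by_cases hx : x ∈ G₁
      · exact Or.inr ⟨hx, fun hxg => hg (by simpa using G₁.mul_mem (G₁.inv_mem hx) hxg)⟩
      · refine Or.inl ⟨?_, hx⟩
        show (x * g) ^ 2 ∈ Ψ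
        have hxz : x ^ 2 * z⁻¹ ∈ Ψ := (hΦ2 _ (hsq x)).resolve_left hx
        have hzz : z * z = 1 := by rw [← sq]; exact hΦ z hz
        have hzc := Subgroup.mem_center_iff.mp (hΦc hz)
        have e : x ^ 2 * g ^ 2 = (x ^ 2 * z⁻¹) * (g ^ 2 * z⁻¹) := by
          rw [inv_eq_of_mul_eq_one_right hzz, mul_assoc (x ^ 2) z, ← mul_assoc z (g ^ 2), ← hzc (g ^ 2),
            mul_assoc (g ^ 2) z z, hzz, mul_one]
        rw [hmul, e]
        exact Ψ.mul_mem (Ψ.mul_mem hxz hgz) (hcommΨ x g)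
  have hΨc' : (Ψ.subgroupOf G₁) ≤ Subgroup.center G₁ := fun w hw => by
    rw [Subgroup.mem_center_iff]
    exact fun v => Subtype.ext (Subgroup.mem_center_iff.mp (hΦc (hΨΦ.le hw)) v)
  have hb := card_le_of_squares (Ψ.subgroupOf G₁) (N.subgroupOf G₁) hΨc'
    (fun w hw => Subtype.ext (hΦ _ (hΨΦ.le hw))) (fun x => x.2)
    (fun x => by
      rw [Subgroup.mem_subgroupOf, hN, ← SubmonoidClass.coe_pow, OneMemClass.coe_eq_one])
  rw [Nat.card_congr (Subgroup.subgroupOfEquivOfLe hΨG₁).toEquiv,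
    Nat.card_congr (Subgroup.subgroupOfEquivOfLe hNG₁).toEquiv] at hb
  have hΨ2 : 2 * Nat.card Ψ ≤ Nat.card Φ := by
    obtain ⟨c, hc⟩ := Subgroup.card_dvd_of_le hΨΦ.le
    have hne : Nat.card Ψ ≠ Nat.card Φ := fun h => hΨΦ.ne (eq_of_le_of_card_ge hΨΦ.le h.ge)
    rcases c with _ | _ | c
    · exact absurd hc (by rw [mul_zero]; exact Nat.card_pos.ne')
    · exact absurd (by rw [hc, zero_add, mul_one]) hne
    · rw [hc]; nlinarith
  calc Nat.card G = Nat.card G₁ * G₁.index := G₁.card_mul_index.symm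
    _ ≤ Nat.card N * Nat.card Ψ ^ 2 * 2 := Nat.mul_le_mul hb hidx
    _ < Nat.card N * (2 * Nat.card Ψ) ^ 2 := by
      have : 0 < Nat.card N * Nat.card Ψ ^ 2 := Nat.mul_pos Nat.card_pos (pow_pos Nat.card_pos 2)
      nlinarith
    _ ≤ _ := Nat.mul_le_mul_left _ (Nat.pow_le_pow_left hΨ2 2)

theorem strict_of_center (Φ N : Subgroup G) (hΦc : Φ ≤ Subgroup.center G) (hΦ : ∀ z ∈ Φ, z ^ 2 = 1)
    (hsq : ∀ x : G, x ^ 2 ∈ Φ) (hN : ∀ x : G, x ∈ N ↔ x ^ 2 = 1) (z : G) (hz : z ∈ Subgroup.center G)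
    (hzN : z ∉ N) : Nat.card G < Nat.card N * Nat.card Φ ^ 2 := by
  classical
  set c := z ^ 2 with hc
  have hc1 : c ≠ 1 := fun h => hzN ((hN z).mpr h)
  have hcΦ : c ∈ Φ := hsq z
  have hczc : c ∈ Subgroup.center G := hΦc hcΦ
  have hord : orderOf c = 2 := orderOf_eq_prime (hΦ c hcΦ) hc1
  set C := zpowers c with hC
  haveI : C.Normal := ⟨fun w hw g => by
    rwa [Subgroup.mem_center_iff.mp (zpowers_le.mpr hczc hw) g, mul_inv_cancel_right]⟩
  have hCcard : Nat.card C = 2 := by rw [hC, Nat.card_zpowers, hord]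
  have hCmem : ∀ w ∈ C, w = 1 ∨ w = c := by
    intro w hw
    obtain ⟨i, rfl⟩ := mem_zpowers_iff.mp hw
    rw [← zpow_mod_orderOf, hord]
    rcases Int.emod_two_eq_zero_or_one i with h | h
    · exact Or.inl (by push_cast; rw [h, zpow_zero])
    · exact Or.inr (by push_cast; rw [h, zpow_one])
  let π := QuotientGroup.mk' C
  have hker : ∀ x, π x = 1 ↔ x ∈ C := fun x => QuotientGroup.eq_one_iff x
  have hzN' : z ∈ Subgroup.normalizer (N : Set G) := by
    rw [Subgroup.mem_normalizer_iff]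
    intro x
    rw [← Subgroup.mem_center_iff.mp hz x, mul_inv_cancel_right]
  let N' : Subgroup G := N ⊔ zpowers z
  have hN'mem : ∀ x, x ∈ N' ↔ x ^ 2 ∈ C := by
    intro x
    constructor
    · intro hx
      obtain ⟨v, hv, u, hu, rfl⟩ := CfsgLib.Coprime.exists_mul_of_mem_sup (H := zpowers z) (N := N)
        (zpowers_le.mpr hzN') (by rw [sup_comm]; exact hx)
      have hcv : Commute v u := (Subgroup.mem_center_iff.mp (zpowers_le.mpr hz hv) u).symm
      rw [hcv.mul_pow, (hN u).mp hu, mul_one]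
      obtain ⟨i, rfl⟩ := mem_zpowers_iff.mp hv
      rw [← zpow_natCast, ← zpow_mul, mul_comm, zpow_mul]
      exact Subgroup.zpow_mem _ (by rw [zpow_natCast]; exact mem_zpowers c) i
    · intro hx
      rcases hCmem _ hx with h | h
      · exact mem_sup_left ((hN x).mpr h)
      · have h1 : x * z⁻¹ ∈ N := by
          rw [hN, (Commute.inv_right (Subgroup.mem_center_iff.mp hz x : Commute x z)).mul_pow, h, inv_pow, mul_inv_cancel]
        simpa using N'.mul_mem (mem_sup_left h1) (mem_sup_right (mem_zpowers z))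
  have hCle : C ≤ Φ := zpowers_le.mpr hcΦ
  have hCN : C ≤ N := fun w hw => (hN w).mpr (hΦ w (hCle hw))
  have hb := card_le_of_squares (Φ.map π) (N'.map π) ?_ ?_ ?_ ?_
  rotate_left
  · rintro _ ⟨w, hw, rfl⟩
    rw [Subgroup.mem_center_iff]
    intro v
    obtain ⟨v, rfl⟩ := QuotientGroup.mk'_surjective C v
    rw [← map_mul, ← map_mul, Subgroup.mem_center_iff.mp (hΦc hw) v]
  · rintro _ ⟨w, hw, rfl⟩
    rw [← map_pow, hΦ w hw, map_one]
  · intro v
    obtain ⟨v, rfl⟩ := QuotientGroup.mk'_surjective C v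
    exact ⟨v ^ 2, hsq v, map_pow _ _ _⟩
  · intro v
    obtain ⟨v, rfl⟩ := QuotientGroup.mk'_surjective C v
    rw [← map_pow]
    constructor
    · rintro ⟨w, hw, hwv⟩
      have hkm : w⁻¹ * v ∈ C := (hker _).mp (by rw [map_mul, map_inv, hwv, inv_mul_cancel])
      refine (hker _).mpr ((hN'mem v).mp ?_)
      simpa using N'.mul_mem hw ((hCN.trans le_sup_left) hkm)
    · intro h
      exact ⟨v, (hN'mem v).mpr ((hker _).mp h), rfl⟩
  have hmap : ∀ H : Subgroup G, C ≤ H → Nat.card H = Nat.card (H.map π) * 2 := by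
    intro H hH
    have h1 := CfsgLib.Coprime.card_map_mul_inf_ker π H
    rw [show π.ker = C from QuotientGroup.ker_mk' C, inf_eq_left.mpr hH, hCcard] at h1
    exact h1.symm
  have hN'card : Nat.card N' ≤ Nat.card N * 2 := by
    have h := CfsgLib.Coprime.card_sup_mul_card_inf (H := zpowers z) (N := N) (zpowers_le.mpr hzN')
    rw [sup_comm] at h
    have hz4 : orderOf z = 4 := by
      refine orderOf_eq_prime_pow (p := 2) (n := 1) ?_ ?_
      · rw [pow_one]; exact hc1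
      · show z ^ (2 ^ 2) = 1
        rw [show 2 ^ 2 = 2 * 2 by rfl, pow_mul, ← hc, hΦ c hcΦ]
    rw [Nat.card_zpowers, hz4] at h
    have hi : 2 ≤ Nat.card ↥(zpowers z ⊓ N) ∧ 2 ≤ Nat.card ↥(N ⊓ zpowers z) := by
      have hle : C ≤ zpowers z ⊓ N := le_inf (zpowers_le.mpr (Subgroup.pow_mem _ (mem_zpowers z) 2)) hCN
      exact ⟨hCcard ▸ card_le_of_le hle, by rw [inf_comm]; exact hCcard ▸ card_le_of_le hle⟩
    nlinarith [hi.1, hi.2, h, Nat.card_pos (α := N')]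
  have hG : Nat.card G = Nat.card (G ⧸ C) * 2 := by
    rw [Subgroup.card_eq_card_quotient_mul_card_subgroup C, hCcard]
  have h1 := hmap N' (hCN.trans le_sup_left)
  rw [hG, hmap Φ hCle]
  calc Nat.card (G ⧸ C) * 2 ≤ Nat.card ↥(N'.map π) * Nat.card ↥(Φ.map π) ^ 2 * 2 := Nat.mul_le_mul_right _ hb
    _ = Nat.card N' * Nat.card ↥(Φ.map π) ^ 2 := by rw [h1]; ring
    _ ≤ Nat.card N * 2 * Nat.card ↥(Φ.map π) ^ 2 := Nat.mul_le_mul_right _ hN'card
    _ < _ := by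
      have : 0 < Nat.card N * Nat.card ↥(Φ.map π) ^ 2 := Nat.mul_pos Nat.card_pos (pow_pos Nat.card_pos 2)
      nlinarith


/-- Let G be a finite 2-group of nilpotency class at most 2 and exponent dividing 4 in which the elements x with x² = 1 form a subgroup N. Then |G| ≤ |N|³, and |G| < |N|³ unless G is special. -/
theorem result {G : Type*} [Group G] [Finite G] (hG : IsPGroup 2 G) (hcl : (⊤ : Subgroup G).lowerCentralSeries 2 = ⊥) (hexp : ∀ x : G, x ^ 4 = 1) (hN : ∀ x y : G, x ^ 2 = 1 → y ^ 2 = 1 → (x * y) ^ 2 = 1) : Nat.card G ≤ Nat.card {x : G // x ^ 2 = 1} ^ 3 ∧ (¬ Cfsg.IsSpecial 2 G → Nat.card G < Nat.card {x : G // x ^ 2 = 1} ^ 3) := by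
  classical
  have hcl' : ∀ x y : G, ⁅x, y⁆ ∈ Subgroup.center G := by
    intro x y
    rw [Subgroup.mem_center_iff]
    intro g
    have h : ⁅⁅x, y⁆, g⁆ ∈ (⊤ : Subgroup G).lowerCentralSeries 2 := by
      rw [Subgroup.lowerCentralSeries_succ, Subgroup.top_lowerCentralSeries_one]
      exact Subgroup.commutator_mem_commutator (Subgroup.commutator_mem_commutator (mem_top x) (mem_top y)) (mem_top g)
    rw [hcl, mem_bot, commutatorElement_eq_one_iff_mul_comm] at h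
    exact h.symm
  have hsqc : ∀ x : G, x ^ 2 ∈ Subgroup.center G := by
    intro x
    rw [Subgroup.mem_center_iff]
    intro y
    have h1 : ⁅x, y⁆ ^ 2 = 1 := by
      have h4 := mul_pow_of_central (x := y) (y := x) (hcl' x y) 4
      rw [hexp, hexp, hexp, one_mul, one_mul, show Nat.choose 4 2 = 4 + 2 by decide, pow_add, hexp, one_mul] at h4
      exact h4.symm
    rw [← commutatorElement_pow_left_of_central (hcl' x y), commutatorElement_eq_one_iff_mul_comm] at h1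
    exact h1.symm
  let N : Subgroup G :=
    { carrier := {x | x ^ 2 = 1}
      one_mem' := one_pow 2
      mul_mem' := fun {a b} ha hb => hN a b ha hb
      inv_mem' := fun {a} ha => by
        show a⁻¹ ^ 2 = 1
        rw [inv_pow, show a ^ 2 = 1 from ha, inv_one] }
  have hNmem : ∀ x, x ∈ N ↔ x ^ 2 = 1 := fun x => Iff.rfl
  have hsqN : ∀ x : G, x ^ 2 ∈ N := fun x => (hNmem _).mpr (by rw [← pow_mul]; exact hexp x)
  set Φ := frattini G with hΦdef
  have hsqΦ : ∀ x : G, x ^ 2 ∈ Φ := fun x => pow_mem_frattini hG x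
  have hΦc : Φ ≤ Subgroup.center G := frattini_le_of _ (Subgroup.commutator_le.mpr fun x _ y _ => hcl' x y) hsqc
  have hΦN : Φ ≤ N := by
    refine frattini_le_of N (Subgroup.commutator_le.mpr fun x _ y _ => ?_) hsqN
    have e : ⁅x, y⁆ = (x * y) ^ 2 * (y⁻¹) ^ 2 * (y * x⁻¹ * y⁻¹) ^ 2 := by
      simp only [commutatorElement_def, sq]; group
    rw [e]
    exact N.mul_mem (N.mul_mem (hsqN _) (hsqN _)) (hsqN _)
  have hΦ2 : ∀ z ∈ Φ, z ^ 2 = 1 := fun z hz => hΦN hz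
  have hNcard : Nat.card {x : G // x ^ 2 = 1} = Nat.card N := rfl
  rw [hNcard]
  have hb := card_le_of_squares Φ N hΦc hΦ2 hsqΦ hNmem
  have hle : Nat.card N * Nat.card Φ ^ 2 ≤ Nat.card N ^ 3 := by
    rw [pow_succ' _ 2]
    exact Nat.mul_le_mul_left _ (Nat.pow_le_pow_left (card_le_of_le hΦN) 2)
  refine ⟨hb.trans hle, fun hns => ?_⟩
  have hcomΦ : commutator G ≤ Φ := commutator_le_frattini hG
  rcases hcomΦ.eq_or_lt with hc | hc
  · rcases hΦN.eq_or_lt with hn | hn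
    · obtain ⟨z, hz, hzn⟩ : ∃ z ∈ Subgroup.center G, z ∉ N := by
        by_contra hcon
        push Not at hcon
        exact hns ⟨hG, le_antisymm hΦc (hn.ge.trans' hcon), hc.trans (le_antisymm hΦc (hn.ge.trans' hcon))⟩
      exact lt_of_lt_of_le (strict_of_center Φ N hΦc hΦ2 hsqΦ hNmem z hz hzn) hle
    · have hlt : Nat.card Φ < Nat.card N :=
        lt_of_le_of_ne (card_le_of_le hΦN) fun h => hn.ne (eq_of_le_of_card_ge hΦN h.ge)
      refine lt_of_le_of_lt hb ?_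
      rw [pow_succ' _ 2]
      exact Nat.mul_lt_mul_of_pos_left (Nat.pow_lt_pow_left hlt two_ne_zero) Nat.card_pos
  · exact lt_of_lt_of_le (strict_of_commutator_lt Φ N hΦc hΦ2 hsqΦ hNmem hc) hle

end Cfsg.Agent.S3773
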