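import Cfsg.Statements.S3774
import Cfsg.Agent.Lib.Structure.Subnormal

set_option autoImplicit false
open Cfsg

namespace Cfsg.Agent.S3774

open Subgroup


/-- Let G be a nontrivial finite 2-group whose automorphism group permutes the involutions of G transitively. Then every involution of G is central, so that the involutions together with 1 form the subgroup Ω₁(Z(G)), and if this subgroup has order q then |G| is a power of q. -/
theorem result {G : Type*} [Group G] [Finite G] [Nontrivial G] (hG : IsPGroup 2 G) (htrans : ∀ x y : G, x ≠ 1 → x ^ 2 = 1 → y ≠ 1 → y ^ 2 = 1 → ∃ a : MulAut G, a x = y) : (∀ x : G, x ^ 2 = 1 → x ∈ Subgroup.center G) ∧ ∃ m : ℕ, Nat.card G = Nat.card {z : G // z ^ 2 = 1} ^ m := by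
  classical
  have hexp : ∀ g : G, g ≠ 1 → ∃ k, orderOf g = 2 ^ (k + 1) := by
    intro g hg
    obtain ⟨k, hk⟩ := IsPGroup.iff_orderOf.mp hG g
    rcases k with _ | k
    · exact absurd (orderOf_eq_one_iff.mp (by rw [hk, pow_zero])) hg
    · exact ⟨k, hk⟩
  let I := {x : G // x ≠ 1 ∧ x ^ 2 = 1}
  have hφ : ∀ g : {g : G // g ≠ 1}, (g : G) ^ (orderOf (g : G) / 2) ≠ 1 ∧ ((g : G) ^ (orderOf (g : G) / 2)) ^ 2 = 1 := by
    rintro ⟨g, hg⟩
    obtain ⟨k, hk⟩ := hexp g hg
    rw [hk, pow_succ, Nat.mul_div_cancel _ two_pos, ← pow_mul, ← pow_succ, ← hk, pow_orderOf_eq_one]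
    refine ⟨fun h => ?_, rfl⟩
    have := Nat.le_of_dvd (by positivity) (orderOf_dvd_of_pow_eq_one h)
    rw [hk, pow_succ] at this
    have : 0 < 2 ^ k := by positivity
    omega
  let φ : {g : G // g ≠ 1} → I := fun g => ⟨_, hφ g⟩
  haveI := hG.center_nontrivial
  obtain ⟨⟨z, hz⟩, hz1⟩ := exists_ne (1 : Subgroup.center G)
  have hzne : z ≠ 1 := fun h => hz1 (Subtype.ext h)
  let i₀ : I := φ ⟨z, hzne⟩
  have hi₀ : (i₀ : G) ∈ Subgroup.center G := Subgroup.pow_mem _ hz _
  have hcent : ∀ x : G, x ^ 2 = 1 → x ∈ Subgroup.center G := by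
    intro x hx
    by_cases hx1 : x = 1
    · subst hx1; exact one_mem _
    obtain ⟨a, ha⟩ := htrans i₀ x i₀.2.1 i₀.2.2 hx1 hx
    rw [← ha]
    have h := Subgroup.characteristic_iff_comap_eq.mp (inferInstance : (Subgroup.center G).Characteristic) a
    exact h.ge hi₀
  refine ⟨hcent, ?_⟩
  let Ω : Subgroup G :=
    { carrier := {x | x ^ 2 = 1}
      one_mem' := one_pow 2
      mul_mem' := fun {a b} ha hb => by
        have hc : Commute a b := Commute.symm (Subgroup.mem_center_iff.mp (hcent a ha) b)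
        show (a * b) ^ 2 = 1
        rw [hc.mul_pow, show a ^ 2 = 1 from ha, show b ^ 2 = 1 from hb, one_mul]
      inv_mem' := fun {a} ha => by
        show a⁻¹ ^ 2 = 1
        rw [inv_pow, show a ^ 2 = 1 from ha, inv_one] }
  have hΩ : Nat.card {z : G // z ^ 2 = 1} = Nat.card Ω := rfl
  obtain ⟨N, hN⟩ := hG.exists_card_eq
  obtain ⟨n, hn⟩ := (hG.to_subgroup Ω).exists_card_eq
  have hfib : ∀ i : I, Nat.card {g // φ g = i} = Nat.card {g // φ g = i₀} := by
    intro i
    obtain ⟨a, ha⟩ := htrans i₀ i i₀.2.1 i₀.2.2 i.2.1 i.2.2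
    let e : {g : G // g ≠ 1} ≃ {g : G // g ≠ 1} := a.toEquiv.subtypeEquiv fun g => by
      simp
    have heq : ∀ g, ((φ (e g) : I) : G) = a (φ g : I) := fun g => by
      show (a g.1) ^ (orderOf (a g.1) / 2) = a (g.1 ^ (orderOf g.1 / 2))
      rw [MulEquiv.orderOf_eq, map_pow]
    refine Nat.card_congr (e.subtypeEquiv fun g => ?_).symm
    rw [Subtype.ext_iff, Subtype.ext_iff, heq, ← ha]
    exact a.injective.eq_iff.symm
  haveI := Fintype.ofFinite I
  have hcount : Nat.card {g : G // g ≠ 1} = Nat.card I * Nat.card {g // φ g = i₀} := by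
    rw [← Nat.card_congr (Equiv.sigmaFiberEquiv φ), Nat.card_sigma, Finset.sum_congr rfl fun i _ => hfib i,
      Finset.sum_const, smul_eq_mul, Finset.card_univ, Nat.card_eq_fintype_card (α := I)]
  haveI := Fintype.ofFinite G
  have hG1 : Nat.card {g : G // g ≠ 1} = Nat.card G - 1 := by
    rw [Nat.card_eq_fintype_card, Fintype.card_subtype_compl, Fintype.card_subtype_eq, Nat.card_eq_fintype_card]
  have hI1 : Nat.card I = Nat.card Ω - 1 := by
    let e : I ≃ {x : Ω // x ≠ 1} :=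
      { toFun := fun x => ⟨⟨x.1, x.2.2⟩, fun h => x.2.1 (congrArg Subtype.val h)⟩
        invFun := fun x => ⟨x.1.1, fun h => x.2 (Subtype.ext h), x.1.2⟩
        left_inv := fun x => rfl
        right_inv := fun x => rfl }
    rw [Nat.card_congr e, Nat.card_eq_fintype_card, Fintype.card_subtype_compl, Fintype.card_subtype_eq,
      Nat.card_eq_fintype_card]
  rw [hG1, hI1, hn, hN] at hcount
  have hgcd : Nat.gcd (2 ^ n - 1) (2 ^ N - 1) = 2 ^ n - 1 := Nat.gcd_eq_left (Dvd.intro _ hcount.symm)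
  rw [Nat.pow_sub_one_gcd_pow_sub_one] at hgcd
  have hdvd : n ∣ N := by
    have h1 : 2 ^ Nat.gcd n N = 2 ^ n := by
      have := Nat.one_le_two_pow (n := Nat.gcd n N)
      have := Nat.one_le_two_pow (n := n)
      omega
    rw [← Nat.pow_right_injective le_rfl h1]
    exact Nat.gcd_dvd_right n N
  obtain ⟨m, rfl⟩ := hdvd
  exact ⟨m, by rw [hΩ, hn, hN, ← pow_mul]⟩

end Cfsg.Agent.S3774
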