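import Cfsg.Statements.S3775
import Cfsg.Agent.Lib.Coprime.Basic

set_option autoImplicit false
open Cfsg

namespace Cfsg.Agent.S3775

open Subgroup

variable {A : Type*} [CommGroup A] [Finite A] {p : ℕ} [hp : Fact p.Prime]

theorem orderOf_eq_of_pow {e : ℕ} {a : A} (h1 : a ^ p ^ (e + 1) = 1) (h2 : a ^ p ^ e ≠ 1) :
    orderOf a = p ^ (e + 1) :=
  orderOf_eq_prime_pow h2 h1

/-- A cyclic subgroup of largest order is a direct summand. -/
theorem exists_retraction {e : ℕ} (hexp : ∀ x : A, x ^ p ^ (e + 1) = 1) {a : A} (ha : a ^ p ^ e ≠ 1) :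
    ∃ r : A →* A, r a = a ∧ ∀ x, r x ∈ zpowers a := by
  have hord := orderOf_eq_of_pow (hexp a) ha
  obtain ⟨K, -, hK⟩ := ({K : Subgroup A | K ⊓ zpowers a = ⊥}).toFinite.exists_le_maximal
    (a := ⊥) (by simp)
  have hdisj : K ⊓ zpowers a = ⊥ := hK.prop
  have htop : K ⊔ zpowers a = ⊤ := by
    by_contra hne
    obtain ⟨x, hx⟩ : ∃ x, x ∉ K ⊔ zpowers a := by
      by_contra h
      push Not at h
      exact hne (eq_top_iff.mpr fun x _ => h x)
    have hex : ∃ j, x ^ p ^ j ∈ K ⊔ zpowers a := ⟨e + 1, by rw [hexp x]; exact one_mem _⟩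
    classical
    obtain ⟨j, hj⟩ : ∃ j, Nat.find hex = j + 1 := by
      rcases h0 : Nat.find hex with _ | j
      · exact absurd (by have := Nat.find_spec hex; rwa [h0, pow_zero, pow_one] at this) hx
      · exact ⟨j, rfl⟩
    set y₀ := x ^ p ^ j with hy₀
    have hy₀n : y₀ ∉ K ⊔ zpowers a := Nat.find_min hex (by omega)
    have hy₀p : y₀ ^ p ∈ K ⊔ zpowers a := by
      have := Nat.find_spec hex
      rwa [hj, pow_succ, pow_mul] at this
    obtain ⟨k, hk, z, hz, hkz⟩ := mem_sup.mp hy₀p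
    obtain ⟨i, rfl⟩ := mem_zpowers_iff.mp hz
    have hi : (p : ℤ) ∣ i := by
      have h1 : (k * a ^ i) ^ (p ^ e : ℕ) = 1 := by
        rw [hkz, ← pow_mul, ← pow_succ', hexp]
      rw [mul_pow] at h1
      have h2 : (a ^ i) ^ (p ^ e : ℕ) ∈ K ⊓ zpowers a := by
        refine ⟨?_, Subgroup.pow_mem _ (Subgroup.zpow_mem _ (mem_zpowers a) i) _⟩
        show (a ^ i) ^ (p ^ e : ℕ) ∈ K
        rw [← inv_eq_of_mul_eq_one_right h1]
        exact inv_mem (pow_mem hk _)
      rw [hdisj, mem_bot, ← zpow_natCast, ← zpow_mul] at h2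
      have h3 := orderOf_dvd_iff_zpow_eq_one.mpr h2
      rw [hord] at h3
      push_cast at h3
      rw [pow_succ, mul_comm i] at h3
      exact Int.dvd_of_mul_dvd_mul_left (pow_ne_zero e (by exact_mod_cast hp.out.ne_zero)) h3
    obtain ⟨i', rfl⟩ := hi
    set y := y₀ * (a ^ i')⁻¹ with hy
    have hyn : y ∉ K ⊔ zpowers a := fun h => hy₀n (by
      have := mul_mem h (mem_sup_right (S := K) (Subgroup.zpow_mem _ (mem_zpowers a) i'))
      rwa [hy, inv_mul_cancel_right] at this)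
    have hyp : y ^ p ∈ K := by
      rw [hy, mul_pow, inv_pow, ← zpow_natCast (a ^ i') p, ← zpow_mul, mul_comm i', ← hkz, mul_inv_cancel_right]
      exact hk
    have hbad : (K ⊔ zpowers y) ⊓ zpowers a ≠ ⊥ := by
      intro h0
      have := hK.le_of_ge (show (K ⊔ zpowers y) ∈ {K : Subgroup A | K ⊓ zpowers a = ⊥} from h0) le_sup_left
      exact hyn (mem_sup_left (this (mem_sup_right (mem_zpowers y))))
    obtain ⟨⟨w, hw⟩, hw1⟩ := ne_bot_iff_exists_ne_one.mp hbad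
    obtain ⟨k', hk', z', hz', hkz'⟩ := mem_sup.mp hw.1
    obtain ⟨m, rfl⟩ := mem_zpowers_iff.mp hz'
    by_cases hpm : (p : ℤ) ∣ m
    · obtain ⟨m', rfl⟩ := hpm
      have hwK : w ∈ K := by
        have hh := K.mul_mem hk' (Subgroup.zpow_mem _ hyp m')
        rw [← zpow_natCast, ← zpow_mul, hkz'] at hh
        exact hh
      exact hw1 (Subtype.ext (mem_bot.mp (hdisj.le ⟨hwK, hw.2⟩)))
    · refine hyn ?_
      have h1 : y ^ m ∈ K ⊔ zpowers a := by
        have : y ^ m = k'⁻¹ * w := by rw [← hkz', inv_mul_cancel_left]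
        rw [this]
        exact mul_mem (mem_sup_left (inv_mem hk')) (mem_sup_right hw.2)
      obtain ⟨u, v, huv⟩ : ∃ u v : ℤ, u * m + v * p = 1 := by
        have : IsCoprime m (p : ℤ) := by
          rw [isCoprime_comm]
          exact ((Nat.prime_iff_prime_int.mp hp.out).coprime_iff_not_dvd).mpr hpm
        exact this
      rw [← zpow_one y, ← huv, zpow_add, mul_comm u, zpow_mul, mul_comm v, zpow_mul, zpow_natCast]
      exact mul_mem (Subgroup.zpow_mem _ h1 u) (mem_sup_left (Subgroup.zpow_mem _ hyp v))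
  set f := (QuotientGroup.mk' K).comp (zpowers a).subtype with hf
  have hinj : Function.Injective f := by
    rw [injective_iff_map_eq_one]
    intro x hx
    have hxK : (x : A) ∈ K := (QuotientGroup.eq_one_iff _).mp hx
    exact Subtype.ext (mem_bot.mp (hdisj.le ⟨hxK, x.2⟩))
  have hsurj : Function.Surjective f := by
    intro q
    obtain ⟨x, rfl⟩ := QuotientGroup.mk'_surjective K q
    obtain ⟨k, hk, z, hz, rfl⟩ := mem_sup.mp (htop.ge (mem_top x))
    refine ⟨⟨z, hz⟩, ?_⟩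
    rw [map_mul, show QuotientGroup.mk' K k = 1 from (QuotientGroup.eq_one_iff k).mpr hk, one_mul]
    rfl
  let e' := MulEquiv.ofBijective f ⟨hinj, hsurj⟩
  refine ⟨(zpowers a).subtype.comp (e'.symm.toMonoidHom.comp (QuotientGroup.mk' K)), ?_, fun x => ?_⟩
  · show ((e'.symm (QuotientGroup.mk' K a) : zpowers a) : A) = a
    have h1 : QuotientGroup.mk' K a = e' ⟨a, mem_zpowers a⟩ := rfl
    rw [h1, MulEquiv.symm_apply_apply]
  · exact (e'.symm (QuotientGroup.mk' K x)).2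

/-- Endomorphism fixing `V` and mapping all elements of order dividing `p` into `V`. -/
theorem exists_proj {e : ℕ} (hexp : ∀ x : A, x ^ p ^ (e + 1) = 1) :
    ∀ n, ∀ V : Subgroup A, Nat.card V = n → (∀ v ∈ V, ∃ a, a ^ p ^ e = v) →
      ∃ π : A →* A, (∀ v ∈ V, π v = v) ∧ ∀ x, x ^ p = 1 → π x ∈ V := by
  intro n
  induction n using Nat.strong_induction_on with
  | _ n ih =>
    intro V hn hVM
    rcases eq_or_ne V ⊥ with rfl | hne
    · exact ⟨1, fun v hv => by simp [mem_bot.mp hv], fun x _ => one_mem _⟩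
    obtain ⟨⟨u, hu⟩, hu1⟩ := ne_bot_iff_exists_ne_one.mp hne
    have hu1' : u ≠ 1 := fun h => hu1 (Subtype.ext h)
    obtain ⟨a, rfl⟩ := hVM u hu
    obtain ⟨r, hra, hrr⟩ := exists_retraction hexp hu1'
    have hord := orderOf_eq_of_pow (hexp a) hu1'
    have hsmall : ∀ z ∈ zpowers a, z ^ p = 1 → z ∈ zpowers (a ^ p ^ e) := by
      intro z hz hzp
      obtain ⟨i, rfl⟩ := mem_zpowers_iff.mp hz
      rw [← zpow_natCast, ← zpow_mul] at hzp
      have h3 := orderOf_dvd_iff_zpow_eq_one.mpr hzp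
      rw [hord] at h3
      push_cast at h3
      rw [pow_succ] at h3
      obtain ⟨c, rfl⟩ := Int.dvd_of_mul_dvd_mul_right (by exact_mod_cast hp.out.ne_zero) h3
      refine mem_zpowers_iff.mpr ⟨c, ?_⟩
      rw [zpow_mul, ← zpow_natCast a (p ^ e)]
      push_cast
      rfl
    have hVp : ∀ v ∈ V, v ^ p = 1 := by
      intro v hv
      obtain ⟨b, rfl⟩ := hVM v hv
      rw [← pow_mul, ← pow_succ, hexp]
    have hlt : Nat.card ↥(V ⊓ r.ker) < n := by
      rw [← hn]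
      refine lt_of_le_of_ne (card_le_of_le inf_le_left) fun he => hu1' ?_
      have := (eq_of_le_of_card_ge inf_le_left he.ge).ge hu
      have h2 : r (a ^ p ^ e) = 1 := this.2
      rwa [map_pow, hra] at h2
    obtain ⟨π', hπV, hπp⟩ := ih _ hlt (V ⊓ r.ker) rfl fun v hv => hVM v hv.1
    refine ⟨r * π'.comp (MonoidHom.id A / r), fun v hv => ?_, fun x hx => ?_⟩
    · have h1 : r v ∈ zpowers (a ^ p ^ e) := hsmall _ (hrr v) (by rw [← map_pow, hVp v hv, map_one])
      have hrV : r v ∈ V := (zpowers_le.mpr hu) h1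
      have hrr' : r (r v) = r v := by
        obtain ⟨i, hi⟩ := mem_zpowers_iff.mp (hrr v)
        rw [← hi, map_zpow, hra]
      have h2 : v / r v ∈ V ⊓ r.ker := ⟨V.div_mem hv hrV, by
        show r (v / r v) = 1
        rw [map_div, hrr', div_self']⟩
      show r v * π' (v / r v) = v
      rw [hπV _ h2, mul_div_cancel]
    · refine mul_mem ((zpowers_le.mpr hu) (hsmall _ (hrr x) (by rw [← map_pow, hx, map_one]))) (hπp _ ?_).1
      show (x / r x) ^ p = 1
      rw [div_pow, ← map_pow, hx, map_one, div_one]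

/-- Indecomposable implies irreducible on the elements of order dividing `p`. -/
theorem irreducible_of_indecomposable (hA : IsPGroup p A) (X : Subgroup (MulAut A)) (hX : (Nat.card X).Coprime p)
    (hind : ¬ ∃ B C : Subgroup A, B ≠ ⊥ ∧ C ≠ ⊥ ∧ (∀ x ∈ X, B.map x.toMonoidHom = B) ∧
      (∀ x ∈ X, C.map x.toMonoidHom = C) ∧ B ⊓ C = ⊥ ∧ B ⊔ C = ⊤)
    (B : Subgroup A) (hBinv : ∀ x ∈ X, B.map x.toMonoidHom = B) (hBp : ∀ b ∈ B, b ^ p = 1) (hBne : B ≠ ⊥) :
    ∀ a : A, a ^ p = 1 → a ∈ B := by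
  classical
  by_contra hcon
  push Not at hcon
  obtain ⟨t, ht, htB⟩ := hcon
  haveI := Fintype.ofFinite X
  have ht1 : t ≠ 1 := fun h => htB (h ▸ one_mem B)
  have hexists : ∃ N, ∀ x : A, x ^ p ^ N = 1 := by
    obtain ⟨N, hN⟩ := IsPGroup.iff_card.mp hA
    exact ⟨N, fun x => by rw [← hN]; exact pow_card_eq_one'⟩
  obtain ⟨e, he⟩ : ∃ e, Nat.find hexists = e + 1 := by
    rcases h0 : Nat.find hexists with _ | j
    · exact absurd (by simpa [h0] using Nat.find_spec hexists t) ht1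
    · exact ⟨j, rfl⟩
  have hexp : ∀ x : A, x ^ p ^ (e + 1) = 1 := he ▸ Nat.find_spec hexists
  obtain ⟨a₀, ha₀⟩ := not_forall.mp (Nat.find_min hexists (show e < Nat.find hexists by omega))
  set M := (powMonoidHom (p ^ e) : A →* A).range with hM
  have hMp : ∀ v ∈ M, v ^ p = 1 := by
    rintro _ ⟨b, rfl⟩
    show (b ^ p ^ e) ^ p = 1
    rw [← pow_mul, ← pow_succ, hexp]
  have hMinv : ∀ x ∈ X, M.map x.toMonoidHom = M := fun x _ => by
    refine le_antisymm ?_ ?_
    · rintro _ ⟨_, ⟨b, rfl⟩, rfl⟩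
      exact ⟨x b, (map_pow x b _).symm⟩
    · rintro _ ⟨b, rfl⟩
      exact ⟨(x.symm b) ^ p ^ e, ⟨x.symm b, rfl⟩, by
        show x ((x.symm b) ^ p ^ e) = b ^ p ^ e
        rw [map_pow, MulEquiv.apply_symm_apply]⟩
  obtain ⟨U, hUinv, hUne, hUM, w, hwp, hwU⟩ : ∃ U : Subgroup A, (∀ x ∈ X, U.map x.toMonoidHom = U) ∧
      U ≠ ⊥ ∧ U ≤ M ∧ ∃ w, w ^ p = 1 ∧ w ∉ U := by
    by_cases h : ∀ a : A, a ^ p = 1 → a ∈ M
    · exact ⟨B, hBinv, hBne, fun b hb => h b (hBp b hb), t, ht, htB⟩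
    · push Not at h
      exact ⟨M, hMinv, fun h0 => ha₀ (mem_bot.mp (h0 ▸ ⟨a₀, rfl⟩)), le_rfl, h⟩
  obtain ⟨π, hπU, hπp⟩ := exists_proj hexp _ U rfl fun v hv => hUM hv
  let θ : A →* A := ∏ x : X, (x : MulAut A).toMonoidHom.comp (π.comp (x : MulAut A).symm.toMonoidHom)
  have hθ : ∀ v, θ v = ∏ x : X, (x : MulAut A) (π ((x : MulAut A).symm v)) := fun v => MonoidHom.finset_prod_apply _ _ _
  have hmemU : ∀ x : X, ∀ v ∈ U, (x : MulAut A).symm v ∈ U := fun x v hv => by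
    rw [← hUinv x x.2] at hv
    obtain ⟨u, hu, rfl⟩ := hv
    simpa using hu
  have hθU : ∀ v ∈ U, θ v = v ^ Nat.card X := by
    intro v hv
    rw [hθ, Finset.prod_congr rfl (fun (x : X) _ => show (x : MulAut A) (π ((x : MulAut A).symm v)) = v by
      rw [hπU _ (hmemU x v hv), MulEquiv.apply_symm_apply]), Finset.prod_const, Finset.card_univ, Nat.card_eq_fintype_card]
  have hθp : ∀ v, v ^ p = 1 → θ v ∈ U := by
    intro v hv
    rw [hθ]
    refine prod_mem fun x _ => ?_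
    have h1 := hπp ((x : MulAut A).symm v) (by rw [← map_pow, hv, map_one])
    rw [← hUinv x x.2]
    exact mem_map_of_mem _ h1
  have hcomm : ∀ g : X, ∀ v, θ ((g : MulAut A) v) = (g : MulAut A) (θ v) := by
    intro g v
    rw [hθ, hθ, map_prod]
    refine Fintype.prod_equiv (Equiv.mulLeft g⁻¹) _ _ fun x => ?_
    have h1 : ((g⁻¹ * x : X) : MulAut A).symm v = (x : MulAut A).symm ((g : MulAut A) v) := by
      apply ((g⁻¹ * x : X) : MulAut A).injective
      rw [MulEquiv.apply_symm_apply]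
      show v = (g : MulAut A).symm ((x : MulAut A) ((x : MulAut A).symm ((g : MulAut A) v)))
      simp
    show _ = (g : MulAut A) (((g⁻¹ * x : X) : MulAut A) (π (((g⁻¹ * x : X) : MulAut A).symm v)))
    rw [h1]
    show _ = (g : MulAut A) ((g : MulAut A).symm ((x : MulAut A) (π ((x : MulAut A).symm ((g : MulAut A) v)))))
    simp
  let θ' : ℕ → (A →* A) := fun n => Nat.rec (MonoidHom.id A) (fun _ f => f.comp θ) n
  have hcomm' : ∀ n, ∀ g : X, ∀ v, θ' n ((g : MulAut A) v) = (g : MulAut A) (θ' n v) := by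
    intro n
    induction n with
    | zero => intro g v; rfl
    | succ n ih => intro g v; show θ' n (θ _) = _; rw [hcomm, ih]; rfl
  have hadd : ∀ m n, ∀ v, θ' (m + n) v = θ' m (θ' n v) := by
    intro m n
    induction n with
    | zero => intro v; rfl
    | succ n ih => intro v; exact ih (θ v)
  have hpowU : ∀ n, ∀ v ∈ U, θ' n v = v ^ (Nat.card X) ^ n := by
    intro n
    induction n with
    | zero => intro v _; rw [pow_zero, pow_one]; rfl
    | succ n ih =>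
      intro v hv
      show θ' n (θ v) = _
      rw [hθU v hv, ih _ (pow_mem hv _), ← pow_mul, pow_succ']
  have hUinj : ∀ n, ∀ v ∈ U, θ' n v = 1 → v = 1 := by
    intro n v hv h
    rw [hpowU n v hv] at h
    rw [← orderOf_eq_one_iff]
    exact Nat.dvd_one.mp ((Nat.Coprime.pow_left n hX) ▸
      Nat.dvd_gcd (orderOf_dvd_of_pow_eq_one h) (orderOf_dvd_of_pow_eq_one (hMp v (hUM hv))))
  set N := (Nat.card A).factorial * (Nat.card A).factorial with hN
  obtain ⟨k, hk1, hk⟩ : ∃ k, 1 ≤ k ∧ (θ' k).ker = (θ' (2 * k)).ker := by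
    by_contra hno
    push Not at hno
    have hgrow : ∀ j, j + 1 ≤ Nat.card ↥(θ' (2 ^ j)).ker := by
      intro j
      induction j with
      | zero => exact Nat.card_pos
      | succ j ih =>
        have hle : (θ' (2 ^ j)).ker ≤ (θ' (2 ^ (j + 1))).ker := fun v hv => by
          rw [MonoidHom.mem_ker] at hv ⊢
          rw [pow_succ, mul_two, hadd, hv, map_one]
        refine Nat.succ_le_of_lt (lt_of_le_of_lt ih (lt_of_le_of_ne (card_le_of_le hle) fun heq => ?_))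
        refine hno (2 ^ j) Nat.one_le_two_pow ?_
        rw [mul_comm, ← pow_succ]
        exact eq_of_le_of_card_ge hle heq.ge
    have h1 := hgrow (Nat.card A)
    have h2 := card_le_card_group (θ' (2 ^ Nat.card A)).ker
    omega
  have hdisj : (θ' k).ker ⊓ (θ' k).range = ⊥ := by
    rw [eq_bot_iff]
    rintro v ⟨hv, u, rfl⟩
    have h2 : u ∈ (θ' (2 * k)).ker := by
      rw [MonoidHom.mem_ker, two_mul, hadd]
      exact hv
    rw [← hk] at h2
    exact mem_bot.mpr h2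
  refine hind ⟨(θ' k).ker, (θ' k).range, ?_, ?_, ?_, ?_, hdisj, ?_⟩
  · intro h0
    obtain ⟨k', rfl⟩ : ∃ k', k = k' + 1 := ⟨k - 1, by omega⟩
    have hinj : ∀ v, θ v = 1 → v = 1 := fun v hv => mem_bot.mp (h0.le (by
      show θ' k' (θ v) = 1
      rw [hv, map_one]))
    let Ω : Subgroup A := (powMonoidHom p).ker
    have hlt : Nat.card U < Nat.card Ω := by
      refine lt_of_le_of_ne (card_le_of_le fun v hv => hMp v (hUM hv)) fun he' => hwU ?_
      exact (eq_of_le_of_card_ge (fun v hv => hMp v (hUM hv)) he'.ge).ge hwp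
    have : Nat.card Ω ≤ Nat.card U :=
      Nat.card_le_card_of_injective (fun v => ⟨θ v, hθp v v.2⟩) fun v v' hvv => by
        apply Subtype.ext
        refine div_eq_one.mp (hinj _ ?_)
        rw [map_div, show θ v = θ v' from congrArg Subtype.val hvv, div_self']
    omega
  · intro h0
    obtain ⟨⟨u, hu⟩, hu1⟩ := ne_bot_iff_exists_ne_one.mp hUne
    exact hu1 (Subtype.ext (hUinj k u hu (mem_bot.mp (h0.le ⟨u, rfl⟩))))
  · intro x hx
    have hle : ∀ y : X, (θ' k).ker.map (y : MulAut A).toMonoidHom ≤ (θ' k).ker := by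
      rintro y _ ⟨v, hv, rfl⟩
      show θ' k ((y : MulAut A) v) = 1
      rw [hcomm', show θ' k v = 1 from hv, map_one]
    exact eq_of_le_of_card_ge (hle ⟨x, hx⟩) (card_map_of_injective x.injective).ge
  · intro x hx
    have hle : ∀ y : X, (θ' k).range.map (y : MulAut A).toMonoidHom ≤ (θ' k).range := by
      rintro y _ ⟨_, ⟨v, rfl⟩, rfl⟩
      exact ⟨(y : MulAut A) v, hcomm' k y v⟩
    exact eq_of_le_of_card_ge (hle ⟨x, hx⟩) (card_map_of_injective x.injective).ge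
  · apply eq_top_of_card_eq
    rw [sup_comm]
    haveI : (MonoidHom.ker (θ' k)).Normal := MonoidHom.normal_ker (θ' k)
    have := CfsgLib.Coprime.card_sup_of_disjoint (H := (θ' k).range) (N := (θ' k).ker) (by intro x _; rw [Subgroup.normalizer_eq_top]; exact Subgroup.mem_top x) hdisj
    rw [this, mul_comm, ← (θ' k).ker.card_mul_index, index_ker]

/-- Irreducibility on the elements of order dividing `p` makes every invariant subgroup some `Ω_i`. -/
theorem omega_of_irreducible (hA : IsPGroup p A) (X : Subgroup (MulAut A))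
    (h3 : ∀ B : Subgroup A, (∀ x ∈ X, B.map x.toMonoidHom = B) → (∀ b ∈ B, b ^ p = 1) →
      B = ⊥ ∨ ∀ a : A, a ∈ B ↔ a ^ p = 1)
    (B : Subgroup A) (hB : ∀ x ∈ X, B.map x.toMonoidHom = B) :
    ∃ i : ℕ, ∀ a : A, a ∈ B ↔ a ^ p ^ i = 1 := by
  classical
  obtain ⟨N, hN⟩ := IsPGroup.iff_card.mp hA
  by_cases htop : ∀ i, ∀ a : A, a ^ p ^ i = 1 → a ∈ B
  · exact ⟨N, fun a => ⟨fun _ => by rw [← hN]; exact pow_card_eq_one', htop N a⟩⟩
  push Not at htop
  obtain ⟨j, hj⟩ : ∃ j, Nat.find htop = j + 1 := by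
    rcases h0 : Nat.find htop with _ | j
    · obtain ⟨a, ha, haB⟩ := h0 ▸ Nat.find_spec htop
      rw [pow_zero, pow_one] at ha
      exact absurd (ha ▸ one_mem B) haB
    · exact ⟨j, rfl⟩
  have hjB : ∀ a : A, a ^ p ^ j = 1 → a ∈ B := fun a ha => by
    by_contra h
    exact Nat.find_min htop (show j < Nat.find htop by omega) ⟨a, ha, h⟩
  obtain ⟨c, hc, hcB⟩ := hj ▸ Nat.find_spec htop
  refine ⟨j, fun a => ⟨fun haB => ?_, hjB a⟩⟩
  by_contra hne
  have hex : ∃ s, (a ^ p ^ s) ^ p ^ (j + 1) = 1 := ⟨N, by rw [← hN, pow_card_eq_one', one_pow]⟩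
  set b := a ^ p ^ Nat.find hex with hb
  have hb1 : b ^ p ^ (j + 1) = 1 := Nat.find_spec hex
  have hbj : b ^ p ^ j ≠ 1 := by
    rcases h0 : Nat.find hex with _ | s
    · rwa [hb, h0, pow_zero, pow_one]
    · intro h
      refine Nat.find_min hex (show s < Nat.find hex by omega) ?_
      rw [hb, h0, ← pow_mul, ← pow_add] at h
      rw [← pow_mul, ← pow_add, ← Nat.succ_add_eq_add_succ]
      exact h
  let W : Subgroup A := (B ⊓ (powMonoidHom (p ^ (j + 1))).ker).map (powMonoidHom (p ^ j))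
  have hW : ∀ x ∈ X, W.map x.toMonoidHom = W := by
    intro x hx
    refine eq_of_le_of_card_ge ?_ (card_map_of_injective x.injective).ge
    rintro _ ⟨_, ⟨v, ⟨hvB, hvk⟩, rfl⟩, rfl⟩
    refine ⟨x v, ⟨hB x hx ▸ mem_map_of_mem _ hvB, ?_⟩, (map_pow x v _).symm⟩
    show (x v) ^ p ^ (j + 1) = 1
    rw [← map_pow, show v ^ p ^ (j + 1) = 1 from hvk, map_one]
  have hWp : ∀ w ∈ W, w ^ p = 1 := by
    rintro _ ⟨v, hv, rfl⟩
    show (v ^ p ^ j) ^ p = 1
    rw [← pow_mul, ← pow_succ]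
    exact hv.2
  rcases h3 W hW hWp with h | h
  · exact hbj (mem_bot.mp (h.le ⟨b, ⟨pow_mem haB _, hb1⟩, rfl⟩))
  · obtain ⟨v, ⟨hvB, -⟩, hv⟩ := (h (c ^ p ^ j)).mpr (by rw [← pow_mul, ← pow_succ]; exact hc)
    refine hcB ?_
    have hd : c * v⁻¹ ∈ B := hjB _ (by
      rw [mul_pow, inv_pow, show v ^ p ^ j = c ^ p ^ j from hv, mul_inv_cancel])
    simpa using mul_mem hd hvB

/-- Indecomposability from the description of invariant subgroups. -/
theorem indecomposable_of_omega (hA : IsPGroup p A) (X : Subgroup (MulAut A))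
    (h2 : ∀ B : Subgroup A, (∀ x ∈ X, B.map x.toMonoidHom = B) → ∃ i : ℕ, ∀ a : A, a ∈ B ↔ a ^ p ^ i = 1) :
    ¬ ∃ B C : Subgroup A, B ≠ ⊥ ∧ C ≠ ⊥ ∧ (∀ x ∈ X, B.map x.toMonoidHom = B) ∧
      (∀ x ∈ X, C.map x.toMonoidHom = C) ∧ B ⊓ C = ⊥ ∧ B ⊔ C = ⊤ := by
  rintro ⟨B, C, hB, hC, hBi, hCi, hd, -⟩
  have key : ∀ D : Subgroup A, D ≠ ⊥ → (∀ x ∈ X, D.map x.toMonoidHom = D) → ∀ a : A, a ^ p = 1 → a ∈ D := by
    intro D hD hDi a ha
    obtain ⟨i, hi⟩ := h2 D hDi
    rcases i with _ | i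
    · refine absurd (le_bot_iff.mp fun d hd' => ?_) hD
      have := (hi d).mp hd'
      rw [pow_zero, pow_one] at this
      exact mem_bot.mpr this
    · exact (hi a).mpr (by rw [pow_succ', pow_mul, ha, one_pow])
  obtain ⟨⟨b, hb⟩, hb1⟩ := ne_bot_iff_exists_ne_one.mp hB
  haveI : Nontrivial B := ⟨⟨b, hb⟩, 1, hb1⟩
  have hdvd : p ∣ Nat.card B :=
    (hA.to_subgroup B).card_eq_or_dvd.resolve_left (Finite.one_lt_card (α := B)).ne'
  obtain ⟨x, hx⟩ := exists_prime_orderOf_dvd_card' p hdvd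
  have hxp : (x : A) ^ p = 1 := by
    rw [← SubmonoidClass.coe_pow, ← hx, pow_orderOf_eq_one]; rfl
  have : (x : A) ∈ B ⊓ C := ⟨x.2, key C hC hCi _ hxp⟩
  rw [hd, mem_bot] at this
  exact hp.out.ne_one (hx ▸ orderOf_eq_one_iff.mpr (Subtype.ext this))


/-- Let A be a finite abelian p-group and X a group of automorphisms of A of order prime to p. Call a subgroup of A invariant when every element of X maps it onto itself. Then the following are equivalent: (i) A is not the direct product of two nontrivial invariant subgroups; (ii) every invariant subgroup of A is one of the subgroups Ω_i(A) = {a : a^(p^i) = 1}; (iii) the subgroup Ω₁(A) of elements of order dividing p has no invariant subgroups other than 1 and itself. -/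
theorem result {A : Type*} [CommGroup A] [Finite A] {p : ℕ} [Fact p.Prime] (hA : IsPGroup p A) (X : Subgroup (MulAut A)) (hX : (Nat.card X).Coprime p) : ((¬ ∃ B C : Subgroup A, B ≠ ⊥ ∧ C ≠ ⊥ ∧ (∀ x ∈ X, B.map x.toMonoidHom = B) ∧ (∀ x ∈ X, C.map x.toMonoidHom = C) ∧ B ⊓ C = ⊥ ∧ B ⊔ C = ⊤) ↔ (∀ B : Subgroup A, (∀ x ∈ X, B.map x.toMonoidHom = B) → ∃ i : ℕ, ∀ a : A, a ∈ B ↔ a ^ p ^ i = 1)) ∧ ((∀ B : Subgroup A, (∀ x ∈ X, B.map x.toMonoidHom = B) → ∃ i : ℕ, ∀ a : A, a ∈ B ↔ a ^ p ^ i = 1) ↔ (∀ B : Subgroup A, (∀ x ∈ X, B.map x.toMonoidHom = B) → (∀ b ∈ B, b ^ p = 1) → B = ⊥ ∨ ∀ a : A, a ∈ B ↔ a ^ p = 1)) := by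
  have h12 : (¬ ∃ B C : Subgroup A, B ≠ ⊥ ∧ C ≠ ⊥ ∧ (∀ x ∈ X, B.map x.toMonoidHom = B) ∧
      (∀ x ∈ X, C.map x.toMonoidHom = C) ∧ B ⊓ C = ⊥ ∧ B ⊔ C = ⊤) → ∀ B : Subgroup A, (∀ x ∈ X, B.map x.toMonoidHom = B) →
      ∃ i : ℕ, ∀ a : A, a ∈ B ↔ a ^ p ^ i = 1 := fun h B hB => omega_of_irreducible hA X (fun W hW hWp => by
    rcases eq_or_ne W ⊥ with h' | h'
    · exact Or.inl h'
    · exact Or.inr fun a => ⟨hWp a, irreducible_of_indecomposable hA X hX h W hW hWp h' a⟩) B hB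
  · have h23 : (∀ B : Subgroup A, (∀ x ∈ X, B.map x.toMonoidHom = B) → ∃ i : ℕ, ∀ a : A, a ∈ B ↔ a ^ p ^ i = 1) →
        (∀ B : Subgroup A, (∀ x ∈ X, B.map x.toMonoidHom = B) → (∀ b ∈ B, b ^ p = 1) →
          B = ⊥ ∨ ∀ a : A, a ∈ B ↔ a ^ p = 1) := by
      intro h2 B hB hBp
      rcases eq_or_ne B ⊥ with h | h
      · exact Or.inl h
      · exact Or.inr fun a => ⟨hBp a, irreducible_of_indecomposable hA X hX (indecomposable_of_omega hA X h2) B hB hBp h a⟩
    exact ⟨⟨h12, indecomposable_of_omega hA X⟩, ⟨h23, fun h3 B hB => omega_of_irreducible hA X h3 B hB⟩⟩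

end Cfsg.Agent.S3775
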