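import Cfsg.Statements.S3777
import Cfsg.Agent.Lib.Struct76.VaughanLeeMain
import Cfsg.Agent.Lib.Struct76.LowerCentralBreadth

set_option autoImplicit false
open Cfsg

namespace Cfsg.Agent.S3777

open CfsgLib.LowerCentralLie76 CfsgLib.VaughanLee76 CfsgLib.LowerCentralBreadth76

/-- Vaughan-Lee's Theorem: if G is a finite p-group in which every conjugacy class has at most p^b elements (every element has centralizer of index at most p^b), then the derived subgroup of G has order at most p^(b(b+1)/2). -/
theorem result {G : Type*} [Group G] [Finite G] {p : ℕ} [Fact p.Prime] (hG : IsPGroup p G) (b : ℕ) (hb : ∀ x : G, (Subgroup.centralizer ({x} : Set G)).index ≤ p ^ b) : Nat.card (commutator G) ≤ p ^ (b * (b + 1) / 2) := by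
  haveI : Group.IsNilpotent G := hG.isNilpotent
  obtain ⟨e, he⟩ := exists_card_eq hG
  have hVB : ∀ v ∈ comp G 0, Nat.card (ran v) ≤ p ^ b := by
    intro v hv
    obtain ⟨g, -, rfl⟩ := exists_of_mem_comp hv
    exact (card_ran_le g).1.trans (hb g)
  obtain ⟨T, hT, hran⟩ := exists_bound he (grading G) hVB (lie_mem_ran_of_exact hb)
  have htri : b * (b + 1) / 2 = tri b := by
    rw [← two_mul_tri b, Nat.mul_div_cancel_left _ two_pos]
  rw [htri]
  exact (card_commutator_le hran).trans hT

end Cfsg.Agent.S3777
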