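import Cfsg.Statements.S3778
import Cfsg.Agent.Lib.Coprime.Basic

set_option autoImplicit false
open Cfsg

namespace Cfsg.Agent.S3778

open Subgroup CfsgLib.Coprime
open scoped commutatorElement

variable {G : Type*} [Group G]

/-- The elements centralising the `i`-th factor of the lower central series modulo the `(i+2)`-nd. -/
def stepCentralizer (G : Type*) [Group G] (i : ℕ) : Subgroup G :=
  (Subgroup.centralizer ((((⊤ : Subgroup G).lowerCentralSeries i).map
    (QuotientGroup.mk' ((⊤ : Subgroup G).lowerCentralSeries (i + 2)))) :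
      Set (G ⧸ (⊤ : Subgroup G).lowerCentralSeries (i + 2)))).comap (QuotientGroup.mk' _)

theorem mem_stepCentralizer {i : ℕ} {x : G} : x ∈ stepCentralizer G i ↔
    ∀ y ∈ (⊤ : Subgroup G).lowerCentralSeries i, ⁅x, y⁆ ∈ (⊤ : Subgroup G).lowerCentralSeries (i + 2) := by
  rw [stepCentralizer, Subgroup.mem_comap, Subgroup.mem_centralizer_iff]
  refine ⟨fun h y hy => ?_, fun h z hz => ?_⟩
  · rw [← QuotientGroup.eq_one_iff]
    show QuotientGroup.mk' _ ⁅x, y⁆ = 1
    rw [map_commutatorElement, commutatorElement_eq_one_iff_mul_comm]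
    exact (h _ ⟨y, hy, rfl⟩).symm
  · obtain ⟨y, hy, rfl⟩ := hz
    rw [eq_comm, ← commutatorElement_eq_one_iff_mul_comm, ← map_commutatorElement]
    exact (QuotientGroup.eq_one_iff _).mpr (h y hy)

theorem card_mul_le_of_lt [Finite G] {p : ℕ} [hp : Fact p.Prime] (hG : IsPGroup p G) {H K : Subgroup G}
    (h : H < K) : Nat.card H * p ≤ Nat.card K := by
  obtain ⟨a, ha⟩ := (hG.to_subgroup H).exists_card_eq
  obtain ⟨b, hb⟩ := (hG.to_subgroup K).exists_card_eq
  have hlt : Nat.card H < Nat.card K :=
    lt_of_le_of_ne (card_le_of_le h.le) fun he => h.ne (eq_of_le_of_card_ge h.le he.ge)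
  rw [ha, hb] at hlt ⊢
  rw [← pow_succ]
  exact Nat.pow_le_pow_right hp.out.pos ((Nat.pow_lt_pow_iff_right hp.out.one_lt).mp hlt)

open Classical in
/-- The steps not centralised by `x` bound the size of the conjugacy class of `x`. -/
theorem pow_count_mul_le [Finite G] {p : ℕ} [Fact p.Prime] (hG : IsPGroup p G) (x : G) :
    ∀ m j : ℕ, p ^ ((Finset.Ico j (j + m)).filter fun i => x ∉ stepCentralizer G i).card *
      Nat.card ↥(Subgroup.centralizer ({x} : Set G) ⊓ (⊤ : Subgroup G).lowerCentralSeries j) ≤
      Nat.card ↥((⊤ : Subgroup G).lowerCentralSeries j) := by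
  intro m
  induction m with
  | zero =>
    intro j
    simpa using card_le_of_le (inf_le_right : Subgroup.centralizer ({x} : Set G) ⊓ (⊤ : Subgroup G).lowerCentralSeries j ≤ _)
  | succ m ih =>
    intro j
    set A := Subgroup.centralizer ({x} : Set G) with hA
    set L := (⊤ : Subgroup G).lowerCentralSeries j with hL
    set L' := (⊤ : Subgroup G).lowerCentralSeries (j + 1) with hL'
    haveI : L.Normal := by rw [hL]; infer_instance
    haveI : L'.Normal := by rw [hL']; infer_instance
    have hLL : L' ≤ L := (⊤ : Subgroup G).lowerCentralSeries_antitone (Nat.le_succ j)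
    have hcardH := card_sup_mul_card_inf (H := A ⊓ L) (N := L') le_normalizer_of_normal
    have hinf : L' ⊓ (A ⊓ L) = A ⊓ L' := by rw [inf_comm, inf_assoc, inf_eq_right.mpr hLL]
    rw [hinf] at hcardH
    have hstep : p ^ (if x ∉ stepCentralizer G j then 1 else 0) * Nat.card ↥((A ⊓ L) ⊔ L') ≤ Nat.card L := by
      by_cases hx : x ∈ stepCentralizer G j
      · simpa [hx] using card_le_of_le (sup_le inf_le_right hLL)
      · rw [if_pos hx, pow_one, mul_comm]
        refine card_mul_le_of_lt hG (lt_of_le_of_ne (sup_le inf_le_right hLL) fun he => hx ?_)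
        rw [mem_stepCentralizer]
        intro y hy
        rw [← hL, ← he] at hy
        obtain ⟨c, hc, g, hg, rfl⟩ := exists_mul_of_mem_sup le_normalizer_of_normal hy
        rw [commutatorElement_mul_right_eq_mul_conj,
          show ⁅x, c⁆ = 1 from commutatorElement_eq_one_iff_mul_comm.mpr
            (Subgroup.mem_centralizer_iff.mp hc.1 x rfl), one_mul]
        refine Subgroup.Normal.conj_mem inferInstance _ ?_ c
        rw [← commutatorElement_inv g x]
        refine Subgroup.inv_mem _ ?_
        rw [Subgroup.lowerCentralSeries_succ]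
        exact Subgroup.commutator_mem_commutator hg (mem_top x)
    have hcount : ((Finset.Ico j (j + (m + 1))).filter fun i => x ∉ stepCentralizer G i).card =
        (if x ∉ stepCentralizer G j then 1 else 0) +
          ((Finset.Ico (j + 1) (j + 1 + m)).filter fun i => x ∉ stepCentralizer G i).card := by
      rw [← Finset.insert_Ico_add_one_left_eq_Ico (show j < j + (m + 1) by omega), Finset.filter_insert,
        show j + (m + 1) = j + 1 + m by omega]
      split_ifs with h
      · rw [zero_add]
      · rw [Finset.card_insert_of_notMem (by simp), add_comm]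
    rw [hcount, pow_add]
    refine Nat.le_of_mul_le_mul_right ?_ (Nat.card_pos (α := ↥(A ⊓ L')))
    have h1 := ih (j + 1)
    calc _ = p ^ (if x ∉ stepCentralizer G j then 1 else 0) * Nat.card ↥(A ⊓ L) *
          (p ^ ((Finset.Ico (j + 1) (j + 1 + m)).filter fun i => x ∉ stepCentralizer G i).card *
            Nat.card ↥(A ⊓ L')) := by ring
      _ ≤ p ^ (if x ∉ stepCentralizer G j then 1 else 0) * Nat.card ↥(A ⊓ L) * Nat.card L' :=
          Nat.mul_le_mul_left _ h1
      _ = p ^ (if x ∉ stepCentralizer G j then 1 else 0) * Nat.card ↥((A ⊓ L) ⊔ L') * Nat.card ↥(A ⊓ L') := by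
          rw [mul_assoc, ← hcardH, mul_assoc]
      _ ≤ _ := Nat.mul_le_mul_right _ hstep

open Classical in
theorem main_bound [Finite G] {p : ℕ} [hp : Fact p.Prime] (hG : IsPGroup p G) (b c : ℕ)
    (hb : ∀ x : G, (Subgroup.centralizer ({x} : Set G)).index ≤ p ^ b)
    (hne : ∀ i, i + 1 < c → stepCentralizer G i ≠ ⊤) (hc : 2 ≤ c) : (c - 1) * (p - 1) < b * p := by
  haveI := Fintype.ofFinite G
  have hcount : ∀ x : G, ((Finset.range (c - 1)).filter fun i => x ∉ stepCentralizer G i).card ≤ b := by
    intro x
    have h := pow_count_mul_le hG x (c - 1) 0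
    rw [zero_add, ← Finset.range_eq_Ico, Subgroup.lowerCentralSeries_zero, inf_top_eq, Subgroup.card_top,
      ← (Subgroup.centralizer ({x} : Set G)).index_mul_card] at h
    exact (Nat.pow_le_pow_iff_right hp.out.one_lt).mp ((Nat.le_of_mul_le_mul_right h Nat.card_pos).trans (hb x))
  have hb1 : 1 ≤ b := by
    obtain ⟨x, hx⟩ := SetLike.exists_not_mem_of_ne_top _ (hne 0 (by omega)) rfl
    refine le_trans ?_ (hcount x)
    exact Finset.card_pos.mpr ⟨0, by simp [hx]; omega⟩
  have hone : ((Finset.range (c - 1)).filter fun i => (1 : G) ∉ stepCentralizer G i).card = 0 := by simp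
  have hupper : ∑ x : G, ((Finset.range (c - 1)).filter fun i => x ∉ stepCentralizer G i).card < Fintype.card G * b := by
    calc _ < ∑ _x : G, b := Finset.sum_lt_sum (fun x _ => hcount x) ⟨1, Finset.mem_univ _, by rw [hone]; omega⟩
      _ = _ := by rw [Finset.sum_const, smul_eq_mul, Finset.card_univ]
  have hlower : (c - 1) * ((p - 1) * Fintype.card G) ≤
      p * ∑ x : G, ((Finset.range (c - 1)).filter fun i => x ∉ stepCentralizer G i).card := by
    have hswap : ∑ x : G, ((Finset.range (c - 1)).filter fun i => x ∉ stepCentralizer G i).card =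
        ∑ i ∈ Finset.range (c - 1), (Finset.univ.filter fun x : G => x ∉ stepCentralizer G i).card := by
      simp only [Finset.card_filter]
      exact Finset.sum_comm
    rw [hswap, Finset.mul_sum]
    calc (c - 1) * ((p - 1) * Fintype.card G)
        = ∑ _i ∈ Finset.range (c - 1), (p - 1) * Fintype.card G := by
          rw [Finset.sum_const, Finset.card_range, smul_eq_mul]
      _ ≤ _ := Finset.sum_le_sum fun i hi => by
        have h1 := card_mul_le_of_lt hG ((hne i (by have := Finset.mem_range.mp hi; omega)).lt_top)
        rw [Subgroup.card_top, Nat.card_eq_fintype_card (α := G)] at h1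
        have h2 : (Finset.univ.filter fun x : G => x ∈ stepCentralizer G i).card = Nat.card (stepCentralizer G i) := by
          rw [Nat.card_eq_fintype_card]
          exact (Fintype.card_subtype _).symm
        have h3 := Finset.card_filter_add_card_filter_not (s := (Finset.univ : Finset G)) (fun x => x ∈ stepCentralizer G i)
        rw [h2, Finset.card_univ] at h3
        obtain ⟨q, hq⟩ : ∃ q, p = q + 1 := ⟨p - 1, by have := hp.out.pos; omega⟩
        subst hq
        simp only [Nat.add_sub_cancel]
        nlinarith
  have hpos := hp.out.pos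
  have := (Nat.mul_lt_mul_left hpos).mpr hupper
  have h4 : (c - 1) * (p - 1) * Fintype.card G < b * p * Fintype.card G := by nlinarith
  exact Nat.lt_of_mul_lt_mul_right h4


/-- If G is a finite p-group in which every conjugacy class has at most p^b elements (every element has centralizer of index at most p^b), then G is abelian when b = 0, and when b ≥ 1 its nilpotency class c satisfies (c − 1)(p − 1) < bp, that is c < bp/(p − 1) + 1, and hence c ≤ 2b. -/
theorem result {G : Type*} [Group G] [Finite G] {p : ℕ} [Fact p.Prime] (hG : IsPGroup p G) (b : ℕ) (hb : ∀ x : G, (Subgroup.centralizer ({x} : Set G)).index ≤ p ^ b) : ∃ c : ℕ, (⊤ : Subgroup G).lowerCentralSeries c = ⊥ ∧ (b ≠ 0 → (c - 1) * (p - 1) < b * p ∧ c ≤ 2 * b) ∧ (b = 0 → c ≤ 1) := by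
  haveI := hG.isNilpotent
  refine ⟨Group.nilpotencyClass G, _root_.lowerCentralSeries_nilpotencyClass, ?_, ?_⟩
  · intro hb0
    have hmain : (Group.nilpotencyClass G - 1) * (p - 1) < b * p := by
      rcases Nat.lt_or_ge (Group.nilpotencyClass G) 2 with h | h
      · rw [show Group.nilpotencyClass G - 1 = 0 by omega, zero_mul]
        exact Nat.mul_pos (Nat.pos_of_ne_zero hb0) (Fact.out : p.Prime).pos
      · refine main_bound hG b _ hb (fun i hi htop => ?_) h
        have hle : (⊤ : Subgroup G).lowerCentralSeries (i + 1) ≤ (⊤ : Subgroup G).lowerCentralSeries (i + 2) := by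
          rw [Subgroup.lowerCentralSeries_succ]
          refine Subgroup.commutator_le.mpr fun y hy x _ => ?_
          rw [← commutatorElement_inv x y]
          exact Subgroup.inv_mem _ (mem_stepCentralizer.mp (htop ▸ mem_top x) y hy)
        have hall : ∀ k, (⊤ : Subgroup G).lowerCentralSeries (i + 1) ≤ (⊤ : Subgroup G).lowerCentralSeries (i + 1 + k) := by
          intro k
          induction k with
          | zero => exact le_rfl
          | succ k ih =>
            refine hle.trans ?_
            rw [Subgroup.lowerCentralSeries_succ, show i + 1 + (k + 1) = (i + 1 + k) + 1 by omega,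
              Subgroup.lowerCentralSeries_succ]
            exact Subgroup.commutator_mono ih le_rfl
        have hbot : (⊤ : Subgroup G).lowerCentralSeries (i + 1) = ⊥ := by
          have := hall (Group.nilpotencyClass G - (i + 1))
          rw [show i + 1 + (Group.nilpotencyClass G - (i + 1)) = Group.nilpotencyClass G by omega,
            _root_.lowerCentralSeries_nilpotencyClass] at this
          exact le_bot_iff.mp this
        have := _root_.lowerCentralSeries_eq_bot_iff_nilpotencyClass_le.mp hbot
        omega
    refine ⟨hmain, ?_⟩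
    have hp2 : 2 ≤ p := (Fact.out : p.Prime).two_le
    obtain ⟨q, rfl⟩ : ∃ q, p = q + 1 := ⟨p - 1, by omega⟩
    by_contra hcon
    simp only [Nat.add_sub_cancel] at hmain
    have h1 : 2 * b ≤ Group.nilpotencyClass G - 1 := by omega
    have := Nat.mul_le_mul_right q h1
    nlinarith
  · intro hb0
    refine Group.IsNilpotent.nilpotencyClass_le_one_iff.mpr ⟨⟨fun x y => ?_⟩⟩
    have h := hb x
    rw [hb0, pow_zero] at h
    have h1 : (Subgroup.centralizer ({x} : Set G)).index = 1 :=
      le_antisymm h (Nat.one_le_iff_ne_zero.mpr Subgroup.index_ne_zero_of_finite)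
    exact Subgroup.mem_centralizer_iff.mp ((Subgroup.index_eq_one.mp h1).ge (mem_top y)) x rfl

end Cfsg.Agent.S3778
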