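import Cfsg.Statements.S3783
import Cfsg.Agent.Lib.HallHigman.PLength
import Cfsg.Agent.Lib.HallHigman.Setup

set_option autoImplicit false
open Cfsg

namespace Cfsg.Agent.S3783

open CfsgLib.PCore CfsgLib.HallHigman CfsgLib.ModuleTrick
open scoped IsMulCommutative

universe u

/-- Every Sylow subgroup of a homomorphic image is an image of one. -/
theorem sylow_forall_map {G H : Type*} [Group G] [Finite G] [Group H] {q : ℕ} [Fact q.Prime]
    (f : G →* H) (hf : Function.Surjective f) (Q : Sylow q H) :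
    ∃ P : Sylow q G, (Q : Subgroup H) = (P : Subgroup G).map f := by
  obtain ⟨P, rfl⟩ := Sylow.mapSurjective_surjective hf q Q
  exact ⟨P, Sylow.coe_mapSurjective hf P⟩

theorem aux {p : ℕ} [Fact p.Prime] (n : ℕ) : ∀ (G : Type u) [Group G] [Finite G],
    IsPSolvable p G →
    (∀ (q : ℕ) [Fact q.Prime], q ≠ p → ∀ Q : Sylow q G, ∀ a ∈ (Q : Subgroup G), ∀ b ∈ (Q : Subgroup G),
      a * b = b * a) →
    (∀ (P : Sylow p G), ∀ x ∈ (P : Subgroup G), x ^ p ^ n = 1) → PLengthLE p n G := by
  induction n with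
  | zero =>
    intro G _ _ _ _ hexp
    have htop : pPrimeCore p G = ⊤ := by
      refine top_le_iff.mp (le_pPrimeCore inferInstance ?_)
      rw [Subgroup.card_top, Nat.coprime_comm, (Fact.out : p.Prime).coprime_iff_not_dvd]
      intro hdvd
      obtain ⟨x, hx⟩ := exists_prime_orderOf_dvd_card' p hdvd
      have hxp : IsPGroup p (Subgroup.zpowers x) :=
        IsPGroup.of_card (n := 1) (by rw [Nat.card_zpowers, hx, pow_one])
      obtain ⟨P, hP⟩ := hxp.exists_le_sylow
      have h1 := hexp P x (hP (Subgroup.mem_zpowers x))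
      rw [pow_zero, pow_one] at h1
      exact (Fact.out : p.Prime).ne_one (by rw [← hx, h1, orderOf_one])
    unfold PLengthLE
    exact upperPSeries_one.trans htop
  | succ n ih =>
    intro G _ _ hG hab hexp
    set K := pPrimeCore p G with hK
    refine pLengthLE_of_coprime_kernel K pPrimeCore_coprime ?_
    have hH : IsPSolvable p (G ⧸ K) := isPSolvable_quotient hG K
    have h0 : pPrimeCore p (G ⧸ K) = ⊥ := by
      have h1 := comap_pPrimeCore_quotient (p := p) (G := G) (N := K) pPrimeCore_coprime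
      rw [← Subgroup.map_comap_eq_self_of_surjective (QuotientGroup.mk'_surjective K)
        (pPrimeCore p (G ⧸ K)), h1, ← hK, QuotientGroup.map_mk'_self]
    have habH : ∀ (q : ℕ) [Fact q.Prime], q ≠ p → ∀ Q : Sylow q (G ⧸ K),
        ∀ a ∈ (Q : Subgroup (G ⧸ K)), ∀ b ∈ (Q : Subgroup (G ⧸ K)), a * b = b * a := by
      intro q _ hq Q
      obtain ⟨P, hP⟩ := sylow_forall_map _ (QuotientGroup.mk'_surjective K) Q
      rw [hP]
      rintro _ ⟨a, ha, rfl⟩ _ ⟨b, hb, rfl⟩
      rw [← map_mul, hab q hq P a ha b hb, map_mul]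
    have hexpH : ∀ (P : Sylow p (G ⧸ K)), ∀ x ∈ (P : Subgroup (G ⧸ K)), x ^ p ^ (n + 1) = 1 := by
      intro Q
      obtain ⟨P, hP⟩ := sylow_forall_map _ (QuotientGroup.mk'_surjective K) Q
      rw [hP]
      rintro _ ⟨a, ha, rfl⟩
      rw [← map_pow, hexp P a ha, map_one]
    set H := G ⧸ K
    set V := pCore p H with hV
    have : V.Normal := CfsgLib.Fitting.pCore_normal p
    refine pLengthLE_succ_of_pGroup_kernel V pCore_isPGroup (ih (H ⧸ V) (isPSolvable_quotient hH V) ?_ ?_)
    · intro q _ hq Q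
      obtain ⟨P, hP⟩ := sylow_forall_map _ (QuotientGroup.mk'_surjective V) Q
      rw [hP]
      rintro _ ⟨a, ha, rfl⟩ _ ⟨b, hb, rfl⟩
      rw [← map_mul, habH q hq P a ha b hb, map_mul]
    intro Q
    obtain ⟨P, hP⟩ := sylow_forall_map _ (QuotientGroup.mk'_surjective V) Q
    rw [hP]
    rintro _ ⟨x, hx, rfl⟩
    rw [← map_pow]
    refine (QuotientGroup.eq_one_iff _).mpr ?_
    by_contra hy
    obtain ⟨hcomm, hpow, hcen⟩ := frattini_quotient_props hH h0
    set f1 := QuotientGroup.mk' (frattiniCore p H) with hf1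
    set W := V.map f1 with hW
    have : W.Normal := Subgroup.Normal.map inferInstance f1 (QuotientGroup.mk'_surjective _)
    have : IsMulCommutative W := ⟨⟨fun a b => Subtype.ext (hcomm a a.2 b b.2)⟩⟩
    set g := (QuotientGroup.mk' (Subgroup.centralizer (W : Set (H ⧸ frattiniCore p H)))).comp f1 with hg
    have hgs : Function.Surjective g :=
      (QuotientGroup.mk'_surjective _).comp (QuotientGroup.mk'_surjective _)
    have hker : g.ker = V := by
      rw [hg, ← MonoidHom.comap_ker, QuotientGroup.ker_mk', hcen, hW, Subgroup.comap_map_eq, hf1,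
        QuotientGroup.ker_mk', sup_eq_left]
      exact frattiniCore_le p H
    have hX : IsPSolvable p ((H ⧸ frattiniCore p H) ⧸ Subgroup.centralizer (W : Set (H ⧸ frattiniCore p H))) :=
      isPSolvable_quotient (isPSolvable_quotient hH _) _
    have hX0 : pCore p ((H ⧸ frattiniCore p H) ⧸ Subgroup.centralizer (W : Set (H ⧸ frattiniCore p H))) = ⊥ := by
      have h1 := pCore_isPGroup.comap_of_ker_isPGroup (p := p) g (by rw [hker]; exact pCore_isPGroup)
      have h2 := le_pCore (Subgroup.Normal.comap (CfsgLib.Fitting.pCore_normal p) g) h1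
      rw [← Subgroup.map_comap_eq_self_of_surjective hgs (pCore p _), Subgroup.map_eq_bot_iff, hker]
      exact h2
    have hxord : ∃ k, orderOf (g x) = p ^ k := by
      obtain ⟨i, -, hi⟩ := (Nat.dvd_prime_pow (Fact.out : p.Prime)).1
        (orderOf_dvd_of_pow_eq_one (n := p ^ (n + 1)) (by rw [← map_pow, hexpH P x hx, map_one] : (g x) ^ p ^ (n + 1) = 1))
      exact ⟨i, hi⟩
    have hy1 : g (x ^ p ^ n) ≠ 1 := fun h => hy (hker.le h)
    obtain ⟨q, hq, R, hqp, hR, hxR, hyR, S, hRS⟩ := exists_invariant_not_centralized hX hX0 (g x)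
      (g (x ^ p ^ n)) hxord (by rw [map_pow]; exact Subgroup.pow_mem _ (Subgroup.mem_zpowers _) _) hy1
    have hRc : ∀ a ∈ R, ∀ b ∈ R, a * b = b * a := by
      intro a ha b hb
      obtain ⟨T, hT⟩ := sylow_forall_map g hgs S
      obtain ⟨a', ha', rfl⟩ := hT.le (hRS ha)
      obtain ⟨b', hb', rfl⟩ := hT.le (hRS hb)
      rw [← map_mul, habH q hqp T a' ha' b' hb', map_mul]
    have hA : ∀ a : Additive W, p • a = 0 := fun a => by
      apply Additive.toMul.injective
      apply Subtype.ext
      rw [toMul_nsmul, Subgroup.coe_pow]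
      exact hpow _ (Additive.toMul a).2
    refine sum_pow_ne_zero_of_abelian hA (conjEndQuot W) (conjEndQuot_injective W) (g x) n
      (by rw [← map_pow, hexpH P x hx, map_one]) hqp R hR hRc hxR (by rw [← map_pow]; exact hyR) ?_
    refine sum_pow_conjEnd_eq_zero W (f1 x) _ ?_
    rintro _ ⟨a, ha, rfl⟩
    rw [← map_mul, ← map_pow]
    have hxp : IsPGroup p (Subgroup.zpowers x) := P.2.to_le (Subgroup.zpowers_le.mpr hx)
    obtain ⟨P', hP'⟩ := (hxp.to_sup_of_normal_right (pCore_isPGroup (p := p) (G := H))).exists_le_sylow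
    rw [hexpH P' (a * x) (hP' (Subgroup.mul_mem _ (Subgroup.mem_sup_right ha)
      (Subgroup.mem_sup_left (Subgroup.mem_zpowers x)))), map_one]

/-- Let G be a finite p-soluble group in which, for every prime q ≠ p, the Sylow q-subgroups are abelian. If the Sylow p-subgroups of G have exponent dividing p^n, then G has p-length at most n. -/
theorem result {G : Type*} [Group G] [Finite G] {p : ℕ} [Fact p.Prime] (hG : Cfsg.IsPSolvable p G) (hab : ∀ (q : ℕ) [Fact q.Prime], q ≠ p → ∀ Q : Sylow q G, IsMulCommutative (Q : Subgroup G)) (n : ℕ) (hexp : ∀ (P : Sylow p G), ∀ x ∈ (P : Subgroup G), x ^ p ^ n = 1) : Cfsg.PLengthLE p n G := by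
  exact aux n G hG (fun q _ hq Q a ha b hb => congrArg Subtype.val (isMulCommutative_iff.mp (hab q hq Q) ⟨a, ha⟩ ⟨b, hb⟩)) hexp

end Cfsg.Agent.S3783
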