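import Cfsg.Statements.S3785
import Cfsg.Agent.Lib.Solvable.Fitting
import Cfsg.Agent.Lib.OddOrder41.FixOmega

set_option autoImplicit false
open Cfsg

namespace Cfsg.Agent.S3785

open CfsgLib.Fitting
open scoped commutatorElement

variable {G : Type*} [Group G] [Finite G]

/-- Elements fixing the elements of prime order of `F(G)`. -/
def Fixes (x : G) : Prop := ∀ y ∈ Cfsg.fittingSubgroup G, (orderOf y).Prime → x * y = y * x

/-- Such an element of `q`-power order centralizes `O_t(G)` for `t ≠ q`. -/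
theorem commute_pCore (hodd : Odd (Nat.card (Cfsg.fittingSubgroup G))) {x : G} (hx : Fixes x)
    {q b t : ℕ} (hq : q.Prime) (hxo : orderOf x = q ^ b) (ht : t.Prime) (hne : t ≠ q) :
    ∀ y ∈ Cfsg.pCore t G, x * y = y * x := by
  haveI := Fact.mk ht
  intro y hy
  rcases eq_or_ne t 2 with rfl | ht2
  · have hle := Subgroup.card_dvd_of_le (pCore_le_fitting (G := G) ht)
    rcases IsPGroup.card_eq_or_dvd (pCore_isPGroup (G := G) 2) with h | h
    · rw [Subgroup.card_eq_one.mp h, Subgroup.mem_bot] at hy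
      simp [hy]
    · exact absurd (h.trans hle) (Nat.two_dvd_ne_zero.mpr (Nat.odd_iff.mp hodd))
  · refine CfsgLib.OddOrder41.fixes_of_fixes_exponent_p ht2 x ?_ _ _ rfl (pCore_isPGroup t)
      (fun z hz => (CfsgLib.Fitting.pCore_normal (G := G) t).conj_mem z hz x) ?_ y hy
    · rw [hxo]; exact Nat.Coprime.pow_left _ ((Nat.coprime_primes hq ht).mpr (Ne.symm hne))
    · intro z hz hzp
      rcases (Nat.dvd_prime ht).mp (orderOf_dvd_of_pow_eq_one hzp) with h | h
      · simp [orderOf_eq_one_iff.mp h]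
      · exact hx z (pCore_le_fitting ht hz) (by rw [h]; exact ht)

theorem orderOf_commutator (hodd : Odd (Nat.card (Cfsg.fittingSubgroup G))) {x y c : G}
    (hc : c = x * y * x⁻¹ * y⁻¹) (hcF : c ∈ Cfsg.fittingSubgroup G) (hy : Fixes y) {r b : ℕ}
    (hr : r.Prime) (hyo : orderOf y = r ^ b) : ∃ j, orderOf c ∣ r ^ j := by
  haveI := Fact.mk hr
  have hn : (Cfsg.pCore r G).Normal := CfsgLib.Fitting.pCore_normal r
  let π := QuotientGroup.mk' (Cfsg.pCore r G)
  have hcomm : Commute (π c) (π y) := by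
    have h1 : Cfsg.fittingSubgroup G ≤ (Subgroup.centralizer ({π y} : Set _)).comap π := by
      rw [fitting_eq_iSup_pCore]
      refine iSup_le fun t => fun z hz => ?_
      rw [Subgroup.mem_comap, Subgroup.mem_centralizer_singleton_iff]
      rcases eq_or_ne (t : ℕ) r with e | e
      · rw [show π z = 1 from (QuotientGroup.eq_one_iff z).mpr (e ▸ hz), mul_one, one_mul]
      · rw [← map_mul, ← map_mul, commute_pCore hodd hy hr hyo (Nat.prime_of_mem_primeFactors t.2) e z hz]
    exact Subgroup.mem_centralizer_singleton_iff.mp (h1 hcF)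
  have hy0 : π y ^ r ^ b = 1 := by rw [← map_pow, ← hyo, pow_orderOf_eq_one, map_one]
  have hcy0 : (π c * π y) ^ r ^ b = 1 := by
    rw [← map_mul, ← map_pow, show c * y = x * y * x⁻¹ by rw [hc]; simp [mul_assoc], conj_pow, ← hyo,
      pow_orderOf_eq_one, mul_one, mul_inv_cancel, map_one]
  rw [hcomm.mul_pow, hy0, mul_one, ← map_pow, QuotientGroup.mk'_apply, QuotientGroup.eq_one_iff] at hcy0
  obtain ⟨k, hk⟩ := (pCore_isPGroup r : IsPGroup r (Cfsg.pCore r G)) ⟨_, hcy0⟩
  refine ⟨b + k, orderOf_dvd_of_pow_eq_one ?_⟩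
  rw [pow_add, pow_mul]
  exact congrArg Subtype.val hk

theorem commute_of_fixes [Group.IsSolvable G] (hodd : Odd (Nat.card (Cfsg.fittingSubgroup G))) {x y : G}
    (hx : Fixes x) (hy : Fixes y) {q r a b : ℕ} (hq : q.Prime) (hr : r.Prime) (hqr : q ≠ r)
    (hxo : orderOf x = q ^ a) (hyo : orderOf y = r ^ b) : x * y = y * x := by
  set c := x * y * x⁻¹ * y⁻¹ with hc
  have hcC : c ∈ Subgroup.centralizer (Cfsg.fittingSubgroup G : Set G) := by
    have h1 : Cfsg.fittingSubgroup G ≤ Subgroup.centralizer ({c} : Set G) := by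
      rw [fitting_eq_iSup_pCore]
      refine iSup_le fun t => fun z hz => ?_
      have htp := Nat.prime_of_mem_primeFactors t.2
      rw [Subgroup.mem_centralizer_singleton_iff]
      have key : Commute c z := by
        rcases eq_or_ne (t : ℕ) q with e | e
        · have hyz : ∀ w ∈ Cfsg.pCore (t : ℕ) G, y * w = w * y :=
            commute_pCore hodd hy hr hyo htp (e ▸ hqr)
          have hw : x⁻¹ * z * x ∈ Cfsg.pCore (t : ℕ) G := by
            simpa using (CfsgLib.Fitting.pCore_normal (G := G) (t : ℕ)).conj_mem z hz x⁻¹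
          have h1 : Commute (x * y * x⁻¹) z := by
            show x * y * x⁻¹ * z = z * (x * y * x⁻¹)
            calc x * y * x⁻¹ * z = x * (y * (x⁻¹ * z * x)) * x⁻¹ := by simp [mul_assoc]
              _ = x * ((x⁻¹ * z * x) * y) * x⁻¹ := by rw [hyz _ hw]
              _ = z * (x * y * x⁻¹) := by simp [mul_assoc]
          exact h1.mul_left ((show Commute y z from hyz z hz).inv_left)
        · have hxz : ∀ w ∈ Cfsg.pCore (t : ℕ) G, x * w = w * x :=
            commute_pCore hodd hx hq hxo htp e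
          have hw : y * x⁻¹ * z * (y * x⁻¹)⁻¹ ∈ Cfsg.pCore (t : ℕ) G :=
            (CfsgLib.Fitting.pCore_normal (G := G) (t : ℕ)).conj_mem z hz _
          have hw2 : y⁻¹ * z * y ∈ Cfsg.pCore (t : ℕ) G := by
            simpa using (CfsgLib.Fitting.pCore_normal (G := G) (t : ℕ)).conj_mem z hz y⁻¹
          show c * z = z * c
          have e1 : x⁻¹ * (y⁻¹ * z * y) = (y⁻¹ * z * y) * x⁻¹ :=
            ((show Commute x (y⁻¹ * z * y) from hxz _ hw2).inv_left).eq
          calc c * z = x * y * (x⁻¹ * (y⁻¹ * z * y)) * y⁻¹ := by simp [hc, mul_assoc]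
            _ = x * y * ((y⁻¹ * z * y) * x⁻¹) * y⁻¹ := by rw [e1]
            _ = (x * z) * y * x⁻¹ * y⁻¹ := by simp [mul_assoc]
            _ = z * c := by rw [hxz z hz]; simp [hc, mul_assoc]
      exact key.symm.eq
    intro z hz
    exact (Subgroup.mem_centralizer_singleton_iff.mp (h1 hz))
  have hcF := centralizer_fitting_le hcC
  obtain ⟨i, hi⟩ := orderOf_commutator hodd hc hcF hy hr hyo
  obtain ⟨j, hj⟩ := orderOf_commutator (c := c⁻¹) hodd (x := y) (y := x)
    (by rw [hc]; simp [mul_assoc]) (Subgroup.inv_mem _ hcF) hx hq hxo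
  rw [orderOf_inv] at hj
  have h1 : orderOf c = 1 :=
    Nat.eq_one_of_dvd_coprimes ((Nat.coprime_primes hr hq).mpr (Ne.symm hqr) |>.pow i j) hi hj
  rw [orderOf_eq_one_iff, hc] at h1
  rw [mul_inv_eq_one, mul_inv_eq_iff_eq_mul] at h1
  exact h1


/-- Let G be a finite solvable group whose Fitting subgroup F(G) has odd order. If an element g of G commutes with every element of prime order of F(G), then g ∈ F(G). -/
theorem result {G : Type*} [Group G] [Finite G] (hG : Group.IsSolvable G) (hodd : Odd (Nat.card (Cfsg.fittingSubgroup G))) (g : G) (hg : ∀ x ∈ Cfsg.fittingSubgroup G, (orderOf x).Prime → g * x = x * g) : g ∈ Cfsg.fittingSubgroup G := by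
  haveI := hG
  let K : Subgroup G := Subgroup.centralizer {y | y ∈ Cfsg.fittingSubgroup G ∧ (orderOf y).Prime}
  have hmem : ∀ x, x ∈ K ↔ Fixes x := fun x =>
    ⟨fun h y hy hp => (h y ⟨hy, hp⟩).symm, fun h y hy => (h y hy.1 hy.2).symm⟩
  have hKn : K.Normal := ⟨fun x hx a y hy => by
    have hy' : a⁻¹ * y * a ∈ Cfsg.fittingSubgroup G ∧ (orderOf (a⁻¹ * y * a)).Prime := by
      refine ⟨by simpa using (CfsgLib.Fitting.fitting_normal (G := G)).conj_mem y hy.1 a⁻¹, ?_⟩
      rw [show a⁻¹ * y * a = MulAut.conj a⁻¹ y by simp, MulEquiv.orderOf_eq]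
      exact hy.2
    have h1 := hx _ hy'
    calc y * (a * x * a⁻¹) = a * ((a⁻¹ * y * a) * x) * a⁻¹ := by simp [mul_assoc]
      _ = a * (x * (a⁻¹ * y * a)) * a⁻¹ := by rw [h1]
      _ = (a * x * a⁻¹) * y := by simp [mul_assoc]⟩
  have hnil : Group.IsNilpotent K := by
    refine ((Group.isNilpotent_of_finite_tfae (G := K)).out 3 0).mp ?_
    intro q hq P
    rw [← Subgroup.normalizer_eq_top_iff]
    apply CfsgLib.Fitting.eq_top_of_forall_sylow_le
    intro r hr _
    haveI := Fact.mk hr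
    obtain ⟨R⟩ : Nonempty (Sylow r K) := inferInstance
    rcases eq_or_ne r q with rfl | hne
    · refine ⟨P, Subgroup.le_normalizer⟩
    · refine ⟨R, fun z hz => Subgroup.centralizer_le_normalizer _ fun w hw => ?_⟩
      obtain ⟨i, hi⟩ := IsPGroup.iff_orderOf.mp R.2 ⟨z, hz⟩
      obtain ⟨j, hj⟩ := IsPGroup.iff_orderOf.mp P.2 ⟨w, hw⟩
      rw [Subgroup.orderOf_mk, ← Subgroup.orderOf_coe] at hi hj
      exact Subtype.ext (commute_of_fixes hodd ((hmem _).mp w.2) ((hmem _).mp z.2) hq.out hr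
        (Ne.symm hne) hj hi)
  exact CfsgLib.Fitting.le_fitting hKn hnil ((hmem g).mpr hg)

end Cfsg.Agent.S3785
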