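import Cfsg.Statements.S3787
import Cfsg.Agent.Lib.HallHigman.Exponent
import Cfsg.Agent.Lib.LocalEven.InvolvesFour

set_option autoImplicit false
open Cfsg

namespace Cfsg.Agent.S3787

open CfsgLib.PCore CfsgLib.HallHigman CfsgLib.ModuleTrick CfsgLib.LocalEven.Involved
open scoped IsMulCommutative

/-- The defining properties of the wreath product `C_p ≀ C_p`. -/
def IsWreath (p : ℕ) (W : Type*) [Group W] : Prop :=
  ∃ (B : Subgroup W) (t : W), B.Normal ∧ IsMulCommutative B ∧ (∀ b ∈ B, b ^ p = 1) ∧ Nat.card B = p ^ p ∧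
    orderOf t = p ∧ t ∉ B ∧ Nat.card W = p ^ (p + 1) ∧
    Nat.card ↥(B ⊓ Subgroup.centralizer ({t} : Set W)) = p

theorem IsWreath.of_equiv {p : ℕ} {W W' : Type*} [Group W] [Group W'] (e : W ≃* W') (h : IsWreath p W) :
    IsWreath p W' := by
  obtain ⟨B, t, hBn, hBc, hBe, hBcard, ht, htB, hW, hC⟩ := h
  refine ⟨B.map e.toMonoidHom, e t, hBn.map _ e.surjective, ?_, ?_, ?_, ?_, ?_, ?_, ?_⟩
  · refine ⟨⟨?_⟩⟩
    rintro ⟨_, a, ha, rfl⟩ ⟨_, b, hb, rfl⟩
    apply Subtype.ext
    show e a * e b = e b * e a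
    rw [← map_mul, ← map_mul]
    exact congrArg e (congrArg Subtype.val (isMulCommutative_iff.mp hBc ⟨a, ha⟩ ⟨b, hb⟩))
  · rintro _ ⟨b, hb, rfl⟩
    show (e b) ^ p = 1
    rw [← map_pow, hBe b hb, map_one]
  · rw [Subgroup.card_map_of_injective e.injective, hBcard]
  · rw [← ht]
    exact orderOf_injective e.toMonoidHom e.injective t
  · rintro ⟨b, hb, hbe⟩
    exact htB (e.injective hbe ▸ hb)
  · rw [← Nat.card_congr e.toEquiv, hW]
  · refine Eq.trans ?_ hC
    rw [← Subgroup.card_map_of_injective (f := e.toMonoidHom) e.injective (K := B ⊓ Subgroup.centralizer {t}),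
      Subgroup.map_inf _ _ _ e.injective]
    suffices h : Subgroup.centralizer ({e t} : Set W') = (Subgroup.centralizer ({t} : Set W)).map e.toMonoidHom by
      rw [h]
    ext z
    obtain ⟨y, rfl⟩ := e.surjective z
    refine ⟨fun h => ⟨y, ?_, rfl⟩, ?_⟩
    · rw [SetLike.mem_coe, Subgroup.mem_centralizer_singleton_iff]
      have h1 := Subgroup.mem_centralizer_singleton_iff.mp h
      rw [← map_mul, ← map_mul] at h1
      exact e.injective h1
    · rintro ⟨w, hw, hwy⟩
      rw [← hwy, Subgroup.mem_centralizer_singleton_iff]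
      show e w * e t = e t * e w
      rw [← map_mul, ← map_mul, Subgroup.mem_centralizer_singleton_iff.mp hw]

/-- An element with `(s - 1)^(p-1) ≠ 0` on an elementary abelian normal subgroup yields a wreath section. -/
theorem exists_wreath_quotient {Γ : Type*} [Group Γ] [Finite Γ] {p : ℕ} [hp : Fact p.Prime]
    (W : Subgroup Γ) [W.Normal] [IsMulCommutative W] (hW : ∀ w ∈ W, w ^ p = 1) (t : Γ) (ht : t ^ p ∈ W)
    (hdeg : (conjEnd W t - 1) ^ (p - 1) ≠ 0) :
    ∃ (M : Subgroup ↥(W ⊔ Subgroup.zpowers t)) (_ : M.Normal),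
      IsWreath p (↥(W ⊔ Subgroup.zpowers t) ⧸ M) := by
  classical
  have hA : ∀ a : Additive W, p • a = 0 := fun a => Additive.toMul.injective (Subtype.ext (by
    rw [toMul_nsmul, Subgroup.coe_pow]
    exact hW _ (Additive.toMul a).2))
  have : Module (ZMod p) (Additive W) := AddCommGroup.zmodModule hA
  have hE : (p : AddMonoid.End (Additive W)) = 0 :=
    AddMonoidHom.ext fun a => (AddMonoid.End.natCast_apply p a).trans (hA a)
  set s := conjEnd W t with hs
  set u := s - 1 with hu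
  have htriv : s ^ p = 1 := by
    rw [hs, ← map_pow]
    exact MonoidHom.mem_ker.mp ((conjEnd_ker W).ge fun w hw =>
      congrArg Subtype.val (isMulCommutative_iff.mp inferInstance (⟨w, hw⟩ : W) ⟨_, ht⟩))
  have hup : u ^ p = 0 := by
    rcases subsingleton_or_nontrivial (AddMonoid.End (Additive W)) with h | h
    · exact Subsingleton.elim _ _
    have : CharP (AddMonoid.End (Additive W)) p := (CharP.charP_iff_prime_eq_zero hp.out).mpr hE
    rw [hu, sub_pow_char_of_commute p (Commute.one_right s), htriv, one_pow, sub_self]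
  obtain ⟨w₀, hw₀⟩ : ∃ w₀, (u ^ (p - 1)) w₀ ≠ 0 := by
    by_contra h
    push Not at h
    exact hdeg (AddMonoidHom.ext h)
  obtain ⟨φ, hφ⟩ := exists_dual_eq_one (K := ZMod p) hw₀
  -- the coordinates
  let Ψ : Additive W →+ (Fin p → ZMod p) :=
    { toFun := fun w k => φ ((u ^ (k : ℕ)) w)
      map_zero' := by funext k; simp
      map_add' := fun a b => by funext k; simp }
  have hΨ : ∀ w (k : Fin p), Ψ w k = φ ((u ^ (k : ℕ)) w) := fun w k => rfl
  have hΨs : Function.Surjective Ψ := by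
    let T : (Fin p → ZMod p) →+ (Fin p → ZMod p) :=
      { toFun := fun c => Ψ (∑ j : Fin p, c j • (u ^ (j : ℕ)) w₀)
        map_zero' := by simp
        map_add' := fun a b => by simp [add_smul, Finset.sum_add_distrib] }
    have hT : Function.Injective T := by
      rw [injective_iff_map_eq_zero]
      intro c hc
      by_contra hne
      obtain ⟨j₁, hj₁⟩ : ∃ j, c j ≠ 0 := by
        by_contra h
        push Not at h
        exact hne (funext h)
      obtain ⟨j₀, hj₀, hmin⟩ := Finset.exists_min_image (Finset.univ.filter fun j => c j ≠ 0) id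
        ⟨j₁, by simp [hj₁]⟩
      simp only [Finset.mem_filter, Finset.mem_univ, true_and, id] at hj₀ hmin
      have h1 : Ψ (∑ j : Fin p, c j • (u ^ (j : ℕ)) w₀) ⟨p - 1 - j₀, by omega⟩ = 0 := congrFun hc _
      rw [hΨ, map_sum, map_sum, Finset.sum_eq_single j₀] at h1
      · have e1 : φ ((u ^ (p - 1 - (j₀ : ℕ))) ((u ^ (j₀ : ℕ)) w₀)) = 1 := by
          rw [← hφ]
          show φ ((u ^ (p - 1 - (j₀ : ℕ)) * u ^ (j₀ : ℕ)) w₀) = _
          rw [← pow_add, Nat.sub_add_cancel (by omega)]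
        rw [ZMod.map_smul (u ^ (p - 1 - (j₀ : ℕ)) : Additive W →+ Additive W), map_smul, e1, smul_eq_mul,
          mul_one] at h1
        exact hj₀ h1
      · intro j _ hj
        by_cases hc0 : c j = 0
        · simp [hc0]
        have hlt : (j₀ : ℕ) < j := lt_of_le_of_ne (hmin j hc0) fun e => hj (Fin.ext e.symm)
        have e0 : (u ^ (p - 1 - (j₀ : ℕ))) ((u ^ (j : ℕ)) w₀) = 0 := by
          show (u ^ (p - 1 - (j₀ : ℕ)) * u ^ (j : ℕ)) w₀ = 0
          rw [← pow_add, pow_eq_zero_of_le (by omega) hup]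
          rfl
        rw [ZMod.map_smul (u ^ (p - 1 - (j₀ : ℕ)) : Additive W →+ Additive W), map_smul, e0, map_zero,
          smul_zero]
      · simp
    intro f
    obtain ⟨c, hc⟩ := (Finite.injective_iff_surjective.mp hT) f
    exact ⟨_, hc⟩
  -- the kernel
  let M₀ : Subgroup Γ := (AddSubgroup.toSubgroup' Ψ.ker).map W.subtype
  have hM₀ : ∀ w : W, (w : Γ) ∈ M₀ ↔ Ψ (Additive.ofMul w) = 0 := by
    intro w
    refine ⟨?_, fun h => ⟨w, h, rfl⟩⟩
    rintro ⟨v, hv, hvw⟩
    rw [← Subtype.ext hvw]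
    exact hv
  have hM₀W : M₀ ≤ W := Subgroup.map_subtype_le _
  set L := W ⊔ Subgroup.zpowers t with hL
  have hWL : W ≤ L := le_sup_left
  have htL : t ∈ L := Subgroup.mem_sup_right (Subgroup.mem_zpowers t)
  have hu_apply : ∀ w : W, ((Additive.toMul (u (Additive.ofMul w)) : W) : Γ) = t * w * t⁻¹ * (w : Γ)⁻¹ := by
    intro w
    show ((Additive.toMul (s (Additive.ofMul w) - Additive.ofMul w) : W) : Γ) = _
    rw [toMul_sub, Subgroup.coe_div, conjEnd_apply, div_eq_mul_inv]
    rfl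
  have hΨu : ∀ v, Ψ v = 0 → Ψ (u v) = 0 := by
    intro v hv
    funext k
    rw [hΨ, Pi.zero_apply]
    show φ ((u ^ (k : ℕ) * u) v) = 0
    rw [← pow_succ]
    by_cases hk : (k : ℕ) + 1 < p
    · exact congrFun hv ⟨(k : ℕ) + 1, hk⟩
    · rw [pow_eq_zero_of_le (by omega) hup]
      exact map_zero φ
  have hnorm : L ≤ Subgroup.normalizer (M₀ : Set Γ) := by
    refine sup_le (fun w hw => mem_normalizer_map_conj.mpr fun m hm => ?_)
      (Subgroup.zpowers_le.mpr (mem_normalizer_map_conj.mpr fun m hm => ?_))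
    · have h1 : w * m = m * w :=
        congrArg Subtype.val (isMulCommutative_iff.mp inferInstance (⟨w, hw⟩ : W) ⟨m, hM₀W hm⟩)
      rwa [h1, mul_inv_cancel_right]
    · obtain ⟨v, hv, rfl⟩ := hm
      have h2 : Ψ (u (Additive.ofMul v)) = 0 := hΨu _ hv
      have h3 : ((Additive.toMul (u (Additive.ofMul v)) : W) : Γ) ∈ M₀ := (hM₀ _).mpr h2
      rw [hu_apply] at h3
      have h4 := M₀.mul_mem h3 ((hM₀ v).mpr hv)
      rwa [inv_mul_cancel_right] at h4
  have : (M₀.subgroupOf L).Normal :=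
    (Subgroup.normal_subgroupOf_iff_le_normalizer (hM₀W.trans hWL)).mpr hnorm
  refine ⟨M₀.subgroupOf L, this, ?_⟩
  set π := QuotientGroup.mk' (M₀.subgroupOf L) with hπ
  have hker : ∀ w : W, π ⟨w, hWL w.2⟩ = 1 ↔ Ψ (Additive.ofMul w) = 0 := fun w => by
    rw [hπ, QuotientGroup.mk'_apply, QuotientGroup.eq_one_iff, Subgroup.mem_subgroupOf]
    exact hM₀ w
  have : (W.subgroupOf L).Normal := inferInstance
  set B := (W.subgroupOf L).map π with hB
  let ι : W →* B :=
    { toFun := fun w => ⟨π ⟨w, hWL w.2⟩, ⟨w, hWL w.2⟩, Subgroup.mem_subgroupOf.mpr w.2, rfl⟩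
      map_one' := Subtype.ext (map_one π)
      map_mul' := fun a b => Subtype.ext (map_mul π ⟨a, hWL a.2⟩ ⟨b, hWL b.2⟩) }
  have hιs : Function.Surjective ι := by
    rintro ⟨_, ⟨w, hwL⟩, hw, rfl⟩
    exact ⟨⟨w, Subgroup.mem_subgroupOf.mp hw⟩, rfl⟩
  have hBcard : Nat.card B = p ^ p := by
    let e : Additive W →+ Additive B := MonoidHom.toAdditive ι
    have hek : e.ker = Ψ.ker := by
      ext w
      rw [AddMonoidHom.mem_ker, AddMonoidHom.mem_ker, ← ofMul_toMul w, ← hker]
      exact ⟨fun h => congrArg Subtype.val (Additive.ofMul.injective h), fun h => congrArg Additive.ofMul (Subtype.ext h)⟩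
    calc Nat.card B = Nat.card (Additive B) := Nat.card_congr Additive.ofMul
      _ = Nat.card (Additive W ⧸ e.ker) :=
          (Nat.card_congr (QuotientAddGroup.quotientKerEquivOfSurjective e hιs).toEquiv).symm
      _ = Nat.card (Additive W ⧸ Ψ.ker) := by rw [hek]
      _ = Nat.card (Fin p → ZMod p) :=
          Nat.card_congr (QuotientAddGroup.quotientKerEquivOfSurjective Ψ hΨs).toEquiv
      _ = p ^ p := by simp [Nat.card_eq_fintype_card]
  have htW : t ∉ W := fun h => hdeg (by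
    have h1 : s = 1 := MonoidHom.mem_ker.mp ((conjEnd_ker W).ge fun w hw =>
      congrArg Subtype.val (isMulCommutative_iff.mp inferInstance (⟨w, hw⟩ : W) ⟨t, h⟩))
    rw [hu, h1, sub_self, zero_pow (by have := hp.out.two_le; omega)])
  -- correct `t` to an element of order `p`
  have key : ∀ (v : W) (k : ℕ), ((v : Γ) * t) ^ k =
      ((Additive.toMul ((∑ i ∈ Finset.range k, s ^ i) (Additive.ofMul v)) : W) : Γ) * t ^ k := by
    intro v k
    induction k with
    | zero => simp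
    | succ k ih =>
      have e : (∑ i ∈ Finset.range (k + 1), s ^ i) = 1 + s * ∑ i ∈ Finset.range k, s ^ i := by
        rw [Finset.sum_range_succ', pow_zero, Finset.mul_sum, add_comm]
        simp [pow_succ']
      rw [pow_succ', ih, e]
      set w := (∑ i ∈ Finset.range k, s ^ i) (Additive.ofMul v)
      show _ = ((Additive.toMul (Additive.ofMul v + s w) : W) : Γ) * t ^ (k + 1)
      rw [toMul_add, Subgroup.coe_mul, conjEnd_apply, pow_succ']
      simp [mul_assoc]
  set c := φ (Additive.ofMul (⟨t ^ p, ht⟩ : W)) with hc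
  set v : W := Additive.toMul ((-c) • w₀) with hv
  have hvt : (v : Γ) * t ∈ L := L.mul_mem (hWL v.2) htL
  set t' := π ⟨(v : Γ) * t, hvt⟩ with ht'
  have hsum : ∑ i ∈ Finset.range p, s ^ i = u ^ (p - 1) := by
    simpa using geom_sum_eq_sub_one_pow p 1 hE s
  have ht'p : t' ^ p = 1 := by
    rw [ht', ← map_pow]
    have hpow : ((v : Γ) * t) ^ p = ((Additive.toMul (u ^ (p - 1) <| Additive.ofMul v) : W) : Γ) *
        ((⟨t ^ p, ht⟩ : W) : Γ) := by rw [key, hsum]
    have hz : Ψ ((u ^ (p - 1)) (Additive.ofMul v) + Additive.ofMul (⟨t ^ p, ht⟩ : W)) = 0 := by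
      have hu0 : u (Additive.ofMul (⟨t ^ p, ht⟩ : W)) = 0 := Additive.toMul.injective (Subtype.ext (by
        rw [hu_apply]
        show t * t ^ p * t⁻¹ * (t ^ p)⁻¹ = 1
        group))
      funext k
      rw [hΨ, Pi.zero_apply, map_add, map_add]
      by_cases hk : (k : ℕ) = 0
      · rw [hk]
        show φ ((u ^ (p - 1)) (Additive.ofMul v)) + φ (Additive.ofMul (⟨t ^ p, ht⟩ : W)) = 0
        rw [hv, ofMul_toMul, ZMod.map_smul (u ^ (p - 1) : Additive W →+ Additive W), map_smul, hφ,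
          smul_eq_mul, mul_one, ← hc, neg_add_cancel]
      · have e1 : (u ^ (k : ℕ)) ((u ^ (p - 1)) (Additive.ofMul v)) = 0 := by
          show (u ^ (k : ℕ) * u ^ (p - 1)) (Additive.ofMul v) = 0
          rw [← pow_add, pow_eq_zero_of_le (by omega) hup]
          rfl
        have e2 : (u ^ (k : ℕ)) (Additive.ofMul (⟨t ^ p, ht⟩ : W)) = 0 := by
          obtain ⟨k', hk'⟩ := Nat.exists_eq_succ_of_ne_zero hk
          rw [hk', pow_succ]
          show (u ^ k') (u _) = 0
          rw [hu0, map_zero]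
        rw [e1, e2, map_zero, add_zero]
    have h1 := (hker (Additive.toMul ((u ^ (p - 1)) (Additive.ofMul v) + Additive.ofMul (⟨t ^ p, ht⟩ : W)))).mpr
      (by rw [ofMul_toMul]; exact hz)
    rw [← h1]
    congr 1
    apply Subtype.ext
    rw [Subgroup.coe_pow]
    exact hpow
  have ht'B : t' ∉ B := by
    rintro ⟨⟨w, hwL⟩, hw, hwt⟩
    have h1 : (⟨(v : Γ) * t, hvt⟩ : L)⁻¹ * ⟨w, hwL⟩ ∈ M₀.subgroupOf L := QuotientGroup.eq.mp hwt.symm
    have h2 : ((v : Γ) * t)⁻¹ * w ∈ W := hM₀W (Subgroup.mem_subgroupOf.mp h1)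
    have h3 := W.mul_mem (Subgroup.mem_subgroupOf.mp hw) (W.inv_mem h2)
    apply htW
    have h4 : w * (((v : Γ) * t)⁻¹ * w)⁻¹ = (v : Γ) * t := by group
    have h5 := W.mul_mem (W.inv_mem v.2) h3
    rw [show ((⟨w, hwL⟩ : L) : Γ) = w from rfl, h4, inv_mul_cancel_left] at h5
    exact h5
  have hrel : W.relIndex L = p := by
    have h1 : Subgroup.zpowers t ≤ Subgroup.normalizer (W : Set Γ) := Subgroup.le_normalizer_of_normal
    have h2 : W.relIndex L ∣ p := by
      rw [hL, Subgroup.relIndex_sup_left]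
      change (W.subgroupOf (Subgroup.zpowers t)).index ∣ p
      rw [Subgroup.index_eq_card]
      have hgen : ∀ q : Subgroup.zpowers t ⧸ W.subgroupOf (Subgroup.zpowers t),
          q ∈ Subgroup.zpowers (((⟨t, Subgroup.mem_zpowers t⟩ : Subgroup.zpowers t) :
            Subgroup.zpowers t ⧸ W.subgroupOf (Subgroup.zpowers t))) := by
        intro q
        induction q using QuotientGroup.induction_on with
        | H g =>
          obtain ⟨n, hn⟩ := g.2
          exact ⟨n, congrArg (QuotientGroup.mk (s := W.subgroupOf (Subgroup.zpowers t))) (Subtype.ext hn)⟩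
      rw [← Nat.card_congr (Subgroup.topEquiv.toEquiv), ← Subgroup.eq_top_iff' _ |>.mpr hgen, Nat.card_zpowers]
      exact orderOf_dvd_of_pow_eq_one ((QuotientGroup.eq_one_iff _).mpr (Subgroup.mem_subgroupOf.mpr ht))
    rcases (Nat.dvd_prime hp.out).mp h2 with h | h
    · exact absurd (Subgroup.relIndex_eq_one.mp h htL) htW
    · exact h
  have hcardL : Nat.card (L ⧸ M₀.subgroupOf L) = p ^ (p + 1) := by
    have h1 := Subgroup.card_mul_index B
    have h2 : B.index = p := by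
      rw [hB, Subgroup.index_map_eq _ (QuotientGroup.mk'_surjective _)]
      · exact hrel
      · rw [QuotientGroup.ker_mk']
        exact Subgroup.comap_mono hM₀W
    rw [hBcard, h2] at h1
    rw [← h1, pow_succ]
  refine ⟨B, t', Subgroup.Normal.map inferInstance π (QuotientGroup.mk'_surjective _), ?_, ?_, hBcard, ?_,
    ht'B, hcardL, ?_⟩
  · refine ⟨⟨fun a b => ?_⟩⟩
    obtain ⟨a, rfl⟩ := hιs a
    obtain ⟨b, rfl⟩ := hιs b
    rw [← map_mul, ← map_mul, isMulCommutative_iff.mp inferInstance a b]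
  · rintro _ ⟨⟨w, hwL⟩, hw, rfl⟩
    rw [← map_pow, ← map_one π]
    exact congrArg π (Subtype.ext (hW w (Subgroup.mem_subgroupOf.mp hw)))
  · exact orderOf_eq_prime ht'p fun h => ht'B (h ▸ B.one_mem)
  · -- fixed points of `t'`
    have hfix : ∀ w : W, Commute (π ⟨w, hWL w.2⟩) t' ↔ Ψ (u (Additive.ofMul w)) = 0 := by
      intro w
      have e0 := hM₀ (Additive.toMul (u (Additive.ofMul w)))
      rw [ofMul_toMul] at e0
      rw [← e0, hu_apply, ht',
        commute_iff_eq, ← map_mul, ← map_mul, hπ, QuotientGroup.mk'_apply, QuotientGroup.mk'_apply,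
        eq_comm, QuotientGroup.eq_iff_div_mem, Subgroup.mem_subgroupOf, Subgroup.coe_div, div_eq_mul_inv]
      show (v : Γ) * t * w * ((w : Γ) * ((v : Γ) * t))⁻¹ ∈ M₀ ↔ _
      have hwv : (w : Γ) * v = v * w := congrArg Subtype.val (isMulCommutative_iff.mp inferInstance w v)
      have e : (v : Γ) * t * w * ((w : Γ) * ((v : Γ) * t))⁻¹ = v * (t * w * t⁻¹ * (w : Γ)⁻¹) * (v : Γ)⁻¹ := by
        rw [← mul_assoc (w : Γ), hwv]
        have h5 : (v : Γ)⁻¹ * (w : Γ)⁻¹ = (w : Γ)⁻¹ * (v : Γ)⁻¹ := by rw [← mul_inv_rev, hwv, mul_inv_rev]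
        simp only [mul_inv_rev, mul_assoc, h5]
      have hcomm : (v : Γ) * (t * w * t⁻¹ * (w : Γ)⁻¹) = t * w * t⁻¹ * (w : Γ)⁻¹ * v := by
        rw [← hu_apply]
        exact congrArg Subtype.val (isMulCommutative_iff.mp inferInstance v _)
      rw [e, hcomm, mul_inv_cancel_right]
    choose wc hwc using fun c : ZMod p => hΨs fun k => if (k : ℕ) = 0 then c else 0
    have hwfix : ∀ c, Ψ (u (wc c)) = 0 := by
      intro c
      funext k
      rw [hΨ, Pi.zero_apply]
      show φ ((u ^ (k : ℕ) * u) (wc c)) = 0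
      rw [← pow_succ]
      by_cases hk : (k : ℕ) + 1 < p
      · exact (congrFun (hwc c) ⟨(k : ℕ) + 1, hk⟩).trans (if_neg (Nat.succ_ne_zero _))
      · rw [pow_eq_zero_of_le (by omega) hup]
        exact map_zero φ
    let h : ZMod p → ↥(B ⊓ Subgroup.centralizer ({t'} : Set (L ⧸ M₀.subgroupOf L))) := fun c =>
      ⟨π ⟨(Additive.toMul (wc c) : W), hWL (Additive.toMul (wc c)).2⟩, (ι (Additive.toMul (wc c))).2,
        Subgroup.mem_centralizer_singleton_iff.mpr ((hfix _).mpr (by rw [ofMul_toMul]; exact hwfix c)).eq⟩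
    have hp0 : 0 < p := hp.out.pos
    have hbij : Function.Bijective h := by
      constructor
      · intro c c' hcc
        have h1 : π ⟨_, hWL (Additive.toMul (wc c)).2⟩ = π ⟨_, hWL (Additive.toMul (wc c')).2⟩ :=
          congrArg Subtype.val hcc
        have h2 : Ψ (wc c - wc c') = 0 := by
          rw [← ofMul_toMul (wc c - wc c'), ← hker, toMul_sub]
          exact (map_div π ⟨_, hWL (Additive.toMul (wc c)).2⟩ ⟨_, hWL (Additive.toMul (wc c')).2⟩).trans
            (div_eq_one.mpr h1)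
        rw [map_sub, hwc, hwc, sub_eq_zero] at h2
        simpa using congrFun h2 ⟨0, hp0⟩
      · rintro ⟨_, ⟨⟨w, hwL⟩, hw, rfl⟩, hcent⟩
        have h1 : Ψ (u (Additive.ofMul (⟨w, Subgroup.mem_subgroupOf.mp hw⟩ : W))) = 0 :=
          (hfix _).mp (Subgroup.mem_centralizer_singleton_iff.mp hcent)
        set w' : W := ⟨w, Subgroup.mem_subgroupOf.mp hw⟩
        refine ⟨Ψ (Additive.ofMul w') ⟨0, hp0⟩, Subtype.ext ?_⟩
        set c := Ψ (Additive.ofMul w') ⟨0, hp0⟩ with hc'
        have h2 : Ψ (wc c - Additive.ofMul w') = 0 := by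
          rw [map_sub, hwc, sub_eq_zero]
          funext k
          by_cases hk : (k : ℕ) = 0
          · rw [if_pos hk, hc']
            rw [show k = ⟨0, hp0⟩ from Fin.ext hk]
          · rw [if_neg hk, hΨ]
            obtain ⟨k', hk'⟩ := Nat.exists_eq_succ_of_ne_zero hk
            have h3 := congrFun h1 ⟨k', by omega⟩
            rw [hΨ, Pi.zero_apply] at h3
            rw [hk', pow_succ]
            exact h3.symm
        rw [← ofMul_toMul (wc c - Additive.ofMul w'), ← hker, toMul_sub] at h2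
        exact div_eq_one.mp ((map_div π ⟨_, hWL (Additive.toMul (wc c)).2⟩ ⟨w, hwL⟩).symm.trans h2)
    rw [← Nat.card_eq_of_bijective h hbij, Nat.card_zmod]

/-- Let G be a finite p-soluble group, p an odd prime not of the form 2^k + 1, and suppose the wreath product C_p ≀ C_p (of order p^(p+1)) is not involved in a Sylow p-subgroup of G: no section of a Sylow p-subgroup is isomorphic to it. Then G has p-length at most 1. -/
theorem result {G : Type*} [Group G] [Finite G] {p : ℕ} [Fact p.Prime] (hp2 : p ≠ 2) (hnf : (¬ ∃ k : ℕ, p = 2 ^ k + 1)) (hG : Cfsg.IsPSolvable p G) (P : Sylow p G) (hwr : ∀ (W : Type) [Group W] [Finite W], (∃ (B : Subgroup W) (t : W), B.Normal ∧ IsMulCommutative B ∧ (∀ b ∈ B, b ^ p = 1) ∧ Nat.card B = p ^ p ∧ orderOf t = p ∧ t ∉ B ∧ Nat.card W = p ^ (p + 1) ∧ Nat.card ↥(B ⊓ Subgroup.centralizer ({t} : Set W)) = p) → ¬ Cfsg.Involves W ↥(P : Subgroup G)) : Cfsg.PLengthLE p 1 G := by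
  refine pLengthLE_of_coprime_kernel (pPrimeCore p G) pPrimeCore_coprime ?_
  have hπ := QuotientGroup.mk'_surjective (pPrimeCore p G)
  have hH : IsPSolvable p (G ⧸ pPrimeCore p G) := isPSolvable_quotient hG _
  set V := pCore p (G ⧸ pPrimeCore p G) with hV
  have : V.Normal := CfsgLib.Fitting.pCore_normal p
  refine pLengthLE_succ_of_pGroup_kernel V pCore_isPGroup (pLengthLE_of_exponent 0 _
    (isPSolvable_quotient hH V) ?_ ?_)
  · rintro ⟨q, n₀, d, _, h1, h2, -⟩
    omega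
  intro Q x₁ hx₁
  rw [pow_zero, pow_one]
  by_contra hne
  -- an element of order `p` modulo `O_p`
  obtain ⟨x₂, hx₂Q, hx₂p, hx₂1⟩ : ∃ x₂ ∈ Q.toSubgroup, x₂ ^ p = 1 ∧ x₂ ≠ 1 := by
    have hdvd : p ∣ Nat.card Q.toSubgroup := by
      refine ((IsPGroup.card_eq_or_dvd Q.2).resolve_left fun h => hne ?_)
      exact Subgroup.mem_bot.mp ((Subgroup.card_eq_one.mp h) ▸ hx₁)
    obtain ⟨z, hz⟩ := exists_prime_orderOf_dvd_card' p hdvd
    refine ⟨z, z.2, ?_, ?_⟩
    · have h := pow_orderOf_eq_one z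
      rw [hz] at h
      exact congrArg Subtype.val h
    · intro e
      exact (Fact.out : p.Prime).ne_one (by rw [← hz, show z = 1 from Subtype.ext e, orderOf_one])
  -- pull it back into `P`
  obtain ⟨P₀, hP₀⟩ := exists_sylow_eq_map ((QuotientGroup.mk' V).comp (QuotientGroup.mk' (pPrimeCore p G)))
    ((QuotientGroup.mk'_surjective V).comp hπ) Q
  obtain ⟨x, hxP₀, hx⟩ := hP₀.le hx₂Q
  obtain ⟨g, hg⟩ := MulAction.exists_smul_eq G P₀ P
  obtain ⟨P', hP'⟩ : ∃ P' : Sylow p (G ⧸ pPrimeCore p G),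
      (P' : Subgroup _) = (P₀ : Subgroup G).map (QuotientGroup.mk' (pPrimeCore p G)) :=
    ⟨P₀.mapSurjective hπ, Sylow.coe_mapSurjective hπ P₀⟩
  set H := G ⧸ pPrimeCore p G
  set xb := QuotientGroup.mk' (pPrimeCore p G) x with hxb
  have hxbP' : xb ∈ (P' : Subgroup H) := hP'.ge ⟨x, hxP₀, rfl⟩
  have hxV : xb ^ p ∈ V := by
    refine (QuotientGroup.eq_one_iff _).mp ?_
    show (xb : H ⧸ V) ^ p = 1
    rw [show (xb : H ⧸ V) = x₂ from hx, hx₂p]
  have hxnV : xb ∉ V := fun h => hx₂1 (by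
    rw [← hx]; exact (QuotientGroup.eq_one_iff _).mpr h)
  obtain ⟨hcomm, hpow, -⟩ := frattini_quotient_props hH pPrimeCore_quotient_eq_bot
  set f1 := QuotientGroup.mk' (frattiniCore p H) with hf1
  set W := (pCore p H).map f1 with hW
  have : W.Normal := Subgroup.Normal.map inferInstance f1 (QuotientGroup.mk'_surjective _)
  have : IsMulCommutative W := ⟨⟨fun a b => Subtype.ext (hcomm a a.2 b b.2)⟩⟩
  obtain ⟨q, hq, -, hdeg⟩ := exists_degreeBound_pCore hH pPrimeCore_quotient_eq_bot xb 0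
    (by rwa [zero_add, pow_one])
    (by
      obtain ⟨j, hj⟩ := P'.2 ⟨xb, hxbP'⟩
      obtain ⟨i, -, hi⟩ := (Nat.dvd_prime_pow (Fact.out : p.Prime)).1
        (orderOf_dvd_of_pow_eq_one (congrArg Subtype.val hj))
      exact ⟨i, hi⟩)
    (by rwa [pow_zero, pow_one])
  rcases hdeg with hdeg | ⟨n₀, d, h1, h2, h3, h4, -⟩
  swap
  · exact hnf (eq_two_of_pow_eq_pow_add_one hp2 hq.out h3 h4).2
  have hdeg' := hdeg (p - 1) (by rw [zero_add, pow_one]; have := (Fact.out : p.Prime).pos; omega)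
  obtain ⟨M, hM, hwreath⟩ := exists_wreath_quotient W (fun w hw => hpow w hw) (f1 xb)
    (by rw [← map_pow]; exact Subgroup.mem_map_of_mem f1 hxV) hdeg'
  -- the section lies in `P`
  obtain ⟨n, ⟨e₀⟩⟩ := Finite.exists_equiv_fin (↥(W ⊔ Subgroup.zpowers (f1 xb)) ⧸ M)
  let Wt : Type := {i : Fin n // (i : ℕ) < n}
  let e : (↥(W ⊔ Subgroup.zpowers (f1 xb)) ⧸ M) ≃ Wt :=
    e₀.trans (Equiv.subtypeUnivEquiv (fun i => i.2)).symm
  let instG : Group Wt := e.symm.group
  have : Finite Wt := Finite.of_equiv _ e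
  let E : ↥(W ⊔ Subgroup.zpowers (f1 xb)) ⧸ M ≃* Wt := (e.symm.mulEquiv).symm
  refine hwr Wt (IsWreath.of_equiv E hwreath) ?_
  refine involves_of_equiv E ?_
  -- `W ⊔ ⟨x⟩` is an image of a subgroup of `P`
  set f := f1.comp (QuotientGroup.mk' (pPrimeCore p G)) with hf
  have hle : W ⊔ Subgroup.zpowers (f1 xb) ≤ (P₀ : Subgroup G).map f := by
    have hVP : V ≤ (P' : Subgroup H) :=
      (pCore_isPGroup (p := p) (G := H)).le_sylow_of_normal P'
    refine sup_le ?_ (Subgroup.zpowers_le.mpr ⟨x, hxP₀, rfl⟩)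
    rw [hW, hf, ← Subgroup.map_map, ← hP']
    exact Subgroup.map_mono hVP
  have hI0 : Involves (↥(W ⊔ Subgroup.zpowers (f1 xb)) ⧸ M) ↥(P₀ : Subgroup G) := by
    let K : Subgroup ↥(P₀ : Subgroup G) := (W ⊔ Subgroup.zpowers (f1 xb)).comap (f.comp (P₀ : Subgroup G).subtype)
    let r : ↥K →* ↥(W ⊔ Subgroup.zpowers (f1 xb)) :=
      { toFun := fun k => ⟨f (k : ↥(P₀ : Subgroup G)), k.2⟩
        map_one' := Subtype.ext (map_one f)
        map_mul' := fun a b => Subtype.ext (map_mul f _ _) }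
    refine involves_of_hom K ((QuotientGroup.mk' M).comp r) ((QuotientGroup.mk'_surjective M).comp ?_)
    rintro ⟨y, hy⟩
    obtain ⟨a, ha, rfl⟩ := hle hy
    exact ⟨⟨⟨a, ha⟩, hy⟩, Subtype.ext rfl⟩
  obtain ⟨K, r, hr⟩ := exists_hom_of_involves hI0
  let c : ↥(P : Subgroup G) ≃* ↥(P₀ : Subgroup G) :=
    ((Subgroup.equivSMul (MulAut.conj g) (P₀ : Subgroup G)).trans
      (MulEquiv.subgroupCongr (congrArg Sylow.toSubgroup hg))).symm
  exact involves_of_surjective c.toMonoidHom c.surjective (involves_of_hom K r hr)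

end Cfsg.Agent.S3787
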