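import Cfsg.Statements.S3788
import Cfsg.Agent.Lib.HallHigman.Exponent
import Cfsg.Agent.Lib.LocalEven.InvolvesFour
import Cfsg.Agent.Lib.PLocal.SLTwoSection

set_option autoImplicit false
open Cfsg

namespace Cfsg.Agent.S3788

open CfsgLib.PCore CfsgLib.HallHigman CfsgLib.ModuleTrick CfsgLib.LocalEven.Involved
open scoped IsMulCommutative commutatorElement

/-- An element of order prime to `p` acts semisimply in characteristic `p`. -/
theorem sub_one_apply_eq_zero {A : Type*} [AddCommGroup A] {p : ℕ} (hA : ∀ a : A, p • a = 0)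
    (e : AddMonoid.End A) {N : ℕ} (hN : N.Coprime p) (he : e ^ N = 1) (v : A)
    (hv : (e - 1) ((e - 1) v) = 0) : (e - 1) v = 0 := by
  have h1 : ∀ n : ℕ, (e ^ n) v = v + n • (e - 1) v := by
    intro n
    induction n with
    | zero => simp
    | succ n ih =>
      have h2 : e ((e - 1) v) = (e - 1) v := sub_eq_zero.mp hv
      have h3 : e v = v + (e - 1) v := by
        show e v = v + (e v - v)
        abel
      rw [pow_succ']
      show e ((e ^ n) v) = _
      rw [ih, map_add, map_nsmul, h2, h3, succ_nsmul]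
      abel
  have h4 := h1 N
  rw [he] at h4
  have h5 : N • (e - 1) v = 0 := by
    have : v = v + N • (e - 1) v := h4
    rwa [left_eq_add] at this
  have h6 := Nat.dvd_gcd (addOrderOf_dvd_of_nsmul_eq_zero h5) (addOrderOf_dvd_of_nsmul_eq_zero (hA ((e - 1) v)))
  rw [hN.gcd_eq_one, Nat.dvd_one] at h6
  exact AddMonoid.addOrderOf_eq_one_iff.mp h6

/-- An element of order `2` with rank one difference from `1`, outside `O_2`, inverts an element of order 3. -/
theorem exists_inverted_three {X : Type*} [Group X] [Finite X] {A : Type*} [AddCommGroup A] [Finite A]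
    (hA : ∀ a : A, 2 • a = 0) (ρ : X →* AddMonoid.End A) (hρ : Function.Injective ρ) (a : X)
    (ha : a * a = 1) (hrank : ∃ w₀ : A, ∀ v, (ρ a - 1) v ∈ AddSubgroup.zmultiples w₀)
    (hna : a ∉ pCore 2 X) : ∃ r : X, orderOf r = 3 ∧ a * r * a⁻¹ = r⁻¹ := by
  have : Fact (Nat.Prime 2) := ⟨Nat.prime_two⟩
  obtain ⟨g, hg⟩ := CfsgLib.PLocal.exists_conj_pair_not_isPGroup hna
  set b := g * a * g⁻¹ with hb
  have hainv : a⁻¹ = a := inv_eq_of_mul_eq_one_right ha
  have hbb : b * b = 1 := by rw [hb, show g * a * g⁻¹ * (g * a * g⁻¹) = g * (a * a) * g⁻¹ by group, ha]; group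
  have hbinv : b⁻¹ = b := inv_eq_of_mul_eq_one_right hbb
  set c := a * b with hc
  have hac : a * c * a⁻¹ = c⁻¹ := by
    rw [hc, mul_inv_rev, hbinv, ← mul_assoc a a b, ha, one_mul]
  -- `c` is not a 2-element
  have hnot : ¬ ∃ k, orderOf c = 2 ^ k := by
    rintro ⟨k, hk⟩
    apply hg
    have hT : IsPGroup 2 (Subgroup.zpowers c) := IsPGroup.of_card (n := k) (by rw [Nat.card_zpowers, hk])
    have hA2 : IsPGroup 2 (Subgroup.zpowers a) := by
      intro ⟨x, hx⟩
      obtain ⟨n, rfl⟩ := hx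
      refine ⟨1, Subtype.ext ?_⟩
      show (a ^ n) ^ 2 = 1
      rw [← zpow_natCast, ← zpow_mul, mul_comm, zpow_mul, zpow_natCast, pow_two, ha, one_zpow]
    have hle : Subgroup.zpowers a ≤ Subgroup.normalizer (Subgroup.zpowers c : Set X) :=
      Subgroup.zpowers_le.mpr (mem_normalizer_map_conj.mpr fun h hh => by
        obtain ⟨n, rfl⟩ := hh
        show a * c ^ n * a⁻¹ ∈ Subgroup.zpowers c
        rw [← conj_zpow, hac]
        exact Subgroup.zpow_mem _ (Subgroup.inv_mem _ (Subgroup.mem_zpowers c)) n)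
    refine (IsPGroup.to_sup_of_normal_right' hA2 hT hle).to_le ?_
    rw [Subgroup.closure_le]
    intro z hz
    rcases hz with rfl | rfl
    · exact Subgroup.mem_sup_left (Subgroup.mem_zpowers _)
    · rw [show b = a * c by rw [hc, ← mul_assoc, ha, one_mul]]
      exact Subgroup.mul_mem _ (Subgroup.mem_sup_left (Subgroup.mem_zpowers _))
        (Subgroup.mem_sup_right (Subgroup.mem_zpowers _))
  -- its odd part
  obtain ⟨i, m, hm, him⟩ := Nat.exists_eq_pow_mul_and_not_dvd (orderOf_pos c).ne' 2 (by norm_num)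
  set r := c ^ (2 ^ i) with hr
  have hrm : orderOf r = m := by
    rw [hr, orderOf_pow, him, Nat.gcd_eq_right (Dvd.intro m rfl), Nat.mul_div_cancel_left _ (by positivity)]
  have hinvr : a * r * a⁻¹ = r⁻¹ := by rw [hr, ← conj_pow, hac, inv_pow]
  refine ⟨r, ?_, hinvr⟩
  have hm1 : m ≠ 1 := fun h => hnot ⟨i, by rw [him, h, mul_one]⟩
  have hmodd : m.Coprime 2 := (Nat.prime_two.coprime_iff_not_dvd.mpr hm).symm
  -- the common fixed points
  obtain ⟨w₀, hw₀⟩ := hrank
  let u : A →+ A := (ρ a - 1 : AddMonoid.End A)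
  let u' : A →+ A := (ρ b - 1 : AddMonoid.End A)
  let C : AddSubgroup A := u.ker ⊓ u'.ker
  have h2 : Nat.card (AddSubgroup.zmultiples w₀) ≤ 2 := by
    rw [Nat.card_zmultiples]
    exact Nat.le_of_dvd two_pos (addOrderOf_dvd_of_nsmul_eq_zero (hA w₀))
  have hu : u.ker.index ≤ 2 := by
    rw [AddSubgroup.index_ker]
    refine le_trans (AddSubgroup.card_le_of_le ?_) h2
    rintro _ ⟨v, rfl⟩
    exact hw₀ v
  have hu' : u'.ker.index ≤ 2 := by
    rw [AddSubgroup.index_ker]
    refine le_trans (AddSubgroup.card_le_of_le (K := (AddSubgroup.zmultiples w₀).map (ρ g : A →+ A)) ?_) ?_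
    · rintro _ ⟨v, rfl⟩
      refine ⟨(ρ a - 1) (ρ g⁻¹ v), hw₀ _, ?_⟩
      have hmul : ∀ x y v, ρ (x * y) v = ρ x (ρ y v) := fun x y v => by rw [map_mul]; rfl
      show ρ g (ρ a (ρ g⁻¹ v) - ρ g⁻¹ v) = ρ b v - v
      rw [map_sub, ← hmul g g⁻¹, mul_inv_cancel, map_one, ← hmul a, ← hmul g, ← mul_assoc, hb]
      rfl
    · refine le_trans ?_ h2
      exact Nat.le_of_dvd Nat.card_pos (AddSubgroup.card_map_dvd _ _)
  have hC : C.index ≤ 4 := (AddSubgroup.index_inf_le).trans (Nat.mul_le_mul hu hu')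
  have hfixc : ∀ v ∈ C, ρ c v = v := by
    rintro v ⟨hv1, hv2⟩
    rw [hc, map_mul]
    show ρ a (ρ b v) = v
    rw [show ρ b v = v from sub_eq_zero.mp hv2, show ρ a v = v from sub_eq_zero.mp hv1]
  have hfixr : ∀ k : ℕ, ∀ v ∈ C, ρ (r ^ k) v = v := by
    intro k v hv
    rw [hr, ← pow_mul]
    induction (2 ^ i * k) with
    | zero => rw [pow_zero, map_one]; rfl
    | succ n ih =>
      rw [pow_succ', map_mul]
      show ρ c (ρ (c ^ n) v) = v
      rw [ih, hfixc v hv]
  -- the permutation of the cosets of `C`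
  let π : A ⧸ C → A ⧸ C := Quotient.map' (ρ r) (fun x y h => by
    rw [QuotientAddGroup.leftRel_apply] at h ⊢
    have h1 := hfixr 1 _ h
    rw [pow_one, map_add, map_neg] at h1
    rwa [h1])
  have hπ : ∀ v : A, π (v : A ⧸ C) = ((ρ r v : A) : A ⧸ C) := fun v => rfl
  have hπk : ∀ (k : ℕ) (v : A), π^[k] (v : A ⧸ C) = ((ρ (r ^ k) v : A) : A ⧸ C) := by
    intro k
    induction k with
    | zero => intro v; rw [pow_zero, map_one]; rfl
    | succ k ih =>
      intro v
      rw [Function.iterate_succ_apply', ih, hπ, pow_succ', map_mul]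
      rfl
  have hperm : ∀ q : A ⧸ C, π^[24] q = q := by
    have hbij : Function.Bijective π := by
      refine (Finite.surjective_iff_bijective).mp fun q => ⟨π^[orderOf r - 1] q, ?_⟩
      induction q using QuotientAddGroup.induction_on with
      | H v =>
        rw [← Function.iterate_succ_apply' π, hπk, show (orderOf r - 1).succ = orderOf r by have := orderOf_pos r; omega, pow_orderOf_eq_one, map_one]
        rfl
    let e : Equiv.Perm (A ⧸ C) := Equiv.ofBijective π hbij
    have := Fintype.ofFinite (A ⧸ C)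
    classical
    have h24 : e ^ 24 = 1 := by
      apply orderOf_dvd_iff_pow_eq_one.mp
      refine (orderOf_dvd_card).trans ?_
      rw [Fintype.card_perm, ← Nat.card_eq_fintype_card]
      exact (Nat.factorial_dvd_factorial hC).trans (dvd_of_eq rfl)
    intro q
    have h5 := Equiv.congr_fun h24 q
    rwa [Equiv.Perm.coe_pow] at h5
  have hr24 : r ^ 24 = 1 := by
    apply hρ
    rw [map_one]
    refine AddMonoidHom.ext fun v => ?_
    have h1 : ρ (r ^ 24) v - v ∈ C := by
      have h := (hπk 24 v).symm.trans (hperm v)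
      exact (QuotientAddGroup.eq_iff_sub_mem).mp h
    have h2 : (ρ (r ^ 24) - 1) ((ρ (r ^ 24) - 1) v) = 0 := sub_eq_zero.mpr (hfixr 24 _ h1)
    have h3 := sub_one_apply_eq_zero hA (ρ (r ^ 24)) hmodd
      (by rw [← map_pow, ← pow_mul, mul_comm, pow_mul, ← hrm, pow_orderOf_eq_one, one_pow, map_one]) v h2
    exact sub_eq_zero.mp h3
  have hdvd : m ∣ 24 := hrm ▸ orderOf_dvd_of_pow_eq_one hr24
  have h8 : m.Coprime 8 := by simpa using hmodd.pow_right 3
  have h3 : m ∣ 3 := h8.dvd_of_dvd_mul_left (show m ∣ 8 * 3 from hdvd)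
  rcases (Nat.dvd_prime Nat.prime_three).mp h3 with h | h
  · exact absurd h hm1
  · exact hrm.trans h

universe u

/-- The cyclic subgroup lies in `O_p` once `O_{p'}` is trivial. -/
theorem le_pCore_of_cyclic {H : Type u} [Group H] [Finite H] {p : ℕ} [hp : Fact p.Prime]
    (hH : IsPSolvable p H) (h0 : pPrimeCore p H = ⊥) (P : Sylow p H) (a₀ : H) (ha₀ : a₀ ∈ (P : Subgroup H))
    (hnorm : (P : Subgroup H) ≤ Subgroup.normalizer (Subgroup.zpowers a₀ : Set H))
    (h : p ≠ 2 ∨ ¬ Involves (Equiv.Perm (Fin 4)) H) : a₀ ∈ pCore p H := by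
  classical
  by_contra hna
  set V := pCore p H with hV
  have : V.Normal := CfsgLib.Fitting.pCore_normal p
  have hVP : V ≤ (P : Subgroup H) := (pCore_isPGroup (p := p) (G := H)).le_sylow_of_normal P
  obtain ⟨N, hN⟩ := P.2 ⟨a₀, ha₀⟩
  have hN' : a₀ ^ p ^ N = 1 := congrArg Subtype.val hN
  have hex : ∃ j, a₀ ^ p ^ j ∈ V := ⟨N, by rw [hN']; exact one_mem _⟩
  obtain ⟨j, hj⟩ : ∃ j, Nat.find hex = j + 1 := by
    refine Nat.exists_eq_succ_of_ne_zero fun e => hna ?_
    have := Nat.find_spec hex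
    rwa [e, pow_zero, pow_one] at this
  set a := a₀ ^ p ^ j with ha
  have haV : a ∉ V := Nat.find_min hex (by omega)
  have hapV : a ^ p ∈ V := by
    rw [ha, ← pow_mul, ← pow_succ, ← hj]
    exact Nat.find_spec hex
  have hAV : ∀ z ∈ Subgroup.zpowers a₀, z ∈ V → z ∈ Subgroup.zpowers (a ^ p) := by
    intro z hz hzV
    obtain ⟨i, rfl⟩ := mem_powers_iff_mem_zpowers.mpr hz
    show a₀ ^ i ∈ _
    by_cases hd : p ^ (j + 1) ∣ i
    · obtain ⟨k, rfl⟩ := hd
      rw [pow_mul, pow_succ, pow_mul, ← ha]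
      exact Subgroup.pow_mem _ (Subgroup.mem_zpowers _) k
    · exfalso
      apply haV
      have hi : i ≠ 0 := by rintro rfl; exact hd (dvd_zero _)
      obtain ⟨e, u, hu, rfl⟩ := Nat.exists_eq_pow_mul_and_not_dvd hi p hp.out.ne_one
      have he : e ≤ j := by
        by_contra hlt
        exact hd (Dvd.dvd.mul_right (pow_dvd_pow p (by omega)) u)
      obtain ⟨M, hM⟩ : ∃ M, a₀ ^ p ^ M = 1 := ⟨N, hN'⟩
      rcases Nat.eq_zero_or_pos M with h | hMpos
      · rw [h, pow_zero, pow_one] at hM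
        rw [ha, hM, one_pow]; exact one_mem _
      obtain ⟨v, hv⟩ := Nat.exists_mul_mod_eq_one_of_coprime
        (((hp.out.coprime_iff_not_dvd.mpr hu).pow_left M).symm) (Nat.one_lt_pow hMpos.ne' hp.out.one_lt)
      have h1 : (a₀ ^ (p ^ e * u)) ^ (v * p ^ (j - e)) = a := by
        rw [ha, ← pow_mul, show p ^ e * u * (v * p ^ (j - e)) = p ^ (e + (j - e)) * (u * v) by rw [pow_add]; ring,
          Nat.add_sub_cancel' he, ← Nat.mod_add_div (u * v) (p ^ M), hv.2, mul_add, mul_one, pow_add,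
          mul_left_comm, pow_mul a₀ (p ^ M), hM, one_pow, mul_one]
      rw [← h1]
      exact V.pow_mem hzV _
  have haA : a ∈ Subgroup.zpowers a₀ := Subgroup.pow_mem _ (Subgroup.mem_zpowers a₀) _
  have haP : a ∈ (P : Subgroup H) := Subgroup.pow_mem _ ha₀ _
  have hcomm_le : ∀ v ∈ V, v * a * v⁻¹ * a⁻¹ ∈ Subgroup.zpowers (a ^ p) := by
    intro v hv
    refine hAV _ ?_ ?_
    · exact Subgroup.mul_mem _ (mem_normalizer_map_conj.mp (hnorm (hVP hv)) a haA) (Subgroup.inv_mem _ haA)
    · rw [show v * a * v⁻¹ * a⁻¹ = v * (a * v⁻¹ * a⁻¹) by group]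
      exact V.mul_mem hv (Subgroup.Normal.conj_mem inferInstance _ (V.inv_mem hv) a)
  obtain ⟨hcomm, hpow, hcen⟩ := frattini_quotient_props hH h0
  set f1 := QuotientGroup.mk' (frattiniCore p H) with hf1
  set W := V.map f1 with hW
  have : W.Normal := Subgroup.Normal.map inferInstance f1 (QuotientGroup.mk'_surjective _)
  have : IsMulCommutative W := ⟨⟨fun a b => Subtype.ext (hcomm a a.2 b b.2)⟩⟩
  set t := f1 a with ht
  let w₁ : W := ⟨f1 (a ^ p), a ^ p, hapV, rfl⟩
  set w₀ : Additive W := Additive.ofMul w₁ with hw₀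
  set s := conjEnd W t with hs
  have hrank : ∀ v, (s - 1) v ∈ AddSubgroup.zmultiples w₀ := by
    intro v
    obtain ⟨x, hx, hxv⟩ := (Additive.toMul v).2
    obtain ⟨k, hk⟩ := hcomm_le x hx
    refine ⟨-k, Additive.toMul.injective (Subtype.ext ?_)⟩
    show ((Additive.toMul ((-k) • w₀) : W) : H ⧸ frattiniCore p H) = ((Additive.toMul (s v - v) : W) : _)
    rw [toMul_zsmul, toMul_sub, Subgroup.coe_zpow, Subgroup.coe_div, conjEnd_apply, ← hxv, hw₀, toMul_ofMul,
      div_eq_mul_inv, ht, ← map_inv, ← map_mul, ← map_mul, ← map_inv, ← map_mul]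
    show f1 (a ^ p) ^ (-k) = _
    rw [← map_zpow, zpow_neg]
    simp only at hk
    rw [hk]
    congr 1
    group
  have hA : ∀ v : Additive W, p • v = 0 := fun v => Additive.toMul.injective (Subtype.ext (by
    rw [toMul_nsmul, Subgroup.coe_pow]
    exact hpow _ (Additive.toMul v).2))
  have hsfix : s w₀ = w₀ := by
    refine Additive.toMul.injective (Subtype.ext ?_)
    rw [conjEnd_apply]
    show t * f1 (a ^ p) * t⁻¹ = f1 (a ^ p)
    rw [ht, ← map_inv, ← map_mul, ← map_mul]
    congr 1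
    group
  have husq : (s - 1) * (s - 1) = 0 := AddMonoidHom.ext fun v => by
    obtain ⟨k, hk⟩ := hrank v
    show (s - 1) ((s - 1) v) = 0
    rw [← hk]
    show (s - 1) (k • w₀) = 0
    rw [map_zsmul]
    show k • (s w₀ - w₀) = 0
    rw [hsfix, sub_self, smul_zero]
  set g := (QuotientGroup.mk' (Subgroup.centralizer (W : Set (H ⧸ frattiniCore p H)))).comp f1 with hg
  have hgs : Function.Surjective g :=
    (QuotientGroup.mk'_surjective _).comp (QuotientGroup.mk'_surjective _)
  have hker : g.ker = V := by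
    rw [hg, ← MonoidHom.comap_ker, QuotientGroup.ker_mk', hcen, hW, Subgroup.comap_map_eq, hf1,
      QuotientGroup.ker_mk', sup_eq_left]
    exact frattiniCore_le p H
  have hX : IsPSolvable p ((H ⧸ frattiniCore p H) ⧸ Subgroup.centralizer (W : Set (H ⧸ frattiniCore p H))) :=
    isPSolvable_quotient (isPSolvable_quotient hH _) _
  have hX0 : pCore p ((H ⧸ frattiniCore p H) ⧸ Subgroup.centralizer (W : Set (H ⧸ frattiniCore p H))) = ⊥ := by
    have h1 := pCore_isPGroup.comap_of_ker_isPGroup (p := p) g (by rw [hker]; exact pCore_isPGroup)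
    have h2 := le_pCore (Subgroup.Normal.comap (CfsgLib.Fitting.pCore_normal p) g) h1
    rw [← Subgroup.map_comap_eq_self_of_surjective hgs (pCore p _), Subgroup.map_eq_bot_iff, hker]
    exact h2
  set ab := g a with hab
  have hab1 : ab ≠ 1 := fun e => haV (hker.le e)
  have habp : ab ^ p = 1 := by rw [hab, ← map_pow]; exact hker.ge hapV
  have hρ : conjEndQuot W ab = s := rfl
  have hA' : ∀ v : Additive W, p • v = 0 := hA
  by_cases hp2 : p = 2
  · -- the section `S₄`
    subst hp2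
    obtain ⟨r, hr, hinv⟩ := exists_inverted_three hA (conjEndQuot W) (conjEndQuot_injective W) ab
      (by rw [← pow_two]; exact habp) ⟨w₀, fun v => by rw [hρ]; exact hrank v⟩
      (by rw [hX0, Subgroup.mem_bot]; exact hab1)
    set π := QuotientGroup.mk' (Subgroup.centralizer (W : Set (H ⧸ frattiniCore 2 H))) with hπ
    let D := Subgroup.zpowers ab ⊔ Subgroup.zpowers r
    have hnr : (Subgroup.zpowers r).subgroupOf D |>.Normal := by
      refine (Subgroup.normal_subgroupOf_iff_le_normalizer le_sup_right).mpr (sup_le ?_ Subgroup.le_normalizer)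
      refine Subgroup.zpowers_le.mpr (mem_normalizer_map_conj.mpr ?_)
      rintro _ ⟨n, rfl⟩
      show ab * r ^ n * ab⁻¹ ∈ Subgroup.zpowers r
      rw [← conj_zpow, hinv]
      exact Subgroup.zpow_mem _ (Subgroup.inv_mem _ (Subgroup.mem_zpowers r)) n
    let abD : D := ⟨ab, Subgroup.mem_sup_left (Subgroup.mem_zpowers _)⟩
    have hordab : orderOf abD = 2 ^ 1 := by
      rw [pow_one]
      exact orderOf_eq_prime (Subtype.ext habp) fun e => hab1 (congrArg Subtype.val e)
    have : Fact (Nat.Prime 3) := ⟨Nat.prime_three⟩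
    have hr3 : IsPGroup 3 ((Subgroup.zpowers r).subgroupOf D) :=
      (IsPGroup.of_card (n := 1) (by rw [Nat.card_zpowers, hr, pow_one]) : IsPGroup 3 (Subgroup.zpowers r)).of_equiv
        (Subgroup.subgroupOfEquivOfLe le_sup_right).symm
    obtain ⟨x, P₃, ⟨k, hxord⟩, hP₃, hxP, hπx, hπP⟩ := exists_lift_normalizing (π.subgroupComap D)
      (π.subgroupComap_surjective_of_surjective D (QuotientGroup.mk'_surjective _))
      ((Subgroup.zpowers r).subgroupOf D) hr3 abD hordab
    obtain ⟨y, hy, hπy⟩ := hπP.ge (show (⟨r, Subgroup.mem_sup_right (Subgroup.mem_zpowers r)⟩ : D) ∈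
      (Subgroup.zpowers r).subgroupOf D from Subgroup.mem_subgroupOf.mpr (Subgroup.mem_zpowers r))
    have hπy' : π (y : H ⧸ frattiniCore 2 H) = r := congrArg Subtype.val hπy
    have hπx' : π (x : H ⧸ frattiniCore 2 H) = ab := congrArg Subtype.val hπx
    have hcenmem : ∀ z : H ⧸ frattiniCore 2 H, z ∈ Subgroup.centralizer (W : Set _) ↔ π z = 1 := fun z =>
      (QuotientGroup.eq_one_iff z).symm
    refine (h.resolve_left (by simp)) (involves_of_surjective f1 (QuotientGroup.mk'_surjective _) ?_)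
    refine involves_four_of_action W ⟨inferInstance, fun v hv => hpow v hv⟩ (x : H ⧸ frattiniCore 2 H) y
      (P₃.map (D.comap π).subtype) (k := k) (by rw [Subgroup.orderOf_coe, hxord]) (hP₃.map _) ?_
      ⟨y, hy, rfl⟩ ?_ ?_ ?_ ?_
    · exact Subgroup.le_normalizer_map _ ⟨x, hxP, rfl⟩
    · rw [hcenmem, hπy']
      intro e; rw [e, orderOf_one] at hr; exact absurd hr (by norm_num)
    · rw [hcenmem, map_pow, hπy', ← hr, pow_orderOf_eq_one]
    · rintro _ ⟨z, hz, rfl⟩
      have hzD : π.subgroupComap D z ∈ (Subgroup.zpowers r).subgroupOf D := hπP.le ⟨z, hz, rfl⟩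
      obtain ⟨i, hi⟩ := mem_powers_iff_mem_zpowers.mpr (Subgroup.inv_mem _ (Subgroup.mem_subgroupOf.mp hzD))
      refine ⟨i, ?_⟩
      rw [hcenmem, map_mul, map_pow, hπy']
      show r ^ i * π z = 1
      have hi' : r ^ i = (π z)⁻¹ := hi
      rw [hi', inv_mul_cancel]
    · rw [hcenmem, map_mul, map_mul, map_mul, map_inv, hπx', hπy', hinv, inv_mul_cancel]
  -- odd `p`
  have hp3 : 2 ≤ p - 1 := by have := hp.out.two_le; omega
  have hsum : ∑ i ∈ Finset.range p, s ^ i = 0 := by
    have hE : (p : AddMonoid.End (Additive W)) = 0 :=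
      AddMonoidHom.ext fun v => (AddMonoid.End.natCast_apply p v).trans (hA v)
    have h1 := geom_sum_eq_sub_one_pow p 1 hE s
    rw [pow_one] at h1
    rw [h1]
    exact pow_eq_zero_of_le hp3 (by rw [pow_two, husq])
  obtain ⟨q, hq, R₀, hqp, hR₀, habR₀, hR₀c, -⟩ := exists_invariant_not_centralized hX hX0 ab ab
    ⟨1, by rw [pow_one]; exact orderOf_eq_prime habp hab1⟩ (Subgroup.mem_zpowers _) hab1
  obtain ⟨R, hRR₀, ⟨habR, hRc⟩, hRmin⟩ := Finite.exists_le_minimal
    (p := fun R : Subgroup _ => ab ∈ Subgroup.normalizer (R : Set _) ∧ ab ∉ Subgroup.centralizer (R : Set _))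
    (a := R₀) ⟨habR₀, hR₀c⟩
  have hRq : IsPGroup q R := hR₀.to_le hRR₀
  by_cases habel : ∀ a ∈ R, ∀ b ∈ R, a * b = b * a
  · refine sum_pow_ne_zero_of_abelian hA (conjEndQuot W) (conjEndQuot_injective W) ab 0
      (by rwa [zero_add, pow_one]) hqp R hRq habel habR (by rwa [pow_zero, pow_one]) ?_
    rw [zero_add, pow_one, hρ]
    exact hsum
  obtain ⟨hcl, hiff, -, hRY⟩ := minimal_structure hqp ab ab (Subgroup.mem_zpowers _) habp R hRq habR hRc
    (fun R' hR' hR'x => by
      by_contra h'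
      exact hR'.not_ge (hRmin ⟨hR'x, h'⟩ hR'.le)) habel
  push Not at habel
  obtain ⟨g₁, hg₁, g₂, hg₂, hg12⟩ := habel
  set c := ⁅g₁, g₂⁆ with hc
  have hcZ := hcl g₁ hg₁ g₂ hg₂
  have hc1 : c ≠ 1 := fun e => hg12 (commutatorElement_eq_one_iff_mul_comm.mp e)
  set cs := conjEndQuot W c with hcs
  obtain ⟨M, hM⟩ := hRq.exists_card_eq
  have hcN : cs ^ (q ^ M) = 1 := by
    rw [hcs, ← map_pow, ← hM,
      show c ^ Nat.card R = 1 from congrArg Subtype.val (pow_card_eq_one' : (⟨c, hcZ.1⟩ : R) ^ Nat.card R = 1),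
      map_one]
  have hcop : (q ^ M).Coprime p := ((Nat.coprime_primes hq.out hp.out).mpr hqp).pow_left M
  -- `a` moves something in the image of `c - 1`
  obtain ⟨v₁, hv₁⟩ : ∃ v, (s - 1) ((cs - 1) v) ≠ 0 := by
    by_contra hcon
    push Not at hcon
    apply hc1
    apply conjEndQuot_injective W
    rw [map_one]
    let Kr : Subgroup ((H ⧸ frattiniCore p H) ⧸ Subgroup.centralizer (W : Set (H ⧸ frattiniCore p H))) :=
      { carrier := {z | ∀ v, conjEndQuot W z ((cs - 1) v) = (cs - 1) v}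
        one_mem' := fun v => by rw [map_one]; rfl
        mul_mem' := fun {z z'} hz hz' v => by
          rw [map_mul]
          show conjEndQuot W z (conjEndQuot W z' _) = _
          rw [hz' v, hz v]
        inv_mem' := fun {z} hz v => by
          conv_lhs => rw [← hz v]
          show (conjEndQuot W z⁻¹ * conjEndQuot W z) _ = _
          rw [← map_mul, inv_mul_cancel, map_one]
          rfl }
    have hKr : R ≤ Kr := by
      rw [← hRY]
      refine Subgroup.commutator_le.mpr fun z hz b hb => ?_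
      have habKr : ab ∈ Kr := fun v => sub_eq_zero.mp (hcon v)
      have hbK : b ∈ Kr := (Subgroup.zpowers_le.mpr habKr) hb
      have hcz : ∀ y ∈ R, ∀ v, conjEndQuot W y ((cs - 1) v) = (cs - 1) (conjEndQuot W y v) := by
        intro y hy v
        show conjEndQuot W y (cs v - v) = cs (conjEndQuot W y v) - conjEndQuot W y v
        rw [map_sub]
        congr 1
        show (conjEndQuot W y * cs) v = (cs * conjEndQuot W y) v
        rw [hcs, ← map_mul, ← map_mul, hcZ.2 y hy]
      intro v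
      rw [commutatorElement_def, map_mul, map_mul, map_mul]
      show conjEndQuot W z (conjEndQuot W b (conjEndQuot W z⁻¹ (conjEndQuot W b⁻¹ ((cs - 1) v)))) = _
      rw [Kr.inv_mem hbK v, hcz _ (R.inv_mem hz) v, hbK _, ← hcz _ (R.inv_mem hz) v]
      show (conjEndQuot W z * conjEndQuot W z⁻¹) _ = _
      rw [← map_mul, mul_inv_cancel, map_one]
      rfl
    refine AddMonoidHom.ext fun v => sub_eq_zero.mp ?_
    exact sub_one_apply_eq_zero hA cs hcop hcN v (sub_eq_zero.mpr (hKr hcZ.1 v))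
  obtain ⟨k, hk⟩ := hrank ((cs - 1) v₁)
  have hk' : k • w₀ = (s - 1) ((cs - 1) v₁) := hk
  have hcomm2 : ∀ v, (s - 1) ((cs - 1) v) = (cs - 1) ((s - 1) v) := by
    intro v
    have e : ab * c = c * ab := (hiff c hcZ.1).mpr hcZ
    have e' : s * cs = cs * s := by rw [← hρ, hcs, ← map_mul, ← map_mul, e]
    show ((s - 1) * (cs - 1)) v = ((cs - 1) * (s - 1)) v
    rw [(show Commute s cs from e').sub_left (Commute.one_left cs) |>.sub_right (Commute.one_right _) |>.eq]
  -- so `c` moves `w₀`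
  have hmove : cs w₀ ≠ w₀ := by
    intro e
    apply hv₁
    rw [hcomm2]
    refine sub_one_apply_eq_zero hA cs hcop hcN _ ?_
    rw [← hcomm2 v₁, ← hk', map_zsmul]
    show k • (cs w₀ - w₀) = 0
    rw [e, sub_self, smul_zero]
  -- but `c` lifts to something centralizing `t` modulo `W`
  obtain ⟨ch, hch⟩ := QuotientGroup.mk'_surjective _ c
  have hchW : ch * t * ch⁻¹ * t⁻¹ ∈ W := by
    rw [← hcen]
    refine (QuotientGroup.eq_one_iff _).mp ?_
    rw [QuotientGroup.mk_mul, QuotientGroup.mk_mul, QuotientGroup.mk_mul, QuotientGroup.mk_inv,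
      QuotientGroup.mk_inv, show ((ch : _) : (H ⧸ frattiniCore p H) ⧸ Subgroup.centralizer (W : Set _)) = c from hch]
    show c * ab * c⁻¹ * ab⁻¹ = 1
    rw [← (hiff c hcZ.1).mpr hcZ, mul_inv_cancel_right, mul_inv_cancel]
  set w' := ch * t * ch⁻¹ * t⁻¹ with hw'
  have key : ∀ k : ℕ, (w' * t) ^ k =
      ((Additive.toMul ((∑ i ∈ Finset.range k, s ^ i) (Additive.ofMul (⟨w', hchW⟩ : W))) : W) :
        H ⧸ frattiniCore p H) * t ^ k := by
    intro k
    induction k with
    | zero => simp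
    | succ k ih =>
      have e : (∑ i ∈ Finset.range (k + 1), s ^ i) = 1 + s * ∑ i ∈ Finset.range k, s ^ i := by
        rw [Finset.sum_range_succ', pow_zero, Finset.mul_sum, add_comm]
        simp [pow_succ']
      rw [pow_succ', ih, e]
      set w := (∑ i ∈ Finset.range k, s ^ i) (Additive.ofMul (⟨w', hchW⟩ : W))
      show _ = ((Additive.toMul (Additive.ofMul (⟨w', hchW⟩ : W) + s w) : W) : H ⧸ frattiniCore p H) * t ^ (k + 1)
      rw [toMul_add, Subgroup.coe_mul, conjEnd_apply, pow_succ']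
      simp [mul_assoc]
  apply hmove
  refine Additive.toMul.injective (Subtype.ext ?_)
  rw [hcs, show conjEndQuot W c = conjEnd W ch by rw [← hch]; rfl, conjEnd_apply]
  show ch * f1 (a ^ p) * ch⁻¹ = f1 (a ^ p)
  rw [map_pow, ← ht]
  calc ch * t ^ p * ch⁻¹ = (w' * t) ^ p := by rw [← conj_pow, hw', inv_mul_cancel_right]
    _ = t ^ p := by rw [key, hsum]; simp

/-- Let G be a finite p-soluble group, P a Sylow p-subgroup of G and A a cyclic normal subgroup of P. If p is odd, or if no section of G is isomorphic to the symmetric group of degree 4, then A ≤ O_{p',p}(G). -/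
theorem result {G : Type*} [Group G] [Finite G] {p : ℕ} [Fact p.Prime] (hG : Cfsg.IsPSolvable p G) (P : Sylow p G) (A : Subgroup G) (hAP : A ≤ (P : Subgroup G)) (hAn : (P : Subgroup G) ≤ Subgroup.normalizer (A : Set G)) (hA : IsCyclic A) (h : p ≠ 2 ∨ ¬ Cfsg.Involves (Equiv.Perm (Fin 4)) G) : A ≤ Cfsg.pPrimePCore p G := by
  obtain ⟨⟨a, ha⟩⟩ := hA
  have hA' : A = Subgroup.zpowers (a : G) := by
    refine le_antisymm (fun x hx => ?_) (Subgroup.zpowers_le.mpr a.2)
    obtain ⟨n, hn⟩ := ha ⟨x, hx⟩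
    exact ⟨n, congrArg Subtype.val hn⟩
  have hπ := QuotientGroup.mk'_surjective (pPrimeCore p G)
  obtain ⟨P', hP'⟩ : ∃ P' : Sylow p (G ⧸ pPrimeCore p G),
      (P' : Subgroup _) = (P : Subgroup G).map (QuotientGroup.mk' (pPrimeCore p G)) :=
    ⟨P.mapSurjective hπ, Sylow.coe_mapSurjective hπ P⟩
  rw [hA'] at hAn hAP ⊢
  refine Subgroup.zpowers_le.mpr ?_
  show QuotientGroup.mk' (pPrimeCore p G) (a : G) ∈ pCore p (G ⧸ pPrimeCore p G)
  refine le_pCore_of_cyclic (isPSolvable_quotient hG _) pPrimeCore_quotient_eq_bot P' _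
    (hP'.ge ⟨a, hAP (Subgroup.mem_zpowers _), rfl⟩) ?_ ?_
  · rw [hP', ← MonoidHom.map_zpowers]
    exact (Subgroup.map_mono hAn).trans (Subgroup.le_normalizer_map _)
  · exact h.imp_right fun hn hi => hn (involves_of_surjective _ hπ hi)

end Cfsg.Agent.S3788
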