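import Cfsg.Statements.S3790
import Cfsg.Agent.Lib.HallHigman.PLength
import Cfsg.Agent.Lib.HallHigman.SolvableCores

set_option autoImplicit false
open Cfsg

namespace Cfsg.Agent.S3790

open CfsgLib.HallHigman CfsgLib.PCore

theorem bound (p : ℕ) [Fact p.Prime] (r : ℕ) (q : Fin r → ℕ) (hq : ∀ i, (q i).Prime ∧ q i ≠ p) (n : ℕ) :
    ∀ {G : Type*} [Group G] [Finite G] [Group.IsSolvable G], Nat.card G ≤ n →
      (∀ s : ℕ, s.Prime → s ∣ Nat.card G → s ≠ p → ∃ i, q i = s) → ∀ l : Fin r → ℕ,
      (∀ i, Cfsg.PLengthLE (q i) (l i) G) →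
      Cfsg.PLengthLE p (Finset.univ.prod fun i => 1 + l i) G ∧
        (Cfsg.pCore p G = ⊥ → Cfsg.PLengthLE p ((Finset.univ.prod fun i => 1 + l i) - 1) G) := by
  induction n using Nat.strong_induction_on with
  | _ n ih =>
    intro G _ _ _ hcard hcover l hl
    have hprod : 1 ≤ Finset.univ.prod fun i => 1 + l i := Finset.one_le_prod' fun i _ => by omega
    rcases subsingleton_or_nontrivial G with hs | hnt
    · have h : ∀ k, Cfsg.PLengthLE p k G := fun k => Subsingleton.elim _ _
      exact ⟨h _, fun _ => h _⟩
    have hsmall : ∀ N : Subgroup G, [N.Normal] → N ≠ ⊥ → Nat.card (G ⧸ N) < n := by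
      intro N _ hN
      refine lt_of_lt_of_le ?_ hcard
      have h1 : 1 < Nat.card N := Finite.one_lt_card_iff_nontrivial.mpr (N.nontrivial_iff_ne_bot.mpr hN)
      have h2 := Subgroup.card_eq_card_quotient_mul_card_subgroup N
      have h3 : 0 < Nat.card (G ⧸ N) := Nat.card_pos
      nlinarith
    have hcov : ∀ N : Subgroup G, [N.Normal] → ∀ s : ℕ, s.Prime → s ∣ Nat.card (G ⧸ N) → s ≠ p →
        ∃ i, q i = s := fun N _ s hs hd =>
      hcover s hs (hd.trans (Subgroup.card_quotient_dvd_card N))
    -- the case of trivial `O_p`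
    have part2 : Cfsg.pCore p G = ⊥ →
        Cfsg.PLengthLE p ((Finset.univ.prod fun i => 1 + l i) - 1) G := by
      intro h0
      by_cases hex : ∃ i, Cfsg.pPrimeCore (q i) G = ⊥
      · obtain ⟨i, hi⟩ := hex
        haveI := Fact.mk (hq i).1
        have hli : 1 ≤ l i := by
          by_contra hc
          have h1 := hl i
          rw [show l i = 0 by omega] at h1
          rw [pPrimeCore_eq_top_of_pLengthLE_zero h1] at hi
          exact top_ne_bot hi
        have hne := pCore_ne_bot_of_solvable (hq i).1 hi
        have hi' : Cfsg.PLengthLE (q i) (l i - 1) (G ⧸ Cfsg.pCore (q i) G) :=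
          pLengthLE_quotient_pCore hi (by rw [Nat.sub_add_cancel hli]; exact hl i)
        have hl' : ∀ j, Cfsg.PLengthLE (q j) (Function.update l i (l i - 1) j) (G ⧸ Cfsg.pCore (q i) G) := by
          intro j
          rcases eq_or_ne j i with rfl | hj
          · rw [Function.update_self]; exact hi'
          · rw [Function.update_of_ne hj]
            haveI := Fact.mk (hq j).1
            exact pLengthLE_quotient _ (hl j)
        have h1 := (ih _ (hsmall _ hne) le_rfl (hcov _) _ hl').1
        have hcop : (Nat.card (Cfsg.pCore (q i) G)).Coprime p := by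
          obtain ⟨k, hk⟩ := (pCore_isPGroup (p := q i) (G := G)).exists_card_eq
          rw [hk]
          exact Nat.Coprime.pow_left _ ((Nat.coprime_primes (hq i).1 Fact.out).mpr (hq i).2)
        refine pLengthLE_of_coprime_kernel _ hcop (pLengthLE_mono ?_ h1)
        rw [← Finset.mul_prod_erase _ _ (Finset.mem_univ i), ← Finset.mul_prod_erase _ _ (Finset.mem_univ i),
          Function.update_self, Finset.prod_congr rfl fun j hj => by
            rw [Function.update_of_ne (Finset.ne_of_mem_erase hj)]]
        have hP : 1 ≤ ∏ j ∈ Finset.univ.erase i, (1 + l j) := Finset.one_le_prod' fun j _ => by omega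
        rw [Nat.add_comm 1 (l i - 1), Nat.sub_add_cancel hli, add_mul, one_mul]
        omega
      · push Not at hex
        let M : Finset (Fin r) → Subgroup G := fun S => S.inf fun i => Cfsg.pPrimeCore (q i) G
        have key : ∀ S : Finset (Fin r), ∃ _ : (M S).Normal,
            Cfsg.PLengthLE p ((Finset.univ.prod fun i => 1 + l i) - 1) (G ⧸ M S) := by
          intro S
          induction S using Finset.induction with
          | empty =>
            have hM : M ∅ = ⊤ := rfl
            haveI : (M ∅).Normal := by rw [hM]; infer_instance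
            refine ⟨inferInstance, ?_⟩
            haveI : Subsingleton (G ⧸ M ∅) := by rw [hM]; exact QuotientGroup.subsingleton_quotient_top
            exact Subsingleton.elim _ _
          | @insert i S hiS ihS =>
            obtain ⟨hn, hS⟩ := ihS
            haveI := Fact.mk (hq i).1
            have hp0 : Cfsg.pCore p (G ⧸ Cfsg.pPrimeCore (q i) G) = ⊥ :=
              pCore_eq_bot_of_pPrimeCore_eq_bot (hq i).1 Fact.out (Ne.symm (hq i).2)
                pPrimeCore_quotient_pPrimeCore
            have hi := (ih _ (hsmall _ (hex i)) le_rfl (hcov _) l fun j => by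
              haveI := Fact.mk (hq j).1
              exact pLengthLE_quotient _ (hl j)).2 hp0
            have e : M (insert i S) = Cfsg.pPrimeCore (q i) G ⊓ M S := Finset.inf_insert
            haveI : (M (insert i S)).Normal := by rw [e]; infer_instance
            exact ⟨inferInstance, pLengthLE_of_equiv (QuotientGroup.quotientMulEquivOfEq e.symm)
              (pLengthLE_quotient_inf _ _ hi hS)⟩
        obtain ⟨hn, hu⟩ := key Finset.univ
        have hbot : M Finset.univ = ⊥ := by
          refine le_bot_iff.mp (h0 ▸ le_pCore hn ?_)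
          obtain ⟨k, hk⟩ : ∃ k, Nat.card (M Finset.univ) = p ^ k := by
            refine ⟨_, Nat.eq_prime_pow_of_unique_prime_dvd Nat.card_pos.ne' fun {d} hd hdd => ?_⟩
            by_contra hdp
            obtain ⟨i, rfl⟩ := hcover d hd (hdd.trans (Subgroup.card_subgroup_dvd_card _)) hdp
            haveI := Fact.mk (hq i).1
            exact not_dvd_card_pPrimeCore (hdd.trans (Subgroup.card_dvd_of_le
              (Finset.inf_le (f := fun i => Cfsg.pPrimeCore (q i) G) (Finset.mem_univ i))))
          exact IsPGroup.of_card hk
        exact pLengthLE_of_equiv ((QuotientGroup.quotientMulEquivOfEq hbot).trans QuotientGroup.quotientBot) hu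
    refine ⟨?_, part2⟩
    by_cases h0 : Cfsg.pCore p G = ⊥
    · exact pLengthLE_mono (Nat.sub_le _ _) (part2 h0)
    · have h1 := (ih _ (hsmall _ h0) le_rfl (hcov _) l fun j => by
        haveI := Fact.mk (hq j).1
        exact pLengthLE_quotient _ (hl j)).2 pCore_quotient_pCore
      have h2 := pLengthLE_succ_of_pGroup_kernel _ pCore_isPGroup h1
      rwa [Nat.sub_add_cancel hprod] at h2


/-- Let G be a finite solvable group and p a prime. Suppose p₁, …, p_r are distinct primes, all different from p, that include every prime dividing the order of G other than p, and that G has p_i-length at most l_i for each i. Then G has p-length at most the product of the numbers 1 + l_i. -/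
theorem result {G : Type*} [Group G] [Finite G] (hG : Group.IsSolvable G) (p : ℕ) [Fact p.Prime] (r : ℕ) (q : Fin r → ℕ) (hq : ∀ i, (q i).Prime ∧ q i ≠ p) (hinj : Function.Injective q) (hcover : ∀ s : ℕ, s.Prime → s ∣ Nat.card G → s ≠ p → ∃ i, q i = s) (l : Fin r → ℕ) (hl : ∀ i, Cfsg.PLengthLE (q i) (l i) G) : Cfsg.PLengthLE p (Finset.univ.prod fun i => 1 + l i) G := by
  haveI := hG
  exact (bound p r q hq (Nat.card G) le_rfl hcover l hl).1

end Cfsg.Agent.S3790
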