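import Cfsg.Statements.S3791
import Cfsg.Agent.Lib.HallHigman.PLength
import Cfsg.Agent.Lib.HallHigman.SolvableCores

set_option autoImplicit false
open Cfsg

namespace Cfsg.Agent.S3791

open CfsgLib.HallHigman CfsgLib.PCore

theorem derivedSeries_map {G H : Type*} [Group G] [Group H] (f : G →* H) (hf : Function.Surjective f) :
    ∀ n, (derivedSeries G n).map f = derivedSeries H n
  | 0 => by simpa using Subgroup.map_top_of_surjective f hf
  | n + 1 => by
    rw [derivedSeries_succ, derivedSeries_succ, Subgroup.map_commutator, derivedSeries_map f hf n]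

theorem derivedSeries_add_le {G : Type*} [Group G] (N : Subgroup G) (a : ℕ) (h : derivedSeries G a ≤ N) :
    ∀ b, derivedSeries G (a + b) ≤ (derivedSeries N b).map N.subtype
  | 0 => by simpa [← MonoidHom.range_eq_map] using h
  | b + 1 => by
    rw [← add_assoc, derivedSeries_succ, derivedSeries_succ, Subgroup.map_commutator]
    exact Subgroup.commutator_mono (derivedSeries_add_le N a h b) (derivedSeries_add_le N a h b)

theorem bound (r : ℕ) (q : Fin r → ℕ) (hq : ∀ i, (q i).Prime) (d : Fin r → ℕ) (n : ℕ) :
    ∀ {G : Type*} [Group G] [Finite G] [Group.IsSolvable G], Nat.card G ≤ n →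
      (∀ s : ℕ, s.Prime → s ∣ Nat.card G → ∃ i, q i = s) →
      (∀ i, haveI := Fact.mk (hq i); ∀ S : Sylow (q i) G, derivedSeries (S : Subgroup G) (d i) = ⊥) →
      ∀ l : Fin r → ℕ, (∀ i, Cfsg.PLengthLE (q i) (l i) G) →
      derivedSeries G (Finset.univ.sum fun i => d i * l i) = ⊥ := by
  induction n using Nat.strong_induction_on with
  | _ n ih =>
    intro G _ _ _ hcard hcover hd l hl
    rcases subsingleton_or_nontrivial G with hs | hnt
    · exact Subsingleton.elim _ _
    have hquot : ∀ N : Subgroup G, [N.Normal] → N ≠ ⊥ → ∀ l' : Fin r → ℕ,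
        (∀ i, Cfsg.PLengthLE (q i) (l' i) (G ⧸ N)) →
        derivedSeries G (Finset.univ.sum fun i => d i * l' i) ≤ N := by
      intro N _ hN l' hl'
      have hlt : Nat.card (G ⧸ N) < n := by
        refine lt_of_lt_of_le ?_ hcard
        have h1 : 1 < Nat.card N := Finite.one_lt_card_iff_nontrivial.mpr (N.nontrivial_iff_ne_bot.mpr hN)
        have h2 := Subgroup.card_eq_card_quotient_mul_card_subgroup N
        have h3 : 0 < Nat.card (G ⧸ N) := Nat.card_pos
        nlinarith
      have h1 := ih _ hlt (G := G ⧸ N) le_rfl
        (fun s hs hd' => hcover s hs (hd'.trans (Subgroup.card_quotient_dvd_card N))) (fun i => by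
          haveI := Fact.mk (hq i)
          intro S
          obtain ⟨T, hT⟩ := Sylow.mapSurjective_surjective (QuotientGroup.mk'_surjective N) (q i) S
          subst hT
          show derivedSeries ((T : Subgroup G).map (QuotientGroup.mk' N)) (d i) = ⊥
          rw [← derivedSeries_map ((QuotientGroup.mk' N).subgroupMap (T : Subgroup G))
            (MonoidHom.subgroupMap_surjective _ _), hd i T, Subgroup.map_bot]) l' hl'
      rw [← derivedSeries_map (QuotientGroup.mk' N) (QuotientGroup.mk'_surjective N),
        Subgroup.map_eq_bot_iff, QuotientGroup.ker_mk'] at h1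
      exact h1
    obtain ⟨s, hs, hsd, hsne⟩ := CfsgLib.Fitting.exists_pCore_ne_bot (G := G)
    obtain ⟨i, rfl⟩ := hcover s hs hsd
    haveI := Fact.mk (hq i)
    by_cases h0 : Cfsg.pPrimeCore (q i) G = ⊥
    · have hli : 1 ≤ l i := by
        by_contra hc
        have h1 := hl i
        rw [show l i = 0 by omega] at h1
        rw [pPrimeCore_eq_top_of_pLengthLE_zero h1] at h0
        exact top_ne_bot h0
      have hl' : ∀ j, Cfsg.PLengthLE (q j) (Function.update l i (l i - 1) j) (G ⧸ Cfsg.pCore (q i) G) := by
        intro j
        rcases eq_or_ne j i with rfl | hj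
        · rw [Function.update_self]
          exact pLengthLE_quotient_pCore h0 (by rw [Nat.sub_add_cancel hli]; exact hl j)
        · rw [Function.update_of_ne hj]
          haveI := Fact.mk (hq j)
          exact pLengthLE_quotient _ (hl j)
      have h1 := derivedSeries_add_le _ _ (hquot _ hsne _ hl') (d i)
      have e : (Finset.univ.sum fun j => d j * Function.update l i (l i - 1) j) + d i =
          Finset.univ.sum fun j => d j * l j := by
        rw [← Finset.add_sum_erase _ _ (Finset.mem_univ i), ← Finset.add_sum_erase _ _ (Finset.mem_univ i),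
          Function.update_self, Finset.sum_congr rfl fun j hj => by
            rw [Function.update_of_ne (Finset.ne_of_mem_erase hj)]]
        conv_rhs => rw [← Nat.sub_add_cancel hli, mul_add, mul_one]
        omega
      rw [e] at h1
      obtain ⟨S⟩ : Nonempty (Sylow (q i) G) := inferInstance
      have hle : Cfsg.pCore (q i) G ≤ (S : Subgroup G) := pCore_le_sylow S
      have hds : derivedSeries (Cfsg.pCore (q i) G) (d i) = ⊥ := by
        have h2 := map_derivedSeries_le_derivedSeries (Subgroup.inclusion hle) (d i)
        rw [hd i S, le_bot_iff, Subgroup.map_eq_bot_iff_of_injective _ (Subgroup.inclusion_injective hle)] at h2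
        exact h2
      rw [hds, Subgroup.map_bot, le_bot_iff] at h1
      exact h1
    · have h1 := hquot _ hsne l fun j => by haveI := Fact.mk (hq j); exact pLengthLE_quotient _ (hl j)
      have h2 := hquot _ h0 l fun j => by haveI := Fact.mk (hq j); exact pLengthLE_quotient _ (hl j)
      exact le_bot_iff.mp ((le_inf h1 h2).trans pCore_inf_pPrimeCore.le)


/-- The Hall–Higman bound on derived length: let G be a finite solvable group, let p₁, …, p_r be distinct primes that include every prime dividing the order of G, and suppose that for each i the Sylow p_i-subgroups of G have derived length at most d_i and G has p_i-length at most l_i. Then G has derived length at most Σ d_i l_i. -/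
theorem result {G : Type*} [Group G] [Finite G] (hG : Group.IsSolvable G) (r : ℕ) (q : Fin r → ℕ) (hq : ∀ i, (q i).Prime) (hinj : Function.Injective q) (hcover : ∀ s : ℕ, s.Prime → s ∣ Nat.card G → ∃ i, q i = s) (d l : Fin r → ℕ) (hd : ∀ i, ∀ P : Subgroup G, (haveI := Fact.mk (hq i); ∃ S : Sylow (q i) G, (S : Subgroup G) = P) → derivedSeries ↥P (d i) = ⊥) (hl : ∀ i, Cfsg.PLengthLE (q i) (l i) G) : derivedSeries G (Finset.univ.sum fun i => d i * l i) = ⊥ := by
  haveI := hG
  refine bound r q hq d (Nat.card G) le_rfl hcover (fun i => ?_) l hl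
  haveI := Fact.mk (hq i)
  intro S
  exact hd i S ⟨S, rfl⟩

end Cfsg.Agent.S3791
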