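import Cfsg.Statements.S3797
import Cfsg.Agent.Lib.TwoGroups.InvolutionsConjugateMain

set_option autoImplicit false
open Cfsg

namespace Cfsg.Agent.S3797

open CfsgLib in
/-- A finite abelian 2-group with automorphisms transitive on involutions is homocyclic. -/
theorem homocyclic {A : Type*} [CommGroup A] [Finite A] (hA : IsPGroup 2 A)
    (htr : ∀ x y : A, x ≠ 1 → x ^ 2 = 1 → y ≠ 1 → y ^ 2 = 1 → ∃ a : MulAut A, a x = y) :
    ∃ m r : ℕ, Nonempty (A ≃* (Fin r → Multiplicative (ZMod (2 ^ m)))) := by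
  classical
  haveI : Fact (Nat.Prime 2) := ⟨Nat.prime_two⟩
  obtain ⟨ι, _, n, hn1, ⟨e⟩⟩ := CommGroup.equiv_prod_multiplicative_zmod_of_finite A
  have hB : IsPGroup 2 ((i : ι) → Multiplicative (ZMod (n i))) := hA.of_equiv e
  let gen : (i : ι) → ((j : ι) → Multiplicative (ZMod (n j))) := fun i =>
    Pi.mulSingle i (Multiplicative.ofAdd 1)
  have hord : ∀ i, orderOf (gen i) = n i := fun i => by
    show orderOf ((MonoidHom.mulSingle (fun j => Multiplicative (ZMod (n j))) i)
      (Multiplicative.ofAdd 1)) = n i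
    rw [orderOf_injective _ (Pi.mulSingle_injective (M := fun j => Multiplicative (ZMod (n j))) i),
      orderOf_ofAdd_eq_addOrderOf, ZMod.addOrderOf_one]
  have hpow : ∀ i, ∃ k, n i = 2 ^ (k + 1) := by
    intro i
    obtain ⟨k, hk⟩ := IsPGroup.iff_orderOf.1 hB (gen i)
    rw [hord] at hk
    rcases k with _ | k
    · have := hn1 i; rw [hk] at this; norm_num at this
    · exact ⟨k, hk⟩
  choose k hk using hpow
  let v : (i : ι) → ((j : ι) → Multiplicative (ZMod (n j))) := fun i => gen i ^ 2 ^ k i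
  have hv1 : ∀ i, v i ≠ 1 := fun i h => by
    have h2 := Nat.le_of_dvd (by positivity) (orderOf_dvd_of_pow_eq_one h)
    rw [hord, hk, pow_succ] at h2
    have : 0 < 2 ^ k i := by positivity
    omega
  have hv2 : ∀ i, v i ^ 2 = 1 := fun i => by
    show (gen i ^ 2 ^ k i) ^ 2 = 1
    rw [← pow_mul, ← pow_succ, ← hk, ← hord, pow_orderOf_eq_one]
  have hle : ∀ i j, k i ≤ k j := by
    intro i j
    obtain ⟨a, ha⟩ := htr (e.symm (v i)) (e.symm (v j))
      (by simpa using hv1 i) (by rw [← map_pow, hv2, map_one])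
      (by simpa using hv1 j) (by rw [← map_pow, hv2, map_one])
    let x := e (a (e.symm (gen i)))
    have hx : x ^ 2 ^ k i = v j := by
      show e (a (e.symm (gen i))) ^ 2 ^ k i = v j
      rw [← map_pow, ← map_pow, ← map_pow]
      show e (a (e.symm (v i))) = v j
      rw [ha, MulEquiv.apply_symm_apply]
    have hxj : (x j) ^ 2 ^ k i ≠ 1 := by
      rw [← Pi.pow_apply, hx]
      intro h
      refine hv1 j (funext fun l => ?_)
      rcases eq_or_ne l j with rfl | hl
      · exact h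
      · simp [v, gen, Pi.mulSingle_eq_of_ne hl]
    by_contra hlt
    refine hxj ?_
    haveI : NeZero (n j) := ⟨by have := hn1 j; omega⟩
    have h1 : x j ^ n j = 1 := by
      have h := pow_card_eq_one' (G := Multiplicative (ZMod (n j))) (x := x j)
      rwa [Nat.card_congr Multiplicative.toAdd, Nat.card_zmod] at h
    obtain ⟨d, hd⟩ : n j ∣ 2 ^ k i := hk j ▸ pow_dvd_pow 2 (by omega)
    rw [hd, pow_mul, h1, one_pow]
  rcases isEmpty_or_nonempty ι with hι | ⟨⟨i0⟩⟩
  · refine ⟨0, 0, ⟨e.trans ?_⟩⟩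
    exact MulEquiv.ofUnique
  have heq : n = fun _ => 2 ^ (k i0 + 1) := funext fun i => by
    rw [hk, le_antisymm (hle i i0) (hle i0 i)]
  subst heq
  exact ⟨k i0 + 1, Fintype.card ι, ⟨e.trans (MulEquiv.arrowCongr (Fintype.equivFin ι) (MulEquiv.refl _))⟩⟩

/-- Let G be a finite solvable group of even order whose Sylow 2-subgroups contain more than one involution, and suppose all involutions of G are conjugate. Then G has 2-length at most 1, and a Sylow 2-subgroup S of G is either homocyclic (a direct product of cyclic groups of one common order) or a non-abelian 2-group with more than one involution admitting a solvable group of automorphisms transitive on its involutions. -/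
theorem result {G : Type*} [Group G] [Finite G] (hG : Group.IsSolvable G) (heven : Even (Nat.card G)) (S : Sylow 2 G) (htwo : ∃ x y : G, x ∈ (S : Subgroup G) ∧ y ∈ (S : Subgroup G) ∧ x ≠ y ∧ x ≠ 1 ∧ x ^ 2 = 1 ∧ y ≠ 1 ∧ y ^ 2 = 1) (hconj : ∀ x y : G, x ≠ 1 → x ^ 2 = 1 → y ≠ 1 → y ^ 2 = 1 → IsConj x y) : Cfsg.PLengthLE 2 1 G ∧ ((∃ m r : ℕ, Nonempty (↥(S : Subgroup G) ≃* (Fin r → Multiplicative (ZMod (2 ^ m))))) ∨ (¬ IsMulCommutative (S : Subgroup G) ∧ ∃ Y : Subgroup (MulAut ↥(S : Subgroup G)), Group.IsSolvable Y ∧ ∀ x y : ↥(S : Subgroup G), x ≠ 1 → x ^ 2 = 1 → y ≠ 1 → y ^ 2 = 1 → ∃ a ∈ Y, a x = y)) := by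
  haveI : Fact (Nat.Prime 2) := ⟨Nat.prime_two⟩
  haveI := hG
  have hsq : ∀ z : G, z ^ 2 = z * z := fun z => pow_two z
  obtain ⟨x, y, hxS, hyS, hxy, hx1, hx2, hy1, hy2⟩ := htwo
  -- two commuting involutions
  have hH : CfsgLib.InvolutionsConjugate.Hyp G := by
    refine ⟨?_, fun a b ha1 ha hb1 hb => hconj a b ha1 (by rw [hsq, ha]) hb1 (by rw [hsq, hb])⟩
    haveI : Nontrivial (S : Subgroup G) := ⟨⟨⟨x, hxS⟩, 1, fun h => hx1 (congrArg Subtype.val h)⟩⟩
    have hS := S.2
    haveI := hS.center_nontrivial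
    obtain ⟨c, hc⟩ := exists_prime_orderOf_dvd_card' 2
      ((IsPGroup.card_eq_or_dvd (hS.to_subgroup (Subgroup.center (S : Subgroup G)))).resolve_left
        fun h => not_subsingleton (Subgroup.center (S : Subgroup G)) (Nat.card_eq_one_iff_unique.1 h).1)
    rw [← Subgroup.orderOf_coe, ← Subgroup.orderOf_coe] at hc
    have hc2 : ((c : (S : Subgroup G)) : G) * ((c : (S : Subgroup G)) : G) = 1 := by
      rw [← pow_two]
      exact orderOf_dvd_iff_pow_eq_one.1 (dvd_of_eq hc)
    have hc1 : ((c : (S : Subgroup G)) : G) ≠ 1 := fun h => by rw [h, orderOf_one] at hc; norm_num at hc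
    have hcc : ∀ z ∈ (S : Subgroup G), z * ((c : (S : Subgroup G)) : G) = c * z := fun z hz =>
      congrArg Subtype.val (Subgroup.mem_center_iff.mp c.2 ⟨z, hz⟩)
    by_cases hxc : x = ((c : (S : Subgroup G)) : G)
    · refine ⟨_, y, hc1, hc2, hy1, by rw [← hsq, hy2], ?_, (hcc y hyS).symm⟩
      rw [← hxc]; exact hxy
    · exact ⟨x, _, hx1, by rw [← hsq, hx2], hc1, hc2, hxc, hcc x hxS⟩
  refine ⟨CfsgLib.InvolutionsConjugate.pLengthLE_one hG hH, ?_⟩
  -- the automorphisms induced on `S`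
  set N := pPrimeCore 2 G with hN
  have hidx := CfsgLib.InvolutionsConjugate.pCore_index_odd _ (G ⧸ N) rfl inferInstance
    CfsgLib.PCore.pPrimeCore_quotient_pPrimeCore
    (CfsgLib.InvolutionsConjugate.hyp_quotient CfsgLib.InvolutionsConjugate.odd_pPrimeCore hH)
  set Pb := pCore 2 (G ⧸ N) with hPb
  let f : (S : Subgroup G) →* G ⧸ N := (QuotientGroup.mk' N).comp (S : Subgroup G).subtype
  have hinj : Function.Injective f := by
    rw [← MonoidHom.ker_eq_bot_iff, Subgroup.eq_bot_iff_forall]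
    intro s hs
    have hsN : (s : G) ∈ N := (QuotientGroup.eq_one_iff (s : G)).1 hs
    obtain ⟨j, hj⟩ := S.2.exists_card_eq
    have h1 : (S : Subgroup G) ⊓ N = ⊥ := Subgroup.inf_eq_bot_of_coprime (by
      rw [hj]; exact Nat.Coprime.pow_left _ CfsgLib.PCore.pPrimeCore_coprime.symm)
    exact Subtype.ext (Subgroup.mem_bot.mp (h1 ▸ (⟨s.2, hsN⟩ : (s : G) ∈ (S : Subgroup G) ⊓ N)))
  have hrange : f.range = Pb := by
    let T := S.mapSurjective (QuotientGroup.mk'_surjective N)
    have hfr : f.range = (T : Subgroup (G ⧸ N)) := by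
      rw [MonoidHom.range_comp, Subgroup.range_subtype]; rfl
    rw [hfr]
    refine le_antisymm ?_ (CfsgLib.PCore.pCore_le_sylow T)
    intro q hq
    obtain ⟨k, hk⟩ := IsPGroup.iff_orderOf.1 T.2 ⟨q, hq⟩
    rw [Subgroup.orderOf_mk] at hk
    rw [← QuotientGroup.eq_one_iff, ← orderOf_eq_one_iff]
    have h1 : orderOf (q : (G ⧸ N) ⧸ Pb) ∣ 2 ^ k := hk ▸ orderOf_map_dvd (QuotientGroup.mk' Pb) q
    have h2 : orderOf (q : (G ⧸ N) ⧸ Pb) ∣ Pb.index := orderOf_dvd_natCard _
    exact Nat.eq_one_of_dvd_coprimes (Nat.Coprime.pow_right k hidx) h2 h1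
  let e : (S : Subgroup G) ≃* Pb :=
    (MonoidHom.ofInjective hinj).trans (MulEquiv.subgroupCongr hrange)
  have he : ∀ s, ((e s : Pb) : G ⧸ N) = ((s : G) : G ⧸ N) := fun s => rfl
  let φ : (G ⧸ N) →* MulAut (S : Subgroup G) :=
    (MulAut.congr e.symm).toMonoidHom.comp (MulAut.conjNormal (H := Pb))
  have hsolY : Group.IsSolvable φ.range := Group.isSolvable_of_surjective φ.rangeRestrict_surjective
  have htrans : ∀ a b : ↥(S : Subgroup G), a ≠ 1 → a ^ 2 = 1 → b ≠ 1 → b ^ 2 = 1 →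
      ∃ c ∈ φ.range, c a = b := by
    intro a b ha1 ha hb1 hb
    obtain ⟨g, hg⟩ := isConj_iff.1 (hconj a b (fun h => ha1 (Subtype.ext h))
      (by simpa using congrArg Subtype.val ha) (fun h => hb1 (Subtype.ext h))
      (by simpa using congrArg Subtype.val hb))
    refine ⟨φ g, ⟨_, rfl⟩, ?_⟩
    show e.symm (MulAut.conjNormal (g : G ⧸ N) (e a)) = b
    rw [MulEquiv.symm_apply_eq]
    refine Subtype.ext ?_
    rw [MulAut.conjNormal_apply, he, he, ← hg]
    rfl
  by_cases hab : IsMulCommutative (S : Subgroup G)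
  · left
    letI : CommGroup (S : Subgroup G) :=
      { (inferInstance : Group (S : Subgroup G)) with mul_comm := fun a b => mul_comm' a b }
    exact homocyclic S.2 fun a b ha1 ha hb1 hb => by
      obtain ⟨c, -, hc⟩ := htrans a b ha1 ha hb1 hb
      exact ⟨c, hc⟩
  · exact Or.inr ⟨hab, φ.range, hsolY, htrans⟩

end Cfsg.Agent.S3797
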