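import Cfsg.Statements.S3798
import Cfsg.Agent.Lib.PCore.PSolvable
import Cfsg.Agent.Lib.Coprime.SchurZassenhaus
import Cfsg.Agent.Lib.OddOrder41.FixOmega
import Cfsg.Agent.Lib.ModuleTrick.Invariant

set_option autoImplicit false
open Cfsg

namespace Cfsg.Agent.S3798

/-- A characteristic subgroup with nontrivial `p`-part contains every element of order `p`. -/
theorem mem_of_transitive {H : Type*} [Group H] [Finite H] {p : ℕ} [Fact p.Prime]
    (htrans : ∀ U W : Subgroup H, Nat.card U = p → Nat.card W = p → ∃ a : MulAut H, U.map a.toMonoidHom = W)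
    (C : Subgroup H) (hC : ∀ a : MulAut H, ∀ x ∈ C, a x ∈ C) (hdvd : p ∣ Nat.card C) {z : H}
    (hz : z ^ p = 1) : z ∈ C := by
  rcases eq_or_ne z 1 with rfl | hz1
  · exact C.one_mem
  obtain ⟨c, hc⟩ := exists_prime_orderOf_dvd_card' p hdvd
  obtain ⟨a, ha⟩ := htrans (Subgroup.zpowers (c : H)) (Subgroup.zpowers z)
    (by rw [Nat.card_zpowers, Subgroup.orderOf_coe, hc])
    (by rw [Nat.card_zpowers, orderOf_eq_prime hz hz1])
  have h1 := ha.ge (Subgroup.mem_zpowers z)
  obtain ⟨w, hw, rfl⟩ := h1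
  exact hC a w ((Subgroup.zpowers_le.mpr c.2) hw)

/-- The case of trivial `O_{p'}`. -/
theorem index_pCore_coprime {H : Type*} [Group H] [Finite H] {p : ℕ} [hp : Fact p.Prime] (hp2 : p ≠ 2)
    (hH : Cfsg.IsPSolvable p H) (h0 : Cfsg.pPrimeCore p H = ⊥)
    (htrans : ∀ U W : Subgroup H, Nat.card U = p → Nat.card W = p → ∃ a : MulAut H, U.map a.toMonoidHom = W) :
    (Cfsg.pCore p H).index.Coprime p := by
  set V := Cfsg.pCore p H with hVdef
  have hVn : V.Normal := inferInstance
  by_contra hcon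
  have hdvd : p ∣ V.index := by
    by_contra h
    exact hcon ((hp.out.coprime_iff_not_dvd.mpr h).symm)
  have hVp : IsPGroup p V := CfsgLib.PCore.pCore_isPGroup
  have hne : Nontrivial H := by
    rcases subsingleton_or_nontrivial H with h | h
    · rw [Subgroup.index_eq_one.mpr (Subsingleton.elim V ⊤)] at hdvd
      exact absurd (Nat.dvd_one.mp hdvd) hp.out.ne_one
    · exact h
  have hV1 : V ≠ ⊥ := CfsgLib.PCore.pCore_ne_bot hH h0
  have hVchar : ∀ a : MulAut H, ∀ x ∈ V, a x ∈ V := fun a x hx =>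
    (CfsgLib.PCore.map_pCore_equiv (p := p) a).le ⟨x, hx, rfl⟩
  have hcV : ¬ Nat.card V = 1 := fun h => hV1 (Subgroup.card_eq_one.mp h)
  have hordV : ∀ z : H, z ^ p = 1 → z ∈ V := fun z hz =>
    mem_of_transitive htrans V hVchar ((IsPGroup.card_eq_or_dvd hVp).resolve_left hcV) hz
  -- the centre of V
  let Z : Subgroup H := V ⊓ Subgroup.centralizer (V : Set H)
  have hZchar : ∀ a : MulAut H, ∀ x ∈ Z, a x ∈ Z := by
    rintro a x ⟨hx, hxc⟩
    refine ⟨hVchar a x hx, fun v hv => ?_⟩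
    have h1 := congrArg a (hxc (a.symm v) (hVchar a.symm v hv))
    simpa using h1
  have hZdvd : p ∣ Nat.card Z := by
    refine (IsPGroup.card_eq_or_dvd (hVp.to_inf_left (K := Subgroup.centralizer (V : Set H)))).resolve_left ?_
    intro h
    haveI : Nontrivial V := V.nontrivial_iff_ne_bot.mpr hV1
    haveI := hVp.center_nontrivial
    obtain ⟨⟨z, hz⟩, hz1⟩ := exists_ne (1 : Subgroup.center V)
    apply hz1
    have h1 : (z : H) ∈ V ⊓ Subgroup.centralizer (V : Set H) := ⟨z.2, fun v hv => congrArg Subtype.val (Subgroup.mem_center_iff.mp hz ⟨v, hv⟩)⟩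
    rw [Subgroup.card_eq_one.mp h, Subgroup.mem_bot] at h1
    exact Subtype.ext (Subtype.ext h1)
  have hordZ : ∀ z : H, z ^ p = 1 → z ∈ Z := fun z hz => mem_of_transitive htrans Z hZchar hZdvd hz
  -- the next term of the upper series
  let M : Subgroup H := (Cfsg.pPrimeCore p (H ⧸ V)).comap (QuotientGroup.mk' V)
  have hMn : M.Normal := by
    refine Subgroup.Normal.comap ?_ _
    infer_instance
  have hVM : V ≤ M := fun x hx => by
    show QuotientGroup.mk' V x ∈ Cfsg.pPrimeCore p (H ⧸ V)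
    rw [show QuotientGroup.mk' V x = 1 from (QuotientGroup.eq_one_iff x).mpr hx]
    exact one_mem _
  have hrel : (V.relIndex M).Coprime p := by
    rw [← CfsgLib.PCore.card_map_mk',
      Subgroup.map_comap_eq_self_of_surjective (QuotientGroup.mk'_surjective _)]
    exact CfsgLib.PCore.pPrimeCore_coprime
  have hMchar : ∀ a : MulAut H, ∀ x ∈ M, a x ∈ M := by
    intro a x hx
    have hn : ((M.map a.toMonoidHom).map (QuotientGroup.mk' V)).Normal :=
      (hMn.map _ (MulEquiv.surjective a)).map _ (QuotientGroup.mk'_surjective V)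
    refine CfsgLib.PCore.le_pPrimeCore hn ?_ ⟨a x, ⟨x, hx, rfl⟩, rfl⟩
    rw [CfsgLib.PCore.card_map_mk']
    have he : V.map a.toMonoidHom = V := CfsgLib.PCore.map_pCore_equiv a
    rw [← he, Subgroup.relIndex_map_map_of_injective _ _ (MulEquiv.injective a)]
    exact hrel
  -- a complement K to V in M
  have hcop : (Nat.card (V.subgroupOf M)).Coprime (V.subgroupOf M).index := by
    obtain ⟨k, hk⟩ := (hVp.comap_subtype (K := M)).exists_card_eq
    rw [show Nat.card (V.subgroupOf M) = p ^ k from hk]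
    exact Nat.Coprime.pow_left _ hrel.symm
  obtain ⟨K₀, hK₀⟩ := Subgroup.exists_right_complement'_of_coprime (N := V.subgroupOf M) hcop
  let K : Subgroup H := K₀.map M.subtype
  have hKM : K ≤ M := Subgroup.map_subtype_le _
  have hK₀card : Nat.card K₀ = (V.subgroupOf M).index := hK₀.symm.index_eq_card.symm
  have hKcard : Nat.card K = V.relIndex M := by
    rw [Subgroup.card_map_of_injective M.subtype_injective, hK₀card]; rfl
  have hKV : ∀ x ∈ K, x ∈ V → x = 1 := by
    intro x hx hxV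
    obtain ⟨k, hk⟩ := hVp.exists_card_eq
    have h1 : V ⊓ K = ⊥ := Subgroup.inf_eq_bot_of_coprime (by
      rw [hk, hKcard]; exact Nat.Coprime.pow_left _ hrel.symm)
    exact Subgroup.mem_bot.mp (h1 ▸ (⟨hxV, hx⟩ : x ∈ V ⊓ K))
  have hMK : ∀ m ∈ M, ∃ v ∈ V, ∃ k ∈ K, m = v * k := by
    intro m hm
    obtain ⟨⟨⟨v, hv⟩, ⟨k, hk⟩⟩, e⟩ := hK₀.2 (⟨m, hm⟩ : M)
    exact ⟨v, hv, k, ⟨k, hk, rfl⟩, (congrArg Subtype.val e).symm⟩
  have hK1 : K ≠ ⊥ := by
    intro e
    rw [e, Subgroup.card_bot] at hKcard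
    have hMV : M ≤ V := Subgroup.relIndex_eq_one.mp hKcard.symm
    have hb : Cfsg.pPrimeCore p (H ⧸ V) = ⊥ := by
      rw [← Subgroup.map_comap_eq_self_of_surjective (QuotientGroup.mk'_surjective V)
        (Cfsg.pPrimeCore p (H ⧸ V)), Subgroup.map_eq_bot_iff, QuotientGroup.ker_mk']
      exact hMV
    have hp0 : Cfsg.pCore p (H ⧸ V) = ⊥ := CfsgLib.PCore.pCore_quotient_pCore
    rcases subsingleton_or_nontrivial (H ⧸ V) with hs | hs
    · rw [Subgroup.index_eq_card, Nat.card_eq_one_iff_unique.mpr ⟨hs, inferInstance⟩] at hdvd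
      exact hp.out.ne_one (Nat.dvd_one.mp hdvd)
    · rcases CfsgLib.PCore.pCore_ne_bot_or_pPrimeCore_ne_bot
        (CfsgLib.PCore.isPSolvable_quotient hH V) with h | h
      · exact h hp0
      · exact h hb
  -- no element of order p of V centralizes M
  let C0 : Subgroup H := Z ⊓ Subgroup.centralizer (M : Set H)
  have hC0 : C0 = ⊥ := by
    by_contra hC0
    have hC0char : ∀ a : MulAut H, ∀ x ∈ C0, a x ∈ C0 := by
      rintro a x ⟨hx, hxc⟩
      refine ⟨hZchar a x hx, fun m hm => ?_⟩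
      have h1 := congrArg a (hxc (a.symm m) (hMchar a.symm m hm))
      simpa using h1
    have hall : ∀ z : H, z ^ p = 1 → z ∈ C0 := fun z hz => mem_of_transitive htrans C0 hC0char
      ((IsPGroup.card_eq_or_dvd ((hVp.to_inf_left (K := Subgroup.centralizer (V : Set H))).to_inf_left
        (K := Subgroup.centralizer (M : Set H)))).resolve_left
        fun h => hC0 (Subgroup.card_eq_one.mp h)) hz
    obtain ⟨x, hx, hx1⟩ := K.bot_or_exists_ne_one.resolve_left hK1
    apply hx1
    refine hKV x hx (CfsgLib.PCore.centralizer_pCore_le hH h0 ?_)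
    have hcopx : (orderOf x).Coprime p :=
      Nat.Coprime.coprime_dvd_left (by simpa using orderOf_dvd_natCard (⟨x, hx⟩ : K)) (hKcard ▸ hrel)
    intro v hv
    exact (CfsgLib.OddOrder41.fixes_of_fixes_exponent_p hp2 x hcopx _ V rfl hVp
      (fun y hy => hVn.conj_mem y hy x) (fun y _ hyp => (hall y hyp).2 x (hKM hx)) v hv).symm
  have hCVK : ∀ v ∈ V, (∀ k ∈ K, k * v = v * k) → v = 1 := by
    intro v hv hvk
    by_contra hv1
    obtain ⟨n, hn⟩ := IsPGroup.iff_orderOf.mp hVp ⟨v, hv⟩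
    rw [Subgroup.orderOf_mk] at hn
    have hn0 : n ≠ 0 := by
      rintro rfl
      rw [pow_zero, orderOf_eq_one_iff] at hn
      exact hv1 hn
    obtain ⟨n, rfl⟩ := Nat.exists_eq_succ_of_ne_zero hn0
    let w := v ^ p ^ n
    have hw : w ^ p = 1 := by
      show (v ^ p ^ n) ^ p = 1
      rw [← pow_mul, ← pow_succ, ← hn, pow_orderOf_eq_one]
    have hw0 : w ∈ C0 := by
      refine ⟨hordZ w hw, fun m hm => ?_⟩
      obtain ⟨a, ha, k, hk, rfl⟩ := hMK m hm
      have h1 : a * w = w * a := (hordZ w hw).2 a ha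
      have h2 : k * w = w * k := ((show Commute k v from hvk k hk).pow_right _).eq
      rw [mul_assoc, h2, ← mul_assoc, h1, mul_assoc]
    rw [hC0, Subgroup.mem_bot] at hw0
    have h1 := orderOf_dvd_of_pow_eq_one hw0
    rw [hn] at h1
    exact absurd (Nat.le_of_dvd (pow_pos hp.out.pos n) h1)
      (not_le.mpr (Nat.pow_lt_pow_succ hp.out.one_lt))
  -- Frattini argument
  obtain ⟨q, hq⟩ := exists_prime_orderOf_dvd_card' p (Subgroup.index_eq_card V ▸ hdvd)
  obtain ⟨g, rfl⟩ := QuotientGroup.mk'_surjective V q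
  have hg' : ∃ v ∈ V, ∀ k ∈ K, (v * g) * k * (v * g)⁻¹ ∈ K := by
    let K' : Subgroup H := K.map (MulAut.conj g).toMonoidHom
    have hK'M : K' ≤ M := by
      rintro _ ⟨k, hk, rfl⟩
      exact hMn.conj_mem k (hKM hk) g
    have hK'card : Nat.card (K'.subgroupOf M) = (V.subgroupOf M).index := by
      rw [Nat.card_congr (Subgroup.subgroupOfEquivOfLe hK'M).toEquiv,
        Subgroup.card_map_of_injective (MulEquiv.injective _), hKcard]
      rfl
    haveI : Group.IsNilpotent (V.subgroupOf M) := (hVp.comap_subtype (K := M)).isNilpotent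
    obtain ⟨v, hv, he⟩ := CfsgLib.Coprime.conj_complement_of_card (V.subgroupOf M) hcop
      (Or.inl inferInstance) (K'.subgroupOf M) K₀ hK'card hK₀card
    refine ⟨v, hv, fun k hk => ?_⟩
    have h1 : (⟨g * k * g⁻¹, hMn.conj_mem k (hKM hk) g⟩ : M) ∈ K'.subgroupOf M := ⟨k, hk, rfl⟩
    have h2 := he.le (Subgroup.smul_mem_pointwise_smul _ (MulAut.conj v) _ h1)
    refine ⟨_, h2, ?_⟩
    simp [MulAut.smul_def, mul_assoc]
  obtain ⟨v, hv, hvg⟩ := hg'
  have hmk : QuotientGroup.mk' V (v * g) = QuotientGroup.mk' V g := by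
    rw [map_mul, show QuotientGroup.mk' V v = 1 from (QuotientGroup.eq_one_iff v).mpr hv, one_mul]
  have hxp : (v * g) ^ p ∈ V := by
    rw [← QuotientGroup.eq_one_iff, ← QuotientGroup.mk'_apply, map_pow, hmk, ← hq, pow_orderOf_eq_one]
  have hxnorm : ∀ n : ℕ, ∀ k ∈ K, (v * g) ^ n * k * ((v * g) ^ n)⁻¹ ∈ K := by
    intro n
    induction n with
    | zero => intro k hk; simpa using hk
    | succ n ih =>
      intro k hk
      have := hvg _ (ih k hk)
      simpa [pow_succ', mul_assoc] using this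
  have hxp1 : (v * g) ^ p = 1 := by
    refine hCVK _ hxp fun k hk => ?_
    have h1 : (v * g) ^ p * k * ((v * g) ^ p)⁻¹ * k⁻¹ ∈ K := K.mul_mem (hxnorm p k hk) (K.inv_mem hk)
    have h2 : (v * g) ^ p * k * ((v * g) ^ p)⁻¹ * k⁻¹ ∈ V := by
      rw [mul_assoc, mul_assoc]
      refine V.mul_mem hxp ?_
      rw [← mul_assoc]
      exact hVn.conj_mem _ (V.inv_mem hxp) k
    have h3 := hKV _ h1 h2
    rw [mul_inv_eq_one, mul_inv_eq_iff_eq_mul] at h3
    exact h3.symm
  have h4 := hordV _ hxp1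
  rw [← QuotientGroup.eq_one_iff, ← QuotientGroup.mk'_apply, hmk] at h4
  rw [h4, orderOf_one] at hq
  exact hp.out.ne_one hq.symm

/-- Transitivity on subgroups of order `p` passes to the quotient by `O_{p'}`. -/
theorem transitive_quotient {G : Type*} [Group G] [Finite G] {p : ℕ} [hp : Fact p.Prime]
    (N : Subgroup G) [N.Normal] (hN : (Nat.card N).Coprime p) (hchar : ∀ a : MulAut G, ∀ x ∈ N, a x ∈ N)
    (htrans : ∀ U W : Subgroup G, Nat.card U = p → Nat.card W = p → ∃ a : MulAut G, U.map a.toMonoidHom = W) :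
    ∀ U W : Subgroup (G ⧸ N), Nat.card U = p → Nat.card W = p →
      ∃ a : MulAut (G ⧸ N), U.map a.toMonoidHom = W := by
  have lift : ∀ U : Subgroup (G ⧸ N), Nat.card U = p →
      ∃ U₀ : Subgroup G, Nat.card U₀ = p ∧ U₀.map (QuotientGroup.mk' N) = U := by
    intro U hU
    have hdvd : p ∣ Nat.card (U.comap (QuotientGroup.mk' N)) := by
      rw [CfsgLib.PCore.card_comap_mk', hU]
      exact dvd_mul_left p _
    obtain ⟨c, hc⟩ := exists_prime_orderOf_dvd_card' p hdvd
    have hcard : Nat.card (Subgroup.zpowers (c : G)) = p := by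
      rw [Nat.card_zpowers, Subgroup.orderOf_coe, hc]
    have hle : (Subgroup.zpowers (c : G)).map (QuotientGroup.mk' N) ≤ U :=
      Subgroup.map_le_iff_le_comap.mpr (Subgroup.zpowers_le.mpr c.2)
    refine ⟨Subgroup.zpowers (c : G), hcard, Subgroup.eq_of_le_of_card_ge hle ?_⟩
    have hdvd' := Subgroup.card_map_dvd (Subgroup.zpowers (c : G)) (QuotientGroup.mk' N)
    rw [hcard] at hdvd'
    rcases (Nat.dvd_prime hp.out).mp hdvd' with h | h
    · exfalso
      rw [Subgroup.card_eq_one, Subgroup.map_eq_bot_iff, QuotientGroup.ker_mk'] at h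
      have h2 := Subgroup.card_dvd_of_le h
      rw [hcard] at h2
      exact hp.out.ne_one (Nat.Coprime.eq_one_of_dvd hN.symm h2)
    · rw [hU, h]
  intro U W hU hW
  obtain ⟨U₀, hU₀, rfl⟩ := lift U hU
  obtain ⟨W₀, hW₀, rfl⟩ := lift W hW
  obtain ⟨a, rfl⟩ := htrans U₀ W₀ hU₀ hW₀
  refine ⟨QuotientGroup.congr N N a (CfsgLib.ModuleTrick.map_eq_of_invariant (hchar a)), ?_⟩
  rw [Subgroup.map_map, Subgroup.map_map]
  rfl


/-- The Gaschütz–Yen Theorem: let G be a finite p-soluble group, p an odd prime dividing its order, such that the automorphism group of G permutes the subgroups of G of order p transitively. Then G has p-length at most 1. -/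
theorem result {G : Type*} [Group G] [Finite G] {p : ℕ} [Fact p.Prime] (hp : p ≠ 2) (hdvd : p ∣ Nat.card G) (hG : Cfsg.IsPSolvable p G) (htrans : ∀ U V : Subgroup G, Nat.card U = p → Nat.card V = p → ∃ a : MulAut G, U.map a.toMonoidHom = V) : Cfsg.PLengthLE p 1 G := by
  set N := Cfsg.pPrimeCore p G with hN
  have hNn : N.Normal := inferInstance
  have hNchar : ∀ a : MulAut G, ∀ x ∈ N, a x ∈ N := fun a x hx =>
    (CfsgLib.PCore.map_pPrimeCore_equiv (p := p) a).le ⟨x, hx, rfl⟩
  have hidx := index_pCore_coprime hp (CfsgLib.PCore.isPSolvable_quotient hG N)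
    CfsgLib.PCore.pPrimeCore_quotient_pPrimeCore
    (transitive_quotient N CfsgLib.PCore.pPrimeCore_coprime hNchar htrans)
  set M := (Cfsg.pCore p (G ⧸ N)).comap (QuotientGroup.mk' N) with hM
  have hMn : M.Normal := by
    refine Subgroup.Normal.comap ?_ _
    infer_instance
  have h2 : M ≤ (Cfsg.upperPSeries p G (1 + 1)).1 := by
    refine CfsgLib.PCore.le_upperPSeries_succ (fun h => absurd h (by decide)) (fun _ => ?_)
    rw [CfsgLib.PCore.upperPSeries_one, ← CfsgLib.PCore.card_map_mk',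
      Subgroup.map_comap_eq_self_of_surjective (QuotientGroup.mk'_surjective _)]
    exact IsPGroup.iff_card.mp CfsgLib.PCore.pCore_isPGroup
  have h3 : (⊤ : Subgroup G) ≤ (Cfsg.upperPSeries p G (2 + 1)).1 := by
    refine CfsgLib.PCore.le_upperPSeries_succ (fun _ => ?_) (fun h => absurd (by decide : Even 2) h)
    rw [Subgroup.relIndex_top_right]
    refine Nat.Coprime.coprime_dvd_left (Subgroup.index_dvd_of_le h2) ?_
    rw [hM, Subgroup.index_comap_of_surjective _ (QuotientGroup.mk'_surjective N)]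
    exact hidx
  exact top_le_iff.mp h3

end Cfsg.Agent.S3798
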