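import Cfsg.Statements.S3799
import Cfsg.Agent.Lib.PGroup.Extraspecial

set_option autoImplicit false
open Cfsg

namespace Cfsg.Agent.S3799

variable {p : ℕ} [Fact p.Prime] {n m : ℕ}

/-- The Heisenberg group on `F_p^n × F_p^n × F_p`. -/
@[ext] structure Heis (p n : ℕ) where
  /-- first vector -/
  a : Fin n → ZMod p
  /-- second vector -/
  b : Fin n → ZMod p
  /-- central coordinate -/
  c : ZMod p

instance : Group (Heis p n) where
  mul x y := ⟨x.a + y.a, x.b + y.b, x.c + y.c + x.a ⬝ᵥ y.b⟩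
  one := ⟨0, 0, 0⟩
  inv x := ⟨-x.a, -x.b, -x.c + x.a ⬝ᵥ x.b⟩
  mul_assoc x y z := Heis.ext (add_assoc _ _ _) (add_assoc _ _ _) (by
    show x.c + y.c + x.a ⬝ᵥ y.b + z.c + (x.a + y.a) ⬝ᵥ z.b =
      x.c + (y.c + z.c + y.a ⬝ᵥ z.b) + x.a ⬝ᵥ (y.b + z.b)
    rw [add_dotProduct, dotProduct_add]; ring)
  one_mul x := Heis.ext (zero_add _) (zero_add _) (by
    show 0 + x.c + (0 : Fin n → ZMod p) ⬝ᵥ x.b = x.c
    rw [zero_dotProduct]; ring)
  mul_one x := Heis.ext (add_zero _) (add_zero _) (by
    show x.c + 0 + x.a ⬝ᵥ (0 : Fin n → ZMod p) = x.c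
    rw [dotProduct_zero]; ring)
  inv_mul_cancel x := Heis.ext (neg_add_cancel _) (neg_add_cancel _) (by
    show -x.c + x.a ⬝ᵥ x.b + x.c + (-x.a) ⬝ᵥ x.b = 0
    rw [neg_dotProduct]; ring)

theorem mul_a (x y : Heis p n) : (x * y).a = x.a + y.a := rfl
theorem mul_b (x y : Heis p n) : (x * y).b = x.b + y.b := rfl
theorem mul_c (x y : Heis p n) : (x * y).c = x.c + y.c + x.a ⬝ᵥ y.b := rfl

theorem card_heis : Nat.card (Heis p n) = p ^ (1 + 2 * n) := by
  let e : Heis p n ≃ (Fin n → ZMod p) × (Fin n → ZMod p) × ZMod p :=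
    ⟨fun x => (x.a, x.b, x.c), fun v => ⟨v.1, v.2.1, v.2.2⟩, fun x => rfl, fun v => rfl⟩
  rw [Nat.card_congr e, Nat.card_prod, Nat.card_prod, Nat.card_fun, Nat.card_zmod,
    Nat.card_eq_fintype_card, Fintype.card_fin]
  ring

instance : Finite (Heis p n) := Nat.finite_of_card_ne_zero
  (by rw [card_heis]; exact pow_ne_zero _ (Fact.out : p.Prime).ne_zero)

theorem pow_coords (x : Heis p n) (k : ℕ) : (x ^ k).a = (k : ZMod p) • x.a ∧
    (x ^ k).b = (k : ZMod p) • x.b ∧
    2 * (x ^ k).c = 2 * k * x.c + (k : ZMod p) * ((k : ZMod p) - 1) * (x.a ⬝ᵥ x.b) := by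
  induction k with
  | zero =>
    refine ⟨?_, ?_, ?_⟩
    · show (0 : Fin n → ZMod p) = _; simp
    · show (0 : Fin n → ZMod p) = _; simp
    · show 2 * (0 : ZMod p) = _; simp
  | succ k ih =>
    obtain ⟨h1, h2, h3⟩ := ih
    rw [pow_succ, mul_a, mul_b, mul_c, h1, h2, smul_dotProduct, smul_eq_mul]
    push_cast
    refine ⟨by rw [add_smul, one_smul], by rw [add_smul, one_smul], ?_⟩
    linear_combination h3

theorem pow_prime (hp : p ≠ 2) (x : Heis p n) : x ^ p = 1 := by
  obtain ⟨h1, h2, h3⟩ := pow_coords x p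
  have h2' : (2 : ZMod p) ≠ 0 := by
    intro h
    have : ((2 : ℕ) : ZMod p) = 0 := by exact_mod_cast h
    rw [ZMod.natCast_eq_zero_iff] at this
    exact hp ((Nat.prime_dvd_prime_iff_eq Fact.out Nat.prime_two).mp this)
  refine Heis.ext ?_ ?_ ?_
  · rw [h1, ZMod.natCast_self, zero_smul]; rfl
  · rw [h2, ZMod.natCast_self, zero_smul]; rfl
  · rw [ZMod.natCast_self] at h3
    show (x ^ p).c = 0
    simpa [h2'] using h3

theorem isPGroup : IsPGroup p (Heis p n) := IsPGroup.of_card card_heis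

theorem mem_center {x : Heis p n} : x ∈ Subgroup.center (Heis p n) ↔ x.a = 0 ∧ x.b = 0 := by
  rw [Subgroup.mem_center_iff]
  constructor
  · intro h
    have key : ∀ u v : Fin n → ZMod p, u ⬝ᵥ x.b = x.a ⬝ᵥ v := fun u v => by
      have := congrArg Heis.c (h ⟨u, v, 0⟩)
      rw [mul_c, mul_c] at this
      linear_combination this
    constructor
    · funext i; have := key 0 (Pi.single i 1); simpa using this.symm
    · funext i; have := key (Pi.single i 1) 0; simpa using this
  · rintro ⟨ha, hb⟩ y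
    refine Heis.ext (add_comm _ _) (add_comm _ _) ?_
    rw [mul_c, mul_c, ha, hb, dotProduct_zero, zero_dotProduct]; ring

theorem center_le_commutator : Subgroup.center (Heis p (m + 1)) ≤ commutator (Heis p (m + 1)) := by
  intro x hx
  obtain ⟨ha, hb⟩ := mem_center.mp hx
  set u : Heis p (m + 1) := ⟨Pi.single 0 x.c, 0, 0⟩
  set v : Heis p (m + 1) := ⟨0, Pi.single 0 1, 0⟩
  have h : x * (v * u) = u * v := by
    refine Heis.ext ?_ ?_ ?_
    · simp [mul_a, ha, u, v]
    · simp [mul_b, hb, u, v]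
    · simp [mul_c, ha, u, v]
  have h' : x = u * v * u⁻¹ * v⁻¹ := by rw [← h]; group
  rw [h', commutator_def]
  exact Subgroup.commutator_mem_commutator (Subgroup.mem_top u) (Subgroup.mem_top v)

theorem isExtraspecial (hp : p ≠ 2) : Cfsg.IsExtraspecial p (Heis p (m + 1)) := by
  have hcomm : commutator (Heis p (m + 1)) ≤ Subgroup.center _ := by
    rw [commutator_def, Subgroup.commutator_le]
    intro x _ y _
    have ea : ∀ z w : Heis p (m + 1), (z * w).a = (w * z).a := fun z w => add_comm _ _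
    have eb : ∀ z w : Heis p (m + 1), (z * w).b = (w * z).b := fun z w => add_comm _ _
    have h1 : (x * y * x⁻¹ * y⁻¹).a = 0 := by
      show x.a + y.a + -x.a + -y.a = 0
      abel
    have h2 : (x * y * x⁻¹ * y⁻¹).b = 0 := by
      show x.b + y.b + -x.b + -y.b = 0
      abel
    exact mem_center.mpr ⟨h1, h2⟩
  have hc := le_antisymm hcomm center_le_commutator
  refine ⟨⟨isPGroup, le_antisymm ?_ ?_, hc⟩, ?_⟩
  · exact CfsgLib.PGroup.frattini_le_of (p := p) _ hcomm fun x => by
      rw [pow_prime hp]; exact one_mem _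
  · exact hc ▸ CfsgLib.PGroup.commutator_le_frattini isPGroup
  · let e : Subgroup.center (Heis p (m + 1)) ≃ ZMod p :=
      ⟨fun x => x.1.c, fun c => ⟨⟨0, 0, c⟩, mem_center.mpr ⟨rfl, rfl⟩⟩, fun x => by
        obtain ⟨ha, hb⟩ := mem_center.mp x.2
        exact Subtype.ext (Heis.ext ha.symm hb.symm rfl), fun c => rfl⟩
    rw [Nat.card_congr e, Nat.card_zmod]

theorem map_frattini {A B : Type*} [Group A] [Group B] (e : A ≃* B) :
    (frattini A).map e.toMonoidHom = frattini B :=
  OrderIso.map_radical (MulEquiv.mapSubgroup e)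

theorem isExtraspecial_of_equiv {A B : Type*} [Group A] [Group B] (e : A ≃* B)
    (h : Cfsg.IsExtraspecial p A) : Cfsg.IsExtraspecial p B := by
  obtain ⟨⟨h1, h2, h3⟩, h4⟩ := h
  have hc : Subgroup.center B = (Subgroup.center A).map e.toMonoidHom := by
    ext y
    simp only [Subgroup.mem_map, Subgroup.mem_center_iff]
    constructor
    · intro hy
      refine ⟨e.symm y, fun a => ?_, e.apply_symm_apply y⟩
      apply e.injective
      simpa using hy (e a)
    · rintro ⟨x, hx, rfl⟩ b
      have := congrArg e (hx (e.symm b))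
      simpa using this
  refine ⟨⟨h1.of_equiv e, ?_, ?_⟩, ?_⟩
  · rw [hc, ← h2]
    exact (map_frattini e).symm
  · rw [hc, ← h3, commutator_def, commutator_def, Subgroup.map_commutator,
      Subgroup.map_top_of_surjective _ e.surjective]
  · rw [hc, Subgroup.card_map_of_injective (f := e.toMonoidHom) e.injective, h4]

/-- The natural module. -/
abbrev V (p n : ℕ) := ZMod p × (Fin n → ZMod p) × ZMod p

/-- The action as a linear map. -/
def lin (x : Heis p n) : V p n →ₗ[ZMod p] V p n where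
  toFun v := (v.1 + x.a ⬝ᵥ v.2.1 + x.c * v.2.2, v.2.1 + v.2.2 • x.b, v.2.2)
  map_add' v w := by
    refine Prod.ext ?_ (Prod.ext ?_ rfl)
    · simp [dotProduct_add]; ring
    · simp [add_smul]; abel
  map_smul' r v := by
    refine Prod.ext ?_ (Prod.ext ?_ rfl)
    · simp [dotProduct_smul]; ring
    · simp [smul_add, mul_smul]

theorem lin_mul (x y : Heis p n) : lin (x * y) = lin x ∘ₗ lin y := by
  refine LinearMap.ext fun v => Prod.ext ?_ (Prod.ext ?_ rfl)
  · simp [lin, mul_a, mul_b, mul_c, dotProduct_add, add_dotProduct, dotProduct_smul]; ring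
  · simp [lin, mul_b, smul_add]; abel

theorem lin_one : lin (1 : Heis p n) = LinearMap.id := by
  refine LinearMap.ext fun v => Prod.ext ?_ (Prod.ext ?_ rfl)
  · show v.1 + (0 : Fin n → ZMod p) ⬝ᵥ v.2.1 + 0 * v.2.2 = v.1
    rw [zero_dotProduct]; ring
  · show v.2.1 + v.2.2 • (0 : Fin n → ZMod p) = v.2.1
    simp

/-- The action as a homomorphism into the units. -/
def act : Heis p n →* LinearMap.GeneralLinearGroup (ZMod p) (V p n) :=
  MonoidHom.toHomUnits { toFun := lin, map_one' := lin_one, map_mul' := lin_mul }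

theorem act_injective : Function.Injective (act : Heis p n → _) := by
  intro x y h
  have h' : ∀ v, lin x v = lin y v := fun v => by
    have := congrArg (fun u : LinearMap.GeneralLinearGroup (ZMod p) (V p n) => (u : V p n →ₗ[ZMod p] V p n) v) h
    exact this
  have e1 := h' (0, 0, 1)
  refine Heis.ext (funext fun i => ?_) ?_ ?_
  · have := congrArg Prod.fst (h' (0, Pi.single i 1, 0))
    simpa [lin] using this
  · simpa [lin] using congrArg (fun v : V p n => v.2.1) e1
  · simpa [lin] using congrArg Prod.fst e1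
/-- For every odd prime p and every n ≥ 1 there is an extraspecial p-group of order p^(1+2n) and exponent p; concretely, the general linear group of degree n + 2 over the field with p elements contains such a subgroup. -/
theorem result (p : ℕ) [Fact p.Prime] (hp : p ≠ 2) (n : ℕ) (hn : 1 ≤ n) : ∃ E : Subgroup (Matrix.GeneralLinearGroup (Fin (n + 2)) (ZMod p)), Cfsg.IsExtraspecial p ↥E ∧ Nat.card E = p ^ (1 + 2 * n) ∧ ∀ x ∈ E, x ^ p = 1 := by
  obtain ⟨m, rfl⟩ : ∃ m, n = m + 1 := ⟨n - 1, by omega⟩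
  have hV : Module.finrank (ZMod p) (V p (m + 1)) = Module.finrank (ZMod p) (Fin (m + 1 + 2) → ZMod p) := by
    simp [V, Module.finrank_prod]; omega
  let e : V p (m + 1) ≃ₗ[ZMod p] (Fin (m + 1 + 2) → ZMod p) := LinearEquiv.ofFinrankEq _ _ hV
  let f : Heis p (m + 1) →* Matrix.GeneralLinearGroup (Fin (m + 1 + 2)) (ZMod p) :=
    (Matrix.GeneralLinearGroup.toLin.symm.toMonoidHom.comp
      (LinearMap.GeneralLinearGroup.congrLinearEquiv e).toMonoidHom).comp act
  have hf : Function.Injective f := by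
    intro x y h
    apply act_injective
    exact (LinearMap.GeneralLinearGroup.congrLinearEquiv e).injective
      (Matrix.GeneralLinearGroup.toLin.symm.injective h)
  let φ : Heis p (m + 1) ≃* f.range := MonoidHom.ofInjective hf
  refine ⟨f.range, ?_, ?_, ?_⟩
  · exact isExtraspecial_of_equiv φ (isExtraspecial hp)
  · rw [← Nat.card_congr φ.toEquiv, card_heis]
  · rintro _ ⟨y, rfl⟩
    rw [← map_pow, pow_prime hp, map_one]
end Cfsg.Agent.S3799
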