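import Cfsg.Statements.S3800

set_option autoImplicit false
open Cfsg

namespace Cfsg.Agent.S3800

theorem mk'_mem_map_iff {G : Type*} [Group G] (N : Subgroup G) [N.Normal] (P : Subgroup G) (x : G) :
    QuotientGroup.mk' N x ∈ P.map (QuotientGroup.mk' N) ↔ x ∈ P ⊔ N := by
  rw [← Subgroup.mem_comap, Subgroup.comap_map_eq, QuotientGroup.ker_mk']

theorem exists_normalizing {G : Type*} [Group G] [Finite G] {p : ℕ} [Fact p.Prime] (N : Subgroup G)
    [N.Normal] (hN : (Nat.card N).Coprime p) (P : Subgroup G) (hP : IsPGroup p P) (x : G)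
    (hx : ∀ y ∈ P, x * y * x⁻¹ ∈ P ⊔ N) :
    ∃ n ∈ N, n * x ∈ Subgroup.normalizer (P : Set G) := by
  let K := P ⊔ N
  let P1 : Subgroup K := P.subgroupOf K
  have hP1 : IsPGroup p P1 := hP.comap_subtype
  have hidx : ¬ p ∣ P1.index := by
    intro hd
    have h1 : P1.index ∣ Nat.card N := by
      rw [show P1.index = P.relIndex K from rfl, show K = N ⊔ P from sup_comm _ _,
        sup_comm N P]
      rw [show P ⊔ N = N ⊔ P from sup_comm _ _, Subgroup.relIndex, Subgroup.index]
      have := Subgroup.card_mul_index (P.subgroupOf (N ⊔ P))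
      have hc : Nat.card (N ⊔ P : Subgroup G) ∣ Nat.card N * Nat.card P := by
        rw [← Subgroup.card_mul_index (N.subgroupOf (N ⊔ P)),
          show (N.subgroupOf (N ⊔ P)).index = N.relIndex (N ⊔ P) from rfl,
          Nat.card_congr (Subgroup.subgroupOfEquivOfLe (le_sup_left : N ≤ N ⊔ P)).toEquiv,
          show N ⊔ P = P ⊔ N from sup_comm _ _, Subgroup.relIndex_sup_right]
        exact Nat.mul_dvd_mul_left _ (N.relIndex_dvd_card P)
      rw [← this, Nat.card_congr (Subgroup.subgroupOfEquivOfLe (le_sup_right : P ≤ N ⊔ P)).toEquiv,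
        mul_comm (Nat.card N)] at hc
      exact (mul_dvd_mul_iff_left Nat.card_pos.ne').mp hc
    exact (Fact.out : p.Prime).ne_one (Nat.Coprime.eq_one_of_dvd hN.symm (hd.trans h1))
  let S : Sylow p K := hP1.toSylow hidx
  let P2 : Subgroup K := (P.map (MulAut.conj x).toMonoidHom).subgroupOf K
  have hP2 : IsPGroup p P2 := (hP.map _).comap_subtype
  obtain ⟨T, hT⟩ := hP2.exists_le_sylow
  obtain ⟨k, hk⟩ := MulAction.exists_smul_eq K T S
  obtain ⟨a, ha, n, hn, hk'⟩ := Subgroup.mem_sup_of_normal_right.mp k.2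
  refine ⟨n, hn, ?_⟩
  have hsub : ∀ y ∈ P, (k : G) * (x * y * x⁻¹) * (k : G)⁻¹ ∈ P := by
    intro y hy
    have h1 : (⟨x * y * x⁻¹, hx y hy⟩ : K) ∈ P2 := ⟨y, hy, by simp⟩
    have h3 : k * (⟨x * y * x⁻¹, hx y hy⟩ : K) * k⁻¹ ∈ ((k • T : Sylow p K) : Subgroup K) := by
      rw [Sylow.coe_subgroup_smul]
      exact ⟨_, hT h1, rfl⟩
    rw [hk] at h3
    exact h3
  refine Subgroup.mem_normalizer_iff.mpr fun y => ?_
  have hfwd : ∀ y ∈ P, n * x * y * (n * x)⁻¹ ∈ P := by
    intro y hy
    have h5 := P.mul_mem (P.mul_mem (P.inv_mem ha) (hsub y hy)) ha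
    rw [← hk'] at h5
    simpa [mul_assoc] using h5
  refine ⟨hfwd y, fun hy => ?_⟩
  have heq : P.map (MulAut.conj (n * x)).toMonoidHom = P := by
    refine Subgroup.eq_of_le_of_card_ge ?_ (by rw [Subgroup.card_map_of_injective (MulEquiv.injective _)])
    rintro _ ⟨z, hz, rfl⟩
    simpa [mul_assoc] using hfwd z hz
  rw [← heq] at hy
  obtain ⟨z, hz, e⟩ := hy
  have : z = y := (MulAut.conj (n * x)).injective (by simpa [mul_assoc] using e)
  exact this ▸ hz


/-- Let G be a finite group, N a normal subgroup of G whose order is prime to p, and P a p-subgroup of G. Then in G/N the normalizer of the image of P is the image of N_G(P), and the centralizer of the image of P is the image of C_G(P). -/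
theorem result {G : Type*} [Group G] [Finite G] {p : ℕ} [Fact p.Prime] (N : Subgroup G) [N.Normal] (hN : (Nat.card N).Coprime p) (P : Subgroup G) (hP : IsPGroup p P) : Subgroup.normalizer ((P.map (QuotientGroup.mk' N)) : Set (G ⧸ N)) = (Subgroup.normalizer (P : Set G)).map (QuotientGroup.mk' N) ∧ Subgroup.centralizer ((P.map (QuotientGroup.mk' N)) : Set (G ⧸ N)) = (Subgroup.centralizer (P : Set G)).map (QuotientGroup.mk' N) := by
  let π := QuotientGroup.mk' N
  have hPN : P ⊓ N = ⊥ := by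
    obtain ⟨k, hk⟩ := hP.exists_card_eq
    exact Subgroup.inf_eq_bot_of_coprime (by rw [hk]; exact (hN.symm.pow_left k))
  constructor
  · refine le_antisymm ?_ (Subgroup.le_normalizer_map π)
    intro q hq
    obtain ⟨x, rfl⟩ := QuotientGroup.mk'_surjective N q
    obtain ⟨n, hn, hnx⟩ := exists_normalizing N hN P hP x fun y hy => by
      rw [← mk'_mem_map_iff, map_mul, map_mul, map_inv]
      exact (Subgroup.mem_normalizer_iff.mp hq _).mp (Subgroup.mem_map_of_mem _ hy)
    refine ⟨n * x, hnx, ?_⟩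
    rw [map_mul, show QuotientGroup.mk' N n = 1 from (QuotientGroup.eq_one_iff n).mpr hn, one_mul]
  · apply le_antisymm
    · intro q hq
      obtain ⟨x, rfl⟩ := QuotientGroup.mk'_surjective N q
      have hfix : ∀ y ∈ P, π (x * y * x⁻¹) = π y := fun y hy => by
        rw [map_mul, map_mul, map_inv, ← hq _ (Subgroup.mem_map_of_mem π hy), mul_inv_cancel_right]
      obtain ⟨n, hn, hnx⟩ := exists_normalizing N hN P hP x fun y hy => by
        rw [← mk'_mem_map_iff]
        exact ⟨y, hy, (hfix y hy).symm⟩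
      have hn1 : π n = 1 := (QuotientGroup.eq_one_iff n).mpr hn
      refine ⟨n * x, fun y hy => ?_, by rw [map_mul, hn1, one_mul]⟩
      have h1 : n * x * y * (n * x)⁻¹ ∈ P := (Subgroup.mem_normalizer_iff.mp hnx y).mp hy
      have h2 : (n * x * y * (n * x)⁻¹) * y⁻¹ ∈ P ⊓ N := by
        refine ⟨P.mul_mem h1 (P.inv_mem hy), (QuotientGroup.eq_one_iff _).mp ?_⟩
        show π _ = 1
        rw [map_mul, map_inv, show n * x * y * (n * x)⁻¹ = n * (x * y * x⁻¹) * n⁻¹ by simp [mul_assoc],
          map_mul, map_mul, map_inv, hn1, hfix y hy]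
        simp
      rw [hPN, Subgroup.mem_bot, mul_inv_eq_one, mul_inv_eq_iff_eq_mul] at h2
      exact h2.symm
    · rintro _ ⟨x, hx, rfl⟩ _ ⟨y, hy, rfl⟩
      rw [← map_mul, ← map_mul, hx y hy]

end Cfsg.Agent.S3800
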