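import Cfsg.Statements.S3802
-- import your own Cfsg.Agent.* helpers here

set_option autoImplicit false
open Cfsg

namespace Cfsg.Agent.S3802

/-- Wielandt: a minimal normal subgroup normalizes every subnormal subgroup. -/
theorem minimal_normal_normalizes_subnormal_aux (n : ℕ) : ∀ {G : Type*} [Group G] [Finite G],
    Nat.card G ≤ n → ∀ (T H : Subgroup G), T.Normal → T ≠ ⊥ →
    (∀ L : Subgroup G, L.Normal → L ≤ T → L = ⊥ ∨ L = T) → H.IsSubnormal →
    T ≤ Subgroup.normalizer (H : Set G) := by
  induction n using Nat.strong_induction_on with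
  | _ n ih =>
    intro G _ _ hn T H hT hT0 hmin hH
    rcases eq_or_ne H ⊤ with rfl | hne
    · exact le_top.trans Subgroup.le_normalizer
    obtain ⟨K, hK, hHK, hKlt⟩ := hH.exists_normal_and_le_and_lt_top_of_ne hne
    rcases hmin (T ⊓ K) inferInstance inf_le_left with h | h
    · intro t ht
      rw [Subgroup.mem_normalizer_iff]
      have hc : ∀ k ∈ K, t * k = k * t := fun k hk =>
        Subgroup.commute_of_normal_of_disjoint T K hT hK (disjoint_iff.mpr h) t k ht hk
      intro x
      constructor
      · intro hx
        rwa [hc x (hHK hx), mul_inv_cancel_right]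
      · intro hx
        have h2 := hc _ (hHK hx)
        have h3 : t * x * t⁻¹ = x := by
          have h4 : t * (t * x * t⁻¹) = t * x := by rw [h2, inv_mul_cancel_right]
          exact mul_left_cancel h4
        rwa [h3] at hx
    · have hTK : T ≤ K := inf_eq_left.mp h
      have hTn : (T.subgroupOf K).Normal := inferInstance
      have hTb : T.subgroupOf K ≠ ⊥ := by
        intro e
        apply hT0
        rw [← Subgroup.map_subgroupOf_eq_of_le hTK, e, Subgroup.map_bot]
      obtain ⟨T1, hT1, hT1min⟩ := Finite.exists_le_minimal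
        (p := fun L : Subgroup K => L.Normal ∧ L ≠ ⊥) (a := T.subgroupOf K) ⟨hTn, hTb⟩
      have hcard : Nat.card K < n := lt_of_lt_of_le (lt_of_le_of_ne (Subgroup.card_le_card_group K) (fun h => hKlt.ne (Subgroup.eq_top_of_card_eq K h))) hn
      have hmin1 : ∀ L : Subgroup K, L.Normal → L ≤ T1 → L = ⊥ ∨ L = T1 := by
        intro L hL hle
        rcases eq_or_ne L ⊥ with e | e
        · exact Or.inl e
        · exact Or.inr (le_antisymm hle (hT1min.2 ⟨hL, e⟩ hle))
      -- the G-conjugates of T1 generate T
      let S : Subgroup G := Subgroup.normalClosure ((T1.map K.subtype : Subgroup G) : Set G)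
      have hST : S ≤ T := by
        apply Subgroup.normalClosure_le_normal
        rintro x ⟨y, hy, rfl⟩
        exact hT1 hy
      have hS0 : S ≠ ⊥ := by
        intro e
        apply hT1min.1.2
        have : T1.map K.subtype ≤ ⊥ := e ▸ Subgroup.le_normalClosure
        exact (Subgroup.map_eq_bot_iff_of_injective _ K.subtype_injective).mp (le_bot_iff.mp this)
      have hSeq : S = T := (hmin S Subgroup.normalClosure_normal hST).resolve_left hS0
      -- every conjugate of T1 normalizes H
      rw [← hSeq]
      refine (Subgroup.closure_le _).mpr ?_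
      intro z hz
      rw [Group.mem_conjugatesOfSet_iff] at hz
      obtain ⟨w, hw, hwz⟩ := hz
      obtain ⟨g, rfl⟩ := isConj_iff.mp hwz
      obtain ⟨y, hy, rfl⟩ := hw
      let e : K ≃* K := MulAut.conjNormal g
      have hmap : ∀ L : Subgroup K, L.Normal → (L.map e.toMonoidHom).Normal :=
        fun L hL => hL.map _ e.surjective
      have hT1' : (T1.map e.toMonoidHom).Normal := hmap _ hT1min.1.1
      have hT1'0 : T1.map e.toMonoidHom ≠ ⊥ := by
        exact fun h => hT1min.1.2 ((Subgroup.map_eq_bot_iff_of_injective _ e.injective).mp h)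
      have hmin1' : ∀ L : Subgroup K, L.Normal → L ≤ T1.map e.toMonoidHom →
          L = ⊥ ∨ L = T1.map e.toMonoidHom := by
        intro L hL hle
        have hL' : (L.comap e.toMonoidHom).Normal := hL.comap _
        have hle' : L.comap e.toMonoidHom ≤ T1 := by
          have := Subgroup.comap_mono (f := e.toMonoidHom) hle
          exact this.trans (le_of_eq (Subgroup.comap_map_eq_self_of_injective e.injective T1))
        have hsurj : Function.Surjective e.toMonoidHom := e.surjective
        rcases hmin1 _ hL' hle' with h' | h'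
        · left
          rw [← Subgroup.map_comap_eq_self_of_surjective hsurj L, h', Subgroup.map_bot]
        · right
          rw [← Subgroup.map_comap_eq_self_of_surjective hsurj L, h']
      have key := ih _ hcard le_rfl _ (H.subgroupOf K) hT1' hT1'0 hmin1' hH.subgroupOf
      have hmem : e y ∈ Subgroup.normalizer ((H.subgroupOf K : Subgroup K) : Set K) :=
        key ⟨y, hy, rfl⟩
      have h2 : ((e y : K) : G) = g * (y : G) * g⁻¹ := MulAut.conjNormal_apply g y
      have h3 : K.subtype (e y) ∈ Subgroup.normalizer (((H.subgroupOf K).map K.subtype : Subgroup G) : Set G) :=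
        Subgroup.le_normalizer_map K.subtype ⟨e y, hmem, rfl⟩
      rw [Subgroup.map_subgroupOf_eq_of_le hHK] at h3
      rw [Subgroup.coe_subtype, h2] at h3
      exact h3

theorem subnormal_in_maximal_corefree {G : Type*} [Group G] [Finite G] (M N : Subgroup G)
    (hM : IsCoatom M) (hN : N.IsSubnormal) (hNM : N ≤ M) (hcore : M.normalCore = ⊥) : N = ⊥ := by
  have hne : Nontrivial G := by
    rcases subsingleton_or_nontrivial G with h | h
    · exact absurd (Subsingleton.elim M ⊤) hM.1
    · exact h
  obtain ⟨T, -, hT⟩ := Finite.exists_le_minimal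
    (p := fun L : Subgroup G => L.Normal ∧ L ≠ ⊥) (a := (⊤ : Subgroup G)) ⟨inferInstance, top_ne_bot⟩
  have hmin : ∀ L : Subgroup G, L.Normal → L ≤ T → L = ⊥ ∨ L = T := by
    intro L hL hle
    rcases eq_or_ne L ⊥ with e | e
    · exact Or.inl e
    · exact Or.inr (le_antisymm hle (hT.2 ⟨hL, e⟩ hle))
  have hTn : T ≤ Subgroup.normalizer (N : Set G) :=
    minimal_normal_normalizes_subnormal_aux _ le_rfl T N hT.1.1 hT.1.2 hmin hN
  haveI := hT.1.1
  have hTM : ¬ T ≤ M := fun h => hT.1.2 (le_bot_iff.mp (hcore ▸ Subgroup.normal_le_normalCore.mpr h))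
  have htop : M ⊔ T = ⊤ := hM.2 _ (left_lt_sup.mpr hTM)
  rw [eq_bot_iff, ← hcore]
  intro x hx g
  have hg : g ∈ M ⊔ T := htop ▸ Subgroup.mem_top g
  rw [Subgroup.mem_sup_of_normal_right] at hg
  obtain ⟨m, hm, t, ht, rfl⟩ := hg
  have h1 : t * x * t⁻¹ ∈ M := hNM ((Subgroup.mem_normalizer_iff.mp (hTn ht) x).mp hx)
  have h2 := M.mul_mem (M.mul_mem hm h1) (M.inv_mem hm)
  simpa [mul_assoc] using h2

/-- Let G be a finite group, M a maximal subgroup of G and N a subnormal subgroup of G contained in M. Then N is contained in every conjugate of M, that is, N lies in the core of M in G. -/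
theorem result {G : Type*} [Group G] [Finite G] (M N : Subgroup G) (hM : IsCoatom M) (hN : N.IsSubnormal) (hNM : N ≤ M) :
    N ≤ Subgroup.normalCore M := by
  let π := QuotientGroup.mk' (Subgroup.normalCore M)
  have hsurj : Function.Surjective π := QuotientGroup.mk'_surjective _
  have hker : π.ker ≤ M := by rw [QuotientGroup.ker_mk']; exact M.normalCore_le
  have hcm : (M.map π).comap π = M := by rw [Subgroup.comap_map_eq, sup_eq_left.mpr hker]
  have hM' : IsCoatom (M.map π) := by
    constructor
    · intro e
      exact hM.1 (by rw [← hcm, e, Subgroup.comap_top])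
    · intro L hL
      have hlt : M < L.comap π := by
        calc M = (M.map π).comap π := hcm.symm
          _ < L.comap π := (Subgroup.comap_lt_comap_of_surjective hsurj).mpr hL
      rw [← Subgroup.map_comap_eq_self_of_surjective hsurj L, hM.2 _ hlt,
        Subgroup.map_top_of_surjective π hsurj]
  have hcore : (M.map π).normalCore = ⊥ := by
    have h1 : (M.map π).normalCore.comap π ≤ M.normalCore :=
      Subgroup.normal_le_normalCore.mpr
        ((Subgroup.comap_mono (Subgroup.normalCore_le _)).trans hcm.le)
    rw [← Subgroup.map_comap_eq_self_of_surjective hsurj (M.map π).normalCore, eq_bot_iff,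
      Subgroup.map_le_iff_le_comap, MonoidHom.comap_bot, QuotientGroup.ker_mk']
    exact h1
  have h := subnormal_in_maximal_corefree (M.map π) (N.map π) hM' (hN.map hsurj)
    (Subgroup.map_mono hNM) hcore
  rw [Subgroup.map_eq_bot_iff, QuotientGroup.ker_mk'] at h
  exact h

end Cfsg.Agent.S3802
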