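import Cfsg.Statements.S3803
import Cfsg.Agent.Lib.LocalEvenSix.Sections

set_option autoImplicit false
open Cfsg

namespace Cfsg.Agent.S3803


/-- Let P be a 2-subgroup and A a subgroup of odd order of a finite group, with A normalizing P. Let D ≤ P with 1 < |D| < |P|. If every subgroup of P of order |D|, and also every subgroup of P of order 4 in case |D| = 2, is normalized by A, then A centralizes P. -/
theorem result {X : Type*} [Group X] [Finite X] (P A D : Subgroup X) (hP : IsPGroup 2 P) (hA : Odd (Nat.card A))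
    (hAP : A ≤ Subgroup.normalizer (P : Set X)) (hDP : D ≤ P) (hD1 : 1 < Nat.card D) (hD2 : Nat.card D < Nat.card P)
    (hinv : ∀ E : Subgroup X, E ≤ P → (Nat.card E = Nat.card D ∨ (Nat.card D = 2 ∧ Nat.card E = 4)) → A ≤ Subgroup.normalizer (E : Set X)) :
    A ≤ Subgroup.centralizer (P : Set X) := by
  intro g hg
  haveI : Fact (Nat.Prime 2) := ⟨Nat.prime_two⟩
  obtain ⟨d, hd⟩ := (hP.to_le hDP).exists_card_eq
  have hd1 : 1 ≤ d := by
    by_contra h
    rw [show d = 0 by omega, pow_zero] at hd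
    omega
  have hodd : Odd (orderOf g) :=
    hA.of_dvd_nat (by simpa using orderOf_dvd_natCard (⟨g, hg⟩ : A))
  have hcop2 : (orderOf g).Coprime 2 := Nat.coprime_two_right.mpr hodd
  intro x hx
  have hcyc : ∀ E ≤ P, A ≤ Subgroup.normalizer (E : Set X) → IsCyclic E → ∀ x ∈ E, g * x = x * g := by
    intro E hEP hE hc
    refine @CfsgLib.LocalEvenSix.cyclic_fix X _ _ E hc g (hE hg) ?_
    obtain ⟨k, hk⟩ := (hP.to_le hEP).exists_card_eq
    rcases Nat.eq_zero_or_pos k with rfl | hk0
    · rw [hk, pow_zero, Nat.totient_one]; exact Nat.coprime_one_right _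
    · rw [hk, Nat.totient_prime_pow Nat.prime_two hk0]
      simpa using hcop2.pow_right (k - 1)
  refine (CfsgLib.LocalEvenSix.centralizes_of_sections (R := P) hP hcop2 (hAP hg) hd1 (hd ▸ hD2)
    (fun E => A ≤ Subgroup.normalizer (E : Set X)) (fun E hE => hE hg) ?_ ?_ hcyc ?_ x hx).symm
  · rintro E hE (h | ⟨h1, h2⟩)
    · exact hinv E hE (Or.inl (h.trans hd.symm))
    · exact hinv E hE (Or.inr ⟨hd.trans h1, h2⟩)
  · intro E F hE hF a ha
    apply CfsgLib.LocalEvenSix.mem_normalizer_of_forall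
    intro z hz
    have h : (E ⊔ F).map (MulAut.conj a).toMonoidHom ≤ E ⊔ F := by
      rw [Subgroup.map_sup]
      refine sup_le_sup ?_ ?_
      · rintro _ ⟨w, hw, rfl⟩
        simpa using (Subgroup.mem_normalizer_iff.mp (hE ha) w).mp hw
      · rintro _ ⟨w, hw, rfl⟩
        simpa using (Subgroup.mem_normalizer_iff.mp (hF ha) w).mp hw
    simpa using h ⟨z, hz, rfl⟩
  · intro T M hMT hTR hT hM hidx
    exact CfsgLib.LocalEvenSix.section_fix (hP.to_le hTR) hMT hidx (hT hg) (hM hg) (by simp)

end Cfsg.Agent.S3803
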