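import Cfsg.Statements.S3804

set_option autoImplicit false
open Cfsg

namespace Cfsg.Agent.S3804


theorem card_product {X : Type*} [Group X] [Finite X] (A B S : Subgroup X) (hA : A ≤ S) (hB : B ≤ S) :
    Nat.card A * Nat.card B ≤ Nat.card S * Nat.card (A ⊓ B : Subgroup X) ∧
    (Nat.card A * Nat.card B = Nat.card S * Nat.card (A ⊓ B : Subgroup X) →
      ∀ s ∈ S, ∃ a ∈ A, ∃ b ∈ B, s = a * b) := by
  classical
  haveI := Fintype.ofFinite X
  set f : A × B → X := fun q => (q.1 : X) * q.2 with hf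
  set T := Finset.univ.image f with hT
  have hfib : Fintype.card (A × B) ≤ Nat.card (A ⊓ B : Subgroup X) * T.card := by
    refine Finset.card_le_mul_card_image _ _ fun t ht => ?_
    obtain ⟨q₀, -, rfl⟩ := Finset.mem_image.mp ht
    rw [Nat.card_eq_fintype_card, ← Finset.card_univ]
    have hmem : ∀ q : A × B, f q = f q₀ → (q₀.1 : X)⁻¹ * q.1 ∈ A ⊓ B := by
      intro q hq
      refine Subgroup.mem_inf.mpr ⟨mul_mem (inv_mem q₀.1.2) q.1.2, ?_⟩
      have : (q₀.1 : X)⁻¹ * q.1 = (q₀.2 : X) * (q.2 : X)⁻¹ := by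
        rw [inv_mul_eq_iff_eq_mul, ← mul_assoc, eq_mul_inv_iff_mul_eq]
        exact hq
      rw [this]
      exact mul_mem q₀.2.2 (inv_mem q.2.2)
    refine Finset.card_le_card_of_injOn
      (fun q => if h : f q = f q₀ then (⟨_, hmem q h⟩ : (A ⊓ B : Subgroup X)) else 1)
      (fun q _ => Finset.mem_univ _) ?_
    intro q hq q' hq' he
    have hq1 : f q = f q₀ := (Finset.mem_filter.mp hq).2
    have hq2 : f q' = f q₀ := (Finset.mem_filter.mp hq').2
    simp only [hq1, hq2, dite_true] at he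
    have h1 : (q.1 : X) = q'.1 := mul_left_cancel (Subtype.ext_iff.mp he)
    have h2 : (q.2 : X) = q'.2 := by
      have h3 := hq1.trans hq2.symm
      simp only [hf, h1] at h3
      exact mul_left_cancel h3
    exact Prod.ext (Subtype.ext h1) (Subtype.ext h2)
  have hsub : T ⊆ Finset.univ.filter (· ∈ S) := by
    intro t ht
    obtain ⟨q, -, rfl⟩ := Finset.mem_image.mp ht
    exact Finset.mem_filter.mpr ⟨Finset.mem_univ _, mul_mem (hA q.1.2) (hB q.2.2)⟩
  have hScard : (Finset.univ.filter (· ∈ S)).card = Nat.card S := by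
    rw [Nat.card_eq_fintype_card, Fintype.card_subtype]
  rw [Fintype.card_prod, ← Nat.card_eq_fintype_card, ← Nat.card_eq_fintype_card] at hfib
  have hle := Finset.card_le_card hsub
  refine ⟨hfib.trans (by rw [mul_comm]; exact Nat.mul_le_mul_right _ (hScard ▸ hle)), fun he s hs => ?_⟩
  rw [he, mul_comm] at hfib
  have hTS : T = Finset.univ.filter (· ∈ S) := Finset.eq_of_subset_of_card_le hsub
    (hScard ▸ Nat.le_of_mul_le_mul_left hfib Nat.card_pos)
  have : s ∈ T := hTS ▸ Finset.mem_filter.mpr ⟨Finset.mem_univ s, hs⟩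
  obtain ⟨q, -, hq⟩ := Finset.mem_image.mp this
  exact ⟨_, q.1.2, _, q.2.2, hq.symm⟩
/-- Let G and H be subgroups of a finite group with G normalizing H, fix a real number α > 0, and for a subgroup A of G put m(A) = |A|^α · |C_H(A)|. Let A and B be nontrivial subgroups of G at which m attains its maximum over all nontrivial subgroups of G, and assume that A ∩ B ≠ 1 or that this maximum is at least |H|. Then AB = BA is a subgroup at which m is again maximal, C_H(A ∩ B) = C_H(A) C_H(B), and if A ∩ B ≠ 1 then m is maximal at A ∩ B as well. -/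
theorem result {X : Type*} [Group X] [Finite X] (G H : Subgroup X) (hGH : G ≤ Subgroup.normalizer (H : Set X)) (α : ℝ) (hα : 0 < α)
    (A B : Subgroup X) (hA : A ≤ G) (hB : B ≤ G) (hA1 : A ≠ ⊥) (hB1 : B ≠ ⊥)
    (hAmax : ∀ A' : Subgroup X, A' ≤ G → A' ≠ ⊥ → (fun A : Subgroup X => ((Nat.card A : ℝ) ^ α) * (Nat.card ↥(H ⊓ Subgroup.centralizer (A : Set X)) : ℝ)) A' ≤ (fun A : Subgroup X => ((Nat.card A : ℝ) ^ α) * (Nat.card ↥(H ⊓ Subgroup.centralizer (A : Set X)) : ℝ)) A)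
    (hBmax : ∀ A' : Subgroup X, A' ≤ G → A' ≠ ⊥ → (fun A : Subgroup X => ((Nat.card A : ℝ) ^ α) * (Nat.card ↥(H ⊓ Subgroup.centralizer (A : Set X)) : ℝ)) A' ≤ (fun A : Subgroup X => ((Nat.card A : ℝ) ^ α) * (Nat.card ↥(H ⊓ Subgroup.centralizer (A : Set X)) : ℝ)) B)
    (hcase : A ⊓ B ≠ ⊥ ∨ (Nat.card H : ℝ) ≤ (fun A : Subgroup X => ((Nat.card A : ℝ) ^ α) * (Nat.card ↥(H ⊓ Subgroup.centralizer (A : Set X)) : ℝ)) A) :
    (∀ a ∈ A, ∀ b ∈ B, ∃ b' ∈ B, ∃ a' ∈ A, a * b = b' * a') ∧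
    (∀ A' : Subgroup X, A' ≤ G → A' ≠ ⊥ → (fun A : Subgroup X => ((Nat.card A : ℝ) ^ α) * (Nat.card ↥(H ⊓ Subgroup.centralizer (A : Set X)) : ℝ)) A' ≤ (fun A : Subgroup X => ((Nat.card A : ℝ) ^ α) * (Nat.card ↥(H ⊓ Subgroup.centralizer (A : Set X)) : ℝ)) (A ⊔ B)) ∧
    (∀ h ∈ H ⊓ Subgroup.centralizer ((A ⊓ B : Subgroup X) : Set X), ∃ u ∈ H ⊓ Subgroup.centralizer (A : Set X), ∃ v ∈ H ⊓ Subgroup.centralizer (B : Set X), h = u * v) ∧
    (A ⊓ B ≠ ⊥ → ∀ A' : Subgroup X, A' ≤ G → A' ≠ ⊥ → (fun A : Subgroup X => ((Nat.card A : ℝ) ^ α) * (Nat.card ↥(H ⊓ Subgroup.centralizer (A : Set X)) : ℝ)) A' ≤ (fun A : Subgroup X => ((Nat.card A : ℝ) ^ α) * (Nat.card ↥(H ⊓ Subgroup.centralizer (A : Set X)) : ℝ)) (A ⊓ B)) := by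
  classical
  set m : Subgroup X → ℝ := fun A => ((Nat.card A : ℝ) ^ α) *
    (Nat.card ↥(H ⊓ Subgroup.centralizer (A : Set X)) : ℝ) with hm
  set CA := H ⊓ Subgroup.centralizer (A : Set X) with hCA
  set CB := H ⊓ Subgroup.centralizer (B : Set X) with hCB
  set CI := H ⊓ Subgroup.centralizer ((A ⊓ B : Subgroup X) : Set X) with hCI
  set CJ := H ⊓ Subgroup.centralizer ((A ⊔ B : Subgroup X) : Set X) with hCJ
  have hanti : ∀ U V : Subgroup X, U ≤ V →
      H ⊓ Subgroup.centralizer (V : Set X) ≤ H ⊓ Subgroup.centralizer (U : Set X) := fun U V h =>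
    inf_le_inf_left _ (Subgroup.centralizer_le h)
  have hAI : CA ≤ CI := hanti _ _ inf_le_left
  have hBI : CB ≤ CI := hanti _ _ inf_le_right
  have hinf : CA ⊓ CB = CJ := by
    refine le_antisymm ?_ (le_inf (hanti _ _ le_sup_left) (hanti _ _ le_sup_right))
    intro x hx
    refine Subgroup.mem_inf.mpr ⟨hx.1.1, ?_⟩
    have hle : A ⊔ B ≤ Subgroup.centralizer ({x} : Set X) := by
      refine sup_le ?_ ?_
      · intro a ha
        exact Subgroup.mem_centralizer_singleton_iff.mpr (Subgroup.mem_centralizer_iff.mp hx.1.2 a ha)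
      · intro b hb
        exact Subgroup.mem_centralizer_singleton_iff.mpr (Subgroup.mem_centralizer_iff.mp hx.2.2 b hb)
    rw [Subgroup.mem_centralizer_iff]
    exact fun y hy => Subgroup.mem_centralizer_singleton_iff.mp (hle hy)
  have hJne : A ⊔ B ≠ ⊥ := fun h => hA1 (le_bot_iff.mp (h ▸ le_sup_left))
  have hMpos : 0 < m A := by
    have h1 : (0 : ℝ) < Nat.card A := by exact_mod_cast Nat.card_pos
    have h2 : (0 : ℝ) < Nat.card CA := by exact_mod_cast Nat.card_pos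
    exact mul_pos (Real.rpow_pos_of_pos h1 α) h2
  have hAB : m B = m A := le_antisymm (hAmax B hB hB1) (hBmax A hA hA1)
  have hJ : m (A ⊔ B) ≤ m A := hAmax _ (sup_le hA hB) hJne
  have hI : m (A ⊓ B) ≤ m A := by
    by_cases h : A ⊓ B = ⊥
    · refine le_trans ?_ (hcase.resolve_left (not_not_intro h))
      simp only [hm, h, Subgroup.card_bot, Nat.cast_one, Real.one_rpow, one_mul, Nat.cast_le]
      exact Nat.le_of_dvd Nat.card_pos (Subgroup.card_dvd_of_le inf_le_left)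
    · exact hAmax _ (inf_le_left.trans hA) h
  obtain ⟨h1, h1e⟩ := card_product A B (A ⊔ B) le_sup_left le_sup_right
  obtain ⟨h2, h2e⟩ := card_product CA CB CI hAI hBI
  rw [hinf] at h2
  rw [hinf] at h2e
  have e1 : ((Nat.card A * Nat.card B : ℕ) : ℝ) ≤ (Nat.card (A ⊔ B : Subgroup X) * Nat.card (A ⊓ B : Subgroup X) : ℕ) :=
    Nat.cast_le.mpr h1
  have e2 : ((Nat.card CA * Nat.card CB : ℕ) : ℝ) ≤ (Nat.card CI * Nat.card CJ : ℕ) :=
    Nat.cast_le.mpr h2
  set u : ℝ := ((Nat.card A * Nat.card B : ℕ) : ℝ) with hu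
  set v : ℝ := ((Nat.card (A ⊔ B : Subgroup X) * Nat.card (A ⊓ B : Subgroup X) : ℕ) : ℝ) with hv
  set c : ℝ := ((Nat.card CA * Nat.card CB : ℕ) : ℝ) with hc
  set d : ℝ := ((Nat.card CI * Nat.card CJ : ℕ) : ℝ) with hd
  have hupos : 0 < u := Nat.cast_pos.mpr (Nat.mul_pos Nat.card_pos Nat.card_pos)
  have hcpos : 0 < c := Nat.cast_pos.mpr (Nat.mul_pos Nat.card_pos Nat.card_pos)
  have hL : m A * m B = u ^ α * c := by
    simp only [hm, hu, hc, Nat.cast_mul]
    rw [Real.mul_rpow (Nat.cast_nonneg _) (Nat.cast_nonneg _), ← hCA, ← hCB]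
    ring
  have hR : m (A ⊔ B) * m (A ⊓ B) = v ^ α * d := by
    simp only [hm, hv, hd, Nat.cast_mul]
    rw [Real.mul_rpow (Nat.cast_nonneg _) (Nat.cast_nonneg _), ← hCI, ← hCJ]
    ring
  have hle : u ^ α * c ≤ v ^ α * d :=
    mul_le_mul (Real.rpow_le_rpow hupos.le e1 hα.le) e2 hcpos.le
      (Real.rpow_nonneg (Nat.cast_nonneg _) α)
  have hnn : ∀ U : Subgroup X, 0 ≤ m U := fun U =>
    mul_nonneg (Real.rpow_nonneg (Nat.cast_nonneg _) α) (Nat.cast_nonneg _)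
  have hge : v ^ α * d ≤ u ^ α * c := by
    rw [← hL, ← hR, hAB]
    exact mul_le_mul hJ hI (hnn _) hMpos.le
  have huv : u = v := by
    by_contra hne
    have := mul_lt_mul (Real.rpow_lt_rpow hupos.le (lt_of_le_of_ne e1 hne) hα) e2 hcpos
      (Real.rpow_nonneg (Nat.cast_nonneg _) α)
    linarith
  have hcd : c = d := by
    rw [← huv] at hle hge
    exact le_antisymm e2 (le_of_mul_le_mul_left hge (Real.rpow_pos_of_pos hupos α))
  have hprod := h1e (Nat.cast_injective huv)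
  have hprodC := h2e (Nat.cast_injective hcd)
  have hboth : m (A ⊔ B) * m (A ⊓ B) = m A * m A := by
    rw [hR, ← huv, ← hcd, ← hL, hAB]
  have hJeq : m (A ⊔ B) = m A := by
    nlinarith [hnn (A ⊔ B), hnn (A ⊓ B), mul_le_mul_of_nonneg_left hI (hnn (A ⊔ B))]
  have hIeq : m (A ⊓ B) = m A := by
    rw [hJeq] at hboth
    exact mul_left_cancel₀ hMpos.ne' hboth
  refine ⟨fun a ha b hb => ?_, fun A' h3 h4 => hJeq ▸ hAmax A' h3 h4, fun h hh => hprodC h hh,
    fun _ A' h3 h4 => hIeq ▸ hAmax A' h3 h4⟩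
  obtain ⟨a₁, ha₁, b₁, hb₁, he⟩ := hprod (a * b)⁻¹
    (inv_mem (mul_mem (Subgroup.mem_sup_left ha) (Subgroup.mem_sup_right hb)))
  exact ⟨b₁⁻¹, inv_mem hb₁, a₁⁻¹, inv_mem ha₁, by rw [← mul_inv_rev, ← he, inv_inv]⟩
end Cfsg.Agent.S3804
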