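import Cfsg.Statements.S3805
import Cfsg.Agent.Lib.MathieuBlocks.PElements
import Cfsg.Agent.Lib.Structure.Subnormal

/-!
# A self-centralizing elementary abelian Sylow 3-subgroup of order 9 with four-group automizer

The proof compares class multiplication coefficients of the three classes of elements of order three
with the second orthogonality relations.
-/

set_option autoImplicit false
open Cfsg

namespace Cfsg.Agent.S3805

open Subgroup

/-- The first coordinate type of an exponent vector. -/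
abbrev SameType (p q : ZMod 3 × ZMod 3) : Prop := (p.1 = 0 ↔ q.1 = 0) ∧ (p.2 = 0 ↔ q.2 = 0)

/-- The element with given exponent vector. -/
def pw {G : Type*} [Group G] (a b : G) (p : ZMod 3 × ZMod 3) : G := a ^ p.1.val * b ^ p.2.val

theorem exists_scalar : ∀ p q : ZMod 3 × ZMod 3, SameType p q →
    ∃ s : ZMod 3 × ZMod 3, s.1 ≠ 0 ∧ s.2 ≠ 0 ∧ (s.1 * p.1, s.2 * p.2) = q := by
  decide

theorem sameType_scalar : ∀ p s : ZMod 3 × ZMod 3, s.1 ≠ 0 → s.2 ≠ 0 →
    SameType p (s.1 * p.1, s.2 * p.2) := by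
  decide

theorem pow_val_add {G : Type*} [Group G] {a : G} (ha : a ^ 3 = 1) (i j : ZMod 3) :
    a ^ (i + j).val = a ^ i.val * a ^ j.val := by
  rw [← pow_add, ZMod.val_add, ← pow_eq_pow_mod _ ha]

theorem pow_val_mul {G : Type*} [Group G] {a : G} (ha : a ^ 3 = 1) (i j : ZMod 3) :
    a ^ (i * j).val = (a ^ i.val) ^ j.val := by
  rw [← pow_mul, ZMod.val_mul, ← pow_eq_pow_mod _ ha]

/-- A group element of order three is not its own inverse. -/
theorem ne_inv_of_pow_three {G : Type*} [Group G] {a : G} (ha : a ^ 3 = 1) (h1 : a ≠ 1) : a⁻¹ ≠ a := by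
  intro h
  refine h1 ?_
  have h2 : a * a = 1 := by
    nth_rewrite 1 [← h]
    exact inv_mul_cancel a
  rw [pow_three, h2, mul_one] at ha
  exact ha

/-- A basis of the group of order nine adapted to the action of its normalizer. -/
theorem exists_basis {G : Type*} [Group G] [Finite G] (T : Subgroup G) (hTc : IsMulCommutative T)
    (hexp : ∀ t ∈ T, t ^ 3 = 1) (hcard : Nat.card T = 9) (hC : centralizer (T : Set G) = T)
    (hidx : T.relIndex (normalizer (T : Set G)) = 4)
    (hsq : ∀ m ∈ normalizer (T : Set G), m * m ∈ T)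
    (hcomm : ∀ m ∈ normalizer (T : Set G), ∀ n ∈ normalizer (T : Set G), m * n * m⁻¹ * n⁻¹ ∈ T) :
    ∃ a b : G, (∀ x, x ∈ T ↔ ∃ p, pw a b p = x) ∧ Function.Injective (pw a b) ∧
      (∀ p q, pw a b (p + q) = pw a b p * pw a b q) ∧
      (∀ m ∈ normalizer (T : Set G), ∃ s : ZMod 3 × ZMod 3, s.1 ≠ 0 ∧ s.2 ≠ 0 ∧
        ∀ p, m * pw a b p * m⁻¹ = pw a b (s.1 * p.1, s.2 * p.2)) ∧
      (∀ s : ZMod 3 × ZMod 3, s.1 ≠ 0 → s.2 ≠ 0 → ∃ m ∈ normalizer (T : Set G),
        ∀ p, m * pw a b p * m⁻¹ = pw a b (s.1 * p.1, s.2 * p.2)) := by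
  classical
  set N := normalizer (T : Set G) with hN
  have hNmem : ∀ m ∈ N, ∀ t ∈ T, m * t * m⁻¹ ∈ T := fun m hm t ht => (mem_normalizer_iff.mp hm t).mp ht
  have hTcomm : ∀ x ∈ T, ∀ y ∈ T, x * y = y * x := fun x hx y hy =>
    congrArg Subtype.val (hTc.is_comm.comm ⟨x, hx⟩ ⟨y, hy⟩)
  have hconjT : ∀ x ∈ T, ∀ t ∈ T, x * t * x⁻¹ = t := fun x hx t ht => by
    rw [hTcomm x hx t ht, mul_inv_cancel_right]
  have hcent : ∀ m, (∀ t ∈ T, m * t * m⁻¹ = t) → m ∈ T := by
    intro m h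
    rw [← hC, mem_centralizer_iff]
    exact fun t ht => (mul_inv_eq_iff_eq_mul.mp (h t ht)).symm
  have hTN : T ≤ N := le_normalizer
  -- an element outside `T` which does not invert `T`
  obtain ⟨n, hn, hnT, hninv⟩ : ∃ n ∈ N, n ∉ T ∧ ∃ t ∈ T, n * t * n⁻¹ ≠ t⁻¹ := by
    by_contra h
    push Not at h
    obtain ⟨n₁, hn₁, hn₁T⟩ : ∃ n₁ ∈ N, n₁ ∉ T := by
      by_contra hh
      push Not at hh
      rw [relIndex_eq_one.mpr hh] at hidx
      omega
    have h2 : (T.subgroupOf N).index = 2 := by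
      rw [index_eq_two_iff]
      refine ⟨⟨n₁, hn₁⟩, fun m => ?_⟩
      simp only [mem_subgroupOf, coe_mul]
      by_cases hm : (m : G) ∈ T
      · exact Or.inr ⟨hm, fun hh => hn₁T (by simpa using mul_mem (inv_mem hm) hh)⟩
      · refine Or.inl ⟨hcent _ fun t ht => ?_, hm⟩
        rw [show ((m : G) * n₁) * t * ((m : G) * n₁)⁻¹ = m * (n₁ * t * n₁⁻¹) * (m : G)⁻¹ by group,
          h n₁ hn₁ hn₁T t ht, h m m.2 hm _ (inv_mem ht), inv_inv]
    change (T.subgroupOf N).index = 4 at hidx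
    omega
  have hinvol : ∀ t ∈ T, n * (n * t * n⁻¹) * n⁻¹ = t := fun t ht => by
    calc _ = n * n * t * (n * n)⁻¹ := by group
      _ = t := hconjT _ (hsq n hn) t ht
  obtain ⟨t₀, ht₀, ht₀'⟩ := hninv
  obtain ⟨t₁, ht₁, ht₁'⟩ : ∃ t ∈ T, n * t * n⁻¹ ≠ t := by
    by_contra h
    push Not at h
    exact hnT (hcent n h)
  set a := t₀ * (n * t₀ * n⁻¹) with ha_def
  set b := t₁ * (n * t₁⁻¹ * n⁻¹) with hb_def
  have haT : a ∈ T := mul_mem ht₀ (hNmem n hn t₀ ht₀)
  have hbT : b ∈ T := mul_mem ht₁ (hNmem n hn _ (inv_mem ht₁))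
  have ha3 := hexp a haT
  have hb3 := hexp b hbT
  have ha1 : a ≠ 1 := fun h => ht₀' (eq_inv_of_mul_eq_one_right h)
  have hb1 : b ≠ 1 := fun h => ht₁' (by
    have h' := eq_inv_of_mul_eq_one_right h
    rw [show n * t₁⁻¹ * n⁻¹ = (n * t₁ * n⁻¹)⁻¹ by group, inv_inj] at h'
    exact h')
  have hna : n * a * n⁻¹ = a := by
    rw [ha_def, show n * (t₀ * (n * t₀ * n⁻¹)) * n⁻¹ = (n * t₀ * n⁻¹) * (n * (n * t₀ * n⁻¹) * n⁻¹) by group,
      hinvol t₀ ht₀]
    exact hTcomm _ (hNmem n hn t₀ ht₀) _ ht₀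
  have hnb : n * b * n⁻¹ = b⁻¹ := by
    rw [hb_def, show n * (t₁ * (n * t₁⁻¹ * n⁻¹)) * n⁻¹ = (n * t₁ * n⁻¹) * (n * (n * t₁⁻¹ * n⁻¹) * n⁻¹) by group,
      hinvol _ (inv_mem ht₁), mul_inv_rev, show (n * t₁⁻¹ * n⁻¹)⁻¹ = n * t₁ * n⁻¹ by group]
  have hadd : ∀ p q, pw a b (p + q) = pw a b p * pw a b q := by
    intro p q
    have h := hTcomm _ (pow_mem haT q.1.val) _ (pow_mem hbT p.2.val)
    rw [pw, pw, pw, Prod.fst_add, Prod.snd_add, pow_val_add ha3, pow_val_add hb3]
    calc a ^ p.1.val * a ^ q.1.val * (b ^ p.2.val * b ^ q.2.val)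
        = a ^ p.1.val * (a ^ q.1.val * b ^ p.2.val) * b ^ q.2.val := by group
      _ = _ := by rw [h]; group
  have hconjn : ∀ p : ZMod 3 × ZMod 3, n * pw a b p * n⁻¹ = pw a b (p.1, 2 * p.2) := by
    intro p
    rw [pw, show n * (a ^ p.1.val * b ^ p.2.val) * n⁻¹ = (n * a * n⁻¹) ^ p.1.val * (n * b * n⁻¹) ^ p.2.val by
      rw [conj_pow, conj_pow]; group, hna, hnb, pw, pow_val_mul hb3,
      show (2 : ZMod 3).val = 2 from rfl, show b ^ 2 = b⁻¹ from
        eq_inv_of_mul_eq_one_left (by rw [← pow_succ]; exact hb3)]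
  have hzero : pw a b 0 = 1 := by simp [pw]
  have hinj : Function.Injective (pw a b) := by
    intro p q hpq
    have h0 : pw a b (p - q) = 1 := by
      have h := hadd (p - q) q
      rw [sub_add_cancel, hpq] at h
      exact right_eq_mul.mp h
    have h2 : pw a b (0, 2 * (p - q).2 - (p - q).2) = 1 := by
      have h := hadd (0, 2 * (p - q).2 - (p - q).2) (p - q)
      rw [h0, mul_one] at h
      rw [← h, show ((0, 2 * (p - q).2 - (p - q).2) + (p - q) : ZMod 3 × ZMod 3) = ((p - q).1, 2 * (p - q).2) from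
        Prod.ext (zero_add _) (sub_add_cancel _ _), ← hconjn, h0, mul_one, mul_inv_cancel]
    have hone : ∀ x : G, x ^ 3 = 1 → x ≠ 1 → ∀ i : ZMod 3, x ^ i.val = 1 → i = 0 := by
      intro x hx hx1 i hi
      have ho : orderOf x = 3 := orderOf_eq_prime hx hx1
      rw [← orderOf_dvd_iff_pow_eq_one, ho] at hi
      have := ZMod.val_lt i
      exact (ZMod.val_eq_zero i).mp (by omega)
    rw [← sub_eq_zero]
    have hb0 : (p - q).2 = 0 := by
      have h3 := hone b hb3 hb1 _ (by simpa [pw] using h2)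
      simp only [Prod.snd_sub] at h3 ⊢
      linear_combination h3
    refine Prod.ext (hone a ha3 ha1 _ ?_) hb0
    simpa [pw, hb0] using h0
  have hmem : ∀ x, x ∈ T ↔ ∃ p, pw a b p = x := by
    let e : ZMod 3 × ZMod 3 → T := fun p => ⟨pw a b p, mul_mem (pow_mem haT _) (pow_mem hbT _)⟩
    have he : Function.Bijective e := (Nat.bijective_iff_injective_and_card e).mpr
      ⟨fun p q h => hinj (congrArg Subtype.val h), by rw [hcard]; simp⟩
    intro x
    refine ⟨fun hx => ?_, fun ⟨p, hp⟩ => hp ▸ (e p).2⟩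
    obtain ⟨p, hp⟩ := he.2 ⟨x, hx⟩
    exact ⟨p, congrArg Subtype.val hp⟩
  have hpa : pw a b (1, 0) = a := by simp [pw, show (1 : ZMod 3).val = 1 from rfl]
  have hpb : pw a b (0, 1) = b := by simp [pw, show (1 : ZMod 3).val = 1 from rfl]
  -- every element of the normalizer is monomial
  have hsign : ∀ m ∈ N, ∃ s : ZMod 3 × ZMod 3, s.1 ≠ 0 ∧ s.2 ≠ 0 ∧
      ∀ p, m * pw a b p * m⁻¹ = pw a b (s.1 * p.1, s.2 * p.2) := by
    intro m hm
    have key : ∀ t ∈ T, n * (m * t * m⁻¹) * n⁻¹ = m * (n * t * n⁻¹) * m⁻¹ := fun t ht => by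
      have h := hconjT _ (hcomm n hn m hm) (m * (n * t * n⁻¹) * m⁻¹) (hNmem m hm _ (hNmem n hn t ht))
      rw [← h]; group
    obtain ⟨pa, hpa'⟩ := (hmem _).mp (hNmem m hm a haT)
    obtain ⟨pb, hpb'⟩ := (hmem _).mp (hNmem m hm b hbT)
    have h1 : pa.2 = 0 := by
      have h := key a haT
      rw [hna, ← hpa', hconjn] at h
      have h' := congrArg Prod.snd (hinj h)
      simp only at h'
      linear_combination h'
    have h2 : pb.1 = 0 := by
      have h := key b hbT
      rw [hnb, ← hpb', hconjn, show m * b⁻¹ * m⁻¹ = (m * b * m⁻¹)⁻¹ by group, ← hpb'] at h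
      have h3 : pw a b pb * pw a b (pb.1, 2 * pb.2) = 1 := by rw [h, mul_inv_cancel]
      rw [← hadd, ← hzero] at h3
      have h' := congrArg Prod.fst (hinj h3)
      simp only [Prod.fst_add, Prod.fst_zero] at h'
      have h3' : (3 : ZMod 3) = 0 := rfl
      linear_combination 2 * h' - pb.1 * h3'
    refine ⟨(pa.1, pb.2), ?_, ?_, fun p => ?_⟩
    · intro h0
      have : pa = 0 := Prod.ext h0 h1
      rw [this, hzero] at hpa'
      exact ha1 (conj_eq_one_iff.mp hpa'.symm)
    · intro h0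
      have : pb = 0 := Prod.ext h2 h0
      rw [this, hzero] at hpb'
      exact hb1 (conj_eq_one_iff.mp hpb'.symm)
    · rw [pw, show m * (a ^ p.1.val * b ^ p.2.val) * m⁻¹ = (m * a * m⁻¹) ^ p.1.val * (m * b * m⁻¹) ^ p.2.val by
        rw [conj_pow, conj_pow]; group, ← hpa', ← hpb']
      simp only [pw, h1, h2, ZMod.val_zero, pow_zero, mul_one, one_mul]
      rw [pow_val_mul ha3, pow_val_mul hb3]
  refine ⟨a, b, hmem, hinj, hadd, hsign, ?_⟩
  -- all four sign changes occur
  choose σ hσ1 hσ2 hσ using hsign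
  let Φ : N → {s : ZMod 3 × ZMod 3 // s.1 ≠ 0 ∧ s.2 ≠ 0} := fun m => ⟨σ m m.2, hσ1 m m.2, hσ2 m m.2⟩
  have hfib : ∀ m m' : N, Φ m = Φ m' → m⁻¹ * m' ∈ T.subgroupOf N := by
    intro m m' h
    rw [mem_subgroupOf, coe_mul, coe_inv]
    refine hcent _ fun t ht => ?_
    obtain ⟨p, rfl⟩ := (hmem t).mp ht
    have h1 := hσ m m.2 p
    have h2 := hσ m' m'.2 p
    rw [show σ m' m'.2 = σ m m.2 from (congrArg Subtype.val h).symm, ← h1] at h2
    calc _ = (m : G)⁻¹ * ((m' : G) * pw a b p * (m' : G)⁻¹) * m := by group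
      _ = _ := by rw [h2]; group
  intro s hs1 hs2
  by_contra hs
  have h4 : Nat.card (N ⧸ T.subgroupOf N) = 4 := by rw [← hidx]; rfl
  let Ψ : N ⧸ T.subgroupOf N → {s : ZMod 3 × ZMod 3 // s.1 ≠ 0 ∧ s.2 ≠ 0} := fun q => Φ q.out
  have hΨ : Function.Injective Ψ := fun q q' h => by
    have := QuotientGroup.eq.mpr (hfib _ _ h)
    rwa [QuotientGroup.out_eq', QuotientGroup.out_eq'] at this
  have hb := (Nat.bijective_iff_injective_and_card Ψ).mpr ⟨hΨ, by
    rw [h4, Nat.card_eq_fintype_card]; decide⟩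
  obtain ⟨q, hq⟩ := hb.2 ⟨s, hs1, hs2⟩
  exact hs ⟨_, q.out.2, fun p => (hσ _ q.out.2 p).trans (by
    rw [show σ _ q.out.2 = s from congrArg Subtype.val hq])⟩

/-- The arithmetic core: exactly one character has both differences non-zero. -/
theorem exists_unique_overlap {ι : Type*} [Fintype ι] (E F : ι → ℤ) (y : ι → ℕ) (hy : ∀ i, 0 < y i)
    (hE : ∑ i, E i ^ 2 = 3) (hF : ∑ i, F i ^ 2 = 3) (hEF : ∑ i, E i * F i = 1)
    (hyE : ∑ i, (y i : ℤ) * E i = 0) (hyF : ∑ i, (y i : ℤ) * F i = 0) :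
    ∃ i₀, E i₀ * F i₀ = 1 ∧ ∀ i, i ≠ i₀ → E i * F i = 0 := by
  classical
  have hbd : ∀ (u : ι → ℤ), ∑ i, u i ^ 2 = 3 → ∀ i, u i = -1 ∨ u i = 0 ∨ u i = 1 := by
    intro u hu i
    have h : u i ^ 2 ≤ 3 := hu ▸ Finset.single_le_sum (fun j _ => sq_nonneg (u j)) (Finset.mem_univ i)
    rcases (show u i ≤ 1 ∧ -1 ≤ u i from ⟨by nlinarith, by nlinarith⟩) with ⟨h1, h2⟩
    omega
  have hsupp : ∀ (u : ι → ℤ), ∑ i, u i ^ 2 = 3 → (Finset.univ.filter fun i => u i ≠ 0).card = 3 := by
    intro u hu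
    have h : ∀ i, u i ^ 2 = if u i ≠ 0 then 1 else 0 := fun i => by
      rcases hbd u hu i with h | h | h <;> simp [h]
    rw [Finset.sum_congr rfl (fun i _ => h i), Finset.sum_boole] at hu
    exact_mod_cast hu
  set P := Finset.univ.filter fun i => E i * F i = 1 with hP
  set M := Finset.univ.filter fun i => E i * F i = -1 with hM
  have hcases : ∀ i, E i * F i = -1 ∨ E i * F i = 0 ∨ E i * F i = 1 := fun i => by
    rcases hbd E hE i with h | h | h <;> rcases hbd F hF i with h' | h' | h' <;> simp [h, h']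
  have hsum : (P.card : ℤ) - M.card = 1 := by
    rw [← hEF, hP, hM, Finset.natCast_card_filter, Finset.natCast_card_filter, ← Finset.sum_sub_distrib]
    refine Finset.sum_congr rfl fun i _ => ?_
    rcases hcases i with h | h | h <;> simp [h]
  have hdis : Disjoint P M := Finset.disjoint_filter.mpr fun i _ h h' => by omega
  have hsub : ∀ (u : ι → ℤ), (∀ i, u i = 0 → E i * F i = 0) →
      P ∪ M ⊆ Finset.univ.filter fun i => u i ≠ 0 := fun u hu i hi => by
    refine Finset.mem_filter.mpr ⟨Finset.mem_univ _, fun h => ?_⟩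
    rcases Finset.mem_union.mp hi with h' | h' <;> rw [Finset.mem_filter, hu i h] at h' <;> omega
  have hle := Finset.card_le_card (hsub E fun i h => by rw [h, zero_mul])
  rw [hsupp E hE, Finset.card_union_of_disjoint hdis] at hle
  rcases Nat.eq_zero_or_pos M.card with h0 | h0
  · obtain ⟨i₀, hi₀⟩ := Finset.card_eq_one.mp (show P.card = 1 by omega)
    refine ⟨i₀, (Finset.mem_filter.mp (show i₀ ∈ P by rw [hi₀]; exact Finset.mem_singleton_self i₀)).2, fun i hi => ?_⟩
    rcases hcases i with h | h | h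
    · have h' : i ∈ M := Finset.mem_filter.mpr ⟨Finset.mem_univ _, h⟩
      rw [Finset.card_eq_zero.mp h0] at h'
      exact absurd h' (Finset.notMem_empty i)
    · exact h
    · exact absurd (Finset.mem_singleton.mp (hi₀ ▸ (Finset.mem_filter.mpr ⟨Finset.mem_univ _, h⟩ : i ∈ P))) hi
  exfalso
  have hfull : ∀ (u : ι → ℤ), ∑ i, u i ^ 2 = 3 → (∀ i, u i = 0 → E i * F i = 0) →
      ∀ i, u i ≠ 0 → i ∈ P ∪ M := by
    intro u hu hu0 i hi
    rw [Finset.eq_of_subset_of_card_le (hsub u hu0) (by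
      rw [hsupp u hu, Finset.card_union_of_disjoint hdis]; omega)]
    exact Finset.mem_filter.mpr ⟨Finset.mem_univ _, hi⟩
  obtain ⟨m, hm⟩ := Finset.card_eq_one.mp (show M.card = 1 by omega)
  have hzero : ∀ i, i ≠ m → E i - F i = 0 := by
    intro i hi
    by_cases hiP : i ∈ P
    · have h := (Finset.mem_filter.mp hiP).2
      rcases hbd E hE i with e | e | e <;> rw [e] at h ⊢ <;> omega
    · have hn : i ∉ P ∪ M := by simp [hiP, hm, hi]
      have e1 : E i = 0 := not_not.mp fun h => hn (hfull E hE (fun j h => by rw [h, zero_mul]) i h)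
      have e2 : F i = 0 := not_not.mp fun h => hn (hfull F hF (fun j h => by rw [h, mul_zero]) i h)
      omega
  have h : ∑ i, (y i : ℤ) * (E i - F i) = 0 := by
    simp only [mul_sub, Finset.sum_sub_distrib, hyE, hyF, sub_zero]
  rw [Finset.sum_eq_single m (fun i _ hi => by rw [hzero i hi, mul_zero]) (by simp)] at h
  have hm' := (Finset.mem_filter.mp (show m ∈ M by rw [hm]; exact Finset.mem_singleton_self m)).2
  have hy' := hy m
  rcases mul_eq_zero.mp h with e | e
  · omega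
  · rcases hbd E hE m with e' | e' | e' <;> rw [e'] at hm' e <;> omega

theorem mem_normalizer_of_conj_le {G : Type*} [Group G] [Finite G] {H : Subgroup G} {g : G}
    (h : ∀ w ∈ H, g * w * g⁻¹ ∈ H) : g ∈ normalizer (H : Set G) := by
  have e : H.map (MulAut.conj g).toMonoidHom = H :=
    eq_of_le_of_card_ge (by rintro _ ⟨w, hw, rfl⟩; exact h w hw)
      (Nat.card_congr (H.equivMapOfInjective _ (MulAut.conj g).injective).toEquiv).le
  rw [mem_normalizer_iff]
  refine fun w => ⟨h w, fun hw => ?_⟩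
  rw [← e] at hw
  obtain ⟨z, hz, hzw⟩ := hw
  rwa [← (MulAut.conj g).injective (show MulAut.conj g z = MulAut.conj g w from hzw)]

theorem relIndex_mul_natCard {G : Type*} [Group G] {H K : Subgroup G} (h : H ≤ K) :
    H.relIndex K * Nat.card H = Nat.card K := by
  rw [← relIndex_bot_left K, ← relIndex_mul_relIndex ⊥ H K bot_le h, relIndex_bot_left, mul_comm]

/-- Two elements of order three with a product of order three in `T`. -/
theorem mem_or_isConj {G : Type*} [Group G] [Finite G] (T : Sylow 3 G) (hTc : IsMulCommutative (T : Subgroup G))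
    (hN3 : ∀ w, w ∈ normalizer ((T : Subgroup G) : Set G) → w ^ 3 = 1 → w ∈ (T : Subgroup G))
    (hloc : ∀ t ∈ (T : Subgroup G), t ≠ 1 → centralizer ({t} : Set G) ≤ normalizer ((T : Subgroup G) : Set G))
    (hfus : ∀ g : G, ∀ t ∈ (T : Subgroup G), t ≠ 1 → g * t * g⁻¹ ∈ (T : Subgroup G) →
      g ∈ normalizer ((T : Subgroup G) : Set G))
    (hreal : ∀ w : G, orderOf w = 3 → IsConj w w⁻¹)
    {x y : G} (hx : orderOf x = 3) (hy : orderOf y = 3) (hxy : orderOf (x * y) = 3)
    (hxyT : x * y ∈ (T : Subgroup G)) :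
    (x ∈ (T : Subgroup G) ∧ y ∈ (T : Subgroup G)) ∨ (IsConj x y ∧ IsConj x (x * y)) := by
  classical
  have : Fact (Nat.Prime 3) := ⟨Nat.prime_three⟩
  have hx3 : x ^ 3 = 1 := hx ▸ pow_orderOf_eq_one x
  have hy3 : y ^ 3 = 1 := hy ▸ pow_orderOf_eq_one y
  have hxy3 : (x * y) ^ 3 = 1 := hxy ▸ pow_orderOf_eq_one _
  obtain ⟨u, hu⟩ : ∃ u, u = x⁻¹ * y := ⟨_, rfl⟩
  obtain ⟨v, hv⟩ : ∃ v, v = y * x⁻¹ := ⟨_, rfl⟩
  have hxx : x⁻¹ * x⁻¹ = x := by
    calc x⁻¹ * x⁻¹ = x⁻¹ * x⁻¹ * x ^ 3 := by rw [hx3, mul_one]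
      _ = x := by group
  have hyy : y * y = y⁻¹ := by
    calc y * y = y ^ 3 * y⁻¹ := by rw [pow_succ, mul_inv_cancel_right, sq]
      _ = _ := by rw [hy3, one_mul]
  have huv : u * v = v * u := by
    have h1 : u * v = (x * y * x)⁻¹ := by
      rw [hu, hv, show x⁻¹ * y * (y * x⁻¹) = x⁻¹ * (y * y) * x⁻¹ by group, hyy]; group
    have h2 : v * u = y * x * y := by
      rw [hu, hv, show y * x⁻¹ * (x⁻¹ * y) = y * (x⁻¹ * x⁻¹) * y by group, hxx]
    rw [h1, h2, inv_eq_iff_mul_eq_one]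
    calc _ = (x * y) ^ 3 := by simp only [pow_three, mul_assoc]
      _ = 1 := hxy3
  set A := closure ({u, v} : Set G) with hA
  have huA : u ∈ A := subset_closure (by simp)
  have hvA : v ∈ A := subset_closure (by simp)
  have hAc : ∀ c ∈ A, ∀ d ∈ A, c * d = d * c := by
    have h1 : A ≤ centralizer ({u, v} : Set G) := (closure_le _).mpr (by
      rintro w (rfl | rfl) <;> rw [SetLike.mem_coe, mem_centralizer_iff] <;> rintro z (rfl | rfl)
      · rfl
      · exact huv.symm
      · exact huv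
      · rfl)
    have h2 : A ≤ centralizer (A : Set G) := (closure_le _).mpr fun w hw => by
      rw [SetLike.mem_coe, mem_centralizer_iff]
      exact fun z hz => (mem_centralizer_iff.mp (h1 hz) w hw).symm
    exact fun c hc d hd => (mem_centralizer_iff.mp (h2 hc) d hd).symm
  have hle : A.map (MulAut.conj x).toMonoidHom ≤ A := by
    rw [hA, MonoidHom.map_closure, closure_le]
    rintro _ ⟨w, (rfl | rfl), rfl⟩
    · show x * w * x⁻¹ ∈ A
      rw [hu, show x * (x⁻¹ * y) * x⁻¹ = v by rw [hv]; group]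
      exact hvA
    · show x * w * x⁻¹ ∈ A
      rw [show x * w * x⁻¹ = (u * w)⁻¹ by
        rw [hu, hv, show x * (y * x⁻¹) * x⁻¹ = x * y * (x⁻¹ * x⁻¹) by group, hxx,
          show x⁻¹ * y * (y * x⁻¹) = x⁻¹ * (y * y) * x⁻¹ by group, hyy]
        group]
      exact inv_mem (mul_mem huA hvA)
  have hxA : x ∈ normalizer (A : Set G) := mem_normalizer_of_conj_le fun w hw => hle ⟨w, hw, rfl⟩
  have hyu : y = x * u := by rw [hu]; group
  by_cases h3 : 3 ∣ Nat.card A
  · left
    obtain ⟨t, ht⟩ := exists_prime_orderOf_dvd_card' 3 h3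
    have htA : (t : G) ∈ A := t.2
    let K : Subgroup G :=
      { carrier := {c | c ∈ A ∧ c ^ 3 = 1}
        one_mem' := ⟨one_mem A, one_pow 3⟩
        mul_mem' := fun {c d} hc hd => ⟨mul_mem hc.1 hd.1, by
          rw [(show Commute c d from hAc c hc.1 d hd.1).mul_pow, hc.2, hd.2, one_mul]⟩
        inv_mem' := fun {c} hc => ⟨inv_mem hc.1, by rw [inv_pow, hc.2, inv_one]⟩ }
    have hK : IsPGroup 3 K := fun c => ⟨1, Subtype.ext (by simpa using c.2.2)⟩
    have hxK : zpowers x ≤ normalizer (K : Set G) := zpowers_le.mpr (mem_normalizer_of_conj_le fun c hc =>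
      ⟨(mem_normalizer_iff.mp hxA c).mp hc.1, by rw [conj_pow, hc.2, mul_one, mul_inv_cancel]⟩)
    have hZ : IsPGroup 3 (zpowers x) := IsPGroup.of_card (n := 1) (by rw [Nat.card_zpowers, hx, pow_one])
    obtain ⟨P, hP⟩ := (hZ.to_sup_of_normal_right' hK hxK).exists_le_sylow
    obtain ⟨g, hg⟩ := MulAction.exists_smul_eq G P T
    have hgT : ∀ c ∈ (P : Subgroup G), g * c * g⁻¹ ∈ (T : Subgroup G) := by
      intro c hc
      rw [← hg]
      exact Subgroup.smul_mem_pointwise_smul c (MulAut.conj g) _ hc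
    have ht3 : (t : G) ^ 3 = 1 := congrArg Subtype.val (ht ▸ pow_orderOf_eq_one t)
    have htP : g * t * g⁻¹ ∈ (T : Subgroup G) := hgT _ (hP (mem_sup_right ⟨htA, ht3⟩))
    have hxP : g * x * g⁻¹ ∈ (T : Subgroup G) := hgT _ (hP (mem_sup_left (mem_zpowers x)))
    have ht1 : g * t * g⁻¹ ≠ 1 := fun e => by
      have h0 : orderOf (t : G) = 3 := (orderOf_coe t).trans ht
      rw [conj_eq_one_iff.mp e, orderOf_one] at h0
      exact absurd h0 (by norm_num)
    have hc1 : Commute (g * t * g⁻¹) (g * x * g⁻¹) :=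
      congrArg Subtype.val (hTc.is_comm.comm ⟨_, htP⟩ ⟨_, hxP⟩)
    have hc2 : Commute (g * t * g⁻¹) (g * y * g⁻¹) := by
      rw [hyu, show g * (x * u) * g⁻¹ = g * x * g⁻¹ * (g * u * g⁻¹) by group]
      exact hc1.mul_right ((show Commute (t : G) u from hAc _ htA _ huA).map (MulAut.conj g).toMonoidHom)
    have hyT : g * y * g⁻¹ ∈ (T : Subgroup G) := hN3 _ (hloc _ htP ht1 (mem_centralizer_singleton_iff.mpr hc2.eq.symm))
      (by rw [conj_pow, hy3, mul_one, mul_inv_cancel])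
    have hgN := hfus g (x * y) hxyT (fun e => by rw [e, orderOf_one] at hxy; omega) (by
      rw [show g * (x * y) * g⁻¹ = g * x * g⁻¹ * (g * y * g⁻¹) by group]
      exact mul_mem hxP hyT)
    exact ⟨(mem_normalizer_iff.mp hgN x).mpr hxP, (mem_normalizer_iff.mp hgN y).mpr hyT⟩
  · right
    set H := zpowers x ⊔ A with hH
    have hx' : zpowers x ≤ normalizer (A : Set G) := zpowers_le.mpr hxA
    have h9 : Nat.card H ∣ 3 * Nat.card A := by
      rw [hH, sup_comm, mul_comm]
      have h := CfsgLib.Structure.card_sup_dvd_mul (N := A) (M := zpowers x) hx'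
      rwa [Nat.card_zpowers, hx] at h
    have hxH : x ∈ H := mem_sup_left (mem_zpowers x)
    have hyH : y ∈ H := hyu ▸ mul_mem hxH (mem_sup_right huA)
    have hfact : (Nat.card H).factorization 3 = 1 := by
      refine le_antisymm ?_ ?_
      · by_contra hlt
        have h : 3 * 3 ∣ Nat.card H := by
          rw [← sq]
          exact (pow_dvd_pow 3 (show 2 ≤ (Nat.card H).factorization 3 by omega)).trans (Nat.ordProj_dvd _ _)
        exact h3 (Nat.dvd_of_mul_dvd_mul_left (by norm_num) (h.trans h9))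
      · have h : 3 ∣ Nat.card H := hx ▸ Subgroup.orderOf_dvd_natCard H hxH
        exact Nat.prime_three.factorization_pos_of_dvd Nat.card_pos.ne' h
    have key : ∀ w, w ∈ H → orderOf w = 3 → IsConj x w := by
      intro w hwH hw
      have hc : ∀ (z : G) (hz : z ∈ H), orderOf z = 3 →
          Nat.card (zpowers (⟨z, hz⟩ : H)) = 3 ^ (Nat.card H).factorization 3 := fun z hz ho => by
        rw [hfact, pow_one, Nat.card_zpowers, orderOf_mk, ho]
      obtain ⟨m, hm⟩ := MulAction.exists_smul_eq H (Sylow.ofCard _ (hc x hxH hx)) (Sylow.ofCard _ (hc w hwH hw))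
      have hwm : (⟨w, hwH⟩ : H) ∈ (zpowers (⟨x, hxH⟩ : H)).map (MulAut.conj m).toMonoidHom := by
        have h := mem_zpowers (⟨w, hwH⟩ : H)
        rw [show zpowers (⟨w, hwH⟩ : H) = (zpowers (⟨x, hxH⟩ : H)).map (MulAut.conj m).toMonoidHom from
          (congrArg Sylow.toSubgroup hm).symm] at h
        exact h
      rw [MonoidHom.map_zpowers] at hwm
      obtain ⟨i, hi⟩ := mem_zpowers_iff.mp hwm
      have hi' : ((m : G) * x * (m : G)⁻¹) ^ i = w := congrArg Subtype.val hi
      have hox : orderOf ((m : G) * x * (m : G)⁻¹) = 3 := ((MulAut.conj (m : G)).orderOf_eq x).trans hx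
      rw [← zpow_mod_orderOf, hox] at hi'
      have hconj : IsConj x ((m : G) * x * (m : G)⁻¹) := isConj_iff.mpr ⟨m, rfl⟩
      have h0 : i % 3 = 0 ∨ i % 3 = 1 ∨ i % 3 = 2 := by omega
      rcases h0 with h | h | h <;> push_cast at hi' <;> rw [h] at hi'
      · rw [zpow_zero] at hi'
        rw [← hi', orderOf_one] at hw
        omega
      · rw [zpow_one] at hi'
        exact hi' ▸ hconj
      · refine hconj.trans ((hreal _ hox).trans ?_)
        rw [← hi', show ((m : G) * x * (m : G)⁻¹) ^ (2 : ℤ) = ((m : G) * x * (m : G)⁻¹)⁻¹ from ?_]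
        rw [zpow_two]
        have h3' := pow_orderOf_eq_one ((m : G) * x * (m : G)⁻¹)
        rw [hox, pow_succ, sq] at h3'
        exact eq_inv_of_mul_eq_one_left h3'
    exact ⟨key y hyH hy, key (x * y) (mul_mem hxH hyH) hxy⟩


set_option maxHeartbeats 4000000 in
/-- Let G be a finite group whose Sylow 3-subgroup T is elementary abelian of order 9 and self-centralizing, with N_G(T)/T a Klein four-group, and suppose that the centralizer of every nonidentity element of T lies in N_G(T). Then T is normal in G. -/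
theorem result {G : Type*} [Group G] [Finite G]
    (T : Sylow 3 G) (hT : Cfsg.IsElementaryAbelian 3 (T : Subgroup G)) (hcard : Nat.card T = 9)
    (hC : Subgroup.centralizer ((T : Subgroup G) : Set G) = T)
    [hn : ((T : Subgroup G).subgroupOf (Subgroup.normalizer ((T : Subgroup G) : Set G))).Normal]
    (hK : IsKleinFour (↥(Subgroup.normalizer ((T : Subgroup G) : Set G)) ⧸
      (T : Subgroup G).subgroupOf (Subgroup.normalizer ((T : Subgroup G) : Set G))))
    (hloc : ∀ t ∈ (T : Subgroup G), t ≠ 1 →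
      Subgroup.centralizer ({t} : Set G) ≤ Subgroup.normalizer ((T : Subgroup G) : Set G)) :
    Subgroup.normalizer ((T : Subgroup G) : Set G) = ⊤ := by
  classical
  have := Fintype.ofFinite G
  set N := Subgroup.normalizer ((T : Subgroup G) : Set G) with hNdef
  have hTc : IsMulCommutative (T : Subgroup G) := hT.1
  have hTN : (T : Subgroup G) ≤ N := le_normalizer
  have hidx : (T : Subgroup G).relIndex N = 4 := IsKleinFour.card_four (G := ↥N ⧸ (T : Subgroup G).subgroupOf N)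
  have hQ : ∀ q : ↥N ⧸ (T : Subgroup G).subgroupOf N, q * q = 1 := fun q => by
    simpa [hK.exponent_two, sq] using Monoid.pow_exponent_eq_one q
  obtain ⟨a, b, hmem, hinj, hadd, hsign, hall⟩ := exists_basis (T : Subgroup G) hTc hT.2 hcard hC hidx
    (fun m hm => by
      have h := hQ (⟨m, hm⟩ : ↥N)
      rwa [← QuotientGroup.mk_mul, QuotientGroup.eq_one_iff] at h)
    (fun m hm n hn' => by
      have h : ((⟨m, hm⟩ * ⟨n, hn'⟩ * (⟨m, hm⟩ : ↥N)⁻¹ * (⟨n, hn'⟩ : ↥N)⁻¹ : ↥N) :
          ↥N ⧸ (T : Subgroup G).subgroupOf N) = 1 := by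
        simp only [QuotientGroup.mk_mul, QuotientGroup.mk_inv]
        rw [inv_eq_of_mul_eq_one_right (hQ _), inv_eq_of_mul_eq_one_right (hQ _), mul_assoc]
        exact hQ _
      exact mem_subgroupOf.mp ((QuotientGroup.eq_one_iff _).mp h))
  have hzero : pw a b 0 = 1 := by simp [pw]
  have hpT : ∀ p, pw a b p ∈ (T : Subgroup G) := fun p => (hmem _).mpr ⟨p, rfl⟩
  have hne : ∀ p, p ≠ 0 → pw a b p ≠ 1 := fun p hp h => hp (hinj (h.trans hzero.symm))
  have hord : ∀ p, p ≠ 0 → orderOf (pw a b p) = 3 := fun p hp => by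
    have := Fact.mk Nat.prime_three
    exact orderOf_eq_prime (hT.2 _ (hpT p)) (hne p hp)
  -- 3-subgroups of the normalizer lie in `T`
  have hN3' : ∀ Q : Subgroup G, IsPGroup 3 Q → Q ≤ N → Q ≤ (T : Subgroup G) := fun Q hQ' hle =>
    le_sup_left.trans (T.is_maximal' (hQ'.to_sup_of_normal_right' T.isPGroup' hle) le_sup_right).le
  have hN3 : ∀ w, w ∈ N → w ^ 3 = 1 → w ∈ (T : Subgroup G) := fun w hw hw3 =>
    hN3' (zpowers w) (fun c => ⟨1, by
      obtain ⟨_, i, rfl⟩ := c
      refine Subtype.ext ?_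
      rw [pow_one, Subgroup.coe_pow]
      show (w ^ i) ^ 3 = 1
      rw [← zpow_natCast, ← zpow_mul, mul_comm, zpow_mul, zpow_natCast, hw3, one_zpow]⟩)
      (zpowers_le.mpr hw) (mem_zpowers w)
  -- `T` is a trivial intersection subgroup
  have hTI : ∀ P : Sylow 3 G, ∀ t ∈ (T : Subgroup G), t ≠ 1 → t ∈ (P : Subgroup G) → P = T := by
    intro P t ht ht1 htP
    have hPc : ∀ c ∈ (P : Subgroup G), c * t = t * c := fun c hc => by
      let e := P.equiv T
      exact congrArg Subtype.val (e.injective (show e (⟨c, hc⟩ * ⟨t, htP⟩) = e (⟨t, htP⟩ * ⟨c, hc⟩) by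
        rw [map_mul, map_mul]; exact hTc.is_comm.comm _ _))
    have hle : (P : Subgroup G) ≤ (T : Subgroup G) := hN3' _ P.isPGroup' fun c hc =>
      hloc t ht ht1 (mem_centralizer_singleton_iff.mpr (hPc c hc))
    exact Sylow.ext (P.is_maximal' T.isPGroup' hle).symm
  have hfus : ∀ g : G, ∀ t ∈ (T : Subgroup G), t ≠ 1 → g * t * g⁻¹ ∈ (T : Subgroup G) → g ∈ N := by
    intro g t ht ht1 hgt
    have h := hTI (g • T) (g * t * g⁻¹) hgt (fun e => ht1 (conj_eq_one_iff.mp e))
      (Subgroup.smul_mem_pointwise_smul t (MulAut.conj g) _ ht)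
    exact Sylow.smul_eq_iff_mem_normalizer.mp h
  have hconj : ∀ p q, p ≠ 0 → (IsConj (pw a b p) (pw a b q) ↔ SameType p q) := by
    intro p q hp
    constructor
    · intro h
      obtain ⟨g, hg⟩ := isConj_iff.mp h
      obtain ⟨s, hs1, hs2, hs⟩ := hsign g (hfus g _ (hpT p) (hne p hp) (hg ▸ hpT q))
      rw [show q = (s.1 * p.1, s.2 * p.2) from hinj (hg.symm.trans (hs p))]
      exact sameType_scalar p s hs1 hs2
    · intro h
      obtain ⟨s, hs1, hs2, hq⟩ := exists_scalar p q h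
      obtain ⟨m, -, hm⟩ := hall s hs1 hs2
      exact isConj_iff.mpr ⟨m, by rw [hm, hq]⟩
  have hinvpw : ∀ p, (pw a b p)⁻¹ = pw a b (-p) := fun p =>
    inv_eq_of_mul_eq_one_right (by rw [← hadd, add_neg_cancel, hzero])
  have hrealp : ∀ p, p ≠ 0 → IsConj (pw a b p) (pw a b p)⁻¹ := fun p hp => by
    rw [hinvpw, hconj p (-p) hp]
    exact ⟨by simp, by simp⟩
  have hreal : ∀ w : G, orderOf w = 3 → IsConj w w⁻¹ := by
    intro w hw
    have := Fact.mk Nat.prime_three
    obtain ⟨P, hP⟩ := (IsPGroup.of_card (G := zpowers w) (p := 3) (n := 1)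
      (by rw [Nat.card_zpowers, hw, pow_one])).exists_le_sylow
    obtain ⟨g, hg⟩ := MulAction.exists_smul_eq G P T
    have hgw : g * w * g⁻¹ ∈ (T : Subgroup G) := by
      rw [← hg]
      exact Subgroup.smul_mem_pointwise_smul w (MulAut.conj g) _ (hP (mem_zpowers w))
    obtain ⟨p, hp⟩ := (hmem _).mp hgw
    have hp0 : p ≠ 0 := by
      rintro rfl
      rw [hzero, eq_comm, conj_eq_one_iff] at hp
      rw [hp, orderOf_one] at hw
      omega
    have h1 : IsConj w (pw a b p) := isConj_iff.mpr ⟨g, hp.symm⟩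
    have h2 : IsConj w⁻¹ (pw a b p)⁻¹ := isConj_iff.mpr ⟨g, by rw [hp]; group⟩
    exact h1.trans ((hrealp p hp0).trans h2.symm)
  -- the orders of the centralizers
  have hmon : ∀ p, p ≠ 0 → ∀ m ∈ centralizer ({pw a b p} : Set G), ∃ s : ZMod 3 × ZMod 3, s.1 ≠ 0 ∧ s.2 ≠ 0 ∧
      (s.1 * p.1, s.2 * p.2) = p ∧ (s = (1, 1) → m ∈ (T : Subgroup G)) ∧
      ∀ r, m * pw a b r * m⁻¹ = pw a b (s.1 * r.1, s.2 * r.2) := by
    intro p hp m hm
    obtain ⟨s, hs1, hs2, hs⟩ := hsign m (hloc _ (hpT p) (hne p hp) hm)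
    refine ⟨s, hs1, hs2, hinj ?_, fun h => ?_, hs⟩
    · rw [← hs, mul_inv_eq_iff_eq_mul]
      exact mem_centralizer_singleton_iff.mp hm
    · rw [← hC, mem_centralizer_iff]
      intro t ht
      obtain ⟨r, rfl⟩ := (hmem t).mp ht
      have := hs r
      rw [h, one_mul, one_mul, mul_inv_eq_iff_eq_mul] at this
      exact this.symm
  have hTle : ∀ p, (T : Subgroup G) ≤ centralizer ({pw a b p} : Set G) := fun p t ht =>
    mem_centralizer_singleton_iff.mpr (congrArg Subtype.val (hTc.is_comm.comm ⟨t, ht⟩ ⟨_, hpT p⟩))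
  have hCd : Nat.card (centralizer ({pw a b (1, 1)} : Set G)) = 9 := by
    rw [← hcard]
    refine congrArg (fun H : Subgroup G => Nat.card H) (le_antisymm (fun m hm => ?_) (hTle _))
    obtain ⟨s, -, -, hfix, hT1, -⟩ := hmon _ (by decide) m hm
    exact hT1 (by rw [← hfix]; simp)
  have hC18 : ∀ p e : ZMod 3 × ZMod 3, p ≠ 0 → e.1 ≠ 0 → e.2 ≠ 0 → e ≠ (1, 1) → e.1 * e.1 = 1 → e.2 * e.2 = 1 →
      (e.1 * p.1, e.2 * p.2) = p →
      (∀ s : ZMod 3 × ZMod 3, s.1 ≠ 0 → s.2 ≠ 0 → (s.1 * p.1, s.2 * p.2) = p → s = (1, 1) ∨ s = e) →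
      Nat.card (centralizer ({pw a b p} : Set G)) = 18 := by
    intro p e hp he1 he2 hne' hee1 hee2 hfix honly
    obtain ⟨v, -, hv⟩ := hall e he1 he2
    set C := centralizer ({pw a b p} : Set G)
    have hvC : v ∈ C := mem_centralizer_singleton_iff.mpr (mul_inv_eq_iff_eq_mul.mp (by rw [hv, hfix]))
    have hvT : v ∉ (T : Subgroup G) := by
      intro h
      refine hne' (Prod.ext ?_ ?_)
      · have h1 := hv (1, 0)
        rw [mul_inv_eq_iff_eq_mul.mpr (show v * pw a b (1, 0) = pw a b (1, 0) * v from congrArg Subtype.val (hTc.is_comm.comm ⟨v, h⟩ ⟨_, hpT (1, 0)⟩))] at h1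
        simpa using (congrArg Prod.fst (hinj h1)).symm
      · have h1 := hv (0, 1)
        rw [mul_inv_eq_iff_eq_mul.mpr (show v * pw a b (0, 1) = pw a b (0, 1) * v from congrArg Subtype.val (hTc.is_comm.comm ⟨v, h⟩ ⟨_, hpT (0, 1)⟩))] at h1
        simpa using (congrArg Prod.snd (hinj h1)).symm
    have h2 : (T : Subgroup G).relIndex C = 2 := by
      refine index_eq_two_iff.mpr ⟨⟨v, hvC⟩, fun m => ?_⟩
      simp only [mem_subgroupOf, coe_mul]
      by_cases hm : (m : G) ∈ (T : Subgroup G)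
      · exact Or.inr ⟨hm, fun h => hvT (by simpa using mul_mem (inv_mem hm) h)⟩
      · refine Or.inl ⟨?_, hm⟩
        obtain ⟨s, hs1, hs2, hs, hsT, hsr⟩ := hmon p hp m m.2
        rcases honly s hs1 hs2 hs with rfl | rfl
        · exact absurd (hsT rfl) hm
        · rw [← hC, mem_centralizer_iff]
          intro t ht
          obtain ⟨r, rfl⟩ := (hmem t).mp ht
          have h1 : (m : G) * v * pw a b r * ((m : G) * v)⁻¹ = pw a b r := by
            rw [show (m : G) * v * pw a b r * ((m : G) * v)⁻¹ = m * (v * pw a b r * v⁻¹) * (m : G)⁻¹ by group,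
              hv, hsr]
            simp only [← mul_assoc, hee1, hee2, one_mul]
          exact (mul_inv_eq_iff_eq_mul.mp h1).symm
    have h3 := relIndex_mul_natCard (H := (T : Subgroup G)) (K := C) (hTle p)
    rw [h2, hcard] at h3
    omega
  have hCa := hC18 (1, 0) (1, 2) (by decide) (by decide) (by decide) (by decide) (by decide) (by decide) (by decide)
    (by decide)
  have hCb := hC18 (0, 1) (2, 1) (by decide) (by decide) (by decide) (by decide) (by decide) (by decide) (by decide)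
    (by decide)
  -- the class multiplication coefficients
  have hpairs : ∀ p q r, p ≠ 0 → q ≠ 0 → r ≠ 0 → ¬ (SameType p q ∧ SameType p r) →
      (CfsgLib.ClassCount.pairs (pw a b p) (pw a b q) {pw a b r}).card =
        ((Finset.univ : Finset ((ZMod 3 × ZMod 3) × (ZMod 3 × ZMod 3))).filter
          fun z => SameType p z.1 ∧ SameType q z.2 ∧ z.1 + z.2 = r).card := by
    intro p q r hp hq hr hnot
    symm
    refine Finset.card_bij (fun z _ => (pw a b z.1, pw a b z.2)) ?_ ?_ ?_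
    · intro z hz
      obtain ⟨h1, h2, h3⟩ := (Finset.mem_filter.mp hz).2
      simp only [CfsgLib.ClassCount.pairs, Finset.mem_filter, Finset.mem_product, CfsgLib.ClassCount.mem_cls,
        Finset.mem_singleton]
      exact ⟨⟨(hconj p z.1 hp).mpr h1, (hconj q z.2 hq).mpr h2⟩, by rw [← hadd, h3]⟩
    · intro z _ w _ h
      simp only [Prod.mk.injEq] at h
      exact Prod.ext (hinj h.1) (hinj h.2)
    · rintro ⟨x, y⟩ h
      simp only [CfsgLib.ClassCount.pairs, Finset.mem_filter, Finset.mem_product, CfsgLib.ClassCount.mem_cls,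
        Finset.mem_singleton] at h
      obtain ⟨⟨hpx, hqy⟩, hxy⟩ := h
      have ho : ∀ {u w : G}, IsConj u w → orderOf w = orderOf u := fun {u w} h => by
        obtain ⟨c, rfl⟩ := isConj_iff.mp h
        exact (MulAut.conj c).orderOf_eq u
      rcases mem_or_isConj T hTc hN3 hloc hfus hreal ((ho hpx).trans (hord p hp)) ((ho hqy).trans (hord q hq))
        (by rw [hxy]; exact hord r hr) (by rw [hxy]; exact hpT r) with ⟨hxT, hyT⟩ | ⟨h1, h2⟩
      · obtain ⟨i, rfl⟩ := (hmem x).mp hxT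
        obtain ⟨j, rfl⟩ := (hmem y).mp hyT
        rw [← hadd] at hxy
        exact ⟨(i, j), Finset.mem_filter.mpr ⟨Finset.mem_univ _,
          (hconj p i hp).mp hpx, (hconj q j hq).mp hqy, hinj hxy⟩, rfl⟩
      · rw [hxy] at h2
        exact absurd ⟨(hconj p q hp).mp ((hpx.trans h1).trans hqy.symm), (hconj p r hp).mp (hpx.trans h2)⟩ hnot
  -- integral character values
  choose y hy using fun χ : Cfsg.IrrCharacter G =>
    (⟨_, CfsgLib.ClassCount.degree_eq χ⟩ : ∃ d : ℕ, (χ : G → ℂ) 1 = d ∧ d ∣ Nat.card G ∧ 0 < d)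
  choose A hA hA3 using fun χ : Cfsg.IrrCharacter G =>
    CfsgLib.MathieuBlocks.exists_int_value_three χ (hord (1, 0) (by decide)) (hrealp _ (by decide)) (hy χ).1
  choose B hB hB3 using fun χ : Cfsg.IrrCharacter G =>
    CfsgLib.MathieuBlocks.exists_int_value_three χ (hord (0, 1) (by decide)) (hrealp _ (by decide)) (hy χ).1
  choose D hD hD3 using fun χ : Cfsg.IrrCharacter G =>
    CfsgLib.MathieuBlocks.exists_int_value_three χ (hord (1, 1) (by decide)) (hrealp _ (by decide)) (hy χ).1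
  have horth : ∀ (u w : G) (U W : Cfsg.IrrCharacter G → ℤ), (∀ χ : Cfsg.IrrCharacter G, (χ : G → ℂ) u = U χ) →
      (∀ χ : Cfsg.IrrCharacter G, (χ : G → ℂ) w = W χ) →
      ∑ χ, U χ * W χ = if IsConj u w then (Nat.card (centralizer ({u} : Set G)) : ℤ) else 0 := by
    intro u w U W hU hW
    have h := CfsgLib.Characters.column_orth u w
    simp only [hU, hW, map_intCast] at h
    apply Int.cast_injective (α := ℂ)
    push_cast
    exact h
  have hAA : ∑ χ, A χ * A χ = 18 := by rw [horth _ _ A A hA hA, if_pos (IsConj.refl _), hCa]; rfl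
  have hBB : ∑ χ, B χ * B χ = 18 := by rw [horth _ _ B B hB hB, if_pos (IsConj.refl _), hCb]; rfl
  have hDD : ∑ χ, D χ * D χ = 9 := by rw [horth _ _ D D hD hD, if_pos (IsConj.refl _), hCd]; rfl
  have hAB : ∑ χ, A χ * B χ = 0 := by
    rw [horth _ _ A B hA hB, if_neg (by rw [hconj _ _ (by decide)]; decide)]
  have hAD : ∑ χ, A χ * D χ = 0 := by
    rw [horth _ _ A D hA hD, if_neg (by rw [hconj _ _ (by decide)]; decide)]
  have hBD : ∑ χ, B χ * D χ = 0 := by
    rw [horth _ _ B D hB hD, if_neg (by rw [hconj _ _ (by decide)]; decide)]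
  have hy' : ∀ χ : Cfsg.IrrCharacter G, (χ : G → ℂ) 1 = ((y χ : ℤ) : ℂ) := fun χ => by
    rw [(hy χ).1, Int.cast_natCast]
  have hone : ∀ p, p ≠ 0 → ¬ IsConj (pw a b p) 1 := fun p hp h => hne p hp (isConj_one_left.mp h)
  have hyA : ∑ χ, A χ * (y χ : ℤ) = 0 := by rw [horth _ _ A _ hA hy', if_neg (hone _ (by decide))]
  have hyB : ∑ χ, B χ * (y χ : ℤ) = 0 := by rw [horth _ _ B _ hB hy', if_neg (hone _ (by decide))]
  have hyD : ∑ χ, D χ * (y χ : ℤ) = 0 := by rw [horth _ _ D _ hD hy', if_neg (hone _ (by decide))]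
  have hyy : ∑ χ, (y χ : ℤ) * (y χ : ℤ) = (Nat.card G : ℤ) := by
    rw [horth _ _ _ _ hy' hy', if_pos (IsConj.refl _),
      show centralizer ({(1 : G)} : Set G) = ⊤ from
        (eq_top_iff' _).mpr fun g => mem_centralizer_singleton_iff.mpr (by rw [mul_one, one_mul]), card_top]
  -- the differences
  choose E hE using fun χ => (show (3 : ℤ) ∣ A χ - D χ by have := hA3 χ; have := hD3 χ; omega)
  choose F hF using fun χ => (show (3 : ℤ) ∣ B χ - D χ by have := hB3 χ; have := hD3 χ; omega)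
  have hEE : ∑ χ, E χ ^ 2 = 3 := by
    have h : ∀ χ, 9 * E χ ^ 2 = A χ * A χ - 2 * (A χ * D χ) + D χ * D χ := fun χ => by
      linear_combination (-(A χ - D χ) - 3 * E χ) * hE χ
    have h9 : 9 * ∑ χ, E χ ^ 2 = 27 := by
      rw [Finset.mul_sum, Finset.sum_congr rfl fun χ _ => h χ, Finset.sum_add_distrib, Finset.sum_sub_distrib,
        ← Finset.mul_sum, hAA, hAD, hDD]
      norm_num
    omega
  have hFF : ∑ χ, F χ ^ 2 = 3 := by
    have h : ∀ χ, 9 * F χ ^ 2 = B χ * B χ - 2 * (B χ * D χ) + D χ * D χ := fun χ => by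
      linear_combination (-(B χ - D χ) - 3 * F χ) * hF χ
    have h9 : 9 * ∑ χ, F χ ^ 2 = 27 := by
      rw [Finset.mul_sum, Finset.sum_congr rfl fun χ _ => h χ, Finset.sum_add_distrib, Finset.sum_sub_distrib,
        ← Finset.mul_sum, hBB, hBD, hDD]
      norm_num
    omega
  have hEF : ∑ χ, E χ * F χ = 1 := by
    have h : ∀ χ, 9 * (E χ * F χ) = A χ * B χ - A χ * D χ - B χ * D χ + D χ * D χ := fun χ => by
      linear_combination (-(B χ - D χ)) * hE χ + (-(3 * E χ)) * hF χ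
    have h9 : 9 * ∑ χ, E χ * F χ = 9 := by
      rw [Finset.mul_sum, Finset.sum_congr rfl fun χ _ => h χ, Finset.sum_add_distrib, Finset.sum_sub_distrib,
        Finset.sum_sub_distrib, hAB, hAD, hBD, hDD]
      norm_num
    omega
  have hyE : ∑ χ, (y χ : ℤ) * E χ = 0 := by
    have h9 : 3 * ∑ χ, (y χ : ℤ) * E χ = 0 := by
      rw [Finset.mul_sum, Finset.sum_congr rfl fun χ _ => show 3 * ((y χ : ℤ) * E χ) = A χ * y χ - D χ * y χ by
        linear_combination (-(y χ : ℤ)) * hE χ, Finset.sum_sub_distrib, hyA, hyD, sub_zero]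
    omega
  have hyF : ∑ χ, (y χ : ℤ) * F χ = 0 := by
    have h9 : 3 * ∑ χ, (y χ : ℤ) * F χ = 0 := by
      rw [Finset.mul_sum, Finset.sum_congr rfl fun χ _ => show 3 * ((y χ : ℤ) * F χ) = B χ * y χ - D χ * y χ by
        linear_combination (-(y χ : ℤ)) * hF χ, Finset.sum_sub_distrib, hyB, hyD, sub_zero]
    omega
  obtain ⟨χ₀, hχ₀, huniq⟩ := exists_unique_overlap E F y (fun χ => (hy χ).2.2) hEE hFF hEF hyE hyF
  -- the key identity
  let c := fun χ : Cfsg.IrrCharacter G => (CfsgLib.ClassCount.cofDegree χ : ℤ)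
  have hS : ∀ (p q r : ZMod 3 × ZMod 3) (U W R : Cfsg.IrrCharacter G → ℤ), p ≠ 0 → q ≠ 0 → r ≠ 0 →
      ¬ (SameType p q ∧ SameType p r) →
      (∀ χ : Cfsg.IrrCharacter G, (χ : G → ℂ) (pw a b p) = U χ) →
      (∀ χ : Cfsg.IrrCharacter G, (χ : G → ℂ) (pw a b q) = W χ) →
      (∀ χ : Cfsg.IrrCharacter G, (χ : G → ℂ) (pw a b r) = R χ) →
      ((((Finset.univ : Finset ((ZMod 3 × ZMod 3) × (ZMod 3 × ZMod 3))).filter
          fun z => SameType p z.1 ∧ SameType q z.2 ∧ z.1 + z.2 = r).card : ℤ)) *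
          Nat.card (centralizer ({pw a b p} : Set G)) * Nat.card (centralizer ({pw a b q} : Set G)) =
        ∑ χ, c χ * (U χ * W χ * R χ) := by
    intro p q r U W R hp hq hr hnot hU hW hR
    have h := CfsgLib.ClassCount.card_pairs_mul_centralizers (pw a b p) (pw a b q) {pw a b r}
    rw [hpairs p q r hp hq hr hnot] at h
    simp only [Finset.sum_singleton, hU, hW, ← CfsgLib.Characters.classFunction_eq_of_isConj
      (CfsgLib.Characters.irr_isClassFunction _) (hrealp r hr), hR] at h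
    apply Int.cast_injective (α := ℂ)
    simp only [c]
    push_cast
    exact h
  have h1 := hS (1, 0) (1, 0) (0, 1) A A B (by decide) (by decide) (by decide) (by decide) hA hA hB
  have h2 := hS (1, 0) (1, 0) (1, 1) A A D (by decide) (by decide) (by decide) (by decide) hA hA hD
  have h3 := hS (1, 0) (0, 1) (1, 1) A B D (by decide) (by decide) (by decide) (by decide) hA hB hD
  have h4 := hS (1, 1) (1, 1) (1, 0) D D A (by decide) (by decide) (by decide) (by decide) hD hD hA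
  rw [hCa] at h1 h2
  rw [hCa, hCb] at h3
  rw [hCd] at h4
  rw [show ((Finset.univ : Finset ((ZMod 3 × ZMod 3) × (ZMod 3 × ZMod 3))).filter
    fun z => SameType (1, 0) z.1 ∧ SameType (1, 0) z.2 ∧ z.1 + z.2 = (0, 1)).card = 0 by decide] at h1
  rw [show ((Finset.univ : Finset ((ZMod 3 × ZMod 3) × (ZMod 3 × ZMod 3))).filter
    fun z => SameType (1, 0) z.1 ∧ SameType (1, 0) z.2 ∧ z.1 + z.2 = (1, 1)).card = 0 by decide] at h2
  rw [show ((Finset.univ : Finset ((ZMod 3 × ZMod 3) × (ZMod 3 × ZMod 3))).filter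
    fun z => SameType (1, 0) z.1 ∧ SameType (0, 1) z.2 ∧ z.1 + z.2 = (1, 1)).card = 1 by decide] at h3
  rw [show ((Finset.univ : Finset ((ZMod 3 × ZMod 3) × (ZMod 3 × ZMod 3))).filter
    fun z => SameType (1, 1) z.1 ∧ SameType (1, 1) z.2 ∧ z.1 + z.2 = (1, 0)).card = 2 by decide] at h4
  have hQsum : ∑ χ, c χ * (9 * (E χ * F χ) * A χ) = -162 := by
    have h : ∀ χ, c χ * (9 * (E χ * F χ) * A χ) = c χ * (A χ * A χ * B χ) - c χ * (A χ * A χ * D χ) -
        c χ * (A χ * B χ * D χ) + c χ * (D χ * D χ * A χ) := fun χ => by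
      linear_combination (-(c χ * A χ * (B χ - D χ))) * hE χ + (-(3 * c χ * A χ * E χ)) * hF χ
    rw [Finset.sum_congr rfl fun χ _ => h χ, Finset.sum_add_distrib, Finset.sum_sub_distrib, Finset.sum_sub_distrib,
      ← h1, ← h2, ← h3, ← h4]
    norm_num
  rw [Finset.sum_eq_single χ₀ (fun χ _ hχ => by rw [huniq χ hχ]; ring) (fun h => absurd (Finset.mem_univ χ₀) h),
    hχ₀] at hQsum
  have hkey : (c χ₀) * A χ₀ = -18 := by linarith
  -- the number of Sylow subgroups
  have hn9 : N.index % 9 = 1 := by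
    have := Fact.mk Nat.prime_three
    rw [show N.index = Nat.card (Sylow 3 G) from T.card_eq_index_normalizer.symm, Nat.card_eq_fintype_card]
    let := Fintype.ofFinite (T : Subgroup G)
    have hb := MulAction.sum_card_fixedBy_eq_card_orbits_mul_card_group (T : Subgroup G) (Sylow 3 G)
    have hfix : ∀ t : (T : Subgroup G), t ≠ 1 → Fintype.card (MulAction.fixedBy (Sylow 3 G) t) = 1 := by
      intro t ht
      rw [Fintype.card_eq_one_iff]
      refine ⟨⟨T, ?_⟩, fun P => Subtype.ext ?_⟩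
      · exact Sylow.smul_eq_iff_mem_normalizer.mpr (hTN t.2)
      · have h : (t : G) • P.1 = P.1 := P.2
        have h' : (t : G) ∈ normalizer ((P.1 : Subgroup G) : Set G) := Sylow.smul_eq_iff_mem_normalizer.mp h
        refine hTI P.1 t t.2 (fun e => ht (Subtype.ext e)) ?_
        have hz : IsPGroup 3 (zpowers (t : G)) := T.isPGroup'.to_le (zpowers_le.mpr t.2)
        exact (le_sup_left.trans (P.1.is_maximal' (hz.to_sup_of_normal_right' P.1.isPGroup' (zpowers_le.mpr h'))
          le_sup_right).le) (mem_zpowers _)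
    rw [← Finset.add_sum_erase _ _ (Finset.mem_univ (1 : (T : Subgroup G))),
      Finset.sum_congr rfl (fun t ht => hfix t (Finset.mem_erase.mp ht).1), Finset.sum_const, smul_eq_mul, mul_one,
      Finset.card_erase_of_mem (Finset.mem_univ _), Finset.card_univ, ← Nat.card_eq_fintype_card (α := (T : Subgroup G)),
      hcard] at hb
    have h1f : Fintype.card (MulAction.fixedBy (Sylow 3 G) (1 : (T : Subgroup G))) = Fintype.card (Sylow 3 G) :=
      Fintype.card_congr (Equiv.subtypeUnivEquiv fun P => one_smul _ P)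
    rw [h1f] at hb
    omega
  have hG : Nat.card G = 36 * N.index := by
    rw [← N.card_mul_index, ← relIndex_mul_natCard (H := (T : Subgroup G)) (K := N) hTN, hidx, hcard]
  -- the degree is too large
  have hdeg : (y χ₀ : ℤ) * c χ₀ = 36 * (N.index : ℤ) := by
    have h := CfsgLib.ClassCount.degree_mul_cofDegree χ₀
    rw [show Cfsg.charDegree (χ₀ : G → ℂ) = y χ₀ by
      exact_mod_cast (CfsgLib.ClassCount.degree_eq χ₀).1.symm.trans (hy χ₀).1, hG] at h
    simp only [c]
    exact_mod_cast h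
  have hy0 : (y χ₀ : ℤ) = -2 * (N.index : ℤ) * A χ₀ := by
    have h : (y χ₀ : ℤ) * -18 = 36 * (N.index : ℤ) * A χ₀ := by rw [← hkey, ← mul_assoc, hdeg]
    linarith
  have hlt : (y χ₀ : ℤ) * y χ₀ < 36 * (N.index : ℤ) := by
    have h1v : (CfsgLib.Characters.principalIrr G : G → ℂ) (pw a b (1, 0)) = 1 ∧
        (CfsgLib.Characters.principalIrr G : G → ℂ) (pw a b (1, 1)) = 1 ∧
        (CfsgLib.Characters.principalIrr G : G → ℂ) 1 = 1 := ⟨rfl, rfl, rfl⟩
    have hne0 : CfsgLib.Characters.principalIrr G ≠ χ₀ := by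
      intro h
      rw [← h] at hχ₀
      have ha1 : A (CfsgLib.Characters.principalIrr G) = 1 := by exact_mod_cast (hA _).symm.trans h1v.1
      have hd1 : D (CfsgLib.Characters.principalIrr G) = 1 := by exact_mod_cast (hD _).symm.trans h1v.2.1
      have he := hE (CfsgLib.Characters.principalIrr G)
      rw [ha1, hd1] at he
      rw [show E (CfsgLib.Characters.principalIrr G) = 0 by omega, zero_mul] at hχ₀
      exact zero_ne_one hχ₀
    have hy1 : y (CfsgLib.Characters.principalIrr G) = 1 := by exact_mod_cast (hy _).1.symm.trans h1v.2.2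
    have h := Finset.add_le_sum (f := fun χ => (y χ : ℤ) * (y χ : ℤ)) (fun χ _ => mul_self_nonneg _)
      (Finset.mem_univ χ₀) (Finset.mem_univ (CfsgLib.Characters.principalIrr G)) hne0.symm
    rw [hyy, hy1, hG] at h
    push_cast at h
    linarith
  have hA1 : 1 ≤ A χ₀ * A χ₀ := by
    have : A χ₀ ≠ 0 := fun h => by rw [h, mul_zero] at hkey; omega
    exact mul_self_pos.mpr this
  have hidx0 : 0 < N.index := Nat.pos_of_ne_zero N.index_ne_zero_of_finite
  rw [hy0] at hlt
  have hlt9 : (N.index : ℤ) < 9 := by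
    have e : 4 * (N.index : ℤ) * ((N.index : ℤ) * (A χ₀ * A χ₀)) < 4 * (N.index : ℤ) * 9 := by linarith
    exact lt_of_le_of_lt (le_mul_of_one_le_right (Int.natCast_nonneg _) hA1) (lt_of_mul_lt_mul_left e (by positivity))
  exact index_eq_one.mp (by omega)

end Cfsg.Agent.S3805
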