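import Cfsg.Statements.S3807
import Cfsg.Agent.Lib.PGroup.IndexP

set_option autoImplicit false
open Cfsg
open scoped commutatorElement

namespace Cfsg.Agent.S3807

theorem card_subgroups_order_p {Q : Type*} [Group Q] [Finite Q] {p : ℕ} [hp : Fact p.Prime]
    (hQ : Nat.card Q = p ^ 2) (hexp : ∀ x : Q, x ^ p = 1) :
    Nat.card {K : Subgroup Q // Nat.card K = p} = p + 1 := by
  classical
  let e : {x : Q // x ≠ 1} ≃ Σ K : {K : Subgroup Q // Nat.card K = p}, {y : (K : Subgroup Q) // y ≠ 1} :=
    { toFun := fun x => ⟨⟨Subgroup.zpowers x.1, by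
          rw [Nat.card_zpowers]; exact orderOf_eq_prime (hexp x.1) x.2⟩,
        ⟨⟨x.1, Subgroup.mem_zpowers x.1⟩, fun h => x.2 (congrArg Subtype.val h)⟩⟩
      invFun := fun y => ⟨((y.2.1 : (y.1 : Subgroup Q)) : Q), fun h => y.2.2 (Subtype.ext h)⟩
      left_inv := fun x => rfl
      right_inv := by
        rintro ⟨⟨K, hK⟩, ⟨y, hy⟩, hy1⟩
        have hKy : Subgroup.zpowers y = K := by
          refine Subgroup.eq_of_le_of_card_ge (Subgroup.zpowers_le.mpr hy) ?_
          rw [Nat.card_zpowers, hK, orderOf_eq_prime (hexp y) fun h => hy1 (Subtype.ext h)]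
        subst hKy
        rfl }
  have hne : ∀ (α : Type _) [Finite α] (a : α), Nat.card {x : α // x ≠ a} = Nat.card α - 1 := fun α _ a => by
    have := Fintype.ofFinite α
    rw [Nat.card_eq_fintype_card, Nat.card_eq_fintype_card, Fintype.card_subtype_compl, Fintype.card_subtype_eq]
  have h := Nat.card_congr e
  have := Fintype.ofFinite {K : Subgroup Q // Nat.card K = p}
  rw [hne Q 1, hQ, Nat.card_sigma, Finset.sum_congr rfl fun (K : {K : Subgroup Q // Nat.card K = p}) _ =>
    show Nat.card {y : (K : Subgroup Q) // y ≠ 1} = p - 1 by rw [hne _ 1, K.2], Finset.sum_const,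
    Finset.card_univ, smul_eq_mul] at h
  rw [Nat.card_eq_fintype_card]
  have e2 : p ^ 2 - 1 = (p + 1) * (p - 1) := by rw [← Nat.sq_sub_sq, one_pow]
  rw [e2] at h
  exact (Nat.eq_of_mul_eq_mul_right (by have := hp.out.two_le; omega) h).symm


/-- Let S be a non-abelian finite p-group with an abelian subgroup A of index p. Then [S : Z(S)] = p·#[S,S], and either [S,S] has order p, S/Z(S) is elementary abelian of order p², and S has exactly p + 1 abelian subgroups of index p; or [S,S] has order at least p² and A is the only abelian subgroup of index p in S. -/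
theorem result {S : Type*} [Group S] [Finite S] (p : ℕ) [Fact p.Prime] (hS : IsPGroup p S) (hna : ¬ IsMulCommutative S)
    (A : Subgroup S) (hA : IsMulCommutative ↥A) (hAi : A.index = p) :
    (Subgroup.center S).index = p * Nat.card (commutator S) ∧
      ((Nat.card (commutator S) = p ∧ Cfsg.IsElementaryAbelian p (⊤ : Subgroup (S ⧸ Subgroup.center S)) ∧
          Nat.card (S ⧸ Subgroup.center S) = p ^ 2 ∧
          Nat.card {B : Subgroup S // IsMulCommutative ↥B ∧ B.index = p} = p + 1) ∨
        (p ^ 2 ≤ Nat.card (commutator S) ∧ ∀ B : Subgroup S, IsMulCommutative ↥B → B.index = p → B = A)) := by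
  have hp' : Fact p.Prime := inferInstance
  have hidx := CfsgLib.PGroup.index_center_of_abelian_index hS hna hA hAi
  have hS' : commutator S ≠ ⊥ := fun h => hna ⟨⟨fun a b => commutatorElement_eq_one_iff_mul_comm.mp (by
    have h1 : ⁅a, b⁆ ∈ commutator S := Subgroup.commutator_mem_commutator (Subgroup.mem_top a) (Subgroup.mem_top b)
    rwa [h, Subgroup.mem_bot] at h1)⟩⟩
  obtain ⟨m, hm⟩ := (hS.to_subgroup (commutator S)).exists_card_eq
  have hm0 : m ≠ 0 := fun h => hS' (Subgroup.card_eq_one.mp (by rw [hm, h, pow_zero]))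
  refine ⟨hidx, ?_⟩
  rcases eq_or_ne m 1 with rfl | hm1
  · rw [pow_one] at hm
    have hQ : Nat.card (S ⧸ Subgroup.center S) = p ^ 2 := by
      rw [← Subgroup.index_eq_card, hidx, hm, sq]
    have hab : IsMulCommutative (S ⧸ Subgroup.center S) := ⟨⟨fun a b =>
      IsPGroup.commutative_of_card_eq_prime_sq hQ a b⟩⟩
    have hexp : ∀ x : S ⧸ Subgroup.center S, x ^ p = 1 := fun x => by
      have h1 : orderOf x ∣ p ^ 2 := hQ ▸ orderOf_dvd_natCard x
      obtain ⟨i, hi, he⟩ := (Nat.dvd_prime_pow hp'.out).mp h1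
      rcases Nat.lt_or_ge i 2 with h2 | h2
      · exact orderOf_dvd_iff_pow_eq_one.mp (he ▸ (pow_dvd_pow p (by omega : i ≤ 1)).trans (dvd_of_eq (pow_one p)))
      · exfalso
        have : IsCyclic (S ⧸ Subgroup.center S) := isCyclic_of_orderOf_eq_card x
          (by rw [he, hQ, show i = 2 by omega])
        exact hna ⟨⟨fun a b => (MonoidHom.isMulCommutative_of_isCyclic_of_ker_le_center
          (QuotientGroup.mk' (Subgroup.center S)) (by simp)).is_comm.comm a b⟩⟩
    refine Or.inl ⟨hm, ⟨inferInstance, fun a _ => hexp a⟩, hQ, ?_⟩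
    set π := QuotientGroup.mk' (Subgroup.center S)
    have hπ : Function.Surjective π := QuotientGroup.mk'_surjective _
    have hcard : ∀ K : Subgroup (S ⧸ Subgroup.center S), Nat.card K = p ↔ (K.comap π).index = p := by
      intro K
      rw [Subgroup.index_comap_of_surjective _ hπ]
      have h1 := K.card_mul_index
      rw [hQ, sq] at h1
      constructor <;> intro h <;> rw [h] at h1
      · exact Nat.eq_of_mul_eq_mul_left hp'.out.pos h1
      · exact Nat.eq_of_mul_eq_mul_right hp'.out.pos h1
    rw [← card_subgroups_order_p hQ hexp]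
    symm
    refine Nat.card_congr
      { toFun := fun K => ⟨K.1.comap π, ?_, (hcard _).mp K.2⟩
        invFun := fun B => ⟨B.1.map π, (hcard _).mpr ?_⟩
        left_inv := fun K => Subtype.ext (Subgroup.map_comap_eq_self_of_surjective hπ K.1)
        right_inv := fun B => Subtype.ext ?_ }
    · have : IsCyclic K.1 := isCyclic_of_prime_card K.2
      refine MonoidHom.isMulCommutative_of_isCyclic_of_ker_le_center (π.subgroupComap K.1) ?_
      intro a ha
      refine Subgroup.mem_center_iff.mpr fun g => Subtype.ext (Subgroup.mem_center_iff.mp ?_ (g : S))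
      exact (QuotientGroup.eq_one_iff _).mp (congrArg Subtype.val ha)
    · rw [Subgroup.comap_map_eq, QuotientGroup.ker_mk',
        sup_eq_left.mpr (CfsgLib.PGroup.center_le_of_abelian_index hna B.2.1 B.2.2)]
      exact B.2.2
    · show (B.1.map π).comap π = B.1
      rw [Subgroup.comap_map_eq, QuotientGroup.ker_mk',
        sup_eq_left.mpr (CfsgLib.PGroup.center_le_of_abelian_index hna B.2.1 B.2.2)]
  · refine Or.inr ⟨hm ▸ Nat.pow_le_pow_right hp'.out.pos (by omega), fun B hB hBi => ?_⟩
    by_contra hne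
    have hnle : ¬ B ≤ A := fun h => hne (Subgroup.eq_of_le_of_card_ge h (by
      have e1 := A.card_mul_index
      have e2 := B.card_mul_index
      rw [hAi] at e1
      rw [hBi, ← e1] at e2
      exact (Nat.eq_of_mul_eq_mul_right hp'.out.pos e2).ge))
    obtain ⟨x, hxB, hxA⟩ := SetLike.not_le_iff_exists.mp hnle
    have hcen : A ⊓ B ≤ Subgroup.center S := fun z hz => Subgroup.mem_center_iff.mpr fun g => by
      have h1 : ⊤ ≤ Subgroup.centralizer ({z} : Set S) := by
        rw [← CfsgLib.PGroup.sup_eq_top_of_notMem hAi hxA]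
        refine sup_le (fun a ha => Subgroup.mem_centralizer_singleton_iff.mpr ?_)
          (Subgroup.zpowers_le.mpr (Subgroup.mem_centralizer_singleton_iff.mpr ?_))
        · exact congrArg Subtype.val (hA.is_comm.comm ⟨a, ha⟩ ⟨z, hz.1⟩)
        · exact congrArg Subtype.val (hB.is_comm.comm ⟨x, hxB⟩ ⟨z, hz.2⟩)
      exact Subgroup.mem_centralizer_singleton_iff.mp (h1 (Subgroup.mem_top g))
    have h1 : (Subgroup.center S).index ≤ p * p := by
      refine le_trans (Nat.le_of_dvd (Nat.pos_of_ne_zero Subgroup.FiniteIndex.index_ne_zero)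
        (Subgroup.index_dvd_of_le hcen)) ?_
      have h2 := Subgroup.index_inf_le (H := A) (K := B)
      rwa [hAi, hBi] at h2
    rw [hidx, hm] at h1
    have h2 : p ^ 2 ≤ p ^ m := Nat.pow_le_pow_right hp'.out.pos (by omega)
    have h3 := Nat.le_of_mul_le_mul_left h1 hp'.out.pos
    have := hp'.out.two_le
    nlinarith

end Cfsg.Agent.S3807
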