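import Cfsg.Statements.S3808
import Cfsg.Agent.Lib.PGroup.IndexP

set_option autoImplicit false
open Cfsg

namespace Cfsg.Agent.S3808

/-- Let S be a finite p-group with an extraspecial subgroup Q of index p. Then either Z(S) = Z(Q), or S = Q·Z(S) and Z(S) has order p². -/
theorem result {S : Type*} [Group S] [Finite S] (p : ℕ) [Fact p.Prime] (hS : IsPGroup p S) (Q : Subgroup S) (hQ : Cfsg.IsExtraspecial p ↥Q) (hQi : Q.index = p) :
    Subgroup.center S = (Subgroup.center ↥Q).map Q.subtype ∨
      (Q ⊔ Subgroup.center S = ⊤ ∧ Nat.card (Subgroup.center S) = p ^ 2) := by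
  have hn := CfsgLib.PGroup.normal_of_index_eq hS hQi
  set Z := (Subgroup.center Q).map Q.subtype
  have hle := CfsgLib.PGroup.extraspecial_center_map_le hS hQ
  have hinf : Subgroup.center S ⊓ Q ≤ Z := fun z hz => ⟨⟨z, hz.2⟩,
    Subgroup.mem_center_iff.mpr fun g => Subtype.ext (Subgroup.mem_center_iff.mp hz.1 g), rfl⟩
  by_cases hc : Subgroup.center S ≤ Q
  · exact Or.inl (le_antisymm (fun z hz => hinf ⟨hz, hc hz⟩) hle)
  · obtain ⟨x, hx, hxQ⟩ := SetLike.not_le_iff_exists.mp hc
    have hsup : Q ⊔ Subgroup.center S = ⊤ := top_le_iff.mp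
      ((CfsgLib.PGroup.sup_eq_top_of_notMem hQi hxQ).ge.trans (sup_le_sup_left (Subgroup.zpowers_le.mpr hx) _))
    refine Or.inr ⟨hsup, ?_⟩
    have e : Subgroup.center S ⊓ Q = Z := le_antisymm hinf (le_inf hle (Subgroup.map_subtype_le _))
    have h1 : Q.relIndex (Subgroup.center S) = p := by
      rw [← Subgroup.relIndex_sup_left (Subgroup.center S) Q, hsup, Subgroup.relIndex_top_right, hQi]
    have h2 := Subgroup.relIndex_mul_relIndex ⊥ Z (Subgroup.center S) bot_le hle
    rw [Subgroup.relIndex_bot_left, Subgroup.relIndex_bot_left,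
      show Z.relIndex (Subgroup.center S) = p by rw [← e, Subgroup.inf_relIndex_left]; exact h1,
      Subgroup.card_map_of_injective Q.subtype_injective, hQ.2] at h2
    rw [← h2, sq]

end Cfsg.Agent.S3808
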