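import Cfsg.Statements.S3809
import Cfsg.Agent.Lib.PGroup.IndexP

set_option autoImplicit false
open Cfsg
open scoped commutatorElement

namespace Cfsg.Agent.S3809

/-- Let S be a finite p-group with an extraspecial subgroup of index p. Then S has order p^(2+2n) for some n ≥ 1, derived length at most 3, and exponent dividing p³. -/
theorem result {S : Type*} [Group S] [Finite S] (p : ℕ) [Fact p.Prime] (hS : IsPGroup p S) (Q : Subgroup S) (hQ : Cfsg.IsExtraspecial p ↥Q) (hQi : Q.index = p) :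
    (∃ n : ℕ, 1 ≤ n ∧ Nat.card S = p ^ (2 + 2 * n)) ∧ derivedSeries S 3 = ⊥ ∧ ∀ x : S, x ^ (p ^ 3) = 1 := by
  have hn := CfsgLib.PGroup.normal_of_index_eq hS hQi
  obtain ⟨n, hn1, hcard⟩ := CfsgLib.PGroup.extraspecial_card hQ
  have hQ' : Nat.card (S ⧸ Q) = p := by rw [← Subgroup.index_eq_card, hQi]
  refine ⟨⟨n, hn1, ?_⟩, ?_, fun x => ?_⟩
  · rw [← Q.card_mul_index, hQi, hcard, ← pow_succ]
    ring_nf
  · have h1 : derivedSeries S 1 ≤ Q := by
      have : IsCyclic (S ⧸ Q) := isCyclic_of_prime_card hQ'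
      rw [derivedSeries_one, ← QuotientGroup.ker_mk' Q, commutator_def, Subgroup.commutator_le]
      intro g _ h _
      rw [MonoidHom.mem_ker, map_commutatorElement, commutatorElement_eq_one_iff_mul_comm]
      exact (IsCyclic.commGroup (α := S ⧸ Q)).mul_comm _ _
    have h2 : derivedSeries S 2 ≤ (Subgroup.center Q).map Q.subtype := by
      rw [derivedSeries_succ]
      refine (Subgroup.commutator_mono h1 h1).trans (Subgroup.commutator_le.mpr fun a ha b hb => ?_)
      exact ⟨⁅(⟨a, ha⟩ : Q), ⟨b, hb⟩⁆, CfsgLib.PGroup.extraspecial_comm_mem_center hQ _ _, rfl⟩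
    rw [derivedSeries_succ, eq_bot_iff, Subgroup.commutator_le]
    intro a ha b hb
    obtain ⟨a', ha', rfl⟩ := h2 ha
    obtain ⟨b', hb', rfl⟩ := h2 hb
    rw [Subgroup.mem_bot, ← map_commutatorElement,
      commutatorElement_eq_one_iff_mul_comm.mpr (Subgroup.mem_center_iff.mp hb' a'), map_one]
  · have h1 : x ^ p ∈ Q := by
      rw [← QuotientGroup.eq_one_iff, QuotientGroup.mk_pow]
      exact hQ' ▸ pow_card_eq_one'
    have h2 := congrArg Subtype.val (CfsgLib.PGroup.extraspecial_pow_sq_eq_one hQ ⟨_, h1⟩)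
    rw [Subgroup.coe_pow, Subgroup.coe_one, ← pow_mul] at h2
    rwa [show p ^ 3 = p * p ^ 2 by ring]

end Cfsg.Agent.S3809
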