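import Cfsg.Statements.S3810
import Cfsg.Agent.Lib.PGroup.IndexP

set_option autoImplicit false
open Cfsg
open scoped commutatorElement

namespace Cfsg.Agent.S3810

/-- Let S be a finite p-group with an extraspecial subgroup of index p. Then S has an abelian subgroup of index p if and only if S has order p⁴. -/
theorem result {S : Type*} [Group S] [Finite S] (p : ℕ) [Fact p.Prime] (hS : IsPGroup p S) (Q : Subgroup S) (hQ : Cfsg.IsExtraspecial p ↥Q) (hQi : Q.index = p) :
    (∃ A : Subgroup S, IsMulCommutative ↥A ∧ A.index = p) ↔ Nat.card S = p ^ 4 := by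
  have hp' : Fact p.Prime := inferInstance
  have hn := CfsgLib.PGroup.normal_of_index_eq hS hQi
  obtain ⟨n, hn1, hcard⟩ := CfsgLib.PGroup.extraspecial_card hQ
  have hS4 : Nat.card S = p ^ (2 + 2 * n) := by
    rw [← Q.card_mul_index, hQi, hcard, ← pow_succ]
    ring_nf
  constructor
  · rintro ⟨A, hA, hAi⟩
    have hab : IsMulCommutative (A.subgroupOf Q) := ⟨⟨fun a b => Subtype.ext (Subtype.ext (by
      show ((a.1 : S) * b.1) = (b.1 : S) * a.1
      exact congrArg Subtype.val (hA.is_comm.comm ⟨_, Subgroup.mem_subgroupOf.mp a.2⟩ ⟨_, Subgroup.mem_subgroupOf.mp b.2⟩)))⟩⟩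
    have h := CfsgLib.PGroup.extraspecial_abelian_card hQ (A.subgroupOf Q) hab
    have hrel : A.relIndex Q ≤ p := hAi ▸ Nat.le_of_dvd (Nat.pos_of_ne_zero Subgroup.FiniteIndex.index_ne_zero)
      (by have := CfsgLib.PGroup.normal_of_index_eq hS hAi; exact Subgroup.relIndex_dvd_index_of_normal A Q)
    have h3 : p ^ (2 * n) ≤ Nat.card (A.subgroupOf Q) := by
      have h4 := (A.subgroupOf Q).card_mul_index
      rw [hcard, ← Subgroup.relIndex] at h4
      have h5 : p ^ (2 * n) * p ≤ Nat.card (A.subgroupOf Q) * p := by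
        rw [← pow_succ, show 2 * n + 1 = 1 + 2 * n by ring, ← h4]
        exact Nat.mul_le_mul_left _ hrel
      exact Nat.le_of_mul_le_mul_right h5 hp'.out.pos
    have h6 := (Nat.mul_le_mul h3 h3).trans h
    rw [hcard, ← pow_add, ← pow_succ', Nat.pow_le_pow_iff_right hp'.out.one_lt] at h6
    rw [hS4, show n = 1 by omega]
  · intro h4
    obtain rfl : n = 1 := by
      rw [hS4] at h4
      have := Nat.pow_right_injective hp'.out.two_le h4
      omega
    set Z := (Subgroup.center Q).map Q.subtype
    have hZcard : Nat.card Z = p := by rw [Subgroup.card_map_of_injective Q.subtype_injective]; exact hQ.2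
    have hZc : Z ≤ Subgroup.center S := CfsgLib.PGroup.extraspecial_center_map_le hS hQ
    have hZn : Z.Normal := inferInstance
    -- `a ∈ Q ∖ Z` central modulo `Z`
    set π := QuotientGroup.mk' Z
    have hQne : Nontrivial (Q.map π) := by
      rw [Subgroup.nontrivial_iff_ne_bot, Ne, Subgroup.map_eq_bot_iff, QuotientGroup.ker_mk']
      intro h
      have := Subgroup.card_le_of_le h
      rw [hcard, hZcard] at this
      exact absurd this (not_le.mpr (lt_self_pow₀ hp'.out.one_lt (by norm_num)))
    have : (Q.map π).Normal := Subgroup.Normal.map hn π (QuotientGroup.mk'_surjective Z)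
    obtain ⟨b, hb, hbc, hb1⟩ : ∃ b ∈ Q.map π, b ∈ Subgroup.center (S ⧸ Z) ∧ b ≠ 1 := by
      have hSq : IsPGroup p (S ⧸ Z) := hS.to_quotient Z
      let _ : MulAction (ConjAct (S ⧸ Z)) (Q.map π) := inferInstance
      have hdvd : p ∣ Nat.card (Q.map π) := by
        obtain ⟨i, hi⟩ := (hSq.to_subgroup (Q.map π)).exists_card_eq
        rcases i with _ | i
        · rw [pow_zero, Subgroup.card_eq_one] at hi
          exact absurd hi ((Subgroup.nontrivial_iff_ne_bot _).mp hQne)
        · exact hi ▸ dvd_pow_self p (by omega)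
      have h1 : (1 : Q.map π) ∈ MulAction.fixedPoints (ConjAct (S ⧸ Z)) (Q.map π) := fun g => smul_one g
      obtain ⟨b, hb, hb1⟩ := IsPGroup.exists_fixed_point_of_prime_dvd_card_of_fixed_point
        (hSq.of_equiv ConjAct.toConjAct) (Q.map π) hdvd h1
      refine ⟨b, b.2, Subgroup.mem_center_iff.mpr fun g => ?_, fun h => hb1 (Subtype.ext h.symm)⟩
      have h2 := congrArg Subtype.val (hb (ConjAct.toConjAct g))
      exact mul_inv_eq_iff_eq_mul.mp h2
    obtain ⟨a, ha, rfl⟩ := hb
    have haZ : a ∉ Z := fun h => hb1 ((QuotientGroup.eq_one_iff a).mpr h)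
    have hmem : ∀ s : S, ⁅s, a⁆ ∈ Z := fun s => by
      rw [← QuotientGroup.eq_one_iff]
      show π ⁅s, a⁆ = 1
      rw [map_commutatorElement, commutatorElement_eq_one_iff_mul_comm]
      exact Subgroup.mem_center_iff.mp hbc (π s)
    let f : S →* Z :=
      { toFun := fun s => ⟨⁅s, a⁆, hmem s⟩
        map_one' := Subtype.ext (by simp [commutatorElement_def])
        map_mul' := fun s t => Subtype.ext (by
          show ⁅s * t, a⁆ = ⁅s, a⁆ * ⁅t, a⁆
          rw [CfsgLib.PGroup.commutatorElement_mul_left_of_central _ _ _ (hZc (hmem t))]) }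
    have hfker : f.ker = Subgroup.centralizer ({a} : Set S) := by
      ext s
      rw [MonoidHom.mem_ker, Subgroup.mem_centralizer_singleton_iff]
      exact ⟨fun h => commutatorElement_eq_one_iff_mul_comm.mp (congrArg Subtype.val h),
        fun h => Subtype.ext (commutatorElement_eq_one_iff_mul_comm.mpr h)⟩
    set C := Subgroup.centralizer ({a} : Set S)
    have hCi : C.index = p := by
      have h1 : C.index ∣ p := by
        rw [← hfker, Subgroup.index_ker, ← hZcard]
        exact Subgroup.card_subgroup_dvd_card _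
      refine (hp'.out.eq_one_or_self_of_dvd _ h1).resolve_left fun h => haZ ?_
      refine ⟨⟨a, ha⟩, Subgroup.mem_center_iff.mpr fun g => Subtype.ext ?_, rfl⟩
      exact Subgroup.mem_centralizer_singleton_iff.mp ((Subgroup.index_eq_one.mp h).ge (Subgroup.mem_top (g : S)))
    refine ⟨C, ?_, hCi⟩
    -- `C` has order `p^3` and its centre has order at least `p^2`
    set N := Z ⊔ Subgroup.zpowers a
    have hZC : Z ≤ C := fun z hz => Subgroup.mem_centralizer_singleton_iff.mpr
      (Subgroup.mem_center_iff.mp (hZc hz) a).symm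
    have hNC : N ≤ C := sup_le hZC (Subgroup.zpowers_le.mpr (Subgroup.mem_centralizer_singleton_iff.mpr rfl))
    have hNc : N.subgroupOf C ≤ Subgroup.center C := fun m hm => Subgroup.mem_center_iff.mpr fun c => Subtype.ext (by
      have h1 : N ≤ Subgroup.centralizer ({(c : S)} : Set S) := sup_le
        (fun z hz => Subgroup.mem_centralizer_singleton_iff.mpr (Subgroup.mem_center_iff.mp (hZc hz) c).symm)
        (Subgroup.zpowers_le.mpr (Subgroup.mem_centralizer_singleton_iff.mpr
          (Subgroup.mem_centralizer_singleton_iff.mp c.2).symm))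
      exact (Subgroup.mem_centralizer_singleton_iff.mp (h1 (Subgroup.mem_subgroupOf.mp hm))).symm)
    have hCcard : Nat.card C = p ^ 3 := by
      have h1 := C.card_mul_index
      rw [hCi, hS4] at h1
      exact Nat.eq_of_mul_eq_mul_right hp'.out.pos (h1.trans (by ring))
    have hNcard : p ^ 2 ≤ Nat.card N := by
      obtain ⟨i, hi⟩ := (hS.to_subgroup N).exists_card_eq
      rw [hi]
      refine Nat.pow_le_pow_right hp'.out.pos ?_
      by_contra hlt
      have h1 : Z = N := Subgroup.eq_of_le_of_card_ge le_sup_left (by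
        rw [hi, hZcard]
        exact (Nat.pow_le_pow_right hp'.out.pos (by omega : i ≤ 1)).trans_eq (pow_one p))
      exact haZ (h1.ge (Subgroup.mem_sup_right (Subgroup.mem_zpowers a)))
    have hq : Nat.card (C ⧸ Subgroup.center C) ≤ p := by
      have h1 := Subgroup.card_eq_card_quotient_mul_card_subgroup (Subgroup.center C)
      have h2 : p ^ 2 ≤ Nat.card (Subgroup.center C) := hNcard.trans
        ((Nat.card_congr (Subgroup.subgroupOfEquivOfLe hNC).toEquiv).ge.trans (Subgroup.card_le_of_le hNc))
      rw [hCcard] at h1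
      by_contra hlt
      nlinarith [hp'.out.pos]
    obtain ⟨i, hi⟩ := ((hS.to_subgroup C).to_quotient (Subgroup.center C)).exists_card_eq
    rcases i with _ | _ | i
    · rw [pow_zero, Nat.card_eq_one_iff_unique] at hi
      have := hi.1
      exact ⟨⟨fun x y => Subgroup.mem_center_iff.mp ((QuotientGroup.eq_one_iff y).mp (Subsingleton.elim _ _)) x⟩⟩
    · have : IsCyclic (C ⧸ Subgroup.center C) := isCyclic_of_prime_card (hi.trans (pow_one p))
      exact MonoidHom.isMulCommutative_of_isCyclic_of_ker_le_center (QuotientGroup.mk' (Subgroup.center C)) (by simp)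
    · exfalso
      rw [hi] at hq
      exact absurd hq (not_le.mpr (lt_self_pow₀ hp'.out.one_lt (by omega)))

end Cfsg.Agent.S3810
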