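import Cfsg.Statements.S3815

set_option autoImplicit false
open Cfsg

namespace Cfsg.Agent.S3815

theorem coprime_orderOf_conj {G : Type*} [Group G] {p : ℕ} (g x : G) (h : (orderOf x).Coprime p) :
    (orderOf (g * x * g⁻¹)).Coprime p := by
  rwa [show g * x * g⁻¹ = MulAut.conj g x from rfl, MulEquiv.orderOf_eq]


/-- Let G be a finite group, p a prime and d ∈ G an element of order prime to p. If dg has order prime to p for every element g ∈ G of order prime to p, then d ∈ O_{p'}(G). -/
theorem result {G : Type*} [Group G] [Finite G] {p : ℕ} [Fact p.Prime]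
    (d : G) (hd : (orderOf d).Coprime p)
    (h : ∀ g : G, (orderOf g).Coprime p → (orderOf (d * g)).Coprime p) :
    d ∈ Cfsg.pPrimeCore p G := by
  let K := Subgroup.normalClosure ({d} : Set G)
  have key : ∀ x ∈ K, ∀ g : G, (orderOf g).Coprime p → (orderOf (x * g)).Coprime p := by
    intro x hx
    have hx' : x ∈ Submonoid.closure (Group.conjugatesOfSet ({d} : Set G)) := by
      rw [← Subgroup.closure_toSubmonoid_of_finite]; exact hx
    clear hx
    induction hx' using Submonoid.closure_induction with
    | mem y hy =>
      intro g hg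
      rw [Group.mem_conjugatesOfSet_iff] at hy
      obtain ⟨w, hw, hwy⟩ := hy
      obtain rfl := Set.mem_singleton_iff.mp hw
      obtain ⟨c, rfl⟩ := isConj_iff.mp hwy
      have h1 := coprime_orderOf_conj c _ (h _ (coprime_orderOf_conj c⁻¹ g hg))
      simpa [mul_assoc] using h1
    | one => intro g hg; simpa using hg
    | mul a b _ _ ha hb => intro g hg; rw [mul_assoc]; exact ha _ (hb g hg)
  have hK : (Nat.card K).Coprime p := by
    by_contra hc
    have hdvd : p ∣ Nat.card K := by
      by_contra hd
      exact hc ((Fact.out : p.Prime).coprime_iff_not_dvd.mpr hd).symm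
    obtain ⟨z, hz⟩ := exists_prime_orderOf_dvd_card' p hdvd
    have h1 := key z z.2 1 (by simp)
    rw [mul_one, Subgroup.orderOf_coe, hz, Nat.coprime_self] at h1
    exact (Fact.out : p.Prime).ne_one h1
  exact le_sSup (show K ∈ {N : Subgroup G | N.Normal ∧ (Nat.card N).Coprime p} from
    ⟨Subgroup.normalClosure_normal, hK⟩) (Subgroup.subset_normalClosure rfl)

end Cfsg.Agent.S3815
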