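import Cfsg.Statements.S3816
import Cfsg.Agent.Lib.Coprime.ElemFix.Main

set_option autoImplicit false
open Cfsg
open CfsgLib.Coprime CfsgLib.Coprime.ElemFix Subgroup
open scoped commutatorElement

namespace Cfsg.Agent.S3816

/-- Let p be an odd prime, H a finite solvable group of order prime to p, and x an automorphism of H of order p (so P = ⟨x⟩ has prime order p > 2 and acts coprimely on H). For h ∈ H let [h, P] be the subgroup generated by the commutators h⁻¹·xⁱ(h), and let [H, P] be the subgroup generated by all of these. Then the fixed points of x in [H, P] are generated by the fixed points of x in the subgroups [h, P], h ∈ H. -/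
theorem result {H : Type*} [Group H] [Finite H]
    [Group.IsSolvable H] {p : ℕ} [Fact p.Prime] (hp : p ≠ 2) (hcop : (Nat.card H).Coprime p)
    (x : MulAut H) (hx : orderOf x = p) :
    Subgroup.closure {c : H | ∃ h : H, ∃ i : ℕ, c = h⁻¹ * (x ^ i) h} ⊓ (x : H →* H).eqLocus (MonoidHom.id H) =
      ⨆ h : H, Subgroup.closure {c : H | ∃ i : ℕ, c = h⁻¹ * (x ^ i) h} ⊓ (x : H →* H).eqLocus (MonoidHom.id H) := by
  classical
  refine le_antisymm ?_ (iSup_le fun h => inf_le_inf_right _
    (closure_mono fun c ⟨i, hi⟩ => ⟨h, i, hi⟩))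
  let φ : zpowers x →* MulAut H := (zpowers x).subtype
  haveI : Finite (zpowers x) := Nat.finite_of_card_ne_zero
    (by rw [Nat.card_zpowers, hx]; exact (Fact.out : p.Prime).ne_zero)
  haveI : Finite (H ⋊[φ] zpowers x) :=
    Finite.of_equiv _ (SemidirectProduct.equivProd (N := H) (G := zpowers x) (φ := φ)).symm
  set Hs : Subgroup (H ⋊[φ] zpowers x) := (SemidirectProduct.inl : H →* _).range with hHs
  set Ps : Subgroup (H ⋊[φ] zpowers x) := (SemidirectProduct.inr : zpowers x →* _).range with hPs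
  have hcj : ∀ (π : zpowers x) (h : H), (SemidirectProduct.inr π : H ⋊[φ] zpowers x) *
      SemidirectProduct.inl h * (SemidirectProduct.inr π)⁻¹ = SemidirectProduct.inl ((π : MulAut H) h) :=
    fun π h => by rw [← map_inv]; exact (SemidirectProduct.inl_aut π h).symm
  have hgen : ∀ (π : zpowers x) (h : H), (SemidirectProduct.inl h : H ⋊[φ] zpowers x)⁻¹ *
      SemidirectProduct.inr π * SemidirectProduct.inl h * (SemidirectProduct.inr π)⁻¹ =
      SemidirectProduct.inl (h⁻¹ * (π : MulAut H) h) := fun π h => by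
    rw [map_mul, map_inv, ← hcj]; group
  have hcP : Nat.card Ps = p := by
    rw [hPs, Nat.card_congr (MonoidHom.ofInjective SemidirectProduct.inr_injective).toEquiv.symm,
      Nat.card_zpowers, hx]
  have hcH : Nat.card Hs = Nat.card H :=
    Nat.card_congr (MonoidHom.ofInjective SemidirectProduct.inl_injective).toEquiv.symm
  have hs : Setting p Ps Hs := ⟨Fact.out, hp, by
      refine Subgroup.le_normalizer_iff.2 ?_
      rintro _ ⟨π, rfl⟩ _ ⟨h, rfl⟩
      exact ⟨(π : MulAut H) h, (hcj π h).symm⟩, hcP, by rw [hcP, hcH]; exact hcop.symm,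
    Group.isSolvable_of_surjective (SemidirectProduct.inl : H →* H ⋊[φ] zpowers x).rangeRestrict_surjective⟩
  have hfix : ∀ c : H, x c = c ↔ (SemidirectProduct.inl c : H ⋊[φ] zpowers x) ∈ centralizer (Ps : Set _) := by
    intro c
    constructor
    · intro hc
      refine mem_centralizer_iff.2 ?_
      rintro _ ⟨⟨π, hπ⟩, rfl⟩
      have h1 : π ∈ MulAction.stabilizer (MulAut H) c :=
        (zpowers_le.2 (show x ∈ MulAction.stabilizer (MulAut H) c from hc)) hπ
      have := hcj ⟨π, hπ⟩ c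
      rw [show ((⟨π, hπ⟩ : zpowers x) : MulAut H) c = c from h1, mul_inv_eq_iff_eq_mul] at this
      exact this
    · intro hc
      have h1 := mem_centralizer_iff.1 hc _ ⟨⟨x, mem_zpowers x⟩, rfl⟩
      have h2 := hcj ⟨x, mem_zpowers x⟩ c
      rw [h1, mul_inv_cancel_right] at h2
      exact (SemidirectProduct.inl_injective h2).symm
  rintro c ⟨hc1, hc2⟩
  have hc' : (SemidirectProduct.inl c : H ⋊[φ] zpowers x) ∈ ⁅Hs, Ps⁆ ⊓ centralizer (Ps : Set _) := by
    refine ⟨?_, (hfix c).1 hc2⟩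
    refine (closure_le (K := ⁅Hs, Ps⁆.comap SemidirectProduct.inl)).2 ?_ hc1
    rintro _ ⟨h, i, rfl⟩
    show SemidirectProduct.inl (h⁻¹ * (x ^ i) h) ∈ ⁅Hs, Ps⁆
    rw [← hgen ⟨x ^ i, pow_mem (mem_zpowers x) i⟩ h]
    exact Cl_le_commutator (P := Ps) (H := Hs) (show SemidirectProduct.inl h ∈ Hs from ⟨h, rfl⟩)
      (gen_mem_Cl (P := Ps) (show SemidirectProduct.inr _ ∈ Ps from ⟨_, rfl⟩) _)
  have hle : Lg Ps Hs ≤ (⨆ h : H, closure {c : H | ∃ i : ℕ, c = h⁻¹ * (x ^ i) h} ⊓
      (x : H →* H).eqLocus (MonoidHom.id H)).map SemidirectProduct.inl := by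
    refine iSup₂_le ?_
    rintro _ ⟨h, rfl⟩ y ⟨hy, hyC⟩
    have h1 : Cl Ps (SemidirectProduct.inl h) ≤
        (closure {c : H | ∃ i : ℕ, c = h⁻¹ * (x ^ i) h}).map SemidirectProduct.inl := by
      refine (closure_le _).2 ?_
      rintro _ ⟨_, ⟨⟨π, hπ⟩, rfl⟩, rfl⟩
      obtain ⟨i, rfl⟩ : π ∈ Submonoid.powers x := by
        rw [← SetLike.mem_coe, (isOfFinOrder_of_finite x).powers_eq_zpowers]; exact hπ
      exact ⟨_, subset_closure ⟨i, rfl⟩, (hgen ⟨_, hπ⟩ h).symm⟩
    obtain ⟨z, hz, rfl⟩ := h1 hy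
    exact ⟨z, le_iSup (fun h : H => closure {c : H | ∃ i : ℕ, c = h⁻¹ * (x ^ i) h} ⊓
      (x : H →* H).eqLocus (MonoidHom.id H)) h ⟨hz, (hfix z).2 hyC⟩, rfl⟩
  exact (mem_map_iff_mem SemidirectProduct.inl_injective).1
    (hle (inf_centralizer_le_Lg _ hs rfl hc'))

end Cfsg.Agent.S3816
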