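import Cfsg.Statements.S3818
import Cfsg.Agent.Lib.RepFix.Main

set_option autoImplicit false
open Cfsg

namespace Cfsg.Agent.S3818

/-- Let G be a finite solvable group and P a subgroup of G of prime order p > 3 whose conjugates generate G. Let V be a faithful irreducible representation of G over a field of positive characteristic, finite-dimensional. Then the subspace of V fixed by P has dimension less than half the dimension of V. -/
theorem result {G : Type*} [Group G] [Finite G] [Group.IsSolvable G]
    {p : ℕ} [Fact p.Prime] (hp : 3 < p) (P : Subgroup G) (hP : Nat.card P = p) (hgen : Subgroup.normalClosure (P : Set G) = ⊤)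
    {k : Type*} [Field k] (ℓ : ℕ) [Fact ℓ.Prime] [CharP k ℓ]
    {V : Type*} [AddCommGroup V] [Module k V] [FiniteDimensional k V]
    (ρ : Representation k G V) [ρ.IsIrreducible] (hfaith : Function.Injective ρ) :
    2 * Module.finrank k ↥(⨅ g : ↥P, LinearMap.ker (ρ (g : G) - LinearMap.id)) < Module.finrank k V := by
  classical
  haveI : Nontrivial P := Finite.one_lt_card_iff_nontrivial.1 (hP ▸ (Fact.out : p.Prime).one_lt)
  obtain ⟨g₀, hg₀⟩ := exists_ne (1 : P)
  have hgen' : ∀ g : P, ∃ i : ℤ, g = g₀ ^ i := fun g => by
    obtain ⟨i, hi⟩ := Subgroup.mem_zpowers_iff.1 (mem_zpowers_of_prime_card hP hg₀ : g ∈ Subgroup.zpowers g₀)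
    exact ⟨i, hi.symm⟩
  set x : G := (g₀ : G) with hx
  have hcl : Subgroup.normalClosure ({x} : Set G) = ⊤ := by
    refine top_le_iff.1 (hgen ▸ Subgroup.normalClosure_le_normal fun g hg => ?_)
    obtain ⟨i, hi⟩ := hgen' ⟨g, hg⟩
    have : g = x ^ i := congrArg Subtype.val hi
    have h1 : x ^ i ∈ Subgroup.normalClosure ({x} : Set G) :=
      zpow_mem (Subgroup.subset_normalClosure (Set.mem_singleton x)) i
    exact this.symm ▸ h1
  have hxp : x ^ p = 1 := by
    have := pow_card_eq_one' (G := P) (x := g₀)
    rw [hP] at this
    simpa [hx] using congrArg Subtype.val this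
  have key := CfsgLib.RepFix.finrank_fixed_lt hp ρ hfaith (fun S hS => by
      have h := eq_bot_or_eq_top (⟨S, hS⟩ : Subrepresentation ρ)
      exact h.imp (congrArg Subrepresentation.toSubmodule) (congrArg Subrepresentation.toSubmodule))
    x hxp (fun e => hg₀ (Subtype.ext e)) hcl
  have heq : (⨅ g : ↥P, LinearMap.ker (ρ (g : G) - LinearMap.id)) = LinearMap.ker (ρ x - 1) := by
    refine le_antisymm (iInf_le _ g₀) (le_iInf fun g => ?_)
    intro v hv
    rw [LinearMap.mem_ker, LinearMap.sub_apply, sub_eq_zero] at hv ⊢
    have hst : g₀ ∈ ({ carrier := {h : P | ρ (h : G) v = v}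
                       one_mem' := by simp
                       mul_mem' := fun {a b} (ha : ρ (a : G) v = v) (hb : ρ (b : G) v = v) => by
                        show ρ ((a : G) * b) v = v
                        rw [map_mul]
                        show ρ (a : G) (ρ (b : G) v) = v
                        rw [hb, ha]
                       inv_mem' := fun {a} (ha : ρ (a : G) v = v) => by
                        show ρ (a : G)⁻¹ v = v
                        conv_lhs => rw [← ha]
                        rw [← Module.End.mul_apply, ← map_mul, inv_mul_cancel, map_one, Module.End.one_apply] }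
                        : Subgroup P) := hv
    obtain ⟨i, rfl⟩ := hgen' g
    exact zpow_mem hst i
  rw [heq]
  exact key

end Cfsg.Agent.S3818
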