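import Cfsg.Statements.S3819
import Cfsg.Agent.Lib.Components.Local
import Cfsg.Agent.Lib.InvChar.SolvableTwo
import Cfsg.Agent.Lib.Coprime.Commutator
import Cfsg.Agent.Lib.Structure.Subnormal
import Cfsg.Agent.Lib.PCore.Basic

set_option autoImplicit false
open Cfsg
open scoped commutatorElement

namespace Cfsg.Agent.S3819

open Subgroup

variable {G : Type*} [Group G] [Finite G]

/-- A normal `q'`-subgroup of `G` inside `H` lies in the image of `O_{q'}(H)`. -/
theorem le_core_map {q : ℕ} {H N : Subgroup G} [hN : N.Normal] (hle : N ≤ H)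
    (hc : (Nat.card N).Coprime q) : N ≤ (Cfsg.pPrimeCore q H).map H.subtype := by
  have h1 : N.subgroupOf H ≤ Cfsg.pPrimeCore q H :=
    CfsgLib.PCore.le_pPrimeCore (hN.subgroupOf H)
      ((Nat.card_congr (subgroupOfEquivOfLe hle).toEquiv).symm ▸ hc)
  have := map_mono (f := H.subtype) h1
  rwa [map_subgroupOf_eq_of_le hle] at this

/-- The reduced case: `H` contains no nontrivial normal `q'`-subgroup of `G`. -/
theorem core {p q : ℕ} [Fact p.Prime] [Fact q.Prime] (H P : Subgroup G) [H.Normal]
    (hHP : H ⊔ P = ⊤) (hP : IsPGroup p P) (hH : (Nat.card H).Coprime p)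
    (hR : Group.IsSolvable ↥⁅H, P⁆)
    (hred : ∀ M : Subgroup G, M.Normal → M ≤ H → (Nat.card M).Coprime q → M = ⊥)
    (z : G) (hzH : z ∈ H) (hz : IsPGroup q (zpowers z))
    (L K : Subgroup G) (hL : L ≤ H ⊓ centralizer ({z} : Set G)) (hLq : (Nat.card L).Coprime q)
    (hLn : H ⊓ centralizer ({z} : Set G) ≤ normalizer (L : Set G)) (hPL : P ≤ normalizer (L : Set G))
    (hK : K ≤ H ⊓ centralizer (P : Set G)) (hKq : (Nat.card K).Coprime q)
    (hKn : H ⊓ centralizer (P : Set G) ≤ normalizer (K : Set G)) :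
    (L ⊓ K) ⊔ ⁅L, P⁆ = ⊥ := by
  set R := ⁅H, P⁆ with hRdef
  have hPH : P ≤ normalizer (H : Set G) := by rw [normalizer_eq_top]; exact le_top
  have hRH : R ≤ H := CfsgLib.Coprime.commutator_le_of_normalizes hPH
  haveI hRn : R.Normal := normalizer_eq_top_iff.1 (top_le_iff.1 (hHP ▸ sup_le
    (CfsgLib.Coprime.le_normalizer_commutator_left H P)
    (CfsgLib.Coprime.le_normalizer_commutator_right H P)))
  set Q := (Cfsg.pCore q R).map R.subtype with hQdef
  haveI hQn : Q.Normal := ConjAct.normal_of_characteristic_of_normal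
  have hQR : Q ≤ R := map_subtype_le _
  have hQq : IsPGroup q Q := CfsgLib.PCore.pCore_isPGroup.map _
  have hRcore : Cfsg.pPrimeCore q R = ⊥ := by
    haveI : ((Cfsg.pPrimeCore q R).map R.subtype).Normal := ConjAct.normal_of_characteristic_of_normal
    have := hred _ inferInstance ((map_subtype_le _).trans hRH)
      (by rw [card_subtype]; exact CfsgLib.PCore.pPrimeCore_coprime)
    exact (map_eq_bot_iff_of_injective _ R.subtype_injective).1 this
  have hself : ∀ r ∈ R, r ∈ centralizer (Q : Set G) → r ∈ Q := by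
    intro r hr hc
    haveI := hR
    have h1 : (⟨r, hr⟩ : R) ∈ centralizer (Cfsg.pCore q R : Set R) :=
      mem_centralizer_iff.2 fun a ha =>
        Subtype.ext (mem_centralizer_iff.1 hc _ (mem_map_of_mem R.subtype ha))
    exact mem_map_of_mem R.subtype (CfsgLib.InvChar.centralizer_pCore_le hRcore h1)
  have hLQ : L ≤ centralizer (Q : Set G) := by
    intro x hx
    have hxz : x ∈ centralizer (zpowers z : Set G) := by
      rw [zpowers_eq_closure, centralizer_closure]; exact (hL hx).2
    refine CfsgLib.Components.mem_centralizer_of_AxB hQq hz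
      (by rw [normalizer_eq_top]; exact le_top) (by rw [normalizer_eq_top]; exact mem_top _) hxz
      (hLq.coprime_dvd_left (Subgroup.orderOf_dvd_natCard L hx)) fun r hr hrz => ?_
    have hrD : r ∈ Q ⊓ centralizer ({z} : Set G) :=
      ⟨hr, mem_centralizer_singleton_iff.2
        ((mem_centralizer_iff.1 hrz z (mem_zpowers z)).symm)⟩
    have hrN : r ∈ normalizer (L : Set G) := hLn ⟨hRH (hQR hr), hrD.2⟩
    have h1 : x * r * x⁻¹ * r⁻¹ ∈ L := by
      have := (mem_normalizer_iff.1 hrN x⁻¹).1 (inv_mem hx)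
      have h2 := mul_mem hx this
      simpa [mul_assoc] using h2
    have h2 : x * r * x⁻¹ * r⁻¹ ∈ Q := mul_mem (hQn.conj_mem r hr x) (inv_mem hr)
    have h3 : x * r * x⁻¹ * r⁻¹ ∈ Q ⊓ L := ⟨h2, h1⟩
    rw [CfsgLib.PCore.inf_eq_bot_of_isPGroup_coprime hQq hLq, mem_bot] at h3
    exact mul_inv_eq_iff_eq_mul.1 (mul_inv_eq_one.1 h3)
  have hLP : ⁅L, P⁆ = ⊥ := by
    have h1 : ⁅L, P⁆ ≤ L := CfsgLib.Coprime.commutator_le_of_normalizes hPL
    have h2 : ⁅L, P⁆ ≤ R := commutator_mono (hL.trans inf_le_left) le_rfl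
    refine le_bot_iff.1 fun y hy => ?_
    have h3 : y ∈ Q ⊓ L := ⟨hself y (h2 hy) (hLQ (h1 hy)), h1 hy⟩
    rwa [CfsgLib.PCore.inf_eq_bot_of_isPGroup_coprime hQq hLq] at h3
  rw [hLP, sup_bot_eq]
  set C := H ⊓ centralizer (Q : Set G) with hCdef
  haveI hCn : C.Normal := inferInstance
  set X := C ⊓ K with hX
  have hXC : X ≤ C := inf_le_left
  have hCP : C ≤ normalizer (X : Set G) := by
    have h1 := CfsgLib.Coprime.commutator_sup_centralizer P C
      (by rw [normalizer_eq_top]; exact le_top)
      ((hP.exists_card_eq).choose_spec ▸ ((hH.coprime_dvd_left (card_dvd_of_le inf_le_left)).pow_right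
        _).symm)
      (Or.inl (haveI := hP.isNilpotent; inferInstance))
    rw [← h1, sup_le_iff]
    constructor
    · refine fun y hy => centralizer_le_normalizer (X : Set G) ?_
      have h2 : y ∈ C := CfsgLib.Coprime.commutator_le_of_normalizes (A := P) (K := C)
        (by rw [normalizer_eq_top]; exact le_top) hy
      have h3 : y ∈ Q := hself y (commutator_mono inf_le_left le_rfl hy) h2.2
      exact mem_centralizer_iff.2 fun x hx =>
        (mem_centralizer_iff.1 (hXC hx).2 y h3).symm
    · intro y hy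
      refine inf_normalizer_le_normalizer_inf ⟨le_normalizer hy.1, hKn ⟨hy.1.1, hy.2⟩⟩
  have hXbot : X = ⊥ := by
    have h1 : X.subgroupOf C ≤ Cfsg.pPrimeCore q C :=
      CfsgLib.PCore.le_pPrimeCore (normal_subgroupOf_of_le_normalizer hCP)
        ((Nat.card_congr (subgroupOfEquivOfLe hXC).toEquiv).symm ▸
          hKq.coprime_dvd_left (card_dvd_of_le inf_le_right))
    haveI : ((Cfsg.pPrimeCore q C).map C.subtype).Normal := ConjAct.normal_of_characteristic_of_normal
    have h2 := map_mono (f := C.subtype) h1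
    rw [map_subgroupOf_eq_of_le hXC,
      hred _ inferInstance ((map_subtype_le _).trans inf_le_left)
        (by rw [card_subtype]; exact CfsgLib.PCore.pPrimeCore_coprime)] at h2
    exact le_bot_iff.1 h2
  exact le_bot_iff.1 (hXbot ▸ le_inf (le_inf (inf_le_left.trans (hL.trans inf_le_left))
    (inf_le_left.trans hLQ)) inf_le_right)

theorem map_inf_of_ker_le {G' : Type*} [Group G'] (f : G →* G') {H : Subgroup G} (hf : f.ker ≤ H)
    (C : Subgroup G) : (H ⊓ C).map f = H.map f ⊓ C.map f := by
  refine le_antisymm (map_inf_le H C f) ?_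
  rintro _ ⟨⟨a, ha, rfl⟩, ⟨c, hc, e⟩⟩
  refine ⟨c, ⟨?_, hc⟩, e⟩
  have h1 : a⁻¹ * c ∈ H := hf (by rw [MonoidHom.mem_ker, map_mul, map_inv, e, inv_mul_cancel])
  simpa using H.mul_mem ha h1

/-- Let G be a finite group with Sylow p-subgroup P and H = O_{p'}(G), and suppose G = PH and the commutator subgroup [H, P] is solvable. Let q be a prime and z an element of q-power order of C_H(P). Then (O_{q'}(C_H(z)) ∩ O_{q'}(C_H(P))) · [O_{q'}(C_H(z)), P] ≤ O_{q'}(H). -/
theorem result {G : Type*} [Group G] [Finite G] {p : ℕ} [Fact p.Prime]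
    (P : Sylow p G) (hPH : Cfsg.pPrimeCore p G ⊔ (P : Subgroup G) = ⊤)
    (hsol : Group.IsSolvable ↥⁅Cfsg.pPrimeCore p G, (P : Subgroup G)⁆)
    {q : ℕ} [Fact q.Prime] (z : G) (hzH : z ∈ Cfsg.pPrimeCore p G) (hzP : z ∈ Subgroup.centralizer ((P : Subgroup G) : Set G))
    (hz : ∃ k : ℕ, orderOf z = q ^ k) :
    ((Cfsg.pPrimeCore q ↥(Cfsg.pPrimeCore p G ⊓ Subgroup.centralizer ({z} : Set G))).map
        (Cfsg.pPrimeCore p G ⊓ Subgroup.centralizer ({z} : Set G)).subtype ⊓
      (Cfsg.pPrimeCore q ↥(Cfsg.pPrimeCore p G ⊓ Subgroup.centralizer ((P : Subgroup G) : Set G))).map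
        (Cfsg.pPrimeCore p G ⊓ Subgroup.centralizer ((P : Subgroup G) : Set G)).subtype) ⊔
    ⁅(Cfsg.pPrimeCore q ↥(Cfsg.pPrimeCore p G ⊓ Subgroup.centralizer ({z} : Set G))).map
        (Cfsg.pPrimeCore p G ⊓ Subgroup.centralizer ({z} : Set G)).subtype, (P : Subgroup G)⁆ ≤
    (Cfsg.pPrimeCore q ↥(Cfsg.pPrimeCore p G)).map (Cfsg.pPrimeCore p G).subtype := by
  set H := Cfsg.pPrimeCore p G with hH
  set Cz := H ⊓ centralizer ({z} : Set G) with hCz
  set CP := H ⊓ centralizer ((P : Subgroup G) : Set G) with hCP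
  set L := (Cfsg.pPrimeCore q Cz).map Cz.subtype with hL
  set K := (Cfsg.pPrimeCore q CP).map CP.subtype with hK
  set N := (Cfsg.pPrimeCore q H).map H.subtype with hN
  haveI : N.Normal := ConjAct.normal_of_characteristic_of_normal
  have hNq : (Nat.card N).Coprime q := by
    rw [hN, card_subtype]; exact CfsgLib.PCore.pPrimeCore_coprime
  have hNH : N ≤ H := map_subtype_le _
  set f := QuotientGroup.mk' N with hf
  have hsurj : Function.Surjective f := QuotientGroup.mk'_surjective N
  have hker : f.ker = N := QuotientGroup.ker_mk' N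
  have hzq : IsPGroup q (zpowers z) := by
    obtain ⟨k, hk⟩ := hz
    exact IsPGroup.of_card (n := k) (by rw [Nat.card_zpowers, hk])
  have hsing : ∀ {X : Type _} [Group X] (x : X),
      centralizer ({x} : Set X) = centralizer (zpowers x : Set X) := fun x => by
    rw [zpowers_eq_closure, centralizer_closure]
  have hczmap : Cz.map f = H.map f ⊓ centralizer ({f z} : Set (G ⧸ N)) := by
    rw [hCz, map_inf_of_ker_le f (hker.le.trans hNH), hsing z, hsing (f z), ← MonoidHom.map_zpowers,
      hf, CfsgLib.Components.map_centralizer_quotient hNq hzq]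
  have hcpmap : CP.map f = H.map f ⊓ centralizer ((P : Subgroup G).map f : Set (G ⧸ N)) := by
    refine CfsgLib.Coprime.map_inf_centralizer f (P : Subgroup G) H
      (by rw [normalizer_eq_top]; exact le_top) ?_ (Or.inl (haveI := P.2.isNilpotent; inferInstance))
    obtain ⟨n, hn⟩ := P.2.exists_card_eq
    rw [hn]; exact (CfsgLib.PCore.pPrimeCore_coprime.pow_right n).symm
  have hPCz : (P : Subgroup G) ≤ normalizer (Cz : Set G) := fun x hx =>
    inf_normalizer_le_normalizer_inf ⟨by rw [normalizer_eq_top]; exact mem_top _,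
      le_normalizer (mem_centralizer_singleton_iff.2
        ((mem_centralizer_iff.1 hzP x hx)))⟩
  haveI : (H.map f).Normal := (inferInstance : H.Normal).map f hsurj
  have key := core (p := p) (q := q) (H.map f) ((P : Subgroup G).map f)
    (by rw [← Subgroup.map_sup, hPH, map_top_of_surjective f hsurj]) (P.2.map f)
    (CfsgLib.PCore.pPrimeCore_coprime.coprime_dvd_left (card_map_dvd _ f))
    (by
      rw [← map_commutator]
      exact solvable_of_surjective (MonoidHom.subgroupMap_surjective f _))
    (fun M hMn hMH hMq => by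
      haveI := hMn
      have h1 : M.comap f ≤ H := by
        have := comap_mono (f := f) hMH
        rwa [comap_map_eq, hker, sup_eq_left.2 hNH] at this
      have h2 : (Nat.card (M.comap f)).Coprime q := by
        refine Nat.Coprime.coprime_dvd_left ?_ (hNq.mul_left hMq)
        rw [← relIndex_bot_left (H := M.comap f), ← relIndex_mul_relIndex ⊥ N (M.comap f) bot_le
          (hker.ge.trans (ker_le_comap f M)), relIndex_bot_left]
        refine mul_dvd_mul_left _ ?_
        have h5 := relIndex_comap (⊥ : Subgroup (G ⧸ N)) f (M.comap f)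
        rw [MonoidHom.comap_bot, map_comap_eq_self_of_surjective hsurj, relIndex_bot_left] at h5
        rw [← h5, show f.ker.relIndex (M.comap f) = N.relIndex (M.comap f) from congrArg
          (fun X : Subgroup G => X.relIndex (M.comap f)) hker]
      have h3 : M.comap f ≤ N := le_core_map h1 h2
      have h4 := map_mono (f := f) h3
      rw [map_comap_eq_self_of_surjective hsurj, hf, QuotientGroup.map_mk'_self] at h4
      exact le_bot_iff.1 h4)
    (f z) (mem_map_of_mem f hzH) (by rw [← MonoidHom.map_zpowers]; exact hzq.map f)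
    (L.map f) (K.map f) (hczmap ▸ map_mono (map_subtype_le _))
    ((CfsgLib.PCore.pPrimeCore_coprime).coprime_dvd_left
      (by rw [hL]; exact (card_map_dvd _ f).trans (card_subtype _ _).dvd))
    (by
      rw [← hczmap]
      exact (map_mono (le_normalizer.trans
        (CfsgLib.Structure.normalizer_le_normalizer_map_subtype Cz _))).trans
          (le_normalizer_map f))
    ((map_mono (hPCz.trans
      (CfsgLib.Structure.normalizer_le_normalizer_map_subtype Cz _))).trans (le_normalizer_map f))
    (hcpmap ▸ map_mono (map_subtype_le _))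
    ((CfsgLib.PCore.pPrimeCore_coprime).coprime_dvd_left
      (by rw [hK]; exact (card_map_dvd _ f).trans (card_subtype _ _).dvd))
    (by
      rw [← hcpmap]
      exact (map_mono (le_normalizer.trans
        (CfsgLib.Structure.normalizer_le_normalizer_map_subtype CP _))).trans
          (le_normalizer_map f))
  rw [sup_eq_bot_iff, ← map_commutator] at key
  refine sup_le ?_ ?_
  · intro x hx
    have h1 : f x ∈ L.map f ⊓ K.map f := ⟨mem_map_of_mem f hx.1, mem_map_of_mem f hx.2⟩
    rw [key.1, mem_bot] at h1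
    exact hker ▸ (MonoidHom.mem_ker.2 h1)
  · have h2 := (Subgroup.map_eq_bot_iff _).1 key.2
    exact hker ▸ h2

end Cfsg.Agent.S3819
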