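import Cfsg.Statements.S3820

set_option autoImplicit false
open Cfsg

namespace Cfsg.Agent.S3820

theorem map_conj_mul {G : Type*} [Group G] (H : Subgroup G) (a b : G) :
    H.map (MulAut.conj (a * b)).toMonoidHom =
      (H.map (MulAut.conj b).toMonoidHom).map (MulAut.conj a).toMonoidHom := by
  rw [Subgroup.map_map]; congr 1; ext x; simp [mul_assoc]

theorem map_conj_le {G : Type*} [Group G] {J H : Subgroup G} {x : G} (hx : x ∈ J) (h : H ≤ J) :
    H.map (MulAut.conj x).toMonoidHom ≤ J := by
  rintro _ ⟨y, hy, rfl⟩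
  simpa using J.mul_mem (J.mul_mem hx (h hy)) (J.inv_mem hx)

theorem mem_normalizer_of_map_conj {G : Type*} [Group G] {H : Subgroup G} {g : G}
    (h : H.map (MulAut.conj g).toMonoidHom = H) : g ∈ Subgroup.normalizer (H : Set G) := by
  rw [Subgroup.mem_normalizer_iff]
  intro y
  constructor
  · intro hy
    have := Subgroup.mem_map_of_mem (MulAut.conj g).toMonoidHom hy
    rw [h] at this
    simpa using this
  · intro hy
    rw [← h] at hy
    obtain ⟨z, hz, e⟩ := hy
    have : z = y := (MulAut.conj g).injective (by simpa using e)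
    exact this ▸ hz


/-- Call a subgroup H of G pronormal if H and gHg⁻¹ are conjugate inside ⟨H, gHg⁻¹⟩ for every g ∈ G. Let S ≤ H ≤ G be subgroups of a finite group with S pronormal in G (for instance S a Sylow subgroup). Then H is pronormal in G if and only if H and gHg⁻¹ are conjugate inside ⟨H, gHg⁻¹⟩ for every g ∈ N_G(S). In particular H is pronormal whenever N_G(S) ≤ H. -/
theorem result {G : Type*} [Group G] [Finite G] (S H : Subgroup G) (hSH : S ≤ H)
    (hS : Cfsg.IsPronormal S) :
    Cfsg.IsPronormal H ↔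
      ∀ g ∈ Subgroup.normalizer (S : Set G), ∃ w ∈ H ⊔ H.map (MulAut.conj g).toMonoidHom,
        H.map (MulAut.conj g).toMonoidHom = H.map (MulAut.conj w).toMonoidHom := by
  refine ⟨fun h g _ => h g, fun h g => ?_⟩
  obtain ⟨x, hx, hxS⟩ := hS g
  have hxJ : x ∈ H ⊔ H.map (MulAut.conj g).toMonoidHom :=
    (sup_le_sup hSH (Subgroup.map_mono hSH)) hx
  have hn : x⁻¹ * g ∈ Subgroup.normalizer (S : Set G) := by
    apply mem_normalizer_of_map_conj
    rw [map_conj_mul, hxS, ← map_conj_mul, inv_mul_cancel]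
    ext y; simp
  obtain ⟨w, hw, hwH⟩ := h _ hn
  have hle : H.map (MulAut.conj (x⁻¹ * g)).toMonoidHom ≤ H ⊔ H.map (MulAut.conj g).toMonoidHom := by
    rw [map_conj_mul]
    exact map_conj_le (inv_mem hxJ) le_sup_right
  refine ⟨x * w, mul_mem hxJ (sup_le le_sup_left hle hw), ?_⟩
  rw [map_conj_mul H x w, ← hwH, ← map_conj_mul, mul_inv_cancel_left]

end Cfsg.Agent.S3820
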