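import Cfsg.Statements.S3821

set_option autoImplicit false
open Cfsg

namespace Cfsg.Agent.S3821

theorem map_conj_mul {G : Type*} [Group G] (H : Subgroup G) (a b : G) :
    H.map (MulAut.conj (a * b)).toMonoidHom =
      (H.map (MulAut.conj b).toMonoidHom).map (MulAut.conj a).toMonoidHom := by
  rw [Subgroup.map_map]; congr 1; ext x; simp [mul_assoc]

theorem map_conj_le {G : Type*} [Group G] {J H : Subgroup G} {x : G} (hx : x ∈ J) (h : H ≤ J) :
    H.map (MulAut.conj x).toMonoidHom ≤ J := by
  rintro _ ⟨y, hy, rfl⟩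
  simpa using J.mul_mem (J.mul_mem hx (h hy)) (J.inv_mem hx)

theorem mem_normalizer_of_map_conj {G : Type*} [Group G] {H : Subgroup G} {g : G}
    (h : H.map (MulAut.conj g).toMonoidHom = H) : g ∈ Subgroup.normalizer (H : Set G) := by
  rw [Subgroup.mem_normalizer_iff]
  intro y
  constructor
  · intro hy
    have := Subgroup.mem_map_of_mem (MulAut.conj g).toMonoidHom hy
    rw [h] at this
    simpa using this
  · intro hy
    rw [← h] at hy
    obtain ⟨z, hz, e⟩ := hy
    have : z = y := (MulAut.conj g).injective (by simpa using e)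
    exact this ▸ hz

theorem map_conj_subgroupOf {G : Type*} [Group G] {A H : Subgroup G} (hHA : H ≤ A) (a : A) :
    ((H.subgroupOf A).map (MulAut.conj a).toMonoidHom).map A.subtype =
      H.map (MulAut.conj (a : G)).toMonoidHom := by
  rw [Subgroup.map_map, show A.subtype.comp (MulAut.conj a).toMonoidHom
      = (MulAut.conj (a : G)).toMonoidHom.comp A.subtype by ext x; simp, ← Subgroup.map_map,
    Subgroup.map_subgroupOf_eq_of_le hHA]

theorem map_conj_eq_self {G : Type*} [Group G] {H : Subgroup G} {g : G}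
    (hg : g ∈ Subgroup.normalizer (H : Set G)) : H.map (MulAut.conj g).toMonoidHom = H := by
  ext y
  constructor
  · rintro ⟨z, hz, rfl⟩; simpa using (Subgroup.mem_normalizer_iff.mp hg z).mp hz
  · intro hy
    exact ⟨g⁻¹ * y * g, (Subgroup.mem_normalizer_iff.mp hg _).mpr (by simpa [mul_assoc] using hy),
      by simp [mul_assoc]⟩


/-- Let A be a normal subgroup of the finite group G and H a subgroup of A. Then H is pronormal in G (H and gHg⁻¹ conjugate inside ⟨H, gHg⁻¹⟩ for every g ∈ G) if and only if H is pronormal in A and G = A · N_G(H). -/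
theorem result {G : Type*} [Group G] [Finite G] (A H : Subgroup G) [A.Normal] (hHA : H ≤ A) :
    Cfsg.IsPronormal H ↔ (Cfsg.IsPronormal (H.subgroupOf A) ∧ A ⊔ Subgroup.normalizer (H : Set G) = ⊤) := by
  constructor
  · intro h
    constructor
    · intro a
      obtain ⟨x, hx, he⟩ := h (a : G)
      have hle : H ⊔ H.map (MulAut.conj (a : G)).toMonoidHom =
          (H.subgroupOf A ⊔ (H.subgroupOf A).map (MulAut.conj a).toMonoidHom).map A.subtype := by
        rw [Subgroup.map_sup, map_conj_subgroupOf hHA, Subgroup.map_subgroupOf_eq_of_le hHA]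
      obtain ⟨y, hy, rfl⟩ := hle ▸ hx
      refine ⟨y, hy, Subgroup.map_injective A.subtype_injective ?_⟩
      rw [map_conj_subgroupOf hHA, map_conj_subgroupOf hHA]
      exact he
    · rw [eq_top_iff]
      intro g _
      obtain ⟨x, hx, he⟩ := h g
      have hxA : x ∈ A := by
        refine sup_le hHA ?_ hx
        rintro _ ⟨y, hy, rfl⟩
        simpa using Subgroup.Normal.conj_mem inferInstance y (hHA hy) g
      have hn : x⁻¹ * g ∈ Subgroup.normalizer (H : Set G) := by
        apply mem_normalizer_of_map_conj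
        rw [map_conj_mul, he, ← map_conj_mul, inv_mul_cancel]
        ext y; simp
      simpa using Subgroup.mul_mem_sup hxA hn
  · rintro ⟨hpr, htop⟩ g
    have hg : g ∈ A ⊔ Subgroup.normalizer (H : Set G) := htop ▸ Subgroup.mem_top g
    obtain ⟨a, ha, n, hn, rfl⟩ := Subgroup.mem_sup_of_normal_left.mp hg
    rw [map_conj_mul, map_conj_eq_self hn]
    obtain ⟨y, hy, he⟩ := hpr ⟨a, ha⟩
    refine ⟨y, ?_, ?_⟩
    · have h1 := Subgroup.mem_map_of_mem A.subtype hy
      rwa [Subgroup.map_sup, map_conj_subgroupOf hHA, Subgroup.map_subgroupOf_eq_of_le hHA] at h1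
    · have h1 := congrArg (Subgroup.map A.subtype) he
      rwa [map_conj_subgroupOf hHA, map_conj_subgroupOf hHA] at h1

end Cfsg.Agent.S3821
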