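import Cfsg.Statements.S3822
import Cfsg.Agent.Lib.RepFix.TwoGen
import Cfsg.Agent.Lib.PCore.Basic

set_option autoImplicit false
open Cfsg

namespace Cfsg.Agent.S3822

/-- Let G be a finite group and P a subgroup of prime order p > 3. Consider the solvable subgroups A of G of the form A = ⟨P, aPa⁻¹⟩ for some a ∈ A, and let A be maximal under inclusion among them. Then for every nilpotent subgroup V of G normalized by A, the subgroup F(A)V generated by the Fitting subgroup of A and V is nilpotent. -/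
theorem result {G : Type*} [Group G] [Finite G]
    {p : ℕ} [Fact p.Prime] (hp : 3 < p) (P : Subgroup G) (hP : Nat.card P = p) (A : Subgroup G)
    (hA : Group.IsSolvable ↥A ∧ ∃ a ∈ A, A = P ⊔ P.map (MulAut.conj a).toMonoidHom)
    (hmax : ∀ B : Subgroup G, A ≤ B → Group.IsSolvable ↥B → (∃ b ∈ B, B = P ⊔ P.map (MulAut.conj b).toMonoidHom) → B = A)
    (V : Subgroup G) (hV : Group.IsNilpotent ↥V) (hAV : A ≤ Subgroup.normalizer (V : Set G)) :
    Group.IsNilpotent ↥((Cfsg.fittingSubgroup ↥A).map A.subtype ⊔ V) := by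
  classical
  obtain ⟨hsolA, a, ha, hgen⟩ := hA
  set X : ℕ → Subgroup G := fun r => (Cfsg.pCore r A).map A.subtype with hX
  set Y : ℕ → Subgroup G := fun r => (Cfsg.pCore r V).map V.subtype with hY
  have hXA : ∀ r, X r ≤ A := fun r => Subgroup.map_subtype_le _
  have hYV : ∀ r, Y r ≤ V := fun r => Subgroup.map_subtype_le _
  have hXn : ∀ r, A ≤ Subgroup.normalizer (X r : Set G) := fun r =>
    Subgroup.le_normalizer.trans
      (CfsgLib.Structure.normalizer_le_normalizer_map_subtype A (Cfsg.pCore r A))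
  have hYn : ∀ r, Subgroup.normalizer (V : Set G) ≤ Subgroup.normalizer (Y r : Set G) := fun r =>
    CfsgLib.Structure.normalizer_le_normalizer_map_subtype V (Cfsg.pCore r V)
  have hXp : ∀ r, r.Prime → IsPGroup r (X r) := fun r hr => by
    haveI := Fact.mk hr
    exact (CfsgLib.Fitting.pCore_isPGroup r).map _
  have hYp : ∀ r, r.Prime → IsPGroup r (Y r) := fun r hr => by
    haveI := Fact.mk hr
    exact (CfsgLib.Fitting.pCore_isPGroup r).map _
  have hXY : ∀ r s, r.Prime → s.Prime → r ≠ s → Y s ≤ Subgroup.centralizer (X r : Set G) := by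
    intro r s hr hs hrs
    haveI := Fact.mk hr
    haveI := Fact.mk hs
    exact CfsgLib.RepFix.le_centralizer_of_maximal hrs hp hP hsolA ha hgen hmax (hXA r) (hXn r)
      (hXp r hr) _ (Y s) rfl (hYp s hs) (hAV.trans (hYn s))
  have hcomm : ∀ (T : Subgroup G) (r s : ℕ), r.Prime → s.Prime → r ≠ s →
      (Cfsg.pCore s T).map T.subtype ≤
        Subgroup.centralizer ((Cfsg.pCore r T).map T.subtype : Set G) := by
    intro T r s hr hs hrs
    rintro _ ⟨y, hy, rfl⟩
    refine Subgroup.mem_centralizer_iff.2 ?_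
    rintro _ ⟨x, hx, rfl⟩
    exact congrArg Subtype.val (CfsgLib.Fitting.commute_pCore_of_ne hr hs hrs hx hy).eq
  set K := (Cfsg.fittingSubgroup A).map A.subtype ⊔ V with hK
  let I := (Nat.card G).primeFactors
  have hsubset : ∀ (T : Subgroup G), (Nat.card T).primeFactors ⊆ I :=
    fun T => Nat.primeFactors_mono (Subgroup.card_subgroup_dvd_card T) Nat.card_pos.ne'
  have hVeq : V = ⨆ r : I, Y (r : ℕ) := by
    refine le_antisymm ?_ (iSup_le fun r => hYV r)
    intro v hv
    have h1 : (⟨v, hv⟩ : V) ∈ Cfsg.fittingSubgroup V := by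
      rw [(CfsgLib.Fitting.isNilpotent_iff_fitting_eq_top (G := V)).1 hV]; exact Subgroup.mem_top _
    rw [CfsgLib.Fitting.fitting_eq_iSup_pCore] at h1
    have h2 : v ∈ (⨆ r : (Nat.card V).primeFactors, Cfsg.pCore (r : ℕ) V).map V.subtype :=
      ⟨_, h1, rfl⟩
    rw [Subgroup.map_iSup] at h2
    exact iSup_le (fun r : (Nat.card V).primeFactors => le_iSup (fun r : I => Y (r : ℕ)) ⟨r, hsubset V r.2⟩) h2
  have hFeq : (Cfsg.fittingSubgroup A).map A.subtype ≤ ⨆ r : I, X (r : ℕ) := by
    rw [CfsgLib.Fitting.fitting_eq_iSup_pCore, Subgroup.map_iSup]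
    exact iSup_le fun r => le_iSup (fun r : I => X (r : ℕ)) ⟨r, hsubset A r.2⟩
  have hKle : K ≤ ⨆ r : I, (X (r : ℕ) ⊔ Y (r : ℕ)) := by
    refine sup_le (hFeq.trans (iSup_mono fun r => le_sup_left)) ?_
    exact hVeq.le.trans (iSup_mono fun r => le_sup_right)
  set W : I → Subgroup G := fun r => X (r : ℕ) ⊔ Y (r : ℕ) with hW
  have hWp : ∀ r : I, IsPGroup (r : ℕ) (W r) := fun r => by
    have hr := Nat.prime_of_mem_primeFactors r.2
    rw [hW]
    exact (hXp r hr).to_sup_of_normal_right' (hYp r hr) ((hXA r).trans (hAV.trans (hYn r)))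
  have hWn : ∀ r s : I, W s ≤ Subgroup.normalizer (W r : Set G) := by
    intro r s
    have hr := Nat.prime_of_mem_primeFactors r.2
    have hs := Nat.prime_of_mem_primeFactors s.2
    by_cases h : r = s
    · subst h; exact Subgroup.le_normalizer
    · have hrs : (r : ℕ) ≠ s := fun e => h (Subtype.ext e)
      refine le_trans ?_ (Subgroup.centralizer_le_normalizer _)
      rw [Subgroup.le_centralizer_iff]
      refine sup_le ?_ ?_
      · rw [Subgroup.le_centralizer_iff]
        exact sup_le (hcomm A r s hr hs hrs) (hXY r s hr hs hrs)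
      · rw [Subgroup.le_centralizer_iff]
        exact sup_le ((Subgroup.le_centralizer_iff).1 (hXY s r hs hr hrs.symm)) (hcomm V r s hr hs hrs)
  set L := ⨆ r : I, W r with hL
  have hnil : Group.IsNilpotent L := by
    refine CfsgLib.Fitting.isNilpotent_iff_fitting_eq_top.2 (top_le_iff.1 ?_)
    refine Subgroup.map_le_map_iff_of_injective L.subtype_injective |>.1 ?_
    rw [← MonoidHom.range_eq_map, Subgroup.range_subtype]
    conv_lhs => rw [hL]
    refine iSup_le fun r => ?_
    have hle : W r ≤ L := le_iSup W r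
    rw [← Subgroup.map_subgroupOf_eq_of_le hle]
    refine Subgroup.map_mono (CfsgLib.Fitting.le_fitting
      (Subgroup.normal_subgroupOf_of_le_normalizer (iSup_le fun s => hWn r s)) ?_)
    haveI := Fact.mk (Nat.prime_of_mem_primeFactors r.2)
    exact ((hWp r).comap_subtype (K := L)).isNilpotent
  exact CfsgLib.Fitting.isNilpotent_of_le hnil hKle

end Cfsg.Agent.S3822
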