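import Cfsg.Statements.S3824
import Cfsg.Agent.Lib.Characters.Burnside

set_option autoImplicit false
open Cfsg

namespace Cfsg.Agent.S3824

open Subgroup

universe u

theorem aux (n : ℕ) : ∀ (G : Type u) [Group G] [Finite G], Nat.card G = n → ∀ A : Subgroup G,
    IsMulCommutative A → (∃ k : ℕ, A.index = 2 ^ k) → Group.IsSolvable G := by
  induction n using Nat.strong_induction_on with
  | _ n ih =>
    intro G _ _ hn A hA hk
    obtain ⟨k, hk⟩ := hk
    rcases subsingleton_or_nontrivial G with hG | hG
    · infer_instance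
    by_cases hN : ∃ N : Subgroup G, N.Normal ∧ N ≠ ⊥ ∧ N ≠ ⊤
    · obtain ⟨N, hNn, hN1, hN2⟩ := hN
      have hdiv : A.relIndex N ∣ 2 ^ k := by
        rw [← hk, ← inf_relIndex_right]
        have h : (A ⊓ N).relIndex N ∣ (A ⊔ N).index * (A ⊓ N).relIndex N := dvd_mul_left _ _
        refine h.trans (dvd_of_eq ?_)
        have h1 := relIndex_mul_index (le_sup_left : A ≤ A ⊔ N)
        have h2 := relIndex_mul_relIndex (A ⊓ N) A (A ⊔ N) inf_le_left le_sup_left
        have h3 := relIndex_mul_relIndex (A ⊓ N) N (A ⊔ N) inf_le_right le_sup_right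
        rw [inf_relIndex_left] at h2
        rw [inf_relIndex_right, relIndex_sup_right] at h3
        have hne : N.relIndex A ≠ 0 := index_ne_zero_of_finite
        have h4 : A.relIndex (A ⊔ N) = A.relIndex N :=
          Nat.eq_of_mul_eq_mul_left (Nat.pos_of_ne_zero hne) (h2.trans (h3.symm.trans (mul_comm _ _)))
        rw [inf_relIndex_right, ← h1, h4, mul_comm]
      obtain ⟨i, -, hi⟩ := (Nat.dvd_prime_pow Nat.prime_two).1 hdiv
      have hltN : Nat.card N < n := by
        rw [← hn]
        exact lt_of_le_of_ne (Subgroup.card_le_card_group N) fun h => hN2 (card_eq_iff_eq_top N |>.1 h)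
      haveI h1 : Group.IsSolvable N := ih _ hltN N rfl (A.subgroupOf N)
        inferInstance ⟨i, hi⟩
      have hltQ : Nat.card (G ⧸ N) < n := by
        rw [← hn, card_eq_card_quotient_mul_card_subgroup N]
        exact lt_mul_of_one_lt_right Nat.card_pos (N.one_lt_card_iff_ne_bot.2 hN1)
      have hidx : (A.map (QuotientGroup.mk' N)).index ∣ 2 ^ k := by
        rw [index_map, QuotientGroup.ker_mk', (QuotientGroup.mk' N).range_eq_top_of_surjective
          (QuotientGroup.mk'_surjective N), index_top, mul_one, ← hk]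
        exact index_dvd_of_le le_sup_left
      obtain ⟨j, -, hj⟩ := (Nat.dvd_prime_pow Nat.prime_two).1 hidx
      haveI h2 : Group.IsSolvable (G ⧸ N) := ih _ hltQ (G ⧸ N) rfl (A.map (QuotientGroup.mk' N))
        inferInstance ⟨j, hj⟩
      exact Group.isSolvable_of_ker_le_range N.subtype (QuotientGroup.mk' N) (by simp)
    · have hsimple : IsSimpleGroup G := ⟨fun N hNn => by
        by_contra hc; push Not at hc; exact hN ⟨N, hNn, hc.1, hc.2⟩⟩
      by_cases hA1 : A = ⊥
      · have hp : IsPGroup 2 G := IsPGroup.of_card (n := k) (by rw [← hk, hA1, index_bot])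
        haveI := Fact.mk Nat.prime_two
        haveI := hp.isNilpotent
        infer_instance
      · obtain ⟨g, hg, hg1⟩ : ∃ g ∈ A, g ≠ 1 := by
          by_contra! hc; exact hA1 ((eq_bot_iff_forall _).2 hc)
        have hle : A ≤ centralizer ({g} : Set G) := fun x hx => mem_centralizer_singleton_iff.2
          (congrArg Subtype.val (hA.is_comm.comm (⟨x, hx⟩ : A) ⟨g, hg⟩))
        obtain ⟨j, -, hj⟩ := (Nat.dvd_prime_pow Nat.prime_two).1 (hk ▸ index_dvd_of_le hle)
        have hprime := CfsgLib.Burnside.prime_card_of_prime_power_class Nat.prime_two hg1 hj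
        haveI := Fact.mk hprime
        haveI : IsCyclic G := isCyclic_of_prime_card rfl
        exact Group.isSolvable_of_comm fun x y =>
          (IsCyclic.isMulCommutative (α := G)).is_comm.comm x y

/-- Every finite group having an abelian subgroup whose index is a power of 2 is solvable. -/
theorem result {G : Type*} [Group G] [Finite G]
    (A : Subgroup G) (hA : IsMulCommutative A) (hidx : ∃ k : ℕ, A.index = 2 ^ k) : Group.IsSolvable G := by
  exact aux _ G rfl A hA hidx

end Cfsg.Agent.S3824
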