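import Cfsg.Statements.S3825
import Mathlib.GroupTheory.FixedPointFree
import Mathlib

set_option autoImplicit false
open Cfsg
open scoped commutatorElement

namespace Cfsg.Agent.S3825

/-- Let U be a subgroup of a finite group H and w an involution of H normalizing U and commuting with exactly two elements of U, the identity and y. If V is a non-cyclic elementary abelian 2-subgroup of U containing y which is normal in U and invariant under w, then V is a Sylow 2-subgroup of U, V has order 4, and U/V is abelian. -/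
theorem result {H : Type*} [Group H] [Finite H] (U : Subgroup H) (w : H) (hw : orderOf w = 2)
    (hwU : w ∈ Subgroup.normalizer (U : Set H)) (y : H) (hy : y ≠ 1) (hyU : y ∈ U)
    (hfix : ∀ u ∈ U, w * u * w⁻¹ = u ↔ (u = 1 ∨ u = y))
    (V : Subgroup H) (hVU : V ≤ U) (hVn : (V.subgroupOf U).Normal) (hVw : ∀ v ∈ V, w * v * w⁻¹ ∈ V)
    (hVe : Cfsg.IsElementaryAbelian 2 V) (hVc : ¬ IsCyclic ↥V) (hyV : y ∈ V) :
    ¬ 2 ∣ V.relIndex U ∧ Nat.card ↥V = 4 ∧ ⁅U, U⁆ ≤ V := by
  classical
  have hww : w * w = 1 := by rw [← pow_two]; exact hw ▸ pow_orderOf_eq_one w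
  have hinvol : ∀ u : H, w * (w * u * w⁻¹) * w⁻¹ = u := fun u => by
    calc w * (w * u * w⁻¹) * w⁻¹ = (w * w) * u * (w * w)⁻¹ := by group
      _ = u := by rw [hww]; group
  have hVc2 : ∀ a ∈ V, ∀ b ∈ V, a * b = b * a := fun a ha b hb =>
    congrArg Subtype.val (hVe.1.1.comm (⟨a, ha⟩ : V) ⟨b, hb⟩)
  have hsq : ∀ a ∈ V, a * a = 1 := fun a ha => by rw [← pow_two]; exact hVe.2 a ha
  -- the map `v ↦ v * w v w⁻¹`
  let f : V →* H := MonoidHom.mk' (fun v => (v : H) * (w * v * w⁻¹)) (by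
    rintro ⟨a, ha⟩ ⟨b, hb⟩
    show a * b * (w * (a * b) * w⁻¹) = a * (w * a * w⁻¹) * (b * (w * b * w⁻¹))
    have h1 := hVc2 b hb _ (hVw a ha)
    calc a * b * (w * (a * b) * w⁻¹) = a * (b * (w * a * w⁻¹)) * (w * b * w⁻¹) := by group
      _ = a * ((w * a * w⁻¹) * b) * (w * b * w⁻¹) := by rw [h1]
      _ = a * (w * a * w⁻¹) * (b * (w * b * w⁻¹)) := by group)
  have hsub : ∀ z ∈ V, w * z * w⁻¹ = z → z = 1 ∨ z = y := fun z hz h => (hfix z (hVU hz)).1 h
  have hker : ∀ v : V, v ∈ f.ker ↔ (v : H) = 1 ∨ (v : H) = y := by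
    rintro ⟨v, hv⟩
    rw [MonoidHom.mem_ker]
    show v * (w * v * w⁻¹) = 1 ↔ _
    constructor
    · intro h
      refine hsub v hv ?_
      have := eq_inv_of_mul_eq_one_right h
      rwa [inv_eq_of_mul_eq_one_right (hsq v hv)] at this
    · intro h
      rw [(hfix v (hVU hv)).2 h, hsq v hv]
  have hran : ∀ z ∈ f.range, z = 1 ∨ z = y := by
    rintro _ ⟨⟨v, hv⟩, rfl⟩
    refine hsub _ (mul_mem hv (hVw v hv)) ?_
    show w * (v * (w * v * w⁻¹)) * w⁻¹ = v * (w * v * w⁻¹)
    calc w * (v * (w * v * w⁻¹)) * w⁻¹ = (w * v * w⁻¹) * (w * (w * v * w⁻¹) * w⁻¹) := by group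
      _ = v * (w * v * w⁻¹) := by rw [hinvol, hVc2 _ (hVw v hv) v hv]
  have hk2 : Nat.card f.ker ≤ 2 := by
    rw [← Nat.card_fin 2]
    refine Nat.card_le_card_of_injective (fun v : f.ker => if ((v : V) : H) = 1 then 0 else 1) ?_
    rintro ⟨a, ha⟩ ⟨b, hb⟩ h
    apply Subtype.ext
    apply Subtype.ext
    rcases (hker a).1 ha with h1 | h1 <;> rcases (hker b).1 hb with h2 | h2 <;> dsimp only at h ⊢
    · rw [h1, h2]
    · rw [if_pos h1, if_neg (h2 ▸ hy)] at h; exact absurd h (by decide)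
    · rw [if_neg (h1 ▸ hy), if_pos h2] at h; exact absurd h (by decide)
    · rw [h1, h2]
  have hr2 : Nat.card f.range ≤ 2 := by
    rw [← Nat.card_fin 2]
    refine Nat.card_le_card_of_injective (fun v : f.range => if (v : H) = 1 then 0 else 1) ?_
    rintro ⟨a, ha⟩ ⟨b, hb⟩ h
    apply Subtype.ext
    rcases hran a ha with h1 | h1 <;> rcases hran b hb with h2 | h2 <;> dsimp only at h ⊢
    · rw [h1, h2]
    · rw [if_pos h1, if_neg (h2 ▸ hy)] at h; exact absurd h (by decide)
    · rw [if_neg (h1 ▸ hy), if_pos h2] at h; exact absurd h (by decide)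
    · rw [h1, h2]
  have hV4 : Nat.card V = 4 := by
    have h1 : Nat.card V = Nat.card f.ker * Nat.card f.range := by
      rw [← f.ker.card_mul_index, Subgroup.index_ker]
    haveI : Fact (Nat.Prime 2) := ⟨Nat.prime_two⟩
    obtain ⟨n, hn⟩ := IsPGroup.iff_card.1 (isPGroup_iff_pow_pow_eq_one.2 fun v : V =>
      ⟨1, Subtype.ext (by simpa using hVe.2 v v.2)⟩ : IsPGroup 2 V)
    have h4 : Nat.card V ≤ 4 := h1 ▸ (Nat.mul_le_mul hk2 hr2)
    rcases n with _ | _ | _ | n
    · exfalso
      haveI : Subsingleton V := (Nat.card_eq_one_iff_unique.1 (by simpa using hn)).1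
      exact hVc isCyclic_of_subsingleton
    · exact absurd (isCyclic_of_prime_card (p := 2) (by simpa using hn)) hVc
    · simpa using hn
    · rw [hn] at h4
      have : 2 ^ 3 ≤ 2 ^ (n + 1 + 1 + 1) := Nat.pow_le_pow_right two_pos (by omega)
      omega
  obtain ⟨v₀, hv₀, hv₀y⟩ : ∃ v₀ ∈ V, v₀ * (w * v₀ * w⁻¹) = y := by
    by_contra hc
    push Not at hc
    have : f.range = ⊥ := by
      rw [Subgroup.eq_bot_iff_forall]
      rintro _ ⟨⟨v, hv⟩, rfl⟩
      exact (hran _ ⟨⟨v, hv⟩, rfl⟩).resolve_right (hc v hv)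
    have h1 := f.ker.card_mul_index
    rw [Subgroup.index_ker, this, Subgroup.card_bot, mul_one, hV4] at h1
    omega
  -- the action on `U / V`
  have hwU' : ∀ u ∈ U, w * u * w⁻¹ ∈ U := fun u hu => (Subgroup.mem_normalizer_iff.1 hwU u).1 hu
  let ψ : U →* U := MonoidHom.mk' (fun u => ⟨w * u * w⁻¹, hwU' u u.2⟩)
    (fun a b => Subtype.ext (show w * ((a : H) * b) * w⁻¹ = w * a * w⁻¹ * (w * b * w⁻¹) by group))
  haveI := hVn
  set N := V.subgroupOf U with hN
  have hψN : N ≤ N.comap ψ := fun u hu => hVw (u : H) hu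
  set φ := QuotientGroup.map N N ψ hψN with hφ
  have hinv : Function.Involutive φ := fun z => by
    induction z using QuotientGroup.induction_on with
    | H u => exact congrArg (QuotientGroup.mk' N) (Subtype.ext (hinvol (u : H)))
  have hfpf : MonoidHom.FixedPointFree φ := by
    intro z hz
    induction z using QuotientGroup.induction_on with
    | H u =>
      have hv : (u : H)⁻¹ * (w * u * w⁻¹) ∈ V := by
        have h := QuotientGroup.eq.1 hz.symm
        exact h
      set v := (u : H)⁻¹ * (w * u * w⁻¹) with hvdef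
      have huv : w * u * w⁻¹ = u * v := by rw [hvdef, mul_inv_cancel_left]
      have hvfix : w * v * w⁻¹ = v := by
        have h1 : (u : H) = u * v * (w * v * w⁻¹) := by
          conv_lhs => rw [← hinvol (u : H), huv]
          calc w * ((u : H) * v) * w⁻¹ = (w * u * w⁻¹) * (w * v * w⁻¹) := by group
            _ = u * v * (w * v * w⁻¹) := by rw [huv]
        rw [mul_assoc, left_eq_mul] at h1
        rw [eq_inv_of_mul_eq_one_right h1, inv_eq_of_mul_eq_one_right (hsq v hv)]
      rw [QuotientGroup.eq_one_iff]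
      show (u : H) ∈ V
      rcases hsub v hv hvfix with hv1 | hv1
      · rw [hv1, mul_one] at huv
        rcases (hfix u u.2).1 huv with h | h <;> rw [h]
        · exact one_mem V
        · exact hyV
      · have h2 : w * (u * v₀) * w⁻¹ = u * v₀ := by
          calc w * ((u : H) * v₀) * w⁻¹ = (w * u * w⁻¹) * (w * v₀ * w⁻¹) := by group
            _ = u * (v₀ * (w * v₀ * w⁻¹) * (w * v₀ * w⁻¹)) := by rw [huv, hv1, ← hv₀y, mul_assoc]
            _ = u * v₀ := by
              rw [mul_assoc v₀, hsq _ (hVw v₀ hv₀), mul_one]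
        have h3 : (u : H) * v₀ ∈ V := by
          rcases (hfix _ (mul_mem u.2 (hVU hv₀))).1 h2 with h | h <;> rw [h]
          · exact one_mem V
          · exact hyV
        simpa using mul_mem h3 (inv_mem hv₀)
  refine ⟨?_, hV4, ?_⟩
  · have h := MonoidHom.FixedPointFree.odd_card_of_involutive hfpf hinv
    intro hd
    have h1 : N.index % 2 = 0 := Nat.mod_eq_zero_of_dvd hd
    rw [← Subgroup.index_eq_card, Nat.odd_iff] at h
    omega
  · rw [Subgroup.commutator_le]
    intro a ha b hb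
    have h := MonoidHom.FixedPointFree.commute_all_of_involutive hfpf hinv
      ((⟨a, ha⟩ : U) : U ⧸ N) ((⟨b, hb⟩ : U) : U ⧸ N)
    have h1 : ((⁅(⟨a, ha⟩ : U), ⟨b, hb⟩⁆ : U) : U ⧸ N) = 1 := by
      show (QuotientGroup.mk' N) ⁅(⟨a, ha⟩ : U), ⟨b, hb⟩⁆ = 1
      rw [map_commutatorElement, commutatorElement_eq_one_iff_mul_comm]
      exact h
    exact (QuotientGroup.eq_one_iff (N := N) _).1 h1

end Cfsg.Agent.S3825
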