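import Cfsg.Statements.S3835

set_option autoImplicit false
open Cfsg

namespace Cfsg.Agent.S3835

open Matrix
open scoped commutatorElement

variable {p : ℕ} [hpf : Fact p.Prime]

/-- The matrices with last row `(0,0,1)`. -/
def affine (p : ℕ) [Fact p.Prime] : Subgroup (Matrix.SpecialLinearGroup (Fin 3) (ZMod p)) where
  carrier := {M | (M : Matrix (Fin 3) (Fin 3) (ZMod p)) 2 0 = 0 ∧
    (M : Matrix (Fin 3) (Fin 3) (ZMod p)) 2 1 = 0 ∧ (M : Matrix (Fin 3) (Fin 3) (ZMod p)) 2 2 = 1}
  one_mem' := by simp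
  mul_mem' := by
    rintro A B ⟨a0, a1, a2⟩ ⟨b0, b1, b2⟩
    simp only [Set.mem_setOf_eq, Matrix.SpecialLinearGroup.coe_mul, Matrix.mul_apply, Fin.sum_univ_three]
    simp [a0, a1, a2, b0, b1, b2]
  inv_mem' := by
    intro A hA
    obtain ⟨a0, a1, a2⟩ := hA
    have hB : (A⁻¹ : Matrix.SpecialLinearGroup (Fin 3) (ZMod p)) = A⁻¹ := rfl
    have h : ∀ j, ((A * A⁻¹ : Matrix.SpecialLinearGroup (Fin 3) (ZMod p)) :
        Matrix (Fin 3) (Fin 3) (ZMod p)) 2 j = (1 : Matrix (Fin 3) (Fin 3) (ZMod p)) 2 j := by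
      intro j; rw [mul_inv_cancel]; rfl
    simp only [Matrix.SpecialLinearGroup.coe_mul, Matrix.mul_apply, Fin.sum_univ_three, a0, a1, a2,
      zero_mul, one_mul, zero_add] at h
    exact ⟨by simpa using h 0, by simpa using h 1, by simpa using h 2⟩

theorem mem_qd (M : Matrix.SpecialLinearGroup (Fin 3) (ZMod p)) :
    M ∈ Cfsg.qd p ↔ M ∈ affine p := by
  constructor
  · exact fun h => (Subgroup.closure_le _).mpr (fun A hA => hA) h
  · exact fun h => Subgroup.subset_closure h

theorem val_mul (A B : Cfsg.qd p) : ((A * B).1 : Matrix (Fin 3) (Fin 3) (ZMod p)) =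
    (A.1 : Matrix (Fin 3) (Fin 3) (ZMod p)) * (B.1 : Matrix (Fin 3) (Fin 3) (ZMod p)) := rfl

theorem plane_mulVec (A : Cfsg.qd p) {v : Fin 3 → ZMod p} (hv : v 2 = 1) :
    ((A.1 : Matrix (Fin 3) (Fin 3) (ZMod p)) *ᵥ v) 2 = 1 := by
  obtain ⟨a0, a1, a2⟩ := (mem_qd _).mp A.2
  simp [Matrix.mulVec, dotProduct, Fin.sum_univ_three, a0, a1, a2, hv]

/-- The affine plane as a set of vectors. -/
def Plane (p : ℕ) : Type := {v : Fin 3 → ZMod p // v 2 = 1}

def planeEquiv (p : ℕ) : Plane p ≃ ZMod p × ZMod p where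
  toFun v := (v.1 0, v.1 1)
  invFun a := ⟨![a.1, a.2, 1], rfl⟩
  left_inv v := by
    apply Subtype.ext
    funext i
    fin_cases i
    · rfl
    · rfl
    · exact v.2.symm
  right_inv a := rfl

/-- `Qd(p)` acting on the affine plane. -/
def planeHom (p : ℕ) [Fact p.Prime] : Cfsg.qd p →* Equiv.Perm (Plane p) where
  toFun A :=
    { toFun := fun v => ⟨(A.1 : Matrix (Fin 3) (Fin 3) (ZMod p)) *ᵥ v.1, plane_mulVec A v.2⟩
      invFun := fun v => ⟨((A⁻¹).1 : Matrix (Fin 3) (Fin 3) (ZMod p)) *ᵥ v.1, plane_mulVec A⁻¹ v.2⟩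
      left_inv := fun v => Subtype.ext (by
        show ((A⁻¹).1 : Matrix (Fin 3) (Fin 3) (ZMod p)) *ᵥ
          ((A.1 : Matrix (Fin 3) (Fin 3) (ZMod p)) *ᵥ v.1) = v.1
        rw [Matrix.mulVec_mulVec, ← val_mul, inv_mul_cancel]
        simp)
      right_inv := fun v => Subtype.ext (by
        show (A.1 : Matrix (Fin 3) (Fin 3) (ZMod p)) *ᵥ
          (((A⁻¹).1 : Matrix (Fin 3) (Fin 3) (ZMod p)) *ᵥ v.1) = v.1
        rw [Matrix.mulVec_mulVec, ← val_mul, mul_inv_cancel]
        simp) }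
  map_one' := Equiv.ext fun v => Subtype.ext (Matrix.one_mulVec v.1)
  map_mul' A B := Equiv.ext fun v => Subtype.ext (by
    show ((A * B).1 : Matrix (Fin 3) (Fin 3) (ZMod p)) *ᵥ v.1 =
      (A.1 : Matrix (Fin 3) (Fin 3) (ZMod p)) *ᵥ ((B.1 : Matrix (Fin 3) (Fin 3) (ZMod p)) *ᵥ v.1)
    rw [Matrix.mulVec_mulVec, val_mul])

theorem planeHom_injective (p : ℕ) [Fact p.Prime] : Function.Injective (planeHom p) := by
  rw [injective_iff_map_eq_one]
  intro A hA
  have h : ∀ v : Plane p, (A.1 : Matrix (Fin 3) (Fin 3) (ZMod p)) *ᵥ v.1 = v.1 := fun v =>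
    congrArg Subtype.val (Equiv.ext_iff.mp hA v)
  have h0 := h ⟨![0, 0, 1], rfl⟩
  have h1 := h ⟨![1, 0, 1], rfl⟩
  have h2 := h ⟨![0, 1, 1], rfl⟩
  apply Subtype.ext
  apply Matrix.SpecialLinearGroup.ext
  intro i j
  have e0 := congrFun h0 i
  have e1 := congrFun h1 i
  have e2 := congrFun h2 i
  simp [Matrix.mulVec, dotProduct, Fin.sum_univ_three] at e0 e1 e2
  fin_cases i <;> fin_cases j <;> simp_all

/-- An upper unitriangular element. -/
def upperElt (p : ℕ) [Fact p.Prime] (x a b : ZMod p) : Cfsg.qd p :=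
  ⟨⟨!![1, x, a; 0, 1, b; 0, 0, 1], by simp [Matrix.det_fin_three]⟩, (mem_qd _).mpr ⟨rfl, rfl, rfl⟩⟩

/-- A lower transvection. -/
def lowerElt (p : ℕ) [Fact p.Prime] (c : ZMod p) : Cfsg.qd p :=
  ⟨⟨!![1, 0, 0; c, 1, 0; 0, 0, 1], by simp [Matrix.det_fin_three]⟩, (mem_qd _).mpr ⟨rfl, rfl, rfl⟩⟩

theorem upperElt_mul (x a b y c d : ZMod p) :
    upperElt p x a b * upperElt p y c d = upperElt p (x + y) (a + c + x * d) (b + d) := by
  apply Subtype.ext
  apply Matrix.SpecialLinearGroup.ext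
  intro i j
  rw [val_mul]
  fin_cases i <;> fin_cases j <;>
    simp [upperElt, Matrix.mul_apply, Fin.sum_univ_three] <;> ring

theorem upperElt_pow (x a b : ZMod p) (k : ℕ) :
    upperElt p x a b ^ k =
      upperElt p (k * x) (k * a + (k.choose 2 : ℕ) * x * b) (k * b) := by
  induction k with
  | zero =>
    apply Subtype.ext
    apply Matrix.SpecialLinearGroup.ext
    intro i j
    fin_cases i <;> fin_cases j <;> simp [upperElt]
  | succ k ih =>
    rw [pow_succ, ih, upperElt_mul]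
    rw [Nat.choose_succ_succ', Nat.choose_one_right]
    push_cast
    congr 1 <;> ring

theorem upperElt_pow_p (hp : p ≠ 2) (x a b : ZMod p) : upperElt p x a b ^ p = 1 := by
  rw [upperElt_pow]
  have h2 : ((p.choose 2 : ℕ) : ZMod p) = 0 := by
    rw [ZMod.natCast_eq_zero_iff]
    exact hpf.out.dvd_choose_self two_ne_zero (lt_of_le_of_ne hpf.out.two_le (Ne.symm hp))
  simp only [ZMod.natCast_self, h2, zero_mul, add_zero]
  apply Subtype.ext
  apply Matrix.SpecialLinearGroup.ext
  intro i j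
  fin_cases i <;> fin_cases j <;> simp [upperElt]

theorem lowerElt_pow (c : ZMod p) (k : ℕ) : lowerElt p c ^ k = lowerElt p (k * c) := by
  induction k with
  | zero =>
    apply Subtype.ext
    apply Matrix.SpecialLinearGroup.ext
    intro i j
    fin_cases i <;> fin_cases j <;> simp [lowerElt]
  | succ k ih =>
    rw [pow_succ, ih]
    apply Subtype.ext
    apply Matrix.SpecialLinearGroup.ext
    intro i j
    rw [val_mul]
    fin_cases i <;> fin_cases j <;>
      simp [lowerElt, Matrix.mul_apply, Fin.sum_univ_three] <;> ring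

theorem lowerElt_pow_p (c : ZMod p) : lowerElt p c ^ p = 1 := by
  rw [lowerElt_pow, ZMod.natCast_self, zero_mul]
  apply Subtype.ext
  apply Matrix.SpecialLinearGroup.ext
  intro i j
  fin_cases i <;> fin_cases j <;> simp [lowerElt]

theorem qd_mem_closure (A : Cfsg.qd p) :
    A ∈ Subgroup.closure {B : Cfsg.qd p | (∃ x a b, B = upperElt p x a b) ∨ ∃ c, B = lowerElt p c} := by
  set S := Subgroup.closure {B : Cfsg.qd p | (∃ x a b, B = upperElt p x a b) ∨ ∃ c, B = lowerElt p c}
  have hu : ∀ x a b, upperElt p x a b ∈ S := fun x a b => Subgroup.subset_closure (Or.inl ⟨x, a, b, rfl⟩)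
  have hl : ∀ c, lowerElt p c ∈ S := fun c => Subgroup.subset_closure (Or.inr ⟨c, rfl⟩)
  have main : ∀ A : Cfsg.qd p, (A.1 : Matrix (Fin 3) (Fin 3) (ZMod p)) 1 0 ≠ 0 → A ∈ S := by
    intro A hc
    obtain ⟨a0, a1, a2⟩ := (mem_qd _).mp A.2
    set M := (A.1 : Matrix (Fin 3) (Fin 3) (ZMod p)) with hM
    have hdet : M 0 0 * M 1 1 - M 0 1 * M 1 0 = 1 := by
      have h := A.1.2
      rw [Matrix.det_fin_three] at h
      rw [← hM] at h
      simp only [a0, a1, a2] at h
      simpa using h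
    have e : A = upperElt p ((M 0 0 - 1) / M 1 0) (M 0 2) (M 1 2) * lowerElt p (M 1 0) *
        upperElt p ((M 1 1 - 1) / M 1 0) 0 0 := by
      apply Subtype.ext
      apply Matrix.SpecialLinearGroup.ext
      intro i j
      rw [val_mul, val_mul]
      fin_cases i <;> fin_cases j <;>
        simp [upperElt, lowerElt, Matrix.mul_apply, Fin.sum_univ_three, ← hM, a0, a1, a2] <;>
        field_simp
      all_goals (first | linear_combination (-1 : ZMod p) * hdet | linear_combination hdet | ring1)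
    rw [e]
    exact S.mul_mem (S.mul_mem (hu _ _ _) (hl _)) (hu _ _ _)
  by_cases hc : (A.1 : Matrix (Fin 3) (Fin 3) (ZMod p)) 1 0 = 0
  · have hd : (A.1 : Matrix (Fin 3) (Fin 3) (ZMod p)) 0 0 ≠ 0 := by
      intro ha
      have h := A.1.2
      obtain ⟨a0, a1, a2⟩ := (mem_qd _).mp A.2
      rw [Matrix.det_fin_three] at h
      simp [ha, hc, a0, a1] at h
    have h := main (lowerElt p 1 * A) (by
      rw [val_mul]
      simp [lowerElt, Matrix.mul_apply, Fin.sum_univ_three, hc, hd])
    simpa using S.mul_mem (S.inv_mem (hl 1)) h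
  · exact main A hc

theorem exists_embedding (hp : p ≠ 2) {n : ℕ} (hn : p ^ 2 ≤ n) :
    ∃ H : Subgroup (alternatingGroup (Fin n)), Nonempty (↥H ≃* ↥(Cfsg.qd p)) := by
  haveI : NeZero p := ⟨hpf.out.ne_zero⟩
  haveI : Fintype (Plane p) := Fintype.ofEquiv _ (planeEquiv p).symm
  have hcard : Fintype.card (Plane p) ≤ Fintype.card (Fin n) := by
    rw [Fintype.card_congr (planeEquiv p), Fintype.card_prod, ZMod.card, Fintype.card_fin, ← sq]
    exact hn
  obtain ⟨ι⟩ := Function.Embedding.nonempty_of_card_le hcard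
  let f := (Equiv.Perm.viaEmbeddingHom ι).comp (planeHom p)
  have hf : Function.Injective f :=
    (Equiv.Perm.viaEmbeddingHom_injective ι).comp (planeHom_injective p)
  have halt : ∀ A, f A ∈ alternatingGroup (Fin n) := by
    intro A
    rw [Equiv.Perm.mem_alternatingGroup]
    have hA := qd_mem_closure A
    induction hA using Subgroup.closure_induction with
    | mem B hB =>
      have hBp : B ^ p = 1 := by
        rcases hB with ⟨x, a, b, rfl⟩ | ⟨c, rfl⟩
        · exact upperElt_pow_p hp x a b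
        · exact lowerElt_pow_p c
      have h1 : Equiv.Perm.sign (f B) ^ p = 1 := by rw [← map_pow, ← map_pow, hBp, map_one, map_one]
      rcases Int.units_eq_one_or (Equiv.Perm.sign (f B)) with h | h
      · exact h
      · rw [h, (hpf.out.odd_of_ne_two hp).neg_one_pow] at h1
        exact absurd h1 (by decide)
    | one => rw [map_one, map_one]
    | mul x y _ _ hx hy => rw [map_mul, map_mul, hx, hy, one_mul]
    | inv x _ hx => rw [map_inv, map_inv, hx, inv_one]
  exact ⟨_, ⟨(MonoidHom.ofInjective (f := f.codRestrict _ halt)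
    (fun a b h => hf (congrArg Subtype.val h))).symm⟩⟩

theorem commute_of_small {n : ℕ} (hn : n < p ^ 2) {S : Subgroup (Equiv.Perm (Fin n))} (hS : IsPGroup p S)
    (x y : S) : x * y = y * x := by
  rw [← commutatorElement_eq_one_iff_mul_comm]
  apply Subtype.ext
  apply Equiv.ext
  intro a
  set St := MulAction.stabilizer S a with hSt
  obtain ⟨k, hk⟩ := hS.index St
  have hle : St.index ≤ n := by
    rw [MulAction.index_stabilizer]
    exact (Set.ncard_le_card _).trans_eq (by simp)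
  have hk2 : k ≤ 1 := by
    by_contra h
    have := Nat.pow_le_pow_right hpf.out.pos (show 2 ≤ k by omega)
    omega
  have hmem : ⁅x, y⁆ ∈ St := by
    rcases Nat.le_one_iff_eq_zero_or_eq_one.mp hk2 with rfl | rfl
    · rw [pow_zero, Subgroup.index_eq_one] at hk
      rw [hk]; trivial
    · rw [pow_one] at hk
      have hn' : St.Normal := by
        refine Subgroup.normal_of_index_eq_minFac_card ?_
        rw [hk]
        obtain ⟨m, hm⟩ := hS.exists_card_eq
        have hm0 : m ≠ 0 := by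
          rintro rfl
          have := Subgroup.index_dvd_card St
          rw [hk, hm, pow_zero, Nat.dvd_one] at this
          exact hpf.out.ne_one this
        rw [hm, Nat.pow_minFac hm0, hpf.out.minFac_eq]
      haveI := hn'
      have hc : Nat.card (S ⧸ St) = p := by rw [← Subgroup.index_eq_card, hk]
      haveI := isCyclic_of_prime_card hc
      have hcm := IsCyclic.isMulCommutative (α := S ⧸ St)
      rw [← QuotientGroup.eq_one_iff, ← QuotientGroup.mk'_apply, map_commutatorElement,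
        commutatorElement_eq_one_iff_mul_comm]
      exact isMulCommutative_iff.mp hcm _ _
  exact hmem

theorem not_involves (hp : p ≠ 2) {n : ℕ} (hn : n < p ^ 2) :
    ¬ Cfsg.Involves ↥(Cfsg.qd p) ↥(alternatingGroup (Fin n)) := by
  rintro ⟨K, R, hR, ⟨e⟩⟩
  haveI : NeZero p := ⟨hpf.out.ne_zero⟩
  let g : K →* Cfsg.qd p := e.toMonoidHom.comp (QuotientGroup.mk' (R.subgroupOf K))
  have hg : Function.Surjective g := e.surjective.comp (QuotientGroup.mk'_surjective _)
  obtain ⟨S⟩ : Nonempty (Sylow p K) := inferInstance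
  let P := S.mapSurjective hg
  have hab : ∀ x ∈ (P : Subgroup (Cfsg.qd p)), ∀ y ∈ (P : Subgroup (Cfsg.qd p)), x * y = y * x := by
    intro x hx y hy
    rw [Sylow.coe_mapSurjective] at hx hy
    obtain ⟨a, ha, rfl⟩ := hx
    obtain ⟨b, hb, rfl⟩ := hy
    rw [← map_mul, ← map_mul]
    congr 1
    let φ : K →* Equiv.Perm (Fin n) := (alternatingGroup (Fin n)).subtype.comp K.subtype
    have hφ : Function.Injective φ := Subtype.val_injective.comp Subtype.val_injective
    have h := commute_of_small hn (S.2.map φ) ⟨φ a, a, ha, rfl⟩ ⟨φ b, b, hb, rfl⟩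
    apply hφ
    rw [map_mul, map_mul]
    exact congrArg Subtype.val h
  let U : Subgroup (Cfsg.qd p) :=
    { carrier := {A | ∃ x a b, A = upperElt p x a b}
      one_mem' := ⟨0, 0, 0, by
        apply Subtype.ext
        apply Matrix.SpecialLinearGroup.ext
        intro i j
        fin_cases i <;> fin_cases j <;> simp [upperElt]⟩
      mul_mem' := by rintro _ _ ⟨x, a, b, rfl⟩ ⟨y, c, d, rfl⟩; exact ⟨_, _, _, upperElt_mul ..⟩
      inv_mem' := by
        rintro _ ⟨x, a, b, rfl⟩
        refine ⟨-x, -a + x * b, -b, inv_eq_of_mul_eq_one_right ?_⟩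
        rw [upperElt_mul]
        apply Subtype.ext
        apply Matrix.SpecialLinearGroup.ext
        intro i j
        fin_cases i <;> fin_cases j <;> simp [upperElt] }
  have hU : IsPGroup p U := by
    rintro ⟨_, x, a, b, rfl⟩
    exact ⟨1, Subtype.ext (by rw [pow_one]; exact upperElt_pow_p hp x a b)⟩
  obtain ⟨T, hT⟩ := hU.exists_le_sylow
  obtain ⟨c, hc⟩ := MulAction.exists_smul_eq (Cfsg.qd p) T P
  have h1 : ∀ z ∈ U, c * z * c⁻¹ ∈ (P : Subgroup (Cfsg.qd p)) := by
    intro z hz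
    rw [← hc, Sylow.coe_subgroup_smul]
    exact ⟨z, hT hz, rfl⟩
  have hx := h1 (upperElt p 1 0 0) ⟨_, _, _, rfl⟩
  have hy := h1 (upperElt p 0 0 1) ⟨_, _, _, rfl⟩
  have h2 := hab _ hx _ hy
  simp only [mul_assoc, inv_mul_cancel_left, mul_left_cancel_iff] at h2
  simp only [← mul_assoc, mul_left_inj] at h2
  rw [upperElt_mul, upperElt_mul] at h2
  have h3 := congrArg (fun A : Cfsg.qd p => (A.1 : Matrix (Fin 3) (Fin 3) (ZMod p)) 0 2) h2
  simp [upperElt] at h3


/-- Let p be an odd prime and n a natural number. The alternating group of degree n has a subgroup isomorphic to Qd(p) (the natural semidirect product of an elementary abelian group of order p² by SL₂(p)) if and only if n ≥ p²; and if n < p² then Qd(p) is not even involved in it. -/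
theorem result {p : ℕ} [Fact p.Prime] (hp : p ≠ 2) (n : ℕ) : ((∃ H : Subgroup (alternatingGroup (Fin n)), Nonempty (↥H ≃* ↥(Cfsg.qd p))) ↔ p ^ 2 ≤ n) ∧ (n < p ^ 2 → ¬ Cfsg.Involves ↥(Cfsg.qd p) ↥(alternatingGroup (Fin n))) := by
  refine ⟨⟨fun hH => ?_, exists_embedding hp⟩, not_involves hp⟩
  obtain ⟨H, ⟨e⟩⟩ := hH
  by_contra h
  refine not_involves hp (not_le.mp h) ⟨H, ⊥, inferInstance, ⟨?_⟩⟩
  exact ((QuotientGroup.quotientMulEquivOfEq (by simp : (⊥ : Subgroup _).subgroupOf H = ⊥)).trans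
    QuotientGroup.quotientBot).trans e

end Cfsg.Agent.S3835
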