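import Cfsg.Statements.S3836
import Cfsg.Agent.Lib.Solvable.Fitting

set_option autoImplicit false
open Cfsg

namespace Cfsg.Agent.S3836

theorem conj_iff {G : Type*} [Group G] {H : Subgroup G} {Q : Subgroup H} {x : H}
    (hx : x ∈ Subgroup.normalizer (Q : Set H)) :
    (x : G) ∈ Subgroup.normalizer ((Q.map H.subtype : Subgroup G) : Set G) :=
  Subgroup.le_normalizer_map H.subtype ⟨x, hx, rfl⟩


/-- Let G be a finite group that is p-stable in the normalizer form: for every p-subgroup Q and every x ∈ N_G(Q) with [Q, x, x] = 1, the image of x in N_G(Q)/C_G(Q) lies in O_p(N_G(Q)/C_G(Q)). Then every subgroup of G is p-stable in the same sense. -/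
theorem result {G : Type*} [Group G] [Finite G] {p : ℕ} [Fact p.Prime] (hst : Cfsg.IsNormalizerPStable p G) (H : Subgroup G) : Cfsg.IsNormalizerPStable p ↥H := by
  intro Q hQ g hg hcomm
  let Q' : Subgroup G := Q.map H.subtype
  have hc' : ⁅⁅Q', Subgroup.zpowers (g : G)⁆, Subgroup.zpowers (g : G)⁆ = ⊥ := by
    have hz : Subgroup.zpowers (g : G) = (Subgroup.zpowers g).map H.subtype :=
      (MonoidHom.map_zpowers H.subtype g).symm
    rw [hz, ← Subgroup.map_commutator, ← Subgroup.map_commutator, hcomm, Subgroup.map_bot]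
  have hmem := hst Q' (hQ.map H.subtype) (g : G) (conj_iff hg) hc'
  let NH := Subgroup.normalizer (Q : Set H)
  let NG := Subgroup.normalizer (Q' : Set G)
  let CH := (Subgroup.centralizer (Q : Set H)).subgroupOf NH
  let CG := (Subgroup.centralizer (Q' : Set G)).subgroupOf NG
  let f : NH →* NG :=
    { toFun := fun x => ⟨((x : H) : G), conj_iff x.2⟩
      map_one' := rfl
      map_mul' := fun _ _ => rfl }
  have hf : ∀ x : NH, f x ∈ CG ↔ x ∈ CH := by
    intro x
    simp only [CG, CH, Subgroup.mem_subgroupOf]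
    constructor
    · intro hx q hq
      exact Subtype.ext (hx _ ⟨q, hq, rfl⟩)
    · rintro hx _ ⟨q, hq, rfl⟩
      exact congrArg Subtype.val (hx q hq)
  let φ : NH ⧸ CH →* NG ⧸ CG := QuotientGroup.map CH CG f fun x hx => (hf x).mpr hx
  have hinj : Function.Injective φ := by
    rw [← MonoidHom.ker_eq_bot_iff, eq_bot_iff]
    intro x hx
    obtain ⟨y, rfl⟩ := QuotientGroup.mk'_surjective CH x
    rw [MonoidHom.mem_ker] at hx
    rw [Subgroup.mem_bot]
    exact (QuotientGroup.eq_one_iff y).mpr ((hf y).mp ((QuotientGroup.eq_one_iff (f y)).mp hx))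
  have hn : ((Cfsg.pCore p (NG ⧸ CG)).comap φ).Normal :=
    (CfsgLib.Fitting.pCore_normal p).comap φ
  exact CfsgLib.Fitting.le_pCore hn
    ((CfsgLib.Fitting.pCore_isPGroup p).comap_of_injective φ hinj) hmem

end Cfsg.Agent.S3836
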