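import Cfsg.Statements.S3838
import Cfsg.Agent.Lib.Transfer.NormalComplement
import Cfsg.Agent.Lib.Techniques.Basic
import Cfsg.Agent.Lib.Coprime.SchurZassenhaus

set_option autoImplicit false
open Cfsg
open scoped commutatorElement

namespace Cfsg.Agent.S3838

/-- Let G be a finite group with Sylow p-subgroup P such that N_G(P) has a normal p-complement. Then N_G(Q) has a normal p-complement for every subgroup Q with [P, P] ≤ Q ≤ Φ(P). -/
theorem result {G : Type*} [Group G] [Finite G] {p : ℕ} [Fact p.Prime] (P : Sylow p G) (hN : Cfsg.HasNormalPComplement p ↥(Subgroup.normalizer ((P : Subgroup G) : Set G))) (Q : Subgroup G) (h1 : (commutator ↥(P : Subgroup G)).map (P : Subgroup G).subtype ≤ Q) (h2 : Q ≤ (frattini ↥(P : Subgroup G)).map (P : Subgroup G).subtype) : Cfsg.HasNormalPComplement p ↥(Subgroup.normalizer (Q : Set G)) := by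
  have hQP : Q ≤ (P : Subgroup G) := h2.trans (Subgroup.map_subtype_le _)
  have hcomm : ∀ u ∈ (P : Subgroup G), ∀ y ∈ (P : Subgroup G), u * y * u⁻¹ * y⁻¹ ∈ Q := by
    intro u hu y hy
    refine h1 ⟨⁅(⟨u, hu⟩ : (P : Subgroup G)), ⟨y, hy⟩⁆, ?_, by simp [commutatorElement_def]⟩
    rw [commutator_def]
    exact Subgroup.commutator_mem_commutator (Subgroup.mem_top _) (Subgroup.mem_top _)
  set N := Subgroup.normalizer (Q : Set G)
  have hPN : (P : Subgroup G) ≤ N := by
    intro u hu
    have key : ∀ u ∈ (P : Subgroup G), ∀ x ∈ Q, u * x * u⁻¹ ∈ Q := fun u hu x hx => by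
      simpa using Q.mul_mem (hcomm u hu x (hQP hx)) hx
    rw [Subgroup.mem_normalizer_iff]
    exact fun x => ⟨key u hu x, fun hx => by simpa [mul_assoc] using key u⁻¹ (inv_mem hu) _ hx⟩
  let P₁ : Sylow p N := P.subtype hPN
  set Q₁ := Q.subgroupOf N
  haveI hQ₁ : Q₁.Normal := Subgroup.normal_in_normalizer
  have hQP₁ : Q₁ ≤ (P₁ : Subgroup N) := fun x hx => hQP hx
  set q := QuotientGroup.mk' Q₁
  have hq : Function.Surjective q := QuotientGroup.mk'_surjective _
  let Pb : Sylow p (N ⧸ Q₁) := P₁.mapSurjective hq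
  -- Burnside's transfer theorem in `N / Q`
  have hB : Cfsg.HasNormalPComplement p (N ⧸ Q₁) := by
    apply CfsgLib.Transfer.hasNormalPComplement_of_normalizer_le Pb
    intro z hz
    obtain ⟨g, rfl⟩ := hq z
    have hgP : (g : G) ∈ Subgroup.normalizer ((P : Subgroup G) : Set G) := by
      have key : ∀ g : N, q g ∈ Subgroup.normalizer ((Pb : Subgroup (N ⧸ Q₁)) : Set (N ⧸ Q₁)) →
          ∀ x ∈ (P : Subgroup G), (g : G) * x * (g : G)⁻¹ ∈ (P : Subgroup G) := by
        intro g hg x hx
        have h3 := (Subgroup.mem_normalizer_iff.mp hg (q ⟨x, hPN hx⟩)).mp ⟨⟨x, hPN hx⟩, hx, rfl⟩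
        obtain ⟨w, hw, e⟩ := h3
        rw [← map_inv, ← map_mul, ← map_mul] at e
        have hmem := hQP₁ (QuotientGroup.eq.mp e)
        have h4 : (w : G)⁻¹ * ((g : G) * x * (g : G)⁻¹) ∈ (P : Subgroup G) := hmem
        have h5 := mul_mem (show (w : G) ∈ (P : Subgroup G) from hw) h4
        simpa [mul_assoc] using h5
      rw [Subgroup.mem_normalizer_iff]
      intro x
      refine ⟨key g hz x, fun hx => ?_⟩
      have := key g⁻¹ (by rw [map_inv]; exact inv_mem hz) _ hx
      simpa [mul_assoc] using this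
    rw [Subgroup.mem_centralizer_iff]
    rintro _ ⟨y, hy, rfl⟩
    set M := Subgroup.normalizer ((P : Subgroup G) : Set G)
    let PM : Sylow p M := P.subtype Subgroup.le_normalizer
    haveI : (PM : Subgroup M).Normal := Subgroup.normal_in_normalizer
    obtain ⟨P', K, hKn, hK⟩ := hN
    have hK' : K.IsComplement' (PM : Subgroup M) := by
      haveI := Sylow.unique_of_normal PM inferInstance
      rwa [Subsingleton.elim PM P']
    have hg : (⟨g, hgP⟩ : M) ∈ K ⊔ (PM : Subgroup M) := hK'.sup_eq_top ▸ Subgroup.mem_top _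
    rw [Subgroup.mem_sup_of_normal_left] at hg
    obtain ⟨k, hk, u, hu, e⟩ := hg
    have hky : ∀ y : M, y ∈ (PM : Subgroup M) → k * y = y * k := fun y hy =>
      (Subgroup.commute_of_normal_of_disjoint K (PM : Subgroup M) inferInstance inferInstance
        hK'.disjoint k y hk hy).eq
    have hgy : (g : G) * (y : G) * (g : G)⁻¹ * (y : G)⁻¹ ∈ Q := by
      have hu' : u * ⟨y, Subgroup.le_normalizer hy⟩ * u⁻¹ ∈ (PM : Subgroup M) :=
        mul_mem (mul_mem hu hy) (inv_mem hu)
      have h6 : (g : G) * (y : G) * (g : G)⁻¹ = (u : G) * (y : G) * (u : G)⁻¹ := by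
        have h7 := congrArg Subtype.val (hky _ hu')
        have h8 : (g : G) = (k : G) * (u : G) := (congrArg Subtype.val e).symm
        simp only [Subgroup.coe_mul, Subgroup.coe_inv] at h7
        calc (g : G) * (y : G) * (g : G)⁻¹
            = (k : G) * ((u : G) * (y : G) * (u : G)⁻¹) * (k : G)⁻¹ := by rw [h8]; group
          _ = _ := by rw [h7]; group
      rw [h6]
      exact hcomm u hu y hy
    have h9 : q (g * y * g⁻¹ * y⁻¹) = 1 := (QuotientGroup.eq_one_iff _).mpr hgy
    rw [map_mul, map_mul, map_mul, map_inv, map_inv, mul_inv_eq_one, mul_inv_eq_iff_eq_mul] at h9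
    exact h9.symm
  obtain ⟨Pb', Lb, hLb, hLbc⟩ := hB
  haveI := hLb
  have hLbp : ¬ p ∣ Nat.card Lb :=
    (CfsgLib.Transfer.eq_pResidual_of_isComplement' Pb' Lb hLbc).2
  set L := Lb.comap q
  haveI : L.Normal := hLb.comap q
  have hQL : Q₁ ≤ L := fun x hx => by
    change q x ∈ Lb
    rw [show q x = 1 from (QuotientGroup.eq_one_iff x).mpr hx]
    exact one_mem _
  set QL := Q₁.subgroupOf L
  have hidx : QL.index = Nat.card Lb := by
    have h3 : (q.comp L.subtype).range = Lb := by
      rw [MonoidHom.range_comp, Subgroup.range_subtype, Subgroup.map_comap_eq_self_of_surjective hq]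
    have h4 : (q.comp L.subtype).ker = QL := by
      rw [← MonoidHom.comap_ker, QuotientGroup.ker_mk']
      rfl
    rw [← h4, Subgroup.index_ker, h3]
  have hQLc : Nat.card QL = Nat.card Q :=
    (Nat.card_congr (Subgroup.subgroupOfEquivOfLe hQL).toEquiv).trans
      (Nat.card_congr (Subgroup.subgroupOfEquivOfLe Subgroup.le_normalizer).toEquiv)
  have hQp : IsPGroup p Q := P.2.to_le hQP
  obtain ⟨s, hs⟩ := IsPGroup.iff_card.mp hQp
  have hcop : (Nat.card QL).Coprime QL.index := by
    rw [hQLc, hidx, hs]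
    exact ((Fact.out : p.Prime).coprime_iff_not_dvd.mpr hLbp).pow_left s
  obtain ⟨K₀, hK₀⟩ := Subgroup.exists_right_complement'_of_coprime hcop
  set K := K₀.map L.subtype
  have hK₀c : Nat.card K₀ = QL.index := hK₀.symm.index_eq_card.symm
  have hKc : Nat.card K = Nat.card Lb := by
    rw [Subgroup.card_map_of_injective L.subtype_injective, hK₀c, hidx]
  -- Frattini argument
  have hfr : ∀ g : N, ∃ a ∈ Q₁, a * g ∈ Subgroup.normalizer (K : Set N) := by
    intro g
    set Kg := K.map (MulAut.conj g).toMonoidHom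
    have hKgL : Kg ≤ L := by
      rintro _ ⟨x, hx, rfl⟩
      exact ‹L.Normal›.conj_mem x (Subgroup.map_subtype_le _ hx) g
    have hs' : Group.IsSolvable QL ∨ Group.IsSolvable (L ⧸ QL) := by
      haveI : Group.IsNilpotent QL := (IsPGroup.of_card (hQLc.trans hs)).isNilpotent
      exact Or.inl inferInstance
    obtain ⟨a, ha, e⟩ := CfsgLib.Coprime.conj_complement_of_card QL hcop hs' (Kg.subgroupOf L) K₀
      (by rw [Nat.card_congr (Subgroup.subgroupOfEquivOfLe hKgL).toEquiv,
        Subgroup.card_map_of_injective (MulAut.conj g).injective, hKc, hidx]) hK₀c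
    refine ⟨a, ha, CfsgLib.Techniques.map_conj_eq_self_iff.mp (Subgroup.eq_of_le_of_card_ge ?_ ?_)⟩
    · rw [CfsgLib.Techniques.map_conj_mul]
      rintro _ ⟨x, hx, rfl⟩
      refine ⟨(MulAut.conj a) ⟨x, hKgL hx⟩, ?_, rfl⟩
      rw [← e]
      exact ⟨⟨x, hKgL hx⟩, hx, rfl⟩
    · rw [CfsgLib.Techniques.card_map_conj]
  -- the factor `Q` is swallowed by the Frattini subgroup of `P`
  have hQK : Q₁ ≤ Subgroup.normalizer (K : Set N) := by
    let X : Subgroup (P : Subgroup G) :=
      (Subgroup.normalizer (K : Set N)).comap (Subgroup.inclusion hPN)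
    have hX : X = ⊤ := by
      apply frattini_nongenerating
      rw [eq_top_iff]
      intro u _
      obtain ⟨a, ha, hau⟩ := hfr (Subgroup.inclusion hPN u)
      obtain ⟨a', ha', e⟩ := h2 ha
      have h3 : a' * u ∈ X := by
        rw [Subgroup.mem_comap]
        rw [map_mul, show Subgroup.inclusion hPN a' = a from Subtype.ext e]
        exact hau
      rw [show u = a'⁻¹ * (a' * u) by simp]
      exact mul_mem (Subgroup.mem_sup_right (inv_mem ha')) (Subgroup.mem_sup_left h3)
    intro x hx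
    have h3 : (⟨x, hQP hx⟩ : (P : Subgroup G)) ∈ X := hX ▸ Subgroup.mem_top _
    exact h3
  haveI : K.Normal := Subgroup.normalizer_eq_top_iff.mp (by
    rw [eq_top_iff]
    intro g _
    obtain ⟨a, ha, hag⟩ := hfr g
    simpa using mul_mem (inv_mem (hQK ha)) hag)
  refine CfsgLib.Transfer.hasNormalPComplement_of_coprime K (hKc ▸ hLbp) ?_
  obtain ⟨t, ht⟩ := IsPGroup.iff_card.mp (Pb'.2)
  refine IsPGroup.of_card (n := t + s) ?_
  rw [← Subgroup.index_eq_card, pow_add, ← ht]
  have h3 : L.index = Nat.card (Pb' : Subgroup (N ⧸ Q₁)) := by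
    rw [Subgroup.index_comap_of_surjective _ hq, hLbc.symm.index_eq_card]
  have h4 : Nat.card L = Nat.card Lb * Nat.card Q := by
    rw [← QL.index_mul_card, hidx, hQLc]
  refine Nat.eq_of_mul_eq_mul_right (Nat.card_pos (α := K)) ?_
  rw [Subgroup.index_mul_card, ← L.index_mul_card, h3, h4, hKc, hs]
  ring

end Cfsg.Agent.S3838
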