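import Cfsg.Statements.S3839
import Cfsg.Agent.Lib.Transfer.NormalComplement
import Cfsg.Agent.Lib.Techniques.Basic

set_option autoImplicit false
open Cfsg

namespace Cfsg.Agent.S3839

/-- A Frobenius normal p-complement criterion relative to a strongly closed subgroup. Let G be a finite group, S a Sylow p-subgroup and D a subgroup of S strongly closed in S with respect to G. Then G has a normal p-complement if and only if N_G(U) has a normal p-complement for every subgroup U of D with C_D(U) ≤ U. -/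
theorem result {G : Type*} [Group G] [Finite G] {p : ℕ} [Fact p.Prime] (S : Sylow p G) (D : Subgroup G) (hD : Cfsg.IsStronglyClosed D (S : Subgroup G)) : Cfsg.HasNormalPComplement p G ↔ ∀ U : Subgroup G, U ≤ D → D ⊓ Subgroup.centralizer (U : Set G) ≤ U → Cfsg.HasNormalPComplement p ↥(Subgroup.normalizer (U : Set G)) := by
  refine ⟨fun h U _ _ => CfsgLib.Transfer.hasNormalPComplement_subgroup _ h, fun h => ?_⟩
  apply CfsgLib.Transfer.hasNormalPComplement_of_frobeniusCond
  by_contra hbad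
  simp only [CfsgLib.Transfer.FrobeniusCond, not_forall, exists_prop] at hbad
  let key : Subgroup G → ℕ := fun Q =>
    (Nat.card ↥(Subgroup.normalizer (Q : Set G))).factorization p * (Nat.card G + 1) + Nat.card Q
  obtain ⟨Q, ⟨hQp, g, hgN, hgc, hgC⟩, hmax⟩ := Set.Finite.exists_maximalFor key
    {Q : Subgroup G | IsPGroup p Q ∧ ∃ g ∈ Subgroup.normalizer (Q : Set G),
      Nat.Coprime (orderOf g) p ∧ g ∉ Subgroup.centralizer (Q : Set G)} (Set.toFinite _) hbad
  -- the hypotheses are invariant under conjugation: we may move `Q` so that `S` meets `N(Q)` in a Sylow subgroup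
  set NQ := Subgroup.normalizer (Q : Set G) with hNQ
  obtain ⟨T₀⟩ := (inferInstance : Nonempty (Sylow p ↥NQ))
  obtain ⟨S₁, hS₁⟩ := (T₀.2.map NQ.subtype).exists_le_sylow
  obtain ⟨h₀, hh₀⟩ := MulAction.exists_smul_eq G S S₁
  set S' := (S₁ : Subgroup G)
  set D' := D.map (MulAut.conj h₀).toMonoidHom with hD'
  have hS' : S' = (S : Subgroup G).map (MulAut.conj h₀).toMonoidHom := by
    rw [show S' = ((h₀ • S : Sylow p G) : Subgroup G) by rw [hh₀], Sylow.coe_subgroup_smul]
    rfl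
  have hD'S : D' ≤ S' := hS' ▸ Subgroup.map_mono hD.1
  have hclosed : ∀ x ∈ D', ∀ k : G, k * x * k⁻¹ ∈ S' → k * x * k⁻¹ ∈ D' := by
    intro x hx k hk
    rw [hD', CfsgLib.Techniques.mem_map_conj] at hx ⊢
    rw [hS', CfsgLib.Techniques.mem_map_conj] at hk
    have e : h₀⁻¹ * (k * x * k⁻¹) * h₀ = (h₀⁻¹ * k * h₀) * (h₀⁻¹ * x * h₀) * (h₀⁻¹ * k * h₀)⁻¹ := by
      group
    rw [e] at hk ⊢
    exact hD.2 _ hx _ hk
  have hhyp : ∀ U : Subgroup G, U ≤ D' → D' ⊓ Subgroup.centralizer (U : Set G) ≤ U →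
      Cfsg.HasNormalPComplement p ↥(Subgroup.normalizer (U : Set G)) := by
    intro U hU hUc
    set U₀ := U.map (MulAut.conj h₀⁻¹).toMonoidHom with hU₀
    have hU₀D : U₀ ≤ D := by
      intro x hx
      rw [hU₀, CfsgLib.Techniques.mem_map_conj] at hx
      have := hU hx
      rw [hD', CfsgLib.Techniques.mem_map_conj] at this
      simpa [mul_assoc] using this
    have hU₀c : D ⊓ Subgroup.centralizer (U₀ : Set G) ≤ U₀ := by
      rintro x ⟨hxD, hxC⟩
      rw [hU₀, CfsgLib.Techniques.mem_map_conj]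
      refine hUc (Subgroup.mem_inf.mpr ⟨?_, Subgroup.mem_centralizer_iff.mpr fun u hu => ?_⟩)
      · rw [hD', CfsgLib.Techniques.mem_map_conj]; simpa [mul_assoc] using hxD
      · have := Subgroup.mem_centralizer_iff.mp hxC _ (CfsgLib.Techniques.conj_mem_map_conj h₀⁻¹ hu)
        calc u * (h₀⁻¹⁻¹ * x * h₀⁻¹) = h₀ * ((h₀⁻¹ * u * h₀⁻¹⁻¹) * x) * h₀⁻¹ := by group
          _ = h₀ * (x * (h₀⁻¹ * u * h₀⁻¹⁻¹)) * h₀⁻¹ := by rw [this]
          _ = _ := by group
    have hN := h U₀ hU₀D hU₀c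
    have e : (Subgroup.normalizer (U₀ : Set G)) =
        (Subgroup.normalizer (U : Set G)).map (MulAut.conj h₀⁻¹).toMonoidHom :=
      (Subgroup.map_equiv_normalizer_eq U (MulAut.conj h₀⁻¹)).symm
    exact CfsgLib.Transfer.hasNormalPComplement_of_mulEquiv
      ((MulEquiv.subgroupCongr e).trans (Subgroup.equivMapOfInjective _ _
        (MulAut.conj h₀⁻¹).injective).symm) hN
  -- `Q` and the Sylow subgroup of its normalizer
  have hQS : Q ≤ S' := by
    refine le_trans ?_ hS₁
    intro x hx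
    have hle : Q.subgroupOf NQ ≤ T₀ := by
      haveI : (Q.subgroupOf NQ).Normal := Subgroup.normal_in_normalizer
      exact IsPGroup.le_sylow_of_normal (N := Q.subgroupOf NQ) hQp.comap_subtype T₀
    exact ⟨⟨x, Subgroup.le_normalizer hx⟩, hle hx, rfl⟩
  set U := Q ⊓ D'
  have hNU : NQ ≤ Subgroup.normalizer (U : Set G) := by
    intro k hk
    have key : ∀ k ∈ NQ, ∀ x ∈ U, k * x * k⁻¹ ∈ U := fun k hk x hx => by
      have h1 := (Subgroup.mem_normalizer_iff.mp hk x).mp hx.1
      exact ⟨h1, hclosed x hx.2 k (hQS h1)⟩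
    rw [Subgroup.mem_normalizer_iff]
    exact fun x => ⟨key k hk x, fun hx => by simpa [mul_assoc] using key k⁻¹ (inv_mem hk) _ hx⟩
  by_cases hcU : D' ⊓ Subgroup.centralizer (U : Set G) ≤ U
  · apply hgC
    have hF := CfsgLib.Transfer.frobeniusCond_of_hasNormalPComplement (hhyp U inf_le_right hcU)
    have hQN : Q ≤ Subgroup.normalizer (U : Set G) := Subgroup.le_normalizer.trans hNU
    have h1 := hF (Q.subgroupOf _) hQp.comap_subtype ⟨g, hNU hgN⟩ (by
      rw [Subgroup.mem_normalizer_iff]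
      intro x
      exact Subgroup.mem_normalizer_iff.mp hgN (x : G)) (by rwa [← Subgroup.orderOf_coe])
    rw [Subgroup.mem_centralizer_iff]
    intro x hx
    exact congrArg Subtype.val (Subgroup.mem_centralizer_iff.mp h1 ⟨x, hQN hx⟩ hx)
  -- an element of `D'` normalizing `Q`, centralizing `U`, outside `Q`
  set E := D' ⊓ Subgroup.centralizer (U : Set G)
  have hQE : Q ≤ Subgroup.normalizer (E : Set G) := by
    intro q hq
    have hqU := hNU (Subgroup.le_normalizer hq)
    refine CfsgLib.Techniques.mem_normalizer_inf ?_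
      (CfsgLib.Techniques.normalizer_le_normalizer_centralizer U hqU)
    have key : ∀ q ∈ Q, ∀ x ∈ D', q * x * q⁻¹ ∈ D' := fun q hq x hx =>
      hclosed x hx q (mul_mem (mul_mem (hQS hq) (hD'S hx)) (inv_mem (hQS hq)))
    rw [Subgroup.mem_normalizer_iff]
    exact fun x => ⟨key q hq x, fun hx => by simpa [mul_assoc] using key q⁻¹ (inv_mem hq) _ hx⟩
  obtain ⟨d, hdE, hdN, hdQ⟩ : ∃ d ∈ E, d ∈ NQ ∧ d ∉ Q := by
    set X := Q ⊔ E
    have hXS : X ≤ S' := sup_le hQS (inf_le_left.trans hD'S)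
    haveI : Group.IsNilpotent X := (S₁.2.to_le hXS).isNilpotent
    have hlt : Q.subgroupOf X < ⊤ := by
      refine lt_top_iff_ne_top.mpr fun htop => hcU fun x hx => ⟨?_, hx.1⟩
      exact (Subgroup.subgroupOf_eq_top.mp htop) (le_sup_right (a := Q) hx)
    obtain ⟨y, hy, hy'⟩ :=
      SetLike.exists_of_lt (Group.normalizerCondition_of_isNilpotent (G := X) _ hlt)
    obtain ⟨q, hq, d, hd, hqd⟩ := CfsgLib.Techniques.exists_mul_of_mem_sup hQE y.2
    have hyN : (y : G) ∈ NQ := by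
      rw [Subgroup.mem_normalizer_iff] at hy
      rw [Subgroup.mem_normalizer_iff]
      intro x
      constructor
      · intro hx
        exact (hy ⟨x, le_sup_left (b := E) hx⟩).mp hx
      · intro hx
        have hxX : x ∈ X := by
          have := mul_mem (mul_mem (inv_mem y.2) (le_sup_left (b := E) hx)) y.2
          simpa [mul_assoc] using this
        exact (hy ⟨x, hxX⟩).mpr hx
    have e : d = q⁻¹ * (y : G) := by rw [← hqd]; group
    refine ⟨d, hd, e ▸ mul_mem (inv_mem (Subgroup.le_normalizer hq)) hyN, fun hdQ => hy' ?_⟩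
    rw [Subgroup.mem_subgroupOf, ← hqd]
    exact mul_mem hq hdQ
  -- the automorphisms stabilizing `1 ≤ U ≤ Q`
  let R : Subgroup G :=
    { carrier := {r | r ∈ NQ ∧ r ∈ Subgroup.centralizer (U : Set G) ∧ ∀ x ∈ Q, r * x * r⁻¹ * x⁻¹ ∈ U}
      one_mem' := ⟨one_mem _, one_mem _, fun x _ => by simp⟩
      mul_mem' := by
        rintro r s ⟨hr, hr', hr''⟩ ⟨hs, hs', hs''⟩
        refine ⟨mul_mem hr hs, mul_mem hr' hs', fun x hx => ?_⟩
        have h1 := hr'' _ ((Subgroup.mem_normalizer_iff.mp hs x).mp hx)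
        have h2 := hs'' x hx
        have := mul_mem h1 h2
        have e : r * s * x * (r * s)⁻¹ * x⁻¹ =
            r * (s * x * s⁻¹) * r⁻¹ * (s * x * s⁻¹)⁻¹ * (s * x * s⁻¹ * x⁻¹) := by group
        rw [e]; exact this
      inv_mem' := by
        rintro r ⟨hr, hr', hr''⟩
        refine ⟨inv_mem hr, inv_mem hr', fun x hx => ?_⟩
        have hx' := (Subgroup.mem_normalizer_iff.mp (inv_mem hr) x).mp hx
        have := inv_mem (hr'' _ hx')
        simpa [mul_assoc] using this }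
  have hRQ : ∀ r ∈ R, r ^ Nat.card Q ∈ Subgroup.centralizer (Q : Set G) := by
    rintro r ⟨hr, hr', hr''⟩
    rw [Subgroup.mem_centralizer_iff]
    intro x hx
    set u := r * x * r⁻¹ * x⁻¹
    have hu : r * u * r⁻¹ = u := by
      rw [← Subgroup.mem_centralizer_iff.mp hr' u (hr'' x hx), mul_inv_cancel_right]
    have hk : ∀ k : ℕ, r ^ k * x * (r ^ k)⁻¹ = u ^ k * x := by
      intro k
      induction k with
      | zero => simp
      | succ k ih =>
        calc r ^ (k + 1) * x * (r ^ (k + 1))⁻¹ = r * (r ^ k * x * (r ^ k)⁻¹) * r⁻¹ := by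
              rw [pow_succ']; group
          _ = (r * u * r⁻¹) ^ k * (u * x) := by
              rw [ih, conj_pow]; simp only [u]; group
          _ = _ := by rw [hu, ← mul_assoc, ← pow_succ]
    have hu1 : u ^ Nat.card Q = 1 := by
      have := congrArg Subtype.val (pow_card_eq_one' (G := Q) (x := ⟨u, (hr'' x hx).1⟩))
      rwa [Subgroup.coe_pow, Subgroup.coe_one] at this
    have := hk (Nat.card Q)
    rw [hu1, one_mul] at this
    exact (mul_inv_eq_iff_eq_mul.mp this).symm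
  have hCR : Subgroup.centralizer (Q : Set G) ≤ R := by
    intro c hc
    have hc' := Subgroup.mem_centralizer_iff.mp hc
    refine ⟨Subgroup.centralizer_le_normalizer _ hc, Subgroup.centralizer_le (show (U : Set G) ⊆ Q from
      inf_le_left) hc, fun x hx => ?_⟩
    rw [← hc' x hx]; simp
  have hRN : ∀ k ∈ NQ, ∀ r ∈ R, k * r * k⁻¹ ∈ R := by
    rintro k hk r ⟨hr, hr', hr''⟩
    refine ⟨mul_mem (mul_mem hk hr) (inv_mem hk),
      CfsgLib.Techniques.centralizer_conj_mem (hNU hk) hr', fun x hx => ?_⟩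
    have hx' := (Subgroup.mem_normalizer_iff.mp (inv_mem hk) x).mp hx
    have := (Subgroup.mem_normalizer_iff.mp (hNU hk) _).mp (hr'' _ hx')
    simpa [mul_assoc] using this
  have hdR : d ∈ R := by
    refine ⟨hdN, hdE.2, fun x hx =>
      Subgroup.mem_inf.mpr ⟨Q.mul_mem ((Subgroup.mem_normalizer_iff.mp hdN x).mp hx) (Q.inv_mem hx), ?_⟩⟩
    have h1 : x * d⁻¹ * x⁻¹ ∈ D' := hclosed _ (inv_mem hdE.1) x
      (mul_mem (mul_mem (hQS hx) (hD'S (inv_mem hdE.1))) (inv_mem (hQS hx)))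
    have := mul_mem hdE.1 h1
    simpa [mul_assoc] using this
  -- Frattini in `N(Q)`
  set W := (Q ⊔ R).subgroupOf NQ
  have hQRN : Q ⊔ R ≤ NQ := sup_le Subgroup.le_normalizer fun r hr => hr.1
  haveI hW : W.Normal := by
    constructor
    rintro ⟨w, hwN⟩ hw ⟨k, hk⟩
    rw [Subgroup.mem_subgroupOf] at hw ⊢
    obtain ⟨q, hq, r, hr, e⟩ := CfsgLib.Techniques.exists_mul_of_mem_sup
      (A := Q) (B := R) (fun q hq => by
        have hqN : q ∈ NQ := Subgroup.le_normalizer hq
        rw [Subgroup.mem_normalizer_iff]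
        exact fun x => ⟨hRN q hqN x, fun hx => by simpa [mul_assoc] using hRN q⁻¹ (inv_mem hqN) _ hx⟩) hw
    change k * w * k⁻¹ ∈ Q ⊔ R
    change q * r = w at e
    rw [← e, show k * (q * r) * k⁻¹ = (k * q * k⁻¹) * (k * r * k⁻¹) by group]
    exact Subgroup.mul_mem_sup ((Subgroup.mem_normalizer_iff.mp hk q).mp hq) (hRN k hk r hr)
  obtain ⟨w, hw, m, hm, hwm⟩ :=
    CfsgLib.Techniques.exists_eq_mul_normalizer_inf T₀ W (⟨g, hgN⟩ : NQ)
  set Qs := ((T₀ : Subgroup NQ) ⊓ W).map NQ.subtype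
  -- `S'` meets `N(Q)` exactly in `T₀`
  have hT₀ : ∀ x : NQ, (x : G) ∈ S' → x ∈ T₀ := by
    intro x hx
    have hle : (T₀ : Subgroup NQ) ≤ S'.subgroupOf NQ := fun y hy => hS₁ ⟨y, hy, rfl⟩
    have := T₀.3 (S₁.2.comap_subtype) hle
    change x ∈ (T₀ : Subgroup NQ)
    rw [← this]
    exact hx
  have hQQs : Q ≤ Qs := fun x hx => ⟨⟨x, Subgroup.le_normalizer hx⟩,
    ⟨hT₀ _ (hQS hx), Subgroup.mem_subgroupOf.mpr (Subgroup.mem_sup_left hx)⟩, rfl⟩
  have hdQs : d ∈ Qs := ⟨⟨d, hdN⟩, ⟨hT₀ _ (hD'S hdE.1),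
    Subgroup.mem_subgroupOf.mpr (Subgroup.mem_sup_right hdR)⟩, rfl⟩
  have hQsp : IsPGroup p Qs := (T₀.2.to_le inf_le_left).map _
  have hkey : key Q < key Qs := by
    have hT : (T₀ : Subgroup NQ).map NQ.subtype ≤ Subgroup.normalizer (Qs : Set G) := by
      refine le_trans (Subgroup.map_mono ?_) (Subgroup.le_normalizer_map _)
      intro t ht
      refine CfsgLib.Techniques.mem_normalizer_inf (Subgroup.le_normalizer ht) ?_
      rw [Subgroup.normalizer_eq_top_iff.mpr hW]
      exact Subgroup.mem_top t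
    have hfac : (Nat.card NQ).factorization p ≤
        (Nat.card ↥(Subgroup.normalizer (Qs : Set G))).factorization p := by
      have h1 := Subgroup.card_dvd_of_le hT
      rw [Subgroup.card_map_of_injective NQ.subtype_injective, T₀.card_eq_multiplicity] at h1
      exact ((Fact.out : p.Prime).pow_dvd_iff_le_factorization Nat.card_pos.ne').mp h1
    have hlt : Nat.card Q < Nat.card Qs := by
      refine lt_of_le_of_ne (Subgroup.card_le_of_le hQQs) fun e => hdQ ?_
      rw [Subgroup.eq_of_le_of_card_ge hQQs e.ge]; exact hdQs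
    have := Nat.mul_le_mul_right (Nat.card G + 1) hfac
    simp only [key, ← hNQ]
    omega
  have hgood : ∀ k ∈ Subgroup.normalizer (Qs : Set G),
      Nat.Coprime (orderOf k) p → k ∈ Subgroup.centralizer (Qs : Set G) := by
    intro k hk hkc
    by_contra hkC
    have := hmax ⟨hQsp, k, hk, hkc, hkC⟩ hkey.le
    omega
  -- the `p'`-part of `m` centralizes `Q`
  obtain ⟨a, b, hb, hab⟩ := Nat.exists_eq_pow_mul_and_not_dvd (orderOf_pos (m : G)).ne' p
    (Fact.out : p.Prime).ne_one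
  have hmC : (m : G) ^ p ^ a ∈ Subgroup.centralizer (Q : Set G) := by
    refine Subgroup.centralizer_le (show (Q : Set G) ⊆ Qs from hQQs) (hgood _ ?_ ?_)
    · exact pow_mem (Subgroup.le_normalizer_map NQ.subtype ⟨m, hm, rfl⟩) _
    · rw [orderOf_pow' _ (pow_ne_zero _ (Fact.out : p.Prime).ne_zero), hab,
        Nat.gcd_eq_right (dvd_mul_right _ _),
        Nat.mul_div_cancel_left _ (pow_pos (Fact.out : p.Prime).pos _)]
      exact ((Fact.out : p.Prime).coprime_iff_not_dvd.mpr hb).symm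
  have hgW : g ^ p ^ a ∈ Q ⊔ R := by
    have hk : ∀ k : ℕ, ∃ w' ∈ W, (w * m) ^ k = w' * m ^ k := by
      intro k
      induction k with
      | zero => exact ⟨1, one_mem _, by simp⟩
      | succ k ih =>
        obtain ⟨w', hw', e⟩ := ih
        exact ⟨w' * (m ^ k * w * (m ^ k)⁻¹), mul_mem hw' (hW.conj_mem w hw _), by
          rw [pow_succ, e, pow_succ]; group⟩
    obtain ⟨w', hw', e⟩ := hk (p ^ a)
    rw [hwm] at e
    have e' : g ^ p ^ a = (w' : G) * (m : G) ^ p ^ a := by simpa using congrArg Subtype.val e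
    rw [e']
    exact mul_mem (Subgroup.mem_subgroupOf.mp hw') (Subgroup.mem_sup_right (hCR hmC))
  obtain ⟨z, hz⟩ := exists_pow_eq_self_of_coprime (x := g) (n := p ^ a)
    (hgc.symm.pow_left a)
  have hgQR : g ∈ Q ⊔ R := hz ▸ pow_mem hgW z
  have hQR : Q ≤ Subgroup.normalizer (R : Set G) := by
    intro q hq
    have hqN : q ∈ NQ := Subgroup.le_normalizer hq
    rw [Subgroup.mem_normalizer_iff]
    exact fun x => ⟨hRN q hqN x, fun hx => by simpa [mul_assoc] using hRN q⁻¹ (inv_mem hqN) _ hx⟩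
  obtain ⟨q, hq, r, hr, rfl⟩ := CfsgLib.Techniques.exists_mul_of_mem_sup hQR hgQR
  have hk : ∀ k : ℕ, ∃ r' ∈ R, (q * r) ^ k = q ^ k * r' := by
    intro k
    induction k with
    | zero => exact ⟨1, one_mem _, by simp⟩
    | succ k ih =>
      obtain ⟨r', hr', e⟩ := ih
      refine ⟨(q⁻¹ * r' * q) * r, mul_mem ?_ hr, by rw [pow_succ, e, pow_succ]; group⟩
      simpa using hRN q⁻¹ (inv_mem (Subgroup.le_normalizer hq)) r' hr'
  obtain ⟨r', hr', e⟩ := hk (Nat.card Q)
  have hq1 : q ^ Nat.card Q = 1 := by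
    have := congrArg Subtype.val (pow_card_eq_one' (G := Q) (x := ⟨q, hq⟩))
    rwa [Subgroup.coe_pow, Subgroup.coe_one] at this
  rw [hq1, one_mul] at e
  obtain ⟨c, hc⟩ := IsPGroup.iff_card.mp hQp
  have hcop : Nat.Coprime (Nat.card Q * Nat.card Q) (orderOf (q * r)) := by
    rw [hc, ← pow_add]; exact hgc.symm.pow_left _
  have hfin : (q * r) ^ (Nat.card Q * Nat.card Q) ∈ Subgroup.centralizer (Q : Set G) := by
    rw [pow_mul, e]; exact hRQ r' hr'
  obtain ⟨z', hz'⟩ := exists_pow_eq_self_of_coprime hcop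
  exact hgC (hz' ▸ pow_mem hfin z')

end Cfsg.Agent.S3839
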