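import Cfsg.Statements.S3857
import Cfsg.Agent.Lib.Struct76.PrimeGraphSolvable

set_option autoImplicit false
open Cfsg

namespace Cfsg.Agent.S3857

/-- A finite solvable group whose prime graph (prime divisors of the order, two distinct primes joined when there is an element of order their product) is disconnected is a Frobenius group or a 2-Frobenius group (it has normal subgroups H < K with K a Frobenius group with kernel H and G/H a Frobenius group with kernel K/H). -/
theorem result {G : Type*} [Group G] [Finite G] (hsol : Group.IsSolvable G)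
    (hdisc : (∃ A : Set ℕ, (∃ a ∈ A, a.Prime ∧ a ∣ Nat.card G) ∧ (∃ b ∉ A, b.Prime ∧ b ∣ Nat.card G) ∧
      ∀ a ∈ A, ∀ b ∉ A, a.Prime → b.Prime → a ∣ Nat.card G → b ∣ Nat.card G → ¬ ∃ g : G, orderOf g = a * b)) :
    (∃ C : Subgroup G, Cfsg.IsFrobeniusComplement C) ∨
    (∃ (H K : Subgroup G) (_ : H.Normal), K.Normal ∧ H < K ∧
      (∃ C : Subgroup ↥K, Cfsg.IsFrobeniusComplement C ∧ Cfsg.frobeniusKernel C = (H.subgroupOf K : Set ↥K)) ∧
      (∃ C : Subgroup (G ⧸ H), Cfsg.IsFrobeniusComplement C ∧ Cfsg.frobeniusKernel C = (K.map (QuotientGroup.mk' H) : Set (G ⧸ H)))) := by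
  obtain ⟨A, ⟨a, haA, ha, haG⟩, ⟨b, hbA, hb, hbG⟩, hno⟩ := hdisc
  have hsep : CfsgLib.Struct76.Separates A G := by
    intro g p q hp hq hpg hqg hpA
    by_contra hqA
    have hd : p * q ∣ orderOf g :=
      ((Nat.coprime_primes hp hq).2 fun e => hqA (e ▸ hpA)).mul_dvd_of_dvd_of_dvd hpg hqg
    exact hno p hpA q hqA hp hq (hpg.trans (orderOf_dvd_natCard g))
      (hqg.trans (orderOf_dvd_natCard g))
      ⟨g ^ (orderOf g / (p * q)), orderOf_pow_orderOf_div (orderOf_pos g).ne' hd⟩
  haveI := hsol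
  haveI : Nontrivial G := by
    rw [← Finite.one_lt_card_iff_nontrivial]
    exact lt_of_lt_of_le ha.one_lt (Nat.le_of_dvd Nat.card_pos haG)
  obtain ⟨V, s, hs, hVn, hV1, -, -, hVs⟩ := CfsgLib.Spectrum.exists_normal_elementary_le
    (⊤ : Subgroup G) top_ne_bot inferInstance
  by_cases hsA : s ∈ A
  · exact CfsgLib.Struct76.frobenius_or_two_frobenius hsol hsep V hVn hV1
      (CfsgLib.Struct76.primesIn_of_exponent hs hsA V hVs) ⟨b, hb, hbG, hbA⟩
  · exact CfsgLib.Struct76.frobenius_or_two_frobenius hsol hsep.compl V hVn hV1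
      (CfsgLib.Struct76.primesIn_of_exponent hs hsA V hVs) ⟨a, ha, haG, fun h => h haA⟩

end Cfsg.Agent.S3857
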