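import Cfsg.Statements.S3858

set_option autoImplicit false
open Cfsg

namespace Cfsg.Agent.S3858

/-- Let G be a finite group with a normal non-abelian simple subgroup T whose centralizer is trivial (G almost simple with socle T), r a prime and R a Sylow r-subgroup of G meeting T nontrivially. Then R lies in exactly one maximal subgroup of G if and only if G has exactly one conjugacy class of maximal subgroups whose index is prime to r. -/
theorem result {G : Type*} [Group G] [Finite G] (T : Subgroup G) [T.Normal] (hT : IsSimpleGroup T) (hna : ¬ IsMulCommutative T)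
    (hC : Subgroup.centralizer (T : Set G) = ⊥) {r : ℕ} [Fact r.Prime] (R : Sylow r G) (hR0 : (R : Subgroup G) ⊓ T ≠ ⊥) :
    (∃! M : Subgroup G, IsCoatom M ∧ (R : Subgroup G) ≤ M) ↔
      ((∃ M : Subgroup G, IsCoatom M ∧ ¬ r ∣ M.index) ∧
        ∀ M₁ M₂ : Subgroup G, IsCoatom M₁ → ¬ r ∣ M₁.index → IsCoatom M₂ → ¬ r ∣ M₂.index → ∃ g : G, M₂ = M₁.map (MulAut.conj g).toMonoidHom) := by
  have hne : Subgroup.normalizer ((R : Subgroup G) : Set G) ≠ ⊤ := by
    intro htop
    have hn : (R : Subgroup G).Normal := Subgroup.normalizer_eq_top_iff.mp htop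
    haveI := hT
    rcases (hn.subgroupOf T).eq_bot_or_eq_top with h | h
    · exact hR0 (by simpa [Subgroup.subgroupOf_eq_bot, disjoint_iff] using h)
    · apply hna
      have hp : IsPGroup r T := R.2.to_le (Subgroup.subgroupOf_eq_top.mp h)
      haveI : Nontrivial T := hT.toNontrivial
      haveI := hp.center_nontrivial
      rcases (inferInstance : (Subgroup.center T).Normal).eq_bot_or_eq_top with h' | h'
      · exact absurd h' ((Subgroup.nontrivial_iff_ne_bot _).mp inferInstance)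
      · exact ⟨⟨fun a b => (Subgroup.mem_center_iff.mp (h' ▸ Subgroup.mem_top b)) a⟩⟩
  obtain ⟨M₀, hM₀, hN₀⟩ := (eq_top_or_exists_le_coatom _).resolve_left hne
  have hR₀ : (R : Subgroup G) ≤ M₀ := Subgroup.le_normalizer.trans hN₀
  have hR₀i : ¬ r ∣ M₀.index := fun h => R.not_dvd_index (h.trans (Subgroup.index_dvd_of_le hR₀))
  -- a subgroup of index prime to `r` contains a conjugate of `R`
  have hconj : ∀ M : Subgroup G, ¬ r ∣ M.index → ∃ g : G, ((g • R : Sylow r G) : Subgroup G) ≤ M := by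
    intro M hM
    obtain ⟨S⟩ := (inferInstance : Nonempty (Sylow r M))
    obtain ⟨S', hS'⟩ := S.exists_comap_subtype_eq
    have hle : ((S : Subgroup M).map M.subtype) ≤ (S' : Subgroup G) := by
      rw [← hS']; exact Subgroup.map_comap_le _ _
    have heq : (S : Subgroup M).map M.subtype = (S' : Subgroup G) := by
      refine Subgroup.eq_of_le_of_card_ge hle ?_
      rw [Subgroup.card_map_of_injective M.subtype_injective, S'.card_eq_multiplicity,
        S.card_eq_multiplicity, ← M.index_mul_card,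
        Nat.factorization_mul M.index_ne_zero_of_finite Nat.card_pos.ne']
      simp [Nat.factorization_eq_zero_of_not_dvd hM]
    obtain ⟨g, hg⟩ := MulAction.exists_smul_eq G R S'
    exact ⟨g, by rw [hg, ← heq]; exact Subgroup.map_subtype_le _⟩
  constructor
  · rintro ⟨M, hM, hMu⟩
    refine ⟨⟨M₀, hM₀, hR₀i⟩, fun M₁ M₂ h₁ h₁' h₂ h₂' => ?_⟩
    have aux : ∀ M₁ : Subgroup G, IsCoatom M₁ → ¬ r ∣ M₁.index →
        ∃ g : G, M = M₁.map (MulAut.conj g).toMonoidHom := by
      intro M₁ h₁ h₁'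
      obtain ⟨g, hg⟩ := hconj M₁ h₁'
      refine ⟨g⁻¹, (hMu _ ⟨?_, ?_⟩).symm⟩
      · exact (OrderIso.isCoatom_iff (MulEquiv.mapSubgroup (MulAut.conj g⁻¹)) M₁).mpr h₁
      · intro x hx
        refine ⟨g * x * g⁻¹, hg ?_, by simp [mul_assoc]⟩
        rw [Sylow.coe_subgroup_smul]
        exact ⟨x, hx, rfl⟩
    obtain ⟨g₁, e₁⟩ := aux M₁ h₁ h₁'
    obtain ⟨g₂, e₂⟩ := aux M₂ h₂ h₂'
    refine ⟨g₂⁻¹ * g₁, ?_⟩
    have : M₂ = M.map (MulAut.conj g₂⁻¹).toMonoidHom := by
      rw [e₂, Subgroup.map_map]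
      conv_lhs => rw [← Subgroup.map_id M₂]
      congr 1; ext x; simp [mul_assoc]
    rw [this, e₁, Subgroup.map_map]
    congr 1; ext x; simp [mul_assoc]
  · rintro ⟨-, h1⟩
    refine ⟨M₀, ⟨hM₀, hR₀⟩, fun M hM => ?_⟩
    obtain ⟨g, hg⟩ := h1 M₀ M hM₀ hR₀i hM.1
      (fun h => R.not_dvd_index (h.trans (Subgroup.index_dvd_of_le hM.2)))
    -- `g⁻¹ R g ≤ M₀`, so it is conjugate to `R` inside `M₀`
    have hle : ((g⁻¹ • R : Sylow r G) : Subgroup G) ≤ M₀ := by
      intro x hx
      rw [Sylow.coe_subgroup_smul] at hx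
      obtain ⟨y, hy, rfl⟩ := hx
      obtain ⟨z, hz, hzy⟩ := hg ▸ hM.2 hy
      rw [← hzy]
      simpa [mul_assoc] using hz
    obtain ⟨m, hm⟩ := MulAction.exists_smul_eq M₀ (R.subtype hR₀) ((g⁻¹ • R).subtype hle)
    rw [Sylow.smul_subtype] at hm
    have hm' : ((m : G) • R : Sylow r G) = g⁻¹ • R := Sylow.subtype_injective hm
    have hgm : g * (m : G) ∈ M₀ := hN₀ (Sylow.smul_eq_iff_mem_normalizer.mp
      (by rw [mul_smul, hm', smul_inv_smul]))
    have hgM : g ∈ M₀ := by simpa using mul_mem hgm (inv_mem m.2)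
    rw [hg]
    refine le_antisymm ?_ ?_
    · rintro x ⟨z, hz, rfl⟩
      exact mul_mem (mul_mem hgM hz) (inv_mem hgM)
    · intro x hx
      exact ⟨g⁻¹ * x * g, mul_mem (mul_mem (inv_mem hgM) hx) hgM, by simp [mul_assoc]⟩

end Cfsg.Agent.S3858
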