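import Cfsg.Statements.S3859
import Cfsg.Agent.Lib.Struct76.Basic

set_option autoImplicit false
open Cfsg

namespace Cfsg.Agent.S3859

/-- Let G be a finite group with a normal non-abelian simple subgroup T whose centralizer is trivial (G almost simple with socle T), r a prime and R a Sylow r-subgroup of G meeting T nontrivially. If R lies in exactly one maximal subgroup of G, then G/T is an r-group. -/
theorem result {G : Type*} [Group G] [Finite G] (T : Subgroup G) [T.Normal] (hT : IsSimpleGroup T) (hna : ¬ IsMulCommutative T)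
    (hC : Subgroup.centralizer (T : Set G) = ⊥) {r : ℕ} [Fact r.Prime] (R : Sylow r G) (hR0 : (R : Subgroup G) ⊓ T ≠ ⊥)
    (huniq : ∃! M : Subgroup G, IsCoatom M ∧ (R : Subgroup G) ≤ M) : IsPGroup r (G ⧸ T) := by
  obtain ⟨M, ⟨hMc, hRM⟩, hMu⟩ := huniq
  by_cases hRT : (R : Subgroup G) ⊔ T = ⊤
  · intro x
    obtain ⟨g, rfl⟩ := QuotientGroup.mk'_surjective T x
    have hg : g ∈ (R : Subgroup G) ⊔ T := hRT ▸ Subgroup.mem_top g
    rw [Subgroup.mem_sup_of_normal_right] at hg
    obtain ⟨a, ha, t, ht, rfl⟩ := hg
    obtain ⟨k, hk⟩ := R.2 ⟨a, ha⟩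
    refine ⟨k, ?_⟩
    have ht' : QuotientGroup.mk' T t = 1 := by simpa using ht
    have hk' : a ^ r ^ k = 1 := congrArg Subtype.val hk
    rw [map_mul, ht', mul_one, ← map_pow, hk', map_one]
  · exfalso
    obtain ⟨M₁, hM₁, hle⟩ := (eq_top_or_exists_le_coatom _).resolve_left hRT
    have hTM : T ≤ M := by
      rw [← hMu M₁ ⟨hM₁, le_sup_left.trans hle⟩]; exact le_sup_right.trans hle
    have hRN : (R : Subgroup G) ≤ Subgroup.normalizer (((R : Subgroup G) ⊓ T : Subgroup G) : Set G) := by
      intro g hg
      rw [Subgroup.mem_normalizer_iff]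
      intro h
      constructor
      · rintro ⟨h1, h2⟩
        exact ⟨(R : Subgroup G).mul_mem ((R : Subgroup G).mul_mem hg h1) ((R : Subgroup G).inv_mem hg),
          ‹T.Normal›.conj_mem h h2 g⟩
      · rintro ⟨h1, h2⟩
        constructor
        · have := (R : Subgroup G).mul_mem ((R : Subgroup G).mul_mem ((R : Subgroup G).inv_mem hg) h1) hg
          simp only [mul_assoc, inv_mul_cancel_left, inv_mul_cancel, mul_one] at this
          exact this
        · have := ‹T.Normal›.conj_mem _ h2 g⁻¹
          simpa [mul_assoc] using this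
    set D : Subgroup G := (R : Subgroup G) ⊓ T with hD
    have hDne : Subgroup.normalizer (D : Set G) ≠ ⊤ := by
      intro htop
      have hn : D.Normal := Subgroup.normalizer_eq_top_iff.mp htop
      haveI := hT
      rcases (Subgroup.Normal.subgroupOf hn T).eq_bot_or_eq_top with h | h
      · exact hR0 (by simpa [Subgroup.subgroupOf_eq_bot, disjoint_iff, hD, inf_assoc] using h)
      · apply hna
        have hTR : T ≤ (R : Subgroup G) := fun x hx =>
          ((Subgroup.subgroupOf_eq_top.mp h) hx).1
        have hp : IsPGroup r T := R.2.to_le hTR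
        haveI : Nontrivial T := hT.toNontrivial
        haveI := hp.center_nontrivial
        rcases (inferInstance : (Subgroup.center T).Normal).eq_bot_or_eq_top with h' | h'
        · exact absurd h' ((Subgroup.nontrivial_iff_ne_bot _).mp inferInstance)
        · exact ⟨⟨fun a b => (Subgroup.mem_center_iff.mp (h' ▸ Subgroup.mem_top b)) a⟩⟩
    obtain ⟨M₂, hM₂, hle₂⟩ := (eq_top_or_exists_le_coatom _).resolve_left hDne
    have hNM : Subgroup.normalizer (D : Set G) ≤ M := by
      rw [← hMu M₂ ⟨hM₂, hRN.trans hle₂⟩]; exact hle₂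
    obtain ⟨Q, hQ⟩ := CfsgLib.Struct76.exists_sylow_inf_normal R T
    have key := Q.normalizer_sup_eq_top
    rw [hQ, Subgroup.subgroupOf_map_subtype] at key
    exact hMc.1 (top_unique (key ▸ sup_le (hNM) hTM))

end Cfsg.Agent.S3859
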