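import Cfsg.Statements.S3862
import Cfsg.Agent.Lib.Transfer.NormalComplement
import Cfsg.Agent.Lib.Coprime.Commutator

set_option autoImplicit false
open Cfsg
open scoped commutatorElement

namespace Cfsg.Agent.S3862

/-- If every real 2-element is central, odd order elements centralise the 2-subgroups they
normalise. -/
theorem frobeniusCond_of_real_central {G : Type*} [Group G] [Finite G]
    (h : ∀ x : G, (∃ j : ℕ, orderOf x = 2 ^ j) → IsConj x x⁻¹ → x ∈ Subgroup.center G) :
    CfsgLib.Transfer.FrobeniusCond 2 G := by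
  haveI : Fact (Nat.Prime 2) := ⟨Nat.prime_two⟩
  intro Q hQ y hy hcop
  induction hn : Nat.card Q using Nat.strong_induction_on generalizing Q with
  | _ n ih =>
  subst hn
  have hsmall : ∀ R : Subgroup G, R ≤ Q → R ≠ Q → (∀ r ∈ R, y * r * y⁻¹ ∈ R) →
      ∀ r ∈ R, y * r = r * y := by
    intro R hle hne hconj r hr
    have hlt : Nat.card R < Nat.card Q := by
      refine lt_of_le_of_ne (Subgroup.card_le_of_le hle) fun he => hne ?_
      exact Subgroup.eq_of_le_of_card_ge hle he.ge
    have hcen := ih _ hlt R (hQ.to_le hle)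
      (CfsgLib.Coprime.mem_normalizer_of_forall_conj hconj) rfl
    exact (Subgroup.mem_centralizer_iff.mp hcen r hr).symm
  by_contra hnot
  set A := Subgroup.zpowers y with hA
  have hAQ : A ≤ Subgroup.normalizer (Q : Set G) := Subgroup.zpowers_le.mpr hy
  obtain ⟨k, hk⟩ := IsPGroup.iff_card.mp hQ
  have hcp : (Nat.card A).Coprime (Nat.card Q) := by
    rw [hA, Nat.card_zpowers, hk]
    exact Nat.Coprime.pow_right _ hcop
  haveI := hQ.isNilpotent
  have hsolv : Group.IsSolvable A ∨ Group.IsSolvable Q := Or.inr inferInstance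
  have hAnot : ¬ A ≤ Subgroup.centralizer (Q : Set G) :=
    fun hle => hnot (hle (Subgroup.mem_zpowers y))
  -- `[Q, A] = Q`
  have hQA : ⁅Q, A⁆ = Q := by
    by_contra hne
    have hle := CfsgLib.Coprime.commutator_le_of_normalizes hAQ
    have hfix := hsmall _ hle hne fun r hr =>
      CfsgLib.Coprime.mem_normalizer_conj
        (CfsgLib.Coprime.le_normalizer_commutator_right Q A (Subgroup.mem_zpowers y)) hr
    have h0 : ⁅⁅Q, A⁆, A⁆ = ⊥ := by
      rw [Subgroup.commutator_comm, Subgroup.commutator_eq_bot_iff_le_centralizer]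
      exact Subgroup.zpowers_le.mpr
        (Subgroup.mem_centralizer_iff.mpr fun r hr => (hfix r hr).symm)
    have h1 := CfsgLib.Coprime.commutator_eq_bot_of_commutator_commutator_eq_bot A Q hAQ hcp hsolv h0
    rw [Subgroup.commutator_comm, Subgroup.commutator_eq_bot_iff_le_centralizer] at h1
    exact hAnot h1
  -- the subgroup generated by squares
  set D := Subgroup.closure {z : G | ∃ b ∈ Q, b * b = z} with hD
  have hsq : ∀ b ∈ Q, b * b ∈ D := fun b hb => Subgroup.subset_closure ⟨b, hb, rfl⟩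
  have hDQ : D ≤ Q := (Subgroup.closure_le Q).mpr fun z ⟨b, hb, hz⟩ => hz ▸ mul_mem hb hb
  have hcomm : ∀ b ∈ Q, ∀ c ∈ Q, ⁅b, c⁆ ∈ D := by
    intro b hb c hc
    have e : ⁅b, c⁆ = b * b * ((b⁻¹ * c) * (b⁻¹ * c)) * (c * c)⁻¹ := by
      simp only [commutatorElement_def]; group
    rw [e]
    exact mul_mem (mul_mem (hsq b hb) (hsq _ (mul_mem (inv_mem hb) hc))) (inv_mem (hsq c hc))
  have hDne : D ≠ Q := by
    intro he
    rcases Nat.eq_zero_or_pos k with rfl | hk0
    · apply hnot
      rw [Subgroup.mem_centralizer_iff]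
      intro q hq
      rw [pow_zero, Subgroup.card_eq_one] at hk
      rw [hk] at hq
      simp [Subgroup.mem_bot.mp hq]
    · obtain ⟨M, hM⟩ := Sylow.exists_subgroup_card_pow_prime 2 (n := k - 1)
        (G := ↥Q) (hk ▸ pow_dvd_pow 2 (Nat.sub_le k 1))
      have hidx : M.index = 2 := by
        have := M.index_mul_card
        rw [hM, hk] at this
        have h2 : (2:ℕ) ^ k = 2 * 2 ^ (k - 1) := by
          rw [← pow_succ']
          congr 1
          omega
        rw [h2] at this
        exact Nat.eq_of_mul_eq_mul_right (by positivity) this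
      have hle : D ≤ M.map Q.subtype := (Subgroup.closure_le _).mpr fun z ⟨b, hb, hz⟩ =>
        ⟨⟨b, hb⟩ * ⟨b, hb⟩, Subgroup.mul_self_mem_of_index_two hidx _, hz⟩
      have hc := Subgroup.card_le_of_le hle
      rw [he, Subgroup.card_subtype, hk, hM] at hc
      exact absurd hc (not_le.mpr (Nat.pow_lt_pow_right (by norm_num) (by omega)))
  have hDy : ∀ r ∈ D, y * r * y⁻¹ ∈ D := by
    have hle : D ≤ D.comap (MulAut.conj y).toMonoidHom := (Subgroup.closure_le _).mpr
      fun z ⟨b, hb, hz⟩ => by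
        change y * z * y⁻¹ ∈ D
        have e : y * z * y⁻¹ = (y * b * y⁻¹) * (y * b * y⁻¹) := by rw [← hz]; group
        rw [e]
        exact hsq _ (CfsgLib.Coprime.mem_normalizer_conj hy hb)
    exact fun r hr => hle hr
  have hyD := hsmall D hDQ hDne hDy
  have hAD : A ≤ Subgroup.centralizer (D : Set G) :=
    Subgroup.zpowers_le.mpr (Subgroup.mem_centralizer_iff.mpr fun r hr => (hyD r hr).symm)
  -- `D` is central in `Q`
  have hQD : ∀ q ∈ Q, ∀ r ∈ D, q * r = r * q := by
    have h1 : ⁅⁅Q, D⁆, A⁆ = ⊥ := by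
      rw [Subgroup.commutator_comm, Subgroup.commutator_eq_bot_iff_le_centralizer]
      refine hAD.trans (Subgroup.centralizer_le ?_)
      exact Subgroup.commutator_le.mpr fun q hq r hr => hcomm q hq r (hDQ hr)
    have h2 : ⁅⁅D, A⁆, Q⁆ = ⊥ := by
      have : ⁅D, A⁆ = ⊥ := by
        rw [Subgroup.commutator_comm, Subgroup.commutator_eq_bot_iff_le_centralizer]
        exact hAD
      rw [this, Subgroup.commutator_bot_left]
    have h3 := Subgroup.commutator_commutator_eq_bot_of_rotate h1 h2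
    rw [Subgroup.commutator_comm A Q, hQA, Subgroup.commutator_eq_bot_iff_le_centralizer] at h3
    exact fun q hq r hr => (Subgroup.mem_centralizer_iff.mp (h3 hq) r hr).symm
  apply hnot
  rw [Subgroup.mem_centralizer_iff]
  intro a ha
  by_contra hay
  -- the subgroup of commutators with `a`
  let H : Subgroup G :=
    { carrier := {z | ∃ b ∈ Q, ⁅b, a⁆ = z}
      one_mem' := ⟨1, one_mem Q, commutatorElement_one_left a⟩
      mul_mem' := by
        rintro z w ⟨b, hb, rfl⟩ ⟨c, hc, rfl⟩
        refine ⟨c * b, mul_mem hc hb, ?_⟩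
        have e : ⁅c * b, a⁆ = c * ⁅b, a⁆ * c⁻¹ * ⁅c, a⁆ := by
          simp only [commutatorElement_def]; group
        rw [e, hQD c hc _ (hcomm b hb a ha), mul_inv_cancel_right]
      inv_mem' := by
        rintro z ⟨b, hb, rfl⟩
        refine ⟨b⁻¹, inv_mem hb, ?_⟩
        have e : ⁅b⁻¹, a⁆ = b⁻¹ * ⁅b, a⁆⁻¹ * b := by
          simp only [commutatorElement_def]; group
        rw [e, hQD b⁻¹ (inv_mem hb) _ (inv_mem (hcomm b hb a ha)), inv_mul_cancel_right] }
  have hHD : ∀ z ∈ H, z ∈ D := fun z ⟨b, hb, hz⟩ => hz ▸ hcomm b hb a ha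
  let W : Subgroup G :=
    { carrier := {w | w ∈ Q ∧ ∀ c ∈ Q, ⁅w, c⁆ ∈ H}
      one_mem' := ⟨one_mem Q, fun c _ => by rw [commutatorElement_one_left]; exact one_mem H⟩
      mul_mem' := by
        rintro w v ⟨hw, hw'⟩ ⟨hv, hv'⟩
        refine ⟨mul_mem hw hv, fun c hc => ?_⟩
        have e : ⁅w * v, c⁆ = w * ⁅v, c⁆ * w⁻¹ * ⁅w, c⁆ := by
          simp only [commutatorElement_def]; group
        rw [e, hQD w hw _ (hcomm v hv c hc), mul_inv_cancel_right]
        exact mul_mem (hv' c hc) (hw' c hc)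
      inv_mem' := by
        rintro w ⟨hw, hw'⟩
        refine ⟨inv_mem hw, fun c hc => ?_⟩
        have e : ⁅w⁻¹, c⁆ = w⁻¹ * ⁅w, c⁆⁻¹ * w := by
          simp only [commutatorElement_def]; group
        rw [e, hQD w⁻¹ (inv_mem hw) _ (inv_mem (hcomm w hw c hc)), inv_mul_cancel_right]
        exact inv_mem (hw' c hc) }
  have hWQ : W = Q := by
    by_contra hne
    have haW : a ∈ W := ⟨ha, fun c hc => by
      rw [← commutatorElement_inv]
      exact inv_mem ⟨c, hc, rfl⟩⟩
    refine hay ((hsmall W (fun w hw => hw.1) hne ?_ a haW).symm)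
    rintro w ⟨hw, hw'⟩
    refine ⟨CfsgLib.Coprime.mem_normalizer_conj hy hw, fun c hc => ?_⟩
    have hc' := CfsgLib.Coprime.mem_normalizer_conj' hy hc
    have e : ⁅y * w * y⁻¹, c⁆ = y * ⁅w, y⁻¹ * c * y⁆ * y⁻¹ := by
      simp only [commutatorElement_def]; group
    rw [e, hyD _ (hHD _ (hw' _ hc')), mul_inv_cancel_right]
    exact hw' _ hc'
  have hcH : ∀ b ∈ Q, ∀ c ∈ Q, ⁅b, c⁆ ∈ H := fun b hb c hc =>
    ((hWQ.symm ▸ hb : b ∈ W)).2 c hc
  -- squaring is a homomorphism modulo `H`
  let K : Subgroup G :=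
    { carrier := {b | b ∈ Q ∧ b * b ∈ H}
      one_mem' := ⟨one_mem Q, by rw [mul_one]; exact one_mem H⟩
      mul_mem' := by
        rintro b c ⟨hb, hb'⟩ ⟨hc, hc'⟩
        refine ⟨mul_mem hb hc, ?_⟩
        have e : b * c * (b * c) = b * (⁅c, b⁆ * (b * (c * c))) := by
          simp only [commutatorElement_def]; group
        rw [e, ← mul_assoc, hQD b hb _ (hcomm c hc b hb), mul_assoc, ← mul_assoc b b]
        exact mul_mem (hcH c hc b hb) (mul_mem hb' hc')
      inv_mem' := by
        rintro b ⟨hb, hb'⟩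
        refine ⟨inv_mem hb, ?_⟩
        rw [← mul_inv_rev]
        exact inv_mem hb' }
  have hQK : Q ≤ K := by
    rw [← hQA]
    refine Subgroup.commutator_le.mpr fun b hb x hx => ?_
    set d := x * b⁻¹ * x⁻¹ with hd
    have hdQ : d ∈ Q := CfsgLib.Coprime.mem_normalizer_conj (hAQ hx) (inv_mem hb)
    have e : ⁅b, x⁆ = b * d := by simp only [commutatorElement_def, hd]; group
    have hdd : d * d = (b * b)⁻¹ := by
      have e1 : d * d = x * (b * b)⁻¹ * x⁻¹ := by rw [hd]; group
      rw [e1]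
      rw [← Subgroup.mem_centralizer_iff.mp (hAD hx) _ (inv_mem (hsq b hb)),
        mul_inv_cancel_right]
    rw [e]
    refine ⟨mul_mem hb hdQ, ?_⟩
    have e2 : b * d * (b * d) = b * (⁅d, b⁆ * (b * (d * d))) := by
      simp only [commutatorElement_def]; group
    rw [e2, ← mul_assoc, hQD b hb _ (hcomm d hdQ b hb), mul_assoc, hdd, ← mul_assoc b b,
      mul_inv_cancel, mul_one]
    exact hcH d hdQ b hb
  -- so `a` is conjugate to its inverse
  obtain ⟨b, hb, hab⟩ := inv_mem (hQK ha).2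
  have hreal : IsConj a a⁻¹ := by
    rw [isConj_iff]
    refine ⟨b, ?_⟩
    have e : b * a * b⁻¹ = ⁅b, a⁆ * a := by simp only [commutatorElement_def]; group
    rw [e, hab]
    group
  obtain ⟨j, hj⟩ := IsPGroup.iff_orderOf.mp hQ ⟨a, ha⟩
  rw [Subgroup.orderOf_mk] at hj
  exact hay ((Subgroup.mem_center_iff.mp (h a ⟨j, hj⟩ hreal) y).symm)

/-- If every 2-element of the finite group G that is conjugate to its inverse lies in the centre of G, then G has a normal 2-complement. -/
theorem result {G : Type*} [Group G] [Finite G] (h : ∀ x : G, (∃ j : ℕ, orderOf x = 2 ^ j) → IsConj x x⁻¹ → x ∈ Subgroup.center G) : Cfsg.HasNormalPComplement 2 G := by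
  haveI : Fact (Nat.Prime 2) := ⟨Nat.prime_two⟩
  exact CfsgLib.Transfer.hasNormalPComplement_of_frobeniusCond (frobeniusCond_of_real_central h)

end Cfsg.Agent.S3862
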