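import Cfsg.Statements.S3866
import Mathlib.GroupTheory.Index
import Mathlib.Tactic.Group
import Mathlib.Tactic.Ring

set_option autoImplicit false
open Cfsg
open scoped commutatorElement

namespace Cfsg.Agent.S3866

/-- Let A be a commutative normal subgroup of the finite group G with G generated by A and an element x. Then a ↦ x a x⁻¹ a⁻¹ is a surjective homomorphism from A onto the commutator subgroup of G whose kernel is the centralizer of x in A; in particular the commutator subgroup has order equal to the index in A of that centralizer. -/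
theorem result {G : Type*} [Group G] [Finite G] (A : Subgroup G) [A.Normal] (hA : IsMulCommutative A) (x : G) (hgen : A ⊔ Subgroup.zpowers x = ⊤) : (∀ a ∈ A, x * a * x⁻¹ * a⁻¹ ∈ commutator G) ∧ (∀ c ∈ commutator G, ∃ a ∈ A, x * a * x⁻¹ * a⁻¹ = c) ∧ (∀ a ∈ A, ∀ b ∈ A, x * (a * b) * x⁻¹ * (a * b)⁻¹ = (x * a * x⁻¹ * a⁻¹) * (x * b * x⁻¹ * b⁻¹)) ∧ Nat.card (commutator G) * Nat.card ↥(A ⊓ Subgroup.centralizer ({x} : Set G)) = Nat.card A := by
  have hcomm : ∀ a ∈ A, ∀ b ∈ A, a * b = b * a := fun a ha b hb =>
    congrArg Subtype.val (hA.is_comm.comm ⟨a, ha⟩ ⟨b, hb⟩)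
  have hin : ∀ a ∈ A, x * a * x⁻¹ * a⁻¹ ∈ A := fun a ha =>
    mul_mem (‹A.Normal›.conj_mem a ha x) (inv_mem ha)
  have hmul : ∀ a ∈ A, ∀ b ∈ A,
      x * (a * b) * x⁻¹ * (a * b)⁻¹ = (x * a * x⁻¹ * a⁻¹) * (x * b * x⁻¹ * b⁻¹) := by
    intro a ha b hb
    have e : x * (a * b) * x⁻¹ * (a * b)⁻¹ = (x * a * x⁻¹) * ((x * b * x⁻¹ * b⁻¹) * a⁻¹) := by group
    rw [e, hcomm _ (hin b hb) _ (inv_mem ha)]
    group
  let f : A →* G :=
    { toFun := fun a => x * (a : G) * x⁻¹ * (a : G)⁻¹
      map_one' := by simp
      map_mul' := fun a b => hmul a a.2 b b.2 }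
  have hfA : f.range ≤ A := by rintro _ ⟨a, rfl⟩; exact hin a a.2
  have hrange : f.range = commutator G := by
    apply le_antisymm
    · rintro _ ⟨a, rfl⟩
      rw [commutator_def]
      exact Subgroup.commutator_mem_commutator (Subgroup.mem_top x) (Subgroup.mem_top (a : G))
    · have hNA : A ≤ Subgroup.normalizer (f.range : Set G) := by
        intro a ha
        rw [Subgroup.mem_normalizer_iff]
        intro h
        constructor
        · intro hh
          rwa [hcomm a ha h (hfA hh), mul_inv_cancel_right]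
        · intro hh
          have h2 : a⁻¹ * (a * h * a⁻¹) * a = a * h * a⁻¹ := by
            rw [hcomm _ (inv_mem ha) _ (hfA hh)]; group
          have : h = a * h * a⁻¹ := by
            calc h = a⁻¹ * (a * h * a⁻¹) * a := by group
              _ = _ := h2
          rwa [this]
      have hNx : x ∈ Subgroup.normalizer (f.range : Set G) := by
        rw [Subgroup.mem_normalizer_iff_map_conj_eq]
        have : f.range.map (MulAut.conj x).toMonoidHom = f.range := by
          ext z
          constructor
          · rintro ⟨_, ⟨a, rfl⟩, rfl⟩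
            refine ⟨⟨x * a * x⁻¹, ‹A.Normal›.conj_mem a a.2 x⟩, ?_⟩
            simp [f, mul_assoc]
          · rintro ⟨a, rfl⟩
            refine ⟨f ⟨x⁻¹ * a * x, by simpa using ‹A.Normal›.conj_mem a a.2 x⁻¹⟩, ⟨_, rfl⟩, ?_⟩
            simp [f, mul_assoc]
        simpa using this
      haveI : f.range.Normal := Subgroup.normalizer_eq_top_iff.mp
        (top_unique (hgen ▸ sup_le hNA (Subgroup.zpowers_le.mpr hNx)))
      set q := QuotientGroup.mk' f.range with hq
      have hqc : ∀ a ∈ A, q a * q x = q x * q a := by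
        intro a ha
        have h1 : q (f ⟨a, ha⟩) = 1 := (QuotientGroup.eq_one_iff _).mpr ⟨_, rfl⟩
        simp only [f, MonoidHom.coe_mk, OneHom.coe_mk, map_mul, map_inv] at h1
        rw [mul_inv_eq_one, mul_inv_eq_iff_eq_mul] at h1
        exact h1.symm
      let C : Subgroup G := (Subgroup.centralizer {q x}).comap q
      let C' : Subgroup G := (Subgroup.centralizer ((A.map q : Subgroup _) : Set _)).comap q
      have htop : ∀ g : G, g ∈ C ∧ g ∈ C' := by
        intro g
        suffices (⊤ : Subgroup G) ≤ C ⊓ C' from this (Subgroup.mem_top g)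
        rw [← hgen]
        refine sup_le (fun a ha => ⟨?_, ?_⟩) (Subgroup.zpowers_le.mpr ⟨?_, ?_⟩)
        · simp [C, Subgroup.mem_centralizer_iff, hqc a ha]
        · simp only [C', Subgroup.mem_comap, Subgroup.mem_centralizer_iff, SetLike.mem_coe]
          rintro _ ⟨b, hb, rfl⟩
          rw [← map_mul, ← map_mul, hcomm a ha b hb]
        · simp [C, Subgroup.mem_centralizer_iff]
        · simp only [C', Subgroup.mem_comap, Subgroup.mem_centralizer_iff, SetLike.mem_coe]
          rintro _ ⟨b, hb, rfl⟩
          exact hqc b hb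
      rw [commutator_def, Subgroup.commutator_le]
      intro g _ h _
      rw [← QuotientGroup.eq_one_iff]
      change q ⁅g, h⁆ = 1
      rw [map_commutatorElement, commutatorElement_eq_one_iff_mul_comm]
      suffices (⊤ : Subgroup G) ≤ (Subgroup.centralizer {q g}).comap q by
        have := this (Subgroup.mem_top h)
        simp [Subgroup.mem_centralizer_iff] at this
        exact this
      rw [← hgen]
      refine sup_le (fun a ha => ?_) (Subgroup.zpowers_le.mpr ?_)
      · simp only [Subgroup.mem_comap, Subgroup.mem_centralizer_iff, Set.mem_singleton_iff,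
          forall_eq]
        exact ((htop g).2 (q a) ⟨a, ha, rfl⟩).symm
      · simp only [Subgroup.mem_comap, Subgroup.mem_centralizer_iff, Set.mem_singleton_iff,
          forall_eq]
        exact ((htop g).1 (q x) rfl).symm
  refine ⟨fun a ha => hrange ▸ ⟨⟨a, ha⟩, rfl⟩, fun c hc => ?_, hmul, ?_⟩
  · obtain ⟨a, ha⟩ := hrange.symm ▸ hc
    exact ⟨a, a.2, ha⟩
  · have hker : f.ker = (A ⊓ Subgroup.centralizer ({x} : Set G)).subgroupOf A := by
      ext a
      simp [Subgroup.mem_subgroupOf, f, Subgroup.mem_centralizer_iff, mul_inv_eq_one,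
        mul_inv_eq_iff_eq_mul]
    have hk : Nat.card ↥(A ⊓ Subgroup.centralizer ({x} : Set G)) = Nat.card f.ker := by
      rw [hker]
      exact (Nat.card_congr (Subgroup.subgroupOfEquivOfLe inf_le_left).toEquiv).symm
    rw [← hrange, hk, ← Subgroup.index_ker f, Subgroup.index_mul_card]

end Cfsg.Agent.S3866
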