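import Cfsg.Statements.S3867

set_option autoImplicit false
open Cfsg

namespace Cfsg.Agent.S3867

/-- Let M and N be nontrivial normal subgroups of the finite group G with M ⊓ N trivial, and let p be a prime. Writing n(X) for the number of Sylow p-subgroups of a group X, one has n(G) · n(G/MN) = n(G/M) · n(G/N). -/
theorem result {G : Type*} [Group G] [Finite G] (p : ℕ) [Fact p.Prime] (M N : Subgroup G) [M.Normal] [N.Normal] (hM : M ≠ ⊥) (hN : N ≠ ⊥) (hMN : M ⊓ N = ⊥) : Nat.card (Sylow p G) * Nat.card (Sylow p (G ⧸ (M ⊔ N))) = Nat.card (Sylow p (G ⧸ M)) * Nat.card (Sylow p (G ⧸ N)) := by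
  classical
  haveI : Fintype (Sylow p (G ⧸ N)) := Fintype.ofFinite _
  haveI : Fintype (Sylow p (G ⧸ (M ⊔ N))) := Fintype.ofFinite _
  set fM := QuotientGroup.mk' M
  set fN := QuotientGroup.mk' N
  set f := QuotientGroup.mk' (M ⊔ N)
  have hfM : Function.Surjective fM := QuotientGroup.mk'_surjective M
  have hfN : Function.Surjective fN := QuotientGroup.mk'_surjective N
  have hf : Function.Surjective f := QuotientGroup.mk'_surjective _
  let gM : G ⧸ M →* G ⧸ (M ⊔ N) := QuotientGroup.map M (M ⊔ N) (MonoidHom.id G) le_sup_left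
  let gN : G ⧸ N →* G ⧸ (M ⊔ N) := QuotientGroup.map N (M ⊔ N) (MonoidHom.id G) le_sup_right
  have hgM : Function.Surjective gM := fun y => by
    obtain ⟨g, rfl⟩ := hf y; exact ⟨fM g, rfl⟩
  have hgN : Function.Surjective gN := fun y => by
    obtain ⟨g, rfl⟩ := hf y; exact ⟨fN g, rfl⟩
  let a : Sylow p G → Sylow p (G ⧸ M) := fun S => S.mapSurjective hfM
  let b : Sylow p G → Sylow p (G ⧸ N) := fun S => S.mapSurjective hfN
  let u : Sylow p (G ⧸ M) → Sylow p (G ⧸ (M ⊔ N)) := fun S => S.mapSurjective hgM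
  let v : Sylow p (G ⧸ N) → Sylow p (G ⧸ (M ⊔ N)) := fun S => S.mapSurjective hgN
  have hua : ∀ S, u (a S) = S.mapSurjective hf := fun S => by
    ext1
    simp only [u, a, Sylow.coe_mapSurjective, Subgroup.map_map]
    congr 1
  have hvb : ∀ S, v (b S) = S.mapSurjective hf := fun S => by
    ext1
    simp only [v, b, Sylow.coe_mapSurjective, Subgroup.map_map]
    congr 1
  -- the map to the fibred product is a bijection
  have hpg : ∀ A : Subgroup (G ⧸ M), ∀ B : Subgroup (G ⧸ N), IsPGroup p A → IsPGroup p B →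
      IsPGroup p ↥(A.comap fM ⊓ B.comap fN) := by
    intro A B hA hB x
    obtain ⟨i, hi⟩ := hA ⟨fM x, x.2.1⟩
    obtain ⟨j, hj⟩ := hB ⟨fN x, x.2.2⟩
    refine ⟨i + j, Subtype.ext ?_⟩
    have h1 : ((x : G) ^ p ^ (i + j)) ∈ M := by
      rw [← QuotientGroup.eq_one_iff]
      change fM _ = 1
      rw [map_pow, pow_add, pow_mul]
      have : fM (x : G) ^ p ^ i = 1 := congrArg Subtype.val hi
      rw [this, one_pow]
    have h2 : ((x : G) ^ p ^ (i + j)) ∈ N := by
      rw [← QuotientGroup.eq_one_iff]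
      change fN _ = 1
      rw [map_pow, pow_add, mul_comm (p ^ i), pow_mul]
      have : fN (x : G) ^ p ^ j = 1 := congrArg Subtype.val hj
      rw [this, one_pow]
    simpa [hMN] using (show _ ∈ M ⊓ N from ⟨h1, h2⟩)
  have hinj : ∀ S T, a S = a T → b S = b T → S = T := by
    intro S T h1 h2
    have key : ∀ R : Sylow p G, ((a R : Subgroup (G ⧸ M)).comap fM ⊓ (b R : Subgroup (G ⧸ N)).comap fN) = R :=
      fun R => R.3 (hpg _ _ (a R).2 (b R).2)
        (le_inf (Subgroup.le_comap_map _ _) (Subgroup.le_comap_map _ _))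
    exact Sylow.ext ((key S).symm.trans (by rw [h1, h2]; exact key T))
  have hsurj : ∀ A B, u A = v B → ∃ S, a S = A ∧ b S = B := by
    intro A B hAB
    set R := (A : Subgroup (G ⧸ M)).comap fM ⊓ (B : Subgroup (G ⧸ N)).comap fN
    have hRM : R.map fM = A := by
      apply le_antisymm
      · exact (Subgroup.map_mono inf_le_left).trans (Subgroup.map_comap_le _ _)
      · intro α hα
        obtain ⟨g, rfl⟩ := hfM α
        have : gM (fM g) ∈ (v B : Subgroup (G ⧸ (M ⊔ N))) := hAB ▸ ⟨_, hα, rfl⟩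
        obtain ⟨β, hβ, hβg⟩ := this
        obtain ⟨h, rfl⟩ := hfN β
        have hd : h⁻¹ * g ∈ M ⊔ N := QuotientGroup.eq.mp hβg
        rw [sup_comm, Subgroup.mem_sup_of_normal_left] at hd
        obtain ⟨n, hn, m, hm, hnm⟩ := hd
        have e1 : fN (h * n) = fN h := by
          have : fN n = 1 := (QuotientGroup.eq_one_iff n).mpr hn
          rw [map_mul, this, mul_one]
        have e2 : fM (h * n) = fM g := by
          have : fM m = 1 := (QuotientGroup.eq_one_iff m).mpr hm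
          have hg : g = h * n * m := by rw [mul_assoc, hnm]; group
          rw [hg, map_mul _ _ m, this, mul_one]
        exact ⟨h * n, ⟨show fM (h * n) ∈ (A : Subgroup (G ⧸ M)) by rw [e2]; exact hα,
          show fN (h * n) ∈ (B : Subgroup (G ⧸ N)) by rw [e1]; exact hβ⟩, e2⟩
    have hRN : R.map fN = B := by
      apply le_antisymm
      · exact (Subgroup.map_mono inf_le_right).trans (Subgroup.map_comap_le _ _)
      · intro β hβ
        obtain ⟨g, rfl⟩ := hfN β
        have : gN (fN g) ∈ (u A : Subgroup (G ⧸ (M ⊔ N))) := hAB.symm ▸ ⟨_, hβ, rfl⟩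
        obtain ⟨α, hα, hαg⟩ := this
        obtain ⟨h, rfl⟩ := hfM α
        have hd : h⁻¹ * g ∈ M ⊔ N := QuotientGroup.eq.mp hαg
        rw [Subgroup.mem_sup_of_normal_left] at hd
        obtain ⟨m, hm, n, hn, hmn⟩ := hd
        have e1 : fM (h * m) = fM h := by
          have : fM m = 1 := (QuotientGroup.eq_one_iff m).mpr hm
          rw [map_mul, this, mul_one]
        have e2 : fN (h * m) = fN g := by
          have : fN n = 1 := (QuotientGroup.eq_one_iff n).mpr hn
          have hg : g = h * m * n := by rw [mul_assoc, hmn]; group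
          rw [hg, map_mul _ _ n, this, mul_one]
        exact ⟨h * m, ⟨show fM (h * m) ∈ (A : Subgroup (G ⧸ M)) by rw [e1]; exact hα,
          show fN (h * m) ∈ (B : Subgroup (G ⧸ N)) by rw [e2]; exact hβ⟩, e2⟩
    obtain ⟨S, hS⟩ := (hpg _ _ A.2 B.2 : IsPGroup p R).exists_le_sylow
    refine ⟨S, ?_, ?_⟩
    · exact Sylow.ext (A.3 (a S).2 (hRM ▸ Subgroup.map_mono hS))
    · exact Sylow.ext (B.3 (b S).2 (hRN ▸ Subgroup.map_mono hS))
  let e : Sylow p G ≃ {AB : Sylow p (G ⧸ M) × Sylow p (G ⧸ N) // u AB.1 = v AB.2} :=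
    Equiv.ofBijective (fun S => ⟨(a S, b S), (hua S).trans (hvb S).symm⟩)
      ⟨fun S T h => hinj S T (congrArg (fun z => z.1.1) h) (congrArg (fun z => z.1.2) h),
       fun ⟨⟨A, B⟩, h⟩ => by
        obtain ⟨S, rfl, rfl⟩ := hsurj A B h
        exact ⟨S, rfl⟩⟩
  -- all fibres of `u` have the same size
  have hfib : ∀ C D, Nat.card {A // u A = C} = Nat.card {A // u A = D} := by
    intro C D
    obtain ⟨y, rfl⟩ := MulAction.exists_smul_eq (G ⧸ (M ⊔ N)) C D
    obtain ⟨z, rfl⟩ := hgM y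
    have hequ : ∀ A, u (z • A) = gM z • u A := by
      intro A
      ext1
      simp only [u, Sylow.coe_mapSurjective, Sylow.coe_subgroup_smul]
      ext w
      constructor
      · rintro ⟨_, ⟨y, hy, rfl⟩, rfl⟩
        exact ⟨gM y, ⟨y, hy, rfl⟩, by simp⟩
      · rintro ⟨_, ⟨y, hy, rfl⟩, rfl⟩
        exact ⟨z * y * z⁻¹, ⟨y, hy, rfl⟩, by simp⟩
    refine Nat.card_congr ((MulAction.toPerm z).subtypeEquiv fun A => ?_)
    simp [hequ]
  obtain ⟨C₀⟩ := (inferInstance : Nonempty (Sylow p (G ⧸ (M ⊔ N))))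
  have hG : Nat.card (Sylow p G) = Nat.card (Sylow p (G ⧸ N)) * Nat.card {A // u A = C₀} := by
    let e' : {AB : Sylow p (G ⧸ M) × Sylow p (G ⧸ N) // u AB.1 = v AB.2} ≃
        Σ B : Sylow p (G ⧸ N), {A // u A = v B} :=
      ⟨fun z => ⟨z.1.2, z.1.1, z.2⟩, fun z => ⟨(z.2.1, z.1), z.2.2⟩, fun z => rfl, fun z => rfl⟩
    rw [Nat.card_congr (e.trans e'), Nat.card_sigma]
    simp [hfib _ C₀]
  have hMc : Nat.card (Sylow p (G ⧸ M)) =
      Nat.card (Sylow p (G ⧸ (M ⊔ N))) * Nat.card {A // u A = C₀} := by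
    rw [← Nat.card_congr (Equiv.sigmaFiberEquiv u), Nat.card_sigma]
    simp [hfib _ C₀]
  rw [hG, hMc]
  ring

end Cfsg.Agent.S3867
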