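import Cfsg.Statements.S3868
import Cfsg.Agent.Lib.Struct76.MinimalNonClosed

set_option autoImplicit false
open Cfsg

namespace Cfsg.Agent.S3868

/-- Structure of the non-simple minimal non-p-closed groups. Call a finite group p-closed when its Sylow p-subgroups are normal, and minimal non-p-closed when it is not p-closed but every proper subgroup and every proper quotient is. If such a group G is not simple, then there is a prime q ≠ p such that G has order p · q^e, where e is the multiplicative order of q modulo p, and G has a normal subgroup A of order q^e that is elementary abelian and is a minimal normal subgroup of G (so G is the semidirect product of A by a group of order p acting irreducibly). -/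
theorem result {G : Type*} [Group G] [Finite G] {p : ℕ} [Fact p.Prime]
    (hnc : ¬ Cfsg.IsPClosed p G) (hsub : ∀ H : Subgroup G, H ≠ ⊤ → Cfsg.IsPClosed p ↥H)
    (hquo : ∀ (N : Subgroup G) [N.Normal], N ≠ ⊥ → Cfsg.IsPClosed p (G ⧸ N)) (hns : ¬ IsSimpleGroup G) :
    ∃ q : ℕ, q.Prime ∧ q ≠ p ∧ Nat.card G = p * q ^ orderOf (q : ZMod p) ∧
      ∃ A : Subgroup G, A.Normal ∧ Nat.card ↥A = q ^ orderOf (q : ZMod p) ∧ Cfsg.IsElementaryAbelian q A ∧
        ∀ B : Subgroup G, B.Normal → B ≤ A → B = ⊥ ∨ B = A := by
  have hp := (Fact.out : p.Prime)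
  obtain ⟨P⟩ := (inferInstance : Nonempty (Sylow p G))
  have hnn : ¬ (P : Subgroup G).Normal := fun h => hnc fun Q => by
    haveI := Sylow.unique_of_normal P h
    rw [Subsingleton.elim Q P]; exact h
  haveI : Nontrivial G := by
    by_contra h
    haveI := not_nontrivial_iff_subsingleton.mp h
    exact hnn ⟨fun y hy g => by rwa [Subsingleton.elim (g * y * g⁻¹) y]⟩
  -- a nontrivial normal `p`-subgroup would make `G` `p`-closed
  have hcore : ∀ M : Subgroup G, M.Normal → IsPGroup p M → M = ⊥ := by
    intro M hM hMp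
    by_contra hne
    haveI := hM
    apply hnn
    have hMP : M ≤ (P : Subgroup G) := hMp.le_sylow_of_normal P
    have h1 : ((P : Subgroup G).map (QuotientGroup.mk' M)).Normal :=
      hquo M hne (P.mapSurjective (QuotientGroup.mk'_surjective M))
    have h2 := h1.comap (QuotientGroup.mk' M)
    rwa [Subgroup.comap_map_eq, QuotientGroup.ker_mk', sup_eq_left.mpr hMP] at h2
  obtain ⟨N, hN⟩ := CfsgLib.Structure.exists_isMinNormal (G := G)
  haveI := hN.normal
  have hNtop : N ≠ ⊤ := fun h => hns ⟨fun K hK => h ▸ hN.2.2 K hK (h ▸ le_top)⟩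
  have hpN : ¬ p ∣ Nat.card N := by
    intro hd
    obtain ⟨Q⟩ := (inferInstance : Nonempty (Sylow p N))
    have hQn : (Q : Subgroup N).Normal := hsub N hNtop Q
    haveI := Q.characteristic_of_normal hQn
    have h0 : (Q : Subgroup N).map N.subtype = ⊥ := hcore _ inferInstance (Q.2.map _)
    rw [Subgroup.map_eq_bot_iff_of_injective _ N.subtype_injective] at h0
    exact Q.ne_bot_of_dvd_card hd h0
  have hPN : (P : Subgroup G) ⊔ N = ⊤ := by
    by_contra hne
    apply hnn
    have h1 : ((P : Subgroup G).map (QuotientGroup.mk' N)).Normal :=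
      hquo N hN.ne_bot (P.mapSurjective (QuotientGroup.mk'_surjective N))
    have h2 : ((P : Subgroup G) ⊔ N).Normal := by
      have := h1.comap (QuotientGroup.mk' N)
      rwa [Subgroup.comap_map_eq, QuotientGroup.ker_mk'] at this
    haveI := h2
    let P' := P.subtype (show (P : Subgroup G) ≤ (P : Subgroup G) ⊔ N from le_sup_left)
    haveI := P'.characteristic_of_normal (hsub _ hne P')
    have h3 : ((P' : Subgroup _).map ((P : Subgroup G) ⊔ N).subtype).Normal := inferInstance
    rwa [Sylow.coe_subtype, Subgroup.subgroupOf_map_subtype,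
      inf_eq_left.mpr (le_sup_left : (P : Subgroup G) ≤ (P : Subgroup G) ⊔ N)] at h3
  have hsub' : ∀ H : Subgroup G, H ≠ ⊤ → (P : Subgroup G) ≤ H →
      H ≤ Subgroup.normalizer ((P : Subgroup G) : Set G) := fun H hH hPH =>
    (Subgroup.normal_subgroupOf_iff_le_normalizer hPH).mp (hsub H hH (P.subtype hPH))
  have hP1 : (P : Subgroup G) ≠ ⊥ := fun h => hnn (h ▸ inferInstance)
  have hP : Nat.card (P : Subgroup G) = p := by
    haveI := (Subgroup.nontrivial_iff_ne_bot _).mpr hP1
    refine CfsgLib.Struct76.card_eq_prime_of_forall_normal P.2 fun K hK => ?_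
    by_contra! hne
    set P₀ := K.map (P : Subgroup G).subtype with hP₀
    have hp₀ : IsPGroup p P₀ := (P.2.to_subgroup K).map _
    have hlt : Nat.card P₀ < Nat.card (P : Subgroup G) := by
      rw [Subgroup.card_map_of_injective (P : Subgroup G).subtype_injective]
      exact lt_of_le_of_ne (Subgroup.card_le_card_group K) fun h => hne.2 (Subgroup.card_eq_iff_eq_top K |>.mp h)
    have hXtop : P₀ ⊔ N ≠ ⊤ := fun h => by
      have h1 := CfsgLib.Struct76.card_sup_pGroup P₀ N hp₀ hpN
      have h2 := CfsgLib.Struct76.card_sup_pGroup (P : Subgroup G) N P.2 hpN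
      rw [h, Subgroup.card_top] at h1
      rw [hPN, Subgroup.card_top, h1] at h2
      exact hlt.ne (Nat.eq_of_mul_eq_mul_right Nat.card_pos h2)
    have hidx : ¬ p ∣ (P₀.subgroupOf (P₀ ⊔ N)).index := fun hd => hpN (hd.trans (by
      have h1 := CfsgLib.Struct76.card_sup_pGroup P₀ N hp₀ hpN
      have h2 := (P₀.subgroupOf (P₀ ⊔ N)).index_mul_card
      rw [Nat.card_congr (Subgroup.subgroupOfEquivOfLe (le_sup_left : P₀ ≤ P₀ ⊔ N)).toEquiv, h1,
        mul_comm (Nat.card P₀)] at h2
      rw [Nat.eq_of_mul_eq_mul_right Nat.card_pos h2]))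
    let S : Sylow p ↥(P₀ ⊔ N) :=
      (hp₀.comap_subtype : IsPGroup p (P₀.subgroupOf (P₀ ⊔ N))).toSylow hidx
    have hSn : (P₀.subgroupOf (P₀ ⊔ N)).Normal := hsub _ hXtop S
    have hN₀ := le_sup_right.trans ((Subgroup.normal_subgroupOf_iff_le_normalizer le_sup_left).mp hSn)
    have hP₀n : P₀.Normal := by
      rw [← Subgroup.normalizer_eq_top_iff, eq_top_iff, ← hPN, sup_le_iff]
      refine ⟨?_, hN₀⟩
      have := Subgroup.le_normalizer_map (H := K) (P : Subgroup G).subtype
      rwa [Subgroup.normalizer_eq_top_iff.mpr hK, ← MonoidHom.range_eq_map, Subgroup.range_subtype] at this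
    have := hcore P₀ hP₀n hp₀
    rw [hP₀, Subgroup.map_eq_bot_iff_of_injective _ (P : Subgroup G).subtype_injective] at this
    exact hne.1 this
  refine CfsgLib.Struct76.structure_of_prime_sylow N hN hpN (P : Subgroup G) hP hPN hnn ?_ hsub'
  intro hc
  exact hnn ⟨fun y hy g => by rwa [hc.is_comm.comm g y, mul_inv_cancel_right]⟩

end Cfsg.Agent.S3868
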