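import Cfsg.Statements.S3869
import Cfsg.Agent.Lib.Struct76.MinimalNonClosed

set_option autoImplicit false
open Cfsg

namespace Cfsg.Agent.S3869

/-- Let p and q be distinct primes and G a finite non-abelian group with a normal elementary abelian q-subgroup A that is a minimal normal subgroup of G and has index p. Then A has order q^e with e the multiplicative order of q modulo p, and G is minimal non-p-closed: its Sylow p-subgroups are not normal, while in every proper subgroup and in every proper quotient of G the Sylow p-subgroups are normal. -/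
theorem result {G : Type*} [Group G] [Finite G] {p q : ℕ} [Fact p.Prime] (hq : q.Prime) (hpq : q ≠ p)
    (hna : ¬ IsMulCommutative G) (A : Subgroup G) [A.Normal] (hA : Cfsg.IsElementaryAbelian q A) (hidx : A.index = p)
    (hmin : ∀ B : Subgroup G, B.Normal → B ≤ A → B = ⊥ ∨ B = A) :
    Nat.card ↥A = q ^ orderOf (q : ZMod p) ∧ ¬ Cfsg.IsPClosed p G ∧ (∀ H : Subgroup G, H ≠ ⊤ → Cfsg.IsPClosed p ↥H) ∧
      ∀ (N : Subgroup G) [N.Normal], N ≠ ⊥ → Cfsg.IsPClosed p (G ⧸ N) := by
  exact CfsgLib.Struct76.irreducible_prime_index hq hpq hna A hA hidx hmin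

end Cfsg.Agent.S3869
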