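import Cfsg.Statements.S3870

set_option autoImplicit false
open Cfsg

namespace Cfsg.Agent.S3870

/-- Let G be a finite simple group whose Sylow p-subgroups are not normal but such that every proper subgroup of G has a normal Sylow p-subgroup. Then any two distinct Sylow p-subgroups of G intersect trivially, and for every Sylow p-subgroup P the normalizer of every non-identity subgroup of P lies in the normalizer of P. -/
theorem result {G : Type*} [Group G] [Finite G] [IsSimpleGroup G] {p : ℕ} [Fact p.Prime]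
    (hnc : ¬ Cfsg.IsPClosed p G) (hsub : ∀ H : Subgroup G, H ≠ ⊤ → Cfsg.IsPClosed p ↥H) :
    (∀ P Q : Sylow p G, P ≠ Q → (P : Subgroup G) ⊓ (Q : Subgroup G) = ⊥) ∧
      ∀ (P : Sylow p G) (R : Subgroup G), R ≤ P → R ≠ ⊥ →
        Subgroup.normalizer (R : Set G) ≤ Subgroup.normalizer ((P : Subgroup G) : Set G) := by
  have hp1 : p ≠ 1 := (Fact.out : p.Prime).ne_one
  -- `G` has no nontrivial normal `p`-subgroup
  have hnp : ∀ D : Subgroup G, IsPGroup p D → D ≠ ⊥ → Subgroup.normalizer (D : Set G) ≠ ⊤ := by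
    intro D hD hD0 htop
    rcases (Subgroup.normalizer_eq_top_iff.mp htop).eq_bot_or_eq_top with h | h
    · exact hD0 h
    · subst h
      refine hnc fun P => ?_
      have : (P : Subgroup G) = ⊤ := (P.3 hD le_top).symm
      rw [this]; infer_instance
  -- in a proper subgroup all `p`-subgroups lie in one Sylow subgroup of it
  have huniq : ∀ H : Subgroup G, H ≠ ⊤ → ∃ S : Subgroup G, S ≤ H ∧ IsPGroup p S ∧
      H ≤ Subgroup.normalizer (S : Set G) ∧ ∀ A : Subgroup G, IsPGroup p A → A ≤ H → A ≤ S := by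
    intro H hH
    obtain ⟨S⟩ := (inferInstance : Nonempty (Sylow p H))
    haveI hS : (S : Subgroup H).Normal := hsub H hH S
    refine ⟨(S : Subgroup H).map H.subtype, Subgroup.map_subtype_le _, S.2.map _, ?_, ?_⟩
    · refine le_trans ?_ (Subgroup.le_normalizer_map H.subtype)
      rw [Subgroup.normalizer_eq_top_iff.mpr hS, ← MonoidHom.range_eq_map, Subgroup.range_subtype]
    · intro A hA hAH
      have : A.subgroupOf H ≤ S := by
        obtain ⟨T, hT⟩ := (hA.comap_subtype : IsPGroup p (A.subgroupOf H)).exists_le_sylow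
        haveI := Sylow.unique_of_normal S hS
        rwa [Subsingleton.elim T S] at hT
      intro a ha
      exact ⟨⟨a, hAH ha⟩, this ha, rfl⟩
  -- a Sylow subgroup containing `D` absorbs the normalizer of `D`
  have hTI : ∀ P Q : Sylow p G, P ≠ Q → (P : Subgroup G) ⊓ (Q : Subgroup G) = ⊥ := by
    intro P Q hPQ
    by_contra h0
    obtain ⟨D, hD, hDmax⟩ := Set.Finite.exists_maximalFor id
      {D : Subgroup G | D ≠ ⊥ ∧ ∃ P Q : Sylow p G, P ≠ Q ∧ (P : Subgroup G) ⊓ Q = D}
      (Set.toFinite _) ⟨_, h0, P, Q, hPQ, rfl⟩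
    obtain ⟨hD0, P, Q, hPQ, rfl⟩ := hD
    set N := Subgroup.normalizer (((P : Subgroup G) ⊓ Q : Subgroup G) : Set G)
    obtain ⟨S, hSN, hS, -, hSall⟩ := huniq N (hnp _ (P.2.to_le inf_le_left) hD0)
    obtain ⟨T, hT⟩ := hS.exists_le_sylow
    have hbig : ∀ R : Sylow p G, (P : Subgroup G) ⊓ Q ≤ R → (P : Subgroup G) ⊓ Q ≠ R → R = T := by
      intro R hle hne
      by_contra hRT
      haveI := R.2.isNilpotent
      have hlt : ((P : Subgroup G) ⊓ Q).subgroupOf R < ⊤ :=
        lt_top_iff_ne_top.mpr fun h => hne (le_antisymm hle (Subgroup.subgroupOf_eq_top.mp h))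
      have h2 := Group.normalizerCondition_of_isNilpotent (G := ↥(R : Subgroup G)) _ hlt
      obtain ⟨y, hy, hy'⟩ := SetLike.exists_of_lt h2
      apply hy'
      have hyN : (y : G) ∈ N := by
        rw [Subgroup.mem_normalizer_iff]
        intro g
        rw [Subgroup.mem_normalizer_iff] at hy
        constructor
        · intro hg
          exact ((hy ⟨g, hle hg⟩).mp hg : _)
        · intro hg
          have hgR : g ∈ (R : Subgroup G) := by
            have := mul_mem (mul_mem (inv_mem y.2) (hle hg)) y.2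
            simpa [mul_assoc] using this
          exact (hy ⟨g, hgR⟩).mpr hg
      -- `R ⊓ T` contains `D` and `y`, so it equals `D`
      have hRTle : (P : Subgroup G) ⊓ Q ≤ (R : Subgroup G) ⊓ T :=
        le_inf hle ((hSall _ (P.2.to_le inf_le_left) Subgroup.le_normalizer).trans hT)
      have hyT : (y : G) ∈ (T : Subgroup G) :=
        hT (hSall _ (R.2.to_le (Subgroup.zpowers_le.mpr y.2)) (Subgroup.zpowers_le.mpr hyN)
          (Subgroup.mem_zpowers _))
      have := hDmax ⟨ne_bot_of_le_ne_bot hD0 hRTle, R, T, hRT, rfl⟩ hRTle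
      exact this ⟨y.2, hyT⟩
    refine hPQ ((hbig P inf_le_left ?_).trans (hbig Q inf_le_right ?_).symm)
    · intro h
      exact hPQ (Sylow.ext (P.3 Q.2 (h ▸ inf_le_right)).symm)
    · intro h
      exact hPQ (Sylow.ext (Q.3 P.2 (h ▸ inf_le_left)))
  refine ⟨hTI, fun P R hRP hR0 g hg => ?_⟩
  refine Sylow.smul_eq_iff_mem_normalizer.mp ?_
  by_contra hne
  refine hR0 (le_bot_iff.mp (hTI _ _ hne ▸ le_inf ?_ hRP))
  intro r hr
  rw [Sylow.coe_subgroup_smul]
  refine ⟨g⁻¹ * r * g, hRP ?_, by simp [mul_assoc]⟩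
  have := (Subgroup.mem_normalizer_iff.mp (inv_mem hg) r).mp hr
  simpa using this

end Cfsg.Agent.S3870
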