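import Cfsg.Statements.S3872
import Cfsg.Agent.S4209
import Cfsg.Agent.Lib.Struct76.ExponentClosed

set_option autoImplicit false
open Cfsg

namespace Cfsg.Agent.S3872

/-- Say that a finite group is p-exponent closed when its elements of order dividing p form a subgroup. Let G be a finite p-group that is not p-exponent closed, but all of whose proper subgroups and proper quotients are. Then G is generated by two elements, has nilpotency class at least p, has exponent p², has cyclic center, and has order at least p^(p+1). -/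
theorem result {G : Type*} [Group G] [Finite G] {p : ℕ} [Fact p.Prime] (hG : IsPGroup p G)
    (hnc : ¬ (∃ H : Subgroup G, (H : Set G) = {g : G | g ^ p = 1})) (hsub : ∀ K : Subgroup G, K ≠ ⊤ → (∃ H : Subgroup ↥K, (H : Set ↥K) = {g : ↥K | g ^ p = 1}))
    (hquo : ∀ (N : Subgroup G) [N.Normal], N ≠ ⊥ → (∃ H : Subgroup (G ⧸ N), (H : Set (G ⧸ N)) = {g : (G ⧸ N) | g ^ p = 1})) :
    (∃ x y : G, Subgroup.closure ({x, y} : Set G) = ⊤) ∧ (⊤ : Subgroup G).lowerCentralSeries (p - 1) ≠ ⊥ ∧
      Monoid.exponent G = p ^ 2 ∧ IsCyclic ↥(Subgroup.center G) ∧ p ^ (p + 1) ≤ Nat.card G := by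
  exact CfsgLib.Struct76.exponentClosed_pGroup hG (fun h => Cfsg.Agent.S4209.result hG h) hnc hsub hquo

end Cfsg.Agent.S3872
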