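import Cfsg.Statements.S3873
import Cfsg.Agent.Lib.Struct76.MinimalNonClosed

set_option autoImplicit false
open Cfsg

namespace Cfsg.Agent.S3873

/-- Say that a finite group is p-exponent closed when its elements of order dividing p form a subgroup. Let G be a finite group that is not p-exponent closed, but all of whose proper subgroups and proper quotients are, and suppose G is neither simple nor a p-group. Then there is a prime q ≠ p such that G has order p · q^e, where e is the multiplicative order of q modulo p, and G has a normal elementary abelian subgroup of order q^e that is a minimal normal subgroup of G. -/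
theorem result {G : Type*} [Group G] [Finite G] {p : ℕ} [Fact p.Prime]
    (hnc : ¬ (∃ H : Subgroup G, (H : Set G) = {g : G | g ^ p = 1})) (hsub : ∀ K : Subgroup G, K ≠ ⊤ → (∃ H : Subgroup ↥K, (H : Set ↥K) = {g : ↥K | g ^ p = 1}))
    (hquo : ∀ (N : Subgroup G) [N.Normal], N ≠ ⊥ → (∃ H : Subgroup (G ⧸ N), (H : Set (G ⧸ N)) = {g : (G ⧸ N) | g ^ p = 1}))
    (hns : ¬ IsSimpleGroup G) (hnp : ¬ IsPGroup p G) :
    ∃ q : ℕ, q.Prime ∧ q ≠ p ∧ Nat.card G = p * q ^ orderOf (q : ZMod p) ∧
      ∃ A : Subgroup G, A.Normal ∧ Nat.card ↥A = q ^ orderOf (q : ZMod p) ∧ Cfsg.IsElementaryAbelian q A ∧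
        ∀ B : Subgroup G, B.Normal → B ≤ A → B = ⊥ ∨ B = A := by
  have hp := (Fact.out : p.Prime)
  -- in every proper subgroup the elements of order dividing `p` form a normal subgroup
  have hΩ : ∀ K : Subgroup G, K ≠ ⊤ → ∃ W : Subgroup G, W ≤ K ∧
      (∀ g, g ∈ W ↔ g ∈ K ∧ g ^ p = 1) ∧ K ≤ Subgroup.normalizer (W : Set G) := by
    intro K hK
    obtain ⟨H, hH⟩ := hsub K hK
    have hmem : ∀ g, g ∈ H.map K.subtype ↔ g ∈ K ∧ g ^ p = 1 := by
      intro g
      constructor
      · rintro ⟨y, hy, rfl⟩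
        refine ⟨y.2, ?_⟩
        have hy' : y ∈ (H : Set ↥K) := hy
        rw [hH] at hy'
        exact congrArg Subtype.val hy'
      · rintro ⟨hg, hgp⟩
        refine ⟨⟨g, hg⟩, ?_, rfl⟩
        change (⟨g, hg⟩ : ↥K) ∈ (H : Set ↥K)
        rw [hH]
        exact Subtype.ext hgp
    refine ⟨H.map K.subtype, Subgroup.map_subtype_le _, hmem, fun k hk => ?_⟩
    rw [Subgroup.mem_normalizer_iff]
    intro g
    rw [hmem, hmem, conj_pow, conj_eq_one_iff]
    refine and_congr_left fun _ => ⟨fun hg => mul_mem (mul_mem hk hg) (inv_mem hk), fun hg => ?_⟩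
    simpa [mul_assoc] using mul_mem (mul_mem (inv_mem hk) hg) hk
  -- `G` is generated by elements of order dividing `p`
  have hgen : Subgroup.closure {g : G | g ^ p = 1} = ⊤ := by
    by_contra hne
    obtain ⟨W, -, hW, -⟩ := hΩ _ hne
    refine hnc ⟨W, Set.ext fun g => ?_⟩
    rw [SetLike.mem_coe, hW]
    exact ⟨And.right, fun h => ⟨Subgroup.subset_closure h, h⟩⟩
  have hexp : ∀ (M : Subgroup G) [M.Normal], M ≠ ⊥ → ∀ g : G, g ^ p ∈ M := by
    intro M _ hM g
    obtain ⟨H, hH⟩ := hquo M hM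
    have h1 : (⊤ : Subgroup G) ≤ H.comap (QuotientGroup.mk' M) := by
      rw [← hgen, Subgroup.closure_le]
      intro x hx
      change QuotientGroup.mk' M x ∈ (H : Set (G ⧸ M))
      rw [hH]
      change QuotientGroup.mk' M x ^ p = 1
      rw [← map_pow, show x ^ p = 1 from hx, map_one]
    have h2 : QuotientGroup.mk' M g ∈ (H : Set (G ⧸ M)) := h1 (Subgroup.mem_top g)
    rw [hH] at h2
    rw [← QuotientGroup.eq_one_iff]
    exact h2
  -- a nontrivial normal `p`-subgroup would make `G` a `p`-group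
  have hcore : ∀ M : Subgroup G, M.Normal → IsPGroup p M → M = ⊥ := by
    intro M hM hMp
    by_contra hne
    haveI := hM
    refine hnp fun g => ?_
    obtain ⟨k, hk⟩ := hMp ⟨_, hexp M hne g⟩
    have hk' : (g ^ p) ^ p ^ k = 1 := congrArg Subtype.val hk
    exact ⟨k + 1, by rw [pow_succ', pow_mul]; exact hk'⟩
  haveI : Nontrivial G := by
    by_contra h
    haveI := not_nontrivial_iff_subsingleton.mp h
    exact hnp fun g => ⟨0, Subsingleton.elim _ _⟩
  obtain ⟨N, hN⟩ := CfsgLib.Structure.exists_isMinNormal (G := G)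
  haveI := hN.normal
  have hNtop : N ≠ ⊤ := fun h => hns ⟨fun K hK => h ▸ hN.2.2 K hK (h ▸ le_top)⟩
  have hpN : ¬ p ∣ Nat.card N := by
    intro hd
    obtain ⟨W, hWN, hW, -⟩ := hΩ N hNtop
    have hWn : W.Normal := ⟨fun w hw g => by
      rw [hW, conj_pow, conj_eq_one_iff] at *
      exact ⟨‹N.Normal›.conj_mem w hw.1 g, hw.2⟩⟩
    have hWp : IsPGroup p W := fun w => ⟨1, Subtype.ext (by simpa using ((hW w).mp w.2).2)⟩
    obtain ⟨z, hz⟩ := exists_prime_orderOf_dvd_card' p hd
    have hzW : (z : G) ∈ W := (hW _).mpr ⟨z.2, by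
      rw [← Subgroup.coe_pow, ← hz, pow_orderOf_eq_one, Subgroup.coe_one]⟩
    rw [hcore W hWn hWp, Subgroup.mem_bot] at hzW
    rw [show z = 1 from Subtype.ext hzW, orderOf_one] at hz
    exact hp.ne_one hz.symm
  obtain ⟨P⟩ := (inferInstance : Nonempty (Sylow p G))
  have hqp : IsPGroup p (G ⧸ N) := by
    intro y
    obtain ⟨g, rfl⟩ := QuotientGroup.mk_surjective y
    refine ⟨1, ?_⟩
    rw [pow_one, ← QuotientGroup.mk_pow, QuotientGroup.eq_one_iff]
    exact hexp N hN.ne_bot g
  obtain ⟨s, hs⟩ := IsPGroup.iff_card.mp hqp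
  have hPc : Nat.card (P : Subgroup G) = N.index := by
    rw [P.card_eq_multiplicity, ← N.index_mul_card, Nat.factorization_mul N.index_ne_zero_of_finite
      Nat.card_pos.ne', Subgroup.index_eq_card, hs]
    simp [hp.factorization_pow, Nat.factorization_eq_zero_of_not_dvd hpN]
  have hPN : (P : Subgroup G) ⊔ N = ⊤ := by
    apply Subgroup.eq_top_of_card_eq
    rw [CfsgLib.Struct76.card_sup_pGroup _ N P.2 hpN, hPc, Subgroup.index_mul_card]
  have hPexp : ∀ x ∈ (P : Subgroup G), x ^ p = 1 := by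
    intro x hx
    have h1 : x ^ p ∈ (P : Subgroup G) ⊓ N := ⟨pow_mem hx p, hexp N hN.ne_bot x⟩
    obtain ⟨k, hk⟩ := IsPGroup.iff_card.mp P.2
    rw [Subgroup.inf_eq_bot_of_coprime (hk ▸ (hp.coprime_iff_not_dvd.mpr hpN).pow_left k)] at h1
    exact h1
  -- a subgroup `R` of `P` is the set of all elements of order dividing `p` in `R N`
  have hR : ∀ R : Subgroup G, R ≤ (P : Subgroup G) → ∀ K : Subgroup G, K ≠ ⊤ → R ≤ K →
      K ≤ R ⊔ N → K ≤ Subgroup.normalizer (R : Set G) := by
    intro R hRP K hK hRK hKX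
    obtain ⟨W, hWK, hW, hWn⟩ := hΩ K hK
    have hRW : R ≤ W := fun r hr => (hW r).mpr ⟨hRK hr, hPexp r (hRP hr)⟩
    have hWp : IsPGroup p W := fun w => ⟨1, Subtype.ext (by simpa using ((hW w).mp w.2).2)⟩
    have h1 := CfsgLib.Struct76.card_sup_pGroup W N hWp hpN
    have h2 := CfsgLib.Struct76.card_sup_pGroup R N (P.2.to_le hRP) hpN
    have h3 : W ⊔ N = R ⊔ N := le_antisymm (sup_le (hWK.trans hKX) le_sup_right) (sup_le_sup_right hRW N)
    rw [h3, h2] at h1
    have : R = W := Subgroup.eq_of_le_of_card_ge hRW (Nat.eq_of_mul_eq_mul_right Nat.card_pos h1).ge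
    rwa [this]
  have hP1 : (P : Subgroup G) ≠ ⊥ := fun h => by
    rw [h, bot_sup_eq] at hPN
    exact hNtop hPN
  have hP : Nat.card (P : Subgroup G) = p := by
    haveI := (Subgroup.nontrivial_iff_ne_bot _).mpr hP1
    refine CfsgLib.Struct76.card_eq_prime_of_forall_normal P.2 fun K hK => ?_
    by_contra! hne
    set P₀ := K.map (P : Subgroup G).subtype with hP₀
    have hp₀ : IsPGroup p P₀ := (P.2.to_subgroup K).map _
    have hlt : Nat.card P₀ < Nat.card (P : Subgroup G) := by
      rw [Subgroup.card_map_of_injective (P : Subgroup G).subtype_injective]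
      exact lt_of_le_of_ne (Subgroup.card_le_card_group K) fun h => hne.2 (Subgroup.card_eq_iff_eq_top K |>.mp h)
    have hXtop : P₀ ⊔ N ≠ ⊤ := fun h => by
      have h1 := CfsgLib.Struct76.card_sup_pGroup P₀ N hp₀ hpN
      have h2 := CfsgLib.Struct76.card_sup_pGroup (P : Subgroup G) N P.2 hpN
      rw [h, Subgroup.card_top] at h1
      rw [hPN, Subgroup.card_top, h1] at h2
      exact hlt.ne (Nat.eq_of_mul_eq_mul_right Nat.card_pos h2)
    have hN₀ := le_sup_right.trans (hR P₀ (Subgroup.map_subtype_le _) _ hXtop le_sup_left le_rfl)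
    have hP₀n : P₀.Normal := by
      rw [← Subgroup.normalizer_eq_top_iff, eq_top_iff, ← hPN, sup_le_iff]
      refine ⟨?_, hN₀⟩
      have := Subgroup.le_normalizer_map (H := K) (P : Subgroup G).subtype
      rwa [Subgroup.normalizer_eq_top_iff.mpr hK, ← MonoidHom.range_eq_map, Subgroup.range_subtype] at this
    have := hcore P₀ hP₀n hp₀
    rw [hP₀, Subgroup.map_eq_bot_iff_of_injective _ (P : Subgroup G).subtype_injective] at this
    exact hne.1 this
  refine CfsgLib.Struct76.structure_of_prime_sylow N hN hpN (P : Subgroup G) hP hPN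
    (fun h => hP1 (hcore _ h P.2)) ?_
    (fun H hH hPH => hR _ le_rfl H hH hPH (hPN.symm ▸ le_top))
  intro hc
  refine hnc ⟨⟨⟨⟨{g : G | g ^ p = 1}, ?_⟩, one_pow p⟩, ?_⟩, rfl⟩
  · intro a b ha hb
    change (a * b) ^ p = 1
    rw [(show Commute a b from hc.is_comm.comm a b).mul_pow, show a ^ p = 1 from ha,
      show b ^ p = 1 from hb, one_mul]
  · intro a (ha : a ^ p = 1)
    change a⁻¹ ^ p = 1
    rw [inv_pow, ha, inv_one]

end Cfsg.Agent.S3873
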