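import Cfsg.Statements.S3875
import Cfsg.Agent.S3868
import Cfsg.Agent.Lib.Struct76.SmallSimple
import Cfsg.Agent.Lib.PSL2.Basic

set_option autoImplicit false
open Cfsg

namespace Cfsg.Agent.S3875

variable {p : ℕ} [hp : Fact p.Prime]

theorem simple_case (hp2 : p ≠ 2) {H : Type} [Group H] [Finite H] [IsSimpleGroup H]
    (hnc : ¬ Cfsg.IsPClosed p H) : p * (p ^ 2 - 1) / 2 ≤ Nat.card H := by
  classical
  haveI := Fintype.ofFinite H
  obtain ⟨P, hP⟩ : ∃ P : Sylow p H, ¬ (P : Subgroup H).Normal := by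
    unfold Cfsg.IsPClosed at hnc
    push Not at hnc
    exact hnc
  have hP1 : (P : Subgroup H) ≠ ⊥ := fun h => hP (by rw [h]; infer_instance)
  have hperf : commutator H = ⊤ := by
    rcases (inferInstance : (commutator H).Normal).eq_bot_or_eq_top with h | h
    · exfalso
      refine hP ⟨fun a ha g => ?_⟩
      have hc := (commutator_eq_bot_iff_center_eq_top H).1 h
      have hg : g ∈ Subgroup.center H := hc ▸ Subgroup.mem_top g
      rw [← Subgroup.mem_center_iff.1 hg a, mul_inv_cancel_right]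
      exact ha
    · exact h
  obtain ⟨k, hk⟩ := P.2.exists_card_eq
  have hk1 : k ≠ 0 := by
    rintro rfl
    exact hP1 (Subgroup.card_eq_one.1 (hk.trans (pow_zero p)))
  by_cases hsq : p * p ∣ Nat.card H
  · -- two Sylow subgroups already give `p ^ 3` elements
    obtain ⟨Q, hQ⟩ : ∃ Q : Sylow p H, Q ≠ P := by
      by_contra! h
      haveI : Subsingleton (Sylow p H) := ⟨fun a b => (h a).trans (h b).symm⟩
      exact hP (Sylow.normal_of_subsingleton P)
    have hk2 : 2 ≤ k := by
      have h1 : p ^ 2 ∣ Nat.card (P : Subgroup H) :=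
        P.pow_dvd_card_of_pow_dvd_card (by rwa [pow_two])
      rw [hk] at h1
      exact (Nat.pow_dvd_pow_iff_le_right hp.out.one_lt).1 h1
    have hprod : Nat.card (P : Subgroup H) * p ≤ Nat.card H := by
      have h1 : p ≤ (P : Subgroup H).index := by
        have h2 : (P : Subgroup H).relIndex (Q : Subgroup H) ≤ (P : Subgroup H).index := by
          rw [← Subgroup.relIndex_top_right]
          exact Subgroup.relIndex_le_of_le_right le_top
            (by rw [Subgroup.relIndex_top_right]; exact Subgroup.index_ne_zero_of_finite)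
        refine le_trans ?_ h2
        have h3 : (P : Subgroup H).relIndex (Q : Subgroup H) ∣ Nat.card (Q : Subgroup H) :=
          Subgroup.relIndex_dvd_card _ _
        obtain ⟨l, hl⟩ := Q.2.exists_card_eq
        rw [hl] at h3
        obtain ⟨i, -, hi⟩ := (Nat.dvd_prime_pow hp.out).1 h3
        rw [hi]
        refine Nat.le_self_pow ?_ p
        rintro rfl
        exact hQ (Sylow.ext (Q.3 P.2 (Subgroup.relIndex_eq_one.1 (hi.trans (pow_zero p)))).symm)
      calc Nat.card (P : Subgroup H) * p ≤ Nat.card (P : Subgroup H) * (P : Subgroup H).index :=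
            Nat.mul_le_mul_left _ h1
        _ = Nat.card H := Subgroup.card_mul_index _
    refine le_trans ?_ hprod
    rw [hk]
    calc p * (p ^ 2 - 1) / 2 ≤ p * (p ^ 2 - 1) := Nat.div_le_self _ _
      _ ≤ p * p ^ 2 := Nat.mul_le_mul_left _ (Nat.sub_le _ _)
      _ = p ^ 2 * p := mul_comm _ _
      _ ≤ p ^ k * p := Nat.mul_le_mul_right _ (Nat.pow_le_pow_right hp.out.pos hk2)
  · have hk' : k = 1 := by
      by_contra h
      refine hsq ?_
      calc p * p = p ^ 2 := (pow_two p).symm
        _ ∣ p ^ k := pow_dvd_pow p (by omega)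
        _ ∣ Nat.card H := hk ▸ Subgroup.card_subgroup_dvd_card _
    rw [hk', pow_one] at hk
    haveI : Nontrivial (P : Subgroup H) := (Subgroup.nontrivial_iff_ne_bot _).2 hP1
    obtain ⟨⟨x, hxP⟩, hx1⟩ := exists_ne (1 : (P : Subgroup H))
    have hx : x ≠ 1 := fun h => hx1 (Subtype.ext h)
    have hox : orderOf x = p := by
      have h1 := orderOf_dvd_natCard (⟨x, hxP⟩ : (P : Subgroup H))
      rw [Subgroup.orderOf_mk, hk] at h1
      rcases (Nat.dvd_prime hp.out).1 h1 with h | h
      · exact absurd (orderOf_eq_one_iff.1 h) hx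
      · exact h
    have hz : Subgroup.zpowers x = (P : Subgroup H) :=
      Subgroup.eq_of_le_of_card_ge (Subgroup.zpowers_le.2 hxP) (by
        rw [hk, Nat.card_zpowers, hox])
    exact CfsgLib.SmallSimple.card_ge hperf hox hsq (by rw [hz]; exact hP)

theorem lower (hp2 : p ≠ 2) {m : ℕ}
    (hleast : ∀ k : ℕ, IsPrimePow k → k % p = 1 → m ≤ k) :
    ∀ (n : ℕ) (H : Type) [Group H] [Finite H], Nat.card H = n → ¬ Cfsg.IsPClosed p H →
      min (p * m) (p * (p ^ 2 - 1) / 2) ≤ n := by
  intro n
  induction n using Nat.strong_induction_on with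
  | _ n ih =>
  intro H _ _ hn hnc
  by_cases hsub : ∀ K : Subgroup H, K ≠ ⊤ → Cfsg.IsPClosed p ↥K
  swap
  · push Not at hsub
    obtain ⟨K, hK, hKnc⟩ := hsub
    have hlt : Nat.card K < n := hn ▸ lt_of_le_of_ne (Subgroup.card_le_card_group K)
      fun h => hK (Subgroup.eq_top_of_card_eq K h)
    exact (ih _ hlt K rfl hKnc).trans hlt.le
  by_cases hquo : ∀ (N : Subgroup H) [N.Normal], N ≠ ⊥ → Cfsg.IsPClosed p (H ⧸ N)
  swap
  · push Not at hquo
    obtain ⟨N, hNn, hN, hNnc⟩ := hquo
    have hlt : Nat.card (H ⧸ N) < n := by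
      rw [← hn, Subgroup.card_eq_card_quotient_mul_card_subgroup N]
      exact lt_mul_of_one_lt_right Nat.card_pos
        (lt_of_le_of_ne Nat.card_pos fun h => hN (Subgroup.card_eq_one.1 h.symm))
    exact (ih _ hlt (H ⧸ N) rfl hNnc).trans hlt.le
  by_cases hs : IsSimpleGroup H
  · exact (min_le_right _ _).trans (hn ▸ simple_case hp2 hnc)
  obtain ⟨q, hq, hqp, hcard, -⟩ := Cfsg.Agent.S3868.result hnc hsub hquo hs
  refine (min_le_left _ _).trans ?_
  rw [← hn, hcard]
  refine Nat.mul_le_mul_left _ (hleast _ ?_ ?_)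
  · refine hq.isPrimePow.pow ?_
    have hu : IsUnit (q : ZMod p) := (ZMod.unitOfCoprime q
      ((Nat.coprime_primes hq hp.out).2 hqp)).isUnit
    rw [← hu.unit_spec, orderOf_units]
    exact (orderOf_pos _).ne'
  · have h := pow_orderOf_eq_one (q : ZMod p)
    have h2 : ((q ^ orderOf (q : ZMod p) : ℕ) : ZMod p) = ((1 : ℕ) : ZMod p) := by
      push_cast; exact h
    rw [ZMod.natCast_eq_natCast_iff'] at h2
    rw [h2]
    exact Nat.mod_eq_of_lt hp.out.one_lt

theorem not_closed_of_noncommuting {G : Type*} [Group G] [Finite G]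
    (hp2 : ¬ p * p ∣ Nat.card G) {a b : G} (ha : a ^ p = 1) (hb : b ^ p = 1) (hab : a * b ≠ b * a) :
    ¬ Cfsg.IsPClosed p G := by
  intro h
  obtain ⟨P⟩ := (inferInstance : Nonempty (Sylow p G))
  haveI := h P
  have hmem : ∀ z : G, z ^ p = 1 → z ∈ (P : Subgroup G) := by
    intro z hz
    have hzp : IsPGroup p (Subgroup.zpowers z) := by
      rintro ⟨w, hw⟩
      obtain ⟨i, rfl⟩ := Subgroup.mem_zpowers_iff.1 hw
      refine ⟨1, Subtype.ext ?_⟩
      show (z ^ i) ^ p ^ 1 = 1
      rw [pow_one, ← zpow_natCast, ← zpow_mul, mul_comm, zpow_mul, zpow_natCast, hz, one_zpow]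
    obtain ⟨Q, hQ⟩ := hzp.exists_le_sylow
    haveI : Subsingleton (Sylow p G) := by
      haveI := Sylow.unique_of_normal P (h P)
      infer_instance
    rw [Subsingleton.elim P Q]
    exact hQ (Subgroup.mem_zpowers z)
  obtain ⟨k, hk⟩ := P.2.exists_card_eq
  have hk2 : k ≤ 1 := by
    by_contra hk2
    refine hp2 ?_
    calc p * p = p ^ 2 := (pow_two p).symm
      _ ∣ p ^ k := pow_dvd_pow p (by omega)
      _ ∣ Nat.card G := hk ▸ Subgroup.card_subgroup_dvd_card _
  have hcyc : IsCyclic (P : Subgroup G) := by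
    rcases Nat.le_one_iff_eq_zero_or_eq_one.1 hk2 with rfl | rfl
    · haveI : Subsingleton (P : Subgroup G) := (Nat.card_eq_one_iff_unique.1 (hk.trans (pow_zero p))).1
      infer_instance
    · exact isCyclic_of_prime_card (hk.trans (pow_one p))
  letI := hcyc.commGroup
  exact hab (congrArg Subtype.val (mul_comm (⟨a, hmem a ha⟩ : (P : Subgroup G)) ⟨b, hmem b hb⟩))

/-- `PSL₂(p)`. -/
theorem exists_psl (hp2 : p ≠ 2) : ∃ (H : Type) (_ : Group H) (_ : Finite H),
    Nat.card H = p * (p ^ 2 - 1) / 2 ∧ ¬ Cfsg.IsPClosed p H := by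
  classical
  have hp3 : 3 ≤ p := by have := hp.out.two_le; omega
  let K := Matrix.ProjectiveSpecialLinearGroup (Fin 2) (ZMod p)
  have hcard : 2 * Nat.card K = p * (p ^ 2 - 1) := by
    have h := CfsgLib.PSL2.card_psl (F := ZMod p)
    rw [ZMod.card] at h
    have hev : Nat.gcd 2 (p - 1) = 2 := by
      have := hp.out.odd_of_ne_two hp2
      obtain ⟨r, hr⟩ := this
      exact Nat.gcd_eq_left ⟨r, by omega⟩
    rw [hev] at h
    rw [h]
    have h2 : p ^ 2 - 1 = (p + 1) * (p - 1) := by
      have := Nat.sq_sub_sq p 1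
      simpa using this
    rw [h2]; ring
  refine ⟨K, inferInstance, inferInstance, by omega, ?_⟩
  let U : Matrix.SpecialLinearGroup (Fin 2) (ZMod p) := ⟨!![1, 1; 0, 1], by simp [Matrix.det_fin_two]⟩
  let L : Matrix.SpecialLinearGroup (Fin 2) (ZMod p) := ⟨!![1, 0; 1, 1], by simp [Matrix.det_fin_two]⟩
  have hUpow : ∀ n : ℕ, ((U ^ n : Matrix.SpecialLinearGroup (Fin 2) (ZMod p)) : Matrix (Fin 2) (Fin 2) (ZMod p)) = !![1, (n : ZMod p); 0, 1] := by
    intro n
    induction n with
    | zero => simp [Matrix.one_fin_two]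
    | succ n ih =>
      rw [pow_succ, Matrix.SpecialLinearGroup.coe_mul, ih]
      simp [U, Matrix.mul_fin_two, add_comm]
  have hLpow : ∀ n : ℕ, ((L ^ n : Matrix.SpecialLinearGroup (Fin 2) (ZMod p)) : Matrix (Fin 2) (Fin 2) (ZMod p)) = !![1, 0; (n : ZMod p), 1] := by
    intro n
    induction n with
    | zero => simp [Matrix.one_fin_two]
    | succ n ih =>
      rw [pow_succ, Matrix.SpecialLinearGroup.coe_mul, ih]
      simp [L, Matrix.mul_fin_two, add_comm]
  have hsq : ¬ p * p ∣ Nat.card K := by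
    intro hd
    have hd' : p * p ∣ p * (p ^ 2 - 1) := hcard ▸ dvd_mul_of_dvd_right hd 2
    have h1 : p ∣ p ^ 2 - 1 := Nat.dvd_of_mul_dvd_mul_left hp.out.pos hd'
    have h2 : p ∣ p ^ 2 := dvd_pow_self p two_ne_zero
    have h3 := Nat.dvd_sub h2 h1
    rw [Nat.sub_sub_self (Nat.one_le_pow _ _ hp.out.pos)] at h3
    exact hp.out.not_dvd_one h3
  refine not_closed_of_noncommuting hsq (a := QuotientGroup.mk U) (b := QuotientGroup.mk L) ?_ ?_ ?_
  · rw [← QuotientGroup.mk_pow, ← QuotientGroup.mk_one]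
    congr 1
    exact Subtype.ext (by rw [hUpow]; simp [Matrix.one_fin_two])
  · rw [← QuotientGroup.mk_pow, ← QuotientGroup.mk_one]
    congr 1
    exact Subtype.ext (by rw [hLpow]; simp [Matrix.one_fin_two])
  · intro h
    rw [← QuotientGroup.mk_mul, ← QuotientGroup.mk_mul, QuotientGroup.eq,
      Matrix.SpecialLinearGroup.mem_center_iff] at h
    obtain ⟨r, -, hr⟩ := h
    have e : ((L * U : Matrix.SpecialLinearGroup (Fin 2) (ZMod p)) : Matrix (Fin 2) (Fin 2) (ZMod p)) =
        ((U * L : Matrix.SpecialLinearGroup (Fin 2) (ZMod p)) : Matrix (Fin 2) (Fin 2) (ZMod p)) * Matrix.scalar (Fin 2) r := by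
      rw [hr, ← Matrix.SpecialLinearGroup.coe_mul, mul_inv_cancel_left]
    have eU : (U : Matrix (Fin 2) (Fin 2) (ZMod p)) = !![1, 1; 0, 1] := rfl
    have eL : (L : Matrix (Fin 2) (Fin 2) (ZMod p)) = !![1, 0; 1, 1] := rfl
    rw [Matrix.SpecialLinearGroup.coe_mul, Matrix.SpecialLinearGroup.coe_mul, eU, eL] at e
    simp only [Matrix.mul_fin_two, Matrix.scalar_apply] at e
    have e1 := congrFun (congrFun e 0) 1
    have e2 := congrFun (congrFun e 0) 0
    simp [Matrix.mul_diagonal] at e1 e2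
    rw [← e1] at e2
    have h10 : (1 : ZMod p) = 0 := by linear_combination -e2
    exact one_ne_zero h10

/-- The Frobenius group of order `p * m`. -/
theorem exists_affine {m : ℕ} (hm : IsPrimePow m) (hm1 : m % p = 1) :
    ∃ (H : Type) (_ : Group H) (_ : Finite H), Nat.card H = p * m ∧ ¬ Cfsg.IsPClosed p H := by
  classical
  obtain ⟨q, a, hq, ha, rfl⟩ := (isPrimePow_nat_iff _).1 hm
  haveI : Fact q.Prime := ⟨hq⟩
  let F := GaloisField q a
  haveI : Finite F := inferInstance
  haveI := Fintype.ofFinite F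
  have hF : Nat.card F = q ^ a := GaloisField.card q a ha.ne'
  have hdvd : p ∣ Nat.card Fˣ := by
    rw [Nat.card_units, hF]
    exact (Nat.modEq_iff_dvd' (Nat.one_le_pow _ _ hq.pos)).1 (by
      show 1 % p = q ^ a % p
      rw [hm1, Nat.mod_eq_of_lt hp.out.one_lt])
  obtain ⟨u, hu⟩ := exists_prime_orderOf_dvd_card' (G := Fˣ) p hdvd
  let φ : Subgroup.zpowers u →* MulAut (Multiplicative F) :=
    { toFun := fun v => AddEquiv.toMultiplicative
        { toFun := fun z => ((v : Fˣ) : F) * z
          invFun := fun z => (((v : Fˣ)⁻¹ : Fˣ) : F) * z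
          left_inv := fun z => by simp [← mul_assoc]
          right_inv := fun z => by simp [← mul_assoc]
          map_add' := fun y z => mul_add _ y z }
      map_one' := by
        ext z
        show ((1 : Fˣ) : F) * Multiplicative.toAdd z = Multiplicative.toAdd z
        simp
      map_mul' := fun v w => by
        ext z
        show (((v : Fˣ) * (w : Fˣ) : Fˣ) : F) * Multiplicative.toAdd z =
          ((v : Fˣ) : F) * (((w : Fˣ) : F) * Multiplicative.toAdd z)
        simp [mul_assoc] }
  let H := Multiplicative F ⋊[φ] Subgroup.zpowers u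
  haveI : Finite H := Finite.of_equiv _ SemidirectProduct.equivProd.symm
  have hcard : Nat.card H = p * q ^ a := by
    rw [Nat.card_congr SemidirectProduct.equivProd, Nat.card_prod, Nat.card_zpowers, hu,
      show Nat.card (Multiplicative F) = Nat.card F from rfl, hF, mul_comm]
  refine ⟨H, inferInstance, inferInstance, hcard, ?_⟩
  have hsq : ¬ p * p ∣ Nat.card H := by
    rw [hcard]
    intro hd
    have h1 := Nat.dvd_of_mul_dvd_mul_left hp.out.pos hd
    rw [Nat.dvd_iff_mod_eq_zero, hm1] at h1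
    exact one_ne_zero h1
  let t : H := SemidirectProduct.inl (Multiplicative.ofAdd (1 : F))
  let v : H := SemidirectProduct.inr ⟨u, Subgroup.mem_zpowers u⟩
  have hvp : v ^ p = 1 := by
    rw [← map_pow, show (⟨u, Subgroup.mem_zpowers u⟩ : Subgroup.zpowers u) ^ p = 1 from
      Subtype.ext (by rw [← hu]; exact pow_orderOf_eq_one u), map_one]
  refine not_closed_of_noncommuting hsq (a := v) (b := t * v * t⁻¹) hvp
    (by rw [conj_pow, hvp, mul_one, mul_inv_cancel]) ?_
  intro h
  have hu1 : (u : F) ≠ 1 := fun h1 => hp.out.ne_one (by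
    rw [← hu, show u = 1 from Units.ext h1, orderOf_one])
  have hl := congrArg SemidirectProduct.left h
  have hl' := congrArg Multiplicative.toAdd hl
  simp [t, v, φ, H] at hl'
  apply hu1
  have h0 : ((u : F) - 1) * ((u : F) - 1) = 0 := by linear_combination -hl'
  rcases mul_self_eq_zero.1 h0 |> sub_eq_zero.1 with h2
  exact h2

end Cfsg.Agent.S3875

namespace Cfsg.Agent.S3875

/-- Let p be an odd prime and let m be the least prime power congruent to 1 modulo p. Then the least order of a finite group whose Sylow p-subgroups are not normal is the smaller of p · m and p(p² − 1)/2: every finite group whose Sylow p-subgroups are not normal has at least that order, and some group of exactly that order has non-normal Sylow p-subgroups. -/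
theorem result (p : ℕ) [Fact p.Prime] (hp : p ≠ 2) (m : ℕ) (hm : IsPrimePow m) (hm1 : m % p = 1)
    (hleast : ∀ k : ℕ, IsPrimePow k → k % p = 1 → m ≤ k) :
    (∀ (H : Type) [Group H] [Finite H], ¬ Cfsg.IsPClosed p H → min (p * m) (p * (p ^ 2 - 1) / 2) ≤ Nat.card H) ∧
      ∃ (H : Type) (_ : Group H) (_ : Finite H), Nat.card H = min (p * m) (p * (p ^ 2 - 1) / 2) ∧ ¬ Cfsg.IsPClosed p H := by
  refine ⟨fun H _ _ hH => lower hp hleast _ H rfl hH, ?_⟩
  rcases le_total (p * m) (p * (p ^ 2 - 1) / 2) with h | h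
  · rw [min_eq_left h]
    exact exists_affine hm hm1
  · rw [min_eq_right h]
    exact exists_psl hp

end Cfsg.Agent.S3875
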