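import Cfsg.Statements.S3878
import Cfsg.Agent.Lib.Struct76.HallCounterexamples

set_option autoImplicit false
open Cfsg

namespace Cfsg.Agent.S3878

/-- For a set of primes π the following are equivalent: every finite group has a Hall π-subgroup; in every finite group the maximal π-subgroups are pairwise conjugate; π contains at most one prime or contains every prime. -/
theorem result (π : Set ℕ) :
    ((∀ (G : Type) [Group G] [Finite G], Cfsg.IsEPiGroup π G) ↔
      ((∀ p q : ℕ, p.Prime → q.Prime → p ∈ π → q ∈ π → p = q) ∨ ∀ p : ℕ, p.Prime → p ∈ π)) ∧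
    ((∀ (G : Type) [Group G] [Finite G], Cfsg.IsDPiGroup π G) ↔
      ((∀ p q : ℕ, p.Prime → q.Prime → p ∈ π → q ∈ π → p = q) ∨ ∀ p : ℕ, p.Prime → p ∈ π)) := by
  -- a group in which `π`-Sylow theory holds has a Hall subgroup
  have hDE : ∀ (G : Type) [Group G] [Finite G], Cfsg.IsDPiGroup π G → Cfsg.IsEPiGroup π G := by
    intro G _ _ hD
    obtain ⟨H, -, hH⟩ := Set.Finite.exists_le_maximal
      (Set.toFinite {K : Subgroup G | Cfsg.IsPiSubgroup π K}) (a := ⊥)
      (fun p hp hd => absurd (Nat.dvd_one.mp (Subgroup.card_bot (G := G) ▸ hd)) hp.ne_one)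
    refine ⟨H, hH.prop, fun p hp hpπ hd => ?_⟩
    haveI : Fact p.Prime := ⟨hp⟩
    obtain ⟨P⟩ := (inferInstance : Nonempty (Sylow p G))
    have hP : Cfsg.IsPiSubgroup π (P : Subgroup G) := by
      intro r hr hrd
      obtain ⟨k, hk⟩ := IsPGroup.iff_card.mp P.2
      rw [(Nat.prime_dvd_prime_iff_eq hr hp).mp (hr.dvd_of_dvd_pow (hk ▸ hrd))]
      exact hpπ
    obtain ⟨K, hPK, hK⟩ := Set.Finite.exists_le_maximal
      (Set.toFinite {K : Subgroup G | Cfsg.IsPiSubgroup π K}) hP
    obtain ⟨g, rfl⟩ := hD H K hH hK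
    have hdvd := Subgroup.card_dvd_of_le hPK
    rw [Subgroup.card_map_of_injective (MulAut.conj g).injective] at hdvd
    apply P.not_dvd_index
    have h1 : (H.map (MulAut.conj g).toMonoidHom).index ∣ (P : Subgroup G).index :=
      Subgroup.index_dvd_of_le hPK
    rw [show (H.map (MulAut.conj g).toMonoidHom).index = H.index from
      Subgroup.index_map_equiv H (MulAut.conj g)] at h1
    exact hd.trans h1
  -- the positive direction
  have hpos : ((∀ p q : ℕ, p.Prime → q.Prime → p ∈ π → q ∈ π → p = q) ∨ ∀ p : ℕ, p.Prime → p ∈ π) →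
      ∀ (G : Type) [Group G] [Finite G], Cfsg.IsDPiGroup π G := by
    intro h G _ _ H K hH hK
    rcases h with h | h
    · by_cases hex : ∃ p : ℕ, p.Prime ∧ p ∈ π
      · obtain ⟨p, hp, hpπ⟩ := hex
        haveI : Fact p.Prime := ⟨hp⟩
        have hsyl : ∀ H : Subgroup G, Maximal (Cfsg.IsPiSubgroup π) H → ∃ P : Sylow p G, (P : Subgroup G) = H := by
          intro H hH
          have hHp : IsPGroup p H := IsPGroup.of_card (n := (Nat.card H).primeFactorsList.length) (by
            exact Nat.eq_prime_pow_of_unique_prime_dvd Nat.card_pos.ne'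
              fun {r} hr hrd => h r p hr hp (hH.prop r hr hrd) hpπ)
          obtain ⟨P, hP⟩ := hHp.exists_le_sylow
          refine ⟨P, le_antisymm (hH.le_of_ge (fun r hr hrd => ?_) hP) hP⟩
          obtain ⟨k, hk⟩ := IsPGroup.iff_card.mp P.2
          rw [(Nat.prime_dvd_prime_iff_eq hr hp).mp (hr.dvd_of_dvd_pow (hk ▸ hrd))]
          exact hpπ
        obtain ⟨P, rfl⟩ := hsyl H hH
        obtain ⟨Q, rfl⟩ := hsyl K hK
        obtain ⟨g, rfl⟩ := MulAction.exists_smul_eq G P Q
        exact ⟨g, rfl⟩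
      · have hbot : ∀ H : Subgroup G, Maximal (Cfsg.IsPiSubgroup π) H → H = ⊥ := by
          intro H hH
          by_contra hne
          obtain ⟨p, hp, hpd⟩ := Nat.exists_prime_and_dvd
            (fun h' => hne (Subgroup.card_eq_one.mp h') : Nat.card H ≠ 1)
          exact hex ⟨p, hp, hH.prop p hp hpd⟩
        exact ⟨1, by rw [hbot H hH, hbot K hK, Subgroup.map_bot]⟩
    · have htop : ∀ H : Subgroup G, Maximal (Cfsg.IsPiSubgroup π) H → H = ⊤ := fun H hH =>
        top_unique (hH.le_of_ge (fun r hr _ => h r hr) le_top)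
      exact ⟨1, by
        rw [htop H hH, htop K hK, Subgroup.map_top_of_surjective _ (MulAut.conj (1 : G)).surjective]⟩
  -- the counterexamples
  have hneg : (∀ (G : Type) [Group G] [Finite G], Cfsg.IsEPiGroup π G) →
      ((∀ p q : ℕ, p.Prime → q.Prime → p ∈ π → q ∈ π → p = q) ∨ ∀ p : ℕ, p.Prime → p ∈ π) := by
    intro hE
    classical
    by_contra! hne
    obtain ⟨⟨p₀, q₀, hp₀, hq₀, hp₀π, hq₀π, hpq₀⟩, hmiss⟩ := hne
    have h1 : ∃ p, p.Prime ∧ p ∈ π := ⟨p₀, hp₀, hp₀π⟩
    set p := Nat.find h1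
    obtain ⟨hp, hpπ⟩ := Nat.find_spec h1
    have h2 : ∃ q, q.Prime ∧ q ∈ π ∧ q ≠ p := by
      by_cases h : p₀ = p
      · exact ⟨q₀, hq₀, hq₀π, fun e => hpq₀ (h.trans e.symm)⟩
      · exact ⟨p₀, hp₀, hp₀π, h⟩
    set q := Nat.find h2
    obtain ⟨hq, hqπ, hqp⟩ := Nat.find_spec h2
    have hpq : p < q := lt_of_le_of_ne (Nat.find_le ⟨hq, hqπ⟩) (Ne.symm hqp)
    haveI : Fact p.Prime := ⟨hp⟩
    haveI : Fact q.Prime := ⟨hq⟩
    have honly : ∀ r ∈ π, r.Prime → r ≤ q → r = p ∨ r = q := by
      intro r hrπ hr hrq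
      by_cases hrp : r = p
      · exact Or.inl hrp
      · exact Or.inr (le_antisymm hrq (Nat.find_le ⟨hr, hrπ, hrp⟩))
    by_cases hcons : p + 1 < q
    · exact CfsgLib.Struct76.no_hall_sym_prime π hpπ hqπ hcons honly (hE _)
    · -- so `p = 2`, `q = 3`
      have hq1 : q = p + 1 := by omega
      have hp2 : p = 2 := by
        rcases hp.eq_two_or_odd with h | h
        · exact h
        · rcases hq.eq_two_or_odd with h' | h'
          · have := hp.two_le; omega
          · omega
      set r := Nat.find hmiss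
      have hr : r.Prime := (Nat.find_spec hmiss).1
      have hrπ : r ∉ π := (Nat.find_spec hmiss).2
      have hr5 : 5 ≤ r := by
        by_contra hlt
        have h2' := hr.two_le
        have h4 : r ≠ 4 := fun h => by rw [h] at hr; norm_num at hr
        have : r = 2 ∨ r = 3 := by omega
        rcases this with h | h
        · exact hrπ (by rw [h, ← hp2]; exact hpπ)
        · exact hrπ (by rw [h, show 3 = q by omega]; exact hqπ)
      exact CfsgLib.Struct76.no_hall_sym_succ π hr hr5 hrπ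
        (fun s hs hsr => by_contra fun hsπ => Nat.find_min hmiss hsr ⟨hs, hsπ⟩) (hE _)
  exact ⟨⟨hneg, fun h G _ _ => hDE G (hpos h G)⟩,
    ⟨fun h => hneg fun G _ _ => hDE G (h G), fun h G _ _ => hpos h G⟩⟩

end Cfsg.Agent.S3878
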