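import Cfsg.Statements.S3880
import Cfsg.Agent.Lib.Metacyclic76.Subgroups

set_option autoImplicit false
open Cfsg

namespace Cfsg.Agent.S3880

/-- Let p be an odd prime and G a finite metacyclic p-group (G has a cyclic normal subgroup with cyclic quotient). Then a subgroup L of G is abelian if and only if |L| ≤ |G : G'|, and L is a maximal abelian subgroup of G if and only if |L| = |G : G'|. -/
theorem result {G : Type*} [Group G] [Finite G] {p : ℕ} [Fact p.Prime] (hp : p ≠ 2) (hG : IsPGroup p G) (hmc : Cfsg.IsMetacyclic G) (L : Subgroup G) :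
    (IsMulCommutative ↥L ↔ Nat.card ↥L ≤ (commutator G).index) ∧
      (Maximal (fun K : Subgroup G => IsMulCommutative ↥K) L ↔ Nat.card ↥L = (commutator G).index) := by
  obtain ⟨D⟩ := CfsgLib.Metacyclic76.exists_data hG hmc
  have h1 : ∀ K : Subgroup G, IsMulCommutative ↥K ↔ Nat.card ↥K ≤ (commutator G).index := fun K => by
    rw [D.isMulCommutative_iff_card hp K, ← D.index_commutator_mul,
      Nat.mul_le_mul_right_iff (pow_pos (Fact.out : p.Prime).pos _)]
  refine ⟨h1 L, fun h => ?_, fun h => ⟨(h1 L).mpr h.le, fun K hK hLK => ?_⟩⟩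
  · by_contra hne
    have hlt := lt_of_le_of_ne ((h1 L).mp h.1) hne
    obtain ⟨s, hs⟩ := IsPGroup.iff_card.mp (hG.to_subgroup L)
    obtain ⟨t, ht⟩ := IsPGroup.iff_card.mp hG
    obtain ⟨w, hw⟩ : ∃ w, (commutator G).index = p ^ w := by
      obtain ⟨w, -, hw⟩ := (Nat.dvd_prime_pow (Fact.out : p.Prime)).mp
        (ht ▸ (commutator G).index_dvd_card)
      exact ⟨w, hw⟩
    have hsw : s < w := by
      rw [hs, hw] at hlt
      exact (Nat.pow_lt_pow_iff_right (Fact.out : p.Prime).one_lt).mp hlt
    obtain ⟨K, hK, hLK⟩ := Sylow.exists_subgroup_card_pow_succ (p := p) (n := s) (by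
      refine (Nat.pow_dvd_pow p hsw).trans ?_
      rw [← hw]; exact (commutator G).index_dvd_card) hs
    have hKc : IsMulCommutative ↥K := (h1 K).mpr (by
      rw [hK, hw]; exact Nat.pow_le_pow_right (Fact.out : p.Prime).pos hsw)
    have : Nat.card K ≤ Nat.card L := Subgroup.card_le_of_le (h.2 hKc hLK)
    rw [hK, hs] at this
    exact absurd ((Nat.pow_le_pow_iff_right (Fact.out : p.Prime).one_lt).mp this) (by omega)
  · exact (Subgroup.eq_of_le_of_card_ge hLK (((h1 K).mp hK).trans h.ge)).ge

end Cfsg.Agent.S3880
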