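import Cfsg.Statements.S3881
import Cfsg.Agent.Lib.Metacyclic76.Powers

set_option autoImplicit false
open Cfsg

namespace Cfsg.Agent.S3881

/-- Let p be an odd prime and G a finite metacyclic p-group (G has a cyclic normal subgroup with cyclic quotient). Suppose G is non-abelian with |G'| = p^n. Then for 1 ≤ i ≤ n the number of elements of G whose conjugacy class has exactly p^i elements is |Z(G)| · (p^(2i) − p^(2i−2)). -/
theorem result {G : Type*} [Group G] [Finite G] {p : ℕ} [Fact p.Prime] (hp : p ≠ 2) (hG : IsPGroup p G) (hmc : Cfsg.IsMetacyclic G) (n : ℕ) (hn : n ≠ 0) (hGn : Nat.card ↥(commutator G) = p ^ n) (i : ℕ) (hi : 1 ≤ i) (hin : i ≤ n) :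
    Nat.card {g : G // (Subgroup.centralizer ({g} : Set G)).index = p ^ i} =
      Nat.card ↥(Subgroup.center G) * (p ^ (2 * i) - p ^ (2 * i - 2)) := by
  obtain ⟨D⟩ := CfsgLib.Metacyclic76.exists_data hG hmc
  obtain rfl : D.n = n :=
    Nat.pow_right_injective (Fact.out : p.Prime).two_le (D.card_commutator.symm.trans hGn)
  classical
  have hone := (Fact.out : p.Prime).one_lt
  have h1 : ∀ g : G, (Subgroup.centralizer ({g} : Set G)).index = p ^ i ↔
      g ^ p ^ i ∈ Subgroup.center G ∧ ¬ g ^ p ^ (i - 1) ∈ Subgroup.center G := by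
    intro g
    obtain ⟨v, hv⟩ := IsPGroup.iff_orderOf.mp (D.isPGroup.to_quotient (Subgroup.center G)) (g : G ⧸ _)
    rw [← D.index_le_iff hp, ← D.index_le_iff hp, D.index_centralizer hp, hv,
      Nat.pow_le_pow_iff_right hone, Nat.pow_le_pow_iff_right hone,
      (Nat.pow_right_injective (Fact.out : p.Prime).two_le).eq_iff]
    omega
  rw [Nat.card_congr (Equiv.subtypeEquivRight h1)]
  have e : Nat.card {g : G // g ^ p ^ i ∈ Subgroup.center G ∧ ¬ g ^ p ^ (i - 1) ∈ Subgroup.center G} +
      Nat.card {g : G // g ^ p ^ (i - 1) ∈ Subgroup.center G} =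
      Nat.card {g : G // g ^ p ^ i ∈ Subgroup.center G} := by
    haveI : Fintype G := Fintype.ofFinite G
    simp only [Nat.card_eq_fintype_card, Fintype.card_subtype]
    rw [← Finset.card_union_of_disjoint (by
      rw [Finset.disjoint_filter]; intro x _ h; exact h.2)]
    congr 1
    ext g
    simp only [Finset.mem_union, Finset.mem_filter, Finset.mem_univ, true_and]
    refine ⟨?_, fun h => ?_⟩
    · rintro (h | h)
      · exact h.1
      · rw [show i = (i - 1) + 1 by omega, pow_succ, pow_mul]
        exact pow_mem h p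
    · by_cases h' : g ^ p ^ (i - 1) ∈ Subgroup.center G
      · exact Or.inr h'
      · exact Or.inl ⟨h, h'⟩
  have e1 := D.card_powers hp (D.n - i) (by omega)
  have e2 := D.card_powers hp (D.n - (i - 1)) (by omega)
  rw [show D.n - (D.n - i) = i by omega] at e1
  rw [show D.n - (D.n - (i - 1)) = i - 1 by omega, show 2 * (i - 1) = 2 * i - 2 by omega] at e2
  rw [Nat.mul_sub]
  omega

end Cfsg.Agent.S3881
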