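import Cfsg.Statements.S3883
import Cfsg.Agent.Lib.Metacyclic76.Powers

set_option autoImplicit false
open Cfsg

namespace Cfsg.Agent.S3883

/-- Let p be an odd prime and G a finite metacyclic p-group (G has a cyclic normal subgroup with cyclic quotient). Suppose G is non-abelian. Then an element g of G lies outside the Frattini subgroup if and only if its centralizer C_G(g) is abelian. -/
theorem result {G : Type*} [Group G] [Finite G] {p : ℕ} [Fact p.Prime] (hp : p ≠ 2) (hG : IsPGroup p G) (hmc : Cfsg.IsMetacyclic G) (hna : ¬ IsMulCommutative G) (g : G) :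
    g ∉ frattini G ↔ IsMulCommutative ↥(Subgroup.centralizer ({g} : Set G)) := by
  obtain ⟨D⟩ := CfsgLib.Metacyclic76.exists_data hG hmc
  have hn : 1 ≤ D.n := by
    by_contra h
    apply hna
    have h1 : IsMulCommutative ↥(⊤ : Subgroup G) := by
      rw [D.isMulCommutative_iff_card hp, Subgroup.card_top, Nat.eq_zero_of_not_pos h, pow_zero, mul_one]
    exact ⟨⟨fun x y => congrArg Subtype.val
      (h1.is_comm.comm ⟨x, Subgroup.mem_top x⟩ ⟨y, Subgroup.mem_top y⟩)⟩⟩
  rw [D.mem_frattini_iff hp hn, ← D.index_le_iff hp, D.isMulCommutative_iff_card hp]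
  obtain ⟨v, hv⟩ := IsPGroup.iff_orderOf.mp (D.isPGroup.to_quotient (Subgroup.center G)) (g : G ⧸ _)
  rw [← (Subgroup.centralizer ({g} : Set G)).index_mul_card, mul_comm _ (p ^ D.n),
    Nat.mul_le_mul_right_iff Nat.card_pos, D.index_centralizer hp, hv,
    Nat.pow_le_pow_iff_right (Fact.out : p.Prime).one_lt,
    Nat.pow_le_pow_iff_right (Fact.out : p.Prime).one_lt]
  omega

end Cfsg.Agent.S3883
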