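import Cfsg.Statements.S3886
import Cfsg.Agent.Lib.Metacyclic76.Subgroups
import Cfsg.Agent.S3880

set_option autoImplicit false
open Cfsg

namespace Cfsg.Agent.S3886

/-- Let p be an odd prime and G a finite metacyclic p-group (G has a cyclic normal subgroup with cyclic quotient). Then the largest value of |R| · |Z(R)| over subgroups R of G is |G : G'|², and the subgroups attaining it (the centrally large subgroups) are exactly the non-abelian subgroups together with the maximal abelian subgroups of G. -/
theorem result {G : Type*} [Group G] [Finite G] {p : ℕ} [Fact p.Prime] (hp : p ≠ 2) (hG : IsPGroup p G) (hmc : Cfsg.IsMetacyclic G) : Cfsg.maxCentralProduct G = (commutator G).index ^ 2 ∧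
    ∀ R : Subgroup G, Cfsg.IsCentrallyLarge R ↔ (¬ IsMulCommutative ↥R ∨ Maximal (fun K : Subgroup G => IsMulCommutative ↥K) R) := by
  obtain ⟨D⟩ := CfsgLib.Metacyclic76.exists_data hG hmc
  have hpos : 0 < p ^ (2 * D.n) := pow_pos (Fact.out : p.Prime).pos _
  have hidx : (commutator G).index ^ 2 * p ^ (2 * D.n) = Nat.card G ^ 2 := by
    rw [← D.index_commutator_mul]; ring
  have hle : ∀ R : Subgroup G,
      Nat.card R * Nat.card ↥(Subgroup.center R) ≤ (commutator G).index ^ 2 := fun R =>
    Nat.le_of_mul_le_mul_right (hidx ▸ (D.card_mul_card_center_le hp R).1) hpos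
  have heq : ∀ R : Subgroup G, Nat.card R * Nat.card ↥(Subgroup.center R) = (commutator G).index ^ 2 ↔
      (¬ IsMulCommutative ↥R ∨ Nat.card ↥R * p ^ D.n = Nat.card G) := fun R => by
    rw [← (D.card_mul_card_center_le hp R).2, ← hidx, Nat.mul_left_inj hpos.ne']
  have hmax : Cfsg.maxCentralProduct G = (commutator G).index ^ 2 := by
    refine IsGreatest.csSup_eq ⟨⟨⊤, ?_⟩, ?_⟩
    · rw [heq]
      by_cases h : IsMulCommutative ↥(⊤ : Subgroup G)
      · refine Or.inr ?_
        have := (D.isMulCommutative_iff_card hp ⊤).mp h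
        rw [Subgroup.card_top] at this ⊢
        exact le_antisymm this (Nat.le_mul_of_pos_right _ (pow_pos (Fact.out : p.Prime).pos _))
      · exact Or.inl h
    · rintro k ⟨R, rfl⟩
      exact hle R
  refine ⟨hmax, fun R => ?_⟩
  rw [Cfsg.IsCentrallyLarge, hmax, heq, (Cfsg.Agent.S3880.result hp hG hmc R).2,
    ← D.index_commutator_mul, Nat.mul_left_inj (pow_pos (Fact.out : p.Prime).pos _).ne']

end Cfsg.Agent.S3886
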