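import Cfsg.Statements.S3889

set_option autoImplicit false
open Cfsg

namespace Cfsg.Agent.S3889

/-- A finite abelian group that is the union of a family of proper subgroups any two of which intersect trivially is elementary abelian: its exponent is a prime. -/
theorem result {G : Type*} [CommGroup G] [Finite G] (𝓑 : Set (Subgroup G)) (hprop : ∀ B ∈ 𝓑, B ≠ ⊤)
    (hcov : ∀ g : G, ∃ B ∈ 𝓑, g ∈ B) (hdisj : ∀ B ∈ 𝓑, ∀ C ∈ 𝓑, B ≠ C → B ⊓ C = ⊥) :
    (Monoid.exponent G).Prime := by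
  obtain ⟨g₀, hg₀⟩ : ∃ g : G, g ≠ 1 := by
    by_contra! h
    obtain ⟨B, hB, -⟩ := hcov 1
    exact hprop B hB (top_unique fun g _ => h g ▸ one_mem B)
  obtain ⟨p, hp, hpd⟩ := Nat.exists_prime_and_dvd
    (fun h => hg₀ (orderOf_eq_one_iff.mp h) : orderOf g₀ ≠ 1)
  set x := g₀ ^ (orderOf g₀ / p) with hx
  have hxo : orderOf x = p := orderOf_pow_orderOf_div (orderOf_pos g₀).ne' hpd
  have hx1 : x ≠ 1 := fun h => hp.one_lt.ne (by rw [← hxo, h, orderOf_one])
  have heq : ∀ B ∈ 𝓑, ∀ C ∈ 𝓑, ∀ z : G, z ≠ 1 → z ∈ B → z ∈ C → B = C := by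
    intro B hB C hC z hz h1 h2
    by_contra hne
    exact hz (Subgroup.mem_bot.mp (hdisj B hB C hC hne ▸ ⟨h1, h2⟩))
  obtain ⟨B, hB, hxB⟩ := hcov x
  have hout : ∀ g : G, g ∉ B → g ^ p = 1 := by
    intro g hg
    by_contra hgp
    obtain ⟨D, hD, hxgD⟩ := hcov (x * g)
    have hpow : (x * g) ^ p = g ^ p := by rw [mul_pow, ← hxo, pow_orderOf_eq_one, one_mul]
    obtain ⟨E, hE, hgE⟩ := hcov g
    have hDE : D = E := heq D hD E hE _ hgp (hpow ▸ pow_mem hxgD p) (pow_mem hgE p)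
    subst hDE
    have hxD : x ∈ D := by simpa using mul_mem hxgD (inv_mem hgE)
    exact hg (heq B hB D hD x hx1 hxB hxD ▸ hgE)
  obtain ⟨g₁, hg₁⟩ : ∃ g, g ∉ B := by
    by_contra! h
    exact hprop B hB (top_unique fun g _ => h g)
  have hall : ∀ g : G, g ^ p = 1 := by
    intro g
    by_cases hg : g ∈ B
    · have h1 := hout (g * g₁) fun h => hg₁ (by simpa using mul_mem (inv_mem hg) h)
      rwa [mul_pow, hout g₁ hg₁, mul_one] at h1
    · exact hout g hg
  have : Monoid.exponent G = p := Nat.dvd_antisymm (Monoid.exponent_dvd_of_forall_pow_eq_one hall)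
    (hxo ▸ Monoid.order_dvd_exponent x)
  rwa [this]

end Cfsg.Agent.S3889
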