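import Cfsg.Statements.S3892
import Cfsg.Agent.Lib.Struct76.NilpotentCover

set_option autoImplicit false
open Cfsg Equiv

namespace Cfsg.Agent.S3892

theorem sq_not_dvd_factorial {p : ℕ} (hp : p.Prime) : ∀ m : ℕ, m < 2 * p → ¬ p ^ 2 ∣ m.factorial := by
  intro m
  induction m with
  | zero =>
    intro _ h
    have := Nat.le_of_dvd one_pos h
    have := hp.one_lt
    nlinarith
  | succ m ih =>
    intro hm h
    rw [Nat.factorial_succ] at h
    by_cases he : m + 1 = p
    · rw [he, pow_two] at h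
      have := hp.dvd_factorial.1 (Nat.dvd_of_mul_dvd_mul_left hp.pos h)
      omega
    · refine ih (by omega) (Nat.Coprime.dvd_of_dvd_mul_left ?_ h)
      refine Nat.Coprime.pow_left 2 (hp.coprime_iff_not_dvd.2 fun ⟨c, hc⟩ => ?_)
      rcases c with _ | _ | c
      · simp at hc
      · exact he (by simpa using hc)
      · rw [mul_add, mul_add] at hc; omega

/-- The obstruction to a nilpotent minimal cover in a permutation group. -/
theorem not_exists_cover {n p : ℕ} {G : Type*} [Group G] [Finite G] (ι : G →* Perm (Fin n))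
    (hι : Function.Injective ι) (hp : p.Prime) (hpn : n < 2 * p) (M : Subgroup G) (hM : M ≠ ⊤)
    (x y : G) (hx : x ^ p = 1) (hy : y ^ p = 1)
    (hxM : ∀ c : G, c * x = x * c → c ∈ M) (hyM : ∀ c : G, c * y = y * c → c ∈ M)
    (hxy : y * x ≠ x * y) :
    ¬ ∃ 𝓐 : Finset (Subgroup G), CfsgLib.Struct76.MinNilCover 𝓐 := by
  rintro ⟨𝓐, h⟩
  haveI := Fact.mk hp
  let P : Sylow p G := default
  have hab : IsMulCommutative ↥(P : Subgroup G) := by
    haveI : IsCyclic ↥(P : Subgroup G) := by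
      obtain ⟨k, hk⟩ := P.2.exists_card_eq
      have h1 : p ^ k ∣ n.factorial := by
        rw [← hk]
        refine (Subgroup.card_subgroup_dvd_card _).trans ?_
        have := Subgroup.card_dvd_of_injective ι hι
        rwa [Nat.card_perm, Nat.card_eq_fintype_card (α := Fin n), Fintype.card_fin] at this
      have hk1 : k ≤ 1 := by
        by_contra hlt
        exact sq_not_dvd_factorial hp n hpn ((pow_dvd_pow p (by omega : 2 ≤ k)).trans h1)
      refine isCyclic_of_card_dvd_prime (p := p) ?_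
      rw [hk]
      calc p ^ k ∣ p ^ 1 := pow_dvd_pow p hk1
        _ = p := pow_one p
    exact IsCyclic.isMulCommutative
  have key : ∀ z : G, z ^ p = 1 → ∀ A : Subgroup G, Group.IsNilpotent A → z ∈ A →
      A ≤ Subgroup.centralizer ({z} : Set G) := fun z hz A hA hzA =>
    CfsgLib.Struct76.le_centralizer_of_abelian_sylow P hab hA hzA ⟨1, by rw [pow_one, hz]⟩
  refine h.false_of_pair hM (x := x) (y := y) (fun A hA hxA => ⟨fun c hc => hxM c ?_, key x hx A hA hxA⟩)
    (fun A hA hyA c hc => hyM c ?_) hxy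
  · exact Subgroup.mem_centralizer_singleton_iff.1 (key x hx A hA hxA hc)
  · exact Subgroup.mem_centralizer_singleton_iff.1 (key y hy A hA hyA hc)

/-- The setwise stabiliser of the first `p` points. -/
def stabBelow (n p : ℕ) : Subgroup (Perm (Fin n)) where
  carrier := {g | ∀ v : Fin n, (g v).val < p ↔ v.val < p}
  one_mem' := fun _ => Iff.rfl
  mul_mem' := fun {a b} ha hb v => (ha (b v)).trans (hb v)
  inv_mem' := fun {a} ha v => by
    have := ha (a⁻¹ v)
    rw [Perm.coe_inv, Equiv.apply_symm_apply] at this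
    exact this.symm

theorem mem_stabBelow {n p : ℕ} {g : Perm (Fin n)} :
    g ∈ stabBelow n p ↔ ∀ v : Fin n, (g v).val < p ↔ v.val < p := Iff.rfl

/-- Elements commuting with a permutation whose support is the first `p` points preserve it. -/
theorem mem_stabBelow_of_commute {n p : ℕ} {x c : Perm (Fin n)}
    (hx : ∀ v : Fin n, x v ≠ v ↔ v.val < p) (hc : c * x = x * c) : c ∈ stabBelow n p := by
  intro v
  rw [← hx, ← hx]
  have e : c (x v) = x (c v) := congrArg (fun f : Perm (Fin n) => f v) hc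
  rw [← e]
  exact c.injective.ne_iff

theorem swap_mem_stabBelow {n p : ℕ} {u w : Fin n} (hu : u.val < p) (hw : w.val < p) :
    swap u w ∈ stabBelow n p := fun v => by
  by_cases h1 : v = u
  · subst h1; rw [swap_apply_left]; exact iff_of_true hw hu
  by_cases h2 : v = w
  · subst h2; rw [swap_apply_right]; exact iff_of_true hu hw
  rw [swap_apply_of_ne_of_ne h1 h2]

theorem exists_general {n : ℕ} (hn : 6 ≤ n) :
    ∃ p : ℕ, p.Prime ∧ 5 ≤ p ∧ p < n ∧ n < 2 * p := by
  obtain ⟨p, hp, h1, h2⟩ := Nat.exists_prime_lt_and_le_two_mul (n / 2) (by omega)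
  have h5 : 5 ≤ p := by
    have : p ≠ 4 := by rintro rfl; norm_num at hp
    omega
  refine ⟨p, hp, h5, ?_, by omega⟩
  rcases Nat.lt_or_ge p n with h | h
  · exact h
  · obtain ⟨k, hk⟩ := hp.odd_of_ne_two (by omega)
    omega

/-- The witnesses for degree at least 6. -/
theorem exists_witness {n : ℕ} (hn : 6 ≤ n) :
    ∃ (p : ℕ) (x y g : Perm (Fin n)), p.Prime ∧ n < 2 * p ∧ x ^ p = 1 ∧ y ^ p = 1 ∧
      Perm.sign x = 1 ∧ Perm.sign y = 1 ∧ Perm.sign g = 1 ∧ g ∉ stabBelow n p ∧
      (∀ c, c * x = x * c → c ∈ stabBelow n p) ∧ (∀ c, c * y = y * c → c ∈ stabBelow n p) ∧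
      y * x ≠ x * y := by
  obtain ⟨p, hp, h5, hpn, hn2⟩ := exists_general hn
  haveI : NeZero n := ⟨by omega⟩
  let i : Fin n := ⟨p - 1, by omega⟩
  have hi0 : i ≠ 0 := fun e => by
    have := congrArg Fin.val e
    simp [i] at this
    omega
  let x : Perm (Fin n) := Fin.cycleRange i
  let a : Fin n := ⟨0, by omega⟩
  let b : Fin n := ⟨1, by omega⟩
  let c : Fin n := ⟨2, by omega⟩
  let d : Fin n := ⟨3, by omega⟩
  let q : Fin n := ⟨p, hpn⟩
  let τ : Perm (Fin n) := swap a b * swap b c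
  have hxs : ∀ v : Fin n, v < i → (x v).val = v.val + 1 := fun v hv =>
    Fin.coe_cycleRange_of_lt hv
  have hxsupp : ∀ v : Fin n, x v ≠ v ↔ v.val < p := by
    intro v
    rcases lt_trichotomy v i with hv | hv | hv
    · have h1 := hxs v hv
      have h2 : v.val < p := by have : v.val < p - 1 := hv; omega
      exact iff_of_true (fun e => by rw [e] at h1; omega) h2
    · subst hv
      exact iff_of_true (by rw [show x i = 0 from Fin.cycleRange_self i]; exact hi0.symm)
        (show p - 1 < p by omega)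
    · have h2 : ¬ v.val < p := by have : p - 1 < v.val := hv; omega
      exact iff_of_false (by simp [x, Fin.cycleRange_of_gt hv]) h2
  have hxp : x ^ p = 1 := by
    have h1 : orderOf x = p := by
      rw [← Perm.lcm_cycleType, Fin.cycleType_cycleRange hi0]
      simp [i]
      omega
    rw [← h1, pow_orderOf_eq_one]
  have hab : a ≠ b := by simp [a, b]
  have hbc : b ≠ c := by simp [b, c]
  have hac : a ≠ c := by simp [a, c]
  have hτs : τ ∈ stabBelow n p := by
    exact mul_mem (swap_mem_stabBelow (show 0 < p by omega) (show 1 < p by omega))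
      (swap_mem_stabBelow (show 1 < p by omega) (show 2 < p by omega))
  have hysupp : ∀ v : Fin n, (τ * x * τ⁻¹) v ≠ v ↔ v.val < p := by
    intro v
    have := hxsupp (τ⁻¹ v)
    rw [(mem_stabBelow.1 (inv_mem hτs)) v] at this
    rw [← this, Perm.mul_apply, Perm.mul_apply]
    refine not_congr ⟨fun e => τ.injective ?_, fun e => ?_⟩
    · rw [e, Perm.coe_inv, Equiv.apply_symm_apply]
    · rw [e, Perm.coe_inv, Equiv.apply_symm_apply]
  have hτa : τ a = b := by
    simp only [τ, Perm.mul_apply]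
    rw [swap_apply_of_ne_of_ne hab hac, swap_apply_left]
  have hτb : τ b = c := by
    simp only [τ, Perm.mul_apply]
    rw [swap_apply_left, swap_apply_of_ne_of_ne hac.symm hbc.symm]
  have hτc : τ c = a := by
    simp only [τ, Perm.mul_apply]
    rw [swap_apply_right, swap_apply_right]
  have hτd : τ d = d := by
    simp only [τ, Perm.mul_apply]
    have hdb : d ≠ b := Fin.ne_of_val_ne (show (3 : ℕ) ≠ 1 by omega)
    have hdc : d ≠ c := Fin.ne_of_val_ne (show (3 : ℕ) ≠ 2 by omega)
    have hda : d ≠ a := Fin.ne_of_val_ne (show (3 : ℕ) ≠ 0 by omega)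
    rw [swap_apply_of_ne_of_ne hdb hdc, swap_apply_of_ne_of_ne hda hdb]
  have hxv : ∀ u w : Fin n, u.val + 1 = w.val → u.val < p - 1 → x u = w := fun u w e hu =>
    Fin.ext ((hxs u hu).trans e)
  have hy : ∀ u w : Fin n, (τ * x * τ⁻¹) (τ u) = w ↔ τ (x u) = w := fun u w => by
    rw [Perm.mul_apply, Perm.mul_apply, Perm.coe_inv, Equiv.symm_apply_apply]
  refine ⟨p, x, τ * x * τ⁻¹, swap a q * swap b c, hp, hn2, hxp, ?_, ?_, ?_, ?_, ?_,
    fun g hg => mem_stabBelow_of_commute hxsupp hg,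
    fun g hg => mem_stabBelow_of_commute hysupp hg, ?_⟩
  · rw [conj_pow, hxp, mul_one, mul_inv_cancel]
  · rw [Fin.sign_cycleRange]
    obtain ⟨k, hk⟩ := hp.odd_of_ne_two (by omega)
    show (-1 : ℤˣ) ^ (p - 1) = 1
    rw [show p - 1 = 2 * k by omega, pow_mul]
    simp
  · rw [map_mul, map_mul, map_inv, mul_inv_cancel_comm]
    rw [Fin.sign_cycleRange]
    obtain ⟨k, hk⟩ := hp.odd_of_ne_two (by omega)
    show (-1 : ℤˣ) ^ (p - 1) = 1
    rw [show p - 1 = 2 * k by omega, pow_mul]
    simp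
  · rw [map_mul, Perm.sign_swap, Perm.sign_swap hbc]
    · simp
    · simp [a, q, Fin.ext_iff]; omega
  · intro hg
    have h1 := hg a
    rw [Perm.mul_apply, swap_apply_of_ne_of_ne hab hac, swap_apply_left] at h1
    simp [a, q] at h1
    omega
  · intro e
    have h1 := congrArg (fun f : Perm (Fin n) => f a) e
    simp only [Perm.mul_apply] at h1
    -- `y (x a) = c` while `x (y a) ≠ c`
    have hya : (τ * x * τ⁻¹) a = d := by
      have := (hy c d).2 (by rw [hxv c d rfl (by simp [c]; omega), hτd])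
      rwa [hτc] at this
    have hyb : (τ * x * τ⁻¹) b = c := by
      have := (hy a c).2 (by rw [hxv a b rfl (by simp [a]; omega), hτb])
      rwa [hτa] at this
    have hxa : x a = b := hxv a b rfl (by simp [a]; omega)
    simp only [Perm.mul_apply] at hya hyb
    rw [hxa, hyb, hya] at h1
    have h2 : (x d).val = 4 := hxs d (show (3 : ℕ) < p - 1 by omega)
    rw [← h1] at h2
    simp [c] at h2

theorem alt_five : ¬ ∃ 𝓐 : Finset (Subgroup ↥(alternatingGroup (Fin 5))),
    CfsgLib.Struct76.MinNilCover 𝓐 := by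
  let M : Subgroup ↥(alternatingGroup (Fin 5)) :=
    (MulAction.stabilizer (Perm (Fin 5)) (4 : Fin 5)).subgroupOf _
  let x : ↥(alternatingGroup (Fin 5)) := ⟨swap 0 1 * swap 1 2, Perm.mem_alternatingGroup.2 (by decide +kernel)⟩
  let y : ↥(alternatingGroup (Fin 5)) := ⟨swap 0 1 * swap 1 3, Perm.mem_alternatingGroup.2 (by decide +kernel)⟩
  have hx : ∀ c : Perm (Fin 5), Perm.sign c = 1 →
      c * (swap 0 1 * swap 1 2) = (swap 0 1 * swap 1 2) * c → c 4 = 4 := by decide +kernel
  have hy : ∀ c : Perm (Fin 5), Perm.sign c = 1 →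
      c * (swap 0 1 * swap 1 3) = (swap 0 1 * swap 1 3) * c → c 4 = 4 := by decide +kernel
  refine not_exists_cover (alternatingGroup (Fin 5)).subtype Subtype.val_injective
    Nat.prime_three (by norm_num) M ?_ x y (by decide +kernel) (by decide +kernel)
    (fun c hc => hx c c.2 (congrArg Subtype.val hc)) (fun c hc => hy c c.2 (congrArg Subtype.val hc))
    (by decide +kernel)
  intro e
  have h : (⟨swap (2 : Fin 5) 4 * swap 0 1, Perm.mem_alternatingGroup.2 (by decide +kernel)⟩ :
      ↥(alternatingGroup (Fin 5))) ∈ M := e ▸ Subgroup.mem_top _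
  have h' : (swap (2 : Fin 5) 4 * swap 0 1) • (4 : Fin 5) = 4 := h
  exact absurd h' (by decide +kernel)

theorem sym_small (n : ℕ) (h4 : 4 ≤ n) (h5 : n ≤ 5) :
    ¬ ∃ 𝓐 : Finset (Subgroup (Perm (Fin n))), CfsgLib.Struct76.MinNilCover 𝓐 := by
  interval_cases n
  · refine not_exists_cover (MonoidHom.id _) Function.injective_id Nat.prime_three (by norm_num)
      (alternatingGroup (Fin 4)) ?_ (swap 0 1 * swap 1 2) (swap 0 1 * swap 1 3)
      (by decide +kernel) (by decide +kernel) ?_ ?_ (by decide +kernel)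
    · exact fun e => absurd (Perm.mem_alternatingGroup.1
        (e ▸ Subgroup.mem_top (swap (0 : Fin 4) 1) :
          swap (0 : Fin 4) 1 ∈ alternatingGroup (Fin 4))) (by decide +kernel)
    · exact fun c hc => Perm.mem_alternatingGroup.2 ((show ∀ c : Perm (Fin 4), c * (swap 0 1 * swap 1 2) = (swap 0 1 * swap 1 2) * c →
        Perm.sign c = 1 by decide +kernel) c hc)
    · exact fun c hc => Perm.mem_alternatingGroup.2 ((show ∀ c : Perm (Fin 4), c * (swap 0 1 * swap 1 3) = (swap 0 1 * swap 1 3) * c →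
        Perm.sign c = 1 by decide +kernel) c hc)
  · refine not_exists_cover (MonoidHom.id _) Function.injective_id Nat.prime_five (by norm_num)
      (alternatingGroup (Fin 5)) ?_ (finRotate 5)
      (swap 0 1 * swap 1 2 * finRotate 5 * (swap 0 1 * swap 1 2)⁻¹)
      (by decide +kernel) (by decide +kernel) ?_ ?_ (by decide +kernel)
    · exact fun e => absurd (Perm.mem_alternatingGroup.1
        (e ▸ Subgroup.mem_top (swap (0 : Fin 5) 1) :
          swap (0 : Fin 5) 1 ∈ alternatingGroup (Fin 5))) (by decide +kernel)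
    · exact fun c hc => Perm.mem_alternatingGroup.2 ((show ∀ c : Perm (Fin 5), c * finRotate 5 = finRotate 5 * c →
        Perm.sign c = 1 by decide +kernel) c hc)
    · exact fun c hc => Perm.mem_alternatingGroup.2 ((show ∀ c : Perm (Fin 5), c * (swap 0 1 * swap 1 2 * finRotate 5 * (swap 0 1 * swap 1 2)⁻¹) =
        (swap 0 1 * swap 1 2 * finRotate 5 * (swap 0 1 * swap 1 2)⁻¹) * c →
        Perm.sign c = 1 by decide +kernel) c hc)

/-- A cover of a group is a finite set of proper subgroups whose union is the whole group; it is minimal when no cover has fewer members, and nilpotent when all its members are nilpotent. The alternating groups of degree at least 5 and the symmetric groups of degree at least 4 have no nilpotent minimal cover. -/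
theorem result (n : ℕ) :
    (5 ≤ n → ¬ ∃ 𝓐 : Finset (Subgroup ↥(alternatingGroup (Fin n))), ((∀ A ∈ 𝓐, A ≠ ⊤) ∧ (∀ g : ↥(alternatingGroup (Fin n)), ∃ A ∈ 𝓐, g ∈ A)) ∧ (∀ 𝓑 : Finset (Subgroup ↥(alternatingGroup (Fin n))), (∀ A ∈ 𝓑, A ≠ ⊤) ∧ (∀ g : ↥(alternatingGroup (Fin n)), ∃ A ∈ 𝓑, g ∈ A) → 𝓐.card ≤ 𝓑.card) ∧ (∀ A ∈ 𝓐, Group.IsNilpotent ↥A)) ∧
    (4 ≤ n → ¬ ∃ 𝓐 : Finset (Subgroup (Equiv.Perm (Fin n))), ((∀ A ∈ 𝓐, A ≠ ⊤) ∧ (∀ g : (Equiv.Perm (Fin n)), ∃ A ∈ 𝓐, g ∈ A)) ∧ (∀ 𝓑 : Finset (Subgroup (Equiv.Perm (Fin n))), (∀ A ∈ 𝓑, A ≠ ⊤) ∧ (∀ g : (Equiv.Perm (Fin n)), ∃ A ∈ 𝓑, g ∈ A) → 𝓐.card ≤ 𝓑.card) ∧ (∀ A ∈ 𝓐, Group.IsNilpotent ↥A)) := by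
  refine ⟨fun hn => ?_, fun hn => ?_⟩
  · rcases Nat.lt_or_ge n 6 with h | h
    · obtain rfl : n = 5 := by omega
      exact alt_five
    obtain ⟨p, x, y, g, hp, hpn, hxp, hyp, hsx, hsy, hsg, hg, hcx, hcy, hxy⟩ := exists_witness h
    refine not_exists_cover (alternatingGroup (Fin n)).subtype Subtype.val_injective hp hpn
      ((stabBelow n p).subgroupOf _) ?_ ⟨x, hsx⟩ ⟨y, hsy⟩ (Subtype.ext hxp) (Subtype.ext hyp)
      (fun c hc => hcx c (congrArg Subtype.val hc)) (fun c hc => hcy c (congrArg Subtype.val hc))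
      (fun e => hxy (congrArg Subtype.val e))
    intro e
    exact hg (e ▸ Subgroup.mem_top (⟨g, hsg⟩ : ↥(alternatingGroup (Fin n))) :
      (⟨g, hsg⟩ : ↥(alternatingGroup (Fin n))) ∈ (stabBelow n p).subgroupOf _)
  · rcases Nat.lt_or_ge n 6 with h | h
    · exact sym_small n hn (by omega)
    obtain ⟨p, x, y, g, hp, hpn, hxp, hyp, -, -, -, hg, hcx, hcy, hxy⟩ := exists_witness h
    exact not_exists_cover (MonoidHom.id _) Function.injective_id hp hpn (stabBelow n p)
      (fun e => hg (e ▸ Subgroup.mem_top g)) x y hxp hyp hcx hcy hxy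

end Cfsg.Agent.S3892
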