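import Cfsg.Statements.S3893
import Cfsg.Agent.Lib.Struct76.NilpotentCover
import Cfsg.Agent.Lib.SuzukiGroup.Structure

set_option autoImplicit false
open Cfsg

namespace Cfsg.Agent.S3893

/-- A cover of a group is a finite set of proper subgroups whose union is the whole group; it is minimal when no cover has fewer members, and nilpotent when all its members are nilpotent. The Suzuki groups Sz(q), q = 2^(2m+1) with m ≥ 1, have no nilpotent minimal cover. -/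
theorem result {F : Type*} [Field F] [Fintype F] (m : ℕ) (hm : 1 ≤ m) (hF : Fintype.card F = 2 ^ (2 * m + 1)) :
    ¬ ∃ 𝓐 : Finset (Subgroup ↥(Cfsg.Lie.Sz F (2 ^ (m + 1)))), ((∀ A ∈ 𝓐, A ≠ ⊤) ∧ (∀ g : ↥(Cfsg.Lie.Sz F (2 ^ (m + 1))), ∃ A ∈ 𝓐, g ∈ A)) ∧ (∀ 𝓑 : Finset (Subgroup ↥(Cfsg.Lie.Sz F (2 ^ (m + 1)))), (∀ A ∈ 𝓑, A ≠ ⊤) ∧ (∀ g : ↥(Cfsg.Lie.Sz F (2 ^ (m + 1))), ∃ A ∈ 𝓑, g ∈ A) → 𝓐.card ≤ 𝓑.card) ∧ (∀ A ∈ 𝓐, Group.IsNilpotent ↥A) := by
  open CfsgLib.SuzukiGroup in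
  obtain ⟨_, ⟨P⟩⟩ := exists_params hF
  rintro ⟨𝓐, h⟩
  open CfsgLib.SuzukiGroup in
  obtain ⟨x, hx⟩ : ∃ x : Fˣ, x ≠ 1 := by
    classical
    have : 1 < Fintype.card Fˣ := by
      rw [Fintype.card_units, hF]
      have : 2 ^ 2 ≤ 2 ^ (2 * m + 1) := Nat.pow_le_pow_right two_pos (by omega)
      omega
    exact Fintype.exists_ne_of_one_lt_card this 1
  open CfsgLib.SuzukiGroup in
  set u := uEl P (0 : F) 1 with hu
  open CfsgLib.SuzukiGroup in
  have huU : u ∈ unip P := ⟨0, 1, rfl⟩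
  open CfsgLib.SuzukiGroup in
  have hu1 : u ≠ 1 := fun e => one_ne_zero ((uEl_eq_one P).1 e).2
  open CfsgLib.SuzukiGroup in
  have hd1 : dEl P x ≠ 1 := fun e => hx ((dEl_eq_one P).1 e)
  open CfsgLib.SuzukiGroup in
  have hA : ∀ A : Subgroup ↥(Cfsg.Lie.Sz F (2 ^ (m + 1))), Group.IsNilpotent A → u ∈ A →
      A ≤ unip P :=
    CfsgLib.Struct76.le_of_centralizers_le hu1 fun z hz1 hzc => centralizer_le_unip P
      (centralizer_le_unip P huU hu1 (Subgroup.mem_centralizer_singleton_iff.2 hzc.eq)) hz1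
  open CfsgLib.SuzukiGroup in
  refine CfsgLib.Struct76.MinNilCover.false_of_no_common h
    (M := borel (F := F) (e := 2 ^ (m + 1))) (fun e => jEl_notMem_borel P (e ▸ Subgroup.mem_top _))
    (x := u) (y := dEl P x) (fun A hn hm' => (hA A hn hm').trans (unip_le_borel P)) ?_ ?_
  · refine CfsgLib.Struct76.le_of_centralizers_le hd1 fun z hz1 hzc => ?_
    have hzT : z ∈ CfsgLib.SuzukiGroup.torus P := by
      rw [← CfsgLib.SuzukiGroup.centralizer_dEl P hx]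
      exact Subgroup.mem_centralizer_singleton_iff.2 hzc.eq
    obtain ⟨x', rfl⟩ := (CfsgLib.SuzukiGroup.mem_torus P).1 hzT
    rw [CfsgLib.SuzukiGroup.centralizer_dEl P fun e => hz1 (by rw [e, CfsgLib.SuzukiGroup.dEl_one])]
    rintro g ⟨y, rfl⟩
    exact CfsgLib.SuzukiGroup.dEl_mem_borel P y
  · intro A hn hu' hd'
    obtain ⟨a, b, hab⟩ := hA A hn hu' hd'
    refine hx (CfsgLib.SuzukiGroup.borel_decomp_mem_unip P (a := 0) (b := 0) ?_)
    rw [CfsgLib.SuzukiGroup.uEl_zero, one_mul]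
    exact ⟨a, b, hab⟩

end Cfsg.Agent.S3893
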