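import Cfsg.Statements.S3894
import Cfsg.Agent.Lib.Struct76.NilpotentCover
import Cfsg.Agent.Lib.Solvable.NilpotentSubgroups

set_option autoImplicit false
open Cfsg Matrix

namespace Cfsg.Agent.S3894

variable {F : Type*} [Field F] {n : ℕ}

theorem toGL_val (g : SpecialLinearGroup (Fin n) F) :
    ((SpecialLinearGroup.toGL g : GL (Fin n) F) : Matrix (Fin n) (Fin n) F) =
      (g : Matrix (Fin n) (Fin n) F) := rfl

/-- The stabiliser of the line through `v`. -/
def stabLine [Fintype F] (v : Fin n → F) : Subgroup (GL (Fin n) F) where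
  carrier := {g | ∃ c : F, (g : Matrix (Fin n) (Fin n) F) *ᵥ v = c • v}
  one_mem' := ⟨1, by simp⟩
  mul_mem' := by
    rintro a b ⟨c, hc⟩ ⟨d, hd⟩
    exact ⟨d * c, by rw [Units.val_mul, ← mulVec_mulVec, hd, mulVec_smul, hc, smul_smul]⟩
  inv_mem' := by
    rintro a ⟨c, hc⟩
    refine ⟨c⁻¹, ?_⟩
    by_cases hc0 : c = 0
    · have : v = 0 := by
        have h1 := congrArg (fun w => ((a⁻¹ : GL (Fin n) F) : Matrix (Fin n) (Fin n) F) *ᵥ w) hc
        simpa [mulVec_mulVec, hc0] using h1
      simp [this]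
    · have h1 := congrArg (fun w => c⁻¹ • ((a⁻¹ : GL (Fin n) F) : Matrix (Fin n) (Fin n) F) *ᵥ w) hc
      simp only [mulVec_mulVec, mulVec_smul, smul_smul, inv_mul_cancel₀ hc0, one_smul] at h1
      rw [← h1]
      simp

theorem mem_stabLine [Fintype F] {v : Fin n → F} {g : GL (Fin n) F} :
    g ∈ stabLine v ↔ ∃ c : F, (g : Matrix (Fin n) (Fin n) F) *ᵥ v = c • v := Iff.rfl

/-- Elements commuting with a unipotent `x` with one fixed line preserve it. -/
theorem mem_stabLine_of_commute [Fintype F] {x g : GL (Fin n) F} {v : Fin n → F}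
    (hxv : (x : Matrix (Fin n) (Fin n) F) *ᵥ v = v)
    (hker : ∀ w, (x : Matrix (Fin n) (Fin n) F) *ᵥ w = w → ∃ c : F, w = c • v)
    (hc : g * x = x * g) : g ∈ stabLine v := by
  refine hker _ ?_
  rw [mulVec_mulVec, ← Units.val_mul, ← hc, Units.val_mul, ← mulVec_mulVec, hxv]

theorem center_le_stabLine [Fintype F] {x : GL (Fin n) F} {v : Fin n → F}
    (hxv : (x : Matrix (Fin n) (Fin n) F) *ᵥ v = v)
    (hker : ∀ w, (x : Matrix (Fin n) (Fin n) F) *ᵥ w = w → ∃ c : F, w = c • v) :
    Subgroup.center (GL (Fin n) F) ≤ stabLine v := fun _ hz =>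
  mem_stabLine_of_commute hxv hker (Subgroup.mem_center_iff.1 hz x).symm

/-- A nilpotent group containing such an `x` of `p`-power order preserves the line. -/
theorem le_stabLine [Fintype F] {p : ℕ} [hp : Fact p.Prime] [CharP F p] {x : GL (Fin n) F}
    {v : Fin n → F} (hv : v ≠ 0) (hxv : (x : Matrix (Fin n) (Fin n) F) *ᵥ v = v)
    (hker : ∀ w, (x : Matrix (Fin n) (Fin n) F) *ᵥ w = w → ∃ c : F, w = c • v)
    (hxp : ∃ k : ℕ, x ^ p ^ k = 1) (A : Subgroup (GL (Fin n) F)) (hA : Group.IsNilpotent A)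
    (hxA : x ∈ A) : A ≤ stabLine v := by
  haveI := hA
  obtain ⟨k, hk⟩ := hxp
  obtain ⟨j, -, hj⟩ := (Nat.dvd_prime_pow hp.out).1 (orderOf_dvd_of_pow_eq_one hk)
  refine CfsgLib.Coprime.le_of_forall_sylow_le fun q hq Q => ?_
  haveI := Fact.mk hq
  rintro _ ⟨a, ha, rfl⟩
  by_cases hqp : q = p
  · subst hqp
    haveI : (Q : Subgroup A).Normal :=
      Sylow.normal_of_normalizerCondition Group.normalizerCondition_of_isNilpotent Q
    haveI := Sylow.unique_of_normal Q inferInstance
    have hz : IsPGroup q (Subgroup.zpowers (⟨x, hxA⟩ : A)) :=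
      IsPGroup.of_card (n := j) (by rw [Nat.card_zpowers, Subgroup.orderOf_mk, hj])
    obtain ⟨Q', hQ'⟩ := hz.exists_le_sylow
    have hxQ : (⟨x, hxA⟩ : A) ∈ (Q : Subgroup A) :=
      (Subsingleton.elim Q' Q) ▸ hQ' (Subgroup.mem_zpowers _)
    letI : MulAction ↥(Q : Subgroup A) (Fin n → F) :=
      { smul := fun g w => ((((g : A) : GL (Fin n) F)) : Matrix (Fin n) (Fin n) F) *ᵥ w
        one_smul := fun w => by show (1 : Matrix (Fin n) (Fin n) F) *ᵥ w = w; exact one_mulVec w
        mul_smul := fun g h w => by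
          show ((((g * h : ↥(Q : Subgroup A)) : A) : GL (Fin n) F) : Matrix (Fin n) (Fin n) F) *ᵥ w =
            (((g : A) : GL (Fin n) F) : Matrix (Fin n) (Fin n) F) *ᵥ
              ((((h : A) : GL (Fin n) F) : Matrix (Fin n) (Fin n) F) *ᵥ w)
          rw [mulVec_mulVec]; rfl }
    have hdvd : q ∣ Nat.card (Fin n → F) := by
      obtain ⟨f, -, hf⟩ := FiniteField.card F q
      have : n ≠ 0 := by
        rintro rfl
        exact hv (Subsingleton.elim _ _)
      rw [Nat.card_fun, Nat.card_eq_fintype_card, hf, Nat.card_fin, ← pow_mul]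
      exact dvd_pow_self q (Nat.mul_ne_zero f.2.ne' this)
    obtain ⟨w, hw, hw0⟩ := Q.2.exists_fixed_point_of_prime_dvd_card_of_fixed_point _ hdvd
      (a := (0 : Fin n → F)) (fun g => mulVec_zero _)
    obtain ⟨c, hc⟩ := hker w (hw ⟨_, hxQ⟩)
    have hc0 : c ≠ 0 := fun e => hw0 (by rw [hc, e, zero_smul])
    refine ⟨1, ?_⟩
    have h1 : ((a : GL (Fin n) F) : Matrix (Fin n) (Fin n) F) *ᵥ w = w := hw ⟨a, ha⟩
    rw [hc, mulVec_smul] at h1
    rw [one_smul]
    exact (IsUnit.smul_left_cancel (IsUnit.mk0 c hc0)).1 h1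
  · refine mem_stabLine_of_commute hxv hker ?_
    obtain ⟨i, hi⟩ := IsPGroup.iff_orderOf.1 Q.2 ⟨a, ha⟩
    rw [Subgroup.orderOf_mk] at hi
    refine congrArg Subtype.val (CfsgLib.NilpotentSubgroups.commute_of_orderOf_coprime
      (x := a) (y := ⟨x, hxA⟩) ?_).eq
    rw [hi, Subgroup.orderOf_mk, hj]
    exact Nat.coprime_pow_primes i j hq hp.out hqp

/-- Unipotent matrices have `p`-power order. -/
theorem pow_eq_one_of_nilpotent {p : ℕ} [hp : Fact p.Prime] [CharP F p] [NeZero n]
    {x : GL (Fin n) F} (h : IsNilpotent ((x : Matrix (Fin n) (Fin n) F) - 1)) :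
    ∃ k : ℕ, x ^ p ^ k = 1 := by
  obtain ⟨m, hm⟩ := h
  refine ⟨m, Units.ext ?_⟩
  rw [Units.val_pow_eq_pow_val, Units.val_one]
  have h1 := sub_pow_char_pow_of_commute (p := p) (n := m)
    (Commute.one_right ((x : Matrix (Fin n) (Fin n) F)))
  rw [one_pow] at h1
  rw [← sub_eq_zero, ← h1]
  exact pow_eq_zero_of_le (Nat.lt_pow_self hp.out.one_lt).le hm

/-- The map onto the projective group. -/
abbrev π (F : Type*) [Field F] (n : ℕ) :
    GL (Fin n) F →* GL (Fin n) F ⧸ Subgroup.center (GL (Fin n) F) :=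
  QuotientGroup.mk' _

variable (G : Subgroup (GL (Fin n) F ⧸ Subgroup.center (GL (Fin n) F)))

/-- Preimage in the linear group. -/
def lift (A : Subgroup G) : Subgroup (GL (Fin n) F) :=
  (A.map G.subtype).comap (π F n)

theorem mem_lift {A : Subgroup G} {g : GL (Fin n) F} {a : G} (hg : π F n g = a) :
    g ∈ lift G A ↔ a ∈ A := by
  show π F n g ∈ A.map G.subtype ↔ a ∈ A
  rw [hg]
  exact Subgroup.mem_map_iff_mem G.subtype_injective

theorem lift_isNilpotent (A : Subgroup G) (hA : Group.IsNilpotent A) :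
    Group.IsNilpotent (lift G A) := by
  haveI := hA
  haveI : Group.IsNilpotent ↥(A.map G.subtype) :=
    Group.nilpotent_of_surjective (A.equivMapOfInjective G.subtype G.subtype_injective).toMonoidHom
      (A.equivMapOfInjective G.subtype G.subtype_injective).surjective
  refine Subgroup.isNilpotent_of_ker_le_center
    (((π F n).comp (lift G A).subtype).codRestrict (A.map G.subtype) fun x => x.2) ?_
  intro z hz
  rw [MonoidHom.mem_ker] at hz
  have h1 : π F n (z : GL (Fin n) F) = 1 := congrArg Subtype.val hz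
  have h2 : (z : GL (Fin n) F) ∈ Subgroup.center (GL (Fin n) F) :=
    (QuotientGroup.eq_one_iff _).1 h1
  exact Subgroup.mem_center_iff.2 fun w => Subtype.ext (Subgroup.mem_center_iff.1 h2 w)

/-- The part of `G` preserving the line through `v`. -/
def stabIn [Fintype F] (v : Fin n → F) : Subgroup G :=
  ((stabLine v).map (π F n)).subgroupOf G

theorem mem_stabIn [Fintype F] {v : Fin n → F} (hZ : Subgroup.center (GL (Fin n) F) ≤ stabLine v)
    {g : GL (Fin n) F} {a : G} (hg : π F n g = a) : a ∈ stabIn G v ↔ g ∈ stabLine v := by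
  show (a : GL (Fin n) F ⧸ _) ∈ (stabLine v).map (π F n) ↔ _
  rw [← hg]
  refine ⟨?_, fun h => Subgroup.mem_map_of_mem _ h⟩
  rintro ⟨s, hs, he⟩
  have : s⁻¹ * g ∈ Subgroup.center (GL (Fin n) F) := QuotientGroup.eq.1 he
  have := mul_mem hs (hZ this)
  rwa [mul_inv_cancel_left] at this

theorem le_stabIn [Fintype F] {v : Fin n → F} (hZ : Subgroup.center (GL (Fin n) F) ≤ stabLine v)
    {A : Subgroup G} (h : lift G A ≤ stabLine v) : A ≤ stabIn G v := by
  intro a ha
  obtain ⟨g, hg⟩ := QuotientGroup.mk'_surjective (Subgroup.center (GL (Fin n) F))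
    (a : GL (Fin n) F ⧸ Subgroup.center (GL (Fin n) F))
  exact (mem_stabIn G hZ hg).2 (h ((mem_lift G hg).2 ha))

/-- `transvection i j 1` as a linear automorphism. -/
def tv {i j : Fin n} (h : i ≠ j) : GL (Fin n) F :=
  SpecialLinearGroup.toGL ⟨transvection i j 1, det_transvection_of_ne i j h 1⟩

theorem tv_val {i j : Fin n} (h : i ≠ j) :
    (tv (F := F) h : Matrix (Fin n) (Fin n) F) = transvection i j 1 := rfl

theorem stabLine_single_ne_top [Fintype F] {i j : Fin n} (h : i ≠ j) :
    tv (F := F) h ∉ stabLine (Pi.single j (1 : F)) := by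
  rintro ⟨c, hc⟩
  have h1 := congrFun hc i
  simp [tv_val, transvection, add_mulVec, h] at h1

section Three

variable [Fintype F]

/-- The shift matrix. -/
def shift (F : Type*) [Field F] (n : ℕ) : Matrix (Fin n) (Fin n) F :=
  Matrix.of fun i j => if (i : ℕ) + 1 = j then 1 else 0

omit [Fintype F] in
theorem shift_pow (k : ℕ) : ∀ i j : Fin n, ((shift F n) ^ k) i j ≠ 0 → (i : ℕ) + k = j := by
  induction k with
  | zero =>
    intro i j h
    rw [pow_zero] at h
    by_cases e : i = j
    · simp [e]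
    · simp [Matrix.one_apply_ne e] at h
  | succ k ih =>
    intro i j h
    rw [pow_succ, Matrix.mul_apply] at h
    obtain ⟨l, -, hl⟩ := Finset.exists_ne_zero_of_sum_ne_zero h
    have h1 := ih i l (left_ne_zero_of_mul hl)
    have h2 := right_ne_zero_of_mul hl
    simp only [shift, Matrix.of_apply, ne_eq, ite_eq_right_iff, Classical.not_imp] at h2
    omega

omit [Fintype F] in
theorem shift_nilpotent : IsNilpotent (shift F n) :=
  ⟨n, Matrix.ext fun i j => by
    by_contra h
    have := shift_pow n i j h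
    omega⟩

omit [Fintype F] in
theorem trace_shift : Matrix.trace (shift F n) = 0 := by
  simp [Matrix.trace, shift]

omit [Fintype F] in
theorem det_one_add_shift : (1 + shift F n).det = 1 := by
  rw [Matrix.det_of_isUpperTriangular]
  · simp [shift]
  · intro i j hij
    have : (j : ℕ) < i := hij
    have hne : i ≠ j := fun e => by subst e; omega
    simp only [Matrix.add_apply, Matrix.one_apply_ne hne, zero_add, shift, Matrix.of_apply]
    rw [if_neg (by omega)]

end Three

theorem no_cover_three [Fintype F] (hn : 3 ≤ n)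
    (G : Subgroup (GL (Fin n) F ⧸ Subgroup.center (GL (Fin n) F)))
    (hG : ((SpecialLinearGroup.toGL : SpecialLinearGroup (Fin n) F →* GL (Fin n) F).range).map
      (π F n) ≤ G) : ¬ ∃ 𝓐 : Finset (Subgroup ↥G), CfsgLib.Struct76.MinNilCover 𝓐 := by
  rintro ⟨𝓐, h⟩
  obtain ⟨p, hpc⟩ := CharP.exists F
  haveI := hpc
  obtain ⟨f, hp, -⟩ := FiniteField.card F p
  haveI := Fact.mk hp
  haveI : NeZero n := ⟨by omega⟩
  let i0 : Fin n := ⟨0, by omega⟩
  let i1 : Fin n := ⟨1, by omega⟩
  let i2 : Fin n := ⟨2, by omega⟩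
  have h21 : i2 ≠ i1 := by simp [i1, i2]
  have h10 : i1 ≠ i0 := by simp [i0, i1]
  set N := shift F n with hN
  set E : Matrix (Fin n) (Fin n) F := Matrix.single i2 i1 (1 : F) with hE
  let xs : SpecialLinearGroup (Fin n) F := ⟨1 + N, det_one_add_shift⟩
  let hs : SpecialLinearGroup (Fin n) F :=
    ⟨transvection i2 i1 1, det_transvection_of_ne i2 i1 h21 1⟩
  let toG : SpecialLinearGroup (Fin n) F →* G :=
    ((π F n).comp SpecialLinearGroup.toGL).codRestrict G fun s => hG ⟨_, ⟨s, rfl⟩, rfl⟩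
  set v : Fin n → F := Pi.single i0 1 with hv
  have hv0 : v ≠ 0 := fun e => by simpa [hv] using congrFun e i0
  set x : GL (Fin n) F := SpecialLinearGroup.toGL xs with hx
  set hh : GL (Fin n) F := SpecialLinearGroup.toGL hs with hhh
  set y : GL (Fin n) F := hh * x * hh⁻¹ with hy
  have hxval : (x : Matrix (Fin n) (Fin n) F) = 1 + N := rfl
  have hhval : (hh : Matrix (Fin n) (Fin n) F) = 1 + E := rfl
  have hNv : N *ᵥ v = 0 := by
    funext i
    simp [hv, hN, shift, Matrix.mulVec_single, i0]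
  have hxv : (x : Matrix (Fin n) (Fin n) F) *ᵥ v = v := by
    rw [hxval, add_mulVec, one_mulVec, hNv, add_zero]
  have hker : ∀ w, (x : Matrix (Fin n) (Fin n) F) *ᵥ w = w → ∃ c : F, w = c • v := by
    intro w hw
    rw [hxval, add_mulVec, one_mulVec, add_eq_left] at hw
    refine ⟨w i0, funext fun j => ?_⟩
    by_cases hj : j = i0
    · subst hj; simp [hv]
    · have hjpos : 0 < (j : ℕ) := Nat.pos_of_ne_zero fun e => hj (Fin.ext e)
      have h1 := congrFun hw ⟨(j : ℕ) - 1, by omega⟩
      rw [Matrix.mulVec, dotProduct, Finset.sum_eq_single j] at h1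
      · simp only [hN, shift, Matrix.of_apply, Pi.zero_apply] at h1
        rw [if_pos (by omega), one_mul] at h1
        simp [hv, hj, h1]
      · intro b _ hb
        simp only [hN, shift, Matrix.of_apply]
        rw [if_neg (fun e => hb (Fin.ext (by omega))), zero_mul]
      · simp
  have hhv : (hh : Matrix (Fin n) (Fin n) F) *ᵥ v = v := by
    rw [hhval, add_mulVec, one_mulVec, hE]
    funext i
    simp [hv, Matrix.mulVec_single, h10.symm, h10]
  have hhv' : ((hh⁻¹ : GL (Fin n) F) : Matrix (Fin n) (Fin n) F) *ᵥ v = v := by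
    conv_lhs => rw [← hhv]
    rw [mulVec_mulVec, ← Units.val_mul, inv_mul_cancel, Units.val_one, one_mulVec]
  have hyv : (y : Matrix (Fin n) (Fin n) F) *ᵥ v = v := by
    rw [hy, Units.val_mul, Units.val_mul, ← mulVec_mulVec, hhv', ← mulVec_mulVec, hxv, hhv]
  have hyker : ∀ w, (y : Matrix (Fin n) (Fin n) F) *ᵥ w = w → ∃ c : F, w = c • v := by
    intro w hw
    obtain ⟨c, hc⟩ := hker (((hh⁻¹ : GL (Fin n) F) : Matrix (Fin n) (Fin n) F) *ᵥ w) (by
      conv_rhs => rw [← hw]
      rw [mulVec_mulVec, mulVec_mulVec, ← Units.val_mul, ← Units.val_mul, hy]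
      congr 2
      group)
    refine ⟨c, ?_⟩
    have h1 := congrArg (fun u => (hh : Matrix (Fin n) (Fin n) F) *ᵥ u) hc
    simp only [mulVec_mulVec, ← Units.val_mul, mul_inv_cancel, Units.val_one, one_mulVec,
      mulVec_smul, hhv] at h1
    exact h1
  have hxp : ∃ k : ℕ, x ^ p ^ k = 1 := pow_eq_one_of_nilpotent (by
    rw [hxval, add_sub_cancel_left]; exact shift_nilpotent)
  obtain ⟨k, hk⟩ := hxp
  have hyp : y ^ p ^ k = 1 := by rw [hy, conj_pow, hk, mul_one, mul_inv_cancel]
  have hZ := center_le_stabLine hxv hker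
  have hM : stabIn G v ≠ ⊤ := fun e => stabLine_single_ne_top (F := F) h10
    ((mem_stabIn G hZ (a := toG ⟨transvection i1 i0 1, det_transvection_of_ne i1 i0 h10 1⟩) rfl).1
      (e ▸ Subgroup.mem_top _))
  refine h.false_of_no_common hM (x := toG xs) (y := toG (hs * xs * hs⁻¹)) ?_ ?_ ?_
  · intro A hA hxA
    exact le_stabIn G hZ (le_stabLine hv0 hxv hker ⟨k, hk⟩ _ (lift_isNilpotent G A hA)
      ((mem_lift G rfl).2 hxA))
  · intro A hA hyA
    refine le_stabIn G hZ (le_stabLine hv0 hyv hyker ⟨k, hyp⟩ _ (lift_isNilpotent G A hA)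
      ((mem_lift G (a := toG (hs * xs * hs⁻¹)) ?_).2 hyA))
    rw [hy]; simp [toG, hx, hhh]
  · intro A hA hxA hyA
    -- otherwise `x * y` would be unipotent
    have hxL : x ∈ lift G A := (mem_lift G rfl).2 hxA
    have hyL : y ∈ lift G A := by
      refine (mem_lift G (a := toG (hs * xs * hs⁻¹)) ?_).2 hyA
      rw [hy]; simp [toG, hx, hhh]
    haveI := lift_isNilpotent G A hA
    let Q : Sylow p ↥(lift G A) := default
    haveI : (Q : Subgroup ↥(lift G A)).Normal :=
      Sylow.normal_of_normalizerCondition Group.normalizerCondition_of_isNilpotent Q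
    haveI := Sylow.unique_of_normal Q inferInstance
    have hmemQ : ∀ z : ↥(lift G A), (z : GL (Fin n) F) ^ p ^ k = 1 → z ∈ (Q : Subgroup _) := by
      intro z hz
      obtain ⟨i, -, hi⟩ := (Nat.dvd_prime_pow hp).1
        (orderOf_dvd_of_pow_eq_one (show z ^ p ^ k = 1 from Subtype.ext hz))
      obtain ⟨Q', hQ'⟩ := (IsPGroup.of_card (n := i) (by rw [Nat.card_zpowers, hi]) :
        IsPGroup p (Subgroup.zpowers z)).exists_le_sylow
      exact (Subsingleton.elim Q' Q) ▸ hQ' (Subgroup.mem_zpowers z)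
    obtain ⟨j, hj⟩ := Q.2 ⟨_, mul_mem (hmemQ ⟨x, hxL⟩ hk) (hmemQ ⟨y, hyL⟩ hyp)⟩
    have hj' : ((x * y : GL (Fin n) F) : Matrix (Fin n) (Fin n) F) ^ p ^ j = 1 := by
      have := congrArg (fun t : ↥(Q : Subgroup ↥(lift G A)) =>
        (((t : ↥(lift G A)) : GL (Fin n) F) : Matrix (Fin n) (Fin n) F)) hj
      simpa using this
    have hnil : IsNilpotent (((x * y : GL (Fin n) F) : Matrix (Fin n) (Fin n) F) - 1) := by
      refine ⟨p ^ j, ?_⟩
      rw [sub_pow_char_pow_of_commute (p := p) _ (Commute.one_right _), one_pow, hj', sub_self]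
    have htr := (Matrix.isNilpotent_trace_of_isNilpotent hnil).eq_zero
    have hEE : E * E = 0 := by
      rw [hE, Matrix.single_mul_single_of_ne]; exact h21.symm
    have hinv : ((hh⁻¹ : GL (Fin n) F) : Matrix (Fin n) (Fin n) F) = 1 - E := by
      refine Units.inv_eq_of_mul_eq_one_right ?_
      rw [hhval, mul_sub, mul_one, add_mul, one_mul, hEE, add_zero, add_sub_cancel_right]
    have hexp : ((x * y : GL (Fin n) F) : Matrix (Fin n) (Fin n) F) - 1 =
        N + ((1 + E) * N * (1 - E)) + N * ((1 + E) * N * (1 - E)) := by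
      rw [hy, Units.val_mul, Units.val_mul, Units.val_mul, hxval, hhval, hinv]
      have : (1 + E) * (1 + N) * (1 - E) = 1 + (1 + E) * N * (1 - E) := by
        rw [mul_add, add_mul, mul_one, mul_sub, mul_one, add_mul, one_mul, hEE, add_zero,
          add_sub_cancel_right]
      rw [this]
      noncomm_ring
    have htrE : ∀ X : Matrix (Fin n) (Fin n) F, Matrix.trace (E * X) = X i1 i2 := by
      intro X
      rw [hE, Matrix.trace]
      rw [Finset.sum_eq_single i2]
      · simp
      · intro b _ hb; simp [hb]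
      · simp
    have hN12 : N i1 i2 = 1 := by simp [hN, shift, i1, i2]
    have hNN : (N * N) i1 i2 = 0 := by
      by_contra h0
      rw [← pow_two, hN] at h0
      have := shift_pow 2 i1 i2 h0
      simp [i1, i2] at this
    have hNEN : (N * E * N) i1 i2 = 1 := by
      rw [Matrix.mul_apply, Finset.sum_eq_single i1]
      · rw [hE, Matrix.mul_single_apply_same, mul_one, hN12, mul_one]
      · intro b _ hb
        rw [hE, Matrix.mul_single_apply_of_ne (hbj := hb), zero_mul]
      · simp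
    have hmain : Matrix.trace (N * ((1 + E) * N * (1 - E))) = -1 := by
      have e : N * ((1 + E) * N * (1 - E)) = N * N + N * E * N - N * N * E - N * E * N * E := by
        noncomm_ring
      rw [e, Matrix.trace_sub, Matrix.trace_sub, Matrix.trace_add,
        Matrix.trace_mul_comm (N * E) N, ← Matrix.mul_assoc,
        Matrix.trace_mul_comm (N * N) E, Matrix.trace_mul_comm (N * E * N) E, htrE, htrE, hNN,
        hNEN]
      have : Matrix.trace (N * N) = 0 :=
        (Matrix.isNilpotent_trace_of_isNilpotent ((Commute.refl N).isNilpotent_mul_left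
          (shift_nilpotent (F := F) (n := n)))).eq_zero
      rw [this]
      ring
    have hconj : Matrix.trace ((1 + E) * N * (1 - E)) = 0 := by
      rw [Matrix.trace_mul_comm, ← Matrix.mul_assoc]
      have : (1 - E) * (1 + E) = 1 := by
        rw [mul_add, mul_one, sub_mul, one_mul, hEE, sub_zero, sub_add_cancel]
      rw [this, one_mul, hN, trace_shift]
    rw [hexp, Matrix.trace_add, Matrix.trace_add, hN, trace_shift, ← hN, hconj, hmain, zero_add,
      zero_add] at htr
    exact one_ne_zero (neg_eq_zero.1 htr)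

/-- The transvection fixing `v`. -/
def uv (v : Fin 2 → F) : SpecialLinearGroup (Fin 2) F :=
  ⟨!![1 - v 0 * v 1, v 0 ^ 2; -(v 1 ^ 2), 1 + v 0 * v 1], by
    rw [Matrix.det_fin_two_of]; ring⟩

theorem uv_val (v : Fin 2 → F) :
    ((uv v : SpecialLinearGroup (Fin 2) F) : Matrix (Fin 2) (Fin 2) F) =
      !![1 - v 0 * v 1, v 0 ^ 2; -(v 1 ^ 2), 1 + v 0 * v 1] := rfl

theorem uv_fix (v : Fin 2 → F) :
    ((SpecialLinearGroup.toGL (uv v) : GL (Fin 2) F) : Matrix (Fin 2) (Fin 2) F) *ᵥ v = v := by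
  funext i
  fin_cases i <;> simp [uv_val, Matrix.mulVec, dotProduct, Fin.sum_univ_two] <;> ring

theorem uv_ker {v : Fin 2 → F} (hv : v ≠ 0) (w : Fin 2 → F)
    (hw : ((SpecialLinearGroup.toGL (uv v) : GL (Fin 2) F) : Matrix (Fin 2) (Fin 2) F) *ᵥ w = w) :
    ∃ c : F, w = c • v := by
  have h0 := congrFun hw 0
  have h1 := congrFun hw 1
  simp [uv_val, Matrix.mulVec, dotProduct, Fin.sum_univ_two] at h0 h1
  have hd : v 0 * w 1 = v 1 * w 0 := by
    have e0 : v 0 * (v 0 * w 1 - v 1 * w 0) = 0 := by linear_combination h0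
    have e1 : v 1 * (v 0 * w 1 - v 1 * w 0) = 0 := by linear_combination h1
    rcases mul_eq_zero.1 e0 with h | h
    · rcases mul_eq_zero.1 e1 with h' | h'
      · exact absurd (funext fun i => by fin_cases i <;> simp [h, h']) hv
      · exact sub_eq_zero.1 h'
    · exact sub_eq_zero.1 h
  by_cases ha : v 0 = 0
  · have hb : v 1 ≠ 0 := fun e => hv (funext fun i => by fin_cases i <;> simp [ha, e])
    have hw0 : w 0 = 0 := by
      rw [ha, zero_mul] at hd
      exact (mul_eq_zero.1 hd.symm).resolve_left hb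
    refine ⟨w 1 / v 1, funext fun i => ?_⟩
    fin_cases i <;> simp [ha, hw0, hb]
  · refine ⟨w 0 / v 0, funext fun i => ?_⟩
    fin_cases i
    · simp [ha]
    · simp only [Fin.mk_one, Pi.smul_apply, smul_eq_mul, Fin.isValue]
      field_simp
      linear_combination hd

theorem uv_nilpotent (v : Fin 2 → F) : IsNilpotent
    (((SpecialLinearGroup.toGL (uv v) : GL (Fin 2) F) : Matrix (Fin 2) (Fin 2) F) - 1) := by
  refine ⟨2, ?_⟩
  rw [pow_two]
  ext i j
  fin_cases i <;> fin_cases j <;> simp [uv_val, Matrix.mul_apply, Fin.sum_univ_two] <;> ring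

/-- The diagonal element with entries `a`, `a⁻¹`. -/
def dg : Fˣ →* SpecialLinearGroup (Fin 2) F where
  toFun a := ⟨!![(a : F), 0; 0, (a : F)⁻¹], by rw [Matrix.det_fin_two_of]; simp⟩
  map_one' := by
    apply Subtype.ext
    ext i j
    fin_cases i <;> fin_cases j <;> simp
  map_mul' a b := by
    apply Subtype.ext
    show !![((a * b : Fˣ) : F), 0; 0, ((a * b : Fˣ) : F)⁻¹] =
      !![(a : F), 0; 0, (a : F)⁻¹] * !![(b : F), 0; 0, (b : F)⁻¹]
    ext i j
    fin_cases i <;> fin_cases j <;>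
      simp [Matrix.mul_apply, Fin.sum_univ_two, mul_comm]

theorem dg_val (a : Fˣ) :
    ((dg a : SpecialLinearGroup (Fin 2) F) : Matrix (Fin 2) (Fin 2) F) =
      !![(a : F), 0; 0, (a : F)⁻¹] := rfl

theorem eq_diag_of_commute {a : Fˣ} (ha : a * a ≠ 1) {g : GL (Fin 2) F}
    (hc : g * SpecialLinearGroup.toGL (dg a) = SpecialLinearGroup.toGL (dg a) * g) :
    (g : Matrix (Fin 2) (Fin 2) F) 0 1 = 0 ∧ (g : Matrix (Fin 2) (Fin 2) F) 1 0 = 0 := by
  have hne : (a : F) ≠ (a : F)⁻¹ := fun e => ha <| Units.ext <| by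
    have := congrArg (fun t => (a : F) * t) e
    simpa using this
  have h := congrArg (fun t : GL (Fin 2) F => (t : Matrix (Fin 2) (Fin 2) F)) hc
  simp only [Units.val_mul] at h
  have h01 := congrFun (congrFun h 0) 1
  have h10 := congrFun (congrFun h 1) 0
  simp [dg_val, Matrix.mul_apply, Fin.sum_univ_two] at h01 h10
  constructor
  · rw [mul_comm, ← sub_eq_zero, ← sub_mul] at h01
    exact (mul_eq_zero.1 h01).resolve_left (sub_ne_zero.2 hne.symm)
  · rw [mul_comm, ← sub_eq_zero, ← sub_mul] at h10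
    exact (mul_eq_zero.1 h10).resolve_left (sub_ne_zero.2 hne)

theorem orderOf_dg (a : Fˣ) :
    orderOf (SpecialLinearGroup.toGL (dg a) : GL (Fin 2) F) = orderOf a := by
  refine orderOf_injective (SpecialLinearGroup.toGL.comp dg) ?_ a
  intro s t e
  have := congrArg (fun g : GL (Fin 2) F => (g : Matrix (Fin 2) (Fin 2) F) 0 0) e
  exact Units.ext (by simpa [dg_val] using this)

/-- Nilpotent subgroups containing `dg a` (`a` of odd prime order) are diagonal. -/
theorem le_diagonal [Finite F] {r : ℕ} [Fact r.Prime] (hr2 : r ≠ 2) {a : Fˣ} (ha : orderOf a = r)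
    (A : Subgroup (GL (Fin 2) F)) (hA : Group.IsNilpotent A)
    (hyA : SpecialLinearGroup.toGL (dg a) ∈ A) :
    A ≤ Subgroup.centralizer ({SpecialLinearGroup.toGL (dg a)} : Set (GL (Fin 2) F)) := by
  set y : GL (Fin 2) F := SpecialLinearGroup.toGL (dg a) with hy
  have hr := (Fact.out : r.Prime)
  have haa : a * a ≠ 1 := fun e => by
    have := orderOf_dvd_of_pow_eq_one (show a ^ 2 = 1 by rw [pow_two, e])
    rw [ha] at this
    exact hr2 ((Nat.prime_dvd_prime_iff_eq hr Nat.prime_two).1 this)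
  have hane : (a : F) ≠ (a : F)⁻¹ := fun e => haa <| Units.ext <| by
    have := congrArg (fun t => (a : F) * t) e
    simpa using this
  haveI := hA
  have hyo : orderOf y = r := by rw [hy, orderOf_dg, ha]
  refine CfsgLib.Coprime.le_of_forall_sylow_le fun q hq Q => ?_
  haveI := Fact.mk hq
  rintro _ ⟨b, hb, rfl⟩
  by_cases hqr : q = r
  · subst hqr
    haveI : (Q : Subgroup A).Normal :=
      Sylow.normal_of_normalizerCondition Group.normalizerCondition_of_isNilpotent Q
    haveI := Sylow.unique_of_normal Q inferInstance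
    obtain ⟨Q', hQ'⟩ := (IsPGroup.of_card (n := 1) (by
      rw [Nat.card_zpowers, Subgroup.orderOf_mk, hyo, pow_one]) :
      IsPGroup q (Subgroup.zpowers (⟨y, hyA⟩ : A))).exists_le_sylow
    have hyQ : (⟨y, hyA⟩ : A) ∈ (Q : Subgroup A) :=
      (Subsingleton.elim Q' Q) ▸ hQ' (Subgroup.mem_zpowers _)
    let ι : ↥(Q : Subgroup A) →* GL (Fin 2) F := A.subtype.comp (Q : Subgroup A).subtype
    let H : Subgroup ↥(Q : Subgroup A) := (Subgroup.centralizer ({y} : Set _)).comap ι
    suffices hH : H = ⊤ by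
      have : (⟨b, hb⟩ : ↥(Q : Subgroup A)) ∈ H := hH ▸ Subgroup.mem_top _
      exact this
    by_contra hne
    haveI : Group.IsNilpotent ↥(Q : Subgroup A) := Q.2.isNilpotent
    obtain ⟨g, hgN, hgH⟩ := SetLike.exists_of_lt
      (Group.normalizerCondition_of_isNilpotent H (lt_top_iff_ne_top.2 hne))
    have hyH : (⟨⟨y, hyA⟩, hyQ⟩ : ↥(Q : Subgroup A)) ∈ H :=
      Subgroup.mem_centralizer_singleton_iff.2 rfl
    have hc := (Subgroup.mem_normalizer_iff.1 hgN _).1 hyH
    set g' : GL (Fin 2) F := ι g with hg'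
    have hc' : (g' * y * g'⁻¹) * y = y * (g' * y * g'⁻¹) := by
      have := Subgroup.mem_centralizer_singleton_iff.1 (show ι _ ∈ _ from hc)
      rw [map_mul, map_mul, map_inv] at this
      exact this
    obtain ⟨d01, d10⟩ := eq_diag_of_commute haa hc'
    set D := g' * y * g'⁻¹ with hD
    have hDg : D * g' = g' * y := by rw [hD]; group
    have hmat := congrArg (fun t : GL (Fin 2) F => (t : Matrix (Fin 2) (Fin 2) F)) hDg
    simp only [Units.val_mul] at hmat
    have e00 := congrFun (congrFun hmat 0) 0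
    have e01 := congrFun (congrFun hmat 0) 1
    have e10 := congrFun (congrFun hmat 1) 0
    have e11 := congrFun (congrFun hmat 1) 1
    simp [hy, dg_val, Matrix.mul_apply, Fin.sum_univ_two, d01, d10] at e00 e01 e10 e11
    have hdet : (g' : Matrix (Fin 2) (Fin 2) F).det ≠ 0 :=
      ((Matrix.isUnit_iff_isUnit_det _).1 g'.isUnit).ne_zero
    rw [Matrix.det_fin_two] at hdet
    set p00 := (g' : Matrix (Fin 2) (Fin 2) F) 0 0
    set p01 := (g' : Matrix (Fin 2) (Fin 2) F) 0 1
    set p10 := (g' : Matrix (Fin 2) (Fin 2) F) 1 0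
    set p11 := (g' : Matrix (Fin 2) (Fin 2) F) 1 1
    set D0 := (D : Matrix (Fin 2) (Fin 2) F) 0 0
    set D1 := (D : Matrix (Fin 2) (Fin 2) F) 1 1
    apply hgH
    show ι g ∈ Subgroup.centralizer ({y} : Set (GL (Fin 2) F))
    rw [Subgroup.mem_centralizer_singleton_iff, ← hg']
    -- `g'` is diagonal or antidiagonal; the latter has even order
    by_cases h10 : p10 = 0
    · have h00 : p00 ≠ 0 := fun e => hdet (by rw [h10, e]; ring)
      have hD0 : D0 = (a : F) := mul_right_cancel₀ h00 (by linear_combination e00)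
      have h01 : p01 = 0 := by
        have : p01 * ((a : F) - (a : F)⁻¹) = 0 := by
          rw [hD0] at e01; linear_combination e01
        exact (mul_eq_zero.1 this).resolve_right (sub_ne_zero.2 hane)
      apply Units.ext
      ext i j
      simp only [Units.val_mul]
      fin_cases i <;> fin_cases j <;> simp [hy, dg_val, Matrix.mul_apply, Fin.sum_univ_two] <;>
        simp [p00, p01, p10, p11, h10, h01] at * <;> simp [*, mul_comm]
    · exfalso
      have hD1 : D1 = (a : F) := mul_right_cancel₀ h10 (by linear_combination e10)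
      have h11 : p11 = 0 := by
        have : p11 * ((a : F) - (a : F)⁻¹) = 0 := by
          rw [hD1] at e11; linear_combination e11
        exact (mul_eq_zero.1 this).resolve_right (sub_ne_zero.2 hane)
      have h01 : p01 ≠ 0 := fun e => hdet (by rw [h11, e]; ring)
      have hD0 : D0 = (a : F)⁻¹ := mul_right_cancel₀ h01 (by linear_combination e01)
      have h00 : p00 = 0 := by
        have : p00 * ((a : F) - (a : F)⁻¹) = 0 := by
          rw [hD0] at e00; linear_combination -e00
        exact (mul_eq_zero.1 this).resolve_right (sub_ne_zero.2 hane)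
      have hg2 : g' * g' * y = y * (g' * g') := by
        apply Units.ext
        ext i j
        simp only [Units.val_mul]
        fin_cases i <;> fin_cases j <;> simp [hy, dg_val, Matrix.mul_apply, Fin.sum_univ_two] <;>
          simp [p00, p01, p10, p11, h00, h11] at * <;> simp [*, mul_comm, mul_left_comm]
      obtain ⟨i, hi⟩ := IsPGroup.iff_orderOf.1 Q.2 g
      have hio : orderOf g' = q ^ i := by
        rw [hg', orderOf_injective ι (A.subtype_injective.comp (Subgroup.subtype_injective _)), hi]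
      have hco : Nat.Coprime 2 (orderOf g') := by
        rw [hio]
        exact Nat.Coprime.pow_right i ((Nat.coprime_primes Nat.prime_two hq).2 (Ne.symm hr2))
      obtain ⟨s, hs⟩ := exists_pow_eq_self_of_coprime hco
      have hcm : Commute (g' * g') y := hg2
      have : g' * y = y * g' := by
        rw [← hs, pow_two]
        exact (hcm.pow_left s).eq
      have h := (eq_diag_of_commute haa this).2
      exact h10 h
  · obtain ⟨i, hi⟩ := IsPGroup.iff_orderOf.1 Q.2 ⟨b, hb⟩
    rw [Subgroup.orderOf_mk] at hi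
    refine Subgroup.mem_centralizer_singleton_iff.2 (congrArg Subtype.val
      (CfsgLib.NilpotentSubgroups.commute_of_orderOf_coprime (x := b) (y := ⟨y, hyA⟩) ?_).eq)
    rw [hi, Subgroup.orderOf_mk, hyo]
    exact Nat.Coprime.pow_left i ((Nat.coprime_primes hq hr).2 hqr)

/-- An element with no fixed line commutes with an element of order `r`, for a prime `r ∣ q + 1`. -/
theorem exists_commute_order [Fintype F] {r : ℕ} [Fact r.Prime] (hr : r ∣ Fintype.card F + 1)
    {g : GL (Fin 2) F}
    (hg : ∀ v : Fin 2 → F, v ≠ 0 → g ∉ stabLine v) :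
    ∃ h : GL (Fin 2) F, h * g = g * h ∧ orderOf h = r := by
  classical
  set M := (g : Matrix (Fin 2) (Fin 2) F) with hM
  have hM10 : M 1 0 ≠ 0 := by
    intro e
    refine hg (Pi.single 0 1) (fun h => by simpa using congrFun h 0) ⟨M 0 0, ?_⟩
    funext i
    fin_cases i <;> simp [Matrix.mulVec, dotProduct, Fin.sum_univ_two, ← hM, e]
  let C := Subgroup.centralizer ({g} : Set (GL (Fin 2) F))
  let col : C → {v : Fin 2 → F // v ≠ 0} := fun m =>
    ⟨fun i => ((m : GL (Fin 2) F) : Matrix (Fin 2) (Fin 2) F) i 0, fun e => by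
      have hd := ((Matrix.isUnit_iff_isUnit_det _).1 (m : GL (Fin 2) F).isUnit).ne_zero
      apply hd
      rw [Matrix.det_fin_two]
      have h0 := congrFun e 0
      have h1 := congrFun e 1
      simp only [Pi.zero_apply] at h0 h1
      rw [h0, h1]; ring⟩
  have hcol : Function.Bijective col := by
    constructor
    · intro m m' e
      have e' := congrArg Subtype.val e
      have h0 := congrFun e' 0
      have h1 := congrFun e' 1
      simp only [col] at h0 h1
      have hm := congrArg (fun t : GL (Fin 2) F => (t : Matrix (Fin 2) (Fin 2) F))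
        (Subgroup.mem_centralizer_singleton_iff.1 m.2)
      have hm' := congrArg (fun t : GL (Fin 2) F => (t : Matrix (Fin 2) (Fin 2) F))
        (Subgroup.mem_centralizer_singleton_iff.1 m'.2)
      simp only [Units.val_mul, ← hM] at hm hm'
      have key : ∀ i, ((m : GL (Fin 2) F) : Matrix (Fin 2) (Fin 2) F) i 1 =
          ((m' : GL (Fin 2) F) : Matrix (Fin 2) (Fin 2) F) i 1 := by
        intro i
        have a1 := congrFun (congrFun hm i) 0
        have a2 := congrFun (congrFun hm' i) 0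
        simp only [Matrix.mul_apply, Fin.sum_univ_two] at a1 a2
        rw [h0, h1] at a1
        fin_cases i <;> simp only [Fin.zero_eta, Fin.mk_one, Fin.isValue] at a1 a2 ⊢ <;>
          refine mul_right_cancel₀ hM10 ?_ <;>
          first
          | linear_combination a1 - a2 - M 0 0 * h0
          | linear_combination a1 - a2 - M 0 0 * h1
      apply Subtype.ext
      apply Units.ext
      ext i j
      fin_cases j
      · fin_cases i <;> assumption
      · exact key i
    · rintro ⟨w, hw⟩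
      set t := w 1 / M 1 0 with ht
      set s := w 0 - t * M 0 0 with hs
      set X : Matrix (Fin 2) (Fin 2) F := s • 1 + t • M with hX
      have hdet : X.det ≠ 0 := by
        intro h0
        obtain ⟨u, hu, hu0⟩ := Matrix.exists_mulVec_eq_zero_iff.2 h0
        rw [hX, add_mulVec, smul_mulVec, smul_mulVec, one_mulVec] at hu0
        by_cases ht0 : t = 0
        · rw [ht0, zero_smul, add_zero] at hu0
          have hs0 := (smul_eq_zero.1 hu0).resolve_right hu
          refine hw (funext fun i => ?_)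
          have hw1 : w 1 = 0 := by
            rw [ht] at ht0
            exact (div_eq_zero_iff.1 ht0).resolve_right hM10
          have hw0 : w 0 = 0 := by rw [hs, ht0, zero_mul, sub_zero] at hs0; exact hs0
          fin_cases i <;> simp [hw0, hw1]
        · refine hg u hu ⟨-s / t, funext fun i => ?_⟩
          have := congrFun hu0 i
          simp only [Pi.add_apply, Pi.smul_apply, smul_eq_mul, Pi.zero_apply] at this ⊢
          rw [← hM]
          field_simp
          linear_combination this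
      refine ⟨⟨Matrix.GeneralLinearGroup.mkOfDetNeZero X hdet,
        Subgroup.mem_centralizer_singleton_iff.2 (Units.ext ?_)⟩, ?_⟩
      · show X * M = M * X
        rw [hX, add_mul, mul_add, smul_mul_assoc, mul_smul_comm, smul_mul_assoc, mul_smul_comm,
          one_mul, mul_one]
      · apply Subtype.ext
        funext i
        show X i 0 = w i
        fin_cases i <;> simp [hX, hs, ht, hM10]
  have hcard : Nat.card C = Fintype.card F ^ 2 - 1 := by
    rw [Nat.card_eq_of_bijective col hcol, Nat.card_eq_fintype_card, Fintype.card_subtype_compl,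
      Fintype.card_subtype_eq, Fintype.card_fun, Fintype.card_fin]
  have hrC : r ∣ Nat.card C := by
    rw [hcard, show Fintype.card F ^ 2 - 1 = (Fintype.card F + 1) * (Fintype.card F - 1) from by
      simpa using Nat.sq_sub_sq (Fintype.card F) 1]
    exact hr.mul_right _
  obtain ⟨⟨h, hh⟩, ho⟩ := exists_prime_orderOf_dvd_card' r hrC
  rw [Subgroup.orderOf_mk] at ho
  exact ⟨h, Subgroup.mem_centralizer_singleton_iff.1 hh, ho⟩

theorem no_cover_two [Fintype F] (hq : 4 ≤ Fintype.card F)
    (G : Subgroup (GL (Fin 2) F ⧸ Subgroup.center (GL (Fin 2) F)))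
    (hG : ((SpecialLinearGroup.toGL : SpecialLinearGroup (Fin 2) F →* GL (Fin 2) F).range).map
      (π F 2) ≤ G) : ¬ ∃ 𝓐 : Finset (Subgroup ↥G), CfsgLib.Struct76.MinNilCover 𝓐 := by
  classical
  rintro ⟨𝓐, hcov⟩
  obtain ⟨p, hpc⟩ := CharP.exists F
  haveI := hpc
  obtain ⟨f, hp, hqp⟩ := FiniteField.card F p
  haveI := Fact.mk hp
  have hU : Nat.card Fˣ = Fintype.card F - 1 := by
    rw [Nat.card_units, Nat.card_eq_fintype_card]
  let toG : SpecialLinearGroup (Fin 2) F →* G :=
    ((π F 2).comp SpecialLinearGroup.toGL).codRestrict G fun s => hG ⟨_, ⟨s, rfl⟩, rfl⟩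
  have huvp : ∀ v : Fin 2 → F, ∃ k : ℕ,
      (SpecialLinearGroup.toGL (uv v) : GL (Fin 2) F) ^ p ^ k = 1 :=
    fun v => pow_eq_one_of_nilpotent (uv_nilpotent v)
  have hZ : ∀ v : Fin 2 → F, v ≠ 0 → Subgroup.center (GL (Fin 2) F) ≤ stabLine v :=
    fun v hv => center_le_stabLine (uv_fix v) (uv_ker hv)
  have hM : ∀ v : Fin 2 → F, v ≠ 0 → stabIn G v ≠ ⊤ := by
    intro v hv e
    have hall : ∀ s : SpecialLinearGroup (Fin 2) F,
        (SpecialLinearGroup.toGL s : GL (Fin 2) F) ∈ stabLine v := fun s =>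
      (mem_stabIn G (hZ v hv) (a := toG s) rfl).1 (e ▸ Subgroup.mem_top _)
    obtain ⟨c, hc⟩ := hall ⟨transvection 0 1 1, det_transvection_of_ne 0 1 (by decide) 1⟩
    obtain ⟨d, hd⟩ := hall ⟨transvection 1 0 1, det_transvection_of_ne 1 0 (by decide) 1⟩
    change transvection 0 1 1 *ᵥ v = c • v at hc
    change transvection 1 0 1 *ᵥ v = d • v at hd
    have eu : transvection (0 : Fin 2) 1 (1 : F) *ᵥ v = ![v 0 + v 1, v 1] := by
      funext i
      fin_cases i <;> simp [transvection, Matrix.mulVec, dotProduct, Fin.sum_univ_two]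
    have el : transvection (1 : Fin 2) 0 (1 : F) *ᵥ v = ![v 0, v 0 + v 1] := by
      funext i
      fin_cases i <;> simp [transvection, Matrix.mulVec, dotProduct, Fin.sum_univ_two]
    rw [eu] at hc
    rw [el] at hd
    have c0 : v 0 + v 1 = c * v 0 := congrFun hc 0
    have c1 : v 1 = c * v 1 := congrFun hc 1
    have d1 : v 0 + v 1 = d * v 1 := congrFun hd 1
    have hv1 : v 1 = 0 := by
      by_contra hne
      have hc1 : c = 1 := mul_right_cancel₀ hne (by linear_combination -c1)
      rw [hc1, one_mul, add_eq_left] at c0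
      exact hne c0
    have hv00 : v 0 = 0 := by
      rw [hv1, mul_zero, add_zero] at d1
      exact d1
    exact hv (funext fun i => by fin_cases i <;> simp [hv00, hv1])
  -- containers of unipotent elements
  have hcont : ∀ v : Fin 2 → F, v ≠ 0 → ∀ A : Subgroup G, Group.IsNilpotent A →
      toG (uv v) ∈ A → A ≤ stabIn G v := fun v hv A hA hxA =>
    le_stabIn G (hZ v hv) (le_stabLine hv (uv_fix v) (uv_ker hv) (huvp v) _
      (lift_isNilpotent G A hA) ((mem_lift G rfl).2 hxA))
  by_cases hr : ∃ r : ℕ, r.Prime ∧ r ≠ 2 ∧ r ∣ Fintype.card F - 1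
  · -- an odd prime divides `q - 1`
    obtain ⟨r, hr, hr2, hrq⟩ := hr
    haveI := Fact.mk hr
    obtain ⟨a, ha⟩ := exists_prime_orderOf_dvd_card' (G := Fˣ) r (hU ▸ hrq)
    set v : Fin 2 → F := Pi.single 0 1 with hv
    have hv0 : v ≠ 0 := fun e => by simpa [hv] using congrFun e 0
    have haa : a * a ≠ 1 := fun e => by
      have := orderOf_dvd_of_pow_eq_one (show a ^ 2 = 1 by rw [pow_two, e])
      rw [ha] at this
      exact hr2 ((Nat.prime_dvd_prime_iff_eq hr Nat.prime_two).1 this)
    refine hcov.false_of_no_common (hM v hv0) (x := toG (uv v)) (y := toG (dg a))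
      (hcont v hv0) ?_ ?_
    · intro A hA hyA
      refine le_stabIn G (hZ v hv0) fun g hg => ?_
      have hc := Subgroup.mem_centralizer_singleton_iff.1
        (le_diagonal hr2 ha _ (lift_isNilpotent G A hA) ((mem_lift G rfl).2 hyA) hg)
      have h10 := (eq_diag_of_commute haa hc).2
      refine ⟨(g : Matrix (Fin 2) (Fin 2) F) 0 0, funext fun i => ?_⟩
      fin_cases i <;> simp [hv, Matrix.mulVec, dotProduct, Fin.sum_univ_two, h10]
    · intro A hA hxA hyA
      have hc := Subgroup.mem_centralizer_singleton_iff.1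
        (le_diagonal hr2 ha _ (lift_isNilpotent G A hA) ((mem_lift G rfl).2 hyA)
          ((mem_lift G rfl).2 hxA))
      have h01 := (eq_diag_of_commute haa hc).1
      simp [uv_val, hv] at h01
  -- `q - 1` is a power of two
  push Not at hr
  have hpow : ∀ d : ℕ, d.Prime → d ∣ Fintype.card F - 1 → d = 2 := fun d hd hdd =>
    by_contra fun h2 => hr d hd h2 hdd
  obtain ⟨k, hk⟩ : ∃ k, Fintype.card F - 1 = 2 ^ k :=
    ⟨_, Nat.eq_prime_pow_of_unique_prime_dvd (by omega) (fun {d} hd hdd => hpow d hd hdd)⟩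
  have hk2 : 2 ≤ k := by
    by_contra h
    have := Nat.pow_le_pow_right two_pos (by omega : k ≤ 1)
    rw [pow_one] at this
    omega
  have hp2 : p ≠ 2 := by
    rintro rfl
    have h1 : 2 ∣ Fintype.card F := hqp ▸ dvd_pow_self 2 f.2.ne'
    have h2 : 2 ∣ Fintype.card F - 1 := hk ▸ dvd_pow_self 2 (by omega)
    omega
  obtain ⟨r, hr', hrr⟩ : ∃ r : ℕ, r.Prime ∧ r ∣ 2 ^ (k - 1) + 1 := by
    refine ⟨_, Nat.minFac_prime ?_, Nat.minFac_dvd _⟩
    have := Nat.one_le_two_pow (n := k - 1)
    omega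
  have hkk : 2 ^ k = 2 * 2 ^ (k - 1) := by rw [← pow_succ']; congr 1; omega
  have hrq : r ∣ Fintype.card F + 1 := by
    have : Fintype.card F + 1 = 2 * (2 ^ (k - 1) + 1) := by omega
    exact this ▸ hrr.mul_left 2
  have hr2 : r ≠ 2 := by
    rintro rfl
    obtain ⟨i, hi⟩ := hrr
    have : 2 ∣ 2 ^ (k - 1) := dvd_pow_self 2 (by omega)
    omega
  haveI := Fact.mk hr'
  -- the diagonal element and its container
  obtain ⟨a, ha⟩ := IsCyclic.exists_generator (α := Fˣ)
  have hao : orderOf a = 2 ^ k := by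
    rw [orderOf_eq_card_of_forall_mem_zpowers ha, hU, hk]
  have haa : a * a ≠ 1 := fun e => by
    have := Nat.le_of_dvd two_pos (orderOf_dvd_of_pow_eq_one (show a ^ 2 = 1 by rw [pow_two, e]))
    rw [hao] at this
    have : 2 ^ 2 ≤ 2 ^ k := Nat.pow_le_pow_right two_pos hk2
    omega
  obtain ⟨A, hA, hyA⟩ := hcov.1.2 (toG (dg a))
  haveI := lift_isNilpotent G A (hcov.2.2 A hA)
  have hA2 : ∀ g ∈ lift G A, ∀ d : ℕ, d.Prime → d ≠ 2 → orderOf g ≠ d := by
    intro g hg d hd hd2 hgo
    have hc : g * SpecialLinearGroup.toGL (dg a) = SpecialLinearGroup.toGL (dg a) * g := by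
      refine congrArg Subtype.val (CfsgLib.NilpotentSubgroups.commute_of_orderOf_coprime
        (x := (⟨g, hg⟩ : ↥(lift G A))) (y := ⟨_, (mem_lift G rfl).2 hyA⟩) ?_).eq
      rw [Subgroup.orderOf_mk, Subgroup.orderOf_mk, hgo, orderOf_dg, hao]
      exact Nat.Coprime.pow_right k ((Nat.coprime_primes hd Nat.prime_two).2 hd2)
    obtain ⟨h01, h10⟩ := eq_diag_of_commute haa hc
    have hdet := ((Matrix.isUnit_iff_isUnit_det _).1 g.isUnit).ne_zero
    rw [Matrix.det_fin_two, h01, h10, mul_zero, sub_zero] at hdet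
    have hdiag : (g : Matrix (Fin 2) (Fin 2) F) =
        Matrix.diagonal ![(g : Matrix (Fin 2) (Fin 2) F) 0 0, (g : Matrix (Fin 2) (Fin 2) F) 1 1] := by
      ext i j
      fin_cases i <;> fin_cases j <;> simp [h01, h10]
    have hg1 : g ^ (Fintype.card F - 1) = 1 := by
      apply Units.ext
      rw [Units.val_pow_eq_pow_val, hdiag, Matrix.diagonal_pow, Units.val_one, ← Matrix.diagonal_one]
      congr 1
      funext i
      fin_cases i
      · simpa using FiniteField.pow_card_sub_one_eq_one _ (left_ne_zero_of_mul hdet)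
      · simpa using FiniteField.pow_card_sub_one_eq_one _ (right_ne_zero_of_mul hdet)
    exact hd2 (hpow d hd (hgo ▸ orderOf_dvd_of_pow_eq_one hg1))
  -- the containers of the unipotent elements
  let W := {v : Fin 2 → F // v ≠ 0}
  choose mem hmemA hmem using fun v : W => hcov.1.2 (toG (uv v.1))
  have hle : ∀ v : W, mem v ≤ stabIn G v.1 := fun v =>
    hcont v.1 v.2 _ (hcov.2.2 _ (hmemA v)) (hmem v)
  have huvne : ∀ v : W, (SpecialLinearGroup.toGL (uv v.1) : GL (Fin 2) F) ≠ 1 := by
    intro v e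
    have hmat := congrArg (fun t : GL (Fin 2) F => (t : Matrix (Fin 2) (Fin 2) F)) e
    simp only [Units.val_one] at hmat
    have h01 := congrFun (congrFun hmat 0) 1
    have h10 := congrFun (congrFun hmat 1) 0
    simp [uv_val] at h01 h10
    exact v.2 (funext fun i => by fin_cases i <;> simp [h01, h10])
  have hmemne : ∀ v : W, mem v ≠ A := by
    intro v e
    obtain ⟨i, hi⟩ := huvp v.1
    obtain ⟨j, -, hj⟩ := (Nat.dvd_prime_pow hp).1 (orderOf_dvd_of_pow_eq_one hi)
    rcases j with _ | j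
    · exact huvne v (orderOf_eq_one_iff.1 (by simpa using hj))
    · have hg : SpecialLinearGroup.toGL (uv v.1) ∈ lift G A := (mem_lift G rfl).2 (e ▸ hmem v)
      refine hA2 _ (pow_mem hg (p ^ j)) p hp hp2 ?_
      rw [orderOf_pow_of_dvd (pow_ne_zero _ hp.ne_zero) (hj ▸ pow_dvd_pow p j.le_succ), hj,
        Nat.pow_succ', Nat.mul_div_cancel _ (pow_pos hp.pos j)]
  have hinj : ∀ v w : W, mem v = mem w → stabIn G v.1 = stabIn G w.1 := by
    intro v w e
    have h1 : toG (uv v.1) ∈ stabIn G w.1 := hle w (e ▸ hmem v)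
    obtain ⟨c, hc⟩ := (mem_stabIn G (hZ w.1 w.2) rfl).1 h1
    -- an eigenvector of a unipotent is a fixed vector
    have hc1 : c = 1 := by
      obtain ⟨m, hm⟩ := uv_nilpotent v.1
      have hpw : ∀ i : ℕ, (((SpecialLinearGroup.toGL (uv v.1) : GL (Fin 2) F) :
          Matrix (Fin 2) (Fin 2) F) - 1) ^ i *ᵥ w.1 = (c - 1) ^ i • w.1 := by
        intro i
        induction i with
        | zero => simp
        | succ i ih =>
          rw [pow_succ', ← mulVec_mulVec, ih, mulVec_smul, sub_mulVec, one_mulVec, hc, pow_succ,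
            mul_smul, sub_smul, one_smul]
      have := hpw m
      rw [hm, zero_mulVec] at this
      exact sub_eq_zero.1 (eq_zero_of_pow_eq_zero ((smul_eq_zero.1 this.symm).resolve_right w.2))
    rw [hc1, one_smul] at hc
    obtain ⟨d, hd⟩ := uv_ker v.2 w.1 hc
    have hd0 : d ≠ 0 := fun e0 => w.2 (by rw [hd, e0, zero_smul])
    suffices stabLine v.1 = stabLine w.1 by rw [stabIn, stabIn, this]
    ext g
    simp only [mem_stabLine, hd, mulVec_smul]
    refine exists_congr fun c => ?_
    rw [smul_comm c d, (IsUnit.smul_left_cancel (IsUnit.mk0 d hd0))]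
  let 𝓢 : Finset (Subgroup G) := Finset.univ.image fun v : W => stabIn G v.1
  let 𝓤 : Finset (Subgroup G) := Finset.univ.image mem
  have hcardU : 𝓢.card ≤ 𝓤.card := by
    have hsec : ∀ B ∈ 𝓢, ∃ v : W, stabIn G v.1 = B := fun B hB => by
      simpa [𝓢] using hB
    choose sec hsec using hsec
    refine Finset.card_le_card_of_injOn (fun B => if h : B ∈ 𝓢 then mem (sec B h) else B) ?_ ?_
    · intro B hB
      simp only [Finset.mem_coe] at hB
      simp [hB, 𝓤]
    · intro B hB C hC e
      simp only [Finset.mem_coe] at hB hC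
      simp only [dif_pos hB, dif_pos hC] at e
      rw [← hsec B hB, ← hsec C hC]
      exact hinj _ _ e
  have hUA : 𝓤 ⊆ 𝓐.erase A := by
    intro B hB
    obtain ⟨v, -, rfl⟩ := Finset.mem_image.1 hB
    exact Finset.mem_erase.2 ⟨hmemne v, hmemA v⟩
  -- the smaller cover
  have hnew := hcov.2.1 (((𝓐.erase A) \ 𝓤) ∪ 𝓢) ⟨?_, ?_⟩
  · have h1 := Finset.card_union_le ((𝓐.erase A) \ 𝓤) 𝓢
    rw [Finset.card_sdiff_of_subset hUA, Finset.card_erase_of_mem hA] at h1
    have h2 := Finset.card_le_card hUA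
    rw [Finset.card_erase_of_mem hA] at h2
    have h3 : 0 < 𝓐.card := Finset.card_pos.2 ⟨A, hA⟩
    omega
  · intro B hB
    rcases Finset.mem_union.1 hB with hB | hB
    · exact hcov.1.1 B (Finset.mem_of_mem_erase (Finset.mem_sdiff.1 hB).1)
    · obtain ⟨v, -, rfl⟩ := Finset.mem_image.1 hB
      exact hM v.1 v.2
  intro g
  by_cases hfix : ∃ v : W, g ∈ stabIn G v.1
  · obtain ⟨v, hv⟩ := hfix
    exact ⟨_, Finset.mem_union_right _ (Finset.mem_image_of_mem _ (Finset.mem_univ v)), hv⟩
  push Not at hfix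
  have hsuff : ∀ C ∈ 𝓐, C ≠ A → g ∈ C → ∃ B ∈ ((𝓐.erase A) \ 𝓤) ∪ 𝓢, g ∈ B := by
    intro C hC hne hgC
    refine ⟨C, Finset.mem_union_left _ (Finset.mem_sdiff.2 ⟨Finset.mem_erase.2 ⟨hne, hC⟩, ?_⟩),
      hgC⟩
    intro hU'
    obtain ⟨v, -, rfl⟩ := Finset.mem_image.1 hU'
    exact hfix v (hle v hgC)
  obtain ⟨C, hC, hgC⟩ := hcov.1.2 g
  by_cases hCA : C = A
  swap
  · exact hsuff C hC hCA hgC
  subst hCA
  obtain ⟨g₀, hg₀⟩ := QuotientGroup.mk'_surjective (Subgroup.center (GL (Fin 2) F))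
    (g : GL (Fin 2) F ⧸ Subgroup.center (GL (Fin 2) F))
  have hg₀A : g₀ ∈ lift G C := (mem_lift G hg₀).2 hgC
  obtain ⟨h, hhc, hho⟩ := exists_commute_order hrq (g := g₀) fun v hv hs =>
    hfix ⟨v, hv⟩ ((mem_stabIn G (hZ v hv) hg₀).2 hs)
  -- `h` has determinant one
  have hdet : (h : Matrix (Fin 2) (Fin 2) F).det = 1 := by
    have h1 : (Matrix.GeneralLinearGroup.det h) ^ r = 1 := by
      rw [← map_pow, ← hho, pow_orderOf_eq_one, map_one]
    have h2 : orderOf (Matrix.GeneralLinearGroup.det h) ∣ 2 ^ k := hk ▸ hU ▸ orderOf_dvd_natCard _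
    have h3 := orderOf_eq_one_iff.1 (Nat.eq_one_of_dvd_coprimes
      (Nat.Coprime.pow_right k ((Nat.coprime_primes hr' Nat.prime_two).2 hr2))
      (orderOf_dvd_of_pow_eq_one h1) h2)
    simpa using congrArg (fun u : Fˣ => (u : F)) h3
  have hhG : π F 2 h ∈ G := hG ⟨h, ⟨⟨_, hdet⟩, Units.ext rfl⟩, rfl⟩
  have hghG : π F 2 (g₀ * h) ∈ G := by
    rw [map_mul]; exact mul_mem (by rw [hg₀]; exact g.2) hhG
  obtain ⟨C', hC', hw⟩ := hcov.1.2 ⟨_, hghG⟩
  have hwL : g₀ * h ∈ lift G C' := (mem_lift G (a := ⟨_, hghG⟩) rfl).2 hw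
  -- `g₀` has 2-power order
  obtain ⟨i, hi⟩ : ∃ i, orderOf g₀ = 2 ^ i := by
    refine ⟨_, Nat.eq_prime_pow_of_unique_prime_dvd (orderOf_pos g₀).ne' fun {d} hd hdd => ?_⟩
    by_contra hd2
    exact hA2 _ (pow_mem hg₀A (orderOf g₀ / d)) d hd hd2
      (orderOf_pow_orderOf_div (orderOf_pos g₀).ne' hdd)
  have hco : Nat.Coprime (2 ^ i) (orderOf h) := by
    rw [hho]; exact Nat.Coprime.pow_left i ((Nat.coprime_primes Nat.prime_two hr').2 (Ne.symm hr2))
  have hhL : h ∈ lift G C' := by
    have e : (g₀ * h) ^ 2 ^ i = h ^ 2 ^ i := by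
      rw [(show Commute g₀ h from hhc.symm).mul_pow, ← hi, pow_orderOf_eq_one, one_mul]
    obtain ⟨s, hs⟩ := exists_pow_eq_self_of_coprime hco
    rw [← hs, ← e]
    exact pow_mem (pow_mem hwL _) s
  refine hsuff C' hC' (fun e => hA2 h (e ▸ hhL) r hr' hr2 hho) ?_
  refine (mem_lift G hg₀).1 ?_
  simpa using mul_mem hwL (inv_mem hhL)

/-- A cover of a group is a finite set of proper subgroups whose union is the whole group; it is minimal when no cover has fewer members, and nilpotent when all its members are nilpotent. Let F be a finite field with q elements and n ≥ 3, or n = 2 and q ≥ 4. Then no subgroup of PGL_n(F) = GL_n(F)/Z(GL_n(F)) containing the image of SL_n(F) has a nilpotent minimal cover. -/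
theorem result {F : Type*} [Field F] [Fintype F] (n : ℕ) (hn : 3 ≤ n ∨ (n = 2 ∧ 4 ≤ Fintype.card F))
    (G : Subgroup (GL (Fin n) F ⧸ Subgroup.center (GL (Fin n) F)))
    (hG : ((Matrix.SpecialLinearGroup.toGL : Matrix.SpecialLinearGroup (Fin n) F →* GL (Fin n) F).range).map
      (QuotientGroup.mk' (Subgroup.center (GL (Fin n) F))) ≤ G) :
    ¬ ∃ 𝓐 : Finset (Subgroup ↥G), ((∀ A ∈ 𝓐, A ≠ ⊤) ∧ (∀ g : ↥G, ∃ A ∈ 𝓐, g ∈ A)) ∧ (∀ 𝓑 : Finset (Subgroup ↥G), (∀ A ∈ 𝓑, A ≠ ⊤) ∧ (∀ g : ↥G, ∃ A ∈ 𝓑, g ∈ A) → 𝓐.card ≤ 𝓑.card) ∧ (∀ A ∈ 𝓐, Group.IsNilpotent ↥A) := by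
  rcases hn with hn | ⟨rfl, hq⟩
  · exact no_cover_three hn G hG
  · exact no_cover_two hq G hG

end Cfsg.Agent.S3894
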