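import Cfsg.Statements.S3895
import Cfsg.Agent.Lib.ClassCount.Half

set_option autoImplicit false
open Cfsg

namespace Cfsg.Agent.S3895

/-- Let G be a finite group with Sylow 2-subgroup P, and write k₂(G) for the number of conjugacy classes of G consisting of 2-elements (elements of 2-power order, the identity included). Then k₂(G) > |P|/2 if and only if G has a normal 2-complement and P has more than |P|/2 conjugacy classes. -/
theorem result {G : Type*} [Group G] [Finite G] (P : Sylow 2 G) :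
    Nat.card ↥(P : Subgroup G) < 2 * Nat.card {c : ConjClasses G // ∀ x ∈ c.carrier, ∃ k : ℕ, orderOf x = 2 ^ k} ↔
      Cfsg.HasNormalPComplement 2 G ∧ Nat.card ↥(P : Subgroup G) < 2 * Nat.card (ConjClasses ↥(P : Subgroup G)) := by
  haveI : Fact (Nat.Prime 2) := ⟨Nat.prime_two⟩
  have hpi : ∀ x : G, CfsgLib.ClassCount.PiElt {2} x ↔ ∃ k : ℕ, orderOf x = 2 ^ k := by
    intro x
    constructor
    · intro hx
      exact ⟨_, Nat.eq_prime_pow_of_unique_prime_dvd (orderOf_pos x).ne'
        fun {d} hd hdx => by simpa using hx d hd hdx⟩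
    · rintro ⟨k, hk⟩ r hr hd
      rw [hk] at hd
      simp [(Nat.prime_dvd_prime_iff_eq hr Nat.prime_two).1 (hr.dvd_of_dvd_pow hd)]
  have hk2 : Nat.card {c : ConjClasses G // ∀ x ∈ c.carrier, ∃ k : ℕ, orderOf x = 2 ^ k} =
      CfsgLib.ClassCount.piClassCount {2} G :=
    Nat.card_congr (Equiv.subtypeEquivRight fun c =>
      forall_congr' fun x => imp_congr_right fun _ => (hpi x).symm)
  have key : CfsgLib.Transfer.FrobeniusCond 2 G →
      Nat.card (ConjClasses ↥(P : Subgroup G)) = CfsgLib.ClassCount.piClassCount {2} G := by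
    intro hF
    refine Nat.card_eq_of_bijective (fun c => (⟨ConjClasses.map (P : Subgroup G).subtype c, ?_⟩ :
      {c : ConjClasses G // ∀ x ∈ c.carrier, CfsgLib.ClassCount.PiElt {2} x})) ⟨?_, ?_⟩
    · obtain ⟨x, rfl⟩ := ConjClasses.mk_surjective c
      exact (CfsgLib.ClassCount.forall_carrier_iff (x : G)).mpr
        (CfsgLib.ClassCount.piElt_of_mem_pGroup P.2 x.2)
    · intro c d hcd
      obtain ⟨x, rfl⟩ := ConjClasses.mk_surjective c
      obtain ⟨y, rfl⟩ := ConjClasses.mk_surjective d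
      have h1 : IsConj (x : G) (y : G) :=
        ConjClasses.mk_eq_mk_iff_isConj.mp (congrArg Subtype.val hcd)
      obtain ⟨g, hg⟩ := isConj_iff.mp h1
      obtain ⟨u, hu, hu'⟩ := hF.controls P x x.2 g (by rw [hg]; exact y.2)
      exact ConjClasses.mk_eq_mk_iff_isConj.mpr
        (isConj_iff.mpr ⟨⟨u, hu⟩, Subtype.ext (hu'.trans hg)⟩)
    · rintro ⟨c, hc⟩
      obtain ⟨x, rfl⟩ := ConjClasses.mk_surjective c
      obtain ⟨y, hy, hyx⟩ := CfsgLib.ClassCount.exists_mem_sylow_isConj P
        ((CfsgLib.ClassCount.forall_carrier_iff x).mp hc)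
      exact ⟨ConjClasses.mk ⟨y, hy⟩, Subtype.ext (ConjClasses.mk_eq_mk_iff_isConj.mpr hyx)⟩
  rw [hk2]
  constructor
  · intro h
    have hF := CfsgLib.ClassCount.frobeniusCond_two_of_many (Nat.card G) G le_rfl P h
    exact ⟨CfsgLib.Transfer.hasNormalPComplement_of_frobeniusCond hF, by rw [key hF]; exact h⟩
  · rintro ⟨hc, h⟩
    rwa [key (CfsgLib.Transfer.frobeniusCond_of_hasNormalPComplement hc)] at h

end Cfsg.Agent.S3895
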