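import Cfsg.Statements.S3898
import Cfsg.Agent.Lib.ClassCount.Half

set_option autoImplicit false
open Cfsg

namespace Cfsg.Agent.S3898

/-- Let π be a finite set of primes containing 2 and G a finite group. Write k_π(G) for the number of conjugacy classes of G consisting of π-elements (elements all of whose order's prime divisors lie in π) and |G|_π for the π-part of the order of G. If k_π(G) > |G|_π/2, then G has a normal π-complement (a normal subgroup of order prime to π whose index is a π-number) and an abelian Hall subgroup for the set of odd primes in π. -/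
theorem result {G : Type*} [Group G] [Finite G] (π : Finset ℕ) (hπ : ∀ r ∈ π, r.Prime) (h2 : 2 ∈ π)
    (hk : π.prod (fun r => r ^ (Nat.card G).factorization r) < 2 * Nat.card {c : ConjClasses G // ∀ x ∈ c.carrier, ∀ r : ℕ, r.Prime → r ∣ orderOf x → r ∈ π}) :
    (∃ N : Subgroup G, N.Normal ∧ (∀ r : ℕ, r.Prime → r ∣ Nat.card ↥N → r ∉ π) ∧ ∀ r : ℕ, r.Prime → r ∣ N.index → r ∈ π) ∧ ∃ H : Subgroup G, Cfsg.IsPiHall ((↑π : Set ℕ) \ {2}) H ∧ IsMulCommutative ↥H := by
  classical
  have hk' : CfsgLib.ClassCount.piPart π G < 2 * CfsgLib.ClassCount.piClassCount π G := hk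
  have hbig : ∀ r ∈ π, ∀ (_ : Fact r.Prime) (P : Sylow r G),
      Nat.card (P : Subgroup G) < 2 * CfsgLib.ClassCount.piClassCount {r} G := by
    intro r hr _ P
    have h1 := CfsgLib.ClassCount.piClassCount_ratio π hπ hr P
    set N := CfsgLib.ClassCount.piPart π G
    set n := Nat.card (P : Subgroup G)
    set k := CfsgLib.ClassCount.piClassCount π G
    have hn : 0 < n := Nat.card_pos
    have h2 : N * n < 2 * k * n := Nat.mul_lt_mul_of_pos_right hk' hn
    apply Nat.lt_of_mul_lt_mul_left (a := N)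
    nlinarith [h1, h2]
  have hF := CfsgLib.ClassCount.frobeniusCond_two_of_many (Nat.card G) G le_rfl default
    (hbig 2 h2 ⟨Nat.prime_two⟩ default)
  obtain ⟨P2, N, hN, hc⟩ := CfsgLib.Transfer.hasNormalPComplement_of_frobeniusCond hF
  have hNodd : Odd (Nat.card N) := by
    rw [Nat.odd_iff, ← Nat.two_dvd_ne_zero, ← hc.index_eq_card]
    exact P2.not_dvd_index
  have hquot : IsPGroup 2 (G ⧸ N) := by
    obtain ⟨k, hk2⟩ := P2.2.exists_card_eq
    exact IsPGroup.of_card (n := k) (by rw [← Subgroup.index, hc.symm.index_eq_card, hk2])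
  set σ := π.erase 2 with hσ
  have hσp : ∀ r ∈ σ, r.Prime := fun r hr => hπ r (Finset.mem_of_mem_erase hr)
  have hall : ∀ r ∈ σ, Cfsg.HasNormalPComplement r N ∧
      ∀ P : Sylow r N, IsMulCommutative (P : Subgroup N) := by
    intro r hr
    have : Fact r.Prime := ⟨hσp r hr⟩
    have hr2 : r ≠ 2 := Finset.ne_of_mem_erase hr
    let P : Sylow r G := default
    have hPN : (P : Subgroup G) ≤ N := by
      intro x hx
      refine (QuotientGroup.eq_one_iff x).mp ?_
      obtain ⟨i, hi⟩ := IsPGroup.iff_orderOf.mp hquot (x : G ⧸ N)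
      obtain ⟨j, hj⟩ := IsPGroup.iff_orderOf.mp P.2 ⟨x, hx⟩
      rw [Subgroup.orderOf_mk] at hj
      have hd : orderOf (x : G ⧸ N) ∣ r ^ j := hj ▸ orderOf_map_dvd (QuotientGroup.mk' N) x
      exact orderOf_eq_one_iff.mp (Nat.eq_one_of_dvd_coprimes
        (Nat.Coprime.pow i j ((Nat.coprime_primes Nat.prime_two (hσp r hr)).mpr hr2.symm))
        (dvd_of_eq hi) hd)
    have hcard : ∀ Q : Sylow r N, Nat.card (Q : Subgroup N) = Nat.card (P : Subgroup G) := by
      intro Q
      rw [Q.card_eq_multiplicity, ← (P.subtype hPN).card_eq_multiplicity, Sylow.coe_subtype]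
      exact Nat.card_congr (Subgroup.subgroupOfEquivOfLe hPN).toEquiv
    have hb : ∀ Q : Sylow r N, Nat.card (Q : Subgroup N) <
        2 * CfsgLib.ClassCount.piClassCount {r} N := by
      intro Q
      have h1 := CfsgLib.ClassCount.piClassCount_le_subgroup P N hPN
      have h2 := hbig r (Finset.mem_of_mem_erase hr) inferInstance P
      rw [hcard Q]
      omega
    exact ⟨(CfsgLib.ClassCount.hasNormalPComplement_of_many_odd hNodd default (hb default)).1,
      fun Q => (CfsgLib.ClassCount.hasNormalPComplement_of_many_odd hNodd Q (hb Q)).2⟩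
  obtain ⟨M, H, hM, hM1, hM2, hMH, hab⟩ := CfsgLib.ClassCount.exists_piComplement σ hσp hall
  constructor
  · refine ⟨M.map N.subtype, ⟨fun m hm g => ?_⟩, fun r hr hd hrπ => ?_, fun r hr hd => ?_⟩
    · obtain ⟨⟨m, hmN⟩, hmM, rfl⟩ := hm
      have hmem : g * m * g⁻¹ ∈ N := hN.conj_mem m hmN g
      refine ⟨⟨_, hmem⟩, ?_, rfl⟩
      refine (QuotientGroup.eq_one_iff (⟨_, hmem⟩ : N)).mp ?_
      have hd1 : orderOf (QuotientGroup.mk' M ⟨_, hmem⟩) ∣ Nat.card M := by
        refine (orderOf_map_dvd (QuotientGroup.mk' M) _).trans ?_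
        rw [Subgroup.orderOf_mk]
        have : orderOf (g * m * g⁻¹) = orderOf m := by
          simpa [MulAut.conj_apply] using
            orderOf_injective (MulAut.conj g).toMonoidHom (MulAut.conj g).injective m
        rw [this, ← Subgroup.orderOf_mk m hmN]
        exact Subgroup.orderOf_dvd_natCard _ hmM
      have hd2 : orderOf (QuotientGroup.mk' M ⟨_, hmem⟩) ∣ M.index := orderOf_dvd_natCard _
      exact orderOf_eq_one_iff.mp (Nat.eq_one_of_dvd_coprimes
        (Nat.coprime_of_dvd fun r hr hd hd' => hM1 r hr hd (hM2 r hr hd')) hd1 hd2)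
    · rw [Subgroup.card_map_of_injective N.subtype_injective] at hd
      by_cases h : r = 2
      · subst h
        exact (Nat.not_even_iff_odd.mpr hNodd)
          (even_iff_two_dvd.mpr (hd.trans (Subgroup.card_subgroup_dvd_card M)))
      · exact hM1 r hr hd (Finset.mem_erase.mpr ⟨h, hrπ⟩)
    · rw [Subgroup.index_map_subtype] at hd
      rcases (Nat.Prime.dvd_mul hr).mp hd with h | h
      · exact Finset.mem_of_mem_erase (hM2 r hr h)
      · obtain ⟨k, hk2⟩ := P2.2.exists_card_eq
        rw [hc.symm.index_eq_card, hk2] at h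
        rw [(Nat.prime_dvd_prime_iff_eq hr Nat.prime_two).mp (hr.dvd_of_dvd_pow h)]
        exact h2
  · refine ⟨H.map N.subtype, ⟨fun r hr hd => ?_, fun r hr hrπ hd => ?_⟩, ?_⟩
    · rw [Subgroup.card_map_of_injective N.subtype_injective, ← hMH.symm.index_eq_card] at hd
      have := hM2 r hr hd
      exact ⟨Finset.mem_of_mem_erase this, fun h => Finset.ne_of_mem_erase this h⟩
    · rw [Subgroup.index_map_subtype, hMH.index_eq_card] at hd
      have hrσ : r ∈ σ := Finset.mem_erase.mpr ⟨fun h => hrπ.2 h, hrπ.1⟩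
      rcases (Nat.Prime.dvd_mul hr).mp hd with h | h
      · exact hM1 r hr h hrσ
      · obtain ⟨k, hk2⟩ := P2.2.exists_card_eq
        rw [hc.symm.index_eq_card, hk2] at h
        exact Finset.ne_of_mem_erase hrσ
          ((Nat.prime_dvd_prime_iff_eq hr Nat.prime_two).mp (hr.dvd_of_dvd_pow h))
    · exact H.map_isMulCommutative _

end Cfsg.Agent.S3898
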