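import Cfsg.Statements.S3899
import Cfsg.Agent.Lib.ClassCount.Product

set_option autoImplicit false
open Cfsg

namespace Cfsg.Agent.S3899

/-- Let π be a finite non-empty set of odd primes with smallest member p and G a finite group. Write k_π(G) for the number of conjugacy classes of G consisting of π-elements (elements all of whose order's prime divisors lie in π) and |G|_π for the π-part of the order of G. If k_π(G) > (p + 1)|G|_π/(2p), then G has a normal π-complement (a normal subgroup of order prime to π whose index is a π-number) and an abelian Hall π-subgroup. -/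
theorem result {G : Type*} [Group G] [Finite G] (π : Finset ℕ) (hπ : ∀ r ∈ π, r.Prime) (h2 : 2 ∉ π) (p : ℕ) (hp : p ∈ π)
    (hmin : ∀ r ∈ π, p ≤ r) (hk : (p + 1) * π.prod (fun r => r ^ (Nat.card G).factorization r) < 2 * p * Nat.card {c : ConjClasses G // ∀ x ∈ c.carrier, ∀ r : ℕ, r.Prime → r ∣ orderOf x → r ∈ π}) :
    (∃ N : Subgroup G, N.Normal ∧ (∀ r : ℕ, r.Prime → r ∣ Nat.card ↥N → r ∉ π) ∧ ∀ r : ℕ, r.Prime → r ∣ N.index → r ∈ π) ∧ ∃ H : Subgroup G, Cfsg.IsPiHall (↑π : Set ℕ) H ∧ IsMulCommutative ↥H := by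
  have hk' : (p + 1) * CfsgLib.ClassCount.piPart π G <
      2 * p * CfsgLib.ClassCount.piClassCount π G := hk
  have hall : ∀ r ∈ π, Cfsg.HasNormalPComplement r G ∧
      ∀ P : Sylow r G, IsMulCommutative (P : Subgroup G) := by
    intro r hr
    have : Fact r.Prime := ⟨hπ r hr⟩
    have hbig : ∀ P : Sylow r G, (r + 1) * Nat.card (P : Subgroup G) <
        2 * r * CfsgLib.ClassCount.piClassCount {r} G := by
      intro P
      have h1 := CfsgLib.ClassCount.piClassCount_ratio π hπ hr P
      have hpr := hmin r hr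
      have hp0 : 0 < p := (hπ p hp).pos
      set kp := CfsgLib.ClassCount.piClassCount {r} G
      set k := CfsgLib.ClassCount.piClassCount π G
      set N := CfsgLib.ClassCount.piPart π G
      set n := Nat.card (P : Subgroup G)
      have hn : 0 < n := Nat.card_pos
      have h2 : (p + 1) * N * n < 2 * p * k * n := Nat.mul_lt_mul_of_pos_right hk' hn
      have h3 : 2 * p * k * n ≤ 2 * p * (kp * N) := by
        rw [mul_assoc _ k n]; exact Nat.mul_le_mul_left _ h1
      have h4 : (p + 1) * n < 2 * p * kp := by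
        apply Nat.lt_of_mul_lt_mul_left (a := N)
        nlinarith [h2, h3]
      have h5 : r * ((p + 1) * n) < r * (2 * p * kp) := Nat.mul_lt_mul_of_pos_left h4 (by omega)
      have h6 : p * (r + 1) * n ≤ r * (p + 1) * n := Nat.mul_le_mul_right n (by nlinarith)
      apply Nat.lt_of_mul_lt_mul_left (a := p)
      nlinarith [h5, h6]
    exact ⟨CfsgLib.ClassCount.hasNormalPComplement_of_many default (hbig default),
      fun P => (CfsgLib.ClassCount.sylow_comm_of_many P (hbig P)).1⟩
  obtain ⟨N, H, hN, h1, h2', hc, hab⟩ := CfsgLib.ClassCount.exists_piComplement π hπ hall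
  refine ⟨⟨N, hN, h1, h2'⟩, H, ⟨fun r hr hd => ?_, fun r hr hrπ hd => ?_⟩, hab⟩
  · rw [← hc.symm.index_eq_card] at hd
    exact h2' r hr hd
  · rw [hc.index_eq_card] at hd
    exact h1 r hr hd hrπ

end Cfsg.Agent.S3899
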