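import Cfsg.Statements.S3903
import Mathlib

set_option autoImplicit false
open Cfsg

namespace Cfsg.Agent.S3903

variable {G : Type*} [Group G] [Finite G]

lemma conj_orderOf (g x : G) : orderOf (g * x * g⁻¹) = orderOf x := by
  simpa [MulAut.conj_apply] using
    orderOf_injective (MulAut.conj g).toMonoidHom (MulAut.conj g).injective x

lemma not_primePow_mul {p q : ℕ} (hp : p.Prime) (hq : q.Prime) (hne : q ≠ p) {x n : G}
    (hx1 : x ≠ 1) (hx : ∃ k, orderOf x = p ^ k) (hn : orderOf n = q) (hc : Commute x n) :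
    ¬ IsPrimePow (orderOf (x * n)) := by
  obtain ⟨k, hk⟩ := hx
  have hco : Nat.Coprime (orderOf x) (orderOf n) := by
    rw [hk, hn]; exact Nat.Coprime.pow_left _ ((Nat.coprime_primes hp hq).mpr hne.symm)
  rw [hc.orderOf_mul_eq_mul_orderOf_of_coprime hco]
  intro h
  obtain ⟨r, m, hr, _, hrm⟩ := h
  have hr' : r.Prime := hr.nat_prime
  have h1 : p ∣ r ^ m := by
    rw [hrm, hk]
    have : k ≠ 0 := by
      rintro rfl
      exact hx1 (orderOf_eq_one_iff.mp (by simpa using hk))
    exact Dvd.dvd.mul_right (dvd_pow_self p this) _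
  have h2 : q ∣ r ^ m := by rw [hrm, hn]; exact dvd_mul_left _ _
  exact hne (((Nat.prime_dvd_prime_iff_eq hq hr').mp (hq.dvd_of_dvd_pow h2)).trans
    ((Nat.prime_dvd_prime_iff_eq hp hr').mp (hp.dvd_of_dvd_pow h1)).symm)

lemma isPGroup_of_no_prime_order {p : ℕ} (H : Subgroup G)
    (h : ∀ q : ℕ, q.Prime → q ≠ p → ∀ n ∈ H, orderOf n ≠ q) : IsPGroup p H := by
  apply IsPGroup.of_card (n := (Nat.card H).primeFactorsList.length)
  apply Nat.eq_prime_pow_of_unique_prime_dvd Nat.card_pos.ne'
  intro q hq hqd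
  by_contra hne
  have : Fact q.Prime := ⟨hq⟩
  obtain ⟨n, hn⟩ := exists_prime_orderOf_dvd_card' q hqd
  exact h q hq hne (n : G) n.2 (by rw [Subgroup.orderOf_coe, hn])

lemma not_exists_fixed {p q : ℕ} [Fact p.Prime] (hq : q.Prime) (hne : q ≠ p) (N D : Subgroup G)
    [N.Normal] (hD : IsPGroup p D) (h : ∀ x : G, x ∉ N → IsPrimePow (orderOf x)) {x n : G}
    (hxD : x ∈ D) (hxN : x ∉ N) (hn : n ∈ N) (hnD : n ∈ Subgroup.normalizer (D : Set G))
    (hno : orderOf n = q) : False := by
  have : Fact q.Prime := ⟨hq⟩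
  set α := {d : G // d ∈ D ∧ x⁻¹ * d ∈ N}
  have hclosed : ∀ g ∈ Subgroup.zpowers n, ∀ d : α,
      g * d.1 * g⁻¹ ∈ D ∧ x⁻¹ * (g * d.1 * g⁻¹) ∈ N := by
    intro g hg d
    have hgN : g ∈ N := (Subgroup.zpowers_le.mpr hn) hg
    have hgD : g ∈ Subgroup.normalizer (D : Set G) := (Subgroup.zpowers_le.mpr hnD) hg
    refine ⟨(Subgroup.mem_normalizer_iff.mp hgD d.1).mp d.2.1, ?_⟩
    have h1 : x⁻¹ * g * x ∈ N := by
      simpa using (inferInstance : N.Normal).conj_mem g hgN x⁻¹
    have : x⁻¹ * (g * d.1 * g⁻¹) = (x⁻¹ * g * x) * (x⁻¹ * d.1) * g⁻¹ := by group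
    rw [this]
    exact N.mul_mem (N.mul_mem h1 d.2.2) (N.inv_mem hgN)
  let _ : MulAction (Subgroup.zpowers n) α :=
    { smul := fun g d => ⟨(g : G) * d.1 * (g : G)⁻¹, hclosed g g.2 d⟩
      one_smul := fun d => Subtype.ext (show (1 : G) * d.1 * 1⁻¹ = d.1 by group)
      mul_smul := fun g g' d => Subtype.ext
        (show (g : G) * g' * d.1 * ((g : G) * g')⁻¹ = g * (g' * d.1 * (g' : G)⁻¹) * (g : G)⁻¹ by
          group) }
  have hQ : IsPGroup q (Subgroup.zpowers n) :=
    IsPGroup.of_card (n := 1) (by rw [Nat.card_zpowers, hno, pow_one])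
  let e : α ≃ (D ⊓ N : Subgroup G) :=
    { toFun := fun d => ⟨x⁻¹ * d.1, ⟨D.mul_mem (D.inv_mem hxD) d.2.1, d.2.2⟩⟩
      invFun := fun m => ⟨x * m.1, ⟨D.mul_mem hxD m.2.1, by simpa using m.2.2⟩⟩
      left_inv := fun d => Subtype.ext (by simp)
      right_inv := fun m => Subtype.ext (by simp) }
  have hcard : ¬ q ∣ Nat.card α := by
    rw [Nat.card_congr e]
    obtain ⟨k, hk⟩ := (hD.to_le (inf_le_left : D ⊓ N ≤ D)).exists_card_eq
    rw [hk]
    intro hd
    exact hne ((Nat.prime_dvd_prime_iff_eq hq Fact.out).mp (hq.dvd_of_dvd_pow hd))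
  obtain ⟨d, hd⟩ := hQ.nonempty_fixed_point_of_prime_not_dvd_card α hcard
  have hcomm : n * d.1 * n⁻¹ = d.1 :=
    congrArg Subtype.val (hd ⟨n, Subgroup.mem_zpowers n⟩)
  have hdN : d.1 ∉ N := fun hdN => hxN (by
    have := N.mul_mem hdN (N.inv_mem d.2.2)
    simpa using this)
  have hdn : d.1 * n ∉ N := fun hm => hdN ((Subgroup.mul_mem_cancel_right N hn).mp hm)
  refine not_primePow_mul Fact.out hq hne (fun h1 => hdN (by rw [h1]; exact N.one_mem)) ?_ hno
    (mul_inv_eq_iff_eq_mul.mp hcomm).symm (h _ hdn)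
  obtain ⟨k, hk⟩ := IsPGroup.iff_orderOf.mp hD ⟨d.1, d.2.1⟩
  exact ⟨k, by rw [← Subgroup.orderOf_mk d.1 d.2.1, hk]⟩

lemma isPGroup_centralizer {p : ℕ} [Fact p.Prime] (N : Subgroup G) [N.Normal]
    (h : ∀ x : G, x ∉ N → IsPrimePow (orderOf x)) {x : G} (hxN : x ∉ N)
    (hx : ∃ k, orderOf x = p ^ k) : IsPGroup p (Subgroup.centralizer ({x} : Set G)) := by
  refine isPGroup_of_no_prime_order _ fun q hq hne n hn hno => ?_
  have hc : Commute x n := hn x rfl
  refine not_primePow_mul Fact.out hq hne (fun h1 => hxN (by rw [h1]; exact N.one_mem)) hx hno hc (h _ ?_)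
  intro hm
  apply hxN
  obtain ⟨k, hk⟩ := hx
  have hnq : (QuotientGroup.mk' N x) ^ q = 1 := by
    have h1 : QuotientGroup.mk' N (x * n) = 1 := (QuotientGroup.eq_one_iff _).mpr hm
    rw [map_mul, mul_eq_one_iff_eq_inv] at h1
    rw [h1, inv_pow, ← map_pow, ← hno, pow_orderOf_eq_one, map_one, inv_one]
  have hpk : (QuotientGroup.mk' N x) ^ (p ^ k) = 1 := by
    rw [← map_pow, ← hk, pow_orderOf_eq_one, map_one]
  have := pow_gcd_eq_one.mpr ⟨hnq, hpk⟩
  have hco : Nat.gcd q (p ^ k) = 1 :=
    Nat.Coprime.pow_right _ ((Nat.coprime_primes hq Fact.out).mpr hne)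
  rw [hco, pow_one] at this
  exact (QuotientGroup.eq_one_iff _).mp this

lemma solvable_of_prime_index {P : Subgroup G} [P.Normal] (hco : IsCoatom P) :
    Group.IsSolvable (G ⧸ P) := by
  have hc : ∀ z : G ⧸ P, z ≠ 1 → Subgroup.zpowers z = ⊤ := by
    intro z hz
    have hle : P < (Subgroup.zpowers z).comap (QuotientGroup.mk' P) := by
      obtain ⟨g, rfl⟩ := QuotientGroup.mk'_surjective P z
      refine lt_of_le_of_ne (fun y hy => ?_) (fun hEq => ?_)
      · rw [Subgroup.mem_comap]
        have : QuotientGroup.mk' P y = 1 := (QuotientGroup.eq_one_iff y).mpr hy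
        rw [this]
        exact Subgroup.one_mem _
      · apply hz
        refine (QuotientGroup.eq_one_iff g).mpr ?_
        rw [hEq]
        exact Subgroup.mem_zpowers _
    have := hco.2 _ hle
    exact Subgroup.comap_injective (QuotientGroup.mk'_surjective P) (this.trans (Subgroup.comap_top _).symm)
  apply Group.isSolvable_of_comm
  intro a b
  by_cases ha : a = 1
  · simp [ha]
  · have : b ∈ Subgroup.zpowers a := hc a ha ▸ Subgroup.mem_top b
    obtain ⟨k, rfl⟩ := this
    exact (Commute.self_zpow a k).eq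

theorem main (N : Subgroup G) [N.Normal] (hN : N ≠ ⊤)
    (h : ∀ x : G, x ∉ N → IsPrimePow (orderOf x) ∧ IsCoatom (Subgroup.centralizer ({x} : Set G))) :
    Group.IsSolvable ↥N := by
  have h' : ∀ x : G, x ∉ N → IsPrimePow (orderOf x) := fun x hx => (h x hx).1
  obtain ⟨x, -, hxN⟩ := SetLike.exists_of_lt (lt_top_iff_ne_top.mpr hN)
  obtain ⟨p, k, hp, _, hk⟩ := h' x hxN
  have : Fact p.Prime := ⟨hp.nat_prime⟩
  set C := Subgroup.centralizer ({x} : Set G) with hCdef
  have hCp : IsPGroup p C := isPGroup_centralizer N h' hxN ⟨k, hk.symm⟩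
  obtain ⟨P, hCP⟩ := hCp.exists_le_sylow
  have hxC : x ∈ C := Subgroup.mem_centralizer_singleton_iff.mpr rfl
  have solv_p : ∀ H : Subgroup G, IsPGroup p H → Group.IsSolvable H := fun H hH => by
    have : Group.IsNilpotent H := hH.isNilpotent
    infer_instance
  by_cases hNP : N ≤ (P : Subgroup G)
  · exact solv_p N (P.2.to_le hNP)
  rcases hCP.eq_or_lt with hPC | hlt
  swap
  · have htop := (h x hxN).2.2 _ hlt
    exact absurd (htop ▸ le_top) hNP
  have hcoP : IsCoatom (P : Subgroup G) := hPC ▸ (h x hxN).2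
  have hNPtop : N ⊔ (P : Subgroup G) = ⊤ :=
    hcoP.2 _ (lt_of_le_of_ne le_sup_right fun hEq => hNP (hEq.symm ▸ le_sup_left))
  -- distinct Sylow subgroups meet inside N
  have key : ∀ S T : Sylow p G, S ≠ T → ∀ y : G, y ∈ (S : Subgroup G) → y ∈ (T : Subgroup G) →
      y ∈ N := by
    by_contra hcon
    push Not at hcon
    obtain ⟨S₀, T₀, hST₀, y₀, hy₀S, hy₀T, hy₀N⟩ := hcon
    let A := {z : Sylow p G × Sylow p G // z.1 ≠ z.2 ∧
      ∃ y : G, y ∈ (z.1 : Subgroup G) ∧ y ∈ (z.2 : Subgroup G) ∧ y ∉ N}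
    have : Nonempty A := ⟨⟨(S₀, T₀), hST₀, y₀, hy₀S, hy₀T, hy₀N⟩⟩
    obtain ⟨⟨⟨S, T⟩, hST, y, hyS, hyT, hyN⟩, hmax⟩ :=
      Finite.exists_max (fun a : A => Nat.card ((a.1.1 : Subgroup G) ⊓ (a.1.2 : Subgroup G) : Subgroup G))
    set D : Subgroup G := (S : Subgroup G) ⊓ (T : Subgroup G) with hD
    have hDp : IsPGroup p D := S.2.to_le inf_le_left
    set U := Subgroup.normalizer (D : Set G) with hU
    have hUNp : IsPGroup p (U ⊓ N : Subgroup G) :=
      isPGroup_of_no_prime_order _ fun q hq hne n hn hno =>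
        not_exists_fixed hq hne N D hDp h' (show y ∈ D from ⟨hyS, hyT⟩) hyN hn.2 hn.1 hno
    have hUp : IsPGroup p U := by
      refine isPGroup_of_no_prime_order _ fun q hq hne n hn hno => ?_
      by_cases hnN : n ∈ N
      · obtain ⟨m, hm⟩ := IsPGroup.iff_orderOf.mp hUNp ⟨n, hn, hnN⟩
        have h9 : orderOf n = p ^ m := (Subgroup.orderOf_coe _).trans hm
        rw [hno] at h9
        exact hne ((Nat.prime_dvd_prime_iff_eq hq Fact.out).mp
          (hq.dvd_of_dvd_pow (dvd_of_eq h9)))
      · apply hnN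
        refine (QuotientGroup.eq_one_iff n).mp ?_
        have hquot : IsPGroup p (G ⧸ N) := by
          refine P.2.of_surjective ((QuotientGroup.mk' N).comp (P : Subgroup G).subtype) ?_
          rw [← MonoidHom.range_eq_top, MonoidHom.range_comp, Subgroup.range_subtype]
          have h2 := congrArg (Subgroup.map (QuotientGroup.mk' N)) hNPtop
          rw [Subgroup.map_sup, QuotientGroup.map_mk'_self, bot_sup_eq,
            Subgroup.map_top_of_surjective _ (QuotientGroup.mk'_surjective N)] at h2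
          exact h2
        obtain ⟨m, hm⟩ := hquot (QuotientGroup.mk' N n)
        have hnq : (QuotientGroup.mk' N n) ^ q = 1 := by
          rw [← map_pow, ← hno, pow_orderOf_eq_one, map_one]
        have := pow_gcd_eq_one.mpr ⟨hnq, hm⟩
        rwa [show Nat.gcd q (p ^ m) = 1 from
          Nat.Coprime.pow_right _ ((Nat.coprime_primes hq Fact.out).mpr hne), pow_one] at this
    obtain ⟨R, hR⟩ := hUp.exists_le_sylow
    have hgrow : ∀ Q : Sylow p G, D < (Q : Subgroup G) →
        D < (R : Subgroup G) ⊓ (Q : Subgroup G) := by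
      intro Q hlt
      have : Group.IsNilpotent (Q : Subgroup G) := Q.2.isNilpotent
      have hnc := Group.normalizerCondition_of_isNilpotent (G := (Q : Subgroup G))
        (D.subgroupOf (Q : Subgroup G)) (lt_top_iff_ne_top.mpr fun hEq =>
          hlt.not_ge (Subgroup.subgroupOf_eq_top.mp hEq))
      obtain ⟨z, hz, hzD⟩ := SetLike.exists_of_lt hnc
      refine lt_of_le_of_ne (le_inf (fun d hd => hR (Subgroup.le_normalizer hd)) hlt.le) fun hEq => ?_
      apply hzD
      rw [Subgroup.mem_subgroupOf, hEq]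
      refine ⟨hR ?_, z.2⟩
      rw [hU, Subgroup.mem_normalizer_iff]
      intro d
      constructor
      · intro hd
        exact (Subgroup.mem_normalizer_iff.mp hz ⟨d, hlt.le hd⟩).mp hd
      · intro hd
        have hdQ : d ∈ (Q : Subgroup G) := by
          have hm := Q.1.mul_mem (Q.1.mul_mem (Q.1.inv_mem z.2) (hlt.le hd)) z.2
          simpa [mul_assoc] using hm
        exact (Subgroup.mem_normalizer_iff.mp hz ⟨d, hdQ⟩).mpr hd
    have hstep : ∀ Q : Sylow p G, D < (Q : Subgroup G) → y ∈ (Q : Subgroup G) → Q = R := by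
      intro Q hlt hyQ
      by_contra hne
      have hyR : y ∈ (R : Subgroup G) := hR (Subgroup.le_normalizer ⟨hyS, hyT⟩)
      have h1 := hmax ⟨(R, Q), Ne.symm hne, y, hyR, hyQ, hyN⟩
      have h2 := hgrow Q hlt
      have h3 : Nat.card D < Nat.card ((R : Subgroup G) ⊓ (Q : Subgroup G) : Subgroup G) :=
        lt_of_le_of_ne (Subgroup.card_le_of_le h2.le) fun hEq =>
          h2.ne (Subgroup.eq_of_le_of_card_ge h2.le hEq.ge)
      exact absurd h1 (not_le.mpr h3)
    have hcard : Nat.card (S : Subgroup G) = Nat.card (T : Subgroup G) :=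
      Nat.card_congr (Sylow.equiv S T).toEquiv
    have hDS : D < (S : Subgroup G) := lt_of_le_of_ne inf_le_left fun hEq => hST <| Sylow.ext <|
      Subgroup.eq_of_le_of_card_ge (inf_eq_left.mp hEq) hcard.ge
    have hDT : D < (T : Subgroup G) := lt_of_le_of_ne inf_le_right fun hEq => hST <| Sylow.ext
      (Subgroup.eq_of_le_of_card_ge (inf_eq_right.mp hEq) hcard.le).symm
    exact hST ((hstep S hDS hyS).trans (hstep T hDT hyT).symm)
  have habel : (P : Subgroup G) ≤ Subgroup.centralizer ((P : Subgroup G) : Set G) := by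
    have hout : ∀ y ∈ (P : Subgroup G), y ∉ N → ∀ z ∈ (P : Subgroup G), y * z = z * y := by
      intro y hy hyN z hz
      obtain ⟨j, hj⟩ := IsPGroup.iff_orderOf.mp P.2 ⟨y, hy⟩
      have hyp : IsPGroup p (Subgroup.centralizer ({y} : Set G)) :=
        isPGroup_centralizer N h' hyN ⟨j, by rw [← Subgroup.orderOf_mk y hy, hj]⟩
      obtain ⟨S, hS⟩ := hyp.exists_le_sylow
      have hSP : S = P := by
        by_contra hne
        exact hyN (key S P hne y (hS (Subgroup.mem_centralizer_singleton_iff.mpr rfl)) hy)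
      rcases hS.eq_or_lt with hEq | hlt
      · have hz' : z ∈ Subgroup.centralizer ({y} : Set G) := by rw [hEq, hSP]; exact hz
        exact hz' y rfl
      · exact absurd ((h y hyN).2.2 _ hlt) (hSP ▸ hcoP.1)
    intro a ha b hb
    by_cases haN : a ∈ N
    · have hxP : x ∈ (P : Subgroup G) := hPC ▸ hxC
      have hxb : x * b = b * x := hout x hxP hxN b hb
      have hax : a * x ∉ N := fun hm => hxN ((Subgroup.mul_mem_cancel_left N haN).mp hm)
      have h2 : a * x * b = b * (a * x) := hout (a * x) (P.1.mul_mem ha hxP) hax b hb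
      have : b * a * x = a * b * x := by
        calc b * a * x = b * (a * x) := mul_assoc _ _ _
          _ = a * x * b := h2.symm
          _ = a * (x * b) := mul_assoc _ _ _
          _ = a * b * x := by rw [hxb, mul_assoc]
      exact mul_right_cancel this
    · exact (hout a ha haN b hb).symm
  have hsolG : Group.IsSolvable G := by
    by_cases hPn : (P : Subgroup G).Normal
    · have h1 := solvable_of_prime_index hcoP
      have h2 : Group.IsSolvable (P : Subgroup G) := solv_p _ P.2
      exact Group.isSolvable_of_ker_le_range (P : Subgroup G).subtype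
        (QuotientGroup.mk' (P : Subgroup G)) (by simp)
    · have hNP' : Subgroup.normalizer ((P : Subgroup G) : Set G) = (P : Subgroup G) := by
        rcases (Subgroup.le_normalizer (H := (P : Subgroup G))).eq_or_lt with hEq | hlt
        · exact hEq.symm
        · exact absurd (Subgroup.normalizer_eq_top_iff.mp (hcoP.2 _ hlt)) hPn
      have hB := hNP'.le.trans habel
      set K := (MonoidHom.transferSylow P hB).ker with hK
      have hcompl := MonoidHom.ker_transferSylow_isComplement' P hB
      have hpK : ¬ p ∣ Nat.card K := MonoidHom.not_dvd_card_ker_transferSylow P hB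
      by_cases hK1 : Nat.card K = 1
      · exfalso
        apply hPn
        have : (P : Subgroup G) = ⊤ := by
          apply Subgroup.eq_top_of_card_eq
          rw [← hcompl.card_mul, hK1, one_mul]
        rw [this]; infer_instance
      obtain ⟨q, hq, hqd⟩ := Nat.exists_prime_and_dvd hK1
      have : Fact q.Prime := ⟨hq⟩
      let Q : Sylow q K := default
      set L := Subgroup.normalizer (((Q : Subgroup K).map K.subtype : Subgroup G) : Set G) with hL
      have hLK : L ⊔ K = ⊤ := Sylow.normalizer_sup_eq_top Q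
      obtain ⟨R⟩ := (inferInstance : Nonempty (Sylow p L))
      obtain ⟨P', hP'⟩ := (R.2.map L.subtype).exists_le_sylow
      have hLidx : ¬ p ∣ L.index := by
        intro hd
        have h1 : Nat.card (P : Subgroup G) ∣ Nat.card L := by
          rw [← hcompl.symm.index_eq_card, ← Subgroup.relIndex_top_right, ← hK, ← hLK,
            Subgroup.relIndex_sup_right]
          exact Subgroup.relIndex_dvd_card K L
        have h2 := mul_dvd_mul h1 hd
        rw [Subgroup.card_mul_index] at h2
        apply P.not_dvd_index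
        have h3 := h2
        rw [← (P : Subgroup G).card_mul_index] at h3
        exact Nat.dvd_of_mul_dvd_mul_left Nat.card_pos h3
      have hcardR : Nat.card (P' : Subgroup G) = Nat.card ((R : Subgroup L).map L.subtype) := by
        rw [Subgroup.card_map_of_injective L.subtype_injective, R.card_eq_multiplicity,
          P'.card_eq_multiplicity]
        congr 1
        rw [← L.card_mul_index, Nat.factorization_mul Nat.card_pos.ne'
          (Subgroup.FiniteIndex.index_ne_zero), Finsupp.add_apply,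
          Nat.factorization_eq_zero_of_not_dvd hLidx, add_zero]
      have hP'L : (P' : Subgroup G) ≤ L := by
        rw [← Subgroup.eq_of_le_of_card_ge hP' hcardR.le]
        exact Subgroup.map_subtype_le _
      obtain ⟨g, hg⟩ := MulAction.exists_smul_eq G P P'
      have hcoP' : IsCoatom (P' : Subgroup G) := by
        rw [← hg, Sylow.coe_subgroup_smul]
        exact (OrderIso.isCoatom_iff (MulAut.conj g).mapSubgroup (P : Subgroup G)).mpr hcoP
      set Q' : Subgroup G := (Q : Subgroup K).map K.subtype with hQ'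
      have hQ'p : IsPGroup q Q' := Q.2.map K.subtype
      have hLtop : L = ⊤ := by
        refine hcoP'.2 _ (lt_of_le_of_ne hP'L fun hEq => ?_)
        have hle : Q' ≤ (P' : Subgroup G) := hEq.symm ▸ Subgroup.le_normalizer
        have h1 : IsPGroup p Q' := P'.2.to_le hle
        obtain ⟨i, hi⟩ := h1.exists_card_eq
        have hqQ : q ∣ Nat.card Q' := by
          rw [hQ', Subgroup.card_map_of_injective K.subtype_injective]
          exact Q.dvd_card_of_dvd_card hqd
        rw [hi] at hqQ
        have := (Nat.prime_dvd_prime_iff_eq hq Fact.out).mp (hq.dvd_of_dvd_pow hqQ)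
        exact hpK (this ▸ hqd)
      have hQn : Q'.Normal := Subgroup.normalizer_eq_top_iff.mp hLtop
      have hsup : Q' ⊔ (P' : Subgroup G) = ⊤ := by
        refine hcoP'.2 _ (lt_of_le_of_ne le_sup_right fun hEq => ?_)
        have hle : Q' ≤ (P' : Subgroup G) := hEq.symm ▸ le_sup_left
        obtain ⟨i, hi⟩ := (P'.2.to_le hle).exists_card_eq
        have hqQ : q ∣ Nat.card Q' := by
          rw [hQ', Subgroup.card_map_of_injective K.subtype_injective]
          exact Q.dvd_card_of_dvd_card hqd
        rw [hi] at hqQ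
        have := (Nat.prime_dvd_prime_iff_eq hq Fact.out).mp (hq.dvd_of_dvd_pow hqQ)
        exact hpK (this ▸ hqd)
      have hquot : IsPGroup p (G ⧸ Q') := by
        refine P'.2.of_surjective ((QuotientGroup.mk' Q').comp (P' : Subgroup G).subtype) ?_
        rw [← MonoidHom.range_eq_top, MonoidHom.range_comp, Subgroup.range_subtype]
        have := congrArg (Subgroup.map (QuotientGroup.mk' Q')) hsup
        rw [Subgroup.map_sup, QuotientGroup.map_mk'_self, bot_sup_eq,
          Subgroup.map_top_of_surjective _ (QuotientGroup.mk'_surjective Q')] at this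
        exact this
      have h1 : Group.IsNilpotent (G ⧸ Q') := hquot.isNilpotent
      have h2 : Group.IsNilpotent Q' := hQ'p.isNilpotent
      exact Group.isSolvable_of_ker_le_range Q'.subtype (QuotientGroup.mk' Q') (by simp)
  exact Group.isSolvable_of_isSolvable_injective N.subtype_injective

/-- Let N be a proper normal subgroup of the finite group G such that every element x of G outside N has prime power order and has centralizer C_G(x) a maximal subgroup of G. Then N is solvable. -/
theorem result {G : Type*} [Group G] [Finite G] (N : Subgroup G) [N.Normal] (hN : N ≠ ⊤)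
    (h : ∀ x : G, x ∉ N → IsPrimePow (orderOf x) ∧ IsCoatom (Subgroup.centralizer ({x} : Set G))) : Group.IsSolvable ↥N := by
  exact main N hN h

end Cfsg.Agent.S3903
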