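import Cfsg.Statements.S3910
import Cfsg.Agent.Lib.Struct77.BGroupSylow
import Cfsg.Agent.Lib.Struct77.Engel
import Cfsg.Agent.Lib.ClassCount.Product

set_option autoImplicit false
open Cfsg

namespace Cfsg.Agent.S3910

/-- A finite nilpotent group in which any two abelian subgroups of the same order are conjugate is cyclic. -/
theorem result {G : Type*} [Group G] [Finite G] (hB : ∀ A B : Subgroup G, IsMulCommutative ↥A → IsMulCommutative ↥B → Nat.card ↥A = Nat.card ↥B → ∃ g : G, B = A.map (MulAut.conj g).toMonoidHom) (hnil : Group.IsNilpotent G) : IsCyclic G := by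
  classical
  have hall : ∀ (q : ℕ) (_hq : Fact q.Prime) (P : Sylow q G), (P : Subgroup G).Normal :=
    ((Group.isNilpotent_of_finite_tfae (G := G)).out 0 3).mp hnil
  -- conjugation acts on a Sylow subgroup as its own inner automorphisms
  have hinner : ∀ (q : ℕ) (_hq : Fact q.Prime) (P : Sylow q G) (g : G), ∃ w ∈ (P : Subgroup G),
      ∀ x ∈ (P : Subgroup G), g * x * g⁻¹ = w * x * w⁻¹ := by
    intro q hq P g
    obtain ⟨a, b, hab, hcom, ⟨k, hak⟩, -, hbq⟩ := CfsgLib.ClassCount.exists_parts hq.out g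
    have hz : IsPGroup q (Subgroup.zpowers a) := by
      obtain ⟨j, -, hj⟩ := (Nat.dvd_prime_pow hq.out).mp hak
      exact IsPGroup.of_card (n := j) (by rw [Nat.card_zpowers, hj])
    obtain ⟨P', hP'⟩ := hz.exists_le_sylow
    have := Sylow.unique_of_normal P (hall q hq P)
    rw [Subsingleton.elim P' P] at hP'
    refine ⟨a, hP' (Subgroup.mem_zpowers a), fun x hx => ?_⟩
    obtain ⟨i, hi⟩ := IsPGroup.iff_orderOf.mp P.2 ⟨x, hx⟩
    rw [Subgroup.orderOf_mk] at hi
    have hcop : (orderOf b).Coprime (orderOf x) :=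
      hi ▸ (((Nat.Prime.coprime_iff_not_dvd hq.out).mpr hbq).symm.pow_right i)
    have hc : b * x = x * b := CfsgLib.Engel.commute_of_coprime_nilpotent hcop
    calc g * x * g⁻¹ = a * (b * x * b⁻¹) * a⁻¹ := by rw [hab]; group
      _ = a * x * a⁻¹ := by rw [hc, mul_inv_cancel_right]
  -- Sylow subgroups are cyclic
  have hcyc : ∀ (q : ℕ) (_hq : Fact q.Prime) (P : Sylow q G), IsCyclic ↥(P : Subgroup G) := by
    intro q hq P
    have huniq : ∀ x y : G, x ∈ (P : Subgroup G) → y ∈ (P : Subgroup G) → orderOf x = q →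
        orderOf y = q → y ∈ Subgroup.zpowers x := by
      intro x y hx hy hxo hyo
      have : Nontrivial ↥(P : Subgroup G) := ⟨⟨x, hx⟩, 1, fun h => hq.out.ne_one
        (hxo.symm.trans (orderOf_eq_one_iff.mpr (congrArg Subtype.val h)))⟩
      have := P.2.center_nontrivial
      obtain ⟨z₀, hz₀⟩ := exists_prime_orderOf_dvd_card' q
        ((P.2.to_subgroup (Subgroup.center ↥(P : Subgroup G))).card_eq_or_dvd.resolve_left
          (fun h => by have := Finite.one_lt_card (α := Subgroup.center ↥(P : Subgroup G)); omega))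
      set z : G := ((z₀ : ↥(P : Subgroup G)) : G) with hz
      have hzo : orderOf z = q := by rw [hz, Subgroup.orderOf_coe, Subgroup.orderOf_coe, hz₀]
      have key : ∀ w : G, w ∈ (P : Subgroup G) → orderOf w = q →
          Subgroup.zpowers w = Subgroup.zpowers z := by
        intro w hw hwo
        obtain ⟨g, hg⟩ := hB (Subgroup.zpowers z) (Subgroup.zpowers w) inferInstance inferInstance
          (by rw [Nat.card_zpowers, Nat.card_zpowers, hwo, hzo])
        obtain ⟨v, hv, hv'⟩ := hinner q hq P g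
        rw [hg, MonoidHom.map_zpowers]
        have h1 : g * z * g⁻¹ = z := by
          rw [hv' z z₀.1.2]
          have := congrArg Subtype.val (Subgroup.mem_center_iff.mp z₀.2 ⟨v, hv⟩)
          exact mul_inv_eq_iff_eq_mul.mpr this
        exact congrArg Subgroup.zpowers h1
      rw [(key x hx hxo), ← key y hy hyo]
      exact Subgroup.mem_zpowers y
    obtain rfl | hq2 := eq_or_ne q 2
    · have h1 : ∀ a b : ↥(P : Subgroup G), orderOf a = 2 → orderOf b = 2 → a = b := by
        intro a b ha hb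
        have ha' : orderOf (a : G) = 2 := by rw [Subgroup.orderOf_coe, ha]
        have hb' : orderOf (b : G) = 2 := by rw [Subgroup.orderOf_coe, hb]
        obtain ⟨i, hi⟩ := Subgroup.mem_zpowers_iff.mp (huniq a b a.2 b.2 ha' hb')
        rw [← zpow_mod_orderOf, ha'] at hi
        rcases Int.emod_two_eq i with h2 | h2 <;> simp [h2] at hi
        · exfalso
          rw [← hi, orderOf_one] at hb'
          exact absurd hb' (by norm_num)
        · exact hi
      rcases CfsgLib.TwoGroups.OneInvolution.isCyclic_or_quaternion P.2 h1 with hc | ⟨m, hm, ⟨e⟩⟩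
      · exact hc
      exfalso
      have : NeZero (2 ^ m) := ⟨pow_ne_zero _ two_ne_zero⟩
      set u : ↥(P : Subgroup G) := e.symm (QuaternionGroup.xa 0) with hu
      set v : ↥(P : Subgroup G) := e.symm (QuaternionGroup.xa 1) with hv
      have ho : ∀ i, orderOf ((e.symm (QuaternionGroup.xa i) : ↥(P : Subgroup G)) : G) = 4 := by
        intro i
        rw [Subgroup.orderOf_coe]
        exact (orderOf_injective e.symm.toMonoidHom e.symm.injective _).trans
          (QuaternionGroup.orderOf_xa i)
      obtain ⟨g, hg⟩ := hB (Subgroup.zpowers (u : G)) (Subgroup.zpowers (v : G)) inferInstance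
        inferInstance (by rw [Nat.card_zpowers, Nat.card_zpowers, ho, ho])
      obtain ⟨w, hw, hw'⟩ := hinner 2 hq P g
      have hmem : (v : G) ∈ Subgroup.zpowers (g * (u : G) * g⁻¹) := by
        have h3 : (v : G) ∈ Subgroup.zpowers (v : G) := Subgroup.mem_zpowers _
        rwa [hg, MonoidHom.map_zpowers] at h3
      rw [hw' _ u.2] at hmem
      obtain ⟨i, hi⟩ := Subgroup.mem_zpowers_iff.mp hmem
      have hi' : (e ⟨w, hw⟩ * QuaternionGroup.xa 0 * (e ⟨w, hw⟩)⁻¹) ^ i = QuaternionGroup.xa 1 := by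
        have h2 : (⟨w, hw⟩ * u * (⟨w, hw⟩ : ↥(P : Subgroup G))⁻¹) ^ i = v :=
          Subtype.ext (by simpa using hi)
        have h3 := congrArg e h2
        simpa [hu, hv, map_zpow] using h3
      let χ : ZMod (2 * 2 ^ m) →+* ZMod 2 := ZMod.castHom (Dvd.intro _ rfl) (ZMod 2)
      have hχn : χ ((2 ^ m : ℕ) : ZMod (2 * 2 ^ m)) = 0 := by
        rw [map_natCast, ZMod.natCast_eq_zero_iff]
        exact dvd_pow_self 2 (by omega)
      obtain ⟨j, hj, hje⟩ : ∃ j, χ j = 0 ∧
          e ⟨w, hw⟩ * QuaternionGroup.xa 0 * (e ⟨w, hw⟩)⁻¹ = QuaternionGroup.xa j := by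
        rcases e ⟨w, hw⟩ with k | k
        · refine ⟨-k + -k, ?_, ?_⟩
          · rw [map_add, CharTwo.add_self_eq_zero]
          · rw [show (QuaternionGroup.a k)⁻¹ = QuaternionGroup.a (-k) from rfl,
              QuaternionGroup.a_mul_xa, QuaternionGroup.xa_mul_a, zero_sub]
        · refine ⟨k + k, ?_, ?_⟩
          · rw [map_add, CharTwo.add_self_eq_zero]
          · rw [show (QuaternionGroup.xa k)⁻¹ =
              QuaternionGroup.xa (((2 ^ m : ℕ) : ZMod (2 * 2 ^ m)) + k) from rfl,
              QuaternionGroup.xa_mul_xa, QuaternionGroup.a_mul_xa]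
            congr 1
            ring
      rw [hje, ← zpow_mod_orderOf, QuaternionGroup.orderOf_xa] at hi'
      have h4 : i % ((4 : ℕ) : ℤ) = 0 ∨ i % ((4 : ℕ) : ℤ) = 1 ∨ i % ((4 : ℕ) : ℤ) = 2 ∨
          i % ((4 : ℕ) : ℤ) = 3 := by
        have := Int.emod_nonneg i (show ((4 : ℕ) : ℤ) ≠ 0 by norm_num)
        have := Int.emod_lt_of_pos i (show (0 : ℤ) < ((4 : ℕ) : ℤ) by norm_num)
        omega
      rcases h4 with h | h | h | h <;> rw [h] at hi'
      · rw [zpow_zero] at hi'
        cases hi'
      · rw [zpow_one, QuaternionGroup.xa.injEq] at hi'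
        rw [hi', map_one] at hj
        exact one_ne_zero hj
      · rw [show (2 : ℤ) = ((2 : ℕ) : ℤ) from rfl, zpow_natCast, QuaternionGroup.xa_sq] at hi'
        simp at hi'
      · rw [show (3 : ℤ) = ((3 : ℕ) : ℤ) from rfl, zpow_natCast, pow_succ, QuaternionGroup.xa_sq,
          QuaternionGroup.a_mul_xa, QuaternionGroup.xa.injEq] at hi'
        have h5 := congrArg χ hi'
        rw [map_sub, hj, hχn, map_one, sub_zero] at h5
        exact zero_ne_one h5
    · refine CfsgLib.ConstStab.isCyclic_of_unique_prime_subgroup hq2 P.2 fun x y hx1 hxp hyp => ?_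
      by_cases hy1 : y = 1
      · rw [hy1]; exact Subgroup.one_mem _
      obtain ⟨i, hi⟩ := Subgroup.mem_zpowers_iff.mp (huniq x y x.2 y.2
        (by rw [Subgroup.orderOf_coe, orderOf_eq_prime hxp hx1])
        (by rw [Subgroup.orderOf_coe, orderOf_eq_prime hyp hy1]))
      exact ⟨i, Subtype.ext (by simpa using hi)⟩
  have e := Classical.choice ((Group.isNilpotent_of_finite_tfae (G := G)).out 0 4 |>.mp hnil)
  have hcomm : ∀ a b : G, a * b = b * a := fun a b => e.symm.injective (by
    rw [map_mul, map_mul]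
    ext q Q : 2
    have := Fact.mk (Nat.prime_of_mem_primeFactors q.2)
    have := hcyc q.1 this Q
    simp only [Pi.mul_apply]
    let : CommGroup ↥(Q : Subgroup G) := IsCyclic.commGroup
    exact mul_comm (e.symm a q Q) (e.symm b q Q))
  let : CommGroup G := { ‹Group G› with mul_comm := hcomm }
  refine IsCyclic.of_exponent_eq_card (Nat.dvd_antisymm (Monoid.exponent_dvd.mpr fun g => orderOf_dvd_natCard g) ?_)
  rw [Nat.dvd_iff_prime_pow_dvd_dvd]
  intro q k hq hqk
  have : Fact q.Prime := ⟨hq⟩
  let Q : Sylow q G := default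
  have hc := hcyc q this Q
  refine ((Q.pow_dvd_card_of_pow_dvd_card hqk).trans ?_)
  rw [← IsCyclic.exponent_eq_card (α := ↥(Q : Subgroup G))]
  exact Monoid.exponent_dvd_of_monoidHom (Q : Subgroup G).subtype (Subgroup.subtype_injective _)

end Cfsg.Agent.S3910
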