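import Cfsg.Statements.S3917
import Mathlib

set_option autoImplicit false
open Cfsg

namespace Cfsg.Agent.S3917

/-- Say that a group has self-centralizing non-cyclic subgroups when every non-cyclic subgroup H satisfies C_G(H) ≤ H. A finite abelian group with self-centralizing non-cyclic subgroups is cyclic or elementary abelian of order p² for a prime p. -/
theorem result {G : Type*} [CommGroup G] [Finite G] (hX : (∀ H : Subgroup G, ¬ IsCyclic ↥H → Subgroup.centralizer (H : Set G) ≤ H)) :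
    IsCyclic G ∨ ∃ p : ℕ, p.Prime ∧ Nat.card G = p ^ 2 ∧ Monoid.exponent G = p := by
  by_cases hc : IsCyclic G
  · exact Or.inl hc
  right
  obtain ⟨x, hx⟩ := Monoid.exists_orderOf_eq_exponent (Monoid.ExponentExists.of_finite (G := G))
  have hXne : Subgroup.zpowers x ≠ ⊤ := fun h => hc ⟨⟨x, fun y => (show y ∈ Subgroup.zpowers x by rw [h]; exact Subgroup.mem_top y)⟩⟩
  -- an element of minimal order outside `⟨x⟩`
  obtain ⟨z₀, -, hz₀⟩ := SetLike.exists_of_lt (lt_top_iff_ne_top.mpr hXne)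
  obtain ⟨y, hy, hymin⟩ := Set.exists_min_image {z : G | z ∉ Subgroup.zpowers x} orderOf
    (Set.toFinite _) ⟨z₀, hz₀⟩
  have hy1 : orderOf y ≠ 1 := fun h => hy (by rw [orderOf_eq_one_iff.mp h]; exact Subgroup.one_mem _)
  obtain ⟨p, hp, hpd⟩ := Nat.exists_prime_and_dvd hy1
  have hyp : y ^ p ∈ Subgroup.zpowers x := by
    by_contra h
    have := hymin _ h
    rw [orderOf_pow_of_dvd hp.ne_zero hpd] at this
    exact absurd this (not_le.mpr (Nat.div_lt_self (orderOf_pos y) hp.one_lt))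
  obtain ⟨k, hk⟩ := Subgroup.mem_zpowers_iff.mp hyp
  set n := Monoid.exponent G with hn
  have hpn : p ∣ n := hpd.trans (Monoid.order_dvd_exponent y)
  obtain ⟨m, hm⟩ := hpn
  have hdiv : (p : ℤ) ∣ k := by
    have h1 : x ^ (k * (m : ℤ)) = 1 := by
      rw [zpow_mul, hk, zpow_natCast, ← pow_mul, ← hm, Monoid.pow_exponent_eq_one]
    have h2 := orderOf_dvd_iff_zpow_eq_one.mpr h1
    rw [hx, hm] at h2
    have hm0 : (m : ℤ) ≠ 0 := by
      intro h
      have : n = 0 := by rw [hm, Int.natCast_eq_zero.mp h, mul_zero]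
      exact Monoid.exponent_ne_zero_of_finite this
    push_cast at h2
    exact (mul_dvd_mul_iff_right hm0).mp h2
  obtain ⟨k', hk'⟩ := hdiv
  set w := y * (x ^ k')⁻¹ with hw
  have hwX : w ∉ Subgroup.zpowers x := fun h => hy (by
    simpa [hw] using Subgroup.mul_mem _ h (Subgroup.zpow_mem _ (Subgroup.mem_zpowers x) k'))
  have hwp : w ^ p = 1 := by
    rw [hw, mul_pow, inv_pow, ← zpow_natCast (x ^ k'), ← zpow_mul, mul_comm k', ← hk', hk,
      mul_inv_cancel]
  set u := x ^ m with hu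
  have hup : u ^ p = 1 := by rw [hu, ← pow_mul, mul_comm, ← hm, Monoid.pow_exponent_eq_one]
  have hu1 : u ≠ 1 := by
    intro h
    have h2 := Nat.le_of_dvd (by
      rcases Nat.eq_zero_or_pos m with h0 | h0
      · exfalso
        exact Monoid.exponent_ne_zero_of_finite (G := G) (by rw [← hn, hm, h0, mul_zero])
      · exact h0) (hx ▸ orderOf_dvd_of_pow_eq_one h)
    rw [hm] at h2
    have h3 := hp.two_le
    have h4 : 0 < p * m := by
      rw [← hm]; exact Nat.pos_of_ne_zero Monoid.exponent_ne_zero_of_finite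
    have h5 : 0 < m := pos_of_mul_pos_right h4 (Nat.zero_le _)
    nlinarith
  set H : Subgroup G := Subgroup.zpowers w ⊔ Subgroup.zpowers u with hH
  have hHp : ∀ h ∈ H, h ^ p = 1 := by
    have hle : H ≤ (powMonoidHom p : G →* G).ker := sup_le (Subgroup.zpowers_le.mpr hwp)
      (Subgroup.zpowers_le.mpr hup)
    exact fun h hh => hle hh
  have hnc : ¬ IsCyclic H := by
    intro hcy
    obtain ⟨g, hg⟩ := hcy.exists_generator
    have hgo : orderOf g ∣ p := orderOf_dvd_of_pow_eq_one (Subtype.ext (hHp g g.2))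
    have hu' : (⟨u, Subgroup.mem_sup_right (Subgroup.mem_zpowers u)⟩ : H) ≠ 1 :=
      fun h => hu1 (congrArg Subtype.val h)
    have hgen : Subgroup.zpowers (⟨u, Subgroup.mem_sup_right (Subgroup.mem_zpowers u)⟩ : H) = ⊤ := by
      apply Subgroup.eq_top_of_card_eq
      have hc2 : Nat.card H = orderOf g := (orderOf_eq_card_of_forall_mem_zpowers hg).symm
      rw [Nat.card_zpowers, hc2]
      have h6 : orderOf (⟨u, Subgroup.mem_sup_right (Subgroup.mem_zpowers u)⟩ : H) = p := by
        have : Fact p.Prime := ⟨hp⟩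
        exact orderOf_eq_prime (Subtype.ext hup) hu'
      refine Nat.dvd_antisymm ?_ (h6 ▸ hgo)
      rw [← hc2]
      exact orderOf_dvd_natCard _
    obtain ⟨i, hi⟩ := Subgroup.mem_zpowers_iff.mp
      (hgen ▸ Subgroup.mem_top (⟨w, Subgroup.mem_sup_left (Subgroup.mem_zpowers w)⟩ : H))
    apply hwX
    have hi' : u ^ i = w := congrArg Subtype.val hi
    rw [← hi', hu]
    exact Subgroup.zpow_mem _ (Subgroup.pow_mem _ (Subgroup.mem_zpowers x) m) i
  have htop : H = ⊤ := top_le_iff.mp fun g _ =>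
    hX H hnc (Subgroup.mem_centralizer_iff.mpr fun h _ => mul_comm h g)
  have hexp : Monoid.exponent G = p := by
    refine (Nat.dvd_prime hp).mp (Monoid.exponent_dvd_of_forall_pow_eq_one
      fun g => hHp g (htop ▸ Subgroup.mem_top g)) |>.resolve_left fun h => hc ?_
    have : Subsingleton G := Monoid.exp_eq_one_iff.mp h
    infer_instance
  refine ⟨p, hp, ?_, hexp⟩
  have hle : Nat.card H ≤ Nat.card (Subgroup.zpowers w) * Nat.card (Subgroup.zpowers u) := by
    rw [← Nat.card_prod]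
    refine Nat.card_le_card_of_surjective
      (fun z : Subgroup.zpowers w × Subgroup.zpowers u =>
        (⟨(z.1 : G) * (z.2 : G), Subgroup.mul_mem_sup z.1.2 z.2.2⟩ : H)) ?_
    rintro ⟨h, hh⟩
    obtain ⟨a, ha, b, hb, rfl⟩ := Subgroup.mem_sup.mp hh
    exact ⟨(⟨a, ha⟩, ⟨b, hb⟩), rfl⟩
  rw [htop, Subgroup.card_top, Nat.card_zpowers, Nat.card_zpowers] at hle
  have : Fact p.Prime := ⟨hp⟩
  rw [orderOf_eq_prime hwp (fun h => hwX (h ▸ Subgroup.one_mem _)), orderOf_eq_prime hup hu1] at hle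
  obtain ⟨e, he⟩ := (IsPGroup.iff_card (p := p)).mp fun g => ⟨1, by rw [pow_one, ← hexp, Monoid.pow_exponent_eq_one]⟩
  rw [he] at hle ⊢
  have he2 : e ≤ 2 := (Nat.pow_le_pow_iff_right hp.one_lt).mp (by rw [pow_two]; exact hle)
  interval_cases e
  · exact absurd (@isCyclic_of_subsingleton G _ (Nat.card_eq_one_iff_unique.mp (by simpa using he)).1) hc
  · exact absurd (isCyclic_of_prime_card (by simpa using he)) hc
  · rfl

end Cfsg.Agent.S3917
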