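import Cfsg.Statements.S3918
-- import your own Cfsg.Agent.* helpers here

import Cfsg.Agent.Lib.Struct77.SelfCentralizing

set_option autoImplicit false
open Cfsg

namespace Cfsg.Agent.S3918

/-- Say that a group has self-centralizing non-cyclic subgroups when every non-cyclic subgroup H satisfies C_G(H) ≤ H. For an odd prime p, a finite non-abelian p-group has self-centralizing non-cyclic subgroups if and only if it has order p³. -/
theorem result {G : Type*} [Group G] [Finite G] {p : ℕ} [Fact p.Prime] (hp : p ≠ 2) (hG : IsPGroup p G) (hna : ¬ IsMulCommutative G) :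
    (∀ H : Subgroup G, ¬ IsCyclic ↥H → Subgroup.centralizer (H : Set G) ≤ H) ↔ Nat.card G = p ^ 3 := by
  refine ⟨CfsgLib.SelfCentralizing.card_eq_cube hp hG hna, fun h3 H hH => ?_⟩
  have hp' : p.Prime := Fact.out
  obtain ⟨k, hk⟩ := (hG.to_subgroup H).exists_card_eq
  have hk3 : k ≤ 3 := by
    have := Subgroup.card_subgroup_dvd_card H
    rwa [hk, h3, Nat.pow_dvd_pow_iff_le_right hp'.one_lt] at this
  rcases (show k = 3 ∨ k = 2 ∨ k ≤ 1 by omega) with rfl | rfl | hk1
  · rw [Subgroup.eq_top_of_card_eq H (hk.trans h3.symm)]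
    exact le_top
  · intro x hx
    by_contra hxH
    have hab : IsMulCommutative H := IsPGroup.isMulCommutative_of_card_eq_prime_sq hk
    have hlt : H < H ⊔ Subgroup.zpowers x := lt_of_le_of_ne le_sup_left fun h =>
      hxH (by rw [h]; exact Subgroup.mem_sup_right (Subgroup.mem_zpowers x))
    have htop : H ⊔ Subgroup.zpowers x = ⊤ := by
      apply Subgroup.eq_top_of_card_eq
      obtain ⟨j, hj⟩ := (hG.to_subgroup (H ⊔ Subgroup.zpowers x)).exists_card_eq
      have h1 : Nat.card H < Nat.card (H ⊔ Subgroup.zpowers x : Subgroup G) :=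
        lt_of_not_ge fun h => hlt.ne (Subgroup.eq_of_le_of_card_ge hlt.le h)
      rw [hk, hj, Nat.pow_lt_pow_iff_right hp'.one_lt] at h1
      have h2 := Subgroup.card_subgroup_dvd_card (H ⊔ Subgroup.zpowers x)
      rw [hj, h3, Nat.pow_dvd_pow_iff_le_right hp'.one_lt] at h2
      rw [hj, h3, show j = 3 by omega]
    have hHZ : H ≤ Subgroup.center G := by
      intro y hy
      have hle : H ⊔ Subgroup.zpowers x ≤ Subgroup.centralizer ({y} : Set G) := by
        refine sup_le (fun w hw => ?_) (Subgroup.zpowers_le.2 ?_)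
        · exact Subgroup.mem_centralizer_singleton_iff.2
            (congrArg Subtype.val (hab.is_comm.comm ⟨w, hw⟩ ⟨y, hy⟩))
        · exact Subgroup.mem_centralizer_singleton_iff.2 (Subgroup.mem_centralizer_iff.1 hx y hy).symm
      rw [htop] at hle
      rw [Subgroup.mem_center_iff]
      exact fun g => Subgroup.mem_centralizer_singleton_iff.1 (hle (Subgroup.mem_top g))
    refine hna ?_
    obtain ⟨m, hm, hm', hz⟩ := CfsgLib.MaxClass.card_center_quotient h3 (by norm_num)
    have h4 := Subgroup.card_dvd_of_le hHZ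
    rw [hk, hz, Nat.pow_dvd_pow_iff_le_right hp'.one_lt] at h4
    exact CfsgLib.MaxClass.abelian_of_center_quotient_le (by omega) hm'
  · exfalso
    apply hH
    rcases (show k = 0 ∨ k = 1 by omega) with rfl | rfl
    · have := (Nat.card_eq_one_iff_unique.1 (hk.trans (pow_zero p))).1
      exact isCyclic_of_subsingleton
    · exact isCyclic_of_prime_card (hk.trans (pow_one p))
end Cfsg.Agent.S3918
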