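import Cfsg.Statements.S3919
-- import your own Cfsg.Agent.* helpers here

import Cfsg.Agent.Lib.Struct77.SelfCentralizing

set_option autoImplicit false
open Cfsg

namespace Cfsg.Agent.S3919

/-- Say that a group has self-centralizing non-cyclic subgroups when every non-cyclic subgroup H satisfies C_G(H) ≤ H. A finite non-abelian 2-group G of order 2^n has self-centralizing non-cyclic subgroups if and only if G has nilpotency class n − 1 (that is, G is dihedral, semidihedral or generalized quaternion). -/
theorem result {G : Type*} [Group G] [Finite G] (hna : ¬ IsMulCommutative G) (n : ℕ) (hG : Nat.card G = 2 ^ n) :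
    (∀ H : Subgroup G, ¬ IsCyclic ↥H → Subgroup.centralizer (H : Set G) ≤ H) ↔ (⊤ : Subgroup G).lowerCentralSeries (n - 2) ≠ ⊥ := by
  have := Fact.mk Nat.prime_two
  have hGp : IsPGroup 2 G := IsPGroup.of_card hG
  have hn : 3 ≤ n := by
    by_contra hn
    refine hna ?_
    rcases (show n = 2 ∨ n ≤ 1 by omega) with rfl | h1
    · exact IsPGroup.isMulCommutative_of_card_eq_prime_sq hG
    · have h2 : Nat.card (G ⧸ Subgroup.center G) ∣ 2 ^ 1 :=
        (Subgroup.card_quotient_dvd_card _).trans (hG ▸ pow_dvd_pow 2 h1)
      obtain ⟨j, hj, hj'⟩ := (Nat.dvd_prime_pow Nat.prime_two).1 h2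
      exact CfsgLib.MaxClass.abelian_of_center_quotient_le hj hj'
  have := hGp.isNilpotent
  have hle := CfsgLib.MaxClass.class_le (p := 2) n G hG (by omega)
  rw [ne_eq, Subgroup.lowerCentralSeries_eq_bot_iff_nilpotencyClass_le]
  refine ⟨fun h => ?_, fun h => ?_⟩
  · have := CfsgLib.SelfCentralizing.class_of_two hG hna h
    omega
  · have hc : Group.nilpotencyClass G = n - 1 := by omega
    obtain ⟨a, t, -, -, ha, hZa, -, -⟩ := CfsgLib.MaxClass.exists_generators hn hG hc
    refine CfsgLib.SelfCentralizing.sc_of_cyclic_index_two hGp (Subgroup.zpowers a) inferInstance ?_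
      hZa (CfsgLib.MaxClass.center_of_class hG hn hc).1
    have h1 := Subgroup.card_mul_index (Subgroup.zpowers a)
    rw [Nat.card_zpowers, ha, hG, show n = n - 1 + 1 by omega, pow_succ] at h1
    exact Nat.eq_of_mul_eq_mul_left (pow_pos two_pos _) h1
end Cfsg.Agent.S3919
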