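import Cfsg.Statements.S3920
import Mathlib

set_option autoImplicit false
open Cfsg

namespace Cfsg.Agent.S3920

/-- Say that a group has self-centralizing non-cyclic subgroups when every non-cyclic subgroup H satisfies C_G(H) ≤ H. For n ≥ 3, the dihedral group of order 2n has self-centralizing non-cyclic subgroups if and only if n is odd or a power of 2. -/
theorem result (n : ℕ) (hn : 3 ≤ n) : (∀ H : Subgroup (DihedralGroup n), ¬ IsCyclic ↥H → Subgroup.centralizer (H : Set (DihedralGroup n)) ≤ H) ↔ (Odd n ∨ ∃ k : ℕ, n = 2 ^ k) := by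
  have : NeZero n := ⟨by omega⟩
  constructor
  · intro hX
    by_contra hc
    push Not at hc
    obtain ⟨hodd, hpow⟩ := hc
    obtain ⟨a, m, hm, hnam⟩ := Nat.exists_eq_two_pow_mul_odd (show n ≠ 0 by omega)
    have ha : a ≠ 0 := by
      rintro rfl
      exact hodd (by simpa [hnam] using hm)
    have hm1 : m ≠ 1 := fun h => hpow a (by rw [hnam, h, mul_one])
    have h2a : 2 ∣ 2 ^ a := dvd_pow_self 2 ha
    let ρ : ZMod n →+* ZMod (2 ^ a) := ZMod.castHom (Dvd.intro m hnam.symm) (ZMod (2 ^ a))
    let H : Subgroup (DihedralGroup n) :=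
      { carrier := {g | match g with | .r i => ρ i = 0 | .sr i => ρ i = 0}
        one_mem' := map_zero ρ
        mul_mem' := fun {x y} hx hy => by
          rcases x with i | i <;> rcases y with j | j <;>
            simp_all [map_add, map_sub]
        inv_mem' := fun {x} hx => by
          rcases x with i | i <;> simp_all [map_neg] }
    have hnc : ¬ IsCyclic H := by
      intro hcy
      have hs : DihedralGroup.sr (0 : ZMod n) ∈ H := map_zero ρ
      have hr : DihedralGroup.r ((2 ^ a : ℕ) : ZMod n) ∈ H := by
        show ρ _ = 0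
        rw [map_natCast, ZMod.natCast_self]
      obtain ⟨g, hg⟩ := hcy.exists_generator
      obtain ⟨i, hi⟩ := Subgroup.mem_zpowers_iff.mp (hg ⟨_, hs⟩)
      obtain ⟨j, hj⟩ := Subgroup.mem_zpowers_iff.mp (hg ⟨_, hr⟩)
      have hcomm : (⟨_, hs⟩ : H) * ⟨_, hr⟩ = ⟨_, hr⟩ * ⟨_, hs⟩ := by
        rw [← hi, ← hj, ← zpow_add, ← zpow_add, add_comm]
      have h2 := congrArg Subtype.val hcomm
      simp only [Subgroup.coe_mul, DihedralGroup.sr_mul_r, DihedralGroup.r_mul_sr,
        DihedralGroup.sr.injEq, zero_add, zero_sub] at h2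
      have h3 : ((2 ^ a + 2 ^ a : ℕ) : ZMod n) = 0 := by
        rw [Nat.cast_add]; nth_rewrite 1 [h2]; exact neg_add_cancel _
      rw [ZMod.natCast_eq_zero_iff, hnam, ← two_mul] at h3
      have h4 : m ∣ 2 := (mul_dvd_mul_iff_left (pow_ne_zero a (two_ne_zero (α := ℕ)))).mp
        (by rwa [mul_comm 2] at h3)
      rcases (Nat.dvd_prime Nat.prime_two).mp h4 with h | h
      · exact hm1 h
      · exact absurd (h ▸ hm) (by decide)
    set z := DihedralGroup.r ((n / 2 : ℕ) : ZMod n) with hz
    have h2n : 2 ∣ n := hnam ▸ h2a.mul_right m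
    have hhalf : ((n / 2 : ℕ) : ZMod n) + ((n / 2 : ℕ) : ZMod n) = 0 := by
      rw [← Nat.cast_add, ← two_mul, Nat.mul_div_cancel' h2n, ZMod.natCast_self]
    have hzc : z ∈ Subgroup.centralizer (H : Set (DihedralGroup n)) := by
      rw [Subgroup.mem_centralizer_iff]
      rintro (i | i) -
      · simp [hz, add_comm]
      · simp only [hz, DihedralGroup.sr_mul_r, DihedralGroup.r_mul_sr, DihedralGroup.sr.injEq]
        rw [sub_eq_add_neg]
        congr 1
        exact eq_neg_of_add_eq_zero_left hhalf
    have hzH : ρ ((n / 2 : ℕ) : ZMod n) = 0 := hX H hnc hzc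
    rw [map_natCast, ZMod.natCast_eq_zero_iff] at hzH
    have hn2 : n / 2 = 2 ^ (a - 1) * m := by
      apply Nat.eq_of_mul_eq_mul_left (show 0 < 2 by norm_num)
      rw [Nat.mul_div_cancel' h2n, ← mul_assoc, ← pow_succ', show a - 1 + 1 = a by omega]
      exact hnam
    rw [hn2] at hzH
    have h5 : 2 ^ (a - 1) * 2 ∣ 2 ^ (a - 1) * m := by
      rwa [← pow_succ, show a - 1 + 1 = a by omega]
    have h6 := (mul_dvd_mul_iff_left (pow_ne_zero _ (two_ne_zero (α := ℕ)))).mp h5
    exact absurd hm (Nat.not_odd_iff_even.mpr (even_iff_two_dvd.mpr h6))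
  · intro hcase H hnc g hg
    rw [Subgroup.mem_centralizer_iff] at hg
    -- `H` contains a reflection and a non-trivial rotation
    have hrefl : ∃ i, DihedralGroup.sr i ∈ H := by
      by_contra hno
      push Not at hno
      apply hnc
      have hle : H ≤ Subgroup.zpowers (DihedralGroup.r (1 : ZMod n)) := by
        rintro (i | i) hi
        · exact ⟨(i.val : ℤ), by simp⟩
        · exact absurd hi (hno i)
      exact isCyclic_of_injective (Subgroup.inclusion hle) (Subgroup.inclusion_injective hle)
    obtain ⟨i, hi⟩ := hrefl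
    have hrot : ∃ j : ZMod n, j ≠ 0 ∧ DihedralGroup.r j ∈ H := by
      by_contra hno
      push Not at hno
      apply hnc
      refine ⟨⟨⟨_, hi⟩, fun y => ?_⟩⟩
      obtain ⟨y | y, hy⟩ := y
      · refine ⟨0, Subtype.ext ?_⟩
        by_cases hy0 : y = 0
        · simp [hy0]
        · exact absurd hy (hno y hy0)
      · refine ⟨1, Subtype.ext ?_⟩
        by_cases hy0 : y - i = 0
        · simp [sub_eq_zero.mp hy0]
        · have := H.mul_mem hi hy
          rw [DihedralGroup.sr_mul_sr] at this
          exact absurd this (hno _ hy0)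
    obtain ⟨j, hj0, hj⟩ := hrot
    have hgi := hg _ hi
    have hgj := hg _ hj
    rcases g with k | k
    · simp only [DihedralGroup.sr_mul_r, DihedralGroup.r_mul_sr, DihedralGroup.sr.injEq] at hgi
      have hk : k + k = 0 := by linear_combination hgi
      by_cases hk0 : k = 0
      · rw [hk0]; exact H.one_mem
      rcases hcase with hodd | ⟨a, ha⟩
      · exact absurd (ZMod.add_self_eq_zero_iff_eq_zero hodd |>.mp hk) hk0
      · -- some multiple of `j` has additive order two
        obtain ⟨t, ht, htj⟩ : ∃ t : ℕ, ((t : ℕ) : ZMod n) * j ≠ 0 ∧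
            ((t : ℕ) : ZMod n) * j + ((t : ℕ) : ZMod n) * j = 0 := by
          have hex : ∃ s : ℕ, ((2 ^ s : ℕ) : ZMod n) * j = 0 := ⟨a, by rw [← ha, ZMod.natCast_self, zero_mul]⟩
          refine ⟨2 ^ (Nat.find hex - 1), ?_, ?_⟩
          · exact Nat.find_min hex (show Nat.find hex - 1 < Nat.find hex by
              have : Nat.find hex ≠ 0 := fun h => hj0 (by
                have := Nat.find_spec hex
                rwa [h, pow_zero, Nat.cast_one, one_mul] at this)
              omega)
          · have h0 : Nat.find hex ≠ 0 := fun h => hj0 (by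
                have := Nat.find_spec hex
                rwa [h, pow_zero, Nat.cast_one, one_mul] at this)
            rw [← add_mul, ← Nat.cast_add, ← two_mul, ← pow_succ',
              show Nat.find hex - 1 + 1 = Nat.find hex by omega]
            exact Nat.find_spec hex
        have hkk : ∀ y : ZMod n, y ≠ 0 → y + y = 0 → y.val = n / 2 := by
          intro y hy hyy
          have h1 : (((y.val + y.val : ℕ)) : ZMod n) = 0 := by
            rw [Nat.cast_add, ZMod.natCast_zmod_val, hyy]
          rw [ZMod.natCast_eq_zero_iff] at h1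
          have h2 := ZMod.val_lt y
          have h3 : y.val ≠ 0 := fun h => hy (by rwa [ZMod.val_eq_zero] at h)
          obtain ⟨c, hc⟩ := h1
          have : c < 2 := by
            by_contra h
            have : n * 2 ≤ n * c := Nat.mul_le_mul_left n (by omega)
            omega
          interval_cases c <;> omega
        have hkj : k = ((t : ℕ) : ZMod n) * j := ZMod.val_injective n
          ((hkk k hk0 hk).trans (hkk _ ht htj).symm)
        have := H.pow_mem hj t
        rw [DihedralGroup.r_pow, mul_comm, ← hkj] at this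
        exact this
    · simp only [DihedralGroup.r_mul_sr, DihedralGroup.sr_mul_r, DihedralGroup.sr.injEq] at hgj
      simp only [DihedralGroup.sr_mul_sr, DihedralGroup.r.injEq] at hgi
      have hjj : j + j = 0 := by linear_combination -hgj
      have h2 : (k - i) + (k - i) = 0 := by linear_combination hgi
      rcases hcase with hodd | ⟨a, ha⟩
      · exact absurd (ZMod.add_self_eq_zero_iff_eq_zero hodd |>.mp hjj) hj0
      · by_cases hki : k - i = 0
        · rw [sub_eq_zero.mp hki]; exact hi
        have hkk : ∀ y : ZMod n, y ≠ 0 → y + y = 0 → y.val = n / 2 := by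
          intro y hy hyy
          have h1 : (((y.val + y.val : ℕ)) : ZMod n) = 0 := by
            rw [Nat.cast_add, ZMod.natCast_zmod_val, hyy]
          rw [ZMod.natCast_eq_zero_iff] at h1
          have h2 := ZMod.val_lt y
          have h3 : y.val ≠ 0 := fun h => hy (by rwa [ZMod.val_eq_zero] at h)
          obtain ⟨c, hc⟩ := h1
          have : c < 2 := by
            by_contra h
            have : n * 2 ≤ n * c := Nat.mul_le_mul_left n (by omega)
            omega
          interval_cases c <;> omega
        have heq : k - i = j := ZMod.val_injective n ((hkk _ hki h2).trans (hkk _ hj0 hjj).symm)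
        have := H.mul_mem hi hj
        rw [DihedralGroup.sr_mul_r, ← heq, add_sub_cancel] at this
        exact this

end Cfsg.Agent.S3920
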