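import Cfsg.Statements.S3921
import Cfsg.Agent.Lib.SelfCentralSimple.Local
import Cfsg.Agent.Lib.SelfCentralSimple.Psl

set_option autoImplicit false
set_option linter.style.haveILetI false
open Cfsg CfsgLib

namespace Cfsg.Agent.S3921

/-- Say that a group has self-centralizing non-cyclic subgroups when every non-cyclic subgroup H satisfies C_G(H) ≤ H. A non-abelian finite simple group has self-centralizing non-cyclic subgroups if and only if it is isomorphic to PSL₂(q) with q = 4, q = 9, or q a prime of the form 2^k + 1 or 2^k − 1. -/
theorem result {G : Type*} [Group G] [Finite G] [IsSimpleGroup G] (hna : ¬ IsMulCommutative G) :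
    (∀ H : Subgroup G, ¬ IsCyclic ↥H → Subgroup.centralizer (H : Set G) ≤ H) ↔ ∃ (F : Type) (_ : Field F) (_ : Fintype F),
      (Fintype.card F = 4 ∨ Fintype.card F = 9 ∨ ((Fintype.card F).Prime ∧ ∃ k : ℕ, Fintype.card F = 2 ^ k + 1 ∨ Fintype.card F = 2 ^ k - 1)) ∧
      Nonempty (G ≃* Matrix.ProjectiveSpecialLinearGroup (Fin 2) F) := by
  constructor
  · intro hsc
    obtain ⟨F, iF, iF', hodd, ⟨e⟩⟩ := SelfCentralSimple.exists_psl hna hsc
    haveI := Fact.mk Nat.prime_two
    obtain ⟨t, ht⟩ := exists_prime_orderOf_dvd_card' (G := G) 2 (SelfCentralSimple.even_card hna)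
    obtain ⟨k, hk⟩ := (SelfCentralSimple.centralizer_two hna hsc ht).exists_card_eq
    have hi : orderOf (e t) = 2 := by rw [e.orderOf_eq, ht]
    have hC : Nat.card (Subgroup.centralizer ({e t} : Set (Matrix.ProjectiveSpecialLinearGroup (Fin 2) F))) = 2 ^ k := by
      rw [← hk]
      refine (Nat.card_congr (e.toEquiv.subtypeEquiv fun x => ?_)).symm
      rw [Subgroup.mem_centralizer_singleton_iff, Subgroup.mem_centralizer_singleton_iff]
      show x * t = t * x ↔ e x * e t = e t * e x
      rw [← map_mul, ← map_mul, e.injective.eq_iff]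
    rw [PSL2.card_centralizer_involution hodd hi] at hC
    exact ⟨F, iF, iF', Or.inr (SelfCentralSimple.card_cases hodd hC), ⟨e⟩⟩
  · rintro ⟨F, iF, iF', hq, ⟨e⟩⟩
    rcases hq with h4 | hq
    · haveI := Fact.mk Nat.prime_five
      obtain ⟨e4⟩ := ClassicalGroups.psl_two_four_alternating (K := F) h4
      obtain ⟨e5⟩ := ClassicalGroups.psl_two_five_alternating (K := ZMod 5) (ZMod.card 5)
      exact (SelfCentralSimple.sc_psl (F := ZMod 5) (by rw [ZMod.card]; decide)
        (Or.inr ⟨by rw [ZMod.card]; exact Nat.prime_five, 2, Or.inl (by rw [ZMod.card]; rfl)⟩)).of_equiv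
        (e.trans (e4.trans e5.symm))
    · have hodd : Odd (Fintype.card F) := by
        rcases hq with h | ⟨hp, -⟩
        · rw [h]; decide
        · refine hp.odd_of_ne_two fun h2 => ?_
          have hc := PSL2.card_psl (F := F)
          rw [h2, ← Nat.card_congr e.toEquiv] at hc
          norm_num at hc
          haveI := Fact.mk Nat.prime_three
          obtain ⟨P⟩ : Nonempty (Sylow 3 G) := inferInstance
          have hd : 3 ∣ Nat.card (P : Subgroup G) := P.dvd_card_of_dvd_card (by rw [hc]; norm_num)
          have hP : Nat.card (P : Subgroup G) = 3 := by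
            obtain ⟨j, hj⟩ := P.isPGroup'.exists_card_eq
            have h6 := (P : Subgroup G).card_subgroup_dvd_card
            rw [hc, hj] at h6
            rw [hj] at hd ⊢
            rcases j with _ | _ | j
            · norm_num at hd
            · rfl
            · exfalso
              have : 3 ^ 2 ∣ 6 := (pow_dvd_pow 3 (by omega)).trans h6
              norm_num at this
          have hidx : (P : Subgroup G).index = 2 := by
            have := (P : Subgroup G).card_mul_index
            rw [hP, hc] at this
            omega
          rcases (Subgroup.normal_of_index_eq_two hidx).eq_bot_or_eq_top with h | h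
          · rw [h, Subgroup.card_bot] at hP; omega
          · rw [h, Subgroup.index_top] at hidx; omega
      exact (SelfCentralSimple.sc_psl hodd hq).of_equiv e

end Cfsg.Agent.S3921
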