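import Cfsg.Statements.S3922
import Cfsg.Agent.Lib.Struct77.Ito.Main

set_option autoImplicit false
open Cfsg

namespace Cfsg.Agent.S3922

open CfsgLib.Ito CfsgLib.Structure81.CoprimeClass in
/-- A finite group whose conjugacy classes have exactly three distinct sizes (1 and two further values) is solvable. -/
theorem result {G : Type*} [Group G] [Finite G] (n₁ n₂ : ℕ) (h12 : n₂ < n₁) (h2 : 1 < n₂)
    (h : ∀ x : G, (Subgroup.centralizer ({x} : Set G)).index = 1 ∨ (Subgroup.centralizer ({x} : Set G)).index = n₂ ∨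
      (Subgroup.centralizer ({x} : Set G)).index = n₁)
    (h₁ : ∃ x : G, (Subgroup.centralizer ({x} : Set G)).index = n₁) (h₂ : ∃ x : G, (Subgroup.centralizer ({x} : Set G)).index = n₂) :
    Group.IsSolvable G := by
  by_contra hns
  obtain ⟨x, hx⟩ := h₁
  obtain ⟨y, hy⟩ := h₂
  refine Data.false (n₁ := n₁) (n₂ := n₂) (G := G) ⟨h12, h2, fun z hz => ?_, ⟨x, ?_, hx⟩, ⟨y, ?_, hy⟩, hns⟩
  · rcases h z with h1 | h1 | h1
    · exact absurd (idx_eq_one_iff.1 h1) hz
    · exact Or.inl h1
    · exact Or.inr h1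
  · intro hc
    have := (idx_eq_one_iff.2 hc).symm.trans hx
    omega
  · intro hc
    have := (idx_eq_one_iff.2 hc).symm.trans hy
    omega

end Cfsg.Agent.S3922
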