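import Cfsg.Statements.S3924
import Cfsg.Agent.Lib.Homogeneous.EvenIndex
import Cfsg.Agent.Lib.Homogeneous.Centralise
import Cfsg.Agent.Lib.PF.OddOrder

set_option autoImplicit false
set_option linter.style.haveILetI false
open Cfsg

namespace Cfsg.Agent.S3924

open CfsgLib.Homogeneous in
/-- Subgroups mapped into themselves by all automorphisms inherit homogeneity. -/
theorem hom_restrict {G : Type*} [Group G] [Finite G] (hG : Hom G) (H : Subgroup G)
    (hH : ∀ (φ : G ≃* G), ∀ x ∈ H, φ x ∈ H) (A B : Subgroup H) (e : ↥A ≃* ↥B) :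
    ∃ φ : ↥H ≃* ↥H, ∀ a : ↥A, φ (a : ↥H) = (e a : ↥H) := by
  let eA := A.equivMapOfInjective H.subtype H.subtype_injective
  let eB := B.equivMapOfInjective H.subtype H.subtype_injective
  obtain ⟨φ, hφ⟩ := hG (A.map H.subtype) (B.map H.subtype) ((eA.symm.trans e).trans eB)
  let ψ : H →* H := MonoidHom.mk' (fun x => ⟨φ x, hH φ x x.2⟩) fun x y => Subtype.ext (map_mul φ _ _)
  have hinj : Function.Injective ψ := fun x y h =>
    Subtype.ext (φ.injective (congrArg Subtype.val h))
  refine ⟨MulEquiv.ofBijective ψ ⟨hinj, Finite.surjective_of_injective hinj⟩, fun a => Subtype.ext ?_⟩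
  have h1 := hφ (eA a)
  rw [MulEquiv.trans_apply, MulEquiv.trans_apply, eA.symm_apply_apply] at h1
  exact h1

open CfsgLib.Homogeneous in
/-- Call a finite group homogeneous when every isomorphism between two of its subgroups is the restriction of an automorphism of the whole group. A homogeneous finite group is an internal direct product H × K of normal subgroups of coprime orders, each homogeneous, with H solvable and K quasisimple (perfect with simple central quotient) or trivial. -/
theorem result {G : Type*} [Group G] [Finite G] (hhom : ∀ (A B : Subgroup G) (e : ↥A ≃* ↥B), ∃ φ : G ≃* G, ∀ a : ↥A, φ (a : G) = (e a : G)) :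
    ∃ H K : Subgroup G, H.Normal ∧ K.Normal ∧ H ⊓ K = ⊥ ∧ H ⊔ K = ⊤ ∧ (Nat.card ↥H).Coprime (Nat.card ↥K) ∧
      Group.IsSolvable ↥H ∧ (K = ⊥ ∨ Cfsg.IsQuasisimple ↥K) ∧
      (∀ (A B : Subgroup ↥H) (e : ↥A ≃* ↥B), ∃ φ : ↥H ≃* ↥H, ∀ a : ↥A, φ (a : ↥H) = (e a : ↥H)) ∧
      (∀ (A B : Subgroup ↥K) (e : ↥A ≃* ↥B), ∃ φ : ↥K ≃* ↥K, ∀ a : ↥A, φ (a : ↥K) = (e a : ↥K)) := by
  classical
  have hG : Hom G := hhom
  by_cases hs : Group.IsSolvable G
  · haveI := hs
    refine ⟨⊤, ⊥, inferInstance, inferInstance, inf_bot_eq _, sup_bot_eq _, ?_, inferInstance, Or.inl rfl,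
      hom_restrict hG ⊤ fun φ x _ => Subgroup.mem_top _, hom_restrict hG ⊥ fun φ x hx => ?_⟩
    · rw [Subgroup.card_bot]; exact Nat.coprime_one_right _
    · rw [Subgroup.mem_bot] at hx ⊢
      rw [hx, map_one]
  obtain ⟨L, hL, hLc, -⟩ := exists_component hG hs
  haveI := hLc
  have hq : Cfsg.IsQuasisimple L := hL.2
  have h2 := component_not_odd hL
  have hidx : (Nat.card L).Coprime L.index := by
    refine Nat.coprime_of_dvd fun p hp hpL hpi => ?_
    haveI : Fact p.Prime := ⟨hp⟩
    obtain ⟨rfl, hinv⟩ := index_exception hG hq hpL hpi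
    exact not_two_dvd_index hG hq h2 hinv hpi
  have hodd : Odd (Nat.card (G ⧸ L)) := by
    rw [← Subgroup.index_eq_card, ← Nat.not_even_iff_odd, even_iff_two_dvd]
    exact fun h => Nat.prime_two.not_dvd_one (hidx ▸ Nat.dvd_gcd h2 h)
  haveI hsol : Group.IsSolvable (G ⧸ L) := CfsgLib.PF.oddSolvable (G ⧸ L) hodd
  obtain ⟨H, hH⟩ := Subgroup.exists_right_complement'_of_coprime hidx
  have hcardH : Nat.card H = L.index := hH.symm.index_eq_card.symm
  have hcop : (Nat.card H).Coprime (Nat.card L) := by rw [hcardH]; exact hidx.symm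
  have hHC : H ≤ Subgroup.centralizer (L : Set G) := by
    set C := (Subgroup.centralizer (L : Set G)).subgroupOf H with hC
    refine Subgroup.subgroupOf_eq_top.1 (Subgroup.index_eq_one.1 (Nat.eq_one_iff_not_exists_prime_dvd.2 fun r hr hrd => ?_))
    haveI : Fact r.Prime := ⟨hr⟩
    let R : Sylow r H := default
    have hle : (R : Subgroup H) ≤ C := by
      intro x hx
      obtain ⟨k, hk⟩ := IsPGroup.iff_orderOf.1 R.2 ⟨x, hx⟩
      rw [← Subgroup.orderOf_coe, ← Subgroup.orderOf_coe] at hk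
      rcases k with _ | k
      · rw [pow_zero, orderOf_eq_one_iff] at hk
        show (x : G) ∈ Subgroup.centralizer (L : Set G)
        rw [hk]
        exact one_mem _
      · have hrH : r ∣ Nat.card H := (dvd_pow_self r (Nat.succ_ne_zero k)).trans
          (hk ▸ (Subgroup.orderOf_coe x).symm ▸ orderOf_dvd_natCard x)
        exact mem_centralizer_of_coprime hG hq h2 hidx
          (fun h => hr.not_dvd_one (hcop ▸ Nat.dvd_gcd hrH h)) hk
    exact R.not_dvd_index (hrd.trans (Subgroup.index_dvd_of_le hle))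
  have hHn : H.Normal := by
    rw [← Subgroup.normalizer_eq_top_iff, eq_top_iff, ← hH.sup_eq_top]
    refine sup_le (fun l hl => ?_) Subgroup.le_normalizer
    refine Subgroup.mem_normalizer_fintype fun x hx => ?_
    rw [Subgroup.mem_centralizer_iff.1 (hHC hx) l hl, mul_inv_cancel_right]
    exact hx
  have hHchar : ∀ (φ : G ≃* G), ∀ x ∈ H, φ x ∈ H := fun φ x hx => by
    haveI := hHn
    refine mem_of_coprime_index ?_
    have h1 : orderOf (φ x) ∣ Nat.card H := by
      rw [MulEquiv.orderOf_eq, ← Subgroup.orderOf_mk x hx]; exact orderOf_dvd_natCard _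
    have h3 : H.index = Nat.card L := hH.index_eq_card
    rw [h3]
    exact hcop.coprime_dvd_left h1
  have hinf : H ⊓ L = ⊥ := by rw [inf_comm]; exact hH.disjoint.eq_bot
  have hHsol : Group.IsSolvable H :=
    Group.isSolvable_of_isSolvable_injective (f := (QuotientGroup.mk' L).comp H.subtype) fun a b h => by
      refine Subtype.ext (inv_mul_eq_one.1 ?_)
      have h1 : ((a : G))⁻¹ * b ∈ H ⊓ L := ⟨H.mul_mem (H.inv_mem a.2) b.2, QuotientGroup.eq.1 h⟩
      rwa [hinf, Subgroup.mem_bot] at h1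
  exact ⟨H, L, hHn, inferInstance, hinf, by rw [sup_comm]; exact hH.sup_eq_top, hcop, hHsol, Or.inr hq,
    hom_restrict hG H hHchar, hom_restrict hG L fun φ x hx => map_mem_of_char φ hx⟩

end Cfsg.Agent.S3924
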