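import Cfsg.Statements.S3927
-- import your own Cfsg.Agent.* helpers here

import Cfsg.Agent.Lib.Struct77.IterCommutator
import Mathlib.GroupTheory.SemidirectProduct

set_option autoImplicit false
open Cfsg
open scoped Pointwise

namespace Cfsg.Agent.S3927

/-- Let G be a finite group and α an automorphism of G with [G, α] = G, that is, the elements g·α(g)⁻¹ generate G. Then for every k ≥ 1 the iterated commutators [g, α, …, α] with k entries α — the values of the k-th iterate of the map c ↦ c·α(c)⁻¹ — also generate G. -/
theorem result {G : Type*} [Group G] [Finite G] (α : MulAut G) (hG : Subgroup.closure (Set.range (fun c : G => c * (α c)⁻¹)) = ⊤) (k : ℕ) (hk : 1 ≤ k) :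
    Subgroup.closure (Set.range ((fun c : G => c * (α c)⁻¹)^[k])) = ⊤ := by
  classical
  set T : G → G := fun c => c * (α c)⁻¹ with hT
  set S := Set.range (T^[k]) with hS
  set φ : Subgroup.zpowers α →* MulAut G := (Subgroup.zpowers α).subtype with hφ
  let E := G ⋊[φ] Subgroup.zpowers α
  have : Finite (MulAut G) := Finite.of_injective _ DFunLike.coe_injective
  have : Finite E := Finite.of_equiv _ SemidirectProduct.equivProd.symm
  let a : E := SemidirectProduct.inr ⟨α, Subgroup.mem_zpowers α⟩
  have hconj : ∀ c : G, (SemidirectProduct.inl c : E) * a * (SemidirectProduct.inl c)⁻¹ =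
      SemidirectProduct.inl (T c) * a := by
    intro c
    apply SemidirectProduct.ext <;> simp [a, T, φ, SemidirectProduct.mul_left, mul_assoc]
  have hnc : Subgroup.normalClosure ({a} : Set E) = ⊤ := by
    set N := Subgroup.normalClosure ({a} : Set E) with hN
    have ha : a ∈ N := Subgroup.subset_normalClosure rfl
    have hl : ∀ g : G, (SemidirectProduct.inl g : E) ∈ N := by
      intro g
      have hle : Subgroup.closure (Set.range T) ≤ N.comap (SemidirectProduct.inl (φ := φ)) := by
        rw [Subgroup.closure_le]
        rintro _ ⟨c, rfl⟩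
        show (SemidirectProduct.inl (T c) : E) ∈ N
        have h := N.mul_mem ((Subgroup.normalClosure_normal).conj_mem a ha (SemidirectProduct.inl c)) (N.inv_mem ha)
        rwa [hconj, mul_inv_cancel_right] at h
      exact hle (hG ▸ Subgroup.mem_top g)
    rw [eq_top_iff]
    intro x _
    rw [← SemidirectProduct.inl_left_mul_inr_right x]
    refine N.mul_mem (hl _) ?_
    obtain ⟨i, hi⟩ := Subgroup.mem_zpowers_iff.1 x.right.2
    have hx : x.right = (⟨α, Subgroup.mem_zpowers α⟩ : Subgroup.zpowers α) ^ i :=
      Subtype.ext (by simpa using hi.symm)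
    rw [hx, map_zpow]
    exact zpow_mem ha i
  have hit : ∀ (j : ℕ) (c : G), (fun b : E => b * a * b⁻¹)^[j] (SemidirectProduct.inl (T c) * a) =
      SemidirectProduct.inl (T^[j + 1] c) * a := by
    intro j
    induction j with
    | zero => intro c; rfl
    | succ j ih =>
      intro c
      rw [Function.iterate_succ_apply', ih, Function.iterate_succ_apply' T (j + 1) c]
      rw [mul_inv_rev, mul_assoc _ a (a⁻¹ * _), mul_inv_cancel_left]
      exact hconj (T^[j + 1] c)
  have key := CfsgLib.IterCommutator.closure_iterate (Nat.card E) E le_rfl a hnc (k - 1)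
  -- the set of elements with left coordinate in the generated subgroup
  set H := Subgroup.closure S with hH
  have hcomm : ∀ x, α (T x) = T (α x) := fun x => by simp [T]
  have hcommk : ∀ (j : ℕ) x, α (T^[j] x) = T^[j] (α x) := fun j x =>
    (Function.Semiconj.iterate_right hcomm j) x
  have hinv : H.map α.toMonoidHom = H := by
    rw [hH, MonoidHom.map_closure]
    congr 1
    apply Set.Subset.antisymm
    · rintro _ ⟨_, ⟨x, rfl⟩, rfl⟩
      exact ⟨α x, (hcommk k x).symm⟩
    · rintro _ ⟨x, rfl⟩
      exact ⟨T^[k] (α.symm x), ⟨_, rfl⟩, by simp [hcommk]⟩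
  have hzmem : ∀ β ∈ Subgroup.zpowers α, ∀ x ∈ H, β x ∈ H := by
    have hle : Subgroup.zpowers α ≤ MulAction.stabilizer (MulAut G) (H : Set G) := by
      rw [Subgroup.zpowers_le, MulAction.mem_stabilizer_iff]
      have h := congrArg (fun L : Subgroup G => (L : Set G)) hinv
      exact h
    intro β hβ x hx
    have h := MulAction.mem_stabilizer_iff.1 (hle hβ)
    rw [← SetLike.mem_coe, ← h]
    exact Set.smul_mem_smul_set hx
  let L : Subgroup E :=
    { carrier := {x | x.left ∈ H}
      one_mem' := H.one_mem
      mul_mem' := fun {x y} hx hy => H.mul_mem hx (hzmem _ x.right.2 _ hy)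
      inv_mem' := fun {x} hx => hzmem _ (x.right⁻¹).2 _ (H.inv_mem hx) }
  have hL : (⊤ : Subgroup E) ≤ L := by
    rw [← key, Subgroup.closure_le]
    rintro x (rfl | ⟨e, rfl⟩)
    · exact H.one_mem
    · obtain ⟨g, z, rfl⟩ : ∃ g z, e = (SemidirectProduct.inl g : E) * SemidirectProduct.inr z :=
        ⟨_, _, (SemidirectProduct.inl_left_mul_inr_right e).symm⟩
      have hza : (SemidirectProduct.inr z : E) * a = a * SemidirectProduct.inr z := by
        simp only [a, ← map_mul]
        congr 1
        obtain ⟨i, hi⟩ := Subgroup.mem_zpowers_iff.1 z.2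
        refine Subtype.ext ?_
        simp only [Subgroup.coe_mul, ← hi]
        exact (Commute.zpow_self α i).eq
      have he : (SemidirectProduct.inl g : E) * SemidirectProduct.inr z * a *
          ((SemidirectProduct.inl g : E) * SemidirectProduct.inr z)⁻¹ = SemidirectProduct.inl (T g) * a := by
        rw [mul_inv_rev, mul_assoc (SemidirectProduct.inl g : E), hza]
        rw [← hconj g]
        group
      show ((fun b : E => b * a * b⁻¹)^[k - 1] _).left ∈ H
      rw [he, hit, Nat.sub_add_cancel hk]
      have : ((SemidirectProduct.inl (T^[k] g) : E) * a).left = T^[k] g := by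
        rw [SemidirectProduct.mul_left]; simp [a]
      rw [this]
      exact Subgroup.subset_closure ⟨g, rfl⟩
  rw [eq_top_iff]
  intro g _
  exact hL (Subgroup.mem_top (SemidirectProduct.inl g : E))
end Cfsg.Agent.S3927
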