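import Cfsg.Statements.S3930
import Cfsg.Agent.Lib.Pyramidal74.Parity
import Cfsg.Agent.Lib.Pyramidal74.Kernel
import Cfsg.Agent.Lib.Pyramidal74.Image
import Cfsg.Agent.Lib.Pyramidal74.Example

set_option autoImplicit false
open Cfsg

namespace Cfsg.Agent.S3930

open CfsgLib.Pyramidal74

theorem solvable_of_hyp {H : Type*} [Group H] [Finite H] {N : Subgroup H} {p r : ℕ} (h : Hyp N p r) :
    Group.IsSolvable H := by
  haveI := h.normal
  set ι := MulAut.conjNormal (G := H) (H := N) with hι
  haveI : Group.IsSolvable ι.range := h.solvable_range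
  haveI : Group.IsSolvable ι.ker := by
    haveI := h.solvable_centralizer
    refine Group.isSolvable_of_isSolvable_injective (f := Subgroup.inclusion (show ι.ker ≤ Subgroup.centralizer (N : Set H) from ?_))
      (Subgroup.inclusion_injective _)
    intro g hg
    refine Subgroup.mem_centralizer_iff.2 fun n hn => ?_
    have h1 := congrArg (fun φ : MulAut N => ((φ ⟨n, hn⟩ : N) : H)) (MonoidHom.mem_ker.1 hg)
    simp only [hι, MulAut.conjNormal_apply, MulAut.one_apply] at h1
    exact (mul_inv_eq_iff_eq_mul.1 h1).symm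
  haveI : Group.IsSolvable (H ⧸ ι.ker) :=
    Group.isSolvable_of_isSolvable_injective (f := (QuotientGroup.quotientKerEquivRange ι).toMonoidHom)
      (QuotientGroup.quotientKerEquivRange ι).injective
  exact (Group.isSolvable_iff_subgroup_quotient ι.ker).2 ⟨inferInstance, inferInstance⟩

/-- Call a finite group m-pyramidal when it has exactly m involutions and they form a single conjugacy class. Let p be an odd prime and k ≥ 1. Then every p^k-pyramidal finite group is solvable if and only if k is odd or p^k = 9. -/
theorem result (p k : ℕ) (hp : p.Prime) (hp2 : p ≠ 2) (hk : 1 ≤ k) :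
    (∀ (G : Type) [Group G] [Finite G], Nat.card {x : G // orderOf x = 2} = p ^ k →
      (∀ x y : G, orderOf x = 2 → orderOf y = 2 → ∃ g : G, g * x * g⁻¹ = y) → Group.IsSolvable G) ↔ (Odd k ∨ p ^ k = 9) := by
  constructor
  · intro hall
    by_contra hc
    push Not at hc
    obtain ⟨m, rfl⟩ := Nat.not_odd_iff_even.1 hc.1
    haveI : Fact p.Prime := ⟨hp⟩
    have hm : m ≠ 0 := by omega
    haveI := Fintype.ofFinite (GaloisField p m)
    have hcard : Fintype.card (GaloisField p m) = p ^ m := by
      rw [← Nat.card_eq_fintype_card]; exact GaloisField.card p m hm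
    have h3 : 3 ≤ p := by have := hp.two_le; omega
    have h2 : (2 : GaloisField p m) ≠ 0 := fun e => by
      have h := (CharP.cast_eq_zero_iff (GaloisField p m) p 2).1 (by exact_mod_cast e)
      have := Nat.le_of_dvd two_pos h
      omega
    have h4 : 4 ≤ Fintype.card (GaloisField p m) := by
      rw [hcard]
      by_contra hlt
      have hm1 : m = 1 := by
        by_contra hne
        have : p ^ 2 ≤ p ^ m := Nat.pow_le_pow_right (by omega) (by omega)
        nlinarith
      subst hm1
      rw [pow_one] at hlt
      have : p = 3 := by omega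
      subst this
      exact hc.2 rfl
    obtain ⟨G, _, _, hcount, hone, hns⟩ := exists_nonsolvable h2 h4
    exact hns (hall G (by rw [hcount, hcard, ← pow_mul, mul_two]) hone)
  · intro hcond G _ _ hcount hone
    by_contra hns
    obtain ⟨⟨t, ht⟩⟩ : Nonempty {x : G // orderOf x = 2} :=
      (Nat.card_pos_iff.1 (by rw [hcount]; exact pow_pos hp.pos k)).1
    have hodd : Odd (Nat.card (Cfsg.oddCore G)) := CfsgLib.DGroup.odd_card_oddCore
    have hdvd := card_involutions_quotient_dvd (Cfsg.oddCore G) hodd hone ht
    rw [hcount] at hdvd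
    obtain ⟨j, -, hj⟩ := (Nat.dvd_prime_pow hp).1 hdvd
    rcases Nat.eq_zero_or_pos j with rfl | hj1
    · rw [pow_zero] at hj
      haveI : Subsingleton {x : G ⧸ Cfsg.oddCore G // orderOf x = 2} := (Nat.card_eq_one_iff_unique.1 hj).1
      have hall : ∀ x : G, orderOf x = 2 → x * t ∈ Cfsg.oddCore G := by
        intro x hx
        have e := Subsingleton.elim
          (⟨_, orderOf_mk_two _ hodd hx⟩ : {x : G ⧸ Cfsg.oddCore G // orderOf x = 2})
          ⟨_, orderOf_mk_two _ hodd ht⟩
        have e' : (x : G ⧸ Cfsg.oddCore G) = (t : G ⧸ Cfsg.oddCore G) := congrArg Subtype.val e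
        rw [← QuotientGroup.eq_one_iff, QuotientGroup.mk_mul, e', ← QuotientGroup.mk_mul,
          mul_self_of_order_two ht, QuotientGroup.mk_one]
      obtain ⟨heven, h9⟩ := parity inferInstance hodd hns hone ht hall hp hcount
      rcases hcond with hk' | hk'
      · exact (Nat.not_even_iff_odd.2 hk') heven
      · exact h9 hk'
    · have hO : Cfsg.oddCore (G ⧸ Cfsg.oddCore G) = ⊥ := CfsgLib.InvChar.oddCore_quotient_oddCore
      have hone' := oneClass_quotient (Cfsg.oddCore G) hodd hone
      obtain ⟨rfl, N, hNn, hab, hsq, hall, r, hr, hrp⟩ := structure_of_oddCore_eq_bot hp hp2 hj1 hO hj hone'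
      haveI : Group.IsSolvable (Cfsg.oddCore G) := CfsgLib.Pyramidal74.solvable_of_odd hodd
      exact CfsgLib.DGroup.not_solvable_quotient (Cfsg.oddCore G) inferInstance hns
        (solvable_of_hyp ⟨hp, hp2, hrp, hr, hNn, hab, hsq, hall, hone', hO⟩)

end Cfsg.Agent.S3930
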