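import Cfsg.Statements.S3941
import Mathlib

set_option autoImplicit false
open Cfsg

namespace Cfsg.Agent.S3941

/-- Let n ≥ 5 and p an odd prime with p ≤ n, and suppose that every proper subgroup of the alternating group of degree n whose order is divisible by p has a normal Sylow p-subgroup. Then n = p. -/
theorem result (n p : ℕ) (hn : 5 ≤ n) [Fact p.Prime] (hp : p ≠ 2) (hpn : p ≤ n)
    (h : ∀ H : Subgroup ↥(alternatingGroup (Fin n)), H ≠ ⊤ → p ∣ Nat.card ↥H → Cfsg.IsPClosed p ↥H) : n = p := by
  by_contra hne
  have hlt : p < n := lt_of_le_of_ne hpn (Ne.symm hne)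
  let s : Finset (Fin n) := Finset.univ.erase ⟨0, by omega⟩
  have hs : s.card = n - 1 := by
    rw [Finset.card_erase_of_mem (Finset.mem_univ _), Finset.card_univ, Fintype.card_fin]
  have hns : Nat.card ↥s = n - 1 := by rw [Nat.card_eq_fintype_card, Fintype.card_coe, hs]
  have : Nontrivial ↥s := Finite.one_lt_card_iff_nontrivial.mp (by omega)
  set f := alternatingGroup.ofSubtype s with hf
  have hfi : Function.Injective f := alternatingGroup.ofSubtype_injective
  let e : alternatingGroup ↥s ≃* f.range := MonoidHom.ofInjective hfi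
  have hcard : 2 * Nat.card (alternatingGroup ↥s) = (n - 1).factorial := by
    rw [two_mul_nat_card_alternatingGroup, Nat.card_perm, hns]
  have hpodd : Nat.Coprime p 2 := (Nat.coprime_primes Fact.out Nat.prime_two).mpr hp
  have hpd : p ∣ Nat.card (alternatingGroup ↥s) := by
    refine hpodd.dvd_of_dvd_mul_left ?_
    rw [hcard]
    exact Nat.dvd_factorial (Fact.out : p.Prime).pos (by omega)
  have htop : f.range ≠ ⊤ := by
    intro htop
    have : Nontrivial (Fin n) := Fin.nontrivial_iff_two_le.mpr (by omega)
    have h1 : Nat.card (alternatingGroup ↥s) = Nat.card ↥(alternatingGroup (Fin n)) := by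
      rw [Nat.card_congr e.toEquiv, htop, Subgroup.card_top]
    have h2 : 2 * Nat.card ↥(alternatingGroup (Fin n)) = n.factorial := by
      rw [two_mul_nat_card_alternatingGroup, Nat.card_perm, Nat.card_fin]
    rw [← h1, hcard] at h2
    have h3 := Nat.mul_factorial_pred (show n ≠ 0 by omega)
    have h4 := Nat.factorial_pos (n - 1)
    nlinarith
  let P : Sylow p (alternatingGroup ↥s) := default
  let P' : Sylow p f.range := P.mapSurjective (f := e.toMonoidHom) e.surjective
  have hP' := h f.range htop (by rwa [← Nat.card_congr e.toEquiv]) P'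
  have hPn : (P : Subgroup (alternatingGroup ↥s)).Normal := by
    have h1 : ((P' : Subgroup f.range).comap e.toMonoidHom).Normal := inferInstance
    have h2 : (P' : Subgroup f.range).comap e.toMonoidHom = (P : Subgroup _) :=
      Subgroup.comap_map_eq_self_of_injective e.injective _
    rwa [h2] at h1
  have hall : ∀ x : alternatingGroup ↥s, (∃ k, orderOf x = p ^ k) → x ∈ (P : Subgroup _) := by
    rintro x ⟨k, hk⟩
    have : IsPGroup p (Subgroup.zpowers x) := IsPGroup.of_card (n := k) (by rw [Nat.card_zpowers, hk])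
    obtain ⟨Q, hQ⟩ := this.exists_le_sylow
    have := Sylow.unique_of_normal P hPn
    rw [Subsingleton.elim P Q]
    exact hQ (Subgroup.mem_zpowers x)
  by_cases hp3 : p = 3
  · subst hp3
    have hPtop : (P : Subgroup (alternatingGroup ↥s)) = ⊤ := by
      rw [eq_top_iff, ← alternatingGroup.closure_isThreeCycles_eq_top, Subgroup.closure_le]
      intro g hg
      refine hall g ⟨1, ?_⟩
      rw [pow_one, ← Subgroup.orderOf_coe]
      exact Equiv.Perm.IsThreeCycle.orderOf hg
    obtain ⟨k, hk⟩ := P.2.exists_card_eq
    rw [hPtop, Subgroup.card_top] at hk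
    have h4 : 4 ∣ (n - 1).factorial := Nat.dvd_factorial (by norm_num) (by omega)
    rw [← hcard, hk, show 4 = 2 * 2 from rfl] at h4
    exact absurd (Nat.prime_two.dvd_of_dvd_pow ((mul_dvd_mul_iff_left two_ne_zero).mp h4)) (by norm_num)
  · have h2p := (Fact.out : p.Prime).two_le
    have hp4 : p ≠ 4 := fun h => absurd (Fact.out : p.Prime) (h ▸ by norm_num)
    have : IsSimpleGroup (alternatingGroup ↥s) := alternatingGroup.isSimpleGroup (by omega)
    have hne : (P : Subgroup (alternatingGroup ↥s)) ≠ ⊥ := P.ne_bot_of_dvd_card hpd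
    rcases hPn.eq_bot_or_eq_top with h1 | h1
    · exact hne h1
    obtain ⟨k, hk⟩ := P.2.exists_card_eq
    rw [h1, Subgroup.card_top] at hk
    have h3 : 3 ∣ (n - 1).factorial := Nat.dvd_factorial (by norm_num) (by omega)
    rw [← hcard, hk] at h3
    have h5 : 3 ∣ p := Nat.prime_three.dvd_of_dvd_pow
      ((Nat.Coprime.dvd_of_dvd_mul_left (by norm_num) h3))
    exact hp3 (((Nat.prime_dvd_prime_iff_eq Nat.prime_three Fact.out).mp h5).symm)

end Cfsg.Agent.S3941
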