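import Cfsg.Statements.S3947
import Cfsg.Agent.Lib.Struct77.ZipperGen

set_option autoImplicit false
open Cfsg

namespace Cfsg.Agent.S3947

/-- Let G be a finite group and A a proper subgroup of G whose normal closure is G. Let Y be the join of all proper subgroups H of G that contain A and are generated by their own conjugates of A (the normal closure of A in H is H). Then either Y = G, or A is contained in exactly one maximal subgroup of G. -/
theorem result {G : Type*} [Group G] [Finite G] (A : Subgroup G) (hA : Subgroup.normalClosure (A : Set G) = ⊤) (hAG : A ≠ ⊤) :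
    sSup {H : Subgroup G | A ≤ H ∧ H ≠ ⊤ ∧ Subgroup.normalClosure ((A.subgroupOf H : Subgroup ↥H) : Set ↥H) = ⊤} = ⊤ ∨
      ∃! M : Subgroup G, IsCoatom M ∧ A ≤ M := by
  set 𝓕 := {H : Subgroup G | A ≤ H ∧ H ≠ ⊤ ∧
    Subgroup.normalClosure ((A.subgroupOf H : Subgroup ↥H) : Set ↥H) = ⊤} with h𝓕
  have hfam : CfsgLib.ZipperGen.fam A = 𝓕 := by
    ext H
    constructor
    · rintro ⟨hg, ht⟩
      exact ⟨hg.1, ht, (CfsgLib.ZipperGen.gen_iff hg.1).1 hg⟩
    · rintro ⟨hle, ht, hn⟩
      exact ⟨(CfsgLib.ZipperGen.gen_iff hle).2 hn, ht⟩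
  by_cases h : sSup 𝓕 = ⊤
  · exact Or.inl h
  right
  refine CfsgLib.ZipperGen.main_aux (Nat.card G + 1) A (by omega) ⟨le_top, fun L hL _ hn => ?_⟩ hAG
    (by rwa [CfsgLib.ZipperGen.fsup, hfam])
  have : L.Normal := Subgroup.normalizer_eq_top_iff.1 (top_le_iff.1 hn)
  exact top_le_iff.1 (hA ▸ Subgroup.normalClosure_le_normal hL)

end Cfsg.Agent.S3947
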