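import Cfsg.Statements.S3949
import Mathlib

set_option autoImplicit false
open Cfsg

namespace Cfsg.Agent.S3949

/-- Let G be a finite group and α an automorphism of G of order 2 such that the elements g·α(g)⁻¹ generate G. Let j be a positive integer such that 2^j divides the order of no element inverted by α. Then the set of values of the j-th iterate of the map c ↦ c·α(c)⁻¹ is exactly the set of elements of odd order inverted by α. -/
theorem result {G : Type*} [Group G] [Finite G] (α : MulAut G) (hα : orderOf α = 2) (hG : Subgroup.closure (Set.range (fun c : G => c * (α c)⁻¹)) = ⊤)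
    (j : ℕ) (hj : ∀ g : G, α g = g⁻¹ → ¬ 2 ^ j ∣ orderOf g) :
    Set.range ((fun c : G => c * (α c)⁻¹)^[j]) = {g : G | Odd (orderOf g) ∧ α g = g⁻¹} := by
  set δ := fun c : G => c * (α c)⁻¹ with hδ
  have hαα : ∀ x, α (α x) = x := fun x => by
    have : α ^ 2 = 1 := hα ▸ pow_orderOf_eq_one α
    have h2 := DFunLike.congr_fun this x
    simpa [pow_two] using h2
  have hinv : ∀ c, α (δ c) = (δ c)⁻¹ := fun c => by
    simp [hδ, hαα]
  have hiter : ∀ (i : ℕ) (c : G), α c = c⁻¹ → δ^[i] c = c ^ 2 ^ i := by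
    intro i
    induction i with
    | zero => intro c _; simp
    | succ i ih =>
      intro c hc
      rw [Function.iterate_succ_apply', ih c hc]
      simp only [hδ, map_pow, hc, inv_pow, inv_inv]
      rw [← pow_add, ← two_mul, ← pow_succ']
  have hj1 : j ≠ 0 := by
    rintro rfl
    exact hj 1 (by simp) (by simp)
  obtain ⟨i, rfl⟩ := Nat.exists_eq_succ_of_ne_zero hj1
  ext g
  constructor
  · rintro ⟨c, rfl⟩
    rw [Function.iterate_succ_apply, hiter i _ (hinv c)]
    refine ⟨?_, by rw [map_pow, hinv, inv_pow]⟩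
    obtain ⟨a, m, hm, hcm⟩ := Nat.exists_eq_two_pow_mul_odd (orderOf_pos (δ c)).ne'
    have hai : a ≤ i := by
      by_contra h
      exact hj (δ c) (hinv c) (hcm ▸ (pow_dvd_pow 2 (by omega : i + 1 ≤ a)).mul_right m)
    have hd : orderOf ((δ c) ^ 2 ^ i) ∣ m := by
      apply orderOf_dvd_of_pow_eq_one
      rw [← pow_mul]
      exact orderOf_dvd_iff_pow_eq_one.mp (hcm ▸ mul_dvd_mul_right (pow_dvd_pow 2 hai) m)
    exact hm.of_dvd_nat hd
  · rintro ⟨hg, hgi⟩
    obtain ⟨k, hk⟩ := exists_pow_eq_self_of_coprime (n := 2 ^ (i + 1))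
      (Nat.Coprime.pow_left (i + 1) hg.coprime_two_left)
    refine ⟨g ^ k, ?_⟩
    show δ^[i + 1] (g ^ k) = g
    rw [hiter _ _ (by rw [map_pow, hgi, inv_pow]), ← pow_mul, mul_comm, pow_mul, hk]

end Cfsg.Agent.S3949
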