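import Cfsg.Statements.S3950
-- import your own Cfsg.Agent.* helpers here

import Cfsg.Agent.Lib.Struct77.BilinExt

set_option autoImplicit false
open Cfsg

namespace Cfsg.Agent.S3950

/-- A finite abelian group has trivial Schur multiplier if and only if it is cyclic. -/
theorem result {G : Type*} [CommGroup G] [Finite G] : Cfsg.HasCyclicSchurMultiplier G 1 ↔ IsCyclic G := by
  classical
  constructor
  · intro h
    obtain ⟨ι, _, n, hn, ⟨e⟩⟩ := CommGroup.equiv_prod_multiplicative_zmod_of_finite G
    by_cases hcop : Pairwise fun i j => Nat.Coprime (n i) (n j)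
    · let e' : ZMod (∏ i, n i) ≃+ ((i : ι) → ZMod (n i)) := (ZMod.prodEquivPi n hcop).toAddEquiv
      have e'' : Multiplicative (ZMod (∏ i, n i)) ≃* G :=
        (e'.toMultiplicative.trans (MulEquiv.piMultiplicative fun i => ZMod (n i))).trans e.symm
      exact isCyclic_of_surjective e''.toMonoidHom e''.surjective
    · exfalso
      obtain ⟨i, j, hij, hni⟩ : ∃ i j, i ≠ j ∧ ¬ Nat.Coprime (n i) (n j) := by
        simpa [Pairwise] using hcop
      set d := Nat.gcd (n i) (n j) with hd
      have hd1 : d ≠ 1 := hni
      let fi : G →* Multiplicative (ZMod d) :=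
        (AddMonoidHom.toMultiplicative
          (ZMod.castHom (Nat.gcd_dvd_left (n i) (n j)) (ZMod d)).toAddMonoidHom).comp
          ((Pi.evalMonoidHom (fun i => Multiplicative (ZMod (n i))) i).comp e.toMonoidHom)
      let fj : G →* Multiplicative (ZMod d) :=
        (AddMonoidHom.toMultiplicative
          (ZMod.castHom (Nat.gcd_dvd_right (n i) (n j)) (ZMod d)).toAddMonoidHom).comp
          ((Pi.evalMonoidHom (fun i => Multiplicative (ZMod (n i))) j).comp e.toMonoidHom)
      let β : G →* G →* Multiplicative (ZMod d) :=
        { toFun := fun g =>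
            { toFun := fun g' => Multiplicative.ofAdd ((fi g).toAdd * (fj g').toAdd)
              map_one' := by simp
              map_mul' := fun a b => by simp [mul_add] }
          map_one' := by ext g'; simp
          map_mul' := fun a b => by ext g'; simp [add_mul] }
      set x := e.symm (Pi.mulSingle i (Multiplicative.ofAdd 1)) with hx
      set y := e.symm (Pi.mulSingle j (Multiplicative.ofAdd 1)) with hy
      have key := CfsgLib.BilinExt.eq_swap_of_trivial_multiplier h β x y
      have h1 : fi x = Multiplicative.ofAdd 1 := by simp [fi, hx, ZMod.cast_one (Nat.gcd_dvd_left (n i) (n j))]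
      have h2 : fj y = Multiplicative.ofAdd 1 := by simp [fj, hy, ZMod.cast_one (Nat.gcd_dvd_right (n i) (n j))]
      have h3 : fi y = 1 := by simp [fi, hy, Pi.mulSingle_eq_of_ne hij]
      have h4 : (1 : ZMod d) = 0 := by
        have := congrArg Multiplicative.toAdd key
        simpa [β, h1, h2, h3] using this
      have : Subsingleton (ZMod d) := subsingleton_of_zero_eq_one h4.symm
      exact hd1 (ZMod.subsingleton_iff.1 this)
  · intro hc
    apply CfsgLib.SchurCover.hasCyclicSchurMultiplier_one_of_stem
    intro Γ _ _ σ hσ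
    obtain ⟨g, hg⟩ := IsCyclic.exists_generator (α := G)
    obtain ⟨a, ha⟩ := hσ.1 g
    obtain ⟨-, hle⟩ := CfsgLib.BilinExt.commutator_le_zpowers σ hσ.2.1 a a (by
      rw [Set.pair_eq_singleton, ha, eq_top_iff]
      intro x _
      rw [← Subgroup.zpowers_eq_closure]
      exact hg x)
    rw [eq_bot_iff]
    refine (hσ.2.2.trans hle).trans ?_
    simp
end Cfsg.Agent.S3950
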