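import Cfsg.Statements.S3951
-- import your own Cfsg.Agent.* helpers here

import Cfsg.Agent.Lib.Struct77.BilinExt

set_option autoImplicit false
open Cfsg
open scoped commutatorElement

namespace Cfsg.Agent.S3951

/-- For positive integers `m` and `n` with `n` dividing `m`, the Schur multiplier of the abelian group `ZMod m × ZMod n` (written multiplicatively) is cyclic of order `n`. In particular the elementary abelian group of order `p ^ 2` has multiplier of order `p`. -/
theorem result (m n : ℕ) [NeZero m] [NeZero n] (hnm : n ∣ m) : Cfsg.HasCyclicSchurMultiplier (Multiplicative (ZMod m × ZMod n)) n := by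
  classical
  let r : ZMod m →+* ZMod n := ZMod.castHom hnm (ZMod n)
  let β : Multiplicative (ZMod m × ZMod n) →* Multiplicative (ZMod m × ZMod n) →*
      Multiplicative (ZMod n) :=
    { toFun := fun g =>
        { toFun := fun g' => Multiplicative.ofAdd (r g.toAdd.1 * g'.toAdd.2)
          map_one' := by simp
          map_mul' := fun a b => by simp [mul_add] }
      map_one' := by ext g'; simp
      map_mul' := fun a b => by ext g'; simp [add_mul] }
  let u : Multiplicative (ZMod m × ZMod n) := Multiplicative.ofAdd ((1, 0) : ZMod m × ZMod n)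
  let v : Multiplicative (ZMod m × ZMod n) := Multiplicative.ofAdd ((0, 1) : ZMod m × ZMod n)
  have huv : β u v * (β v u)⁻¹ = Multiplicative.ofAdd (1 : ZMod n) := by
    simp [β, u, v]
  have hgen : Subgroup.closure ({u, v} : Set (Multiplicative (ZMod m × ZMod n))) = ⊤ := by
    rw [eq_top_iff]
    intro g _
    have hg : g = u ^ g.toAdd.1.val * v ^ g.toAdd.2.val := by
      apply Multiplicative.toAdd.injective
      simp [u, v, Prod.ext_iff]
    rw [hg]
    exact mul_mem (pow_mem (Subgroup.subset_closure (by simp)) _)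
      (pow_mem (Subgroup.subset_closure (by simp)) _)
  refine ⟨⟨CfsgLib.BilinExt.Ext β, inferInstance, inferInstance, CfsgLib.BilinExt.proj β,
    ⟨CfsgLib.BilinExt.proj_surjective, CfsgLib.BilinExt.ker_proj_le_center, ?_⟩,
    ⟨((MulEquiv.subgroupCongr CfsgLib.BilinExt.range_inC.symm).trans
      (MonoidHom.ofInjective CfsgLib.BilinExt.inC_injective).symm)⟩⟩, ?_⟩
  · rw [← CfsgLib.BilinExt.range_inC]
    rintro _ ⟨c, rfl⟩
    have hc : c = (β u v * (β v u)⁻¹) ^ c.toAdd.val := by
      rw [huv, ← ofAdd_nsmul]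
      simp
    rw [hc, map_pow]
    exact pow_mem (CfsgLib.BilinExt.inC_mem u v).2 _
  · intro Γ _ _ σ hσ
    obtain ⟨a, ha⟩ := hσ.1 u
    obtain ⟨b, hb⟩ := hσ.1 v
    obtain ⟨hk, hle⟩ := CfsgLib.BilinExt.commutator_le_zpowers σ hσ.2.1 a b (by rw [ha, hb]; exact hgen)
    have hbn : b ^ n ∈ Subgroup.center Γ := hσ.2.1 (by
      rw [MonoidHom.mem_ker, map_pow, hb, ← ofAdd_nsmul]
      simp [v])
    have hcn : (⟨⁅a, b⁆, hk⟩ : σ.ker) ^ n = 1 := by
      apply Subtype.ext
      rw [SubmonoidClass.coe_pow]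
      show ⁅a, b⁆ ^ n = 1
      rw [← CfsgLib.BilinExt.commutator_pow_right (hσ.2.1 hk), commutatorElement_eq_one_iff_mul_comm]
      exact Subgroup.mem_center_iff.1 hbn a
    let z : ℤ →+ Additive σ.ker := zmultiplesHom _ (Additive.ofMul (⟨⁅a, b⁆, hk⟩ : σ.ker))
    let φ : ZMod n →+ Additive σ.ker := ZMod.lift n ⟨z, by
      simp only [z, zmultiplesHom_apply, natCast_zsmul, ← ofMul_pow, hcn, ofMul_one]⟩
    refine ⟨φ.toMultiplicativeLeft, fun x => ?_⟩
    obtain ⟨k, hk'⟩ := Subgroup.mem_zpowers_iff.1 (hle (hσ.2.2 x.2))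
    refine ⟨Multiplicative.ofAdd ((k : ℤ) : ZMod n), ?_⟩
    show Additive.toMul (φ ((k : ℤ) : ZMod n)) = x
    rw [ZMod.lift_coe]
    simp only [z, zmultiplesHom_apply, toMul_zsmul, toMul_ofMul]
    exact Subtype.ext (by rw [SubgroupClass.coe_zpow]; exact hk')
end Cfsg.Agent.S3951
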