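import Cfsg.Statements.S3952
-- import your own Cfsg.Agent.* helpers here

import Cfsg.Agent.Lib.Chars17.PGroupGalois
import Cfsg.Agent.Lib.Schur.Basic

set_option autoImplicit false
open Cfsg

namespace Cfsg.Agent.S3952

open CfsgLib.Chars17 CfsgLib.Characters
open scoped ComplexConjugate

/-- A central element in the derived subgroup of a `p`-group has order whose square divides the
index of every central subgroup containing it. -/
theorem sq_dvd_index {P : Type*} [Group P] [Finite P] {p : ℕ} (hp : p.Prime) (hP : IsPGroup p P)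
    (A : Subgroup P) (hA : A ≤ Subgroup.center P) {a : P} (haA : a ∈ A) (had : a ∈ commutator P)
    {k : ℕ} (hk : orderOf a = p ^ (k + 1)) : p ^ (2 * (k + 1)) ∣ A.index := by
  classical
  let _ := Fintype.ofFinite P
  have : Fact p.Prime := ⟨hp⟩
  have hb : a ^ p ^ k ≠ 1 := fun h => by
    have h1 := orderOf_dvd_of_pow_eq_one h
    rw [hk, Nat.pow_dvd_pow_iff_le_right hp.one_lt] at h1
    omega
  obtain ⟨χ, hχ⟩ : ∃ χ : IrrCharacter P, (χ : P → ℂ) (a ^ p ^ k) ≠ (χ : P → ℂ) 1 := by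
    by_contra h
    simp only [not_exists, not_not] at h
    exact hb (eq_one_of_forall_irr h)
  obtain ⟨d, M, hd, hM⟩ := IsIrrCharacter.exists_mat χ.2
  have hd1 : (χ : P → ℂ) 1 = d := by rw [← hM, map_one, Matrix.trace_one, Fintype.card_fin]
  have hsc : ∀ z ∈ A, ∃ c : ℂ, M z = c • 1 := fun z hz =>
    scalar_of_commute M (by simp only [hM]; exact χ.2) fun g => by
      rw [← map_mul, ← map_mul, Subgroup.mem_center_iff.1 (hA hz) g]
  -- the scalar of `a`
  obtain ⟨c, hc⟩ := hsc a haA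
  have hpow : ∀ j, (χ : P → ℂ) (a ^ j) = c ^ j * d := fun j => by
    rw [← hM, map_pow, hc, smul_pow, one_pow, Matrix.trace_smul, Matrix.trace_one, Fintype.card_fin,
      smul_eq_mul]
  have hd0 : (d : ℂ) ≠ 0 := Nat.cast_ne_zero.2 hd.ne'
  have hck : c ^ p ^ k ≠ 1 := fun h => hχ (by rw [hpow, h, one_mul, hd1])
  have hck1 : c ^ p ^ (k + 1) = 1 := by
    have h := hpow (p ^ (k + 1))
    rw [← hk, pow_orderOf_eq_one, hd1] at h
    rw [← hk]
    exact (mul_eq_right₀ hd0).1 h.symm
  have hcd : c ^ d = 1 := by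
    let δ : P →* ℂˣ := ((Matrix.detMonoidHom (n := Fin d) (R := ℂ)).comp M).toHomUnits
    have h1 : δ a = 1 := Abelianization.commutator_subset_ker δ had
    have h2 : (M a).det = 1 := congrArg Units.val h1
    rwa [hc, Matrix.det_smul, Matrix.det_one, mul_one, Fintype.card_fin] at h2
  have hord : p ^ (k + 1) ∣ d := by
    rw [← orderOf_eq_prime_pow hck hck1]
    exact orderOf_dvd_of_pow_eq_one hcd
  -- `d ^ 2 ≤ [P : A]`
  have hs := classInner_irr_self χ.2
  rw [classInner, inv_mul_eq_one₀ (Nat.cast_ne_zero.2 Nat.card_pos.ne')] at hs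
  simp only [Complex.mul_conj] at hs
  rw [← Complex.ofReal_sum] at hs
  have hs' : ∑ g : P, Complex.normSq ((χ : P → ℂ) g) = (Nat.card P : ℝ) := by
    exact_mod_cast hs.symm
  have hval : ∀ z ∈ A, Complex.normSq ((χ : P → ℂ) z) = (d : ℝ) ^ 2 := by
    intro z hz
    obtain ⟨e, he⟩ := hsc z hz
    have h1 : (χ : P → ℂ) z = e * d := by
      rw [← hM, he, Matrix.trace_smul, Matrix.trace_one, Fintype.card_fin, smul_eq_mul]
    have h2 : e ^ Nat.card P = 1 := by
      have h3 := congrArg M (pow_card_eq_one' (x := z))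
      rw [map_pow, he, smul_pow, one_pow, map_one] at h3
      have h4 := congrArg Matrix.trace h3
      rw [Matrix.trace_smul, Matrix.trace_one, Fintype.card_fin, smul_eq_mul] at h4
      exact (mul_eq_right₀ hd0).1 h4
    rw [h1, map_mul, Complex.normSq_natCast, Complex.normSq_eq_norm_sq,
      Complex.norm_eq_one_of_pow_eq_one h2 Nat.card_pos.ne']
    ring
  have hle : Nat.card A * d ^ 2 ≤ Nat.card P := by
    have h1 : ∑ g ∈ Finset.univ.filter (· ∈ A), Complex.normSq ((χ : P → ℂ) g) ≤ (Nat.card P : ℝ) := by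
      rw [← hs']
      exact Finset.sum_le_univ_sum_of_nonneg fun g => Complex.normSq_nonneg _
    rw [Finset.sum_congr rfl fun g hg => hval g (Finset.mem_filter.1 hg).2, Finset.sum_const,
      nsmul_eq_mul, ← Fintype.card_subtype, ← Nat.card_eq_fintype_card] at h1
    exact_mod_cast h1
  have hle' : d ^ 2 ≤ A.index := by
    rw [← A.card_mul_index] at hle
    exact Nat.le_of_mul_le_mul_left hle Nat.card_pos
  obtain ⟨j, hj⟩ := hP.index A
  rw [hj]
  refine Nat.pow_dvd_pow p ((Nat.pow_le_pow_iff_right hp.one_lt).1 ?_)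
  calc p ^ (2 * (k + 1)) = (p ^ (k + 1)) ^ 2 := by rw [← pow_mul, mul_comm]
    _ ≤ d ^ 2 := Nat.pow_le_pow_left (Nat.le_of_dvd hd hord) 2
    _ ≤ A.index := hle'
    _ = p ^ j := hj

/-- If `A` is the Schur multiplier of the finite group `Q`, then the square of the exponent of `A` divides the order of `Q`. -/
theorem result {Q : Type*} [Group Q] [Finite Q] {A : Type*} [CommGroup A] (hA : Cfsg.HasSchurMultiplier Q A) : Monoid.exponent A ^ 2 ∣ Nat.card Q := by
  classical
  obtain ⟨⟨Γ, _, _, σ, hσ, ⟨e⟩⟩, -⟩ := hA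
  have : Finite A := Finite.of_equiv _ e.toEquiv
  have he0 : Monoid.exponent A ≠ 0 := Monoid.exponent_ne_zero_of_finite
  rw [Nat.dvd_iff_prime_pow_dvd_dvd]
  intro p m hp hm
  rcases Nat.eq_zero_or_pos m with rfl | hm0
  · simp
  -- the exponent of `p` in the exponent
  set v := (Monoid.exponent A).factorization p with hv
  have hm2 : m ≤ 2 * v := by
    have := (hp.pow_dvd_iff_le_factorization (pow_ne_zero 2 he0)).1 hm
    simpa [Nat.factorization_pow] using this
  refine (Nat.pow_dvd_pow p hm2).trans ?_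
  rcases Nat.eq_zero_or_pos v with h0 | hv0
  · simp [h0]
  obtain ⟨k, hk⟩ : ∃ k, v = k + 1 := ⟨v - 1, by omega⟩
  obtain ⟨a₀, ha₀⟩ := hp.exists_orderOf_eq_pow_factorization_exponent A
  have : Fact p.Prime := ⟨hp⟩
  set z : Γ := ((e.symm a₀ : σ.ker) : Γ) with hz
  have hzk : z ∈ σ.ker := (e.symm a₀).2
  have hzord : orderOf z = p ^ (k + 1) := by
    rw [hz, Subgroup.orderOf_coe, MulEquiv.orderOf_eq, ha₀, ← hv, hk]
  obtain ⟨S, hS⟩ : ∃ S : Sylow p Γ, z ∈ S := by
    have hzp : IsPGroup p (Subgroup.zpowers z) := IsPGroup.of_card (n := k + 1) (by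
      rw [Nat.card_zpowers, hzord])
    obtain ⟨S, hS⟩ := hzp.exists_le_sylow
    exact ⟨S, hS (Subgroup.mem_zpowers z)⟩
  have hzd : z ∈ ⁅(S : Subgroup Γ), (S : Subgroup Γ)⁆ :=
    CfsgLib.Schur.center_commutator_sylow S (hσ.2.1 hzk) (hσ.2.2 hzk) hS
  let f : (S : Subgroup Γ) →* Q := σ.comp (S : Subgroup Γ).subtype
  have hd : (⟨z, hS⟩ : (S : Subgroup Γ)) ∈ commutator (S : Subgroup Γ) := by
    rw [← Subgroup.map_subtype_commutator] at hzd
    obtain ⟨w, hw, hwz⟩ := hzd
    have : w = ⟨z, hS⟩ := Subtype.ext hwz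
    exact this ▸ hw
  have h := sq_dvd_index hp S.isPGroup' f.ker (fun x hx => by
      rw [Subgroup.mem_center_iff]
      intro y
      exact Subtype.ext (Subgroup.mem_center_iff.1 (hσ.2.1 hx) y)) (a := ⟨z, hS⟩) hzk hd
      (by rw [← hzord]; exact Subgroup.orderOf_mk _ _)
  rw [hk]
  refine h.trans ?_
  rw [Subgroup.index_ker]
  exact Subgroup.card_subgroup_dvd_card _
end Cfsg.Agent.S3952
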