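import Cfsg.Statements.S3953
-- import your own Cfsg.Agent.* helpers here

import Cfsg.Agent.Lib.Struct77.MultTransfer

set_option autoImplicit false
open Cfsg

namespace Cfsg.Agent.S3953

/-- Let `P` be a Sylow `p`-subgroup of the finite group `G`, let `A` be the Schur multiplier of `G` and `B` that of `P`. Then the `p`-primary component of `A` is isomorphic to a direct factor of `B`: there are subgroups `C` and `D` of `B` meeting trivially and generating `B`, with `C` isomorphic to the `p`-primary component of `A`. -/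
theorem result {G : Type*} [Group G] [Finite G] (p : ℕ) [Fact p.Prime] (P : Sylow p G) {A B : Type*} [CommGroup A] [CommGroup B] (hA : Cfsg.HasSchurMultiplier G A) (hB : Cfsg.HasSchurMultiplier P B) : ∃ C D : Subgroup B, C ⊓ D = ⊥ ∧ C ⊔ D = ⊤ ∧ Nonempty (CommGroup.primaryComponent A p ≃* C) := by
  classical
  obtain ⟨res, cores, hrc⟩ := CfsgLib.MultTransfer.exists_res_cores (P : Subgroup G) hA hB
  obtain ⟨⟨Γ, _, _, σ, hσ, ⟨e⟩⟩, -⟩ := hA
  have : Finite A := Finite.of_equiv _ e.toEquiv
  have hp : p.Prime := Fact.out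
  set m := (P : Subgroup G).index with hm
  have hpm : Nat.Coprime p m := (hp.coprime_iff_not_dvd).2 P.not_dvd_index
  -- exponents
  set a := (Nat.card A).factorization p with ha
  set b := Nat.card A / p ^ a with hb
  have hab : p ^ a * b = Nat.card A := Nat.mul_div_cancel' (Nat.ordProj_dvd _ _)
  have hbm : Nat.Coprime (p ^ a) (b * m) := by
    refine Nat.Coprime.pow_left a (Nat.Coprime.mul_right ?_ hpm)
    exact Nat.coprime_ordCompl hp Nat.card_pos.ne'
  have hbm0 : b * m ≠ 0 := by
    refine Nat.mul_ne_zero (fun h => ?_) Subgroup.FiniteIndex.index_ne_zero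
    rw [h, mul_zero] at hab
    exact Nat.card_pos.ne' hab.symm
  obtain ⟨k, hk⟩ : ∃ k : ℕ, b * m * k ≡ 1 [MOD p ^ a] := by
    by_cases h1 : p ^ a = 1
    · exact ⟨0, by rw [h1]; exact Nat.modEq_one⟩
    · obtain ⟨k, hk⟩ := Nat.exists_mul_mod_eq_one_of_coprime hbm.symm
        (lt_of_le_of_ne (pow_pos hp.pos a) (Ne.symm h1))
      exact ⟨k, by rw [Nat.ModEq, hk.2, Nat.mod_eq_of_lt (lt_of_le_of_ne (pow_pos hp.pos a) (Ne.symm h1))]⟩
  -- the primary component
  have hprim : ∀ x : A, x ∈ CommGroup.primaryComponent A p ↔ x ^ p ^ a = 1 := by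
    intro x
    constructor
    · intro hx
      obtain ⟨n, hn⟩ := (CommGroup.primaryComponent.isPGroup (G := A) (p := p)) ⟨x, hx⟩
      have hn' : x ^ p ^ n = 1 := congrArg Subtype.val hn
      rw [← orderOf_dvd_iff_pow_eq_one] at hn' ⊢
      obtain ⟨j, -, hj⟩ := (Nat.dvd_prime_pow hp).1 hn'
      rw [hj]
      refine Nat.pow_dvd_pow p ((hp.pow_dvd_iff_le_factorization Nat.card_pos.ne').1 ?_)
      rw [← hj]; exact orderOf_dvd_natCard x
    · intro hx
      exact ⟨a, hx⟩
  let A' := CommGroup.primaryComponent A p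
  let ρ : B →* A' := ((powMonoidHom (b * k)).comp cores).codRestrict A' fun x => by
    rw [hprim]
    simp only [MonoidHom.comp_apply, powMonoidHom_apply]
    rw [← pow_mul, show b * k * p ^ a = p ^ a * b * k by ring, pow_mul, hab, pow_card_eq_one', one_pow]
  let ι : A' →* B := res.comp A'.subtype
  have hρι : ∀ x : A', ρ (ι x) = x := by
    intro x
    apply Subtype.ext
    show cores (res (x : A)) ^ (b * k) = x
    rw [hrc, ← pow_mul]
    have hx := orderOf_dvd_of_pow_eq_one ((hprim _).1 x.2)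
    conv_rhs => rw [← pow_one (x : A)]
    rw [pow_eq_pow_iff_modEq]
    refine Nat.ModEq.of_dvd hx ?_
    rwa [show m * (b * k) = b * m * k by ring]
  refine ⟨ι.range, ρ.ker, ?_, ?_, ⟨MonoidHom.ofInjective (f := ι) (Function.LeftInverse.injective hρι)⟩⟩
  · rw [eq_bot_iff]
    rintro _ ⟨⟨x, rfl⟩, hx⟩
    have h1 := hρι x
    rw [MonoidHom.mem_ker.1 hx] at h1
    rw [← h1, map_one]
    exact one_mem _
  · rw [eq_top_iff]
    intro x _
    have h := Subgroup.mul_mem_sup (MonoidHom.mem_range.2 ⟨ρ x, rfl⟩ : ι (ρ x) ∈ ι.range)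
      (show (ι (ρ x))⁻¹ * x ∈ ρ.ker by rw [MonoidHom.mem_ker, map_mul, map_inv, hρι, inv_mul_cancel])
    rwa [mul_inv_cancel_left] at h
end Cfsg.Agent.S3953
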