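import Cfsg.Statements.S3954
-- import your own Cfsg.Agent.* helpers here

import Cfsg.Agent.Lib.Struct77.MultTransfer

set_option autoImplicit false
open Cfsg

namespace Cfsg.Agent.S3954

/-- Let `U` be a subgroup of index `m` in the finite group `G`, let `A` be the Schur multiplier of `G` and `B` that of `U`. Then the subgroup of `m`-th powers of `A` is isomorphic to a subgroup of `B`. -/
theorem result {G : Type*} [Group G] [Finite G] (U : Subgroup G) {A B : Type*} [CommGroup A] [CommGroup B] (hA : Cfsg.HasSchurMultiplier G A) (hB : Cfsg.HasSchurMultiplier U B) : ∃ C : Subgroup B, Nonempty ((powMonoidHom U.index : A →* A).range ≃* C) := by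
  classical
  obtain ⟨res, cores, hrc⟩ := CfsgLib.MultTransfer.exists_res_cores U hA hB
  obtain ⟨⟨Γ, _, _, σ, hσ, ⟨e⟩⟩, -⟩ := hA
  have : Finite A := Finite.of_equiv _ e.toEquiv
  set T := res.range with hT
  set S := (powMonoidHom U.index : A →* A).range with hS
  let f : T →* S := (cores.comp T.subtype).codRestrict S fun x => by
    obtain ⟨a, ha⟩ := x.2
    exact ⟨a, by rw [powMonoidHom_apply, ← hrc, ha]; rfl⟩
  have hf : Function.Surjective f := by
    rintro ⟨_, a, rfl⟩
    exact ⟨⟨res a, a, rfl⟩, Subtype.ext (hrc a)⟩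
  have : Finite T := Finite.of_surjective _ res.rangeRestrict_surjective
  obtain ⟨eS⟩ := CommGroup.monoidHom_mulEquiv_of_hasEnoughRootsOfUnity S ℂ
  obtain ⟨eT⟩ := CommGroup.monoidHom_mulEquiv_of_hasEnoughRootsOfUnity T ℂ
  let d : (S →* ℂˣ) →* (T →* ℂˣ) :=
    { toFun := fun φ => φ.comp f, map_one' := rfl, map_mul' := fun _ _ => rfl }
  have hd : Function.Injective d := fun φ ψ h => MonoidHom.ext fun s => by
    obtain ⟨x, rfl⟩ := hf s
    exact DFunLike.congr_fun h x
  let j : S →* B := T.subtype.comp (eT.toMonoidHom.comp (d.comp eS.symm.toMonoidHom))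
  have hj : Function.Injective j :=
    Subtype.val_injective.comp (eT.injective.comp (hd.comp eS.symm.injective))
  exact ⟨j.range, ⟨MonoidHom.ofInjective hj⟩⟩
end Cfsg.Agent.S3954
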