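import Cfsg.Statements.S3955
-- import your own Cfsg.Agent.* helpers here

import Cfsg.Agent.Lib.Struct77.CoverLift
import Cfsg.Agent.Lib.SchurCover.Perfect

set_option autoImplicit false
open Cfsg

namespace Cfsg.Agent.S3955

/-- Let `Q` be a finite group with Schur multiplier `A`, and let `σ : Γ →* Q` be a finite stem extension whose kernel is isomorphic to `A` (a Schur covering group of `Q`). Then every homomorphism `γ` from `Q` to the quotient of `GL n ℂ` by its centre lifts along `σ`: there is a homomorphism `ρ : Γ →* GL n ℂ` which, followed by the quotient map, equals `γ ∘ σ`. -/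
theorem result {Q : Type*} [Group Q] [Finite Q] {A : Type*} [CommGroup A] (hA : Cfsg.HasSchurMultiplier Q A) {Γ : Type*} [Group Γ] [Finite Γ] (σ : Γ →* Q) (hσ : Cfsg.IsStemExtension σ) (hk : Nonempty (σ.ker ≃* A)) (n : ℕ) (γ : Q →* (GL (Fin n) ℂ ⧸ Subgroup.center (GL (Fin n) ℂ))) : ∃ ρ : Γ →* GL (Fin n) ℂ, (QuotientGroup.mk' (Subgroup.center (GL (Fin n) ℂ))).comp ρ = γ.comp σ := by
  classical
  have hp := CfsgLib.SchurCover.stdPres_surjective (Q := Q)
  set p := CfsgLib.SchurCover.stdPres Q with hpdef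
  obtain ⟨eA⟩ := CfsgLib.SchurCover.mult_equiv_of_hasSchurMultiplier hA p hp
  obtain ⟨ek⟩ := hk
  have : Finite (CfsgLib.SchurCover.mult p) := CfsgLib.SchurCover.finite_mult p
  obtain ⟨g₀, hg₀⟩ := CfsgLib.SchurCover.exists_lift p σ hσ.1 hσ.2.1
  have hg₀s := CfsgLib.CoverLift.lift_surjective p hp hσ hg₀
  have hg₀v : ∀ x, σ (g₀ x) = CfsgLib.SchurCover.barHom p x := DFunLike.congr_fun hg₀
  set M := CfsgLib.SchurCover.mult p with hM
  have hmap : M.map g₀ = σ.ker := by
    rw [CfsgLib.SchurCover.mult_map_eq p hp σ hσ.2.1 g₀ hg₀, inf_eq_left.2 hσ.2.2]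
  -- the restriction of the lift to the multiplier is injective
  have hinj : ∀ x ∈ M, g₀ x = 1 → x = 1 := by
    intro x hx hx1
    have hb : Function.Bijective (g₀.subgroupMap M) :=
      (Nat.bijective_iff_surjective_and_card _).2 ⟨g₀.subgroupMap_surjective M,
        Nat.card_congr (eA.trans (ek.symm.trans (MulEquiv.subgroupCongr hmap.symm))).toEquiv⟩
    exact congrArg Subtype.val (hb.1 (a₁ := ⟨x, hx⟩) (a₂ := 1) (Subtype.ext (hx1.trans (by simp))))
  set C := g₀.ker with hC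
  have hCK : C ≤ (CfsgLib.SchurCover.barHom p).ker := fun x hx => by
    rw [MonoidHom.mem_ker, ← hg₀v, MonoidHom.mem_ker.1 hx, map_one]
  have hCc : C ⊓ commutator (CfsgLib.SchurCover.Bar p) = ⊥ := by
    rw [eq_bot_iff]
    rintro x ⟨hx1, hx2⟩
    exact hinj x ⟨hCK hx1, hx2⟩ hx1
  -- a lift to the fibre product
  let mk := QuotientGroup.mk' (Subgroup.center (GL (Fin n) ℂ))
  have hmk : Function.Surjective mk := QuotientGroup.mk'_surjective _
  set Δ := CfsgLib.SchurCover.fibre γ mk with hΔ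
  obtain ⟨g, hg⟩ := CfsgLib.SchurCover.exists_lift p (CfsgLib.SchurCover.fibreFst γ mk)
    (CfsgLib.SchurCover.fibreFst_surjective γ hmk)
    (CfsgLib.SchurCover.ker_fibreFst_le_center γ (QuotientGroup.ker_mk' _).le)
  let h : CfsgLib.SchurCover.Bar p →* GL (Fin n) ℂ := (CfsgLib.SchurCover.fibreSnd γ mk).comp g
  have hh : ∀ x, mk (h x) = γ (CfsgLib.SchurCover.barHom p x) := by
    intro x
    have h1 := (CfsgLib.SchurCover.fibre_rel γ mk (g x)).symm
    rwa [show CfsgLib.SchurCover.fibreFst γ mk (g x) = CfsgLib.SchurCover.barHom p x from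
      DFunLike.congr_fun hg x] at h1
  let sc : ℂˣ →* GL (Fin n) ℂ := Matrix.GeneralLinearGroup.scalar (Fin n)
  have hscr : sc.range = Subgroup.center (GL (Fin n) ℂ) :=
    Matrix.GeneralLinearGroup.center_eq_range_scalar.symm
  let _ : CommGroup sc.range :=
    { (inferInstance : Group sc.range) with
      mul_comm := fun a b => Subtype.ext
        (Subgroup.mem_center_iff.1 (hscr ▸ b.2 : (b : GL (Fin n) ℂ) ∈ Subgroup.center (GL (Fin n) ℂ)) a) }
  let φ : C →* sc.range := (h.comp C.subtype).codRestrict sc.range fun c => by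
    rw [hscr, ← QuotientGroup.eq_one_iff]
    show mk (h c) = 1
    rw [hh, hCK c.2, map_one]
  obtain ⟨t, ht⟩ := CfsgLib.CoverLift.exists_lift_through p hCK hCc sc.rangeRestrict
    sc.rangeRestrict_surjective φ
  obtain ⟨χ, hχ⟩ := CfsgLib.CoverLift.exists_extension_units p hCc t
  have hcent : ∀ u, sc u ∈ Subgroup.center (GL (Fin n) ℂ) := fun u => hscr ▸ ⟨u, rfl⟩
  let h' : CfsgLib.SchurCover.Bar p →* GL (Fin n) ℂ :=
    { toFun := fun x => h x * (sc (χ x))⁻¹
      map_one' := by simp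
      map_mul' := fun a b => by
        simp only [map_mul, mul_inv_rev]
        have h1 := Subgroup.mem_center_iff.1 (inv_mem (hcent (χ a)))
        calc h a * h b * ((sc (χ b))⁻¹ * (sc (χ a))⁻¹)
            = h a * ((h b * (sc (χ b))⁻¹) * (sc (χ a))⁻¹) := by group
          _ = _ := by rw [h1]; group }
  have hker : g₀.ker ≤ h'.ker := by
    intro c hc
    show h c * (sc (χ c))⁻¹ = 1
    have h1 : χ c = t ⟨c, hc⟩ := DFunLike.congr_fun hχ ⟨c, hc⟩
    have h2 : sc (t ⟨c, hc⟩) = h c := by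
      have h3 := DFunLike.congr_fun ht (⟨c, hc⟩ : C)
      exact congrArg Subtype.val h3
    rw [h1, h2, mul_inv_cancel]
  refine ⟨g₀.liftOfSurjective hg₀s ⟨h', hker⟩, MonoidHom.ext fun y => ?_⟩
  obtain ⟨x, rfl⟩ := hg₀s y
  rw [MonoidHom.comp_apply, MonoidHom.comp_apply, hg₀v, ← hh]
  rw [show (g₀.liftOfSurjective hg₀s ⟨h', hker⟩) (g₀ x) = h' x from
    MonoidHom.liftOfRightInverse_comp_apply _ _ _ ⟨h', hker⟩ x]
  show mk (h x * (sc (χ x))⁻¹) = mk (h x)
  rw [map_mul, (QuotientGroup.eq_one_iff _).2 (inv_mem (hcent (χ x))) |> fun e =>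
    (show mk (sc (χ x))⁻¹ = 1 from e), mul_one]
end Cfsg.Agent.S3955
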