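import Cfsg.Statements.S3956
-- import your own Cfsg.Agent.* helpers here

import Cfsg.Agent.Lib.SchurCover.Perfect

set_option autoImplicit false
universe u v
open Cfsg

namespace Cfsg.Agent.S3956

open Subgroup CfsgLib.SchurCover

/-- A central extension carries a monomial representation with a given scalar action of the kernel. -/
theorem exists_monomial {Δ Q : Type*} [Group Δ] [Group Q] [Finite Q] (τ : Δ →* Q)
    (hτ : Function.Surjective τ) (hc : τ.ker ≤ center Δ) (χ : τ.ker →* ℂˣ) :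
    ∃ (n : ℕ) (ρ : Δ →* GL (Fin n) ℂ), 0 < n ∧
      ∀ k : τ.ker, ((ρ (k : Δ) : GL (Fin n) ℂ) : Matrix (Fin n) (Fin n) ℂ) = (χ k : ℂ) • 1 := by
  classical
  let _ := Fintype.ofFinite Q
  choose s hs using hτ
  let κ : Δ → Q → τ.ker := fun d j => ⟨(s (τ d * j))⁻¹ * d * s j, by
    rw [MonoidHom.mem_ker, map_mul, map_mul, map_inv, hs, hs]; group⟩
  let M : Δ →* Matrix Q Q ℂ :=
    { toFun := fun d => Matrix.of fun i j => if i = τ d * j then (χ (κ d j) : ℂ) else 0
      map_one' := by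
        ext i j
        have h1 : κ 1 j = 1 := Subtype.ext (by simp [κ])
        simp [Matrix.one_apply, h1]
      map_mul' := fun d d' => by
        ext i l
        have h1 : κ (d * d') l = κ d (τ d' * l) * κ d' l := Subtype.ext (by
          simp [κ, mul_assoc])
        simp only [Matrix.mul_apply, Matrix.of_apply]
        rw [Finset.sum_eq_single (τ d' * l)]
        · simp [h1, mul_assoc]
        · intro j _ hj; simp [hj]
        · simp }
  let φ : Matrix Q Q ℂ →* Matrix (Fin (Fintype.card Q)) (Fin (Fintype.card Q)) ℂ :=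
    (Matrix.reindexAlgEquiv ℂ ℂ (Fintype.equivFin Q)).toAlgHom.toMonoidHom
  refine ⟨Fintype.card Q, (φ.comp M).toHomUnits, Fintype.card_pos, fun k => ?_⟩
  have hk : τ (k : Δ) = 1 := k.2
  have h1 : M (k : Δ) = (χ k : ℂ) • 1 := by
    ext i j
    have h2 : κ (k : Δ) j = k := Subtype.ext (by
      simp only [κ, hk, one_mul, mul_assoc]
      rw [← mem_center_iff.1 (hc k.2) (s j), inv_mul_cancel_left])
    simp only [M, MonoidHom.coe_mk, OneHom.coe_mk, Matrix.of_apply, hk, one_mul, h2]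
    simp [Matrix.one_apply]
  show φ (M (k : Δ)) = _
  rw [h1]
  show (Matrix.reindexAlgEquiv ℂ ℂ (Fintype.equivFin Q)) ((χ k : ℂ) • 1) = _
  rw [map_smul, map_one]

/-- Let `σ : Γ →* Q` be a finite stem extension of the finite group `Q` such that every homomorphism from `Q` to the quotient of `GL n ℂ` by its centre, for every `n`, lifts along `σ` to a homomorphism `Γ →* GL n ℂ`. Then `σ` is a Schur covering group of `Q`: for every finite stem extension `τ : Δ →* Q` with `Δ` in the same universe as `Q`, the kernel of `τ` is a homomorphic image of the kernel of `σ`. -/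
theorem result {Q : Type u} [Group Q] [Finite Q] {Γ : Type v} [Group Γ] [Finite Γ] (σ : Γ →* Q) (hσ : Cfsg.IsStemExtension σ) (hlift : ∀ (n : ℕ) (γ : Q →* (GL (Fin n) ℂ ⧸ Subgroup.center (GL (Fin n) ℂ))), ∃ ρ : Γ →* GL (Fin n) ℂ, (QuotientGroup.mk' (Subgroup.center (GL (Fin n) ℂ))).comp ρ = γ.comp σ) (Δ : Type u) [Group Δ] [Finite Δ] (τ : Δ →* Q) (hτ : Cfsg.IsStemExtension τ) : ∃ π : σ.ker →* τ.ker, Function.Surjective π := by
  classical
  set E := fibre σ τ with hE
  set f₁ := fibreFst σ τ with hf₁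
  set f₂ := fibreSnd σ τ with hf₂
  have hrel : ∀ x : E, σ (f₁ x) = τ (f₂ x) := fun x => fibre_rel σ τ x
  set W : Subgroup E := (σ.comp f₁).ker ⊓ commutator E with hW
  -- both projections of `W` are onto the kernels
  have honto₁ : ∀ z ∈ σ.ker, ∃ w ∈ W, f₁ w = z := by
    intro z hz
    have h := hσ.2.2 hz
    rw [← map_commutator_eq f₁ (fibreFst_surjective σ hτ.1)] at h
    obtain ⟨w, hw, rfl⟩ := h
    exact ⟨w, ⟨hz, hw⟩, rfl⟩
  have honto₂ : ∀ z ∈ τ.ker, ∃ w ∈ W, f₂ w = z := by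
    intro z hz
    have h := hτ.2.2 hz
    rw [← map_commutator_eq f₂ (fibreSnd_surjective hσ.1 τ)] at h
    obtain ⟨w, hw, rfl⟩ := h
    exact ⟨w, ⟨(hrel w).trans hz, hw⟩, rfl⟩
  let p₁ : W →* σ.ker := (f₁.comp W.subtype).codRestrict σ.ker fun w => w.2.1
  let p₂ : W →* τ.ker := (f₂.comp W.subtype).codRestrict τ.ker fun w => (hrel w).symm.trans w.2.1
  have hp₁ : Function.Bijective p₁ := by
    refine ⟨(injective_iff_map_eq_one _).2 fun w hw => ?_, fun z => ?_⟩
    swap
    · obtain ⟨w, hw, hwz⟩ := honto₁ z z.2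
      exact ⟨⟨w, hw⟩, Subtype.ext hwz⟩
    have hw1 : f₁ (w : E) = 1 := congrArg Subtype.val hw
    suffices h2 : p₂ w = 1 by
      exact Subtype.ext (Subtype.ext (Prod.ext hw1 (congrArg Subtype.val h2)))
    let _ : CommGroup τ.ker :=
      { (inferInstance : Group τ.ker) with
        mul_comm := fun a b => Subtype.ext (mem_center_iff.1 (hτ.2.1 b.2) a) }
    by_contra h2
    obtain ⟨χ, hχ⟩ := CommGroup.exists_apply_ne_one_of_hasEnoughRootsOfUnity τ.ker ℂ h2
    obtain ⟨n, ρ, hn, hρ⟩ := exists_monomial τ hτ.1 hτ.2.1 χ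
    let mk := QuotientGroup.mk' (center (GL (Fin n) ℂ))
    have hker : τ.ker ≤ (mk.comp ρ).ker := by
      intro k hk
      rw [MonoidHom.mem_ker, MonoidHom.comp_apply, QuotientGroup.mk'_apply, QuotientGroup.eq_one_iff,
        mem_center_iff]
      intro g
      apply Units.ext
      rw [Units.val_mul, Units.val_mul, hρ ⟨k, hk⟩]
      simp
    let γ : Q →* GL (Fin n) ℂ ⧸ center (GL (Fin n) ℂ) :=
      τ.liftOfSurjective hτ.1 ⟨mk.comp ρ, hker⟩
    obtain ⟨ρ', hρ'⟩ := hlift n γ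
    have hmk : ∀ x : E, mk (ρ' (f₁ x)) = mk (ρ (f₂ x)) := by
      intro x
      have h := DFunLike.congr_fun hρ' (f₁ x)
      simp only [MonoidHom.comp_apply] at h
      rw [h, hrel x]
      exact MonoidHom.liftOfRightInverse_comp_apply _ _ _ ⟨mk.comp ρ, hker⟩ (f₂ x)
    have hcen : ∀ x : E, ρ' (f₁ x) * (ρ (f₂ x))⁻¹ ∈ center (GL (Fin n) ℂ) := by
      intro x
      rw [← QuotientGroup.eq_one_iff, ← QuotientGroup.mk'_apply, map_mul, map_inv]
      exact mul_inv_eq_one.2 (hmk x)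
    let _ : CommGroup (center (GL (Fin n) ℂ)) :=
      { (inferInstance : Group (center (GL (Fin n) ℂ))) with
        mul_comm := fun a b => Subtype.ext (mem_center_iff.1 b.2 a) }
    let d : E →* center (GL (Fin n) ℂ) :=
      { toFun := fun x => ⟨_, hcen x⟩
        map_one' := Subtype.ext (by simp)
        map_mul' := fun x y => Subtype.ext (by
          show ρ' (f₁ (x * y)) * (ρ (f₂ (x * y)))⁻¹ =
            ρ' (f₁ x) * (ρ (f₂ x))⁻¹ * (ρ' (f₁ y) * (ρ (f₂ y))⁻¹)
          simp only [map_mul, mul_inv_rev]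
          have h := mem_center_iff.1 (hcen y) ((ρ (f₂ x))⁻¹)
          calc ρ' (f₁ x) * ρ' (f₁ y) * ((ρ (f₂ y))⁻¹ * (ρ (f₂ x))⁻¹)
              = ρ' (f₁ x) * ((ρ' (f₁ y) * (ρ (f₂ y))⁻¹) * (ρ (f₂ x))⁻¹) := by group
            _ = _ := by rw [← h]; group) }
    have hd : d (w : E) = 1 := Abelianization.commutator_subset_ker d w.2.2
    have h3 : ρ' (f₁ (w : E)) * (ρ (f₂ (w : E)))⁻¹ = 1 := congrArg Subtype.val hd
    rw [hw1, map_one, one_mul, inv_eq_one] at h3
    have h4 := hρ (p₂ w)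
    rw [show ((p₂ w : τ.ker) : Δ) = f₂ (w : E) from rfl, h3] at h4
    have h5 := congrFun (congrFun h4 ⟨0, hn⟩) ⟨0, hn⟩
    exact hχ (Units.ext (by simpa using h5.symm))
  refine ⟨p₂.comp (MulEquiv.ofBijective p₁ hp₁).symm.toMonoidHom, ?_⟩
  refine Function.Surjective.comp (g := p₂) (fun z => ?_) (MulEquiv.ofBijective p₁ hp₁).symm.surjective
  obtain ⟨w, hw, hwz⟩ := honto₂ z z.2
  exact ⟨⟨w, hw⟩, Subtype.ext hwz⟩
end Cfsg.Agent.S3956
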