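import Cfsg.Statements.S3957
-- import your own Cfsg.Agent.* helpers here

import Cfsg.Agent.Lib.Struct77.CoverLift

set_option autoImplicit false
universe u v
open Cfsg

namespace Cfsg.Agent.S3957

/-- Let `Q` be a finite group with Schur multiplier `A` and let `τ : Δ →* Q` be a finite stem extension, `Δ` in the universe of `Q`. Then there is a finite stem extension `σ : Γ →* Q` with kernel isomorphic to `A` (a Schur covering group) and a surjective homomorphism `β : Γ →* Δ` with `τ ∘ β = σ`. -/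
theorem result {Q : Type u} [Group Q] [Finite Q] {A : Type v} [CommGroup A] (hA : Cfsg.HasSchurMultiplier Q A) {Δ : Type u} [Group Δ] [Finite Δ] (τ : Δ →* Q) (hτ : Cfsg.IsStemExtension τ) : ∃ (Γ : Type u) (_ : Group Γ) (_ : Finite Γ) (σ : Γ →* Q), Cfsg.IsStemExtension σ ∧ Nonempty (σ.ker ≃* A) ∧ ∃ β : Γ →* Δ, Function.Surjective β ∧ τ.comp β = σ := by
  classical
  have hp := CfsgLib.SchurCover.stdPres_surjective (Q := Q)
  set p := CfsgLib.SchurCover.stdPres Q with hpdef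
  obtain ⟨eA⟩ := CfsgLib.SchurCover.mult_equiv_of_hasSchurMultiplier hA p hp
  obtain ⟨g, hg⟩ := CfsgLib.SchurCover.exists_lift p τ hτ.1 hτ.2.1
  have hgs := CfsgLib.CoverLift.lift_surjective p hp hτ hg
  have hgv : ∀ x, τ (g x) = CfsgLib.SchurCover.barHom p x := DFunLike.congr_fun hg
  obtain ⟨C₀, hC₀K, hC₀, hC₀m⟩ := CfsgLib.SchurCover.exists_complement p
  set M := CfsgLib.SchurCover.mult p with hM
  have hmap : M.map g = τ.ker := by
    rw [CfsgLib.SchurCover.mult_map_eq p hp τ hτ.2.1 g hg, inf_eq_left.2 hτ.2.2]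
  let _ : CommGroup M :=
    { (inferInstance : Group M) with
      mul_comm := fun a b => Subtype.ext
        (Subgroup.mem_center_iff.1 (CfsgLib.SchurCover.ker_barHom_le_center p b.2.1) a) }
  let _ : CommGroup τ.ker :=
    { (inferInstance : Group τ.ker) with
      mul_comm := fun a b => Subtype.ext (Subgroup.mem_center_iff.1 (hτ.2.1 b.2) a) }
  let π : M →* τ.ker := (g.comp M.subtype).codRestrict τ.ker fun m => by
    rw [← hmap]; exact Subgroup.mem_map_of_mem g m.2
  have hπ : Function.Surjective π := by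
    intro z
    have hz : (z : Δ) ∈ M.map g := by rw [hmap]; exact z.2
    obtain ⟨m, hm, hmz⟩ := hz
    exact ⟨⟨m, hm⟩, Subtype.ext hmz⟩
  let φ : C₀ →* τ.ker := (g.comp C₀.subtype).codRestrict τ.ker fun c => (hgv c).trans (hC₀K c.2)
  obtain ⟨t, ht⟩ := CfsgLib.CoverLift.exists_lift_through p hC₀K hC₀ π hπ φ
  have htv : ∀ c : C₀, g (t c : CfsgLib.SchurCover.Bar p) = g (c : CfsgLib.SchurCover.Bar p) :=
    fun c => congrArg Subtype.val (DFunLike.congr_fun ht c)
  have hcen : ∀ c : C₀, (t c : CfsgLib.SchurCover.Bar p) ∈ Subgroup.center _ :=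
    fun c => CfsgLib.SchurCover.ker_barHom_le_center p (t c).2.1
  let ψ : C₀ →* CfsgLib.SchurCover.Bar p :=
    { toFun := fun c => (c : CfsgLib.SchurCover.Bar p) * (t c : CfsgLib.SchurCover.Bar p)⁻¹
      map_one' := by simp
      map_mul' := fun a b => by
        simp only [Subgroup.coe_mul, map_mul, mul_inv_rev]
        have h := Subgroup.mem_center_iff.1 (inv_mem (hcen a))
        calc (a : CfsgLib.SchurCover.Bar p) * b * ((t b : CfsgLib.SchurCover.Bar p)⁻¹ * (t a : CfsgLib.SchurCover.Bar p)⁻¹)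
            = (a : CfsgLib.SchurCover.Bar p) * ((b * (t b : CfsgLib.SchurCover.Bar p)⁻¹) * (t a : CfsgLib.SchurCover.Bar p)⁻¹) := by group
          _ = _ := by rw [h]; group }
  have hCK : ψ.range ≤ (CfsgLib.SchurCover.barHom p).ker := by
    rintro _ ⟨c, rfl⟩
    exact mul_mem (hC₀K c.2) (inv_mem (t c).2.1)
  have hCg : ψ.range ≤ g.ker := by
    rintro _ ⟨c, rfl⟩
    show g ((c : CfsgLib.SchurCover.Bar p) * (t c : CfsgLib.SchurCover.Bar p)⁻¹) = 1
    rw [map_mul, map_inv, htv, mul_inv_cancel]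
  have hC : ψ.range ⊓ commutator (CfsgLib.SchurCover.Bar p) = ⊥ := by
    rw [eq_bot_iff]
    rintro _ ⟨⟨c, rfl⟩, hc⟩
    have h1 : (c : CfsgLib.SchurCover.Bar p) ∈ C₀ ⊓ commutator (CfsgLib.SchurCover.Bar p) := by
      refine ⟨c.2, ?_⟩
      have h2 := mul_mem hc (t c).2.2
      change (c : CfsgLib.SchurCover.Bar p) * (t c : CfsgLib.SchurCover.Bar p)⁻¹ *
        (t c : CfsgLib.SchurCover.Bar p) ∈ commutator _ at h2
      rwa [inv_mul_cancel_right] at h2
    rw [hC₀, Subgroup.mem_bot] at h1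
    have h3 : c = 1 := Subtype.ext h1
    rw [h3, map_one]
    exact one_mem _
  have hCm : (CfsgLib.SchurCover.barHom p).ker ≤ ψ.range ⊔ M := by
    refine hC₀m.trans (sup_le (fun c hc => ?_) le_sup_right)
    have h := Subgroup.mul_mem_sup (MonoidHom.mem_range.2 ⟨⟨c, hc⟩, rfl⟩ : ψ ⟨c, hc⟩ ∈ ψ.range) (t ⟨c, hc⟩).2
    change c * (t ⟨c, hc⟩ : CfsgLib.SchurCover.Bar p)⁻¹ * _ ∈ _ at h
    rwa [inv_mul_cancel_right] at h
  have : ψ.range.Normal := ⟨fun x hx y => by
    rwa [Subgroup.mem_center_iff.1 (CfsgLib.SchurCover.ker_barHom_le_center p (hCK hx)) y,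
      mul_inv_cancel_right]⟩
  obtain ⟨hfin, hst, ⟨e⟩⟩ := CfsgLib.CoverLift.stem_of_complement p hp hCK hC hCm
  refine ⟨CfsgLib.SchurCover.Bar p ⧸ ψ.range, inferInstance, hfin, _, hst, ⟨e.symm.trans eA⟩,
    QuotientGroup.lift _ g hCg, fun d => ?_, ?_⟩
  · obtain ⟨x, hx⟩ := hgs d
    exact ⟨QuotientGroup.mk x, hx⟩
  · refine MonoidHom.ext fun y => ?_
    obtain ⟨x, rfl⟩ := QuotientGroup.mk'_surjective _ y
    exact hgv x
end Cfsg.Agent.S3957
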