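import Cfsg.Statements.S3958
import Cfsg.Agent.Lib.SchurCover.Perfect

set_option autoImplicit false
universe u v
open Cfsg

namespace Cfsg.Agent.S3958

/-- Let `σ : Γ →* Q` be a finite stem extension of the finite group `Q` with `Γ` of trivial Schur multiplier. Then `σ` is a Schur covering group of `Q`: for every finite stem extension `τ : Δ →* Q` with `Δ` in the same universe as `Q`, the kernel of `τ` is a homomorphic image of the kernel of `σ`. -/
theorem result {Q : Type u} [Group Q] [Finite Q] {Γ : Type v} [Group Γ] [Finite Γ] (σ : Γ →* Q) (hσ : Cfsg.IsStemExtension σ) (hΓ : Cfsg.HasCyclicSchurMultiplier Γ 1) (Δ : Type u) [Group Δ] [Finite Δ] (τ : Δ →* Q) (hτ : Cfsg.IsStemExtension τ) : ∃ π : σ.ker →* τ.ker, Function.Surjective π := by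
  obtain ⟨hs, hsc, hsd⟩ := hσ
  obtain ⟨ht, htc, htd⟩ := hτ
  set E := CfsgLib.SchurCover.fibre σ τ
  set f := CfsgLib.SchurCover.fibreFst σ τ with hfdef
  set g := CfsgLib.SchurCover.fibreSnd σ τ with hgdef
  have hbot : f.ker ⊓ commutator E = ⊥ := CfsgLib.SchurCover.ker_inf_commutator_eq_bot hΓ f
    (CfsgLib.SchurCover.fibreFst_surjective σ ht) (CfsgLib.SchurCover.ker_fibreFst_le_center σ htc)
  set φ := f.comp (commutator E).subtype with hφ
  have hinj : Function.Injective φ := by
    rw [injective_iff_map_eq_one]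
    intro x hx
    have h1 : (x : E) ∈ f.ker ⊓ commutator E := ⟨hx, x.2⟩
    rw [hbot, Subgroup.mem_bot] at h1
    exact Subtype.ext h1
  have hrange : φ.range = commutator Γ := by
    rw [hφ, MonoidHom.range_comp, Subgroup.range_subtype, CfsgLib.SchurCover.map_commutator_eq f
      (CfsgLib.SchurCover.fibreFst_surjective σ ht)]
  let e : commutator E ≃* commutator Γ :=
    (MonoidHom.ofInjective hinj).trans (MulEquiv.subgroupCongr hrange)
  have he : ∀ y, f (e.symm y : E) = (y : Γ) := fun y => congrArg Subtype.val (e.apply_symm_apply y)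
  let j : σ.ker →* commutator E := e.symm.toMonoidHom.comp (Subgroup.inclusion hsd)
  have hj : ∀ z, g (j z : E) ∈ τ.ker := fun z => by
    rw [MonoidHom.mem_ker, hgdef, ← CfsgLib.SchurCover.fibre_rel, ← hfdef]
    exact (congrArg σ (he (Subgroup.inclusion hsd z))).trans z.2
  refine ⟨(g.comp ((commutator E).subtype.comp j)).codRestrict τ.ker hj, fun d => ?_⟩
  have hd : (d : Δ) ∈ (commutator E).map g := by
    rw [CfsgLib.SchurCover.map_commutator_eq g (CfsgLib.SchurCover.fibreSnd_surjective hs τ)]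
    exact htd d.2
  obtain ⟨x, hx, hxd⟩ := hd
  have hz : f x ∈ σ.ker := by
    rw [MonoidHom.mem_ker, hfdef, CfsgLib.SchurCover.fibre_rel, ← hgdef, hxd]
    exact d.2
  refine ⟨⟨f x, hz⟩, Subtype.ext ?_⟩
  show g (j ⟨f x, hz⟩ : E) = d
  rw [← hxd]
  congr 1
  have h1 : j ⟨f x, hz⟩ = ⟨x, hx⟩ := hinj (he _)
  exact congrArg Subtype.val h1

end Cfsg.Agent.S3958
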