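import Cfsg.Statements.S3960
import Cfsg.Agent.Lib.SchurCover.Perfect

set_option autoImplicit false
universe u
open Cfsg

namespace Cfsg.Agent.S3960

/-- A finite perfect group `Q` has a universal central extension: a finite perfect group `G` in the universe of `Q` and a surjective homomorphism `π : G →* Q` with central kernel such that for every group `X` in that universe and every surjective homomorphism `ξ : X →* Q` with central kernel there is exactly one homomorphism `η : G →* X` with `ξ ∘ η = π`. -/
theorem result {Q : Type u} [Group Q] [Finite Q] (hQ : Group.IsPerfect Q) : ∃ (G : Type u) (_ : Group G) (_ : Finite G) (π : G →* Q), Group.IsPerfect G ∧ Function.Surjective π ∧ π.ker ≤ Subgroup.center G ∧ ∀ (X : Type u) [Group X] (ξ : X →* Q), Function.Surjective ξ → ξ.ker ≤ Subgroup.center X → ∃! η : G →* X, ξ.comp η = π := by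
  classical
  set p := CfsgLib.SchurCover.stdPres Q
  have hp : Function.Surjective p := CfsgLib.SchurCover.stdPres_surjective
  set E := CfsgLib.SchurCover.Bar p
  set b := CfsgLib.SchurCover.barHom p with hb
  have hbs : Function.Surjective b := CfsgLib.SchurCover.barHom_surjective p hp
  have hfin : Finite (commutator E) := CfsgLib.SchurCover.finite_commutator_bar p
  have hQ' : commutator Q = ⊤ := (Group.isPerfect_def).1 hQ
  -- the derived subgroup is perfect
  have hperf : ⁅commutator E, commutator E⁆ = commutator E := by
    refine le_antisymm (Subgroup.commutator_mono le_top le_top) ?_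
    conv_lhs => rw [commutator_def]
    rw [Subgroup.commutator_le]
    intro x _ y _
    have hlift : ∀ z : E, ∃ z' ∈ commutator E, z'⁻¹ * z ∈ Subgroup.center E := by
      intro z
      have h1 : b z ∈ (commutator E).map b := by
        rw [CfsgLib.SchurCover.map_commutator_eq b hbs, hQ']; exact Subgroup.mem_top _
      obtain ⟨z', hz', hz''⟩ := h1
      refine ⟨z', hz', CfsgLib.SchurCover.ker_barHom_le_center p ?_⟩
      rw [MonoidHom.mem_ker, ← hb, map_mul, map_inv, hz'', inv_mul_cancel]
    obtain ⟨x', hx', hxc⟩ := hlift x
    obtain ⟨y', hy', hyc⟩ := hlift y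
    rw [CfsgLib.SchurCover.commutator_congr_central hxc hyc]
    exact Subgroup.commutator_mem_commutator hx' hy'
  have hG : Group.IsPerfect (commutator E) := by
    rw [Group.isPerfect_def, ← Subgroup.map_subtype_inj, Subgroup.map_subtype_commutator,
      ← MonoidHom.range_eq_map, Subgroup.range_subtype]
    exact hperf
  refine ⟨commutator E, inferInstance, hfin, b.comp (commutator E).subtype, hG, ?_, ?_, ?_⟩
  · intro q
    have h1 : q ∈ (commutator E).map b := by
      rw [CfsgLib.SchurCover.map_commutator_eq b hbs, hQ']; exact Subgroup.mem_top _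
    obtain ⟨x, hx, rfl⟩ := h1
    exact ⟨⟨x, hx⟩, rfl⟩
  · intro x hx
    rw [Subgroup.mem_center_iff]
    intro y
    exact Subtype.ext (Subgroup.mem_center_iff.1 (CfsgLib.SchurCover.ker_barHom_le_center p hx) y)
  · intro X _ ξ hξ hc
    obtain ⟨g, hg⟩ := CfsgLib.SchurCover.exists_lift p ξ hξ hc
    have h : ξ.comp (g.comp (commutator E).subtype) = b.comp (commutator E).subtype := by
      rw [← MonoidHom.comp_assoc, hg]
    exact ⟨_, h, fun η hη => CfsgLib.SchurCover.hom_ext_of_perfect hG hc _ _ (hη.trans h.symm)⟩

end Cfsg.Agent.S3960
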