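import Cfsg.Statements.S3963
import Cfsg.Agent.Lib.SchurCover.Dicyclic

set_option autoImplicit false
open Cfsg

namespace Cfsg.Agent.S3963

/-- For every `n ≥ 1` the dicyclic (generalized quaternion) group of order `4 n` has trivial Schur multiplier. -/
theorem result (n : ℕ) [NeZero n] : Cfsg.HasCyclicSchurMultiplier (QuaternionGroup n) 1 := by
  refine CfsgLib.SchurCover.hasCyclicSchurMultiplier_one_of_stem _ fun Γ _ _ σ hσ => ?_
  have h := CfsgLib.SchurCover.card_ker_mul_dvd_of_inverting σ hσ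
    (CfsgLib.SchurCover.quaternion_closure_eq_top n) ?_ n ?_
  · have ho : orderOf ((QuaternionGroup.a 1 : QuaternionGroup n) ^ 2) = n := by
      rw [orderOf_pow' _ two_ne_zero, QuaternionGroup.orderOf_a_one, Nat.gcd_mul_right_left]
      omega
    rw [ho] at h
    have hn : 0 < n := Nat.pos_of_ne_zero (NeZero.ne n)
    have h1 : Nat.card σ.ker * n ∣ 1 * n := by rwa [one_mul]
    exact Subgroup.card_eq_one.1 (Nat.dvd_one.1 (Nat.dvd_of_mul_dvd_mul_right hn h1))
  · rw [mul_inv_eq_iff_eq_mul, eq_inv_mul_iff_mul_eq]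
    simp
  · exact ⟨2, by
      show (QuaternionGroup.xa 0 : QuaternionGroup n) ^ (2 : ℤ) = _
      rw [show (2 : ℤ) = ((2 : ℕ) : ℤ) from rfl, zpow_natCast, QuaternionGroup.xa_sq,
        QuaternionGroup.a_one_pow]⟩

end Cfsg.Agent.S3963
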