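import Cfsg.Statements.S3964
import Cfsg.Agent.Lib.SchurCover.Dicyclic

set_option autoImplicit false
open Cfsg

namespace Cfsg.Agent.S3964

/-- For odd `n` the dihedral group of order `2 n` has trivial Schur multiplier. -/
theorem result (n : ℕ) (hn : Odd n) : Cfsg.HasCyclicSchurMultiplier (DihedralGroup n) 1 := by
  have hn0 : n ≠ 0 := hn.pos.ne'
  have : NeZero n := ⟨hn0⟩
  refine CfsgLib.SchurCover.hasCyclicSchurMultiplier_one_of_stem _ fun Γ _ _ σ hσ => ?_
  have h := CfsgLib.SchurCover.card_ker_mul_dvd_of_inverting σ hσ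
    (CfsgLib.SchurCover.dihedral_closure_eq_top n) ?_ n ?_
  · have ho : orderOf ((DihedralGroup.r 1 : DihedralGroup n) ^ 2) = n := by
      rw [orderOf_pow' _ two_ne_zero, DihedralGroup.orderOf_r_one,
        (Nat.coprime_two_right.2 hn).gcd_eq_one, Nat.div_one]
    rw [ho] at h
    have h1 : Nat.card σ.ker * n ∣ 1 * n := by rwa [one_mul]
    exact Subgroup.card_eq_one.1 (Nat.dvd_one.1 (Nat.dvd_of_mul_dvd_mul_right hn.pos h1))
  · rw [mul_inv_eq_iff_eq_mul, eq_inv_mul_iff_mul_eq]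
    simp
  · exact ⟨0, by simp⟩

end Cfsg.Agent.S3964
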