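import Cfsg.Statements.S3965
import Cfsg.Agent.Lib.SchurCover.Dicyclic

set_option autoImplicit false
open Cfsg

namespace Cfsg.Agent.S3965

/-- For even `n ≥ 2` the dihedral group of order `2 n` has Schur multiplier cyclic of order `2`. -/
theorem result (n : ℕ) [NeZero n] (hn : Even n) : Cfsg.HasCyclicSchurMultiplier (DihedralGroup n) 2 := by
  obtain ⟨hstem, hcard⟩ := CfsgLib.SchurCover.isStemExtension_dicyclicToDihedral n hn
  have hc2 : Nat.card (Multiplicative (ZMod 2)) = 2 :=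
    (Nat.card_congr Multiplicative.toAdd).trans (Nat.card_zmod 2)
  refine ⟨⟨QuaternionGroup n, inferInstance, inferInstance, _, hstem,
    ⟨mulEquivOfPrimeCardEq (p := 2) hcard hc2⟩⟩, fun Γ _ _ σ hσ => ?_⟩
  have h := CfsgLib.SchurCover.card_ker_mul_dvd_of_inverting σ hσ
    (CfsgLib.SchurCover.dihedral_closure_eq_top n) ?_ n ?_
  · have ho : orderOf ((DihedralGroup.r 1 : DihedralGroup n) ^ 2) = n / 2 := by
      rw [orderOf_pow' _ two_ne_zero, DihedralGroup.orderOf_r_one,
        Nat.gcd_eq_right (even_iff_two_dvd.1 hn)]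
    rw [ho] at h
    obtain ⟨k, rfl⟩ := even_iff_two_dvd.1 hn
    have hk : 0 < k := Nat.pos_of_ne_zero fun h0 => NeZero.ne (2 * k) (by rw [h0, Nat.mul_zero])
    rw [Nat.mul_div_cancel_left _ two_pos] at h
    have hle : Nat.card σ.ker ∣ 2 := Nat.dvd_of_mul_dvd_mul_right hk h
    rcases (Nat.dvd_prime Nat.prime_two).1 hle with h1 | h1
    · exact ⟨1, fun z => ⟨1, by
        have : Subsingleton σ.ker := (Nat.card_eq_one_iff_unique.1 h1).1
        exact Subsingleton.elim _ _⟩⟩
    · exact ⟨(mulEquivOfPrimeCardEq (p := 2) hc2 h1).toMonoidHom,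
        (mulEquivOfPrimeCardEq (p := 2) hc2 h1).surjective⟩
  · rw [mul_inv_eq_iff_eq_mul, eq_inv_mul_iff_mul_eq]
    simp
  · exact ⟨0, by simp⟩

end Cfsg.Agent.S3965
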