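import Cfsg.Statements.S3967
import Cfsg.Agent.Lib.SchurCover.Metacyclic

set_option autoImplicit false
open Cfsg
open scoped commutatorElement

namespace Cfsg.Agent.S3967

open CfsgLib.SchurCover Metacyclic Subgroup

theorem geom_spec (e n : ℕ) :
    e * (∑ i ∈ Finset.range n, (e + 1) ^ i) + 1 = (e + 1) ^ n := by
  induction n with
  | zero => simp
  | succ n ih => rw [Finset.sum_range_succ, pow_succ, ← ih]; ring

theorem main (m n r t d m' u l q g : ℕ) (hm : 0 < m) (hn : 0 < n)
    (hmd : m = d * m') (hru : r = d * u + 1) (hcop : Nat.Coprime u m')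
    (hdeq : d = Nat.gcd m (d * u)) (ht : t = m' * l)
    (hq : Nat.gcd m (∑ i ∈ Finset.range n, r ^ i) = m' * q) (hqd : q ∣ d)
    (hrn : r ^ n ≡ 1 [MOD m]) (hg : g = Nat.gcd l q) :
    Cfsg.HasCyclicSchurMultiplier (PresentedGroup (relSet m n r t)) g := by
  have hd0 : 0 < d := Nat.pos_of_ne_zero fun h0 => by rw [h0, zero_mul] at hmd; omega
  have hm'0 : 0 < m' := Nat.pos_of_ne_zero fun h0 => by rw [h0, mul_zero] at hmd; omega
  have hq0 : 0 < q := Nat.pos_of_ne_zero fun h0 => by
    rw [h0, zero_dvd_iff] at hqd; omega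
  have hg0 : 0 < g := hg ▸ Nat.gcd_pos_of_pos_right l hq0
  have hgl : g ∣ l := hg ▸ Nat.gcd_dvd_left l q
  have hgq : g ∣ q := hg ▸ Nat.gcd_dvd_right l q
  have : NeZero g := ⟨hg0.ne'⟩
  have hcg : Nat.card (Multiplicative (ZMod g)) = g :=
    (Nat.card_congr Multiplicative.toAdd).trans (Nat.card_zmod g)
  have hTR : t * r ≡ t [MOD m] := by
    rw [ht, hru, hmd]
    exact (Nat.modEq_iff_dvd' (Nat.le_mul_of_pos_right _ (Nat.succ_pos _))).2
      ⟨l * u, by rw [show m' * l * (d * u + 1) - m' * l = m' * l * (d * u) by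
        rw [Nat.mul_add, Nat.mul_one, Nat.add_sub_cancel]]; ring⟩ |>.symm
  have hordA : orderOf (genA : PresentedGroup (relSet m n r t)) = m := orderOf_genA hm hn hrn hTR
  refine ⟨?_, fun Γ _ _ σ hσ => ?_⟩
  · -- the cover
    set N := m * g with hN
    have hN0 : 0 < N := Nat.mul_pos hm hg0
    have : NeZero N := ⟨hN0.ne'⟩
    have hmN : m' ∣ N := ⟨d * g, by rw [hN, hmd]; ring⟩
    have : NeZero m' := ⟨hm'0.ne'⟩
    obtain ⟨v, hv⟩ := ZMod.unitsMap_surjective hmN (ZMod.unitOfCoprime u hcop)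
    set w := (v : ZMod N).val + N * u with hw
    have hwu : (w : ZMod m') = u := by
      have h1 := congrArg Units.val hv
      rw [ZMod.unitsMap_def, Units.coe_map] at h1
      simp only [ZMod.coe_unitOfCoprime, MonoidHom.coe_coe, ZMod.castHom_apply] at h1
      rw [hw, Nat.cast_add, Nat.cast_mul, (ZMod.natCast_eq_zero_iff N m').2 hmN, zero_mul, add_zero,
        ← h1, ZMod.natCast_val]
    have hwN : (w : ZMod N) = v := by
      rw [hw, Nat.cast_add, Nat.cast_mul, ZMod.natCast_self, zero_mul, add_zero, ZMod.natCast_rightInverse]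
    have hwle : u ≤ w := le_trans (Nat.le_mul_of_pos_left u hN0) (Nat.le_add_left _ _)
    obtain ⟨x, hx⟩ : ∃ x, w = u + m' * x := by
      obtain ⟨x, hx⟩ := (Nat.modEq_iff_dvd' hwle).1 ((ZMod.natCast_eq_natCast_iff _ _ _).1 hwu.symm)
      exact ⟨x, by omega⟩
    set r' := d * w + 1 with hr'
    have hr'r : r' ≡ r [MOD m] := by
      rw [hr', hru, hx, hmd]
      exact ((Nat.modEq_iff_dvd' (by gcongr; omega)).2 ⟨x, by
        rw [Nat.add_sub_add_right, mul_add, Nat.add_sub_cancel_left]; ring⟩).symm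
    set S' := ∑ i ∈ Finset.range n, r' ^ i with hS'
    have hqS : m' * q ∣ S' := by
      have h1 : (m' * q) ∣ ∑ i ∈ Finset.range n, r ^ i := hq ▸ Nat.gcd_dvd_right _ _
      have h2 : S' ≡ ∑ i ∈ Finset.range n, r ^ i [MOD m] := by
        rw [hS', ← ZMod.natCast_eq_natCast_iff]
        push_cast
        rw [(ZMod.natCast_eq_natCast_iff _ _ _).2 hr'r]
      exact (Nat.ModEq.dvd_iff h2 (hq ▸ Nat.gcd_dvd_left _ _)).2 h1
    have hr'n : r' ^ n ≡ 1 [MOD N] := by
      rw [hr', ← geom_spec, ← hr', ← hS']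
      refine ((Nat.modEq_iff_dvd' (Nat.le_add_left _ _)).2 ?_).symm
      rw [Nat.add_sub_cancel, hN, hmd]
      obtain ⟨c, hc⟩ := hqS
      obtain ⟨e, he⟩ := hgq
      exact ⟨w * e * c, by rw [hc, he]; ring⟩
    have hTR' : t * r' ≡ t [MOD N] := by
      rw [ht, hr']
      refine ((Nat.modEq_iff_dvd' (Nat.le_mul_of_pos_right _ (Nat.succ_pos _))).2 ?_).symm
      obtain ⟨e, he⟩ := hgl
      exact ⟨e * w, by rw [Nat.succ_eq_add_one, Nat.mul_add, Nat.mul_one, Nat.add_sub_cancel, hN, hmd, he]; ring⟩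
    have hordA' := orderOf_genA hN0 hn hr'n hTR'
    have hfin := finite_grp (M := N) (n := n) (R := r') (T := t) hN0 hn
    set E := PresentedGroup (relSet N n r' t)
    obtain ⟨π, hπa, hπb⟩ := exists_proj (M := m) (n := n) (R := r) (T := t) (dvd_mul_right m g) hr'r
    set z : E := genA ^ m with hz
    have hzcen : z ∈ center E := by
      have hle : closure ({genA, genB} : Set E) ≤ centralizer ({z} : Set E) := by
        rw [closure_le]
        rintro y (rfl | rfl)
        · exact mem_centralizer_singleton_iff.2 ((Commute.refl _).pow_right m).eq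
        · rw [SetLike.mem_coe, mem_centralizer_singleton_iff]
          have h1 : (genB : E) * z * genB⁻¹ = z := by
            rw [hz, ← conj_pow, conj_a, ← pow_mul, pow_eq_pow_iff_modEq, hordA', hr']
            refine ((Nat.modEq_iff_dvd' (Nat.le_mul_of_pos_left _ (Nat.succ_pos _))).2 ?_).symm
            obtain ⟨e, he⟩ := hgq.trans hqd
            exact ⟨e * w, by rw [Nat.succ_mul, Nat.add_sub_cancel, hN, he]; ring⟩
          exact mul_inv_eq_iff_eq_mul.1 h1
      rw [closure_gens] at hle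
      rw [mem_center_iff]
      intro y
      exact mem_centralizer_singleton_iff.1 (hle (mem_top y))
    have hzcom : z ∈ commutator E := by
      have h1 : (genA : E) ^ (d * w) ∈ commutator E := by
        have h2 : ⁅(genB : E), (genA : E)⁆ = genA ^ (d * w) := by
          rw [commutatorElement_def, conj_a, hr', pow_succ, mul_inv_cancel_right]
        rw [← h2]; exact commutator_mem_commutator (mem_top _) (mem_top _)
      obtain ⟨k, hk⟩ := ZMod.natCast_zmod_surjective ((v⁻¹ : (ZMod N)ˣ) : ZMod N)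
      have h3 : (genA : E) ^ d ∈ commutator E := by
        have h4 : ((genA : E) ^ (d * w)) ^ k = genA ^ d := by
          rw [← pow_mul, pow_eq_pow_iff_modEq, hordA', ← ZMod.natCast_eq_natCast_iff]
          push_cast
          rw [hwN, hk, mul_assoc, Units.mul_inv, mul_one]
        exact h4 ▸ pow_mem h1 k
      rw [hz, hmd, pow_mul]
      exact pow_mem h3 _
    have hker : π.ker = zpowers z := by
      apply le_antisymm
      · intro y hy
        obtain ⟨i, j, hj, rfl⟩ := exists_form hN0 hn y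
        rw [MonoidHom.mem_ker, map_mul, map_pow, map_pow, hπa, hπb] at hy
        obtain ⟨rfl, ⟨e, rfl⟩⟩ := form_eq_one hm hn hrn hTR hj hy
        rw [pow_zero, mul_one, pow_mul]
        exact pow_mem (mem_zpowers _) _
      · rw [zpowers_le, MonoidHom.mem_ker, hz, map_pow, hπa, a_pow]
    have hcardk : Nat.card π.ker = g := by
      rw [hker, Nat.card_zpowers, hz, orderOf_pow' _ hm.ne', hordA', hN,
        Nat.gcd_mul_right_left, Nat.mul_div_cancel_left _ hm]
    have hcyc : IsCyclic π.ker := by rw [hker]; infer_instance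
    refine ⟨E, inferInstance, hfin, π, ⟨?_, ?_, ?_⟩, ⟨mulEquivOfCyclicCardEq (by rw [hcardk, hcg])⟩⟩
    · rw [← MonoidHom.range_eq_top, eq_top_iff, ← closure_gens, closure_le]
      rintro y (rfl | rfl)
      · exact ⟨_, hπa⟩
      · exact ⟨_, hπb⟩
    · rw [hker, zpowers_le]; exact hzcen
    · rw [hker, zpowers_le]; exact hzcom
  · -- the bound
    obtain ⟨hs, hc, hd'⟩ := hσ
    obtain ⟨A, hA⟩ := hs genA
    obtain ⟨B, hB⟩ := hs genB
    set C := ⁅B, A⁆ with hC
    have hσC : σ C = genA ^ (d * u) := by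
      rw [hC, map_commutatorElement, hA, hB, commutatorElement_def, conj_a, hru, pow_succ,
        mul_inv_cancel_right]
    have hk : (A ^ (d * u))⁻¹ * C ∈ σ.ker := by
      rw [MonoidHom.mem_ker, map_mul, map_inv, map_pow, hσC, hA, inv_mul_cancel]
    set k := (A ^ (d * u))⁻¹ * C with hkdef
    have hkc : ∀ y, Commute y k := fun y => mem_center_iff.1 (hc hk) y
    have hCk : C = A ^ (d * u) * k := by rw [hkdef, mul_inv_cancel_left]
    have hAC : Commute A C := by
      rw [hCk]; exact ((Commute.refl A).pow_right _).mul_right (hkc A)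
    have hBA : B * A * B⁻¹ = C * A := by rw [hC, commutatorElement_def]; group
    have hBC : B * C * B⁻¹ = C ^ r := by
      calc B * C * B⁻¹ = (B * A ^ (d * u) * B⁻¹) * (B * k * B⁻¹) := by rw [hCk]; group
        _ = (C * A) ^ (d * u) * k := by rw [← conj_pow, hBA, (hkc B).eq, mul_inv_cancel_right]
        _ = C ^ (d * u) * C := by rw [hAC.symm.mul_pow, mul_assoc, ← hCk]
        _ = C ^ r := by rw [← pow_succ, hru]
    have hconjB : ∀ i : ℕ, B ^ i * C * (B ^ i)⁻¹ ∈ zpowers C := by
      intro i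
      induction i with
      | zero => simp
      | succ i ih =>
        obtain ⟨j, hj⟩ := mem_zpowers_iff.1 ih
        have e : B ^ (i + 1) * C * (B ^ (i + 1))⁻¹ = B * (B ^ i * C * (B ^ i)⁻¹) * B⁻¹ := by
          rw [pow_succ']; group
        rw [e, ← hj, ← conj_zpow, hBC]
        exact zpow_mem (pow_mem (mem_zpowers C) r) j
    have hBC' : B⁻¹ * C * B ∈ zpowers C := by
      have e : B ^ (orderOf B - 1) = B⁻¹ := eq_inv_of_mul_eq_one_left (by
        rw [← pow_succ, Nat.sub_add_cancel (orderOf_pos B), pow_orderOf_eq_one])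
      have := hconjB (orderOf B - 1)
      rwa [e, inv_inv] at this
    have heq : commutator Γ = zpowers C :=
      commutator_eq_zpowers_of_two_generated σ hc closure_gens hA hB
        (by rw [hAC.eq, mul_inv_cancel_right]; exact mem_zpowers C)
        (by rw [mul_assoc, ← hAC.eq, inv_mul_cancel_left]; exact mem_zpowers C)
        (by rw [hBC]; exact pow_mem (mem_zpowers C) r) hBC'
    have hcancel : ∀ j : ℕ, Commute B (A ^ j) → C ^ j = 1 := by
      intro j hj
      have h1 : B * A ^ j * B⁻¹ = A ^ j := by rw [hj.eq, mul_inv_cancel_right]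
      rw [← conj_pow, hBA, hAC.symm.mul_pow] at h1
      exact mul_eq_right.1 h1
    have hCm : C ^ m = 1 := hcancel m (by
      have : A ^ m ∈ σ.ker := by rw [MonoidHom.mem_ker, map_pow, hA, a_pow]
      exact mem_center_iff.1 (hc this) B)
    have hzn : (A ^ t)⁻¹ * B ^ n ∈ σ.ker := by
      rw [MonoidHom.mem_ker, map_mul, map_inv, map_pow, map_pow, hA, hB, b_pow, inv_mul_cancel]
    have hCt : C ^ t = 1 := hcancel t (by
      have h1 : Commute B (B ^ n) := (Commute.refl B).pow_right n
      have h2 : Commute B (((A ^ t)⁻¹ * B ^ n)⁻¹) :=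
        (show Commute B _ from mem_center_iff.1 (hc hzn) B).inv_right
      have := h1.mul_right h2
      simpa using this)
    have hCS : C ^ (∑ i ∈ Finset.range n, r ^ i) = 1 := by
      have hit : ∀ i : ℕ, B ^ i * A * (B ^ i)⁻¹ = C ^ (∑ j ∈ Finset.range i, r ^ j) * A := by
        intro i
        induction i with
        | zero => simp
        | succ i ih =>
          calc B ^ (i + 1) * A * (B ^ (i + 1))⁻¹ = B * (B ^ i * A * (B ^ i)⁻¹) * B⁻¹ := by
                rw [pow_succ']; group
            _ = (B * C * B⁻¹) ^ (∑ j ∈ Finset.range i, r ^ j) * (B * A * B⁻¹) := by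
                rw [ih, conj_pow]; group
            _ = _ := by rw [hBC, hBA, ← pow_mul, ← mul_assoc, ← pow_succ, geom_sum_succ]
      have h1 : Commute (B ^ n) A := by
        have h2 : Commute (A ^ t) A := (Commute.refl A).pow_left t
        have h3 : Commute ((A ^ t)⁻¹ * B ^ n) A := (mem_center_iff.1 (hc hzn) A).symm
        have := h2.mul_left h3
        simpa using this
      have h4 := hit n
      rw [h1.eq, mul_inv_cancel_right] at h4
      exact mul_eq_right.1 h4.symm
    have := finite_grp (M := m) (n := n) (R := r) (T := t) hm hn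
    have hcard : Nat.card σ.ker * m' = orderOf C := by
      let ψ := σ.comp (commutator Γ).subtype
      have h1 := index_mul_card ψ.ker
      have h2 : Nat.card ψ.ker = Nat.card σ.ker :=
        Nat.card_congr (subgroupOfEquivOfLe hd').toEquiv
      have h3 : ψ.range = zpowers (σ C) := by
        rw [MonoidHom.range_comp, Subgroup.range_subtype, heq, MonoidHom.map_zpowers]
      have h5 : orderOf (σ C) = m' := by
        rw [hσC, orderOf_pow, hordA, ← hdeq, hmd, Nat.mul_div_cancel_left _ hd0]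
      rw [index_ker, h2, h3, Nat.card_zpowers, h5] at h1
      rw [mul_comm, h1, heq, Nat.card_zpowers]
    have hdvd : Nat.card σ.ker ∣ g := by
      rw [hg]
      refine Nat.dvd_gcd ?_ ?_
      · exact Nat.dvd_of_mul_dvd_mul_left hm'0 (by
          rw [mul_comm m', hcard, ← ht]; exact orderOf_dvd_of_pow_eq_one hCt)
      · exact Nat.dvd_of_mul_dvd_mul_left hm'0 (by
          rw [mul_comm m', hcard, ← hq]
          exact Nat.dvd_gcd (orderOf_dvd_of_pow_eq_one hCm) (orderOf_dvd_of_pow_eq_one hCS))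
    have hcyc : IsCyclic σ.ker := by
      have : IsCyclic (commutator Γ) := by rw [heq]; infer_instance
      exact isCyclic_of_injective (inclusion hd') (inclusion_injective hd')
    have : NeZero (Nat.card σ.ker) := ⟨Nat.card_pos.ne'⟩
    let e := zmodCyclicMulEquiv hcyc
    refine ⟨e.toMonoidHom.comp (ZMod.castHom hdvd (ZMod (Nat.card σ.ker))).toAddMonoidHom.toMultiplicative,
      e.surjective.comp ?_⟩
    intro y
    obtain ⟨y', hy'⟩ := ZMod.castHom_surjective hdvd (Multiplicative.toAdd y)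
    exact ⟨Multiplicative.ofAdd y', congrArg Multiplicative.ofAdd hy'⟩

/-- Let `m, n ≥ 1`, `r ≥ 1` with `r ^ n ≡ 1 (mod m)`, and `l` a natural number; put `d = gcd(m, r - 1)`, `t = m l / d` and `h = d · gcd(m, 1 + r + ⋯ + r^(n-1)) / m`. The group presented by generators `a, b` and relations `a ^ m = 1`, `b ^ n = a ^ t`, `b a b⁻¹ = a ^ r` (a metacyclic group of order `m n`) has Schur multiplier cyclic of order `gcd(l, h)`. -/
theorem result (m n r l : ℕ) (hm : 0 < m) (hn : 0 < n) (hr : 0 < r) (hrn : r ^ n ≡ 1 [MOD m]) : Cfsg.HasCyclicSchurMultiplier (PresentedGroup ({FreeGroup.of true ^ m, (FreeGroup.of false) ^ n * (FreeGroup.of true ^ (m * l / Nat.gcd m (r - 1)))⁻¹, FreeGroup.of false * FreeGroup.of true * (FreeGroup.of false)⁻¹ * (FreeGroup.of true ^ r)⁻¹} : Set (FreeGroup Bool))) (Nat.gcd l (Nat.gcd m (r - 1) * Nat.gcd m (∑ i ∈ Finset.range n, r ^ i) / m)) := by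
  set d := Nat.gcd m (r - 1) with hd
  have hd0 : 0 < d := Nat.gcd_pos_of_pos_left _ hm
  obtain ⟨m', hm'⟩ : d ∣ m := Nat.gcd_dvd_left _ _
  obtain ⟨u, hu⟩ : d ∣ r - 1 := Nat.gcd_dvd_right _ _
  have hru : r = d * u + 1 := by omega
  set S := ∑ i ∈ Finset.range n, r ^ i with hS
  have hdeq : d = Nat.gcd m (d * u) := hu ▸ hd
  have hcop : Nat.Coprime u m' := by
    have h1 : d * Nat.gcd m' u = d * 1 := by rw [← Nat.gcd_mul_left, ← hm', ← hdeq, mul_one]
    rw [Nat.coprime_comm]
    exact Nat.eq_of_mul_eq_mul_left hd0 h1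
  have hm'S : m' ∣ S := by
    have h1 : d * m' ∣ d * (u * S) := by
      rw [← hm']
      have h2 := geom_spec (d * u) n
      rw [← hru, ← hS] at h2
      have h3 := (Nat.modEq_iff_dvd' (Nat.one_le_pow n r hr)).1 hrn.symm
      rw [← h2, Nat.add_sub_cancel, mul_assoc] at h3
      exact h3
    exact hcop.symm.dvd_of_dvd_mul_left (Nat.dvd_of_mul_dvd_mul_left hd0 h1)
  obtain ⟨q, hq⟩ : m' ∣ Nat.gcd m S := Nat.dvd_gcd ⟨d, by rw [hm', mul_comm]⟩ hm'S
  have hm'0 : 0 < m' := Nat.pos_of_ne_zero fun h0 => by rw [h0, mul_zero] at hm'; omega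
  have hqd : q ∣ d := by
    refine Nat.dvd_of_mul_dvd_mul_left hm'0 ?_
    rw [← hq, mul_comm m', ← hm']
    exact Nat.gcd_dvd_left _ _
  have hh : d * Nat.gcd m S / m = q := by rw [hq, ← mul_assoc, ← hm', Nat.mul_div_cancel_left _ hm]
  have ht : m * l / d = m' * l := by rw [hm', mul_assoc, Nat.mul_div_cancel_left _ hd0]
  exact main m n r _ d m' u l q _ hm hn hm' hru hcop hdeq ht hq hqd hrn (by rw [hh])

end Cfsg.Agent.S3967
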