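import Cfsg.Statements.S3968
import Cfsg.Agent.Lib.Characters.Burnside
import Cfsg.Agent.Lib.Characters.LinearTwist
import Cfsg.Agent.Lib.Characters.Clifford
import Cfsg.Agent.Lib.Characters.Scalar

set_option autoImplicit false
open Cfsg
open scoped commutatorElement

namespace Cfsg.Agent.S3968

/-- Let `p` be a prime and `G` a finite group with a faithful irreducible complex character of degree `p` (so `G` is an irreducible linear group in `p` variables). If `p ^ 2` divides the order of `G`, then the centre of `G` is nontrivial. -/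
theorem result {G : Type*} [Group G] [Finite G] (p : ℕ) (hp : p.Prime) (χ : Cfsg.IrrCharacter G) (hdeg : χ.1 1 = p) (hfaith : ∀ g : G, χ.1 g = χ.1 1 → g = 1) (hdiv : p ^ 2 ∣ Nat.card G) : Subgroup.center G ≠ ⊥ := by
  classical
  have := Fact.mk hp
  obtain ⟨χf, n, ρ, hρ, hρχ⟩ := χ
  subst hρχ
  haveI := hρ
  change ρ.character 1 = (p : ℂ) at hdeg
  change ∀ g : G, ρ.character g = ρ.character 1 → g = 1 at hfaith
  have hfr : Module.finrank ℂ (Fin n → ℂ) = p := by
    rw [Representation.char_one] at hdeg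
    exact_mod_cast hdeg
  intro hbot
  let P : Sylow p G := default
  set Z := (Subgroup.center (P : Subgroup G)).map (P : Subgroup G).subtype with hZdef
  have hfaith' : ∀ g : G, ρ g = LinearMap.id → g = 1 := fun g hg => hfaith g (by
    rw [hdeg, ← hfr]
    exact (CfsgLib.Characters.char_eq_degree_iff ρ g).2 hg)
  have hscalar : ∀ g : G, (∃ c : ℂ, ρ g = c • (LinearMap.id : (Fin n → ℂ) →ₗ[ℂ] (Fin n → ℂ))) →
      g = 1 := by
    rintro g ⟨c, hc⟩
    have hg : g ∈ Subgroup.center G := by
      rw [Subgroup.mem_center_iff]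
      intro x
      have h1 : ρ (x * g * x⁻¹ * g⁻¹) = LinearMap.id := by
        have e : ρ (x * g) = ρ (g * x) := by
          rw [map_mul, map_mul, hc]
          ext v
          simp
        rw [map_mul, map_mul, e, ← map_mul, ← map_mul, mul_inv_cancel_right, mul_inv_cancel, map_one]
        rfl
      exact mul_inv_eq_iff_eq_mul.1 (mul_inv_eq_one.1 (hfaith' _ h1))
    rwa [hbot, Subgroup.mem_bot] at hg
  -- values on the centre of a Sylow subgroup
  have hvan : ∀ z ∈ Z, z ≠ 1 → ρ.character z = 0 := by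
    rintro _ ⟨z, hz, rfl⟩ hz1
    have hcop : Nat.Coprime (Module.finrank ℂ (Fin n → ℂ))
        (Nat.card {x : G // IsConj (z : G) x}) := by
      rw [CfsgLib.Characters.card_isConj_eq_index, hfr]
      refine (hp.coprime_iff_not_dvd).2 fun hd => P.not_dvd_index (hd.trans ?_)
      refine Subgroup.index_dvd_of_le fun y hy => ?_
      exact Subgroup.mem_centralizer_singleton_iff.2
        (congrArg Subtype.val (Subgroup.mem_center_iff.1 hz ⟨y, hy⟩))
    rcases CfsgLib.Burnside.eq_zero_or_norm_eq_of_coprime ρ (z : G) hcop with h | h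
    · exact h
    · exact absurd (hscalar _ ((CfsgLib.Characters.norm_char_eq_iff_scalar ρ _).1 h)) hz1
  -- so the centre has order dividing `p`
  have hpP : p ^ 2 ∣ Nat.card (P : Subgroup G) := P.pow_dvd_card_of_pow_dvd_card hdiv
  have : Nontrivial (P : Subgroup G) := by
    rw [← Finite.one_lt_card_iff_nontrivial]
    exact lt_of_lt_of_le (Nat.one_lt_pow (by norm_num) hp.one_lt) (Nat.le_of_dvd Nat.card_pos hpP)
  have := P.2.center_nontrivial
  obtain ⟨z, hz⟩ := exists_ne (1 : Subgroup.center (P : Subgroup G))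
  set z' : G := ((z : (P : Subgroup G)) : G) with hz'
  have hzZ : z' ∈ Z := ⟨_, z.2, rfl⟩
  have hz1 : z' ≠ 1 := fun h0 => hz (Subtype.ext (Subtype.ext h0))
  let χP : ↥(P : Subgroup G) → ℂ := fun x => ρ.character (x : G)
  have hχP : Cfsg.IsCharacter (P : Subgroup G) χP :=
    CfsgLib.Clifford.isCharacter_subtype ⟨n, ρ, rfl⟩ _
  have hZp : Nat.card Z = p := by
    haveI := Fintype.ofFinite Z
    obtain ⟨a, ha⟩ := CfsgLib.Characters.classInner_char_nat
      (CfsgLib.Clifford.isCharacter_subtype (G := G) ⟨n, ρ, rfl⟩ Z)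
      (CfsgLib.Characters.isCharacter_one (G := Z))
    rw [Cfsg.classInner, Finset.sum_eq_single (1 : Z)
      (fun b _ hb => by rw [hvan b b.2 (fun h0 => hb (Subtype.ext h0)), zero_mul])
      (fun h0 => absurd (Finset.mem_univ _) h0)] at ha
    rw [OneMemClass.coe_one, hdeg, Pi.one_apply, map_one, mul_one,
      inv_mul_eq_iff_eq_mul₀ (by exact_mod_cast Nat.card_pos.ne')] at ha
    have ha' : p = Nat.card Z * a := by exact_mod_cast ha
    rcases (Nat.dvd_prime hp).1 ⟨a, ha'⟩ with h | h
    · exfalso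
      rw [Subgroup.card_eq_one] at h
      rw [h, Subgroup.mem_bot] at hzZ
      exact hz1 hzZ
    · exact h
  haveI := Fintype.ofFinite (P : Subgroup G)
  obtain ⟨m, -, hsum⟩ := CfsgLib.Clifford.exists_mult hχP
  have heval : ∀ x, χP x = ∑ ψ : Cfsg.IrrCharacter (P : Subgroup G),
      (m ψ : ℂ) * (ψ : ↥(P : Subgroup G) → ℂ) x := fun x => by
    rw [congrFun hsum x]; simp [Finset.sum_apply]
  have hd : ∀ ψ : Cfsg.IrrCharacter (P : Subgroup G), ∃ k : ℕ,
      (ψ : ↥(P : Subgroup G) → ℂ) 1 = ((p ^ k : ℕ) : ℂ) := fun ψ => by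
    obtain ⟨d, hd, _, hdd⟩ := CfsgLib.Characters.irr_degree_dvd_card ψ
    obtain ⟨a, ha⟩ := IsPGroup.iff_card.1 P.2
    obtain ⟨k, -, rfl⟩ := (Nat.dvd_prime_pow hp).1 (ha ▸ hdd)
    exact ⟨k, hd⟩
  choose k hk using hd
  have hsumk : ∑ ψ : Cfsg.IrrCharacter (P : Subgroup G), m ψ * p ^ k ψ = p := by
    have h1 := heval 1
    simp only [hk] at h1
    change ρ.character 1 = _ at h1
    rw [hdeg] at h1
    exact_mod_cast h1.symm
  by_cases hbig : ∃ ψ, m ψ ≠ 0 ∧ k ψ ≠ 0
  · -- an irreducible restriction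
    obtain ⟨ψ, hm, hk0⟩ := hbig
    have hle : ∀ φ, φ ≠ ψ → m φ = 0 := by
      intro φ hne
      have h1 : m ψ * p ^ k ψ + m φ * p ^ k φ ≤ p := by
        rw [← Finset.sum_pair (f := fun ψ => m ψ * p ^ k ψ) hne.symm]
        exact (Finset.sum_le_univ_sum_of_nonneg (fun _ => Nat.zero_le _)).trans hsumk.le
      have h2 : p ≤ m ψ * p ^ k ψ := (Nat.le_self_pow hk0 p).trans
        (Nat.le_mul_of_pos_left _ (Nat.pos_of_ne_zero hm))
      have h3 : m φ * p ^ k φ = 0 := by omega
      exact (Nat.mul_eq_zero.1 h3).resolve_right (pow_ne_zero _ hp.ne_zero)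
    obtain ⟨_, d, σ, hσ, rfl⟩ := ψ
    haveI := hσ
    have hz0 : χP z = (m ⟨_, d, σ, hσ, rfl⟩ : ℂ) * σ.character z := by
      rw [heval, Finset.sum_eq_single ⟨_, d, σ, hσ, rfl⟩ (fun φ _ hne => by simp [hle φ hne])
        (fun h0 => absurd (Finset.mem_univ _) h0)]
    rw [show χP z = 0 from hvan z' hzZ hz1, eq_comm, mul_eq_zero, Nat.cast_eq_zero] at hz0
    have hσz := hz0.resolve_left hm
    obtain ⟨c, hc⟩ := CfsgLib.CharScalar.center_scalar σ z.2
    have hnorm := (CfsgLib.Characters.norm_char_eq_iff_scalar σ (z : (P : Subgroup G))).2 ⟨c, hc⟩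
    rw [hσz, norm_zero] at hnorm
    have := CfsgLib.Characters.nontrivial_of_irreducible σ
    exact absurd hnorm.symm (Nat.cast_ne_zero.2 Module.finrank_pos.ne')
  · -- all constituents linear: the Sylow subgroup is abelian
    push Not at hbig
    have hcomm : ∀ x y : (P : Subgroup G), x * y = y * x := by
      intro x y
      rw [← commutatorElement_eq_one_iff_mul_comm]
      refine Subtype.ext (hfaith _ ?_)
      show χP ⁅x, y⁆ = χP 1
      rw [heval, heval]
      refine Finset.sum_congr rfl fun ψ _ => ?_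
      rcases eq_or_ne (m ψ) 0 with h0 | h0
      · simp [h0]
      obtain ⟨f, hf⟩ := CfsgLib.LinearTwist.exists_hom_of_charDegree_one
        (CfsgLib.Characters.irr_isCharacter ψ)
        (CfsgLib.LinearTwist.charDegree_eq_of_apply_one (by rw [hk, hbig ψ h0, pow_zero]))
      rw [hf]
      simp only [map_commutatorElement, map_one]
      rw [commutatorElement_eq_one_iff_mul_comm.2 (mul_comm _ _)]
    have hZP : Z = (P : Subgroup G) := by
      refine le_antisymm (Subgroup.map_subtype_le _) fun x hx => ?_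
      exact ⟨⟨x, hx⟩, Subgroup.mem_center_iff.2 fun y => hcomm y _, rfl⟩
    rw [hZP] at hZp
    rw [hZp] at hpP
    have h2 := Nat.le_of_dvd hp.pos hpP
    nlinarith [hp.two_le]

end Cfsg.Agent.S3968
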