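import Cfsg.Statements.S3972
import Cfsg.Agent.Lib.PrimRecog.CyclicPrimePower

set_option autoImplicit false
open Cfsg
open scoped Pointwise

namespace Cfsg.Agent.S3972

/-- Let `p` be a prime, `m ≥ 2`, and `G` a transitive but not doubly transitive permutation group on `p ^ m` points containing a permutation of order `p ^ m` (necessarily a full cycle). Then `G` is imprimitive, and the normal closure in `G` of the `p ^ (m - 1)`-th power of that permutation is an intransitive normal subgroup. -/
theorem result {Ω : Type*} [Fintype Ω] [DecidableEq Ω] (p m : ℕ) (hp : p.Prime) (hm : 2 ≤ m) (hΩ : Fintype.card Ω = p ^ m) (G : Subgroup (Equiv.Perm Ω)) (htr : MulAction.IsPretransitive G Ω) (h2 : ¬ MulAction.IsMultiplyPretransitive G Ω 2) (g : G) (hg : orderOf g = p ^ m) : ¬ MulAction.IsPreprimitive G Ω ∧ ¬ MulAction.IsPretransitive (Subgroup.normalClosure ({g ^ (p ^ (m - 1))} : Set G)) Ω := by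
  have := Fact.mk hp
  have hgo : orderOf (g : Equiv.Perm Ω) = p ^ m := by rw [Subgroup.orderOf_coe, hg]
  -- some point lies in a cycle of full length
  obtain ⟨a, ha⟩ : ∃ a : Ω, (g ^ p ^ (m - 1) : G) • a ≠ a := by
    by_contra h
    push Not at h
    have h1 : (g : Equiv.Perm Ω) ^ p ^ (m - 1) = 1 := Equiv.ext fun b => h b
    have h2 := orderOf_dvd_of_pow_eq_one h1
    rw [hgo, Nat.pow_dvd_pow_iff_le_right hp.one_lt] at h2
    omega
  set C : Subgroup G := Subgroup.zpowers g with hC
  have hgC : g ∈ C := Subgroup.mem_zpowers g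
  have hstab : MulAction.stabilizer C a = ⊥ := by
    by_contra hne
    have hdc : Nat.card C = p ^ m := by rw [hC, Nat.card_zpowers, hg]
    obtain ⟨j, hj⟩ : ∃ j, (MulAction.stabilizer C a).index = p ^ j ∧ j ≤ m := by
      obtain ⟨j, hjm, hj⟩ := (Nat.dvd_prime_pow hp).mp (hdc ▸ Subgroup.index_dvd_card (MulAction.stabilizer C a))
      exact ⟨j, hj, hjm⟩
    have hjlt : j < m := lt_of_le_of_ne hj.2 fun e => hne (Subgroup.eq_bot_of_card_eq _ (by
      have := Subgroup.card_mul_index (MulAction.stabilizer C a)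
      rw [hj.1, e, hdc] at this
      exact Nat.eq_of_mul_eq_mul_right (pow_pos hp.pos m) (this.trans (one_mul _).symm)))
    refine ha ?_
    have hmem : (⟨g, hgC⟩ : C) ^ p ^ j ∈ MulAction.stabilizer C a := by
      have : IsMulCommutative C := inferInstance
      rw [← hj.1]
      exact Subgroup.pow_index_mem _ _
    have h3 := (MulAction.stabilizer C a).pow_mem hmem (p ^ (m - 1 - j))
    rw [← pow_mul, ← pow_add, show j + (m - 1 - j) = m - 1 by omega] at h3
    exact h3
  have hCt : MulAction.IsPretransitive C Ω := by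
    have horb : (MulAction.orbit C a).ncard = (Set.univ : Set Ω).ncard := by
      rw [← MulAction.index_stabilizer, hstab, Subgroup.index_bot, hC, Nat.card_zpowers, hg, Set.ncard_univ,
        Nat.card_eq_fintype_card, hΩ]
    have hu := Set.eq_of_subset_of_ncard_le (Set.subset_univ (MulAction.orbit C a)) horb.ge (Set.toFinite _)
    refine ⟨fun x y => ?_⟩
    obtain ⟨cx, rfl⟩ : x ∈ MulAction.orbit C a := hu.symm ▸ Set.mem_univ x
    obtain ⟨cy, rfl⟩ : y ∈ MulAction.orbit C a := hu.symm ▸ Set.mem_univ y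
    exact ⟨cy * cx⁻¹, by rw [mul_smul, inv_smul_smul]⟩
  have hCs : ∀ b : Ω, MulAction.stabilizer C b = ⊥ := by
    intro b
    obtain ⟨c, rfl⟩ := hCt.exists_smul_eq a b
    rw [MulAction.stabilizer_smul_eq_stabilizer_map_conj, hstab, Subgroup.map_bot]
  have hn : Nat.card Ω = p ^ m := by rw [Nat.card_eq_fintype_card, hΩ]
  have hnp : ¬ MulAction.IsPreprimitive G Ω := fun h =>
    h2 (CfsgLib.PrimRecog.twoTrans_of_regular_cyclic_prime_power hp hm hn C inferInstance hCt hCs h)
  refine ⟨hnp, fun hK => ?_⟩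
  -- a proper block
  obtain ⟨B, hB, hBtriv⟩ : ∃ B : Set Ω, MulAction.IsBlock G B ∧ ¬ MulAction.IsTrivialBlock B := by
    by_contra h
    push Not at h
    exact hnp { htr with isTrivialBlock_of_isBlock := fun {B} hB => h B hB }
  obtain ⟨hBns, hBu⟩ := not_or.mp hBtriv
  obtain ⟨b, hb, b', hb', hbb⟩ := Set.not_subsingleton_iff.mp hBns
  let S : Subgroup C := MulAction.stabilizer C B
  have hS : S ≠ ⊥ := by
    intro hS
    obtain ⟨c, hc⟩ := hCt.exists_smul_eq b b'
    have hcS : c ∈ S := by
      show (c : G) • B = B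
      exact hB.smul_eq_of_mem hb (by rw [← Subgroup.smul_def, hc]; exact hb')
    rw [hS, Subgroup.mem_bot] at hcS
    rw [hcS, one_smul] at hc
    exact hbb hc
  -- the element of order `p` fixes every translate of the block
  have hz : (⟨g, hgC⟩ : C) ^ p ^ (m - 1) ∈ S := by
    obtain ⟨s, hs, hs1⟩ := (Subgroup.bot_or_exists_ne_one S).resolve_left hS
    obtain ⟨i, hi⟩ := Subgroup.mem_zpowers_iff.mp s.2
    -- a power of `s` is a power of the element of order `p` with exponent prime to `p`
    have hdc : Nat.card C = p ^ m := by rw [hC, Nat.card_zpowers, hg]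
    have hso : p ∣ orderOf s := by
      obtain ⟨j, -, hj⟩ := (Nat.dvd_prime_pow hp).mp (hdc ▸ orderOf_dvd_natCard s)
      rw [hj]
      refine dvd_pow_self p ?_
      rintro rfl
      exact hs1 (orderOf_eq_one_iff.mp (by rw [hj, pow_zero]))
    set w := s ^ (orderOf s / p) with hw
    have hwo : orderOf w = p := orderOf_pow_orderOf_div (orderOf_pos s).ne' hso
    set z : C := (⟨g, hgC⟩ : C) ^ p ^ (m - 1) with hzdef
    have hzo : orderOf z = p := by
      have h1 : orderOf (⟨g, hgC⟩ : C) = p ^ m := by rw [Subgroup.orderOf_mk, hg]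
      rw [hzdef, orderOf_pow_of_dvd (pow_ne_zero _ hp.ne_zero) (h1 ▸ pow_dvd_pow p (Nat.sub_le m 1)), h1,
        Nat.pow_div (Nat.sub_le m 1) hp.pos, show m - (m - 1) = 1 by omega, pow_one]
    have : z ∈ Subgroup.zpowers w := by
      classical
      have : Fintype C := Fintype.ofFinite C
      have hsub : (Subgroup.zpowers w : Set C).toFinset = Finset.univ.filter (fun y : C => y ^ p = 1) := by
        refine Finset.eq_of_subset_of_card_le (fun y hy => ?_)
          (le_trans (IsCyclic.card_pow_eq_one_le hp.pos) (le_of_eq ?_))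
        · obtain ⟨k, rfl⟩ := Subgroup.mem_zpowers_iff.mp (Set.mem_toFinset.mp hy)
          refine Finset.mem_filter.mpr ⟨Finset.mem_univ _, ?_⟩
          rw [← zpow_natCast, ← zpow_mul, mul_comm, zpow_mul, zpow_natCast, ← hwo, pow_orderOf_eq_one, one_zpow]
        · rw [← hwo, ← Nat.card_zpowers, ← SetLike.coe_sort_coe, Nat.card_eq_card_toFinset]
      have hz' : z ∈ Finset.univ.filter (fun y : C => y ^ p = 1) :=
        Finset.mem_filter.mpr ⟨Finset.mem_univ _, by rw [← hzo, pow_orderOf_eq_one]⟩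
      rw [← hsub, Set.mem_toFinset] at hz'
      exact hz'
    exact (Subgroup.zpowers_le.mpr (S.pow_mem hs _)) this
  let K : Subgroup G :=
    { carrier := {x | ∀ h : G, x • (h • B) = h • B}
      one_mem' := fun h => one_smul _ _
      mul_mem' := fun {x y} hx hy h => by rw [mul_smul, hy h, hx h]
      inv_mem' := fun {x} hx h => by rw [inv_smul_eq_iff]; exact (hx h).symm }
  have hKn : K.Normal := ⟨fun x hx y h => by
    rw [mul_smul, mul_smul, ← mul_smul y⁻¹ h, hx, ← mul_smul y, mul_inv_cancel_left]⟩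
  have hgK : g ^ p ^ (m - 1) ∈ K := by
    intro h
    obtain ⟨c, hc⟩ := hCt.exists_smul_eq b (h • b)
    have hcB : h • B = (c : G) • B := by
      rcases (MulAction.isBlock_iff_smul_eq_or_disjoint.mp hB) ((c : G)⁻¹ * h) with h' | h'
      · rw [mul_smul, inv_smul_eq_iff] at h'
        exact h'
      · refine absurd h' (Set.not_disjoint_iff.mpr ⟨b, ?_, hb⟩)
        rw [mul_smul, Set.mem_inv_smul_set_iff, ← Subgroup.smul_def, hc]
        exact Set.smul_mem_smul_set hb
    have hcomm : (g ^ p ^ (m - 1)) * (c : G) = (c : G) * (g ^ p ^ (m - 1)) := by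
      obtain ⟨i, hi⟩ := Subgroup.mem_zpowers_iff.mp c.2
      rw [← hi]
      exact ((Commute.refl g).pow_left _).zpow_right i
    rw [hcB, ← mul_smul, hcomm, mul_smul]
    congr 1
  have hle := Subgroup.normalClosure_le_normal (N := K) (Set.singleton_subset_iff.mpr hgK)
  refine hBu (Set.eq_univ_of_forall fun ω => ?_)
  obtain ⟨⟨x, hx⟩, hxω⟩ := hK.exists_smul_eq b ω
  have h1 := hle hx 1
  rw [one_smul] at h1
  rw [← h1]
  exact hxω ▸ Set.smul_mem_smul_set hb

end Cfsg.Agent.S3972
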