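import Cfsg.Statements.S3973
import Cfsg.Agent.Lib.SchurCover.Universal

set_option autoImplicit false
open Cfsg

namespace Cfsg.Agent.S3973

/-- If a finite group is presented by `n` generators and a finite set of `r` relators, then its Schur multiplier can be generated by `r - n` elements. In particular a finite group with a presentation having as many relators as generators has trivial Schur multiplier. -/
theorem result (n : ℕ) (rels : Finset (FreeGroup (Fin n))) [Finite (PresentedGroup (rels : Set (FreeGroup (Fin n))))] {A : Type*} [CommGroup A] [Finite A] (hA : Cfsg.HasSchurMultiplier (PresentedGroup (rels : Set (FreeGroup (Fin n)))) A) : Group.rank A ≤ rels.card - n := by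
  classical
  set P := PresentedGroup (rels : Set (FreeGroup (Fin n)))
  set p : FreeGroup (Fin n) →* P := PresentedGroup.mk (rels : Set (FreeGroup (Fin n))) with hpdef
  have hp : Function.Surjective p := PresentedGroup.mk_surjective _
  have hker : p.ker = Subgroup.normalClosure (rels : Set (FreeGroup (Fin n))) :=
    QuotientGroup.ker_mk' _
  obtain ⟨e⟩ := CfsgLib.SchurCover.mult_equiv_of_hasSchurMultiplier hA p hp
  set E := CfsgLib.SchurCover.Bar p
  set K := (CfsgLib.SchurCover.barHom p).ker with hK
  have hKc := CfsgLib.SchurCover.ker_barHom_le_center p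
  let _ : CommGroup K :=
    { (inferInstance : Group K) with
      mul_comm := fun a b => Subtype.ext (Subgroup.mem_center_iff.1 (hKc b.2) a) }
  let π : FreeGroup (Fin n) →* E := QuotientGroup.mk' _
  have hrel : ∀ x : rels, π (x : FreeGroup (Fin n)) ∈ K := fun x => by
    show p (x : FreeGroup (Fin n)) = 1
    exact hker.ge (Subgroup.subset_normalClosure x.2)
  -- the linear map from the free module on the relators
  let Φ : (rels →₀ ℤ) →ₗ[ℤ] Additive K :=
    Finsupp.linearCombination ℤ fun x => Additive.ofMul (⟨_, hrel x⟩ : K)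
  have hΦ : Function.Surjective Φ := by
    have hS : K ≤ (AddMonoidHom.toMultiplicativeLeft Φ.toAddMonoidHom).range.map K.subtype := by
      set S := (AddMonoidHom.toMultiplicativeLeft Φ.toAddMonoidHom).range.map K.subtype with hSdef
      have hSn : S.Normal := ⟨fun x hx g => by
        have hxK : x ∈ K := Subgroup.map_subtype_le _ hx
        rwa [Subgroup.mem_center_iff.1 (hKc hxK) g, mul_inv_cancel_right]⟩
      have hle : p.ker ≤ S.comap π := by
        have := hSn.comap π
        refine hker.le.trans (Subgroup.normalClosure_le_normal fun x hx => ?_)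
        refine ⟨⟨π x, hrel ⟨x, hx⟩⟩, ⟨Multiplicative.ofAdd (Finsupp.single ⟨x, hx⟩ 1), ?_⟩, rfl⟩
        show Additive.toMul (Φ (Finsupp.single ⟨x, hx⟩ 1)) = _
        simp [Φ]
      intro y hy
      obtain ⟨x, rfl⟩ := QuotientGroup.mk'_surjective _ y
      exact hle hy
    intro z
    obtain ⟨w, ⟨y, rfl⟩, hw⟩ := hS (Additive.toMul z).2
    exact ⟨y.toAdd, congrArg Additive.ofMul (Subtype.ext hw)⟩
  let f : Additive K →ₗ[ℤ] (Fin n →₀ ℤ) :=
    (MonoidHom.toAdditiveLeft ((CfsgLib.SchurCover.barExp p).comp K.subtype)).toIntLinearMap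
  let F : (rels →₀ ℤ) →ₗ[ℤ] (Fin n →₀ ℤ) := f.comp Φ
  -- the exponent sums of the relators have full rank
  have hrankF : n ≤ Module.finrank ℤ (LinearMap.range F) := by
    have hN : (Nat.card P : ℤ) ≠ 0 := by exact_mod_cast Nat.card_pos.ne'
    have hmem : ∀ v : Fin n →₀ ℤ, (Nat.card P : ℤ) • v ∈ LinearMap.range F := by
      intro v
      induction v using Finsupp.induction_linear with
      | zero => simp
      | add a b ha hb => rw [smul_add]; exact add_mem ha hb
      | single i c =>
        have hi : π (FreeGroup.of i) ^ Nat.card P ∈ K := by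
          rw [hK, MonoidHom.mem_ker, map_pow]
          exact pow_card_eq_one'
        obtain ⟨y, hy⟩ := hΦ (Additive.ofMul ⟨_, hi⟩)
        have h1 : F y = Finsupp.single i (Nat.card P : ℤ) := by
          show f (Φ y) = _
          rw [hy]
          show Multiplicative.toAdd (CfsgLib.SchurCover.barExp p (π (FreeGroup.of i) ^ Nat.card P)) = _
          rw [map_pow, toAdd_pow]
          show Nat.card P • Multiplicative.toAdd (CfsgLib.SchurCover.expSum (FreeGroup.of i)) = _
          simp [CfsgLib.SchurCover.expSum]
        have h2 : (Nat.card P : ℤ) • Finsupp.single i c = c • Finsupp.single i (Nat.card P : ℤ) := by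
          simp [mul_comm]
        rw [h2, ← h1]
        exact Submodule.smul_mem _ c ⟨y, rfl⟩
    let g : (Fin n →₀ ℤ) →ₗ[ℤ] LinearMap.range F :=
      ((Nat.card P : ℤ) • LinearMap.id).codRestrict _ hmem
    have hg : Function.Injective g := fun a b hab => by
      have h : (Nat.card P : ℤ) • a = (Nat.card P : ℤ) • b := congrArg Subtype.val hab
      exact smul_right_injective _ hN h
    have := LinearMap.finrank_le_finrank_of_injective hg
    rwa [Module.finrank_finsupp_self, Fintype.card_fin] at this
  set k := Module.finrank ℤ (LinearMap.ker F) with hk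
  have hkle : k ≤ rels.card - n := by
    have h1 := Submodule.finrank_quotient_add_finrank (LinearMap.ker F)
    rw [F.quotKerEquivRange.finrank_eq, Module.finrank_finsupp_self, Fintype.card_coe, ← hk] at h1
    omega
  let b := Module.finBasis ℤ (LinearMap.ker F)
  have hmult : ∀ y : LinearMap.ker F,
      ((Additive.toMul (Φ y) : K) : E) ∈ CfsgLib.SchurCover.mult p := by
    intro y
    refine Subgroup.mem_inf.2 ⟨(Additive.toMul (Φ y)).2, ?_⟩
    rw [← CfsgLib.SchurCover.ker_barExp, MonoidHom.mem_ker]
    exact congrArg Multiplicative.ofAdd (LinearMap.mem_ker.1 y.2)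
  let ψ : Multiplicative (LinearMap.ker F) →* A := e.toMonoidHom.comp
    { toFun := fun y => ⟨_, hmult y.toAdd⟩
      map_one' := Subtype.ext (by simp)
      map_mul' := fun a b => Subtype.ext (by simp [map_add]) }
  have hψ : Function.Surjective ψ := by
    intro a
    obtain ⟨⟨x, hx⟩, rfl⟩ := e.surjective a
    obtain ⟨y, hy⟩ := hΦ (Additive.ofMul ⟨x, hx.1⟩)
    have hyk : y ∈ LinearMap.ker F := by
      rw [LinearMap.mem_ker]
      show f (Φ y) = 0
      rw [hy]
      have : x ∈ (CfsgLib.SchurCover.barExp p).ker := by
        rw [CfsgLib.SchurCover.ker_barExp]; exact hx.2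
      exact congrArg Multiplicative.toAdd (MonoidHom.mem_ker.1 this)
    refine ⟨Multiplicative.ofAdd ⟨y, hyk⟩, congrArg e (Subtype.ext ?_)⟩
    show ((Additive.toMul (Φ y) : K) : E) = x
    rw [hy]; rfl
  have hgen : Subgroup.closure
      (↑(Finset.univ.image fun i => ψ (Multiplicative.ofAdd (b i))) : Set A) = ⊤ := by
    rw [eq_top_iff]
    intro a _
    obtain ⟨y, rfl⟩ := hψ a
    have h1 : y = ∏ i, Multiplicative.ofAdd (b i) ^ (b.repr y.toAdd i) := by
      apply Multiplicative.toAdd.injective
      rw [toAdd_prod]
      simp only [toAdd_zpow, toAdd_ofAdd]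
      exact (b.sum_repr y.toAdd).symm
    rw [h1, map_prod]
    refine prod_mem fun i _ => ?_
    rw [map_zpow]
    exact zpow_mem (Subgroup.subset_closure (by simp)) _
  calc Group.rank A ≤ _ := Group.rank_le hgen
    _ ≤ (Finset.univ : Finset (Fin k)).card := Finset.card_image_le
    _ ≤ rels.card - n := by simpa using hkle

end Cfsg.Agent.S3973
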