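import Cfsg.Statements.S3980
import Cfsg.Agent.S3959

set_option autoImplicit false
universe u v w
open Cfsg

namespace Cfsg.Agent.S3980

/-- Let `Q₁` and `Q₂` be finite groups whose commutator quotients have coprime orders, with Schur multipliers `A` and `B`. Then the Schur multiplier of `Q₁ × Q₂` is isomorphic to `A × B`. -/
theorem result {Q₁ : Type u} {Q₂ : Type v} [Group Q₁] [Group Q₂] [Finite Q₁] [Finite Q₂] {A B : Type w} [CommGroup A] [CommGroup B] (hA : Cfsg.HasSchurMultiplier Q₁ A) (hB : Cfsg.HasSchurMultiplier Q₂ B) (hcop : Nat.Coprime (Nat.card (Abelianization Q₁)) (Nat.card (Abelianization Q₂))) : Cfsg.HasSchurMultiplier (Q₁ × Q₂) (A × B) := by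
  obtain ⟨⟨Γ, _, _, σ, hσ, ⟨e⟩⟩, hup⟩ := Cfsg.Agent.S3959.result hA hB
  have := CfsgLib.SchurCover.subsingleton_abTensor hcop
  let p : A × B × CfsgLib.SchurCover.AbTensor Q₁ Q₂ ≃* A × B :=
    { toFun := fun t => (t.1, t.2.1)
      invFun := fun t => (t.1, t.2, 1)
      left_inv := fun t => Prod.ext rfl (Prod.ext rfl (Subsingleton.elim _ _))
      right_inv := fun _ => rfl
      map_mul' := fun _ _ => rfl }
  refine ⟨⟨Γ, inferInstance, inferInstance, σ, hσ, ⟨e.trans p⟩⟩, fun Δ _ _ τ hτ => ?_⟩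
  obtain ⟨π, hπ⟩ := hup Δ τ hτ
  exact ⟨π.comp p.symm.toMonoidHom, hπ.comp p.symm.surjective⟩

end Cfsg.Agent.S3980
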