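import Cfsg.Statements.S3981
import Cfsg.Agent.Lib.LocalFG8.Main

set_option autoImplicit false
open Cfsg

namespace Cfsg.Agent.S3981

/-- Let p be an odd prime, Q a p-subgroup of the finite group G and y an involution normalizing Q. Then Q is maximal among the p-subgroups of G normalized by y if and only if the image of y in N_G(Q) ⧸ Q neither inverts nor centralizes any element of order p there; the latter is phrased inside N_G(Q): for every x in N_G(Q) outside Q with x ^ p ∈ Q, neither y x y⁻¹ x nor y x y⁻¹ x⁻¹ lies in Q. -/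
theorem result {G : Type*} [Group G] [Finite G] (p : ℕ) [Fact p.Prime] (hp2 : p ≠ 2) (Q : Subgroup G) (hQ : IsPGroup p ↥Q) (y : G) (hy : orderOf y = 2) (hyQ : y ∈ Subgroup.normalizer (Q : Set G)) : (∀ R : Subgroup G, IsPGroup p ↥R → Q ≤ R → y ∈ Subgroup.normalizer (R : Set G) → R = Q) ↔ ∀ x : G, x ∈ Subgroup.normalizer (Q : Set G) → x ∉ Q → x ^ p ∈ Q → (y * x * y⁻¹ * x ∉ Q ∧ y * x * y⁻¹ * x⁻¹ ∉ Q) := by
  exact CfsgLib.LocalFG8.maximal_invariant_iff Q hQ y hy hyQ

end Cfsg.Agent.S3981
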