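import Cfsg.Statements.S3994
import Cfsg.Agent.Lib.OrderCount.Basic
import Cfsg.Agent.Lib.OrderCount.SameType

set_option autoImplicit false
open Cfsg

namespace Cfsg.Agent.S3994

/-- Let G be a finite group and n a positive integer. The number of elements of G whose order is divisible by n is either 0 or divisible by the largest divisor of the order of G that is coprime to n. -/
theorem result {G : Type*} [Group G] [Finite G] (n : ℕ) (hn : 0 < n) :
    Nat.card {g : G // n ∣ orderOf g} = 0 ∨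
      (Nat.card G / Nat.gcd (Nat.card G) (n ^ Nat.card G)) ∣ Nat.card {g : G // n ∣ orderOf g} := by
  right
  have hN0 : Nat.card G ≠ 0 := Nat.card_pos.ne'
  set a := Nat.gcd (Nat.card G) (n ^ Nat.card G)
  have hda : a ∣ Nat.card G := Nat.gcd_dvd_left _ _
  have key : ∀ q : ℕ, q.Prime → q ∣ n → ¬ q ∣ Nat.card G / a := by
    intro q hq hqn hd
    obtain ⟨e, m, hm, hem⟩ := Nat.exists_eq_pow_mul_and_not_dvd hN0 q hq.ne_one
    have he : e ≤ Nat.card G := by
      calc e ≤ q ^ e := (Nat.lt_pow_self hq.one_lt).le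
        _ ≤ Nat.card G := Nat.le_of_dvd Nat.card_pos ⟨m, hem⟩
    have h1 : q ^ e ∣ a := Nat.dvd_gcd ⟨m, hem⟩
      ((pow_dvd_pow q he).trans (pow_dvd_pow_of_dvd hqn _))
    have h2 : q ^ e * q ∣ Nat.card G := by
      have := Nat.mul_dvd_mul h1 hd
      rwa [Nat.mul_div_cancel' hda] at this
    rw [hem] at h2
    exact hm (Nat.dvd_of_mul_dvd_mul_left (pow_pos hq.pos e) h2)
  refine CfsgLib.OrderCount.coprime_dvd_card_dvd_orderOf n a (Nat.card G / a)
    (Nat.mul_div_cancel' hda).symm
    (Nat.coprime_of_dvd fun q hq hqa hd => ?_) (Nat.coprime_of_dvd key)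
  exact key q hq (hq.dvd_of_dvd_pow (hqa.trans (Nat.gcd_dvd_right _ _))) hd

end Cfsg.Agent.S3994
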