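import Cfsg.Statements.S3995
import Cfsg.Agent.Lib.OrderCount.ClassSize
import Cfsg.Agent.Lib.FewOrders.Norm
import Cfsg.Agent.Lib.SchurCover.Universal

set_option autoImplicit false
open Cfsg

namespace Cfsg.Agent.S3995

open Subgroup CfsgLib.OrderCount

universe u

/-- A group all of whose elements satisfy `g ^ (2 * p) = 1` with a unique involution. -/
theorem product_case {G : Type u} [Group G] [Finite G] {p : ℕ} (hp : p.Prime) (hp2 : p ≠ 2)
    (hpG : p ∣ Nat.card G) (hexp : ∀ g : G, g ^ (2 * p) = 1) (z : G) (hz : orderOf z = 2)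
    (huniq : ∀ x : G, orderOf x = 2 → x = z) :
    ∃ (q : ℕ) (P : Type) (_ : Group P) (_ : Finite P), q.Prime ∧ q ≠ 2 ∧ IsPGroup q P ∧
      Monoid.exponent P = q ∧ Nonempty (G ≃* Multiplicative (ZMod 2) × P) := by
  classical
  have := Fact.mk hp
  have := Fact.mk Nat.prime_two
  have hcomm : ∀ g : G, g * z = z * g := fun g => by
    have h := huniq (g * z * g⁻¹) (by rw [orderOf_conj', hz])
    calc g * z = g * z * g⁻¹ * g := by group
      _ = z * g := by rw [h]
  have hZn : (zpowers z).Normal := ⟨fun x hx g => by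
    obtain ⟨i, rfl⟩ := mem_zpowers_iff.1 hx
    rw [((show Commute g z from hcomm g).zpow_right i).eq, mul_inv_cancel_right]
    exact zpow_mem (mem_zpowers z) i⟩
  have hQ : IsPGroup p (G ⧸ zpowers z) := by
    intro x
    obtain ⟨g, rfl⟩ := QuotientGroup.mk_surjective x
    refine ⟨1, ?_⟩
    rw [pow_one, ← QuotientGroup.mk_pow, QuotientGroup.eq_one_iff]
    rcases (Nat.dvd_prime Nat.prime_two).1
      (orderOf_dvd_of_pow_eq_one (x := g ^ p) (n := 2) (by rw [← pow_mul, mul_comm, hexp]))
      with h | h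
    · rw [orderOf_eq_one_iff.1 h]; exact one_mem _
    · rw [huniq _ h]; exact mem_zpowers z
  obtain ⟨k, hk⟩ := IsPGroup.iff_card.1 hQ
  have hG : Nat.card G = p ^ k * 2 := by
    rw [card_eq_card_quotient_mul_card_subgroup (zpowers z), hk, Nat.card_zpowers, hz]
  obtain ⟨P, hP⟩ := Sylow.exists_subgroup_card_pow_prime p (G := G) (n := k)
    (hG ▸ Dvd.intro 2 rfl)
  have hPi : P.index = 2 := by
    have h := P.card_mul_index
    rw [hP, hG] at h
    exact Nat.eq_of_mul_eq_mul_left (pow_pos hp.pos k) h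
  have hcop : (Nat.card (zpowers z)).Coprime (Nat.card P) := by
    rw [Nat.card_zpowers, hz, hP]
    exact ((Nat.coprime_primes Nat.prime_two hp).2 (Ne.symm hp2)).pow_right k
  let f : zpowers z × P →* G := MonoidHom.noncommCoprod (zpowers z).subtype P.subtype fun a b => by
    obtain ⟨i, hi⟩ := mem_zpowers_iff.1 a.2
    show Commute (a : G) (b : G)
    rw [← hi]
    exact ((show Commute (b : G) z from hcomm b).zpow_right i).symm
  have hf : Function.Injective f := by
    rw [injective_iff_map_eq_one]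
    rintro ⟨a, b⟩ hab
    have hab' : (a : G) * b = 1 := hab
    have hb : (b : G) ∈ zpowers z := by rw [eq_inv_of_mul_eq_one_right hab']; exact inv_mem a.2
    have hb1 : (b : G) = 1 := by
      rw [← orderOf_eq_one_iff]
      exact Nat.eq_one_of_dvd_coprimes hcop (orderOf_dvd_natCard _ hb) (orderOf_dvd_natCard _ b.2)
    rw [hb1, mul_one] at hab'
    exact Prod.ext (Subtype.ext hab') (Subtype.ext hb1)
  have e : zpowers z × P ≃* G := MulEquiv.ofBijective f
    ((Nat.bijective_iff_injective_and_card _).2 ⟨hf, by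
      rw [Nat.card_prod, Nat.card_zpowers, hz, hP, hG, mul_comm]⟩)
  have ez : zpowers z ≃* Multiplicative (ZMod 2) :=
    mulEquivOfCyclicCardEq (by
      rw [Nat.card_zpowers, hz, Nat.card_congr Multiplicative.toAdd, Nat.card_zmod])
  obtain ⟨P', hg', hf', ⟨eP⟩⟩ := CfsgLib.SchurCover.exists_small_copy.{0} ↥P
  refine ⟨p, P', hg', hf', hp, hp2, (IsPGroup.of_card hP).of_equiv eP, ?_,
    ⟨e.symm.trans (ez.prodCongr eP)⟩⟩
  rw [← Monoid.exponent_eq_of_mulEquiv eP]
  have hdvd : Monoid.exponent P ∣ p := by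
    refine Monoid.exponent_dvd_of_forall_pow_eq_one fun x => orderOf_dvd_iff_pow_eq_one.1 ?_
    have h1 : orderOf x ∣ p * 2 := by
      rw [← Subgroup.orderOf_coe, mul_comm]; exact orderOf_dvd_of_pow_eq_one (hexp x)
    refine Nat.Coprime.dvd_of_dvd_mul_right ?_ h1
    exact (((Nat.coprime_primes hp Nat.prime_two).2 hp2).pow_left k).coprime_dvd_left
      (hP ▸ orderOf_dvd_natCard x)
  rcases (Nat.dvd_prime hp).1 hdvd with h | h
  · exfalso
    have : Nat.card P = 1 := by
      have := Monoid.exp_eq_one_iff.1 h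
      exact Nat.card_eq_one_iff_unique.2 ⟨this, inferInstance⟩
    have hk0 : k = 0 := by
      rw [hP] at this
      exact (Nat.pow_eq_one.1 this).resolve_left hp.ne_one
    rw [hG, hk0, pow_zero, one_mul] at hpG
    exact hp2 ((Nat.prime_dvd_prime_iff_eq hp Nat.prime_two).1 hpG)
  · exact h

/-- Let G be a finite group such that the numbers of elements of each order that occurs in G (the numbers #{g : o(g) = m}, m ranging over the element orders of G) take exactly two values, 1 and some n ≠ 1. Then either G is a p-group of exponent p and order at least 3 for some prime p, or G is the quaternion group of order 8, or G is cyclic of order 4, or G ≅ Z₂ × P for a p-group P of exponent p with p an odd prime. -/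
theorem result {G : Type*} [Group G] [Finite G] (n : ℕ) (hn : n ≠ 1) (h : ((fun m : ℕ => Nat.card {g : G // orderOf g = m}) '' Set.range (orderOf : G → ℕ)) = {1, n}) :
    (∃ p : ℕ, p.Prime ∧ IsPGroup p G ∧ 3 ≤ Nat.card G ∧ Monoid.exponent G = p) ∨
      Nonempty (G ≃* QuaternionGroup 2) ∨ (IsCyclic G ∧ Nat.card G = 4) ∨
      (∃ (p : ℕ) (P : Type) (_ : Group P) (_ : Finite P), p.Prime ∧ p ≠ 2 ∧ IsPGroup p P ∧ Monoid.exponent P = p ∧
        Nonempty (G ≃* Multiplicative (ZMod 2) × P)) := by
  classical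
  have hval : ∀ m, 0 < cnt G m → cnt G m = 1 ∨ cnt G m = n := fun m hm => by
    have := cnt_mem_values hm
    rw [h] at this
    simpa using this
  have hbig : ∀ m, 2 < m → 0 < cnt G m → cnt G m = n := fun m hm hc =>
    (hval m hc).resolve_left fun h1 => absurd (le_two_of_cnt_eq_one h1) (by omega)
  -- the value `n` occurs
  obtain ⟨m₀, ⟨g₀, hg₀⟩, hm₀⟩ : n ∈ (fun m : ℕ => Nat.card {g : G // orderOf g = m}) ''
      Set.range (orderOf : G → ℕ) := by rw [h]; simp
  have hn2 : 2 ≤ n := by
    have hne : Nonempty {g : G // orderOf g = m₀} := ⟨⟨g₀, hg₀⟩⟩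
    have := Nat.card_pos (α := {g : G // orderOf g = m₀})
    simp only at hm₀
    omega
  have h3 : 3 ≤ Nat.card G := by
    by_contra hlt
    have hm1 : m₀ ≠ 1 := fun h1 => hn (by
      simp only at hm₀; rw [← hm₀, h1]; exact cnt_one)
    have : Nat.card {g : G // orderOf g = m₀} < Nat.card G := by
      have : Fintype G := Fintype.ofFinite G
      rw [Nat.card_eq_fintype_card, Nat.card_eq_fintype_card]
      exact Fintype.card_subtype_lt (x := 1) (fun h1 => hm1 (by rw [← h1, orderOf_one]))
    simp only at hm₀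
    omega
  have hevenn : ∀ m, 2 < m → 0 < cnt G m → 2 ∣ n := fun m hm hc => hbig m hm hc ▸ even_cnt hm
  have hodd3 : ∀ p : ℕ, p.Prime → p ≠ 2 → 2 < p := fun p hp hp2 =>
    lt_of_le_of_ne hp.two_le (Ne.symm hp2)
  -- for an odd prime divisor, `n ≡ -1`
  have hodd : ∀ p : ℕ, p.Prime → p ≠ 2 → p ∣ Nat.card G →
      p ∣ 1 + n ∧ ¬ p ∣ n ∧ cnt G p = n := by
    intro p hp hp2 hpG
    have hc := hbig p (hodd3 p hp hp2) (cnt_pos_prime hp hpG)
    have h1 := hc ▸ prime_dvd_one_add_cnt hp hpG
    exact ⟨h1, fun h2 => hp.not_dvd_one ((Nat.dvd_add_left h2).1 h1), hc⟩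
  have hmix : ∀ p d : ℕ, p.Prime → p ≠ 2 → p ∣ Nat.card G → p.Coprime d → 0 < d →
      cnt G d = n → False := by
    intro p d hp hp2 hpG hpd hd hcd
    obtain ⟨-, hpn, -⟩ := hodd p hp hp2 hpG
    have h1 := prime_dvd_cnt_add hp hpG d hd hpd
    rw [hcd] at h1
    rcases Nat.eq_zero_or_pos (cnt G (p * d)) with h0 | h0
    · rw [h0, add_zero] at h1; exact hpn h1
    · have h2 : 2 < p * d := by
        have := hodd3 p hp hp2
        exact lt_of_lt_of_le this (Nat.le_mul_of_pos_right p hd)
      rw [hbig _ h2 h0, ← two_mul] at h1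
      exact hpn ((((Nat.coprime_primes hp Nat.prime_two).2 hp2)).dvd_of_dvd_mul_left h1)
  have hone : ∀ p q : ℕ, p.Prime → q.Prime → p ≠ 2 → q ≠ 2 → p ∣ Nat.card G → q ∣ Nat.card G →
      p = q := by
    intro p q hp hq hp2 hq2 hpG hqG
    by_contra hpq
    exact hmix p q hp hp2 hpG ((Nat.coprime_primes hp hq).2 hpq) hq.pos (hodd q hq hq2 hqG).2.2
  by_cases hex : ∃ p : ℕ, p.Prime ∧ p ≠ 2 ∧ p ∣ Nat.card G
  · obtain ⟨p, hp, hp2, hpG⟩ := hex
    have hsq : ∀ g : G, ¬ p ^ 2 ∣ orderOf g := fun g hg => by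
      obtain ⟨-, hpn, -⟩ := hodd p hp hp2 hpG
      have h0 : 0 < cnt G (p ^ 2) := cnt_pos_of_dvd (cnt_pos_iff.2 ⟨g, rfl⟩) hg
      exact hpn (hbig _ (lt_of_lt_of_le (hodd3 p hp hp2) (Nat.le_self_pow two_ne_zero p)) h0 ▸
        prime_dvd_cnt_of_sq_dvd hp dvd_rfl)
    have hprimes : ∀ (g : G) (t : ℕ), t.Prime → t ∣ orderOf g → t = 2 ∨ t = p := fun g t ht htg =>
      or_iff_not_imp_left.2 fun ht2 => hone t p ht hp ht2 hp2 (htg.trans (orderOf_dvd_natCard g)) hpG
    by_cases h2 : 2 ∣ Nat.card G
    · -- `G ≅ Z₂ × P`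
      have hc2 : cnt G 2 = 1 := by
        refine (hval 2 (cnt_pos_prime Nat.prime_two h2)).resolve_right fun hc => ?_
        have := prime_dvd_one_add_cnt Nat.prime_two h2
        have := hevenn p (hodd3 p hp hp2) (cnt_pos_prime hp hpG)
        omega
      have h4 : ∀ g : G, ¬ 2 ^ 2 ∣ orderOf g := fun g hg =>
        hmix p (2 ^ 2) hp hp2 hpG (((Nat.coprime_primes hp Nat.prime_two).2 hp2).pow_right 2)
          (by norm_num) (hbig _ (by norm_num) (cnt_pos_of_dvd (cnt_pos_iff.2 ⟨g, rfl⟩) hg))
      have hexp : ∀ g : G, g ^ (2 * p) = 1 := fun g => by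
        refine orderOf_dvd_iff_pow_eq_one.1
          ((Nat.dvd_iff_prime_pow_dvd_dvd _ _).2 fun t j ht htj => ?_)
        rcases Nat.lt_or_ge j 2 with hj | hj
        · interval_cases j
          · simp
          · rw [pow_one] at htj ⊢
            rcases hprimes g t ht htj with rfl | rfl
            · exact Dvd.intro _ rfl
            · exact Dvd.intro_left _ rfl
        · exfalso
          have ht1 : t ∣ orderOf g := (dvd_pow_self t (by omega)).trans htj
          rcases hprimes g t ht ht1 with rfl | rfl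
          · exact h4 g ((pow_dvd_pow 2 hj).trans htj)
          · exact hsq g ((pow_dvd_pow t hj).trans htj)
      obtain ⟨z, hz⟩ := cnt_pos_iff.1 (cnt_pos_prime (G := G) Nat.prime_two h2)
      refine Or.inr (Or.inr (Or.inr (product_case hp hp2 hpG hexp z hz fun x hx => ?_)))
      have := (Nat.card_eq_one_iff_unique.1 hc2).1
      exact congrArg Subtype.val (this.elim ⟨x, hx⟩ ⟨z, hz⟩)
    · have hpow : ∀ g : G, g ^ p = 1 := fun g => by
        refine orderOf_dvd_iff_pow_eq_one.1
          ((Nat.dvd_iff_prime_pow_dvd_dvd _ _).2 fun t j ht htj => ?_)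
        rcases Nat.eq_zero_or_pos j with rfl | hj
        · simp
        have ht1 : t ∣ orderOf g := (dvd_pow_self t hj.ne').trans htj
        obtain rfl : t = p := (hprimes g t ht ht1).resolve_left fun ht2 =>
          h2 (ht2 ▸ ht1.trans (orderOf_dvd_natCard g))
        rcases Nat.lt_or_ge j 2 with hj' | hj'
        · rw [show j = 1 by omega, pow_one]
        · exact absurd ((pow_dvd_pow t hj').trans htj) (hsq g)
      refine Or.inl ⟨p, hp, ?_, h3, ?_⟩
      · exact fun g => ⟨1, by rw [pow_one]; exact hpow g⟩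
      · refine ((Nat.dvd_prime hp).1 (Monoid.exponent_dvd_of_forall_pow_eq_one hpow)).resolve_left
          fun h1 => ?_
        have := Monoid.exp_eq_one_iff.1 h1
        have := Finite.one_lt_card_iff_nontrivial.1 (show 1 < Nat.card G by omega)
        exact not_nontrivial G this
  · push Not at hex
    have hpow2 : IsPGroup 2 G := IsPGroup.of_card
      (Nat.eq_prime_pow_of_unique_prime_dvd Nat.card_pos.ne' fun {t} ht htd => by
        by_contra hne; exact hex t ht hne htd)
    by_cases he : ∀ g : G, g ^ 2 = 1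
    · refine Or.inl ⟨2, Nat.prime_two, hpow2, h3, ?_⟩
      refine ((Nat.dvd_prime Nat.prime_two).1
        (Monoid.exponent_dvd_of_forall_pow_eq_one he)).resolve_left fun h1 => ?_
      have := Monoid.exp_eq_one_iff.1 h1
      have := Finite.one_lt_card_iff_nontrivial.1 (show 1 < Nat.card G by omega)
      exact not_nontrivial G this
    push Not at he
    obtain ⟨g, hg⟩ := he
    have : Fact (Nat.Prime 2) := ⟨Nat.prime_two⟩
    obtain ⟨j, hj⟩ := IsPGroup.iff_orderOf.1 hpow2 g
    have hj2 : 2 ≤ j := by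
      by_contra hj2
      exact hg (orderOf_dvd_iff_pow_eq_one.1 (hj ▸ (pow_one 2).symm ▸
        pow_dvd_pow 2 (Nat.le_of_lt_succ (not_le.1 hj2)) |>.trans (by simp)))
    have h4 : 0 < cnt G 4 := cnt_pos_of_dvd (cnt_pos_iff.2 ⟨g, rfl⟩) (hj ▸ pow_dvd_pow 2 hj2)
    have hne := hevenn 4 (by norm_num) h4
    have h2G : 2 ∣ Nat.card G := (show 2 ∣ 4 by norm_num).trans (dvd_card_of_cnt_pos h4)
    have hc2 : cnt G 2 = 1 := by
      refine (hval 2 (cnt_pos_prime Nat.prime_two h2G)).resolve_right fun hc => ?_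
      have := prime_dvd_one_add_cnt Nat.prime_two h2G
      omega
    have h8 : cnt G 8 = 0 := by
      by_contra h8
      have h8' : 0 < cnt G 8 := Nat.pos_of_ne_zero h8
      have hd := (Nat.dvd_gcd dvd_rfl (dvd_card_of_cnt_pos h8')).trans
        (gcd_dvd_card_pow_eq_one (G := G) 8)
      have e8 : Nat.card {x : G // x ^ 8 = 1} = cnt G 1 + cnt G 2 + cnt G 4 + cnt G 8 := by
        have : Fintype G := Fintype.ofFinite G
        simp only [cnt, Nat.card_eq_fintype_card, Fintype.card_subtype]
        rw [Finset.card_eq_sum_card_fiberwise (f := orderOf) (t := ({1, 2, 4, 8} : Finset ℕ))]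
        · have hf : ∀ m : ℕ, m ∣ 8 → (Finset.univ.filter fun x : G => x ^ 8 = 1).filter
              (fun x => orderOf x = m) = Finset.univ.filter fun x : G => orderOf x = m := by
            intro m hm
            ext x
            simp only [Finset.mem_filter, Finset.mem_univ, true_and, and_iff_right_iff_imp]
            exact fun hx => orderOf_dvd_iff_pow_eq_one.1 (hx ▸ hm)
          rw [Finset.sum_insert (by decide), Finset.sum_insert (by decide),
            Finset.sum_insert (by decide), Finset.sum_singleton, hf 1 (one_dvd _),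
            hf 2 (by norm_num), hf 4 (by norm_num), hf 8 dvd_rfl]
          ring
        · intro x hx
          simp only [Finset.coe_filter, Finset.mem_univ, true_and, Set.mem_ofPred_eq] at hx
          have h' := orderOf_dvd_of_pow_eq_one hx
          obtain ⟨i, hi, hi'⟩ := (Nat.dvd_prime_pow Nat.prime_two).1
            (show orderOf x ∣ 2 ^ 3 from h')
          simp only [Finset.mem_coe, Finset.mem_insert, Finset.mem_singleton]
          interval_cases i <;> simp [hi']
      rw [e8, cnt_one, hc2, hbig 4 (by norm_num) h4, hbig 8 (by norm_num) h8'] at hd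
      omega
    have h4' : ∀ x : G, x ^ 4 = 1 := fun x => by
      obtain ⟨i, hi⟩ := IsPGroup.iff_orderOf.1 hpow2 x
      refine orderOf_dvd_iff_pow_eq_one.1 (hi ▸ ?_)
      by_contra hd
      have hi3 : 3 ≤ i := by
        by_contra hi3
        exact hd (pow_dvd_pow 2 (show i ≤ 2 by omega))
      have : 0 < cnt G 8 := cnt_pos_of_dvd (cnt_pos_iff.2 ⟨x, rfl⟩) (hi ▸ pow_dvd_pow 2 hi3)
      omega
    obtain ⟨z, hz⟩ := cnt_pos_iff.1 (cnt_pos_prime (G := G) Nat.prime_two h2G)
    rcases CfsgLib.FewOrders.cyclic_four_or_quaternion h4' z hz (fun x hx => by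
        have := (Nat.card_eq_one_iff_unique.1 hc2).1
        exact congrArg Subtype.val (this.elim ⟨x, hx⟩ ⟨z, hz⟩)) (by omega) with hr | hr
    · exact Or.inr (Or.inr (Or.inl hr))
    · exact Or.inr (Or.inl hr)

end Cfsg.Agent.S3995
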