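import Cfsg.Statements.S3996
import Cfsg.Agent.Lib.OrderCount.TwoValues
import Cfsg.Agent.Lib.FewOrders.Prime

set_option autoImplicit false
open Cfsg

namespace Cfsg.Agent.S3996

open Subgroup CfsgLib.OrderCount

/-- A finite group in which the numbers of elements of each order that occurs (the numbers #{g : o(g) = m}, m ranging over the element orders) take exactly three different values is solvable. -/
theorem result {G : Type*} [Group G] [Finite G] (h : (((fun m : ℕ => Nat.card {g : G // orderOf g = m}) '' Set.range (orderOf : G → ℕ))).ncard = 3) : Group.IsSolvable G := by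
  classical
  by_contra hns
  have hodd3 : ∀ r : ℕ, r.Prime → r ≠ 2 → 2 < r := fun r hr hr2 =>
    lt_of_le_of_ne hr.two_le (Ne.symm hr2)
  -- two odd prime divisors
  obtain ⟨p, q, hp, hq, hp2, hq2, hpq, hpG, hqG⟩ : ∃ p q : ℕ, p.Prime ∧ q.Prime ∧ p ≠ 2 ∧ q ≠ 2 ∧
      p ≠ q ∧ p ∣ Nat.card G ∧ q ∣ Nat.card G := by
    have h3 := CfsgLib.FewOrders.three_le_card_primeFactors hns
    have : 1 < ((Nat.card G).primeFactors.erase 2).card := by
      have := Finset.pred_card_le_card_erase (a := 2) (s := (Nat.card G).primeFactors)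
      omega
    obtain ⟨p, hp, q, hq, hpq⟩ := Finset.one_lt_card.1 this
    obtain ⟨hp2, hp⟩ := Finset.mem_erase.1 hp
    obtain ⟨hq2, hq⟩ := Finset.mem_erase.1 hq
    exact ⟨p, q, Nat.prime_of_mem_primeFactors hp, Nat.prime_of_mem_primeFactors hq, hp2, hq2, hpq,
      Nat.dvd_of_mem_primeFactors hp, Nat.dvd_of_mem_primeFactors hq⟩
  set V := (fun m : ℕ => Nat.card {g : G // orderOf g = m}) '' Set.range (orderOf : G → ℕ) with hV
  obtain ⟨u, v, w, huv, huw, hvw, hVeq⟩ := Set.ncard_eq_three.1 h
  have hone : 1 ∈ V := by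
    have := cnt_mem_values (G := G) (m := 1) (by rw [cnt_one]; exact one_pos)
    rwa [cnt_one] at this
  have hrest : ∃ n n' : ℕ, ∀ m, 0 < cnt G m → cnt G m = 1 ∨ cnt G m = n ∨ cnt G m = n' := by
    have hmem : ∀ m, 0 < cnt G m → cnt G m = u ∨ cnt G m = v ∨ cnt G m = w := fun m hm => by
      have : cnt G m ∈ ({u, v, w} : Set ℕ) := hVeq ▸ cnt_mem_values hm
      simpa using this
    rw [hVeq] at hone
    simp only [Set.mem_insert_iff, Set.mem_singleton_iff] at hone
    rcases hone with rfl | rfl | rfl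
    · exact ⟨v, w, hmem⟩
    · exact ⟨u, w, fun m hm => (hmem m hm).elim (fun h => Or.inr (Or.inl h))
        (fun h => h.elim Or.inl (fun h => Or.inr (Or.inr h)))⟩
    · exact ⟨u, v, fun m hm => (hmem m hm).elim (fun h => Or.inr (Or.inl h))
        (fun h => h.elim (fun h => Or.inr (Or.inr h)) Or.inl)⟩
  obtain ⟨n, n', hval⟩ := hrest
  have hval' : ∀ m, 2 < m → 0 < cnt G m → cnt G m = n ∨ cnt G m = n' := fun m hm hc =>
    (hval m hc).resolve_left fun h1 => absurd (le_two_of_cnt_eq_one h1) (by omega)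
  by_cases h2 : ∀ m, m ≤ 2 → 0 < cnt G m → cnt G m = 1
  swap
  · -- all orders above `2` share one value
    push Not at h2
    obtain ⟨m, hm2, hm0, hm1⟩ := h2
    have hm : m = 2 := by
      interval_cases m
      · exact absurd (dvd_card_of_cnt_pos hm0) (by simp [Nat.card_pos.ne'])
      · exact absurd cnt_one hm1
      · rfl
    subst hm
    have hodd : ¬ 2 ∣ cnt G 2 := fun hd => by
      have := prime_dvd_one_add_cnt Nat.prime_two (dvd_card_of_cnt_pos hm0)
      omega
    have hn2 : cnt G 2 = n ∨ cnt G 2 = n' := (hval 2 hm0).resolve_left hm1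
    have hall : ∀ m, 2 < m → 0 < cnt G m → cnt G m = cnt G p := by
      intro m hm hc
      have h1 := hval' m hm hc
      have h3 := hval' p (hodd3 p hp hp2) (cnt_pos_prime hp hpG)
      have := even_cnt (G := G) hm
      have := even_cnt (G := G) (hodd3 p hp hp2)
      omega
    have := Fact.mk hp
    have h1 := cnt_prime_mul_eq_neg hp hpG hq.pos ((Nat.coprime_primes hp hq).2 hpq)
    rw [hall q (hodd3 q hq hq2) (cnt_pos_prime hq hqG), cnt_prime_eq_neg_one hp hpG, neg_neg] at h1
    rcases Nat.eq_zero_or_pos (cnt G (p * q)) with h0 | h0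
    · rw [h0, Nat.cast_zero] at h1; exact zero_ne_one h1
    · rw [hall _ (lt_of_lt_of_le (hodd3 p hp hp2) (Nat.le_mul_of_pos_right p hq.pos)) h0,
        cnt_prime_eq_neg_one hp hpG] at h1
      exact zmod_one_ne_neg_one hp hp2 h1.symm
  -- no two odd primes share a value
  have hdiff : ∀ r s : ℕ, r.Prime → s.Prime → r ≠ 2 → s ≠ 2 → r ≠ s → r ∣ Nat.card G →
      s ∣ Nat.card G → cnt G r ≠ cnt G s := by
    intro r s hr hs hr2 hs2 hrs hrG hsG heq
    have hr' := hval' r (hodd3 r hr hr2) (cnt_pos_prime hr hrG)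
    rcases hr' with hr' | hr'
    · exact false_of_cnt_eq hr hs hr2 hs2 hrs hrG hsG n n' hval' h2 hr' (heq ▸ hr')
    · exact false_of_cnt_eq hr hs hr2 hs2 hrs hrG hsG n' n (fun m hm hc => (hval' m hm hc).symm)
        h2 hr' (heq ▸ hr')
  have honly : ∀ t : ℕ, t.Prime → t ∣ Nat.card G → t = 2 ∨ t = p ∨ t = q := by
    intro t ht htG
    by_contra hc
    push Not at hc
    have := hdiff p q hp hq hp2 hq2 hpq hpG hqG
    have := hdiff p t hp ht hp2 hc.1 (Ne.symm hc.2.1) hpG htG
    have := hdiff q t hq ht hq2 hc.1 (Ne.symm hc.2.2) hqG htG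
    have := hval' t (hodd3 t ht hc.1) (cnt_pos_prime ht htG)
    have := hval' p (hodd3 p hp hp2) (cnt_pos_prime hp hpG)
    have := hval' q (hodd3 q hq hq2) (cnt_pos_prime hq hqG)
    omega
  have h2G : 2 ∣ Nat.card G := by
    by_contra h2G
    refine hns (CfsgLib.FewOrders.isSolvable_of_two_primes hp hq fun t ht htG => ?_)
    exact (honly t ht htG).resolve_left fun ht2 => h2G (ht2 ▸ htG)
  have hc2 : cnt G 2 = 1 := h2 2 le_rfl (cnt_pos_prime Nat.prime_two h2G)
  by_cases h4 : 0 < cnt G 4
  · -- an element of order four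
    have hcase : ∀ r s : ℕ, r.Prime → s.Prime → r ≠ 2 → s ≠ 2 → r ≠ s → r ∣ Nat.card G →
        s ∣ Nat.card G → cnt G 4 = cnt G r → False := by
      intro r s hr hs hr2 hs2 hrs hrG hsG h4r
      have := Fact.mk hr
      have := Fact.mk hs
      have hne := hdiff r s hr hs hr2 hs2 hrs hrG hsG
      have hv : ∀ m, 2 < m → 0 < cnt G m → cnt G m = cnt G r ∨ cnt G m = cnt G s := by
        intro m hm hc
        have := hval' m hm hc
        have := hval' r (hodd3 r hr hr2) (cnt_pos_prime hr hrG)
        have := hval' s (hodd3 s hs hs2) (cnt_pos_prime hs hsG)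
        omega
      have hr11 := zmod_one_ne_neg_one hr hr2
      have har := cnt_prime_eq_neg_one hr hrG
      have hbs := cnt_prime_eq_neg_one hs hsG
      have cop4 : ∀ x : ℕ, x.Prime → x ≠ 2 → x.Coprime 4 := fun x hx hx2 =>
        ((Nat.coprime_primes hx Nat.prime_two).2 hx2).pow_right 2
      -- `c (4 r)`
      have h1 := cnt_prime_mul_eq_neg hr hrG (by norm_num) (cop4 r hr hr2)
      rw [h4r, har, neg_neg] at h1
      have h0 : 0 < cnt G (r * 4) := Nat.pos_of_ne_zero fun hz => by
        rw [hz, Nat.cast_zero] at h1; exact zero_ne_one h1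
      have h4r' : cnt G (r * 4) = cnt G s := (hv _ (by have := hr.two_le; omega) h0).resolve_left
        fun he => by rw [he, har] at h1; exact hr11 h1.symm
      rw [h4r'] at h1
      -- `c (r s)`
      have hrs' := (Nat.coprime_primes hr hs).2 hrs
      have h2' := cnt_prime_mul_eq_neg hr hrG hs.pos hrs'
      rw [h1] at h2'
      have h0' : 0 < cnt G (r * s) := Nat.pos_of_ne_zero fun hz => by
        rw [hz, Nat.cast_zero] at h2'; exact one_ne_zero (neg_eq_zero.1 h2'.symm)
      have h3' : 2 < r * s :=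
        lt_of_lt_of_le (hodd3 r hr hr2) (Nat.le_mul_of_pos_right r hs.pos)
      have hrs_eq : cnt G (r * s) = cnt G r := (hv _ h3' h0').resolve_right
        fun he => by rw [he, h1] at h2'; exact hr11 h2'
      have h5 := cnt_prime_mul_eq_neg hs hsG hr.pos hrs'.symm
      rw [mul_comm, hrs_eq] at h5
      have has : (cnt G r : ZMod s) = 0 := by
        have h5' : (2 : ZMod s) * (cnt G r : ZMod s) = 0 := by
          rw [two_mul]; exact eq_neg_iff_add_eq_zero.1 h5
        refine (mul_eq_zero.1 h5').resolve_left fun h20 => zmod_one_ne_neg_one hs hs2 ?_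
        rw [eq_neg_iff_add_eq_zero, ← h20]; norm_num
      -- `c (4 r s)`
      have h6 := cnt_prime_mul_eq_neg hs hsG (d := r * 4) (by have := hr.pos; omega)
        (hrs'.symm.mul_right (cop4 s hs hs2))
      rw [h4r', hbs, neg_neg] at h6
      rcases Nat.eq_zero_or_pos (cnt G (s * (r * 4))) with hz | hz
      · rw [hz, Nat.cast_zero] at h6; exact zero_ne_one h6
      · rcases hv _ (lt_of_lt_of_le (hodd3 s hs hs2) (Nat.le_mul_of_pos_right s (by
          have := hr.pos; omega))) hz with he | he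
        · rw [he, has] at h6; exact zero_ne_one h6
        · rw [he, hbs] at h6; exact zmod_one_ne_neg_one hs hs2 h6.symm
    have := hdiff p q hp hq hp2 hq2 hpq hpG hqG
    have hp' := hval' p (hodd3 p hp hp2) (cnt_pos_prime hp hpG)
    have hq' := hval' q (hodd3 q hq hq2) (cnt_pos_prime hq hqG)
    have h4' := hval' 4 (by norm_num) h4
    rcases (show cnt G 4 = cnt G p ∨ cnt G 4 = cnt G q by omega) with he | he
    · exact hcase p q hp hq hp2 hq2 hpq hpG hqG he
    · exact hcase q p hq hp hq2 hp2 (Ne.symm hpq) hqG hpG he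
  · -- a central involution
    have := Fact.mk Nat.prime_two
    obtain ⟨z, hz⟩ := cnt_pos_iff.1 (cnt_pos_prime (G := G) Nat.prime_two h2G)
    have huniq : ∀ x : G, orderOf x = 2 → x = z := fun x hx =>
      congrArg Subtype.val ((Nat.card_eq_one_iff_unique.1 hc2).1.elim
        (⟨x, hx⟩ : {g : G // orderOf g = 2}) ⟨z, hz⟩)
    have hcomm : ∀ g : G, Commute g z := fun g => by
      have h := huniq (g * z * g⁻¹) (by rw [orderOf_conj', hz])
      show g * z = z * g
      calc g * z = g * z * g⁻¹ * g := by group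
        _ = z * g := by rw [h]
    have hZn : (zpowers z).Normal := ⟨fun x hx g => by
      obtain ⟨i, rfl⟩ := mem_zpowers_iff.1 hx
      rw [((hcomm g).zpow_right i).eq, mul_inv_cancel_right]
      exact zpow_mem (mem_zpowers z) i⟩
    have hQ : ¬ 2 ∣ Nat.card (G ⧸ zpowers z) := by
      intro hd
      obtain ⟨x, hx⟩ := exists_prime_orderOf_dvd_card' 2 hd
      obtain ⟨g, rfl⟩ := QuotientGroup.mk_surjective x
      have hgz : g ^ 2 ∈ zpowers z := by
        rw [← QuotientGroup.eq_one_iff, QuotientGroup.mk_pow, ← hx, pow_orderOf_eq_one]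
      have hg4 : g ^ 4 = 1 := by
        obtain ⟨i, hi⟩ := mem_zpowers_iff.1 hgz
        calc g ^ 4 = (g ^ 2) ^ 2 := by rw [← pow_mul]
          _ = (z ^ i) ^ 2 := by rw [hi]
          _ = 1 := by rw [← zpow_natCast, ← zpow_mul, mul_comm, zpow_mul, zpow_natCast, ← hz,
              pow_orderOf_eq_one, one_zpow]
      obtain ⟨i, hi, hi'⟩ := (Nat.dvd_prime_pow Nat.prime_two).1
        (show orderOf g ∣ 2 ^ 2 from orderOf_dvd_of_pow_eq_one hg4)
      interval_cases i
      · rw [orderOf_eq_one_iff.1 hi', QuotientGroup.mk_one, orderOf_one] at hx; omega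
      · rw [huniq g hi', (QuotientGroup.eq_one_iff z).2 (mem_zpowers z), orderOf_one] at hx; omega
      · exact h4 (cnt_pos_iff.2 ⟨g, hi'⟩)
    have : Group.IsSolvable (G ⧸ zpowers z) :=
      CfsgLib.FewOrders.isSolvable_of_two_primes hp hq fun t ht htQ =>
        (honly t ht (htQ.trans (card_quotient_dvd_card _))).resolve_left fun ht2 => hQ (ht2 ▸ htQ)
    exact hns (Group.isSolvable_of_ker_le_range (zpowers z).subtype (QuotientGroup.mk' (zpowers z))
      (by rw [QuotientGroup.ker_mk', range_subtype]))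

end Cfsg.Agent.S3996
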