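import Cfsg.Statements.S3997
import Cfsg.Agent.Lib.OrderCount.Basic
import Cfsg.Agent.Lib.OrderCount.SameType

set_option autoImplicit false
open Cfsg

namespace Cfsg.Agent.S3997

/-- Let G and H be finite groups with the same order type: for every m they have the same number of elements of order m. If G is nilpotent then so is H. -/
theorem result {G H : Type*} [Group G] [Finite G] [Group H] [Finite H] (hT : (∀ m : ℕ, Nat.card {g : G // orderOf g = m} = Nat.card {h : H // orderOf h = m})) (hG : Group.IsNilpotent G) :
    Group.IsNilpotent H := by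
  obtain ⟨e, he⟩ := CfsgLib.OrderCount.exists_equiv_of_same_type hT
  have hcard : Nat.card G = Nat.card H := Nat.card_congr e
  refine ((Group.isNilpotent_of_finite_tfae (G := H)).out 0 3 rfl rfl).mpr fun p hp P => ?_
  refine CfsgLib.OrderCount.normal_of_card_pow_card_eq_one _ ?_
  let Q : Sylow p G := default
  have hQn : (Q : Subgroup G).Normal :=
    ((Group.isNilpotent_of_finite_tfae (G := G)).out 0 3 rfl rfl).mp hG p hp Q
  have hPQ : Nat.card (P : Subgroup H) = Nat.card (Q : Subgroup G) := by
    rw [P.card_eq_multiplicity, Q.card_eq_multiplicity, hcard]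
  rw [← CfsgLib.OrderCount.card_pow_eq_one_of_orderOf_equiv e he, hPQ]
  exact CfsgLib.OrderCount.card_pow_card_eq_one _ Q.card_coprime_index

end Cfsg.Agent.S3997
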