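import Cfsg.Statements.S3998
import Cfsg.Agent.Lib.OrderCount.Basic
import Cfsg.Agent.Lib.OrderCount.SameType

set_option autoImplicit false
open Cfsg

namespace Cfsg.Agent.S3998

/-- Let G and H be finite groups with the same order type (for every m the same number of elements of order m). If G is supersolvable then H is solvable. -/
theorem result {G H : Type*} [Group G] [Finite G] [Group H] [Finite H] (hT : (∀ m : ℕ, Nat.card {g : G // orderOf g = m} = Nat.card {h : H // orderOf h = m})) (hG : Cfsg.IsSupersolvable G) :
    Group.IsSolvable H := by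
  classical
  obtain ⟨e, he⟩ := CfsgLib.OrderCount.exists_equiv_of_same_type hT
  have hcard : Nat.card G = Nat.card H := Nat.card_congr e
  -- descending induction on the threshold
  have key : ∀ d t : ℕ, t + d = Nat.card H + 1 → ∃ L : Subgroup H, L.Normal ∧
      Group.IsSolvable L ∧ (∀ q, q.Prime → q ∣ Nat.card L → t ≤ q) ∧
      (∀ q, q.Prime → q ∣ L.index → q < t) := by
    intro d
    induction d with
    | zero =>
      intro t ht
      refine ⟨⊥, inferInstance, inferInstance, fun q hq hd => ?_, fun q hq hd => ?_⟩
      · rw [Subgroup.card_bot] at hd; exact absurd (Nat.dvd_one.1 hd) hq.ne_one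
      · rw [Subgroup.index_bot] at hd
        have := Nat.le_of_dvd Nat.card_pos hd
        omega
    | succ d ih =>
      intro t ht
      obtain ⟨L, hLn, hLs, hL1, hL2⟩ := ih (t + 1) (by omega)
      by_cases hp : t.Prime
      swap
      · refine ⟨L, hLn, hLs, fun q hq hd => by have := hL1 q hq hd; omega, fun q hq hd => ?_⟩
        have := hL2 q hq hd
        rcases eq_or_ne q t with rfl | hne
        · exact absurd hq hp
        · omega
      have : Fact t.Prime := ⟨hp⟩
      let P : Sylow t H := default
      obtain ⟨K, hKn, hK1, hK2⟩ := CfsgLib.OrderCount.supersolvable_hall _ rfl hG t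
      have hKcop : (Nat.card K).Coprime K.index := Nat.coprime_of_dvd fun q hq h1 h2 => by
        have := hK1 q hq h1; have := hK2 q hq h2; omega
      set J := (P : Subgroup H) ⊔ L with hJ
      have hdisj : (Nat.card (P : Subgroup H)).Coprime (Nat.card L) := by
        obtain ⟨k, hk⟩ := IsPGroup.iff_card.1 P.2
        rw [hk]
        exact (hp.coprime_iff_not_dvd.2 fun h => by have := hL1 t hp h; omega).pow_left k
      have hJcard : Nat.card J = Nat.card (P : Subgroup H) * Nat.card L := by
        have h1 : Nat.card J ∣ Nat.card (P : Subgroup H) * Nat.card L := by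
          rw [hJ, sup_comm, mul_comm, ← Subgroup.relIndex_bot_left,
            ← Subgroup.relIndex_mul_relIndex ⊥ L (L ⊔ (P : Subgroup H)) bot_le le_sup_left,
            Subgroup.relIndex_bot_left, Subgroup.relIndex_sup_left]
          exact Nat.mul_dvd_mul dvd_rfl (Subgroup.relIndex_dvd_card _ _)
        exact Nat.dvd_antisymm h1
          (hdisj.mul_dvd_of_dvd_of_dvd (Subgroup.card_dvd_of_le le_sup_left)
            (Subgroup.card_dvd_of_le le_sup_right))
      have hJ1 : ∀ q, q.Prime → q ∣ Nat.card J → t ≤ q := by
        intro q hq hd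
        rw [hJcard] at hd
        rcases (Nat.Prime.dvd_mul hq).1 hd with h | h
        · obtain ⟨k, hk⟩ := IsPGroup.iff_card.1 P.2
          rw [hk] at h
          exact ((Nat.prime_dvd_prime_iff_eq hq hp).1 (hq.dvd_of_dvd_pow h)).ge
        · have := hL1 q hq h; omega
      have hJ2 : ∀ q, q.Prime → q ∣ J.index → q < t := by
        intro q hq hd
        have h1 := hd.trans (Subgroup.index_dvd_of_le (le_sup_right : L ≤ J))
        have h2 := hd.trans (Subgroup.index_dvd_of_le (le_sup_left : (P : Subgroup H) ≤ J))
        have := hL2 q hq h1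
        rcases eq_or_ne q t with rfl | hne
        · exact absurd h2 P.not_dvd_index
        · omega
      have hM : Nat.card K = Nat.card J := by
        have e3 : Nat.card K * K.index = Nat.card J * J.index := by
          rw [Subgroup.card_mul_index, Subgroup.card_mul_index, hcard]
        apply Nat.dvd_antisymm
        · refine (Nat.coprime_of_dvd fun q hq h1 h2 => ?_).dvd_of_dvd_mul_right
            (Dvd.intro _ e3 : Nat.card K ∣ Nat.card J * J.index)
          have := hK1 q hq h1; have := hJ2 q hq h2; omega
        · refine (Nat.coprime_of_dvd fun q hq h1 h2 => ?_).dvd_of_dvd_mul_right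
            (Dvd.intro _ e3.symm : Nat.card J ∣ Nat.card K * K.index)
          have := hJ1 q hq h1; have := hK2 q hq h2; omega
      have hJn : J.Normal := by
        refine CfsgLib.OrderCount.normal_of_card_pow_card_eq_one J ?_
        rw [← CfsgLib.OrderCount.card_pow_eq_one_of_orderOf_equiv e he, ← hM]
        exact CfsgLib.OrderCount.card_pow_card_eq_one K hKcop
      refine ⟨J, hJn, ?_, hJ1, hJ2⟩
      -- `J` is an extension of `L` by a `t`-group
      have hq : IsPGroup t (J ⧸ L.subgroupOf J) := by
        obtain ⟨k, hk⟩ := IsPGroup.iff_card.1 P.2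
        refine IsPGroup.of_card (n := k) ?_
        have h1 := Subgroup.card_eq_card_quotient_mul_card_subgroup (L.subgroupOf J)
        rw [Nat.card_congr (Subgroup.subgroupOfEquivOfLe (le_sup_right : L ≤ J)).toEquiv, hJcard,
          hk] at h1
        exact Nat.eq_of_mul_eq_mul_right Nat.card_pos h1.symm
      have : Group.IsNilpotent (J ⧸ L.subgroupOf J) := hq.isNilpotent
      have : Group.IsSolvable (L.subgroupOf J) :=
        solvable_of_solvable_injective
          (f := (Subgroup.subgroupOfEquivOfLe (le_sup_right : L ≤ J)).toMonoidHom)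
          (Subgroup.subgroupOfEquivOfLe (le_sup_right : L ≤ J)).injective
      exact solvable_of_ker_le_range (L.subgroupOf J).subtype (QuotientGroup.mk' _) ((QuotientGroup.ker_mk' _).trans (Subgroup.range_subtype _).symm).le
  obtain ⟨L, -, hLs, -, hL2⟩ := key (Nat.card H + 1) 0 (by omega)
  have hL : L = ⊤ := by
    rw [← Subgroup.index_eq_one]
    by_contra hne
    obtain ⟨q, hq, hd⟩ := Nat.exists_prime_and_dvd hne
    exact absurd (hL2 q hq hd) (by omega)
  subst hL
  exact solvable_of_surjective (f := (Subgroup.topEquiv (G := H)).toMonoidHom) (Subgroup.topEquiv (G := H)).surjective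

end Cfsg.Agent.S3998
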