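import Cfsg.Statements.S3999
import Cfsg.Agent.Lib.Recognition.ComplementFifteen
import Cfsg.Agent.Lib.Frobenius.Theorem
import Cfsg.Agent.Lib.Frobenius.FPFThompson
import Cfsg.Agent.Lib.Solvable.Fitting
import Cfsg.Agent.Lib.Solvable.NilpotentSubgroups

set_option autoImplicit false
open Cfsg

namespace Cfsg.Agent.S3999

open Subgroup
open scoped Pointwise

/-- Conjugation by a Frobenius complement on a normal complement is fixed-point-free. -/
theorem isFPF_complement {G : Type*} [Group G] {H N : Subgroup G} [N.Normal]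
    (hfree : ∀ h ∈ H, h ≠ 1 → ∀ k ∈ N, h * k = k * h → k = 1) :
    @CfsgLib.Frobenius.IsFPF H N _ _
      (MulDistribMulAction.compHom N ((MulAut.conjNormal (H := N)).comp H.subtype)) := by
  intro h hh k hk
  refine Subtype.ext (hfree h h.2 (fun e => hh (Subtype.ext e)) k k.2 ?_)
  exact mul_inv_eq_iff_eq_mul.1 (congrArg Subtype.val hk)

/-- Two fixed-point-free groups with the same element orders are solvable together. -/
theorem solvable_of_orders {X Y M N : Type*} [Group X] [Finite X] [Group Y] [Finite Y] [Group M]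
    [Finite M] [Nontrivial M] [Group N] [Finite N] [Nontrivial N] [MulDistribMulAction X M]
    [MulDistribMulAction Y N] (hX : CfsgLib.Frobenius.IsFPF X M)
    (hY : CfsgLib.Frobenius.IsFPF Y N)
    (h : ∀ m : ℕ, (∃ x : X, orderOf x = m) ↔ ∃ y : Y, orderOf y = m) :
    Group.IsSolvable X → Group.IsSolvable Y := by
  intro hs
  by_contra hns
  obtain ⟨h3, h5, h15⟩ := CfsgLib.Recognition.Fifteen.not_solvable_fifteen hY hns
  obtain ⟨x, hx⟩ :=
    CfsgLib.Recognition.Fifteen.solvable_fifteen hX ((h 3).2 h3) ((h 5).2 h5)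
  obtain ⟨y, hy⟩ := (h 15).1 ⟨x, hx⟩
  exact h15 y hy

theorem main {F G : Type*} [Group F] [Finite F] [Group G] [Finite G]
    (hF : ∃ C : Subgroup F, Cfsg.IsFrobeniusComplement C)
    (hT : ∀ m : ℕ, Nat.card {g : F // orderOf g = m} = Nat.card {h : G // orderOf h = m}) :
    (∃ C : Subgroup G, Cfsg.IsFrobeniusComplement C) ∧
      (Group.IsSolvable G ↔ Group.IsSolvable F) := by
  classical
  obtain ⟨C, hC⟩ := hF
  obtain ⟨K, hKset, hKn, hKC⟩ := CfsgLib.Frobenius.exists_normal_kernel hC
  haveI := hKn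
  -- a bijection preserving orders
  let σ : ∀ m : ℕ, {g : F // orderOf g = m} ≃ {h : G // orderOf h = m} := fun m =>
    (Finite.card_eq.1 (hT m)).some
  let e : F ≃ G := (Equiv.sigmaFiberEquiv (fun g : F => orderOf g)).symm.trans
    ((Equiv.sigmaCongrRight σ).trans (Equiv.sigmaFiberEquiv (fun h : G => orderOf h)))
  have he : ∀ x, orderOf (e x) = orderOf x := fun x => (σ (orderOf x) ⟨x, rfl⟩).2
  have hcardG : Nat.card G = Nat.card F := (Nat.card_congr e).symm
  set c := Nat.card C with hc
  set n := C.index with hn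
  have hcn : c.Coprime n := CfsgLib.Frobenius.coprime_card_index hC
  have hKcard : Nat.card K = n := hKC.index_eq_card.symm
  have hKmem : ∀ x : F, x ∈ K ↔ orderOf x ∣ n := fun x => by
    rw [← SetLike.mem_coe, hKset, CfsgLib.Frobenius.mem_frobeniusKernel_iff_dvd_index hC]
  have hc1 : 1 < c := C.one_lt_card_iff_ne_bot.2 hC.1
  have hn1 : 1 < n := by
    refine lt_of_le_of_ne (Nat.one_le_iff_ne_zero.2 index_ne_zero_of_finite) fun e => hC.2.1 ?_
    exact index_eq_one.1 e.symm
  haveI : Nontrivial K := Finite.one_lt_card_iff_nontrivial.1 (hKcard ▸ hn1)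
  have hCfree : ∀ h ∈ C, h ≠ 1 → ∀ k ∈ K, h * k = k * h → k = 1 := fun h hh hh1 k hk hcomm => by
    have hkC : k ∈ C := CfsgLib.Frobenius.centralizer_le hC hh hh1
      (mem_centralizer_iff.2 fun w hw => by rw [Set.mem_singleton_iff] at hw; rw [hw]; exact hcomm)
    exact mem_bot.1 (hKC.disjoint.le_bot (show k ∈ K ⊓ C from ⟨hk, hkC⟩))
  haveI hKnil : Group.IsNilpotent K := by
    obtain ⟨p, hp, hpc⟩ := Nat.exists_prime_and_dvd hc1.ne'
    haveI := Fact.mk hp
    obtain ⟨h, hh⟩ := exists_prime_orderOf_dvd_card' (G := C) p hpc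
    refine CfsgLib.Frobenius.Thompson.isNilpotent_of_element K (h := (h : F))
      ((normalizer_eq_top_iff.2 hKn).symm ▸ mem_top _) hp ?_ (hCfree h h.2 fun e => ?_)
    · rw [← hh, ← orderOf_coe]; exact pow_orderOf_eq_one _
    · rw [← orderOf_coe, e, orderOf_one] at hh; exact hp.one_lt.ne hh
  have hdich : ∀ g : G, orderOf g ∣ c ∨ orderOf g ∣ n := fun g => by
    have h1 := CfsgLib.Frobenius.orderOf_dvd_or_dvd hC (e.symm g)
    rwa [← he, e.apply_symm_apply] at h1
  have hmul : c * n = Nat.card G := by rw [hcardG, hc, hn, card_mul_index]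
  -- for a prime divisor of `n` the Sylow subgroup of `G` is normal
  have hsyl : ∀ p : ℕ, p.Prime → p ∣ n →
      p ^ n.factorization p ∣ Nat.card (Cfsg.pCore p G) := by
    intro p hp hpn
    haveI := Fact.mk hp
    obtain ⟨P, hPset⟩ : ∃ P : Sylow p K, ∀ x : F,
        (∃ k, orderOf x = p ^ k) → x ∈ (P : Subgroup K).map K.subtype := by
      obtain ⟨P⟩ := (inferInstance : Nonempty (Sylow p K))
      refine ⟨P, fun x hx => ?_⟩
      obtain ⟨k, hk⟩ := hx
      have hxK : x ∈ K := (hKmem x).2 <| by
        rcases CfsgLib.Frobenius.orderOf_dvd_or_dvd hC x with h | h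
        · rcases Nat.eq_zero_or_pos k with rfl | hk0
          · rw [hk, pow_zero]; exact one_dvd _
          · exact absurd (Nat.dvd_gcd ((dvd_pow_self p hk0.ne').trans (hk.symm.dvd.trans h)) hpn)
              (by rw [hcn]; exact hp.not_dvd_one)
        · exact h
      haveI : (P : Subgroup K).Normal := inferInstance
      refine ⟨⟨x, hxK⟩, ?_, rfl⟩
      have hz : IsPGroup p (zpowers (⟨x, hxK⟩ : K)) :=
        IsPGroup.of_card (n := k) (by rw [Nat.card_zpowers, orderOf_mk, hk])
      rw [SetLike.mem_coe, ← P.is_maximal' (IsPGroup.to_sup_of_normal_left P.isPGroup' hz)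
        le_sup_left]
      exact mem_sup_right (mem_zpowers _)
    obtain ⟨Q⟩ := (inferInstance : Nonempty (Sylow p G))
    have hQcard : Nat.card Q = p ^ n.factorization p := by
      rw [Q.card_eq_multiplicity, ← hmul,
        Nat.factorization_mul (by omega) (by omega), Finsupp.add_apply,
        Nat.factorization_eq_zero_of_not_dvd (n := c) (fun h => hp.not_dvd_one
          (hcn ▸ Nat.dvd_gcd h hpn)), zero_add]
    have hle : Nat.card {g : G // ∃ k, orderOf g = p ^ k} ≤ Nat.card Q := by
      rw [hQcard, ← hKcard, ← P.card_eq_multiplicity,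
        ← card_map_of_injective K.subtype_injective (K := (P : Subgroup K))]
      refine Nat.card_le_card_of_injective
        (fun g => (⟨e.symm g.1, hPset _ (by
          obtain ⟨k, hk⟩ := g.2
          exact ⟨k, by rw [← he, e.apply_symm_apply, hk]⟩)⟩ : (P : Subgroup K).map K.subtype))
        fun a b hab => Subtype.ext (e.symm.injective (congrArg Subtype.val hab))
    have hQall : ∀ g : G, (∃ k, orderOf g = p ^ k) → g ∈ (Q : Subgroup G) := by
      intro g hg
      let ι : ↥(Q : Subgroup G) → {g : G // ∃ k, orderOf g = p ^ k} := fun q =>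
        ⟨q, by rw [Subgroup.orderOf_coe]; exact IsPGroup.iff_orderOf.1 Q.isPGroup' q⟩
      have hι : Function.Injective ι := fun a b hab =>
        Subtype.ext (congrArg (fun t : {g : G // ∃ k, orderOf g = p ^ k} => t.1) hab)
      obtain ⟨q, hq⟩ := (hι.bijective_of_nat_card_le hle).2 ⟨g, hg⟩
      have h2 : (q : G) = g := congrArg Subtype.val hq
      exact h2 ▸ q.2
    have hQn : (Q : Subgroup G).Normal := ⟨fun x hx g => hQall _ (by
      obtain ⟨k, hk⟩ := IsPGroup.iff_orderOf.1 Q.isPGroup' ⟨x, hx⟩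
      exact ⟨k, by rw [← hk, orderOf_mk]; exact (MulAut.conj g).orderOf_eq x⟩)⟩
    rw [← hQcard]
    exact card_dvd_of_le (CfsgLib.Fitting.le_pCore hQn Q.isPGroup')
  set N := Cfsg.fittingSubgroup G with hN
  haveI : N.Normal := CfsgLib.Fitting.fitting_normal
  haveI hNnil : Group.IsNilpotent N := CfsgLib.Fitting.fitting_isNilpotent
  have hNdvd : n ∣ Nat.card N := by
    rw [Nat.dvd_iff_prime_pow_dvd_dvd]
    intro p k hp hk
    rcases Nat.eq_zero_or_pos k with rfl | hk0
    · simp
    refine ((Nat.pow_dvd_pow p ((hp.pow_dvd_iff_le_factorization (by omega)).1 hk)).trans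
      (hsyl p hp ((dvd_pow_self p hk0.ne').trans hk))).trans ?_
    exact card_dvd_of_le (CfsgLib.Fitting.pCore_le_fitting hp)
  have hNcard : Nat.card N = n := by
    refine Nat.dvd_antisymm (Nat.Coprime.dvd_of_dvd_mul_left ?_
      (hmul ▸ card_subgroup_dvd_card N)) hNdvd
    refine Nat.coprime_of_dvd fun q hq hqN hqc => ?_
    obtain ⟨p, hp, hpn⟩ := Nat.exists_prime_and_dvd hn1.ne'
    haveI := Fact.mk hp
    haveI := Fact.mk hq
    have hne : q ≠ p := fun e => hq.not_dvd_one (hcn ▸ Nat.dvd_gcd hqc (e ▸ hpn))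
    obtain ⟨x, hx⟩ := exists_prime_orderOf_dvd_card' (G := N) q hqN
    obtain ⟨y, hy⟩ := exists_prime_orderOf_dvd_card' (G := N) p (hpn.trans hNdvd)
    have hcomm : Commute x y := CfsgLib.NilpotentSubgroups.commute_of_orderOf_coprime
      (by rw [hx, hy]; exact (Nat.coprime_primes hq hp).2 hne)
    have hord : orderOf ((x * y : N) : G) = q * p := by
      rw [orderOf_coe, hcomm.orderOf_mul_eq_mul_orderOf_of_coprime
        (by rw [hx, hy]; exact (Nat.coprime_primes hq hp).2 hne), hx, hy]
    rcases hdich ((x * y : N) : G) with h | h <;> rw [hord] at h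
    · exact hp.not_dvd_one (hcn ▸ Nat.dvd_gcd ((dvd_mul_left p q).trans h) hpn)
    · exact hq.not_dvd_one (hcn ▸ Nat.dvd_gcd hqc ((dvd_mul_right q p).trans h))
  haveI : Nontrivial N := Finite.one_lt_card_iff_nontrivial.1 (hNcard ▸ hn1)
  have hNidx : N.index = c := by
    refine Nat.eq_of_mul_eq_mul_left (Nat.card_pos (α := N)) ?_
    rw [N.card_mul_index, ← hmul, hNcard, mul_comm]
  obtain ⟨H, hH⟩ := Subgroup.exists_right_complement'_of_coprime (N := N)
    (by rw [hNcard, hNidx]; exact hcn.symm)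
  have hHc : Nat.card H = c := by rw [← hH.symm.index_eq_card, hNidx]
  have hfree : ∀ h ∈ H, h ≠ 1 → ∀ k ∈ N, h * k = k * h → k = 1 := by
    intro h hh hh1 k hk hcomm
    by_contra hk1
    have ho1 : orderOf h ∣ c := hHc ▸ orderOf_dvd_natCard H hh
    have ho2 : orderOf k ∣ n := hNcard ▸ orderOf_dvd_natCard N hk
    have hco : (orderOf h).Coprime (orderOf k) :=
      (hcn.coprime_dvd_left ho1).coprime_dvd_right ho2
    have hord := (show Commute h k from hcomm).orderOf_mul_eq_mul_orderOf_of_coprime hco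
    rcases hdich (h * k) with hd | hd <;> rw [hord] at hd
    · exact hk1 (orderOf_eq_one_iff.1
        (Nat.eq_one_of_dvd_coprimes hcn ((dvd_mul_left _ _).trans hd) ho2))
    · exact hh1 (orderOf_eq_one_iff.1
        (Nat.eq_one_of_dvd_coprimes hcn ho1 ((dvd_mul_right _ _).trans hd)))
  have hHfrob : Cfsg.IsFrobeniusComplement H := by
    refine ⟨?_, ?_, fun g hg => ?_⟩
    · intro e; rw [e, card_bot] at hHc; omega
    · intro e; rw [e, card_top] at hHc
      have := hmul
      nlinarith
    · rw [eq_bot_iff]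
      intro x hx
      obtain ⟨hxH, hxg⟩ := mem_inf.1 hx
      rw [CfsgLib.Frobenius.mem_conj_smul_iff] at hxg
      by_contra hx1
      obtain ⟨⟨k, h⟩, hkh⟩ := hH.2 g
      have e : (k : G) * h = g := hkh
      subst e
      have h1 : (k : G)⁻¹ * x * k ∈ H := by
        have := mul_mem (mul_mem h.2 hxg) (inv_mem h.2)
        simpa [mul_assoc] using this
      have h2 : (k : G)⁻¹ * x * k * x⁻¹ ∈ N ⊓ H := by
        refine mem_inf.2 ⟨?_, mul_mem h1 (inv_mem hxH)⟩
        rw [mul_assoc, mul_assoc]
        refine mul_mem (inv_mem k.2) ?_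
        rw [← mul_assoc]
        exact (inferInstance : N.Normal).conj_mem _ k.2 x
      have h3 : (k : G)⁻¹ * x * k * x⁻¹ = 1 := mem_bot.1 (hH.disjoint.le_bot h2)
      have h4 : x * (k : G) = k * x := by
        have := mul_inv_eq_one.1 h3
        rw [mul_assoc, inv_mul_eq_iff_eq_mul] at this
        exact this
      refine hg ?_
      rw [hfree x hxH (by simpa using hx1) k k.2 h4, one_mul]
      exact h.2
  refine ⟨⟨H, hHfrob⟩, ?_⟩
  have hKiso : Nonempty (F ⧸ K ≃* C) := ⟨(QuotientGroup.quotientMulEquivOfEq rfl).trans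
    (IsComplement'.QuotientMulEquiv hKC.symm)⟩
  have hGiso : Nonempty (G ⧸ N ≃* H) := ⟨IsComplement'.QuotientMulEquiv hH.symm⟩
  have hsolF : Group.IsSolvable F ↔ Group.IsSolvable C := by
    refine ⟨fun h => inferInstance, fun h => ?_⟩
    haveI := h
    obtain ⟨φ⟩ := hKiso
    haveI : Group.IsSolvable (F ⧸ K) := Group.isSolvable_of_isSolvable_injective (f := φ.toMonoidHom) φ.injective
    exact Group.isSolvable_of_ker_le_range K.subtype (QuotientGroup.mk' K)
      (by rw [QuotientGroup.ker_mk', range_subtype])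
  have hsolG : Group.IsSolvable G ↔ Group.IsSolvable H := by
    refine ⟨fun h => inferInstance, fun h => ?_⟩
    haveI := h
    obtain ⟨φ⟩ := hGiso
    haveI : Group.IsSolvable (G ⧸ N) :=
      Group.isSolvable_of_isSolvable_injective (f := φ.toMonoidHom) φ.injective
    exact Group.isSolvable_of_ker_le_range N.subtype (QuotientGroup.mk' N)
      (by rw [QuotientGroup.ker_mk', range_subtype])
  rw [hsolF, hsolG]
  have horders : ∀ m : ℕ, (∃ x : H, orderOf x = m) ↔ ∃ y : C, orderOf y = m := by
    intro m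
    constructor
    · rintro ⟨x, rfl⟩
      obtain ⟨g, hg⟩ := CfsgLib.Frobenius.exists_conj_mem_of_orderOf_dvd hC (x := e.symm x)
        (by rw [← he, e.apply_symm_apply, orderOf_coe, ← hc, ← hHc]; exact orderOf_dvd_natCard x)
      refine ⟨⟨_, hg⟩, ?_⟩
      rw [orderOf_mk, ← orderOf_coe x]
      have : orderOf (g⁻¹ * e.symm (x : G) * g) = orderOf (e.symm (x : G)) := by
        simpa [MulAut.conj_apply] using (MulAut.conj g⁻¹).orderOf_eq (e.symm (x : G))
      rw [this, ← he, e.apply_symm_apply]
    · rintro ⟨y, rfl⟩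
      obtain ⟨g, hg⟩ := CfsgLib.Frobenius.exists_conj_mem_of_orderOf_dvd hHfrob (x := e y)
        (by rw [he, orderOf_coe, hHc, hc]; exact _root_.orderOf_dvd_natCard y)
      refine ⟨⟨_, hg⟩, ?_⟩
      rw [orderOf_mk, ← orderOf_coe y]
      have : orderOf (g⁻¹ * e (y : F) * g) = orderOf (e (y : F)) := by
        simpa [MulAut.conj_apply] using (MulAut.conj g⁻¹).orderOf_eq (e (y : F))
      rw [this, he]
  letI := MulDistribMulAction.compHom N ((MulAut.conjNormal (H := N)).comp H.subtype)
  letI := MulDistribMulAction.compHom K ((MulAut.conjNormal (H := K)).comp C.subtype)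
  exact ⟨solvable_of_orders (isFPF_complement hfree) (isFPF_complement hCfree) horders,
    solvable_of_orders (isFPF_complement hCfree) (isFPF_complement hfree)
      fun m => (horders m).symm⟩


/-- Let F be a finite Frobenius group (it has a Frobenius complement) and G a finite group with the same order type as F (for every m the same number of elements of order m). Then G is a Frobenius group; moreover G is solvable if and only if F is. -/
theorem result {F G : Type*} [Group F] [Finite F] [Group G] [Finite G] (hF : (∃ C : Subgroup F, Cfsg.IsFrobeniusComplement C)) (hT : (∀ m : ℕ, Nat.card {g : F // orderOf g = m} = Nat.card {h : G // orderOf h = m})) :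
    (∃ C : Subgroup G, Cfsg.IsFrobeniusComplement C) ∧ (Group.IsSolvable G ↔ Group.IsSolvable F) := by
  exact main hF hT

end Cfsg.Agent.S3999
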