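import Cfsg.Statements.S4001
import Cfsg.Agent.Lib.TwoFrobenius.Complement
import Cfsg.Agent.Lib.FewOrders.Norm
import Cfsg.Agent.Lib.PCore.Basic
import Cfsg.Agent.Lib.Recog.ThreePrimes

set_option autoImplicit false
open Cfsg

namespace Cfsg.Agent.S4001

open CfsgLib Subgroup

/-- In a cyclic group two elements of the same prime order generate the same subgroup. -/
theorem mem_zpowers_of_orderOf_eq {R : Type*} [Group R] [Finite R] [IsCyclic R] {r : ℕ}
    (hr : 0 < r) {a b : R} (ha : orderOf a = r) (hb : orderOf b = r) : b ∈ zpowers a := by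
  classical
  have := Fintype.ofFinite R
  have h1 := IsCyclic.card_pow_eq_one_le (α := R) hr
  have h2 : (zpowers a : Set R).toFinset ⊆ Finset.univ.filter fun x => x ^ r = 1 := by
    intro x hx
    rw [Set.mem_toFinset] at hx
    rw [Finset.mem_filter]
    exact ⟨Finset.mem_univ x, orderOf_dvd_iff_pow_eq_one.1 (ha ▸ orderOf_dvd_of_mem_zpowers hx)⟩
  have h3 := Finset.eq_of_subset_of_card_le h2 (by
    refine h1.trans (le_of_eq ?_)
    rw [Set.toFinset_card, ← Nat.card_eq_fintype_card]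
    exact (ha.symm.trans (Nat.card_zpowers a).symm))
  have hb' : b ∈ (Finset.univ.filter fun x : R => x ^ r = 1) :=
    Finset.mem_filter.2 ⟨Finset.mem_univ b, by rw [← hb, pow_orderOf_eq_one]⟩
  rw [← h3, Set.mem_toFinset] at hb'
  exact hb'

/-- Mixed primes: an element of order `p * q` with `p` in the kernel part and `q` in the top part. -/
theorem exists_of_mixed {G : Type*} [Group G] [Finite G] (H K : Subgroup G) [H.Normal] [K.Normal]
    (hle : H ≤ K) (C : Subgroup K) (hC : Cfsg.IsFrobeniusComplement C)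
    (hcK : (H.subgroupOf K).IsComplement' C) [IsCyclic C] [IsCyclic (G ⧸ K)]
    [Group.IsNilpotent H]
    (hno : ∀ p q : ℕ, p.Prime → q.Prime → p ∣ Nat.card C → ¬ q ∣ Nat.card C →
      ¬ ∃ g : G, orderOf g = p * q)
    (hcop : (Nat.card (G ⧸ K)).Coprime (Nat.card C))
    {p q : ℕ} (hp : p.Prime) (hq : q.Prime) (hpq : p ≠ q) (hpH : p ∣ Nat.card H)
    (hqH : ¬ q ∣ Nat.card H) (hqD : q ∣ Nat.card (G ⧸ K)) :
    ∃ g : G, orderOf g = p * q := by
  classical
  have := Fact.mk hp
  have := Fact.mk hq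
  set HK := H.subgroupOf K
  have hcHK : Nat.card HK = Nat.card H := Nat.card_congr (subgroupOfEquivOfLe hle).toEquiv
  have hcopHC : (Nat.card C).Coprime (Nat.card H) := by
    have := Frobenius.coprime_card_index hC
    rwa [hcK.index_eq_card, hcHK] at this
  have hKcard : Nat.card K = Nat.card H * Nat.card C := by rw [← hcHK]; exact hcK.card_mul.symm
  have hqC : ¬ q ∣ Nat.card C := fun hd =>
    hq.ne_one (Nat.eq_one_of_dvd_coprimes hcop hqD hd)
  have hqK : ¬ q ∣ Nat.card K := by
    rw [hKcard]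
    exact fun hd => (hq.dvd_mul.1 hd).elim hqH hqC
  obtain ⟨r, hr, hrC⟩ := Nat.exists_prime_and_dvd
    (fun h => hC.1 (card_eq_one.1 h) : Nat.card C ≠ 1)
  have := Fact.mk hr
  have hrH : ¬ r ∣ Nat.card H := fun hd =>
    hr.ne_one (Nat.eq_one_of_dvd_coprimes hcopHC hrC hd)
  -- a cyclic Sylow subgroup of `K`
  let T : Sylow r K := default
  have hTC : IsCyclic (T : Subgroup K) := by
    let f : K →* K ⧸ HK := QuotientGroup.mk' HK
    have : IsCyclic (K ⧸ HK) :=
      isCyclic_of_surjective hcK.symm.QuotientMulEquiv.symm hcK.symm.QuotientMulEquiv.symm.surjective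
    refine isCyclic_of_injective (f.comp (T : Subgroup K).subtype) ?_
    rw [injective_iff_map_eq_one]
    intro x hx
    have hxH : (x : K) ∈ HK := (QuotientGroup.eq_one_iff (x : K)).1 hx
    obtain ⟨i, hi⟩ := IsPGroup.iff_orderOf.1 T.2 x
    refine orderOf_eq_one_iff.1 (Nat.eq_one_of_dvd_coprimes
      ((hr.coprime_iff_not_dvd.2 hrH).pow_left i) hi.dvd ?_)
    rw [← Subgroup.orderOf_coe, ← hcHK]
    exact (Subgroup.orderOf_mk _ hxH) ▸ _root_.orderOf_dvd_natCard (⟨(x : K), hxH⟩ : HK)
  have hrK : r ∣ Nat.card K := hKcard ▸ hrC.mul_left _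
  obtain ⟨γ₀, hγ₀⟩ := exists_prime_orderOf_dvd_card' r (T.dvd_card_of_dvd_card hrK)
  set γ : G := ((γ₀ : K) : G) with hγdef
  have hγo : orderOf γ = r := by rw [hγdef, orderOf_coe, orderOf_coe, hγ₀]
  have hγH : γ ∉ H := fun h0 => hrH (hγo ▸ (Subgroup.orderOf_mk _ h0) ▸ _root_.orderOf_dvd_natCard (⟨γ, h0⟩ : H))
  -- an element of order `q` normalising it
  set R := (T : Subgroup K).map K.subtype with hR
  have htop := Sylow.normalizer_sup_eq_top T
  have hsurj : (normalizer (R : Set G)).map (QuotientGroup.mk' K) = ⊤ := by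
    have h3 := congrArg (Subgroup.map (QuotientGroup.mk' K)) htop
    rwa [Subgroup.map_sup, (map_eq_bot_iff K).2 (QuotientGroup.ker_mk' K).ge, sup_bot_eq,
      map_top_of_surjective _ (QuotientGroup.mk'_surjective K)] at h3
  obtain ⟨wq, hwq⟩ := exists_prime_orderOf_dvd_card' q hqD
  obtain ⟨w, hw, hwe⟩ : wq ∈ (normalizer (R : Set G)).map (QuotientGroup.mk' K) := hsurj ▸ mem_top wq
  have hqw : q ∣ orderOf w := hwq ▸ hwe ▸ orderOf_map_dvd (QuotientGroup.mk' K) w
  set z := w ^ (orderOf w / q) with hz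
  have hzo : orderOf z = q := orderOf_pow_orderOf_div (orderOf_pos w).ne' hqw
  have hzN : z ∈ normalizer (R : Set G) := pow_mem hw _
  have hzK : z ∉ K := fun h0 => hqK (hzo ▸ (Subgroup.orderOf_mk _ h0) ▸ _root_.orderOf_dvd_natCard (⟨z, h0⟩ : K))
  have hγR : γ ∈ R := ⟨(γ₀ : K), γ₀.2, rfl⟩
  obtain ⟨k, hk⟩ : ∃ k : ℤ, γ ^ k = z * γ * z⁻¹ := by
    obtain ⟨t, ht, hte⟩ := (mem_normalizer_iff.1 hzN γ).1 hγR
    have hto : orderOf (⟨t, ht⟩ : (T : Subgroup K)) = r := by
      rw [orderOf_mk, ← orderOf_coe, show ((t : K) : G) = z * γ * z⁻¹ from hte,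
        show z * γ * z⁻¹ = MulAut.conj z γ from rfl, MulEquiv.orderOf_eq, hγo]
    obtain ⟨k, hk⟩ := mem_zpowers_iff.1 (mem_zpowers_of_orderOf_eq hr.pos hγ₀ hto)
    refine ⟨k, ?_⟩
    rw [hγdef, ← Subgroup.coe_zpow, ← Subgroup.coe_zpow, hk]
    exact hte
  have hncomm : ¬ Commute γ z := by
    intro hc
    exact hno r q hr hq hrC hqC (Recog.ThreePrimes.exists_orderOf_eq_mul_of_commute hr hq
      (fun e => hqC (e ▸ hrC)) hc hγo.symm.dvd hzo.symm.dvd)
  -- the abelian normal `p`-subgroup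
  have hPnc : Nontrivial (Cfsg.pCore p H) := by
    let P : Sylow p H := default
    have hPn : (P : Subgroup H).Normal := inferInstance
    rw [nontrivial_iff_ne_bot]
    intro h0
    exact P.ne_bot_of_dvd_card hpH (le_bot_iff.1 (h0 ▸ PCore.le_pCore hPn P.2))
  set P := (Cfsg.pCore p H).map H.subtype with hPdef
  have hP : IsPGroup p P := (PCore.pCore_isPGroup (G := H)).map _
  have hPn : P.Normal := by
    rw [hPdef, PCore.map_pCore_subtype_of_normal]
    infer_instance
  have hPnt : Nontrivial P :=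
    ((Cfsg.pCore p H).equivMapOfInjective _ H.subtype_injective).toEquiv.symm.nontrivial
  set V := (center P).map P.subtype with hVdef
  have hVn : V.Normal := ⟨fun x ⟨y, hy, hyx⟩ g => by
    refine ⟨⟨g * y * g⁻¹, hPn.conj_mem _ y.2 g⟩, ?_, by rw [← hyx]; rfl⟩
    rw [SetLike.mem_coe, mem_center_iff]
    intro u
    apply Subtype.ext
    have h1 := congrArg Subtype.val (mem_center_iff.1 hy ⟨g⁻¹ * u * g, by
      simpa using hPn.conj_mem _ u.2 g⁻¹⟩)
    calc (u : G) * (g * y * g⁻¹) = g * (g⁻¹ * u * g * y) * g⁻¹ := by group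
      _ = g * (y * (g⁻¹ * u * g)) * g⁻¹ := by rw [show g⁻¹ * (u : G) * g * y = y * (g⁻¹ * u * g) from h1]
      _ = g * y * g⁻¹ * u := by group⟩
  have hVH : V ≤ H := (map_subtype_le _).trans (map_subtype_le _)
  let _ : CommGroup V :=
    { (inferInstance : Group V) with
      mul_comm := fun a b => by
        obtain ⟨a, y, hy, rfl⟩ := a
        obtain ⟨b, y', hy', rfl⟩ := b
        exact Subtype.ext (congrArg (fun t : P => (t : G)) (mem_center_iff.1 hy' y)) }
  have hVnt : Nontrivial V := by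
    have := hP.center_nontrivial
    exact ((center P).equivMapOfInjective _ P.subtype_injective).toEquiv.symm.nontrivial
  have hVp : IsPGroup p V := (hP.to_subgroup (center P)).map _
  -- `γ` and its nontrivial powers fix nothing
  have hfix : ∀ c : G, c ∈ K → c ∉ H → ∀ v : V, MulAut.conjNormal c v = v → v = 1 := by
    intro c hcK' hcH v hv
    have hv' : (MulAut.conjNormal c v : G) = v := congrArg Subtype.val hv
    rw [MulAut.conjNormal_apply, mul_inv_eq_iff_eq_mul] at hv'
    by_contra hne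
    apply hcH
    have h1 := Frobenius.centralizer_le_of_mem_complement hC hcK
      (k := ⟨(v : G), hle (hVH v.2)⟩) (hVH v.2)
      (fun h0 => hne (Subtype.ext (congrArg (fun t : K => (t : G)) h0)))
      (x := ⟨c, hcK'⟩) (mem_centralizer_singleton_iff.2 (Subtype.ext hv'))
    exact h1
  let φ : G →* MulAut V := MulAut.conjNormal
  have hγK : γ ∈ K := (γ₀ : K).2
  have hne : φ z * φ γ ≠ φ γ * φ z := by
    intro he
    have h1 : φ (γ ^ (k - 1)) = 1 := by
      rw [zpow_sub_one, map_mul, map_inv, hk, map_mul, map_mul, map_inv, he, mul_inv_cancel_right,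
        mul_inv_cancel]
    have h2 : γ ^ (k - 1) = 1 := by
      by_contra hne'
      obtain ⟨v, hv1⟩ := exists_ne (1 : V)
      refine hv1 (hfix _ (zpow_mem hγK _) (fun h0 => hne' ?_) v (by
        show φ (γ ^ (k - 1)) v = v
        rw [h1]; rfl))
      refine orderOf_eq_one_iff.1 (Nat.eq_one_of_dvd_coprimes (hr.coprime_iff_not_dvd.2 hrH)
        (hγo ▸ orderOf_dvd_of_mem_zpowers (zpow_mem (mem_zpowers γ) _)) ?_)
      exact (Subgroup.orderOf_mk _ h0) ▸ _root_.orderOf_dvd_natCard (⟨_, h0⟩ : H)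
    refine hncomm (Commute.symm ?_)
    rw [zpow_sub_one, hk, mul_inv_eq_one] at h2
    exact mul_inv_eq_iff_eq_mul.1 h2
  obtain ⟨j, v, hv⟩ := FewOrders.exists_norm_ne_one (V := V) hr hq (φ γ) (φ z)
    (by rw [← map_pow, ← hγo, pow_orderOf_eq_one, map_one]) (hfix γ hγK hγH)
    (by obtain ⟨a, ha⟩ := IsPGroup.iff_card.1 hVp
        rw [ha]
        refine Nat.Coprime.pow_left a ((Nat.coprime_primes hp hr).2 fun e => hrH ?_)
        exact e ▸ hpH)
    (k := k) (by rw [← map_inv, ← map_mul, ← map_mul, ← hk, map_zpow])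
    (by rw [← map_pow, ← hzo, pow_orderOf_eq_one, map_one]) hne
  set g := γ ^ j * z with hg
  have hgmk : (g : G ⧸ K) = (z : G ⧸ K) := by
    rw [hg, QuotientGroup.mk_mul, (QuotientGroup.eq_one_iff _).2 (pow_mem hγK j), one_mul]
  have hzq : orderOf (z : G ⧸ K) = q :=
    orderOf_eq_prime (by rw [← QuotientGroup.mk_pow, ← hzo, pow_orderOf_eq_one]; rfl)
      (fun h0 => hzK ((QuotientGroup.eq_one_iff z).1 h0))
  -- its `q`-th power is trivial
  have hgq : g ^ q = 1 := by
    by_contra hne'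
    apply hncomm
    have hmem : ∀ i : ℕ, g ^ i * (z ^ i)⁻¹ ∈ zpowers γ := by
      intro i
      induction i with
      | zero => simp
      | succ i ih =>
        have hconj : ∀ x ∈ zpowers γ, z * x * z⁻¹ ∈ zpowers γ := by
          intro x hx
          obtain ⟨l, rfl⟩ := mem_zpowers_iff.1 hx
          rw [← conj_zpow, ← hk, ← zpow_mul]
          exact zpow_mem (mem_zpowers γ) _
        have e : g ^ (i + 1) * (z ^ (i + 1))⁻¹ = γ ^ j * (z * (g ^ i * (z ^ i)⁻¹) * z⁻¹) := by
          rw [pow_succ', pow_succ', hg]; group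
        rw [e]
        exact mul_mem (pow_mem (mem_zpowers γ) j) (hconj _ ih)
    have h1 : g ^ q ∈ zpowers γ := by
      have := hmem q
      rwa [← hzo, pow_orderOf_eq_one z, inv_one, mul_one, hzo] at this
    have hgen : zpowers (g ^ q) = zpowers γ := by
      refine eq_of_le_of_card_ge (zpowers_le.2 h1) ?_
      rw [Nat.card_zpowers, Nat.card_zpowers]
      rcases (Nat.dvd_prime hr).1 (hγo ▸ orderOf_dvd_of_mem_zpowers h1) with h' | h'
      · exact absurd (orderOf_eq_one_iff.1 h') hne'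
      · rw [h', hγo]
    obtain ⟨l, hl⟩ := mem_zpowers_iff.1 (hgen ▸ mem_zpowers γ : γ ∈ zpowers (g ^ q))
    have hcg : Commute γ g := by
      rw [← hl]
      exact ((Commute.refl g).pow_left q).zpow_left l
    have := ((Commute.refl γ).pow_right j).inv_right.mul_right hcg
    simpa [hg] using this
  -- the norm is fixed
  set u := ∏ i ∈ Finset.range q, ((φ g) ^ i) v with hu
  have hu1 : u ≠ 1 := by
    have : φ g = φ γ ^ j * φ z := by rw [hg, map_mul, map_pow]
    rw [hu, this]; exact hv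
  have hufix : φ g u = u := by
    rw [hu, map_prod]
    have h1 : ∀ i, φ g (((φ g) ^ i) v) = ((φ g) ^ (i + 1)) v := fun i => by
      rw [pow_succ', MulAut.mul_apply]
    simp only [h1]
    have h2 := Finset.prod_range_succ (fun i => ((φ g) ^ i) v) q
    rw [Finset.prod_range_succ', show (φ g) ^ q = 1 by rw [← map_pow, hgq, map_one], pow_zero] at h2
    exact mul_right_cancel h2
  have hcomm : Commute g (u : G) := by
    have h1 : (φ g u : G) = u := congrArg Subtype.val hufix
    rw [MulAut.conjNormal_apply] at h1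
    exact mul_inv_eq_iff_eq_mul.1 h1
  have hqg : q ∣ orderOf g := hzq ▸ hgmk ▸ orderOf_map_dvd (QuotientGroup.mk' K) g
  have hpu : p ∣ orderOf (u : G) := by
    obtain ⟨a, ha⟩ := IsPGroup.iff_orderOf.1 hVp u
    rw [← Subgroup.orderOf_coe] at ha
    rcases Nat.eq_zero_or_pos a with rfl | hapos
    · rw [pow_zero, orderOf_eq_one_iff] at ha
      exact absurd (Subtype.ext ha) hu1
    · rw [ha]; exact dvd_pow_self p hapos.ne'
  exact Recog.ThreePrimes.exists_orderOf_eq_mul_of_commute hp hq hpq hcomm.symm hpu hqg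

/-- Let G be a 2-Frobenius group: it has normal subgroups H < K with K a Frobenius group with kernel H and G/H a Frobenius group with kernel K/H. Then G is solvable; K/H has odd order coprime to the order of H and to the order of G/K (it is the image of an odd-order Hall subgroup); G/K is cyclic; and the prime graph of G has exactly two connected components, both complete: for distinct primes p, q dividing the order of G, G has an element of order pq exactly when p and q either both divide the order of K/H or both do not. -/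
theorem result {G : Type*} [Group G] [Finite G] (H K : Subgroup G) [H.Normal] [K.Normal] (hlt : H < K)
    (hK : ∃ C : Subgroup ↥K, Cfsg.IsFrobeniusComplement C ∧ Cfsg.frobeniusKernel C = (H.subgroupOf K : Set ↥K))
    (hGH : ∃ C : Subgroup (G ⧸ H), Cfsg.IsFrobeniusComplement C ∧ Cfsg.frobeniusKernel C = (K.map (QuotientGroup.mk' H) : Set (G ⧸ H))) :
    Group.IsSolvable G ∧ Odd (Nat.card (↥K ⧸ H.subgroupOf K)) ∧
      Nat.Coprime (Nat.card (↥K ⧸ H.subgroupOf K)) (Nat.card ↥H * Nat.card (G ⧸ K)) ∧ IsCyclic (G ⧸ K) ∧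
      ∀ p q : ℕ, p.Prime → q.Prime → p ≠ q → p ∣ Nat.card G → q ∣ Nat.card G →
        ((∃ g : G, orderOf g = p * q) ↔ (p ∣ Nat.card (↥K ⧸ H.subgroupOf K) ↔ q ∣ Nat.card (↥K ⧸ H.subgroupOf K))) := by
  classical
  obtain ⟨C, hC, hkC⟩ := hK
  obtain ⟨D, hD, hkD⟩ := hGH
  set HK := H.subgroupOf K with hHKdef
  set Kb := K.map (QuotientGroup.mk' H) with hKb
  have hle : H ≤ K := hlt.le
  have hKbn : Kb.Normal := ‹K.Normal›.map _ (QuotientGroup.mk'_surjective H)
  have hcK : HK.IsComplement' C := TwoFrobenius.isComplement_of_kernel hC hkC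
  have hcD : Kb.IsComplement' D := TwoFrobenius.isComplement_of_kernel hD hkD
  have hcHK : Nat.card HK = Nat.card H := Nat.card_congr (subgroupOfEquivOfLe hle).toEquiv
  -- the complement is the middle layer
  let f : C →* G ⧸ H := (QuotientGroup.mk' H).comp (K.subtype.comp C.subtype)
  have hfinj : Function.Injective f := by
    rw [injective_iff_map_eq_one]
    intro x hx
    have hxH : (x : K) ∈ HK := (QuotientGroup.eq_one_iff ((x : K) : G)).1 hx
    exact Subtype.ext (Subgroup.disjoint_def.1 hcK.disjoint hxH x.2)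
  have hfrange : f.range = Kb := by
    refine le_antisymm ?_ ?_
    · rintro _ ⟨x, rfl⟩
      exact ⟨_, (x : K).2, rfl⟩
    · rintro _ ⟨y, hy, rfl⟩
      obtain ⟨⟨h0, c⟩, hc⟩ := hcK.existsUnique ⟨y, hy⟩ |>.exists
      refine ⟨c, ?_⟩
      have h1 : ((h0 : K) : G) * ((c : K) : G) = y := congrArg Subtype.val hc
      show ((((c : K) : G)) : G ⧸ H) = (y : G ⧸ H)
      rw [← h1, QuotientGroup.mk_mul, (QuotientGroup.eq_one_iff _).2 (show ((h0 : K) : G) ∈ H from h0.2), one_mul]
  let eC : C ≃* Kb := (MonoidHom.ofInjective hfinj).trans (MulEquiv.subgroupCongr hfrange)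
  have : Group.IsNilpotent Kb := TwoFrobenius.isNilpotent_kernel hD hcD
  have : Group.IsNilpotent C := (Group.isNilpotent_congr eC).2 this
  have : Group.IsNilpotent HK := TwoFrobenius.isNilpotent_kernel hC hcK
  have hHnil : Group.IsNilpotent H := (Group.isNilpotent_congr (subgroupOfEquivOfLe hle)).1 this
  have : Nontrivial HK := Finite.one_lt_card_iff_nontrivial.1
    (by rw [← hcK.index_eq_card]; exact Frobenius.one_lt_index hC)
  have hodd : Odd (Nat.card C) := by
    by_contra heven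
    rw [Nat.not_odd_iff_even, even_iff_two_dvd] at heven
    have := Fact.mk Nat.prime_two
    obtain ⟨t, ht⟩ := exists_prime_orderOf_dvd_card' 2 heven
    letI : MulDistribMulAction C HK :=
      MulDistribMulAction.compHom HK ((MulAut.conjNormal (H := HK)).comp C.subtype)
    have huniq : ∀ x : C, orderOf x = 2 → x = t := fun x hx =>
      (Frobenius.fpf_of_complement hC hcK.disjoint).involution_unique
        (fun h0 => by rw [h0, orderOf_one] at hx; norm_num at hx)
        (by rw [← pow_two]; exact orderOf_dvd_iff_pow_eq_one.1 (dvd_of_eq hx))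
        (fun h0 => by rw [h0, orderOf_one] at ht; norm_num at ht)
        (by rw [← pow_two]; exact orderOf_dvd_iff_pow_eq_one.1 (dvd_of_eq ht))
    have hcen : ((eC t : Kb) : G ⧸ H) ∈ center (G ⧸ H) := by
      rw [mem_center_iff]
      intro y
      have hmem : y * (eC t : Kb) * y⁻¹ ∈ Kb := hKbn.conj_mem _ (eC t).2 y
      have ho : orderOf (⟨_, hmem⟩ : Kb) = 2 := by
        rw [orderOf_mk, show y * ((eC t : Kb) : G ⧸ H) * y⁻¹ = MulAut.conj y ((eC t : Kb) : G ⧸ H) from rfl,
          MulEquiv.orderOf_eq, orderOf_coe, MulEquiv.orderOf_eq, ht]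
      have h2 := huniq (eC.symm ⟨_, hmem⟩) (by rw [MulEquiv.orderOf_eq, ho])
      rw [MulEquiv.symm_apply_eq] at h2
      exact mul_inv_eq_iff_eq_mul.1 (congrArg Subtype.val h2)
    rw [Frobenius.center_eq_bot hD, Subgroup.mem_bot] at hcen
    have h1 : orderOf ((eC t : Kb) : G ⧸ H) = 1 := by rw [hcen, orderOf_one]
    rw [orderOf_coe, MulEquiv.orderOf_eq, ht] at h1
    norm_num at h1
  have hCcyc : IsCyclic C := by
    refine TwoFrobenius.isCyclic_of_abelian_cyclic hodd fun A hA => ?_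
    have hA' : IsMulCommutative (A.map C.subtype) := ⟨⟨fun a b => by
      apply (A.equivMapOfInjective _ C.subtype_injective).symm.injective
      rw [map_mul, map_mul]
      exact mul_comm' _ _⟩⟩
    have := Frobenius.isCyclic_le_complement_of_commutative hC hcK (L := A.map C.subtype) (map_subtype_le A)
    exact isCyclic_of_surjective (A.equivMapOfInjective _ C.subtype_injective).symm
      (A.equivMapOfInjective _ C.subtype_injective).symm.surjective
  have hKbcyc : IsCyclic Kb := isCyclic_of_surjective eC eC.surjective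
  -- the top layer
  obtain ⟨⟨g₀, hg₀⟩, hgen⟩ := IsCyclic.exists_generator (α := Kb)
  have hg1 : g₀ ≠ 1 := by
    intro h0
    apply hC.1
    rw [eq_bot_iff]
    intro x hx
    obtain ⟨i, hi⟩ := mem_zpowers_iff.1 (hgen (eC ⟨x, hx⟩))
    have h1 : ((eC ⟨x, hx⟩ : Kb) : G ⧸ H) = 1 := by
      rw [← hi, Subgroup.coe_zpow]
      show g₀ ^ i = 1
      rw [h0, one_zpow]
    have h2 : eC ⟨x, hx⟩ = eC 1 := by rw [map_one]; exact Subtype.ext h1
    exact congrArg Subtype.val (eC.injective h2)
  have hDcomm : IsMulCommutative D := by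
    refine ⟨⟨fun d e => ?_⟩⟩
    obtain ⟨a, ha⟩ := mem_zpowers_iff.1 (hgen ⟨_, hKbn.conj_mem g₀ hg₀ (d : G ⧸ H)⟩)
    obtain ⟨b, hb⟩ := mem_zpowers_iff.1 (hgen ⟨_, hKbn.conj_mem g₀ hg₀ (e : G ⧸ H)⟩)
    have ha' : g₀ ^ a = (d : G ⧸ H) * g₀ * (d : G ⧸ H)⁻¹ := congrArg Subtype.val ha
    have hb' : g₀ ^ b = (e : G ⧸ H) * g₀ * (e : G ⧸ H)⁻¹ := congrArg Subtype.val hb
    set x : G ⧸ H := ((d * e : D) : G ⧸ H)
    set y : G ⧸ H := ((e * d : D) : G ⧸ H)
    have h1 : x * g₀ * x⁻¹ = (g₀ ^ a) ^ b := by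
      show ((d : G ⧸ H) * e) * g₀ * ((d : G ⧸ H) * e)⁻¹ = _
      rw [ha', conj_zpow, hb']; group
    have h2 : y * g₀ * y⁻¹ = (g₀ ^ a) ^ b := by
      show ((e : G ⧸ H) * d) * g₀ * ((e : G ⧸ H) * d)⁻¹ = _
      rw [← zpow_mul, mul_comm, zpow_mul, hb', conj_zpow, ha']; group
    have h3 : y⁻¹ * x ∈ Subgroup.centralizer ({g₀} : Set (G ⧸ H)) := by
      rw [mem_centralizer_singleton_iff]
      calc y⁻¹ * x * g₀ = y⁻¹ * (x * g₀ * x⁻¹) * x := by group
        _ = y⁻¹ * (y * g₀ * y⁻¹) * x := by rw [h1, h2]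
        _ = g₀ * (y⁻¹ * x) := by group
    have h4 := Frobenius.centralizer_le_of_mem_complement hD hcD hg₀ hg1 h3
    have h5 : y⁻¹ * x = 1 := Subgroup.disjoint_def.1 hcD.disjoint h4 ((e * d)⁻¹ * (d * e) : D).2
    exact Subtype.ext (inv_mul_eq_one.1 h5).symm
  have hDcyc : IsCyclic D := Frobenius.isCyclic_le_complement_of_commutative hD hcD le_rfl
  let π : G ⧸ H →* G ⧸ K := QuotientGroup.map H K (MonoidHom.id G) hle
  have hπker : ∀ x, π x = 1 ↔ x ∈ Kb := fun x => by
    obtain ⟨y, rfl⟩ := QuotientGroup.mk'_surjective H x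
    constructor
    · intro hy
      exact ⟨y, (QuotientGroup.eq_one_iff y).1 hy, rfl⟩
    · rintro ⟨y', hy', hyy⟩
      rw [← hyy]
      exact (QuotientGroup.eq_one_iff y').2 hy'
  have hDπ : Function.Bijective (π.comp D.subtype) := by
    refine ⟨(injective_iff_map_eq_one _).2 fun x hx => Subtype.ext
      (Subgroup.disjoint_def.1 hcD.disjoint ((hπker _).1 hx) x.2), fun y => ?_⟩
    obtain ⟨y, rfl⟩ := QuotientGroup.mk'_surjective K y
    obtain ⟨⟨a, d⟩, had⟩ := hcD.existsUnique (y : G ⧸ H) |>.exists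
    refine ⟨d, ?_⟩
    have h1 : π ((a : G ⧸ H) * d) = π (y : G ⧸ H) := congrArg π had
    rw [map_mul, (hπker _).2 a.2, one_mul] at h1
    exact h1
  have hGKcyc : IsCyclic (G ⧸ K) := isCyclic_of_surjective _ hDπ.2
  have hDcard : Nat.card (G ⧸ K) = Nat.card D := (Nat.card_eq_of_bijective _ hDπ).symm
  have hKHcard : Nat.card (↥K ⧸ HK) = Nat.card C := by
    rw [← index_eq_card]
    exact hcK.symm.index_eq_card
  have hcopH : (Nat.card C).Coprime (Nat.card H) := by
    have := Frobenius.coprime_card_index hC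
    rwa [hcK.index_eq_card, hcHK] at this
  have hcopD : (Nat.card (G ⧸ K)).Coprime (Nat.card C) := by
    have := Frobenius.coprime_card_index hD
    rwa [hcD.index_eq_card, ← Nat.card_congr eC.toEquiv, ← hDcard] at this
  refine ⟨?_, hKHcard ▸ hodd, ?_, hGKcyc, ?_⟩
  · have : Group.IsSolvable H := inferInstance
    have : Group.IsSolvable Kb := inferInstance
    have : Group.IsSolvable (G ⧸ K) :=
      Group.isSolvable_of_comm fun a b => mul_comm' a b
    have hQ : Group.IsSolvable (G ⧸ H) := Group.isSolvable_of_ker_le_range Kb.subtype π fun x hx =>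
      ⟨⟨x, (hπker x).1 hx⟩, rfl⟩
    exact Group.isSolvable_of_ker_le_range H.subtype (QuotientGroup.mk' H) (by simp)
  · rw [hKHcard]
    exact Nat.Coprime.mul_right hcopH hcopD.symm
  -- the prime graph
  have hcardG : Nat.card G = Nat.card H * Nat.card C * Nat.card (G ⧸ K) := by
    rw [← index_mul_card K, index_eq_card, ← hcK.card_mul, hcHK]; ring
  have hno : ∀ p q : ℕ, p.Prime → q.Prime → p ∣ Nat.card C → ¬ q ∣ Nat.card C →
      ¬ ∃ g : G, orderOf g = p * q := by
    rintro p q hp hq hpC hqC ⟨g, hg⟩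
    have hxo : orderOf (g ^ q) = p := by
      rw [orderOf_pow' _ hq.ne_zero, hg, Nat.gcd_mul_left_left, Nat.mul_div_cancel _ hq.pos]
    have hyo : orderOf (g ^ p) = q := by
      rw [orderOf_pow' _ hp.ne_zero, hg, Nat.gcd_mul_right_left, Nat.mul_div_cancel_left _ hp.pos]
    have hc : Commute (g ^ q) (g ^ p) := (Commute.refl g).pow_pow q p
    have hxK : g ^ q ∈ K := by
      rw [← QuotientGroup.eq_one_iff, ← orderOf_eq_one_iff]
      exact Nat.eq_one_of_dvd_coprimes hcopD.symm
        ((hxo ▸ orderOf_map_dvd (QuotientGroup.mk' K) (g ^ q)).trans hpC) (_root_.orderOf_dvd_natCard _)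
    have hxH : g ^ q ∉ H := fun h0 => hp.ne_one (Nat.eq_one_of_dvd_coprimes hcopH hpC
      (hxo ▸ (Subgroup.orderOf_mk _ h0) ▸ _root_.orderOf_dvd_natCard (⟨g ^ q, h0⟩ : H)))
    have hy' : ((g ^ p : G) : G ⧸ H) ∈ Kb := by
      refine Frobenius.centralizer_le_of_mem_complement hD hcD (k := ((g ^ q : G) : G ⧸ H))
        ⟨g ^ q, hxK, rfl⟩ (fun h0 => hxH ((QuotientGroup.eq_one_iff _).1 h0)) ?_
      rw [mem_centralizer_singleton_iff, ← QuotientGroup.mk_mul, ← QuotientGroup.mk_mul, hc.eq]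
    have hyH : g ^ p ∈ H := by
      rw [← QuotientGroup.eq_one_iff, ← orderOf_eq_one_iff]
      refine Nat.eq_one_of_dvd_coprimes ((hq.coprime_iff_not_dvd).2 hqC)
        (hyo ▸ orderOf_map_dvd (QuotientGroup.mk' H) (g ^ p)) ?_
      rw [Nat.card_congr eC.toEquiv]
      exact (Subgroup.orderOf_mk _ hy') ▸ _root_.orderOf_dvd_natCard (⟨_, hy'⟩ : Kb)
    apply hxH
    have h1 := Frobenius.centralizer_le_of_mem_complement hC hcK
      (k := ⟨g ^ p, hle hyH⟩) hyH
      (fun h0 => hq.ne_one (by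
        rw [← hyo, show g ^ p = 1 from congrArg Subtype.val h0, orderOf_one]))
      (x := ⟨g ^ q, hxK⟩) (mem_centralizer_singleton_iff.2 (Subtype.ext hc.eq))
    exact h1
  intro p q hp hq hpq hpG hqG
  rw [hKHcard]
  constructor
  · rintro ⟨g, hg⟩
    constructor
    · intro hpC
      by_contra hqC
      exact hno p q hp hq hpC hqC ⟨g, hg⟩
    · intro hqC
      by_contra hpC
      exact hno q p hq hp hqC hpC ⟨g, by rw [hg, mul_comm]⟩
  · intro hiff
    have hcop : p.Coprime q := (Nat.coprime_primes hp hq).2 hpq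
    by_cases hpC : p ∣ Nat.card C
    · have hqC := hiff.1 hpC
      obtain ⟨x, hx⟩ := IsCyclic.exists_ofOrder_eq_natCard (α := C)
      refine ⟨(((x ^ (orderOf x / (p * q)) : C) : K) : G), ?_⟩
      rw [orderOf_coe, orderOf_coe]
      exact orderOf_pow_orderOf_div (orderOf_pos x).ne' (hx ▸ hcop.mul_dvd_of_dvd_of_dvd hpC hqC)
    · have hqC : ¬ q ∣ Nat.card C := fun h => hpC (hiff.2 h)
      have hmem : ∀ s : ℕ, s.Prime → s ∣ Nat.card G → ¬ s ∣ Nat.card C → ¬ s ∣ Nat.card H →
          s ∣ Nat.card (G ⧸ K) := fun s hs hsG hsC hsH => by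
        rw [hcardG] at hsG
        exact ((hs.dvd_mul.1 hsG).resolve_left fun h => (hs.dvd_mul.1 h).elim hsH hsC)
      by_cases hpH : p ∣ Nat.card H
      · by_cases hqH : q ∣ Nat.card H
        · have := Fact.mk hp
          have := Fact.mk hq
          let P : Sylow p H := default
          let Q : Sylow q H := default
          obtain ⟨x, hx⟩ := exists_prime_orderOf_dvd_card' p (P.dvd_card_of_dvd_card hpH)
          obtain ⟨y, hy⟩ := exists_prime_orderOf_dvd_card' q (Q.dvd_card_of_dvd_card hqH)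
          have hdis : Disjoint (P : Subgroup H) (Q : Subgroup H) :=
            IsPGroup.disjoint_of_ne p q hpq _ _ P.2 Q.2
          have hc : Commute (x : H) (y : H) := commute_of_normal_of_disjoint _ _
            inferInstance inferInstance
            hdis _ _ x.2 y.2
          exact Recog.ThreePrimes.exists_orderOf_eq_mul_of_commute hp hq hpq
            (a := ((x : H) : G)) (b := ((y : H) : G)) (congrArg Subtype.val hc.eq)
            (by rw [orderOf_coe, orderOf_coe, hx]) (by rw [orderOf_coe, orderOf_coe, hy])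
        · exact exists_of_mixed H K hle C hC hcK hno hcopD hp hq hpq hpH hqH
            (hmem q hq hqG hqC hqH)
      · by_cases hqH : q ∣ Nat.card H
        · obtain ⟨g, hg⟩ := exists_of_mixed H K hle C hC hcK hno hcopD hq hp hpq.symm hqH hpH
            (hmem p hp hpG hpC hpH)
          exact ⟨g, by rw [hg, mul_comm]⟩
        · obtain ⟨xb, hxb⟩ := IsCyclic.exists_ofOrder_eq_natCard (α := G ⧸ K)
          obtain ⟨x, rfl⟩ := QuotientGroup.mk'_surjective K xb
          have h1 : p * q ∣ orderOf x :=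
            ((hxb ▸ hcop.mul_dvd_of_dvd_of_dvd (hmem p hp hpG hpC hpH) (hmem q hq hqG hqC hqH) :
              p * q ∣ orderOf (QuotientGroup.mk' K x))).trans (orderOf_map_dvd _ x)
          exact ⟨x ^ (orderOf x / (p * q)), orderOf_pow_orderOf_div (orderOf_pos x).ne' h1⟩

end Cfsg.Agent.S4001
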