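import Cfsg.Statements.S4002
import Cfsg.Agent.Lib.Recog.Coclique

set_option autoImplicit false
open Cfsg

namespace Cfsg.Agent.S4002

/-- If the set of element orders of a finite group G is {1, 2, …, n} with n ≥ 7, then G is not solvable. -/
theorem result {G : Type*} [Group G] [Finite G] (n : ℕ) (hn : 7 ≤ n) (h : Set.range (orderOf : G → ℕ) = {k : ℕ | 1 ≤ k ∧ k ≤ n}) : ¬ Group.IsSolvable G := by
  have hord : ∀ g : G, orderOf g ≤ n := fun g => (h.subset ⟨g, rfl⟩).2
  have hex : ∀ p : ℕ, p.Prime → p ≤ n → p ∣ Nat.card G := by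
    intro p hp hpn
    obtain ⟨g, hg⟩ := h.symm.subset (show p ∈ {k : ℕ | 1 ≤ k ∧ k ≤ n} from ⟨hp.one_lt.le, hpn⟩)
    exact hg ▸ _root_.orderOf_dvd_natCard g
  -- three primes with large products
  obtain ⟨a, b, c, ha, hb, hc, hab, hbc, hcn, hbig⟩ : ∃ a b c : ℕ, a.Prime ∧ b.Prime ∧ c.Prime ∧
      a < b ∧ b < c ∧ c ≤ n ∧ n < a * b := by
    rcases Nat.lt_or_ge n 15 with h15 | h15
    · exact ⟨3, 5, 7, by norm_num, by norm_num, by norm_num, by norm_num, by norm_num, hn, by omega⟩
    rcases Nat.lt_or_ge n 32 with h32 | h32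
    · exact ⟨5, 7, 11, by norm_num, by norm_num, by norm_num, by norm_num, by norm_num, by omega,
        by omega⟩
    obtain ⟨m, hm⟩ : ∃ m, m = n / 8 := ⟨_, rfl⟩
    obtain ⟨a, ha, ha1, ha2⟩ := Nat.exists_prime_lt_and_le_two_mul m (by omega)
    obtain ⟨b, hb, hb1, hb2⟩ := Nat.exists_prime_lt_and_le_two_mul (2 * m) (by omega)
    obtain ⟨c, hc, hc1, hc2⟩ := Nat.exists_prime_lt_and_le_two_mul (2 * (2 * m)) (by omega)
    refine ⟨a, b, c, ha, hb, hc, by omega, by omega, by omega, ?_⟩
    have h4 : 4 ≤ m := by omega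
    calc n < 8 * (m + 1) := by omega
      _ ≤ (m + 1) * (2 * m + 1) := by nlinarith [h4]
      _ ≤ a * b := Nat.mul_le_mul (by omega) (by omega)
  refine CfsgLib.Recog.Coclique.not_isSolvable_of_coclique (S := {a, b, c}) ⟨?_, ?_⟩ ?_ ?_
  · intro r hr
    simp only [Finset.mem_insert, Finset.mem_singleton] at hr
    rcases hr with rfl | rfl | rfl <;> assumption
  · intro r hr s hs hne
    rintro ⟨x, hx⟩
    have hle := hord x
    rw [hx] at hle
    have h1 : a * b ≤ a * c := Nat.mul_le_mul le_rfl hbc.le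
    have h2 : a * b ≤ b * c := by
      calc a * b ≤ b * b := Nat.mul_le_mul hab.le le_rfl
        _ ≤ b * c := Nat.mul_le_mul le_rfl hbc.le
    simp only [Finset.mem_insert, Finset.mem_singleton] at hr hs
    rcases hr with rfl | rfl | rfl <;> rcases hs with rfl | rfl | rfl <;>
      first | exact hne rfl | (have := Nat.mul_comm r s; omega)
  · rw [Finset.card_insert_of_notMem (by simp; omega), Finset.card_insert_of_notMem (by simp; omega),
      Finset.card_singleton]
  · intro r hr
    simp only [Finset.mem_insert, Finset.mem_singleton] at hr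
    rcases hr with rfl | rfl | rfl
    · exact hex _ ha (by omega)
    · exact hex _ hb (by omega)
    · exact hex _ hc hcn

end Cfsg.Agent.S4002
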