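import Cfsg.Statements.S4004
import Cfsg.Agent.Lib.OrderCount.TwoValues
import Cfsg.Agent.Lib.FewOrders.Prime

set_option autoImplicit false
open Cfsg

namespace Cfsg.Agent.S4004

open Subgroup CfsgLib.OrderCount

universe u

/-- Pairs of commuting elements of orders `q` and `p` inject into the elements of order `p * q`. -/
theorem two_mul_le {G : Type u} [Group G] [Finite G] {p q : ℕ} (hp : p.Prime) (hq : q.Prime)
    (hpq : p ≠ q) (hp2 : p ≠ 2) (h : ∀ y : G, orderOf y = q → ∃ x : G, orderOf x = p ∧ Commute y x) :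
    cnt G q * 2 ≤ cnt G (p * q) := by
  classical
  choose f hf1 hf2 using h
  have hcop := (Nat.coprime_primes hp hq).2 hpq
  have hp3 : 2 < p := lt_of_le_of_ne hp.two_le (Ne.symm hp2)
  have hord : ∀ (y : G) (hy : orderOf y = q) (i : Fin 2),
      orderOf (y * f y hy ^ (i.1 + 1)) = p * q := fun y hy i => by
    have : orderOf (f y hy ^ (i.1 + 1)) = p := by
      rw [Nat.Coprime.orderOf_pow, hf1 y hy]
      rw [hf1 y hy]
      exact hp.coprime_iff_not_dvd.2 fun hd => by
        have := Nat.le_of_dvd (by omega) hd; omega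
    rw [((hf2 y hy).pow_right _).orderOf_mul_eq_mul_orderOf_of_coprime (by
      rw [hy, this]; exact hcop.symm), hy, this, mul_comm]
  rw [show cnt G q * 2 = Nat.card ({y : G // orderOf y = q} × Fin 2) by
    rw [Nat.card_prod, Nat.card_fin, cnt]]
  refine Nat.card_le_card_of_injective
    (fun a => (⟨a.1.1 * f a.1.1 a.1.2 ^ (a.2.1 + 1), hord _ a.1.2 a.2⟩ :
      {g : G // orderOf g = p * q})) ?_
  rintro ⟨⟨y, hy⟩, i⟩ ⟨⟨y', hy'⟩, j⟩ he
  have he : y * f y hy ^ (i.1 + 1) = y' * f y' hy' ^ (j.1 + 1) := congrArg Subtype.val he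
  have hyy : y = y' := by
    have hpow : ∀ (w : G) (hw : orderOf w = q) (k : ℕ), (w * f w hw ^ k) ^ p = w ^ p := fun w hw k => by
      rw [((hf2 w hw).pow_right k).mul_pow, ← pow_mul, mul_comm, pow_mul]
      conv_lhs => rw [← hf1 w hw, pow_orderOf_eq_one, one_pow, mul_one, hf1 w hw]
    have h1 : y ^ p = y' ^ p := by rw [← hpow y hy (i.1 + 1), he, hpow y' hy']
    have hinj : ∀ w : G, orderOf w = q → (w ^ p) ^ (Nat.gcdA p q) = w := fun w hw => by
      have hb : (p : ℤ) * Nat.gcdA p q + (q : ℤ) * Nat.gcdB p q = 1 := by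
        rw [← Nat.gcd_eq_gcd_ab, hcop.gcd_eq_one]; rfl
      calc (w ^ p) ^ Nat.gcdA p q = w ^ ((p : ℤ) * Nat.gcdA p q) := by
            rw [zpow_mul, zpow_natCast]
        _ = w ^ ((p : ℤ) * Nat.gcdA p q + (q : ℤ) * Nat.gcdB p q) := by
            rw [zpow_add, zpow_mul w (q : ℤ), zpow_natCast, ← hw, pow_orderOf_eq_one, one_zpow,
              mul_one]
        _ = w := by rw [hb, zpow_one]
    rw [← hinj y hy, h1, hinj y' hy']
  subst hyy
  have h2 := mul_left_cancel he
  have h3 := pow_injOn_Iio_orderOf (x := f y hy) (show i.1 + 1 ∈ Set.Iio (orderOf (f y hy)) by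
    rw [Set.mem_Iio, hf1 y hy]; omega) (show j.1 + 1 ∈ Set.Iio (orderOf (f y hy)) by
    rw [Set.mem_Iio, hf1 y hy]; omega) h2
  exact Prod.ext rfl (Fin.ext (Nat.succ.inj h3))

/-- Let G be a finite group of odd order in which the numbers of elements of each order that occurs (the numbers #{g : o(g) = m}, m ranging over the element orders of G) take exactly three different values. Then the order of G has at most two prime divisors; and if it has exactly two, then every Sylow subgroup of G for a prime dividing its order has prime exponent, G is a Frobenius group, and some Frobenius complement of G has prime order. -/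
theorem result {G : Type*} [Group G] [Finite G] (hodd : Odd (Nat.card G)) (h : (((fun m : ℕ => Nat.card {g : G // orderOf g = m}) '' Set.range (orderOf : G → ℕ))).ncard = 3) :
    (Nat.card G).primeFactors.card ≤ 2 ∧
      ((Nat.card G).primeFactors.card = 2 →
        (∀ (p : ℕ) [Fact p.Prime] (P : Sylow p G), p ∣ Nat.card G → Monoid.exponent ↥(P : Subgroup G) = p) ∧
        ∃ C : Subgroup G, Cfsg.IsFrobeniusComplement C ∧ (Nat.card ↥C).Prime) := by
  classical
  have hne2 : ∀ t : ℕ, t ∣ Nat.card G → ¬ 2 ∣ t := fun t ht h2 =>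
    Nat.not_even_iff_odd.2 hodd (even_iff_two_dvd.2 (h2.trans ht))
  have hodd3 : ∀ r : ℕ, r.Prime → r ∣ Nat.card G → 2 < r ∧ r ≠ 2 := fun r hr hrG => by
    have : r ≠ 2 := fun h => hne2 r hrG (h ▸ dvd_rfl)
    exact ⟨lt_of_le_of_ne hr.two_le (Ne.symm this), this⟩
  obtain ⟨u, v, w, huv, huw, hvw, hVeq⟩ := Set.ncard_eq_three.1 h
  have hmem : ∀ m, 0 < cnt G m → cnt G m = u ∨ cnt G m = v ∨ cnt G m = w := fun m hm => by
    have := hVeq ▸ cnt_mem_values hm
    simpa using this
  have hone := hmem 1 (by rw [cnt_one]; exact one_pos)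
  rw [cnt_one] at hone
  obtain ⟨n, n', hval'⟩ : ∃ n n' : ℕ, ∀ m, 2 < m → 0 < cnt G m → cnt G m = n ∨ cnt G m = n' := by
    have hne1 : ∀ m, 2 < m → cnt G m ≠ 1 := fun m hm h1 =>
      absurd (le_two_of_cnt_eq_one h1) (by omega)
    rcases hone with hu | hv | hw
    · exact ⟨v, w, fun m hm hc => by have := hne1 m hm; have := hmem m hc; omega⟩
    · exact ⟨u, w, fun m hm hc => by have := hne1 m hm; have := hmem m hc; omega⟩
    · exact ⟨u, v, fun m hm hc => by have := hne1 m hm; have := hmem m hc; omega⟩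
  have hsmall : ∀ m, m ≤ 2 → 0 < cnt G m → cnt G m = 1 := fun m hm hc => by
    have hd := dvd_card_of_cnt_pos hc
    interval_cases m
    · exact absurd (Nat.eq_zero_of_zero_dvd hd) Nat.card_pos.ne'
    · exact cnt_one
    · exact absurd dvd_rfl (hne2 2 hd)
  have hdiff : ∀ r s : ℕ, r.Prime → s.Prime → r ≠ s → r ∣ Nat.card G → s ∣ Nat.card G →
      cnt G r ≠ cnt G s := by
    intro r s hr hs hrs hrG hsG heq
    rcases hval' r (hodd3 r hr hrG).1 (cnt_pos_prime hr hrG) with hr' | hr'
    · exact false_of_cnt_eq hr hs (hodd3 r hr hrG).2 (hodd3 s hs hsG).2 hrs hrG hsG n n' hval'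
        hsmall hr' (heq ▸ hr')
    · exact false_of_cnt_eq hr hs (hodd3 r hr hrG).2 (hodd3 s hs hsG).2 hrs hrG hsG n' n
        (fun m hm hc => (hval' m hm hc).symm) hsmall hr' (heq ▸ hr')
  refine ⟨?_, fun hcard => ?_⟩
  · by_contra hgt
    obtain ⟨a, ha, b, hb, c, hc, hab, hac, hbc⟩ := Finset.two_lt_card.1 (not_le.1 hgt)
    have pa := Nat.prime_of_mem_primeFactors ha
    have pb := Nat.prime_of_mem_primeFactors hb
    have pc := Nat.prime_of_mem_primeFactors hc
    have da := Nat.dvd_of_mem_primeFactors ha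
    have db := Nat.dvd_of_mem_primeFactors hb
    have dc := Nat.dvd_of_mem_primeFactors hc
    have := hdiff a b pa pb hab da db
    have := hdiff a c pa pc hac da dc
    have := hdiff b c pb pc hbc db dc
    have := hval' a (hodd3 a pa da).1 (cnt_pos_prime pa da)
    have := hval' b (hodd3 b pb db).1 (cnt_pos_prime pb db)
    have := hval' c (hodd3 c pc dc).1 (cnt_pos_prime pc dc)
    omega
  obtain ⟨p, q, hpq, hfac⟩ := Finset.card_eq_two.1 hcard
  have hpmem : p ∈ (Nat.card G).primeFactors := hfac ▸ by simp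
  have hqmem : q ∈ (Nat.card G).primeFactors := hfac ▸ by simp
  have hp := Nat.prime_of_mem_primeFactors hpmem
  have hq := Nat.prime_of_mem_primeFactors hqmem
  have hpG := Nat.dvd_of_mem_primeFactors hpmem
  have hqG := Nat.dvd_of_mem_primeFactors hqmem
  have honly : ∀ t : ℕ, t.Prime → t ∣ Nat.card G → t = p ∨ t = q := fun t ht htG => by
    have : t ∈ (Nat.card G).primeFactors := ht.mem_primeFactors htG Nat.card_pos.ne'
    rw [hfac] at this; simpa using this
  -- values at the two primes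
  have hv : ∀ r s : ℕ, r.Prime → s.Prime → r ≠ s → r ∣ Nat.card G → s ∣ Nat.card G →
      ∀ m, 2 < m → 0 < cnt G m → cnt G m = cnt G r ∨ cnt G m = cnt G s := by
    intro r s hr hs hrs hrG hsG m hm hc
    have := hdiff r s hr hs hrs hrG hsG
    have := hval' m hm hc
    have := hval' r (hodd3 r hr hrG).1 (cnt_pos_prime hr hrG)
    have := hval' s (hodd3 s hs hsG).1 (cnt_pos_prime hs hsG)
    omega
  have hsq : ∀ r s : ℕ, r.Prime → s.Prime → r ≠ s → r ∣ Nat.card G → s ∣ Nat.card G →
      ∀ g : G, ¬ r ^ 2 ∣ orderOf g := by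
    intro r s hr hs hrs hrG hsG g hg
    have := Fact.mk hr
    have := Fact.mk hs
    have hc := cnt_pos_of_dvd (cnt_pos_iff.2 ⟨g, rfl⟩) hg
    have h0 : (cnt G (r ^ 2) : ZMod r) = 0 :=
      (ZMod.natCast_eq_zero_iff _ _).2 (prime_dvd_cnt_of_sq_dvd hr dvd_rfl)
    have h2r : 2 < r ^ 2 := lt_of_lt_of_le (hodd3 r hr hrG).1 (Nat.le_self_pow two_ne_zero r)
    have hr2s : cnt G (r ^ 2) = cnt G s := (hv r s hr hs hrs hrG hsG _ h2r hc).resolve_left
      fun he => by rw [he, cnt_prime_eq_neg_one hr hrG] at h0; exact one_ne_zero (neg_eq_zero.1 h0)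
    have h1 := cnt_prime_mul_eq_neg hs hsG (d := r ^ 2) (by omega)
      (((Nat.coprime_primes hs hr).2 (Ne.symm hrs)).pow_right 2)
    rw [hr2s, cnt_prime_eq_neg_one hs hsG, neg_neg] at h1
    have h0' : (cnt G (s * r ^ 2) : ZMod r) = 0 :=
      (ZMod.natCast_eq_zero_iff _ _).2 (prime_dvd_cnt_of_sq_dvd hr (Dvd.intro_left s rfl))
    rcases Nat.eq_zero_or_pos (cnt G (s * r ^ 2)) with hz | hz
    · rw [hz, Nat.cast_zero] at h1; exact zero_ne_one h1
    · rcases hv r s hr hs hrs hrG hsG _ (lt_of_lt_of_le h2r (Nat.le_mul_of_pos_left _ hs.pos)) hz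
        with he | he
      · rw [he, cnt_prime_eq_neg_one hr hrG] at h0'; exact one_ne_zero (neg_eq_zero.1 h0')
      · rw [he, cnt_prime_eq_neg_one hs hsG] at h1
        exact zmod_one_ne_neg_one hs (hodd3 s hs hsG).2 h1.symm
  have hnomix : ∀ g : G, ¬ p * q ∣ orderOf g := by
    intro g hg
    have key : ∀ r s : ℕ, r.Prime → s.Prime → r ≠ s → r ∣ Nat.card G → s ∣ Nat.card G →
        cnt G (r * s) = cnt G s → False := by
      intro r s hr hs hrs hrG hsG he
      have := Fact.mk hr
      have := Fact.mk hs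
      have h1 := cnt_prime_mul_eq_neg hs hsG hr.pos ((Nat.coprime_primes hs hr).2 (Ne.symm hrs))
      rw [mul_comm, he, cnt_prime_eq_neg_one hs hsG, neg_inj] at h1
      have hle := two_mul_le (G := G) hr hs hrs (hodd3 r hr hrG).2 fun y hy => by
        have hY : IsPGroup s ↥(zpowers y) := IsPGroup.of_card (n := 1)
          (by rw [Nat.card_zpowers, hy, pow_one])
        let X := {x : G // orderOf x = r}
        let act : MulAction ↥(zpowers y) X :=
          { smul := fun c x => ⟨c.1 * x.1 * c.1⁻¹, by rw [orderOf_conj', x.2]⟩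
            one_smul := fun x => Subtype.ext (by
              show (1 : G) * x.1 * (1 : G)⁻¹ = x.1
              simp)
            mul_smul := fun c d x => Subtype.ext (by
              show (c.1 * d.1) * x.1 * (c.1 * d.1)⁻¹ = c.1 * (d.1 * x.1 * d.1⁻¹) * c.1⁻¹
              group) }
        letI := act
        have hmod := hY.card_modEq_card_fixedPoints X
        have : Nonempty (MulAction.fixedPoints ↥(zpowers y) X) := by
          by_contra hne
          have : IsEmpty (MulAction.fixedPoints ↥(zpowers y) X) := not_nonempty_iff.1 hne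
          rw [Nat.card_of_isEmpty (α := MulAction.fixedPoints ↥(zpowers y) X)] at hmod
          have h2 : (cnt G r : ZMod s) = 0 :=
            (ZMod.natCast_eq_zero_iff _ _).2 (Nat.modEq_zero_iff_dvd.1 hmod)
          rw [h2] at h1
          exact one_ne_zero h1
        obtain ⟨⟨⟨x, hx⟩, hfix⟩⟩ := this
        refine ⟨x, hx, ?_⟩
        have h3 : y * x * y⁻¹ = x := congrArg Subtype.val (hfix ⟨y, mem_zpowers y⟩)
        exact mul_inv_eq_iff_eq_mul.1 h3
      have := cnt_pos_prime hs hsG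
      omega
    have hc := cnt_pos_of_dvd (cnt_pos_iff.2 ⟨g, rfl⟩) hg
    have h3 : 2 < p * q := lt_of_lt_of_le (hodd3 p hp hpG).1 (Nat.le_mul_of_pos_right p hq.pos)
    rcases hv p q hp hq hpq hpG hqG _ h3 hc with he | he
    · exact key q p hq hp (Ne.symm hpq) hqG hpG (by rwa [mul_comm])
    · exact key p q hp hq hpq hpG hqG he
  have hord : ∀ g : G, g = 1 ∨ orderOf g = p ∨ orderOf g = q := by
    intro g
    rcases eq_or_ne g 1 with hg | hg
    · exact Or.inl hg
    right
    obtain ⟨t, ht, htg⟩ := Nat.exists_prime_and_dvd (n := orderOf g)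
      (fun h1 => hg (orderOf_eq_one_iff.1 h1))
    have hlike : ∀ r s : ℕ, r.Prime → (∀ g : G, ¬ r ^ 2 ∣ orderOf g) → (∀ g : G, ¬ r * s ∣ orderOf g) →
        s.Prime → r ≠ s → (∀ t : ℕ, t.Prime → t ∣ Nat.card G → t = r ∨ t = s) → r ∣ orderOf g →
        orderOf g = r := by
      intro r s hr hsq' hmx hs hrs honly' hrg
      obtain ⟨c, hc⟩ := hrg
      rcases eq_or_ne c 1 with rfl | hc1
      · rw [hc, mul_one]
      obtain ⟨t', ht', ht'c⟩ := Nat.exists_prime_and_dvd hc1
      rcases honly' t' ht' ((Dvd.intro_left r hc.symm |> ht'c.trans).trans (orderOf_dvd_natCard g))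
        with rfl | rfl
      · exact absurd (hc ▸ sq t' ▸ Nat.mul_dvd_mul_left t' ht'c) (hsq' g)
      · exact absurd (hc ▸ Nat.mul_dvd_mul_left r ht'c) (hmx g)
    rcases honly t ht (htg.trans (orderOf_dvd_natCard g)) with rfl | rfl
    · exact Or.inl (hlike t q hp (hsq t q hp hq hpq hpG hqG) hnomix hq hpq honly htg)
    · exact Or.inr (hlike t p hq (hsq t p hq hp (Ne.symm hpq) hqG hpG)
        (fun g => mul_comm p t ▸ hnomix g) hp (Ne.symm hpq) (fun s hs hsG => (honly s hs hsG).symm) htg)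
  refine ⟨fun t ht P htG => ?_, ?_⟩
  · have hsqt : ∀ g : G, ¬ t ^ 2 ∣ orderOf g := by
      rcases honly t ht.out htG with rfl | rfl
      · exact hsq t q hp hq hpq hpG hqG
      · exact hsq t p hq hp (Ne.symm hpq) hqG hpG
    have hdvd : Monoid.exponent ↥(P : Subgroup G) ∣ t := by
      refine Monoid.exponent_dvd_of_forall_pow_eq_one fun x => orderOf_dvd_iff_pow_eq_one.1 ?_
      obtain ⟨k, hk⟩ := IsPGroup.iff_orderOf.1 P.2 x
      rw [hk]
      by_contra hd
      refine hsqt x.1 ?_
      rw [Subgroup.orderOf_coe, hk]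
      refine pow_dvd_pow t ?_
      by_contra hk2
      exact hd ((pow_dvd_pow t (Nat.le_of_lt_succ (not_le.1 hk2))).trans (pow_one t).dvd)
    refine ((Nat.dvd_prime ht.out).1 hdvd).resolve_left fun h1 => ?_
    have := Monoid.exp_eq_one_iff.1 h1
    have hP := P.dvd_card_of_dvd_card htG
    rw [Nat.card_eq_one_iff_unique.2 ⟨this, inferInstance⟩] at hP
    exact ht.out.not_dvd_one hP
  · have := CfsgLib.FewOrders.isSolvable_of_two_primes hp hq honly
    obtain ⟨r, s, hrs, R, -, -, -, T, hT, hC⟩ :=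
      CfsgLib.FewOrders.structure_two_orders hp hq hpq hord hpG hqG
    refine ⟨T, hC, hT ▸ ?_⟩
    rcases hrs with ⟨-, rfl⟩ | ⟨-, rfl⟩ <;> assumption

end Cfsg.Agent.S4004
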