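import Cfsg.Statements.S4005
import Cfsg.Agent.Lib.FewOrders.Prime

set_option autoImplicit false
open Cfsg

namespace Cfsg.Agent.S4005

/-- A finite group whose set of element orders is exactly {1, 2, 3} has either a normal elementary abelian 3-subgroup of index 2 or a normal elementary abelian 2-subgroup of index 3. -/
theorem result {G : Type*} [Group G] [Finite G] (h : Set.range (orderOf : G → ℕ) = {k : ℕ | 1 ≤ k ∧ k ≤ 3}) :
    (∃ N : Subgroup G, N.Normal ∧ Cfsg.IsElementaryAbelian 3 N ∧ N.index = 2) ∨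
      (∃ N : Subgroup G, N.Normal ∧ Cfsg.IsElementaryAbelian 2 N ∧ N.index = 3) := by
  have hord : ∀ g : G, g = 1 ∨ orderOf g = 2 ∨ orderOf g = 3 := by
    intro g
    have hg : 1 ≤ orderOf g ∧ orderOf g ≤ 3 := h.subset ⟨g, rfl⟩
    obtain h1 | h1 | h1 : orderOf g = 1 ∨ orderOf g = 2 ∨ orderOf g = 3 := by omega
    · exact Or.inl (orderOf_eq_one_iff.1 h1)
    · exact Or.inr (Or.inl h1)
    · exact Or.inr (Or.inr h1)
  have hdvd : ∀ k, 1 ≤ k → k ≤ 3 → k ∣ Nat.card G := by
    intro k h1 h2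
    obtain ⟨g, hg⟩ := h.symm.subset (show k ∈ {k : ℕ | 1 ≤ k ∧ k ≤ 3} from ⟨h1, h2⟩)
    exact hg ▸ _root_.orderOf_dvd_natCard g
  have : Group.IsSolvable G := by
    refine CfsgLib.FewOrders.isSolvable_of_two_primes Nat.prime_two Nat.prime_three fun t ht htd => ?_
    have := Fact.mk ht
    obtain ⟨g, hg⟩ := exists_prime_orderOf_dvd_card' t htd
    rcases hord g with h1 | h1 | h1
    · rw [h1, orderOf_one] at hg; exact absurd hg.symm ht.ne_one
    · exact Or.inl (hg ▸ h1)
    · exact Or.inr (hg ▸ h1)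
  obtain ⟨r, s, hrs, R, hRn, hRp, hRi, T, hTc, -⟩ := CfsgLib.FewOrders.structure_two_orders
    Nat.prime_two Nat.prime_three (by norm_num) hord (hdvd 2 (by norm_num) (by norm_num))
    (hdvd 3 (by norm_num) le_rfl)
  have hrp : r.Prime := by rcases hrs with ⟨rfl, -⟩ | ⟨rfl, -⟩ <;> norm_num
  have hexp : ∀ a ∈ R, a ^ r = 1 := by
    intro a ha
    obtain ⟨k, hk⟩ := hRp ⟨a, ha⟩
    have hd : orderOf a ∣ r ^ k := orderOf_dvd_of_pow_eq_one (by
      rw [← SubmonoidClass.coe_pow (⟨a, ha⟩ : R), hk]; rfl)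
    rcases hord a with h1 | h1 | h1
    · rw [h1, one_pow]
    · rw [h1] at hd
      rw [← (Nat.prime_dvd_prime_iff_eq Nat.prime_two hrp).1 (Nat.prime_two.dvd_of_dvd_pow hd),
        ← h1, pow_orderOf_eq_one]
    · rw [h1] at hd
      rw [← (Nat.prime_dvd_prime_iff_eq Nat.prime_three hrp).1 (Nat.prime_three.dvd_of_dvd_pow hd),
        ← h1, pow_orderOf_eq_one]
  rcases hrs with ⟨rfl, rfl⟩ | ⟨rfl, rfl⟩
  · refine Or.inr ⟨R, hRn, ⟨⟨⟨fun a b => ?_⟩⟩, hexp⟩, hRi⟩
    have hsq : ∀ x : R, x⁻¹ = x := fun x => inv_eq_of_mul_eq_one_right (Subtype.ext (by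
      simpa [pow_two] using hexp x x.2))
    calc a * b = (a * b)⁻¹ := (hsq _).symm
      _ = b * a := by rw [mul_inv_rev, hsq, hsq]
  · refine Or.inl ⟨R, hRn, ⟨⟨⟨fun a b => ?_⟩⟩, hexp⟩, hRi⟩
    have := Fact.mk Nat.prime_two
    obtain ⟨t, ht⟩ := exists_prime_orderOf_dvd_card' 2 (dvd_of_eq hTc.symm)
    have hto : orderOf (t : G) = 2 := by rw [Subgroup.orderOf_coe]; exact ht
    have htt : (t : G) * t = 1 := by rw [← pow_two, ← hto, pow_orderOf_eq_one]
    let φ : R →* R := (MulAut.conjNormal (t : G) : MulAut R).toMonoidHom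
    have hfix : MonoidHom.FixedPointFree φ := by
      intro v hv
      have hv' : ((MulAut.conjNormal (t : G) : MulAut R) v : G) = v := congrArg Subtype.val hv
      rw [MulAut.conjNormal_apply, mul_inv_eq_iff_eq_mul] at hv'
      by_contra hne
      have hv3 : orderOf (v : G) = 3 := orderOf_eq_prime (hexp v v.2) (fun h0 => hne (Subtype.ext h0))
      have hab := Commute.orderOf_mul_eq_mul_orderOf_of_coprime
        (show Commute (t : G) v from hv') (by rw [hto, hv3]; norm_num)
      rw [hto, hv3] at hab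
      rcases hord ((t : G) * v) with h1 | h1 | h1
      · rw [h1, orderOf_one] at hab; norm_num at hab
      · rw [h1] at hab; norm_num at hab
      · rw [h1] at hab; norm_num at hab
    have hinv : Function.Involutive φ := fun v => by
      show (MulAut.conjNormal (t : G) : MulAut R) ((MulAut.conjNormal (t : G) : MulAut R) v) = v
      rw [← MulAut.mul_apply, ← map_mul, htt, map_one, MulAut.one_apply]
    exact hfix.commute_all_of_involutive hinv a b

end Cfsg.Agent.S4005
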