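import Cfsg.Statements.S4006
import Cfsg.Agent.Lib.FewOrders.UpToFour

set_option autoImplicit false
open Cfsg

namespace Cfsg.Agent.S4006

open CfsgLib CfsgLib.FewOrders Subgroup

variable {G : Type*} [Group G] [Finite G]

theorem caseTwo (hu : UpToFour G) (hP : Cfsg.pCore 2 G ≠ ⊥) (c : G) (hc : orderOf c = 3)
    (f : G) (hf : orderOf f = 4) :
    ∃ (N : Subgroup G) (_ : N.Normal),
      (IsPGroup 2 ↥N ∧ Monoid.exponent ↥N = 4 ∧ Group.nilpotencyClass ↥N ≤ 2 ∧ N.index = 3) ∨
      (Cfsg.IsElementaryAbelian 2 N ∧ Nonempty (G ⧸ N ≃* Equiv.Perm (Fin 3))) ∨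
      (Cfsg.IsElementaryAbelian 3 N ∧ ((IsCyclic (G ⧸ N) ∧ N.index = 4) ∨ Nonempty (G ⧸ N ≃* QuaternionGroup 2))) := by
  classical
  have := Fact.mk Nat.prime_two
  have := Fact.mk Nat.prime_three
  set P := Cfsg.pCore 2 G with hPdef
  have hPn : P.Normal := inferInstance
  have hP2 : IsPGroup 2 P := PCore.pCore_isPGroup
  have hc3 : c ^ 3 = 1 := by rw [← hc, pow_orderOf_eq_one]
  have hc1 : c ≠ 1 := fun h0 => by rw [h0, orderOf_one] at hc; norm_num at hc
  -- a Sylow `3`-subgroup has order three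
  have hS : ∀ S : Sylow 3 G, Nat.card (S : Subgroup G) = 3 := by
    intro S
    refine card_eq_prime_of_conj_fpf P S hP Nat.prime_three
      (S.ne_bot_of_dvd_card (hc ▸ _root_.orderOf_dvd_natCard c)) (fun x hx => hu.of_three_group S.2 hx)
      (fun x hx hx1 v hv hxv => ?_)
    by_contra hv1
    exact hu.not_commute (hu.of_three_group S.2 hx) hx1 (hu.of_two_group hP2 hv) hv1 hxv
  have hprimes : ∀ t : ℕ, t.Prime → t ∣ Nat.card G → t = 2 ∨ t = 3 := by
    intro t ht htd
    have := Fact.mk ht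
    obtain ⟨g, hg⟩ := exists_prime_orderOf_dvd_card' t htd
    rcases hu g with h' | h' | h' | h'
    · rw [h', orderOf_one] at hg; exact absurd hg.symm ht.ne_one
    · exact Or.inl (hg ▸ h')
    · exact Or.inr (hg ▸ h')
    · rw [hg] at h'; exact absurd (h' ▸ ht) (by norm_num)
  let R : Sylow 2 G := default
  obtain ⟨S₀⟩ : Nonempty (Sylow 3 G) := inferInstance
  have hfac : (Nat.card G).factorization 3 = 1 := by
    have h3 : Nat.card (S₀ : Subgroup G) = 3 ^ (Nat.card G).factorization 3 := S₀.card_eq_multiplicity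
    rw [hS S₀] at h3
    exact Nat.pow_right_injective (by norm_num : 2 ≤ 3) (h3.symm.trans (pow_one 3).symm)
  have hodd : ∀ m, m ∣ Nat.card G → ¬ 2 ∣ m → m ∣ 3 := by
    intro m hm hm2
    have hm0 : m ≠ 0 := fun h0 => hm2 (h0 ▸ dvd_zero 2)
    have h1 : m = 3 ^ m.primeFactorsList.length :=
      Nat.eq_prime_pow_of_unique_prime_dvd hm0 fun {t} ht htd => by
        rcases hprimes t ht (htd.trans hm) with rfl | rfl
        · exact absurd htd hm2
        · rfl
    rw [h1]
    refine (pow_dvd_pow 3 ?_).trans (dvd_of_eq (pow_one 3))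
    exact hfac ▸ (Nat.prime_three.pow_dvd_iff_le_factorization Nat.card_pos.ne').1 (h1 ▸ hm)
  have hRidx : (R : Subgroup G).index = 3 := by
    refine Nat.dvd_antisymm (hodd _ (index_dvd_card _) R.not_dvd_index) ?_
    have h1 := index_mul_card (R : Subgroup G)
    obtain ⟨a, ha⟩ := IsPGroup.iff_card.1 R.2
    have h3 : 3 ∣ (R : Subgroup G).index * Nat.card R := h1.symm ▸ hc ▸ _root_.orderOf_dvd_natCard c
    rw [ha] at h3
    exact (Nat.Coprime.dvd_of_dvd_mul_right (Nat.Coprime.pow_right a (by norm_num)) h3)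
  have hfixP : ∀ v ∈ P, Commute c v → v = 1 := fun v hv hcv => by
    by_contra hv1
    exact hu.not_commute hc3 hc1 (hu.of_two_group hP2 hv) hv1 hcv
  by_cases hRn : (R : Subgroup G).Normal
  · refine ⟨R, hRn, Or.inl ⟨R.2, ?_, ?_, hRidx⟩⟩
    · refine Nat.dvd_antisymm (Monoid.exponent_dvd_of_forall_pow_eq_one fun x =>
        Subtype.ext (by simpa using hu.of_two_group R.2 x.2)) ?_
      have hfR : f ∈ (R : Subgroup G) := by
        rw [← QuotientGroup.eq_one_iff, ← orderOf_eq_one_iff]
        refine Nat.eq_one_of_dvd_coprimes (show Nat.Coprime 4 3 by norm_num)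
          (hf ▸ orderOf_map_dvd (QuotientGroup.mk' (R : Subgroup G)) f) ?_
        exact hRidx ▸ index_eq_card (R : Subgroup G) ▸ _root_.orderOf_dvd_natCard _
      have := Monoid.order_dvd_exponent (⟨f, hfR⟩ : R)
      rwa [orderOf_mk, hf] at this
    · have : Group.IsNilpotent R := R.2.isNilpotent
      refine nilpotencyClass_le_two (commutator_le_center_of_fpf_three
        (MulAut.conjNormal c : MulAut R).toMonoidHom ?_ ?_ ?_)
      · intro v hv
        have hv' : ((MulAut.conjNormal c : MulAut R) v : G) = v := congrArg Subtype.val hv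
        rw [MulAut.conjNormal_apply, mul_inv_eq_iff_eq_mul] at hv'
        by_contra hne
        exact hu.not_commute hc3 hc1 (hu.of_two_group R.2 v.2) (fun h0 => hne (Subtype.ext h0)) hv'
      · intro v
        show (MulAut.conjNormal c : MulAut R) ((MulAut.conjNormal c : MulAut R)
          ((MulAut.conjNormal c : MulAut R) v)) = v
        rw [← MulAut.mul_apply, ← map_mul, ← MulAut.mul_apply, ← map_mul]
        rw [show c * c * c = 1 by rw [← hc3, pow_succ, pow_two]]
        simp
      · intro hd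
        obtain ⟨a, ha⟩ := IsPGroup.iff_card.1 R.2
        have ha' : Nat.card R = 2 ^ a := ha
        rw [ha'] at hd
        exact absurd (Nat.prime_three.dvd_of_dvd_pow hd) (by norm_num)
  -- now `R` is not normal
  set Q := G ⧸ P
  have hQ : UpToFour Q := hu.quotient P
  have hPR : P ≤ (R : Subgroup G) := PCore.pCore_le_sylow R
  have hQne : Nontrivial Q := by
    rw [QuotientGroup.nontrivial_iff]
    intro htop
    have : (R : Subgroup G) = ⊤ := top_le_iff.1 (htop ▸ hPR)
    rw [this, index_top] at hRidx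
    norm_num at hRidx
  obtain ⟨B, hB⟩ := MinNormal.exists_isMinNormal (G := Q)
  have : Group.IsSolvable G := hu.isSolvable
  obtain ⟨t, ht, hel, htB, -⟩ := hB.elementaryAbelian_of_solvable
  have := Fact.mk ht
  obtain ⟨k, hk⟩ := IsPGroup.iff_card.1 htB
  have hk0 : k ≠ 0 := fun h0 => hB.2.1 (card_eq_one.1 (by rw [hk, h0, pow_zero]))
  have hBG : Nat.card B ∣ Nat.card G := (card_subgroup_dvd_card B).trans (card_quotient_dvd_card P)
  have ht3 : t = 3 := by
    rcases hprimes t ht ((dvd_pow_self t hk0).trans (hk ▸ hBG)) with rfl | rfl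
    · exfalso
      have h1 := PCore.le_pCore hB.1 htB
      have h0 : Cfsg.pCore 2 Q = ⊥ := PCore.pCore_quotient_pCore
      rw [h0, le_bot_iff] at h1
      exact hB.2.1 h1
    · rfl
  subst ht3
  have hBcard : Nat.card B = 3 := by
    refine Nat.dvd_antisymm (hodd _ hBG (fun h2 => ?_)) (hk ▸ dvd_pow_self 3 hk0)
    rw [hk] at h2
    exact absurd (Nat.prime_two.dvd_of_dvd_pow h2) (by norm_num)
  set M := B.comap (QuotientGroup.mk' P) with hM
  have hMn : M.Normal := hB.1.comap _
  have hPM : P ≤ M := fun x hx => by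
    rw [hM, mem_comap, QuotientGroup.mk'_apply, (QuotientGroup.eq_one_iff x).2 hx]
    exact one_mem _
  -- the element `c` lies in `M`
  have hcM : c ∈ M := by
    have h1 : (R : Subgroup G).index ∣ 3 := dvd_of_eq hRidx
    rw [hM, mem_comap]
    set x := QuotientGroup.mk' P c
    have hx3 : x ^ 3 = 1 := by rw [← map_pow, hc3, map_one]
    have := hB.1
    have hsup : IsPGroup 3 (zpowers x ⊔ B : Subgroup Q) := by
      refine IsPGroup.to_sup_of_normal_right (IsPGroup.of_card (n := (orderOf x).factorization 3) ?_) htB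
      rw [Nat.card_zpowers]
      rcases (Nat.dvd_prime Nat.prime_three).1 (orderOf_dvd_of_pow_eq_one hx3) with h' | h' <;>
        simp [h', Nat.prime_three.factorization_self]
    have hcard : Nat.card (zpowers x ⊔ B : Subgroup Q) ∣ 3 := by
      refine hodd _ ((card_subgroup_dvd_card _).trans (card_quotient_dvd_card P)) fun h2 => ?_
      obtain ⟨a, ha⟩ := IsPGroup.iff_card.1 hsup
      rw [ha] at h2
      exact absurd (Nat.prime_two.dvd_of_dvd_pow h2) (by norm_num)
    have heq : B = zpowers x ⊔ B :=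
      eq_of_le_of_card_ge le_sup_right (hBcard ▸ Nat.le_of_dvd (by norm_num) hcard)
    rw [heq]
    exact mem_sup_left (mem_zpowers x)
  set C := zpowers c with hC
  set N := normalizer (C : Set G) with hN
  have hCcard : Nat.card C = 3 := by rw [hC, Nat.card_zpowers, hc]
  have hNP : ∀ y ∈ N, y ∈ P → y = 1 := by
    intro y hyN hyP
    refine hfixP y hyP ?_
    have h1 : c * y * c⁻¹ * y⁻¹ ∈ P := mul_mem (hPn.conj_mem y hyP c) (inv_mem hyP)
    have h2 : c * y * c⁻¹ * y⁻¹ ∈ C := by
      rw [mul_assoc c, mul_assoc c]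
      exact mul_mem (mem_zpowers c) ((mem_normalizer_iff.1 hyN _).1 (inv_mem (mem_zpowers c)))
    obtain ⟨a, ha⟩ := IsPGroup.iff_orderOf.1 hP2 ⟨_, h1⟩
    rw [orderOf_mk] at ha
    have h3 : c * y * c⁻¹ * y⁻¹ = 1 := orderOf_eq_one_iff.1 (Nat.eq_one_of_dvd_coprimes
      (Nat.Coprime.pow_left a (show Nat.Coprime 2 3 by norm_num)) ha.dvd
      (hc ▸ orderOf_dvd_of_mem_zpowers h2))
    rw [← commutatorElement_eq_one_iff_commute]
    exact h3
  -- Frattini
  have hCM : C ≤ M := zpowers_le.2 hcM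
  have hmapB : M.map (QuotientGroup.mk' P) = B := by
    rw [hM, map_comap_eq_self_of_surjective (QuotientGroup.mk'_surjective P)]
  have hBC : C.map (QuotientGroup.mk' P) = B := by
    refine eq_of_le_of_card_ge (hmapB ▸ map_mono hCM) ?_
    rw [hBcard, hC, MonoidHom.map_zpowers, Nat.card_zpowers]
    refine le_of_eq (orderOf_eq_prime (by rw [← map_pow, hc3, map_one]) fun h0 => ?_).symm
    have hcP : c ∈ P := (QuotientGroup.eq_one_iff c).1 h0
    exact hc1 (hfixP c hcP (Commute.refl c))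
  have hsurj : N.map (QuotientGroup.mk' P) = ⊤ := by
    have hcard : Nat.card (C.subgroupOf M) = 3 := by
      rw [← hCcard]; exact Nat.card_congr (subgroupOfEquivOfLe hCM).toEquiv
    have hMidx : ¬ 3 ∣ (C.subgroupOf M).index := by
      intro hd
      have h9 : 3 * 3 ∣ Nat.card M := by
        rw [← card_mul_index (C.subgroupOf M), hcard]
        exact Nat.mul_dvd_mul_left 3 hd
      have h9' := (Nat.prime_three.pow_dvd_iff_le_factorization (Nat.card_pos (α := G)).ne').1
        ((pow_two 3).symm ▸ h9.trans (card_subgroup_dvd_card M))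
      omega
    let T : Sylow 3 M := (IsPGroup.of_card (n := 1) (by rw [hcard]; rfl)).toSylow hMidx
    have htop := Sylow.normalizer_sup_eq_top T
    have hTC : ((T : Subgroup M).map M.subtype) = C := by
      show (C.subgroupOf M).map M.subtype = C
      rw [subgroupOf_map_subtype, inf_eq_left.2 hCM]
    rw [hTC] at htop
    have h1 := congrArg (Subgroup.map (QuotientGroup.mk' P)) htop
    rw [Subgroup.map_sup, hmapB] at h1
    have h2 : B ≤ N.map (QuotientGroup.mk' P) := hBC ▸ map_mono le_normalizer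
    rw [sup_eq_left.2 h2] at h1
    rw [h1]
    exact map_top_of_surjective _ (QuotientGroup.mk'_surjective P)
  -- the involution
  obtain ⟨τ, hτN, hτ⟩ : ∃ τ ∈ N, orderOf τ = 2 := by
    suffices h2 : 2 ∣ Nat.card N by
      obtain ⟨⟨τ, hτ⟩, hτo⟩ := exists_prime_orderOf_dvd_card' 2 h2
      exact ⟨τ, hτ, by rwa [orderOf_mk] at hτo⟩
    have h1 : Nat.card Q ∣ Nat.card N := by
      have := card_map_dvd N (QuotientGroup.mk' P)
      rwa [hsurj, card_top] at this
    refine dvd_trans ?_ h1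
    by_contra h2
    apply hRn
    have hle : (R : Subgroup G) ≤ P := by
      intro x hx
      rw [← QuotientGroup.eq_one_iff, ← orderOf_eq_one_iff]
      obtain ⟨a, ha⟩ := IsPGroup.iff_orderOf.1 R.2 ⟨x, hx⟩
      rw [orderOf_mk] at ha
      exact Nat.eq_one_of_dvd_coprimes (((Nat.prime_two.coprime_iff_not_dvd).2 h2).pow_left a)
        (ha ▸ orderOf_map_dvd (QuotientGroup.mk' P) x) (_root_.orderOf_dvd_natCard _)
    rw [le_antisymm hle hPR]
    exact hPn
  have hτ2 : τ * τ = 1 := by rw [← pow_two, ← hτ, pow_orderOf_eq_one]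
  have hτ1 : τ ≠ 1 := fun h0 => by rw [h0, orderOf_one] at hτ; norm_num at hτ
  have hconj : ∀ y ∈ N, y * c * y⁻¹ = c ∨ y * c * y⁻¹ = c⁻¹ := by
    intro y hy
    have h1 : y * c * y⁻¹ ∈ C := (mem_normalizer_iff.1 hy c).1 (mem_zpowers c)
    rw [hC, ← mem_powers_iff_mem_zpowers, Submonoid.mem_powers_iff] at h1
    obtain ⟨n, hn⟩ := h1
    rw [pow_eq_pow_mod n hc3] at hn
    have hlt : n % 3 < 3 := Nat.mod_lt n (by norm_num)
    obtain h' | h' | h' : n % 3 = 0 ∨ n % 3 = 1 ∨ n % 3 = 2 := by omega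
    · rw [h', pow_zero, eq_comm, conj_eq_one_iff] at hn; exact absurd hn hc1
    · rw [h', pow_one] at hn; exact Or.inl hn.symm
    · rw [h'] at hn
      refine Or.inr (hn.symm.trans (eq_inv_of_mul_eq_one_left ?_))
      rw [← pow_succ, hc3]
  have hτc : τ * c * τ⁻¹ = c⁻¹ := by
    refine (hconj τ hτN).resolve_left fun h0 => hu.not_commute hc3 hc1 (b := τ)
      (by rw [show (4 : ℕ) = 2 * 2 from rfl, pow_mul, pow_two τ, hτ2, one_pow]) hτ1 ?_
    exact (mul_inv_eq_iff_eq_mul.1 h0).symm
  -- `P` is elementary abelian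
  set φ : MulAut P := MulAut.conjNormal c
  set τ' : MulAut P := MulAut.conjNormal τ
  have hfix : ∀ v : P, φ v = v → v = 1 := fun v hv => by
    have hv' : (φ v : G) = v := congrArg Subtype.val hv
    rw [MulAut.conjNormal_apply, mul_inv_eq_iff_eq_mul] at hv'
    exact Subtype.ext (hfixP v v.2 hv')
  have hτM : τ ∉ M := by
    intro hτM
    have h1 : QuotientGroup.mk' P τ ∈ B := hτM
    have hτP : τ ∈ P := by
      rw [← QuotientGroup.eq_one_iff, ← orderOf_eq_one_iff]
      exact Nat.eq_one_of_dvd_coprimes (show Nat.Coprime 2 3 by norm_num)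
        (hτ ▸ orderOf_map_dvd (QuotientGroup.mk' P) τ) (by rw [← hBcard]; exact (Subgroup.orderOf_mk _ h1) ▸ _root_.orderOf_dvd_natCard (⟨_, h1⟩ : B))
    exact hτ1 (hNP τ hτN hτP)
  obtain ⟨hcomm, hsq⟩ := exponent_two_of_sym_three φ τ' hfix
    (by rw [← map_pow, hc3, map_one])
    (by rw [← map_inv, ← map_mul, ← map_mul, hτc, map_inv])
    (fun v => Subtype.ext (by simpa using hu.of_two_group hP2 v.2)) (fun j v => by
      apply Subtype.ext
      rw [SubmonoidClass.coe_pow, Subgroup.coe_mul, ← map_pow, ← map_mul, MulAut.conjNormal_apply]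
      set w := c ^ j * τ with hw
      have hw2 : w * w = 1 := by
        have h1 : τ * c ^ j * τ⁻¹ = (c ^ j)⁻¹ := by rw [← conj_pow, hτc, inv_pow]
        have hinv : τ⁻¹ = τ := inv_eq_of_mul_eq_one_right hτ2
        rw [hinv] at h1
        calc w * w = c ^ j * (τ * c ^ j * τ) := by rw [hw]; group
          _ = 1 := by rw [h1, mul_inv_cancel]
      have hwinv : w⁻¹ = w := inv_eq_of_mul_eq_one_right hw2
      have hwM : (v : G) * w ∉ M := fun hm => hτM (by
        have := mul_mem (inv_mem (mul_mem (hPM v.2) (pow_mem hcM j))) hm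
        convert this using 1
        rw [hw]; group)
      have h4 : ((v : G) * w) ^ 4 = 1 := by
        refine (hu.pow_four_or_three _).resolve_right fun h3 => hwM ?_
        rw [← QuotientGroup.eq_one_iff]
        have h2 : (((v : G) * w : G) : G ⧸ M) ^ 2 = 1 := by
          have e : (((v : G) * w : G) : G ⧸ M) = (w : G ⧸ M) := by
            rw [QuotientGroup.mk_mul, (QuotientGroup.eq_one_iff _).2 (hPM v.2), one_mul]
          rw [e, pow_two, ← QuotientGroup.mk_mul, hw2]; rfl
        have h3' : (((v : G) * w : G) : G ⧸ M) ^ 3 = 1 := by rw [← QuotientGroup.mk_pow, h3]; rfl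
        have := pow_gcd_eq_one.2 ⟨h2, h3'⟩
        simpa using this
      rw [show 4 = 2 * 2 from rfl, pow_mul] at h4
      rw [hwinv]
      have e : ((v : G) * w) ^ 2 = (v : G) * (w * v * w) := by rw [pow_two]; group
      rw [e] at h4
      exact h4)
  refine ⟨P, hPn, Or.inr (Or.inl ⟨⟨⟨⟨hcomm⟩⟩, fun a ha => congrArg Subtype.val (hsq ⟨a, ha⟩)⟩, ?_⟩)⟩
  -- the quotient has order six
  have hN6 : Nat.card N ∣ 6 ∧ 6 ∣ Nat.card N := by
    have hcen : ∀ y : G, Commute y c → y ∈ C := by
      intro y hy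
      set Z := centralizer ({c} : Set G)
      have hZ : Nat.card Z ∣ 3 := by
        refine hodd _ (card_subgroup_dvd_card Z) fun h2 => ?_
        obtain ⟨⟨z, hz⟩, hzo⟩ := exists_prime_orderOf_dvd_card' 2 h2
        rw [orderOf_mk] at hzo
        refine hu.not_commute hc3 hc1 (b := z) ?_ (fun h0 => ?_) (show c * z = z * c from (mem_centralizer_singleton_iff.1 hz).symm)
        · rw [show (4 : ℕ) = 2 * 2 from rfl, pow_mul, ← hzo, pow_orderOf_eq_one, one_pow]
        · rw [h0, orderOf_one] at hzo; norm_num at hzo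
      have hle : C ≤ Z := zpowers_le.2 (mem_centralizer_singleton_iff.2 (Commute.refl c))
      rw [eq_of_le_of_card_ge hle (hCcard ▸ Nat.le_of_dvd (by norm_num) hZ)]
      exact mem_centralizer_singleton_iff.2 hy.eq
    have hCle : C ≤ N := le_normalizer
    have hidx : (C.subgroupOf N).index = 2 := by
      rw [index_eq_two_iff]
      refine ⟨⟨τ, hτN⟩, fun ⟨y, hy⟩ => ?_⟩
      simp only [mem_subgroupOf, Subgroup.coe_mul]
      rcases hconj y hy with h' | h'
      · refine Or.inr ⟨hcen y (mul_inv_eq_iff_eq_mul.1 h'), fun h0 => ?_⟩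
        have := (mul_mem_cancel_left (hcen y (mul_inv_eq_iff_eq_mul.1 h'))).1 h0
        exact hτM (hCM this)
      · refine Or.inl ⟨hcen (y * τ) ?_, fun h0 => ?_⟩
        · show y * τ * c = c * (y * τ)
          calc y * τ * c = y * (τ * c * τ⁻¹) * τ := by group
            _ = (y * c⁻¹ * y⁻¹) * (y * τ) := by rw [hτc]; group
            _ = c * (y * τ) := by rw [← conj_inv, h', inv_inv]
        · obtain ⟨i, rfl⟩ := mem_zpowers_iff.1 h0
          have h'' : c = c⁻¹ := by
            rw [← h']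
            group
          have : c ^ 2 = 1 := by rw [pow_two]; nth_rewrite 2 [h'']; rw [mul_inv_cancel]
          exact hc1 (by rw [pow_succ, this, one_mul] at hc3; exact hc3)
    have h1 := card_mul_index (C.subgroupOf N)
    rw [hidx, Nat.card_congr (subgroupOfEquivOfLe hCle).toEquiv, hCcard] at h1
    rw [← h1]; norm_num
  have hQ6 : Nat.card Q = 6 := by
    rw [← card_top, ← hsurj, ← Nat.dvd_antisymm hN6.1 hN6.2]
    rw [← Subgroup.range_subtype N, MonoidHom.map_range, Subgroup.range_subtype N]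
    refine (Nat.card_congr (MonoidHom.ofInjective (f := (QuotientGroup.mk' P).comp N.subtype)
      fun y₁ y₂ he => Subtype.ext ?_).toEquiv).symm
    exact inv_mul_eq_one.1 (hNP _ (y₁⁻¹ * y₂ : N).2 (QuotientGroup.eq.1 he))
  set τb := QuotientGroup.mk' P τ
  set cb := QuotientGroup.mk' P c
  have hτb1 : τb ≠ 1 := fun h0 => hτM (hPM ((QuotientGroup.eq_one_iff τ).1 h0))
  have hτbo : orderOf τb = 2 := orderOf_eq_prime (by rw [← map_pow, pow_two, hτ2, map_one]) hτb1
  set T := zpowers τb
  have hTcard : Nat.card T = 2 := by rw [Nat.card_zpowers, hτbo]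
  have hT3 : Nat.card (Q ⧸ T) = 3 := by
    have h1 := index_mul_card T
    rw [hTcard, hQ6, index_eq_card] at h1
    exact Nat.eq_of_mul_eq_mul_right (by norm_num : 0 < 2) (h1.trans (by norm_num : 6 = 3 * 2))
  have hker : (MulAction.toPermHom Q (Q ⧸ T)).ker = ⊥ := by
    rw [← normalCore_eq_ker]
    by_contra hne
    have heq : T.normalCore = T := by
      refine eq_of_le_of_card_ge T.normalCore_le ?_
      rw [hTcard]
      exact (one_lt_card_iff_ne_bot _).2 hne
    have hTn : T.Normal := heq ▸ T.normalCore_normal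
    have hmem := hTn.conj_mem τb (mem_zpowers τb) cb
    have heq' : cb * τb * cb⁻¹ = τb := by
      by_contra hne'
      have hsub : zpowers (cb * τb * cb⁻¹) ≤ T := zpowers_le.2 hmem
      have := eq_of_le_of_card_ge hsub (by
        rw [hTcard, Nat.card_zpowers, show cb * τb * cb⁻¹ = MulAut.conj cb τb from rfl,
          MulEquiv.orderOf_eq, hτbo])
      have h1 : τb ∈ zpowers (cb * τb * cb⁻¹) := this ▸ mem_zpowers τb
      rw [← mem_powers_iff_mem_zpowers, Submonoid.mem_powers_iff] at h1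
      obtain ⟨n, hn⟩ := h1
      have h2 : (cb * τb * cb⁻¹) ^ 2 = 1 := by
        rw [conj_pow, ← hτbo, pow_orderOf_eq_one]; group
      rw [pow_eq_pow_mod n h2] at hn
      obtain h' | h' : n % 2 = 0 ∨ n % 2 = 1 := by omega
      · rw [h', pow_zero] at hn; exact hτb1 hn.symm
      · rw [h', pow_one] at hn; exact hne' hn
    refine hQ.not_commute (a := cb) (b := τb) (by rw [← map_pow, hc3, map_one]) (fun h0 => ?_)
      (by rw [show (4 : ℕ) = 2 * 2 from rfl, pow_mul, ← hτbo, pow_orderOf_eq_one, one_pow]) hτb1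
      (mul_inv_eq_iff_eq_mul.1 heq')
    exact hc1 (hfixP c ((QuotientGroup.eq_one_iff c).1 h0) (Commute.refl c))
  have e3 : Q ⧸ T ≃ Fin 3 := hT3 ▸ Finite.equivFin (Q ⧸ T)
  refine ⟨(MulEquiv.ofBijective (MulAction.toPermHom Q (Q ⧸ T)) ?_).trans e3.permCongrHom⟩
  refine (Nat.bijective_iff_injective_and_card _).2 ⟨(MonoidHom.ker_eq_bot_iff _).1 hker, ?_⟩
  rw [hQ6, Nat.card_perm, hT3]
  rfl

theorem caseThree (hu : UpToFour G) (hP : Cfsg.pCore 2 G = ⊥) (f : G) (hf : orderOf f = 4) :
    ∃ (N : Subgroup G) (_ : N.Normal),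
      (IsPGroup 2 ↥N ∧ Monoid.exponent ↥N = 4 ∧ Group.nilpotencyClass ↥N ≤ 2 ∧ N.index = 3) ∨
      (Cfsg.IsElementaryAbelian 2 N ∧ Nonempty (G ⧸ N ≃* Equiv.Perm (Fin 3))) ∨
      (Cfsg.IsElementaryAbelian 3 N ∧ ((IsCyclic (G ⧸ N) ∧ N.index = 4) ∨ Nonempty (G ⧸ N ≃* QuaternionGroup 2))) := by
  classical
  have := Fact.mk Nat.prime_two
  have := Fact.mk Nat.prime_three
  have : Group.IsSolvable G := hu.isSolvable
  have : Nontrivial G := nontrivial_of_ne f 1 fun h0 => by
    rw [h0, orderOf_one] at hf; norm_num at hf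
  have hprimes : ∀ t : ℕ, t.Prime → t ∣ Nat.card G → t = 2 ∨ t = 3 := by
    intro t ht htd
    have := Fact.mk ht
    obtain ⟨g, hg⟩ := exists_prime_orderOf_dvd_card' t htd
    rcases hu g with h' | h' | h' | h'
    · rw [h', orderOf_one] at hg; exact absurd hg.symm ht.ne_one
    · exact Or.inl (hg ▸ h')
    · exact Or.inr (hg ▸ h')
    · rw [hg] at h'; exact absurd (h' ▸ ht) (by norm_num)
  set F := Cfsg.pCore 3 G with hFdef
  have hFn : F.Normal := inferInstance
  have hF3 : IsPGroup 3 F := PCore.pCore_isPGroup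
  have hFne : F ≠ ⊥ := by
    obtain ⟨A, hA⟩ := MinNormal.exists_isMinNormal (G := G)
    obtain ⟨t, ht, -, htA, -⟩ := hA.elementaryAbelian_of_solvable
    have := Fact.mk ht
    obtain ⟨k, hk⟩ := IsPGroup.iff_card.1 htA
    have hk0 : k ≠ 0 := fun h0 => hA.2.1 (card_eq_one.1 (by rw [hk, h0, pow_zero]))
    rcases hprimes t ht ((dvd_pow_self t hk0).trans (hk ▸ card_subgroup_dvd_card A)) with rfl | rfl
    · have h1 := PCore.le_pCore hA.1 htA
      rw [hP, le_bot_iff] at h1
      exact absurd h1 hA.2.1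
    · exact fun h0 => hA.2.1 (le_bot_iff.1 (h0 ▸ PCore.le_pCore hA.1 htA))
  have : Nontrivial F := (nontrivial_iff_ne_bot F).2 hFne
  let S : Sylow 2 G := default
  letI : MulDistribMulAction (S : Subgroup G) F :=
    MulDistribMulAction.compHom F ((MulAut.conjNormal (H := F)).comp (S : Subgroup G).subtype)
  have hS4 : ∀ x : (S : Subgroup G), x ^ 4 = 1 := fun x =>
    Subtype.ext (by simpa using hu.of_two_group S.2 x.2)
  have hfpf : Frobenius.IsFPF (S : Subgroup G) F := by
    intro s hs v hv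
    have hv' : (MulAut.conjNormal (s : G) v : G) = v := congrArg Subtype.val hv
    rw [MulAut.conjNormal_apply, mul_inv_eq_iff_eq_mul] at hv'
    by_contra hne
    exact hu.not_commute (hu.of_three_group hF3 v.2) (fun h0 => hne (Subtype.ext h0))
      (hu.of_two_group S.2 s.2) (fun h0 => hs (Subtype.ext h0)) (Commute.symm hv')
  have hfG : 2 ∣ Nat.card G := (Dvd.intro 2 rfl : 2 ∣ 4).trans (hf ▸ _root_.orderOf_dvd_natCard f)
  obtain ⟨z, hz⟩ := exists_prime_orderOf_dvd_card' 2 (S.dvd_card_of_dvd_card hfG)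
  have hz1 : z ≠ 1 := fun h0 => by rw [h0, orderOf_one] at hz; norm_num at hz
  have hz2 : z * z = 1 := by
    rw [← pow_two]; exact orderOf_dvd_iff_pow_eq_one.1 (dvd_of_eq hz)
  have huniq : ∀ x : (S : Subgroup G), orderOf x = 2 → x = z := fun x hx =>
    hfpf.involution_unique (fun h0 => by rw [h0, orderOf_one] at hx; norm_num at hx)
      (by rw [← pow_two]; exact orderOf_dvd_iff_pow_eq_one.1 (dvd_of_eq hx)) hz1 hz2
  -- the quotient
  set Q := G ⧸ F
  let π : (S : Subgroup G) →* Q := (QuotientGroup.mk' F).comp (S : Subgroup G).subtype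
  have hπ : Function.Injective π := by
    rw [injective_iff_map_eq_one]
    intro x hx
    have hxF : (x : G) ∈ F := (QuotientGroup.eq_one_iff (x : G)).1 hx
    have h3 : (x : G) ^ 3 = 1 := hu.of_three_group hF3 hxF
    have h4 : (x : G) ^ 4 = 1 := hu.of_two_group S.2 x.2
    rw [pow_succ, h3, one_mul] at h4
    exact Subtype.ext h4
  have hQ : UpToFour Q := hu.quotient F
  have hQ3 : ¬ 3 ∣ Nat.card Q := by
    intro hd
    obtain ⟨a, ha⟩ := exists_prime_orderOf_dvd_card' 3 hd
    have : Nontrivial Q := nontrivial_of_ne a 1 fun h0 => by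
      rw [h0, orderOf_one] at ha; norm_num at ha
    obtain ⟨B, hB⟩ := MinNormal.exists_isMinNormal (G := Q)
    obtain ⟨t, ht, hel, htB, -⟩ := hB.elementaryAbelian_of_solvable
    have := Fact.mk ht
    obtain ⟨k, hk⟩ := IsPGroup.iff_card.1 htB
    have hk0 : k ≠ 0 := fun h0 => hB.2.1 (card_eq_one.1 (by rw [hk, h0, pow_zero]))
    rcases hprimes t ht ((dvd_pow_self t hk0).trans
      (hk ▸ (card_subgroup_dvd_card B).trans (card_quotient_dvd_card F))) with rfl | rfl
    · let SQ : Sylow 2 Q := S.mapSurjective (f := QuotientGroup.mk' F) (QuotientGroup.mk'_surjective F)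
      have hle : B ≤ π.range := by
        have h1 : B ≤ (SQ : Subgroup Q) :=
          (PCore.le_pCore hB.1 htB).trans (PCore.pCore_le_sylow SQ)
        refine h1.trans (le_of_eq ?_)
        rw [MonoidHom.range_comp, Subgroup.range_subtype]
        rfl
      have hB1 : ∀ b ∈ B, b = 1 ∨ b = π z := by
        intro b hb
        obtain ⟨x, rfl⟩ := hle hb
        rcases (Nat.dvd_prime Nat.prime_two).1 (orderOf_dvd_of_pow_eq_one
          (hπ (by rw [map_pow, hel.2 _ hb, map_one]) : x ^ 2 = 1)) with h' | h'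
        · exact Or.inl (by rw [orderOf_eq_one_iff.1 h', map_one])
        · exact Or.inr (by rw [huniq x h'])
      have hzB : π z ∈ B := by
        obtain ⟨⟨b, hb⟩, hb1⟩ := ne_bot_iff_exists_ne_one.1 hB.2.1
        rcases hB1 b hb with h' | h'
        · exact absurd (Subtype.ext h') hb1
        · exact h' ▸ hb
      have hconj : a * π z * a⁻¹ = π z := by
        rcases hB1 _ (hB.1.conj_mem _ hzB a) with h' | h'
        · exact absurd (hπ (by rw [conj_eq_one_iff.1 h', map_one] : π z = π 1)) hz1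
        · exact h'
      refine hQ.not_commute (a := a) (b := π z) (by rw [← ha, pow_orderOf_eq_one])
        (fun h0 => by rw [h0, orderOf_one] at ha; norm_num at ha)
        (by rw [← map_pow, hS4, map_one]) (fun h0 => hz1 (hπ (h0.trans π.map_one.symm)))
        (mul_inv_eq_iff_eq_mul.1 hconj)
    · have h1 := PCore.le_pCore hB.1 htB
      have h0 : Cfsg.pCore 3 Q = ⊥ := PCore.pCore_quotient_pCore
      rw [h0, le_bot_iff] at h1
      exact hB.2.1 h1
  have hQ2 : IsPGroup 2 Q := by
    refine IsPGroup.of_card (n := (Nat.card Q).primeFactorsList.length) ?_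
    refine Nat.eq_prime_pow_of_unique_prime_dvd Nat.card_pos.ne' fun {t} ht htd => ?_
    rcases hprimes t ht (htd.trans (card_quotient_dvd_card F)) with rfl | rfl
    · rfl
    · exact absurd htd hQ3
  have hsurjπ : Function.Surjective π := by
    rw [← MonoidHom.range_eq_top]
    let SQ : Sylow 2 Q := S.mapSurjective (f := QuotientGroup.mk' F) (QuotientGroup.mk'_surjective F)
    have h1 : (SQ : Subgroup Q) = ⊤ := by
      exact (SQ.3 (hQ2.to_subgroup ⊤) le_top).symm
    rw [← h1, MonoidHom.range_comp, Subgroup.range_subtype]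
    rfl
  let e : (S : Subgroup G) ≃* Q := MulEquiv.ofBijective π ⟨hπ, hsurjπ⟩
  -- `F` is elementary abelian
  have hEl : Cfsg.IsElementaryAbelian 3 F :=
    ⟨⟨⟨fun u v => (hfpf.commute_of_involution hz1 hz2 u v).eq⟩⟩,
      fun a ha => hu.of_three_group hF3 ha⟩
  refine ⟨F, hFn, Or.inr (Or.inr ⟨hEl, ?_⟩)⟩
  have hne2 : Nat.card (S : Subgroup G) ≠ 2 := by
    intro h2
    have hf2 : orderOf (QuotientGroup.mk' F f) ∣ 2 := by
      rw [← h2, Nat.card_congr e.toEquiv]; exact _root_.orderOf_dvd_natCard _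
    have hfF : f ^ 2 ∈ F := (QuotientGroup.eq_one_iff _).1 (by
      have := orderOf_dvd_iff_pow_eq_one.1 hf2
      rwa [← map_pow] at this)
    have h3 := hu.of_three_group hF3 hfF
    have h4 : f ^ 4 = 1 := by rw [← hf, pow_orderOf_eq_one]
    rw [← pow_mul, show 2 * 3 = 4 + 2 from rfl, pow_add, h4, one_mul] at h3
    have h5 := orderOf_dvd_of_pow_eq_one h3
    rw [hf] at h5
    norm_num at h5
  rcases cyclic_four_or_quaternion hS4 z hz huniq hne2 with ⟨h1, h2⟩ | h'
  · refine Or.inl ⟨?_, by rw [index_eq_card, ← h2]; exact (Nat.card_congr e.toEquiv).symm⟩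
    exact isCyclic_of_surjective e e.surjective
  · exact Or.inr (h'.map fun e' => e.symm.trans e')

/-- A finite group whose set of element orders is exactly {1, 2, 3, 4} has a normal subgroup N such that either N is a 2-group of exponent 4 and nilpotency class at most 2 with G/N of order 3, or N is an elementary abelian 2-group with G/N isomorphic to the symmetric group of degree 3, or N is an elementary abelian 3-group with G/N cyclic of order 4 or quaternion of order 8. -/
theorem result {G : Type*} [Group G] [Finite G] (h : Set.range (orderOf : G → ℕ) = {k : ℕ | 1 ≤ k ∧ k ≤ 4}) :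
    ∃ (N : Subgroup G) (_ : N.Normal),
      (IsPGroup 2 ↥N ∧ Monoid.exponent ↥N = 4 ∧ Group.nilpotencyClass ↥N ≤ 2 ∧ N.index = 3) ∨
      (Cfsg.IsElementaryAbelian 2 N ∧ Nonempty (G ⧸ N ≃* Equiv.Perm (Fin 3))) ∨
      (Cfsg.IsElementaryAbelian 3 N ∧ ((IsCyclic (G ⧸ N) ∧ N.index = 4) ∨ Nonempty (G ⧸ N ≃* QuaternionGroup 2))) := by
  classical
  have := Fact.mk Nat.prime_two
  have := Fact.mk Nat.prime_three
  have hu : CfsgLib.FewOrders.UpToFour G := by
    intro g
    have hg : 1 ≤ orderOf g ∧ orderOf g ≤ 4 := h.subset ⟨g, rfl⟩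
    obtain h1 | h1 | h1 | h1 : orderOf g = 1 ∨ orderOf g = 2 ∨ orderOf g = 3 ∨ orderOf g = 4 := by omega
    · exact Or.inl (orderOf_eq_one_iff.1 h1)
    · exact Or.inr (Or.inl h1)
    · exact Or.inr (Or.inr (Or.inl h1))
    · exact Or.inr (Or.inr (Or.inr h1))
  have hex : ∀ k, 1 ≤ k → k ≤ 4 → ∃ g : G, orderOf g = k := fun k h1 h2 =>
    h.symm.subset (show k ∈ {k : ℕ | 1 ≤ k ∧ k ≤ 4} from ⟨h1, h2⟩)
  obtain ⟨c, hc⟩ := hex 3 (by norm_num) (by norm_num)
  obtain ⟨f, hf⟩ := hex 4 (by norm_num) le_rfl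
  have hc3 : c ^ 3 = 1 := by rw [← hc, pow_orderOf_eq_one]
  have hc1 : c ≠ 1 := fun h0 => by rw [h0, orderOf_one] at hc; norm_num at hc
  have hf4 : f ^ 4 = 1 := by rw [← hf, pow_orderOf_eq_one]
  have : Group.IsSolvable G := hu.isSolvable
  by_cases hP : Cfsg.pCore 2 G = ⊥
  · exact caseThree hu hP f hf
  · exact caseTwo hu hP c hc f hf

end Cfsg.Agent.S4006
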