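import Cfsg.Statements.S4010
import Cfsg.Agent.H79Linear

set_option autoImplicit false
open Cfsg

namespace Cfsg.Agent.S4010

/-- Let F be a field, n ≥ 1, and P a finite p-group (p a prime) admitting an injective homomorphism into the general linear group of degree n over F. Then the derived length of P is at most ⌊log₂ n⌋ + 1: that term of the derived series of P is trivial. -/
theorem result {P : Type*} [Group P] [Finite P] (p : ℕ) [Fact p.Prime] (hP : IsPGroup p P) (F : Type*) [Field F] (n : ℕ) (hn : 1 ≤ n) (ρ : P →* Matrix.GeneralLinearGroup (Fin n) F) (hρ : Function.Injective ρ) : derivedSeries P (Nat.log 2 n + 1) = ⊥ := by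
  classical
  have hp := (Fact.out : p.Prime)
  have hlog : n < 2 ^ (Nat.log 2 n + 1) := Nat.lt_pow_succ_log_self Nat.one_lt_two n
  let σ : P →* Module.End F (Fin n → F) :=
    (Matrix.toLinAlgEquiv' : Matrix (Fin n) (Fin n) F ≃ₐ[F] _).toMonoidHom.comp
      ((Units.coeHom (Matrix (Fin n) (Fin n) F)).comp ρ)
  have hσ : Function.Injective σ :=
    (Matrix.toLinAlgEquiv' : Matrix (Fin n) (Fin n) F ≃ₐ[F] _).injective.comp (Units.val_injective.comp hρ)
  rw [eq_bot_iff]
  intro g hg
  rw [Subgroup.mem_bot]
  apply hσ
  rw [map_one]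
  by_cases hpK : (p : F) = 0
  · exact H79.derivedSeries_apply_of_natCast_eq_zero hP hpK σ _ (by rw [Module.finrank_fin_fun]; exact hlog.le) g hg
  · exact H79.derivedSeries_apply_of_natCast_ne_zero hpK hP σ _
      (by rw [Module.finrank_fin_fun]; exact hlog.trans_le (Nat.pow_le_pow_left hp.two_le _)) g hg

end Cfsg.Agent.S4010
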