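import Cfsg.Statements.S4013
import Cfsg.Agent.H79Basic

set_option autoImplicit false
open Cfsg

namespace Cfsg.Agent.S4013

/-- Let G be a finite p-group (p prime) and N < M normal subgroups of G such that for some g ∈ M ∖ N the conjugacy class of g is exactly M ∖ N. Then p = 2 and N has index 2 in M. -/
theorem result {G : Type*} [Group G] [Finite G] (p : ℕ) [Fact p.Prime] (hG : IsPGroup p G) (N M : Subgroup G) [N.Normal] [M.Normal] (hNM : N < M) (g : G) (hgM : g ∈ M) (hgN : g ∉ N) (hcl : {h : G | IsConj g h} = (M : Set G) \ (N : Set G)) : p = 2 ∧ N.relIndex M = 2 := by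
  classical
  have hp := (Fact.out : p.Prime)
  obtain ⟨a, ha⟩ : ∃ a : ℕ, {h : G | IsConj g h}.ncard = p ^ a := by
    have hC : IsPGroup p (ConjAct G) := hG.of_equiv ConjAct.toConjAct
    obtain ⟨a, ha⟩ := hC.card_orbit g
    refine ⟨a, ?_⟩
    rw [← ha, ← Nat.card_coe_set_eq]
    congr 2
    ext h
    rw [ConjAct.mem_orbit_conjAct]
    exact ⟨IsConj.symm, IsConj.symm⟩
  obtain ⟨m, hm⟩ := IsPGroup.iff_card.1 (hG.to_subgroup M)
  obtain ⟨c, hc⟩ := IsPGroup.iff_card.1 (hG.to_subgroup N)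
  have h1 : Nat.card M = Nat.card N + p ^ a := by
    rw [← ha, hcl]
    have := Set.ncard_sdiff_add_ncard_of_subset (show (N : Set G) ⊆ (M : Set G) from hNM.le)
    rw [← Nat.card_coe_set_eq (M : Set G), ← Nat.card_coe_set_eq (N : Set G)] at this
    simp only [SetLike.coe_sort_coe] at this
    omega
  have h2 : Nat.card N * N.relIndex M = Nat.card M := by
    rw [← Subgroup.relIndex_bot_left, ← Subgroup.relIndex_bot_left]
    exact Subgroup.relIndex_mul_relIndex ⊥ N M bot_le hNM.le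
  obtain ⟨b, -, hb⟩ := (Nat.dvd_prime_pow hp).1 (hm ▸ (⟨_, h2.symm.trans (mul_comm _ _)⟩ : N.relIndex M ∣ Nat.card M))
  have hb0 : b ≠ 0 := by
    rintro rfl
    rw [pow_zero] at hb
    rw [hb, mul_one] at h2
    have : 0 < p ^ a := pow_pos hp.pos a
    omega
  obtain ⟨r, hr⟩ : ∃ r, p ^ b = r + 1 := ⟨p ^ b - 1, (Nat.succ_pred_eq_of_pos (pow_pos hp.pos b)).symm⟩
  rw [hb, hr, h1, mul_add, mul_one] at h2
  have h3 : Nat.card N * r = p ^ a := by omega
  obtain ⟨d, -, hd⟩ := (Nat.dvd_prime_pow hp).1 (⟨Nat.card N, by rw [← h3, mul_comm]⟩ : r ∣ p ^ a)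
  have hd0 : d = 0 := by
    by_contra hd0
    have h4 : p ∣ p ^ b := dvd_pow_self p hb0
    rw [hr, hd] at h4
    have h5 : p ∣ 1 := (Nat.dvd_add_right (dvd_pow_self p hd0)).1 h4
    exact hp.one_lt.ne' (Nat.dvd_one.1 h5)
  subst hd0
  have hp2 : p ^ b = 2 := by rw [hr, hd, pow_zero]
  refine ⟨?_, by rw [hb, hp2]⟩
  have h6 : p ∣ 2 := hp2 ▸ dvd_pow_self p hb0
  exact (Nat.prime_dvd_prime_iff_eq hp Nat.prime_two).1 h6

end Cfsg.Agent.S4013
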