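import Cfsg.Statements.S4014
import Cfsg.Agent.H79Derived

set_option autoImplicit false
open Cfsg

namespace Cfsg.Agent.S4014

/-- Let p be a prime, n ≥ 1, and P a Sylow p-subgroup of the symmetric group on n letters. Then the derived length of P is exactly k = ⌊log_p n⌋ (the largest k with p^k ≤ n): the k-th derived subgroup of P is trivial and, when k ≥ 1, the (k−1)-st is not. -/
theorem result (p : ℕ) [Fact p.Prime] (n : ℕ) (hn : 1 ≤ n) (P : Sylow p (Equiv.Perm (Fin n))) : derivedSeries ↥(P : Subgroup (Equiv.Perm (Fin n))) (Nat.log p n) = ⊥ ∧ (1 ≤ Nat.log p n → derivedSeries ↥(P : Subgroup (Equiv.Perm (Fin n))) (Nat.log p n - 1) ≠ ⊥) := by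
  classical
  have hp := (Fact.out : p.Prime)
  constructor
  · rw [eq_bot_iff]
    intro x hx
    rw [Subgroup.mem_bot]
    apply Subtype.ext
    apply Equiv.ext
    intro i
    have hle := H79.derivedSeries_le_of_index_lt (Nat.log p n) P.isPGroup' (MulAction.stabilizer ↥(P : Subgroup (Equiv.Perm (Fin n))) i) (by
      rw [MulAction.index_stabilizer]
      refine lt_of_le_of_lt ?_ (Nat.lt_pow_succ_log_self hp.one_lt n)
      refine (Set.ncard_le_card _).trans ?_
      simp)
    exact hle hx
  · intro hlog
    obtain ⟨k, hk⟩ := Nat.exists_eq_succ_of_ne_zero (by omega : Nat.log p n ≠ 0)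
    rw [hk, Nat.succ_sub_one]
    have hpow : p ^ (k + 1) ≤ n := by
      have h1 := Nat.pow_log_le_self p (show n ≠ 0 by omega)
      rwa [hk] at h1
    let Q := Multiplicative (ZMod p)
    have hQ : Nat.card Q = p := by
      rw [Nat.card_congr Multiplicative.toAdd, Nat.card_zmod]
    have : Nontrivial Q := Finite.one_lt_card_iff_nontrivial.1 (hQ.symm ▸ hp.one_lt)
    let e : (Fin (k + 1) → Q) ↪ Fin n :=
      (Finite.equivFinOfCardEq (show Nat.card (Fin (k + 1) → Q) = p ^ (k + 1) by
        rw [Nat.card_fun, hQ, Nat.card_fin])).toEmbedding.trans (Fin.castLEEmb hpow)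
    let f : IteratedWreathProduct Q (k + 1) →* Equiv.Perm (Fin n) :=
      (Equiv.Perm.viaEmbeddingHom e).comp (iteratedWreathToPermHom Q (k + 1))
    have hf : Function.Injective f :=
      (Equiv.Perm.viaEmbeddingHom_injective e).comp (iteratedWreathToPermHomInj Q (k + 1))
    have hI : IsPGroup p (IteratedWreathProduct Q (k + 1)) :=
      IsPGroup.of_card (n := ∑ i ∈ Finset.range (k + 1), p ^ i) (by rw [IteratedWreathProduct.card, hQ])
    obtain ⟨R, hR⟩ := (hI.of_equiv (MonoidHom.ofInjective hf)).exists_le_sylow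
    let g : IteratedWreathProduct Q (k + 1) →* ↥(R : Subgroup (Equiv.Perm (Fin n))) :=
      f.codRestrict _ (fun x => hR ⟨x, rfl⟩)
    let φ := (R.equiv P).toMonoidHom.comp g
    have hφ : Function.Injective φ := (R.equiv P).injective.comp (fun a b h => hf (congrArg Subtype.val h))
    exact H79.derivedSeries_ne_bot_of_injective φ hφ k (H79.derivedSeries_iteratedWreath_ne_bot Q k)

end Cfsg.Agent.S4014
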