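import Cfsg.Statements.S4015
import Cfsg.Agent.H79FiniteLinear

set_option autoImplicit false
open Cfsg

namespace Cfsg.Agent.S4015

/-- Let p be an odd prime, F a finite field with q elements where p does not divide q, and e the multiplicative order of q modulo p. Let n ≥ e and write w = ⌊n/e⌋ and k = ⌊log_p w⌋. Then a Sylow p-subgroup of GL(n, F) has derived length exactly k + 1: its (k+1)-st derived subgroup is trivial and its k-th is not. -/
theorem result (p : ℕ) [Fact p.Prime] (hp : p ≠ 2) (F : Type*) [Field F] [Fintype F] (q : ℕ) (hq : Fintype.card F = q) (hpq : ¬ p ∣ q) (n : ℕ) (hn : orderOf (q : ZMod p) ≤ n) (P : Sylow p (Matrix.GeneralLinearGroup (Fin n) F)) : derivedSeries ↥(P : Subgroup (Matrix.GeneralLinearGroup (Fin n) F)) (Nat.log p (n / orderOf (q : ZMod p)) + 1) = ⊥ ∧ derivedSeries ↥(P : Subgroup (Matrix.GeneralLinearGroup (Fin n) F)) (Nat.log p (n / orderOf (q : ZMod p))) ≠ ⊥ := by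
  classical
  subst hq
  have hprime := (Fact.out : p.Prime)
  set e := orderOf (Fintype.card F : ZMod p) with he
  have hne : (Fintype.card F : ZMod p) ≠ 0 := fun h => hpq ((CharP.cast_eq_zero_iff (ZMod p) p _).1 h)
  have he0 : 0 < e := orderOf_pos_iff.2 (isOfFinOrder_iff_pow_eq_one.2
    ⟨p - 1, Nat.sub_pos_of_lt hprime.one_lt, ZMod.pow_card_sub_one_eq_one hne⟩)
  constructor
  · rw [eq_bot_iff]
    intro g hg
    rw [Subgroup.mem_bot]
    let σ : ↥(P : Subgroup (Matrix.GeneralLinearGroup (Fin n) F)) →* Module.End F (Fin n → F) :=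
      (Matrix.toLinAlgEquiv' : Matrix (Fin n) (Fin n) F ≃ₐ[F] _).toMonoidHom.comp
        ((Units.coeHom _).comp (P : Subgroup (Matrix.GeneralLinearGroup (Fin n) F)).subtype)
    have hσ : Function.Injective σ :=
      (Matrix.toLinAlgEquiv' : Matrix (Fin n) (Fin n) F ≃ₐ[F] _).injective.comp
        (Units.val_injective.comp Subtype.val_injective)
    apply hσ
    rw [map_one]
    refine H79.derivedSeries_apply_finite_field hpq n _ (Module.finrank_fin_fun F) _ P.isPGroup' σ _ ?_ g hg
    exact (Nat.div_lt_iff_lt_mul he0).1 (Nat.lt_pow_succ_log_self hprime.one_lt (n / e)) |>.trans_eq (mul_comm _ _)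
  · have hpe : p ∣ Fintype.card F ^ e - 1 := by
      have h1 : ((Fintype.card F ^ e : ℕ) : ZMod p) = ((1 : ℕ) : ZMod p) := by
        rw [Nat.cast_pow, he, pow_orderOf_eq_one, Nat.cast_one]
      exact (Nat.modEq_iff_dvd' (Nat.one_le_pow _ _ Fintype.card_pos)).1 ((ZMod.natCast_eq_natCast_iff _ _ _).1 h1).symm
    set k := Nat.log p (n / e) with hk
    obtain ⟨W, _, _, V, _, _, f, hV, hrank, hf, hW, hder⟩ :=
      H79.exists_pgroup_linear_derived_ne_bot (F := F) (p := p) e hpe he0 k
    have hle : e * p ^ k ≤ n := by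
      have h1 : p ^ k ≤ n / e := Nat.pow_log_le_self p ((Nat.div_pos hn he0).ne')
      rw [mul_comm]
      exact (Nat.le_div_iff_mul_le he0).1 h1
    have hr : Module.finrank F (V × (Fin (n - e * p ^ k) → F)) = Module.finrank F (Fin n → F) := by
      rw [Module.finrank_prod, hrank, Module.finrank_fin_fun, Module.finrank_fin_fun]
      omega
    let E := LinearEquiv.ofFinrankEq _ _ hr
    let g : W →* Module.End F (Fin n → F) :=
      { toFun := fun w => E.conj (LinearMap.prodMap (f w) 1)
        map_one' := by
          apply LinearMap.ext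
          intro v
          simp [LinearEquiv.conj_apply, Module.End.one_eq_id, LinearMap.prodMap_id]
        map_mul' := fun a b => by
          apply LinearMap.ext
          intro v
          simp [LinearEquiv.conj_apply] }
    have hg : Function.Injective g := by
      intro a b hab
      apply hf
      have h2 := E.conj.injective hab
      apply LinearMap.ext
      intro v
      exact congrArg Prod.fst (LinearMap.congr_fun h2 (v, 0))
    let h : W →* Matrix.GeneralLinearGroup (Fin n) F :=
      ((LinearMap.toMatrixAlgEquiv' : _ ≃ₐ[F] Matrix (Fin n) (Fin n) F).toMonoidHom.comp g).toHomUnits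
    have hh : Function.Injective h := fun a b hab =>
      hg ((LinearMap.toMatrixAlgEquiv' : _ ≃ₐ[F] Matrix (Fin n) (Fin n) F).injective (congrArg Units.val hab))
    obtain ⟨R, hR⟩ := (hW.of_equiv (MonoidHom.ofInjective hh)).exists_le_sylow
    let φ := (R.equiv P).toMonoidHom.comp (h.codRestrict _ (fun x => hR ⟨x, rfl⟩))
    have hφ : Function.Injective φ :=
      (R.equiv P).injective.comp (fun a b hab => hh (congrArg Subtype.val hab))
    exact H79.derivedSeries_ne_bot_of_injective φ hφ k hder

end Cfsg.Agent.S4015
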