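import Cfsg.Statements.S4016
import Cfsg.Agent.H79CycSylowCentral

set_option autoImplicit false
open Cfsg

namespace Cfsg.Agent.S4016

open Subgroup H79.CycSylow in
theorem aux.{u} (n : ℕ) : ∀ {G : Type u} [Group G] [Finite G] {p : ℕ} [Fact p.Prime] (P : Sylow p G),
    Nat.card G = n → IsCyclic (P : Subgroup G) → AbP p G →
    Cfsg.HasNormalPComplement p G ∨ (P : Subgroup G).Normal := by
  induction n using Nat.strong_induction_on with
  | _ n ih =>
  intro G _ _ p hp P hn hcyc hab
  by_contra hcon
  push Not at hcon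
  obtain ⟨hnpc, hnn⟩ := hcon
  obtain ⟨k, hk⟩ := P.2.exists_card_eq
  -- subgroups satisfy the conclusion
  have hsub : ∀ H : Subgroup G, H ≠ ⊤ → Cfsg.HasNormalPComplement p H ∨
      ∀ Q : Sylow p H, (Q : Subgroup H).Normal := by
    intro H hH
    by_cases hc : Cfsg.HasNormalPComplement p H
    · exact Or.inl hc
    refine Or.inr fun Q => ?_
    have hlt : Nat.card H < n := hn ▸ lt_of_le_of_ne (Subgroup.card_le_card_group H)
      (fun e => hH (Subgroup.eq_top_of_card_eq H e))
    have hQc : IsCyclic (Q : Subgroup H) := by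
      obtain ⟨T, hT⟩ := (Q.2.map H.subtype).exists_le_sylow
      have : IsCyclic (T : Subgroup G) := by
        obtain ⟨c, rfl⟩ := MulAction.exists_smul_eq G P T
        exact isCyclic_of_surjective (P.equivSMul c) (P.equivSMul c).surjective
      exact isCyclic_of_injective
        ((Subgroup.inclusion hT).comp ((Q : Subgroup H).equivMapOfInjective _ H.subtype_injective).toMonoidHom)
        ((Subgroup.inclusion_injective hT).comp (MulEquiv.injective _))
    exact (ih _ hlt Q rfl hQc (abP_subgroup hab H)).resolve_left hc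
  -- Burnside: an element of `N` moves `P`
  have hburn : ¬ normalizer ((P : Subgroup G) : Set G) ≤ centralizer ((P : Subgroup G) : Set G) :=
    fun h => hnpc (CfsgLib.Transfer.hasNormalPComplement_of_normalizer_le P h)
  obtain ⟨D₀, hD₀⟩ := Subgroup.exists_right_complement'_of_coprime
    (N := (P : Subgroup G).subgroupOf (normalizer ((P : Subgroup G) : Set G))) (by
      rw [Nat.card_congr (Subgroup.subgroupOfEquivOfLe (Subgroup.le_normalizer)).toEquiv,
        show Nat.card (P : Subgroup G) = p ^ k from hk]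
      refine Nat.Coprime.pow_left k ((Fact.out : p.Prime).coprime_iff_not_dvd.2 fun hd => P.not_dvd_index ?_)
      exact hd.trans (Subgroup.relIndex_dvd_index_of_le Subgroup.le_normalizer))
  set D : Subgroup G := D₀.map (Subgroup.subtype _) with hDdef
  have hDcard : Nat.card D = Nat.card D₀ :=
    Subgroup.card_map_of_injective (Subgroup.subtype_injective _)
  have hcardN : Nat.card (normalizer ((P : Subgroup G) : Set G)) = Nat.card P * Nat.card D := by
    rw [← hD₀.card_mul, Nat.card_congr (Subgroup.subgroupOfEquivOfLe (Subgroup.le_normalizer)).toEquiv,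
      hDcard]
  have hDp : ¬ p ∣ Nat.card D := by
    intro hd
    have h1 : Nat.card P * p ∣ Nat.card G :=
      (mul_dvd_mul_left _ hd).trans (hcardN ▸ Subgroup.card_subgroup_dvd_card _)
    rw [show Nat.card P = p ^ k from hk, ← pow_succ] at h1
    have h2 := P.pow_dvd_card_of_pow_dvd_card h1
    rw [show Nat.card (P : Subgroup G) = p ^ k from hk,
      Nat.pow_dvd_pow_iff_le_right (Fact.out : p.Prime).one_lt] at h2
    omega
  have hleN : D ≤ normalizer ((P : Subgroup G) : Set G) := Subgroup.map_subtype_le _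
  have hdec : ∀ g ∈ normalizer ((P : Subgroup G) : Set G), ∃ y ∈ (P : Subgroup G), ∃ f ∈ D, g = y * f := by
    intro g hg
    obtain ⟨⟨⟨y, hy⟩, ⟨f, hf⟩⟩, e, -⟩ :=
      Subgroup.isComplement'_def.1 hD₀ |>.existsUnique ⟨g, hg⟩
    exact ⟨(y : G), hy, (f : G), Subgroup.mem_map_of_mem _ hf, (congrArg Subtype.val e).symm⟩
  have hcommP : ∀ a ∈ (P : Subgroup G), ∀ b ∈ (P : Subgroup G), a * b = b * a := by
    intro a ha b hb
    obtain ⟨g, hg⟩ := hcyc.exists_generator
    obtain ⟨i, hi⟩ := mem_zpowers_iff.1 (hg ⟨a, ha⟩)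
    obtain ⟨j, hj⟩ := mem_zpowers_iff.1 (hg ⟨b, hb⟩)
    have e := (Commute.refl g).zpow_zpow i j
    rw [hi, hj] at e
    exact congrArg Subtype.val e.eq
  have hmoves : ∃ d ∈ D, ∃ y ∈ (P : Subgroup G), d * y ≠ y * d := by
    by_contra h
    push Not at h
    apply hburn
    intro g hg
    obtain ⟨y, hy, f, hf, rfl⟩ := hdec g hg
    rw [Subgroup.mem_centralizer_iff]
    intro z hz
    rw [← mul_assoc, hcommP z hz y hy, mul_assoc, ← h f hf z hz, ← mul_assoc]
  obtain ⟨d, hd, y₀, hy₀, hdy⟩ := hmoves
  have hdo : (orderOf d).Coprime p := coprime_of_not_dvd_card hDp hd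
  have hfpf : ∀ z ∈ (P : Subgroup G), d * z = z * d → z = 1 := by
    intro z hz hdz
    by_contra hz1
    exact hdy (centralizes_of_fixed P.2 hcyc (hleN hd) hdo hz hz1 hdz y₀ hy₀)
  -- no normal `p'`-subgroup
  have hOp' : ∀ M : Subgroup G, M.Normal → ¬ p ∣ Nat.card M → M = ⊥ := by
    intro M hM hMp
    by_contra hM1
    haveI := hM
    have hlt : Nat.card (G ⧸ M) < n := by
      rw [← hn, Subgroup.card_eq_card_quotient_mul_card_subgroup M]
      exact lt_mul_of_one_lt_right Nat.card_pos
        (Subgroup.one_lt_card_iff_ne_bot M |>.2 hM1)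
    have hQc : IsCyclic ((P.mapSurjective (QuotientGroup.mk'_surjective M) : Sylow p (G ⧸ M)) : Subgroup (G ⧸ M)) :=
      isCyclic_of_surjective ((QuotientGroup.mk' M).subgroupMap (P : Subgroup G))
        ((QuotientGroup.mk' M).subgroupMap_surjective _)
    rcases ih _ hlt (P.mapSurjective (QuotientGroup.mk'_surjective M)) rfl hQc
      (abP_quotient hab M hMp) with hc | hn'
    · exact hnpc (npc_of_quotient M hMp hc)
    · -- `d` centralises `M`
      have hHp : ¬ p ∣ Nat.card ((zpowers (QuotientGroup.mk' M d)).comap (QuotientGroup.mk' M)) := by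
        rw [card_comap, (Fact.out : p.Prime).dvd_mul, Nat.card_zpowers]
        rintro (h | h)
        · exact hMp h
        · exact (Fact.out : p.Prime).not_dvd_one
            ((Nat.coprime_iff_gcd_eq_one.1 hdo.symm) ▸ Nat.dvd_gcd dvd_rfl (h.trans (orderOf_map_dvd _ d)))
      have hdM : ∀ m ∈ M, d * m = m * d := fun m hm =>
        comm_of_abP hab hHp (Subgroup.mem_comap.2 (mem_zpowers _))
          (Subgroup.mem_comap.2 (by
            rw [show QuotientGroup.mk' M m = 1 from (QuotientGroup.eq_one_iff m).2 hm]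
            exact one_mem _))
      have hdM' : ∀ m ∈ M, d⁻¹ * m * d = m := fun m hm => by
        rw [mul_assoc, ← hdM m hm, ← mul_assoc, inv_mul_cancel, one_mul]
      -- hence so does `P`
      have hPM : ∀ a ∈ (P : Subgroup G), ∀ m ∈ M, a * m = m * a := by
        let φ : ↥(P : Subgroup G) → ↥(P : Subgroup G) := fun z =>
          ⟨(z : G)⁻¹ * (d * z * d⁻¹), mul_mem (inv_mem z.2) ((mem_normalizer_iff.1 (hleN hd) z).1 z.2)⟩
        have hφ : Function.Injective φ := by
          intro a b e
          have e1 : (a : G)⁻¹ * (d * a * d⁻¹) = (b : G)⁻¹ * (d * b * d⁻¹) := congrArg Subtype.val e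
          have e4 : (d * a * d⁻¹) * (d * (b : G) * d⁻¹)⁻¹ = a * (b : G)⁻¹ := by
            have : d * (a : G) * d⁻¹ = a * (b : G)⁻¹ * (d * b * d⁻¹) := by
              calc d * (a : G) * d⁻¹ = a * ((a : G)⁻¹ * (d * a * d⁻¹)) := by group
                _ = a * ((b : G)⁻¹ * (d * b * d⁻¹)) := by rw [e1]
                _ = _ := by group
            rw [this]; group
          have e5 : d * ((a : G) * (b : G)⁻¹) * d⁻¹ = a * (b : G)⁻¹ := by
            calc d * ((a : G) * (b : G)⁻¹) * d⁻¹ = (d * a * d⁻¹) * (d * (b : G) * d⁻¹)⁻¹ := by group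
              _ = _ := e4
          have h1 := hfpf _ (mul_mem a.2 (inv_mem b.2)) (mul_inv_eq_iff_eq_mul.1 e5)
          exact Subtype.ext (mul_inv_eq_one.1 h1)
        intro a ha m hm
        obtain ⟨z, hz⟩ := (Finite.injective_iff_surjective.1 hφ) ⟨a, ha⟩
        have hz' : (z : G)⁻¹ * (d * z * d⁻¹) = a := congrArg Subtype.val hz
        have h1 : d⁻¹ * m * d = m := hdM' m hm
        have hm2 : (z : G) * m * (z : G)⁻¹ ∈ M := hM.conj_mem m hm z
        apply mul_inv_eq_iff_eq_mul.1
        rw [← hz']
        calc (z : G)⁻¹ * (d * z * d⁻¹) * m * ((z : G)⁻¹ * (d * z * d⁻¹))⁻¹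
            = (z : G)⁻¹ * (d * ((z : G) * (d⁻¹ * m * d) * (z : G)⁻¹) * d⁻¹) * z := by group
          _ = (z : G)⁻¹ * (d * ((z : G) * m * (z : G)⁻¹) * d⁻¹) * z := by rw [h1]
          _ = (z : G)⁻¹ * ((z : G) * m * (z : G)⁻¹) * z := by rw [hdM _ hm2, mul_inv_cancel_right]
          _ = m := by group
      apply hnn
      refine ⟨fun x hx g => ?_⟩
      have hx' : QuotientGroup.mk' M (g * x * g⁻¹) ∈ (P : Subgroup G).map (QuotientGroup.mk' M) := by
        rw [map_mul, map_mul, map_inv]
        have := hn'.conj_mem (QuotientGroup.mk' M x) (Subgroup.mem_map_of_mem _ hx) (QuotientGroup.mk' M g)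
        exact this
      obtain ⟨w, hw, hwe⟩ := hx'
      set m := w⁻¹ * (g * x * g⁻¹) with hm
      have hmM : m ∈ M := QuotientGroup.eq.1 hwe
      have ho : orderOf (g * x * g⁻¹) ∣ p ^ k := by
        rw [show orderOf (g * x * g⁻¹) = orderOf x from MulEquiv.orderOf_eq (MulAut.conj g) x]
        exact hk ▸ (P : Subgroup G).orderOf_dvd_natCard hx
      have hwo : orderOf w ∣ p ^ k := hk ▸ (P : Subgroup G).orderOf_dvd_natCard hw
      have hm1 : m = 1 := by
        have e1 : g * x * g⁻¹ = w * m := by rw [hm]; group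
        have h2 : m ^ p ^ k = 1 := by
          have := orderOf_dvd_iff_pow_eq_one.1 ho
          rwa [e1, (show Commute w m from hPM w hw m hmM).mul_pow, orderOf_dvd_iff_pow_eq_one.1 hwo,
            one_mul] at this
        exact orderOf_eq_one_iff.1 (Nat.eq_one_of_dvd_coprimes
          ((coprime_of_not_dvd_card hMp hmM).pow_right k) dvd_rfl (orderOf_dvd_of_pow_eq_one h2))
      have e1 : g * x * g⁻¹ = w * m := by rw [hm]; group
      rw [e1, hm1, mul_one]
      exact hw
  -- no normal `p`-subgroup
  have hOp : ∀ Q : Subgroup G, Q.Normal → IsPGroup p Q → Q = ⊥ := by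
    intro Q hQn hQ
    by_contra hQ1
    haveI := hQn
    have hQP : Q ≤ (P : Subgroup G) := by
      obtain ⟨T, hT⟩ := hQ.exists_le_sylow
      obtain ⟨c, rfl⟩ := MulAction.exists_smul_eq G P T
      intro q hq
      have := hT (hQn.conj_mem q hq c)
      rw [Sylow.coe_subgroup_smul, Subgroup.mem_pointwise_smul_iff_inv_smul_mem] at this
      simpa [MulAut.smul_def, mul_assoc] using this
    set C := centralizer (Q : Set G) with hC
    haveI : C.Normal := by rw [hC]; infer_instance
    have hPC : (P : Subgroup G) ≤ C := fun a ha => by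
      rw [hC, Subgroup.mem_centralizer_iff]
      exact fun q hq => hcommP q (hQP hq) a ha
    obtain ⟨q, hq, hq1⟩ : ∃ q ∈ Q, q ≠ 1 := by
      by_contra h
      push Not at h
      exact hQ1 ((Subgroup.eq_bot_iff_forall _).2 h)
    have hCnpc : Cfsg.HasNormalPComplement p C := by
      refine CfsgLib.Transfer.hasNormalPComplement_of_normalizer_le (P.subtype hPC) ?_
      intro g hg
      rw [Subgroup.mem_centralizer_iff]
      intro z hz
      obtain ⟨y, hy, f, hf, e⟩ := hdec (g : G) (H79.mem_normalizer_of_conj_mem _ fun w hw => by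
        have := (mem_normalizer_iff.1 hg ⟨w, hPC hw⟩).1 (Subgroup.mem_subgroupOf.2 hw)
        exact Subgroup.mem_subgroupOf.1 this)
      have hfq : f * q = q * f := by
        have hgq := (Subgroup.mem_centralizer_iff.1 g.2 q hq).symm
        apply mul_left_cancel (a := y)
        rw [← mul_assoc, ← e, hgq, e, ← mul_assoc, hcommP q (hQP hq) y hy, mul_assoc]
      have hfz := centralizes_of_fixed P.2 hcyc (hleN hf) (coprime_of_not_dvd_card hDp hf) (hQP hq) hq1 hfq
      have hzP : (z : G) ∈ (P : Subgroup G) := Subgroup.mem_subgroupOf.1 hz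
      refine Subtype.ext ?_
      show (z : G) * (g : G) = (g : G) * (z : G)
      rw [e, ← mul_assoc, hcommP _ hzP y hy, mul_assoc, ← hfz _ hzP, ← mul_assoc]
    haveI := CfsgLib.Transfer.pResidual_characteristic (G := C) (p := p)
    rw [CfsgLib.Transfer.hasNormalPComplement_iff] at hCnpc
    have hKbot := hOp' ((Cfsg.pResidual p C).map C.subtype) inferInstance
      (by rwa [Subgroup.card_map_of_injective C.subtype_injective])
    rw [Subgroup.map_eq_bot_iff_of_injective _ C.subtype_injective] at hKbot
    have hCp : IsPGroup p C := by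
      intro g
      obtain ⟨i, hi⟩ := CfsgLib.Transfer.exists_pow_mem_pResidual (p := p) g
      rw [hKbot, Subgroup.mem_bot] at hi
      exact ⟨i, hi⟩
    exact hnn (P.3 hCp hPC ▸ (inferInstance : C.Normal))
  -- hence `G` is simple
  have hPne : (P : Subgroup G) ≠ ⊥ := fun e => hnn (e ▸ inferInstance)
  have hsimple : IsSimpleGroup G := by
    refine { exists_pair_ne := ?_, eq_bot_or_eq_top_of_normal := fun M hM => ?_ }
    · obtain ⟨a, ha, h1⟩ : ∃ a ∈ (P : Subgroup G), a ≠ 1 := by
        by_contra h
        push Not at h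
        exact hPne ((Subgroup.eq_bot_iff_forall _).2 h)
      exact ⟨a, 1, h1⟩
    by_contra hcon
    push Not at hcon
    obtain ⟨hM1, hM2⟩ := hcon
    haveI := hM
    rcases hsub M hM2 with hc | hnorm
    · haveI := CfsgLib.Transfer.pResidual_characteristic (G := M) (p := p)
      rw [CfsgLib.Transfer.hasNormalPComplement_iff] at hc
      have hKbot := hOp' ((Cfsg.pResidual p M).map M.subtype) inferInstance
        (by rwa [Subgroup.card_map_of_injective M.subtype_injective])
      rw [Subgroup.map_eq_bot_iff_of_injective _ M.subtype_injective] at hKbot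
      refine hM1 (hOp M hM fun g => ?_)
      obtain ⟨i, hi⟩ := CfsgLib.Transfer.exists_pow_mem_pResidual (p := p) g
      rw [hKbot, Subgroup.mem_bot] at hi
      exact ⟨i, hi⟩
    · let Q : Sylow p M := default
      haveI := hnorm Q
      haveI := Q.characteristic_of_normal (hnorm Q)
      have hQbot := hOp ((Q : Subgroup M).map M.subtype) inferInstance (Q.2.map _)
      rw [Subgroup.map_eq_bot_iff_of_injective _ M.subtype_injective] at hQbot
      have hpM : ¬ p ∣ Nat.card M := by
        have := Q.not_dvd_index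
        rwa [hQbot, Subgroup.index_bot] at this
      exact hM1 (hOp' M hM hpM)
  have hconf : Conf P D := ⟨hsimple, hcyc, hab, hleN, hDp, hdec, hcardN, ⟨d, hd, y₀, hy₀, hdy⟩, hnn, hsub⟩
  by_cases hE : ∀ f ∈ D, (∀ z ∈ (P : Subgroup G), f * z = z * f) → f = 1
  · exact hconf.false_of_trivial hE
  · push Not at hE
    exact hconf.false_of_central hE

/-- Let G be a finite group and p a prime such that a Sylow p-subgroup P of G is cyclic and every subgroup of G of order prime to p is abelian. Then G has a normal p-complement or P is normal in G. -/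
theorem result {G : Type*} [Group G] [Finite G] {p : ℕ}
    [Fact p.Prime] (P : Sylow p G) (hcyc : IsCyclic P)
    (hab : ∀ H : Subgroup G, ¬ p ∣ Nat.card H → IsMulCommutative H) :
    Cfsg.HasNormalPComplement p G ∨ (P : Subgroup G).Normal := by
  exact aux _ P rfl hcyc hab

end Cfsg.Agent.S4016
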