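import Cfsg.Statements.S4017
import Cfsg.Agent.H79TwoPrimeFalse

set_option autoImplicit false
open Cfsg

namespace Cfsg.Agent.S4017

open Subgroup in
theorem aux.{u} (n : ℕ) : ∀ {G : Type u} [Group G] [Finite G] {p q : ℕ}, Nat.card G = n →
    p.Prime → q.Prime → p ≠ q → p ≠ 2 → p ∣ Nat.card G → q ∣ Nat.card G →
    (∀ H : Subgroup G, H ≠ ⊤ → ¬ IsPGroup q H → q ∣ Nat.card H → p ∣ Nat.card H) →
    (q ^ (Nat.card G).factorization q - 1 < p ∨
      (p = q ^ (Nat.card G).factorization q - 1 ∧ ∀ P : Sylow p G, IsMulCommutative P)) →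
    ∀ r : ℕ, r.Prime → r ∣ Nat.card G → r = p ∨ r = q := by
  induction n using Nat.strong_induction_on with
  | _ n ih =>
  intro G _ _ p q hn hp hq hpq hp2 hpG hqG hmix hlarge r hr hrG
  by_contra hcon
  push Not at hcon
  obtain ⟨hrp, hrq⟩ := hcon
  have : Fact q.Prime := ⟨hq⟩
  have : Fact p.Prime := ⟨hp⟩
  have : Fact r.Prime := ⟨hr⟩
  set a := (Nat.card G).factorization q with ha
  -- proper subgroups of order divisible by `q`
  have hsmall : ∀ H : Subgroup G, H ≠ ⊤ → q ∣ Nat.card H → ∀ s : ℕ, s.Prime → s ∣ Nat.card H →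
      s = p ∨ s = q := by
    intro H hH hqH s hs hsH
    by_cases hHq : IsPGroup q H
    · obtain ⟨i, hi⟩ := hHq.exists_card_eq
      exact Or.inr ((Nat.prime_dvd_prime_iff_eq hs hq).1 (hs.dvd_of_dvd_pow (hi ▸ hsH)))
    have hlt : Nat.card H < n := hn ▸ lt_of_le_of_ne (Subgroup.card_le_card_group H)
      (fun e => hH (Subgroup.eq_top_of_card_eq H e))
    refine ih _ hlt rfl hp hq hpq hp2 (hmix H hH hHq hqH) hqH (fun K hK hKq hqK => ?_) ?_ s hs hsH
    · have hK' : K.map H.subtype ≠ ⊤ := fun e => hH (eq_top_iff.2 (e ▸ map_subtype_le K))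
      have := hmix (K.map H.subtype) hK'
        (fun hc => hKq (hc.of_equiv (K.equivMapOfInjective _ H.subtype_injective).symm))
        (by rwa [card_map_of_injective H.subtype_injective])
      rwa [card_map_of_injective H.subtype_injective] at this
    · have hle : (Nat.card H).factorization q ≤ a :=
        (Nat.factorization_le_iff_dvd Nat.card_pos.ne' Nat.card_pos.ne').2 H.card_subgroup_dvd_card q
      have hpow : q ^ (Nat.card H).factorization q ≤ q ^ a := Nat.pow_le_pow_right hq.pos hle
      rcases hlarge with h1 | ⟨h1, hab⟩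
      · left; omega
      · rcases hle.lt_or_eq with hlt' | he
        · left
          have := Nat.pow_lt_pow_right hq.one_lt hlt'
          have := Nat.one_le_pow ((Nat.card H).factorization q) q hq.pos
          omega
        · right
          refine ⟨he ▸ h1, fun P => ?_⟩
          obtain ⟨T, hT⟩ := (P.2.map H.subtype).exists_le_sylow
          refine ⟨⟨fun b c => Subtype.ext (Subtype.ext ?_)⟩⟩
          have e := congrArg Subtype.val ((hab T).is_comm.comm
            (⟨_, hT (mem_map_of_mem _ b.2)⟩ : T) ⟨_, hT (mem_map_of_mem _ c.2)⟩)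
          simpa using e
  -- a nontrivial `q`-subgroup is not normalised by elements of order `r`
  have hnorm : ∀ Q : Subgroup G, IsPGroup q Q → Q ≠ ⊥ → normalizer (Q : Set G) ≠ ⊤ := by
    intro Q hQ hQ1 e
    haveI : Q.Normal := normalizer_eq_top_iff.1 e
    obtain ⟨g, hg⟩ := exists_prime_orderOf_dvd_card' (G := G) r hrG
    obtain ⟨i, hi⟩ := hQ.exists_card_eq
    set H := Q ⊔ zpowers g
    have hHcard : ∀ s : ℕ, s.Prime → s ∣ Nat.card H → s = q ∨ s = r := by
      intro s hs hsH
      have : Fact s.Prime := ⟨hs⟩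
      have hd : Nat.card H ∣ q ^ i * r := by
        have e1 : Q.relIndex H ∣ r := by
          rw [show H = zpowers g ⊔ Q from sup_comm _ _, relIndex_sup_right, ← hg, ← Nat.card_zpowers]
          exact relIndex_dvd_card _ _
        have e2 : Nat.card (Q.subgroupOf H) * Q.relIndex H = Nat.card H := (Q.subgroupOf H).card_mul_index
        rw [Nat.card_congr (subgroupOfEquivOfLe (le_sup_left : Q ≤ H)).toEquiv, hi] at e2
        rw [← e2]
        exact mul_dvd_mul_left _ e1
      rcases hs.dvd_mul.1 (hsH.trans hd) with h1 | h1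
      · exact Or.inl ((Nat.prime_dvd_prime_iff_eq hs hq).1 (hs.dvd_of_dvd_pow h1))
      · exact Or.inr ((Nat.prime_dvd_prime_iff_eq hs hr).1 h1)
    have hHt : H ≠ ⊤ := fun e' => by
      rcases hHcard p hp (by rw [e', card_top]; exact hpG) with e1 | e1
      exacts [hpq e1, hrp e1.symm]
    have hqH : q ∣ Nat.card H := by
      refine dvd_trans ?_ (card_dvd_of_le (le_sup_left : Q ≤ H))
      rw [hi]
      refine dvd_pow_self q fun e0 => hQ1 (card_eq_one.1 (by rw [hi, e0, pow_zero]))
    rcases hsmall H hHt hqH r hr (hg ▸ H.orderOf_dvd_natCard (mem_sup_right (mem_zpowers g))) with e1 | e1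
    exacts [hrp e1, hrq e1]
  by_cases hF : CfsgLib.Transfer.FrobeniusCond q G
  · -- a normal `q`-complement
    haveI := CfsgLib.Transfer.pResidual_normal (G := G) (p := q)
    have hn' := CfsgLib.Transfer.hasNormalPComplement_of_frobeniusCond hF
    rw [CfsgLib.Transfer.hasNormalPComplement_iff] at hn'
    set K := Cfsg.pResidual q G
    obtain ⟨i, hi⟩ := CfsgLib.Transfer.pResidual_index_eq_pow (G := G) (p := q)
    have hrK : r ∣ Nat.card K := by
      have e := K.card_mul_index
      rw [hi] at e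
      refine (hr.dvd_mul.1 (e ▸ hrG)).resolve_right fun hd => hrq ?_
      exact (Nat.prime_dvd_prime_iff_eq hr hq).1 (hr.dvd_of_dvd_pow hd)
    let R : Sylow r K := default
    set R' : Subgroup G := (R : Subgroup K).map K.subtype with hR'
    have hR1 : R' ≠ ⊥ := fun e => by
      have h1 : r ∣ Nat.card (R : Subgroup K) := R.dvd_card_of_dvd_card hrK
      have h2 : Nat.card R' = Nat.card (R : Subgroup K) := card_map_of_injective K.subtype_injective
      rw [e, card_bot] at h2
      exact hr.not_dvd_one (h2 ▸ h1)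
    have hqN : q ^ a ∣ Nat.card (normalizer (R' : Set G)) := by
      have hsup : normalizer (R' : Set G) ⊔ K = ⊤ := Sylow.normalizer_sup_eq_top R
      have e : K.index ∣ Nat.card (normalizer (R' : Set G)) := by
        rw [← relIndex_top_right, ← hsup, relIndex_sup_right]
        exact relIndex_dvd_card _ _
      refine dvd_trans ?_ e
      have h1 : q ^ a ∣ Nat.card K * K.index := K.card_mul_index.symm ▸ Nat.ordProj_dvd _ _
      exact ((hq.coprime_iff_not_dvd.2 hn').pow_left a).dvd_of_dvd_mul_left h1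
    have ha0 : a ≠ 0 := fun e => by
      have := Nat.Prime.factorization_pos_of_dvd hq Nat.card_pos.ne' hqG
      omega
    by_cases hNt : normalizer (R' : Set G) = ⊤
    · -- `R` is normal: join it with a Sylow `q`-subgroup
      haveI : R'.Normal := normalizer_eq_top_iff.1 hNt
      let S : Sylow q G := default
      set H := R' ⊔ (S : Subgroup G)
      obtain ⟨j, hj⟩ := (R.2.map K.subtype).exists_card_eq
      obtain ⟨l, hl⟩ := S.2.exists_card_eq
      have hd : Nat.card H ∣ r ^ j * q ^ l := by
        have e1 : R'.relIndex H ∣ q ^ l := by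
          rw [show H = (S : Subgroup G) ⊔ R' from sup_comm _ _, relIndex_sup_right, ← hl]
          exact relIndex_dvd_card _ _
        have e2 : Nat.card (R'.subgroupOf H) * R'.relIndex H = Nat.card H := (R'.subgroupOf H).card_mul_index
        rw [Nat.card_congr (subgroupOfEquivOfLe (le_sup_left : R' ≤ H)).toEquiv, hj] at e2
        rw [← e2]
        exact mul_dvd_mul_left _ e1
      have hHt : H ≠ ⊤ := fun e' => by
        rw [e', card_top] at hd
        rcases hp.dvd_mul.1 (hpG.trans hd) with h1 | h1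
        · exact hrp ((Nat.prime_dvd_prime_iff_eq hp hr).1 (hp.dvd_of_dvd_pow h1)).symm
        · exact hpq ((Nat.prime_dvd_prime_iff_eq hp hq).1 (hp.dvd_of_dvd_pow h1))
      have hqH : q ∣ Nat.card H := (S.dvd_card_of_dvd_card hqG).trans (card_dvd_of_le le_sup_right)
      have hrH : r ∣ Nat.card H := by
        refine dvd_trans ?_ (card_dvd_of_le (le_sup_left : R' ≤ H))
        rw [hR', card_map_of_injective K.subtype_injective]
        exact R.dvd_card_of_dvd_card hrK
      rcases hsmall H hHt hqH r hr hrH with e1 | e1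
      exacts [hrp e1, hrq e1]
    · have hrN : r ∣ Nat.card (normalizer (R' : Set G)) := by
        refine dvd_trans ?_ (card_dvd_of_le le_normalizer)
        rw [hR', card_map_of_injective K.subtype_injective]
        exact R.dvd_card_of_dvd_card hrK
      rcases hsmall _ hNt ((dvd_pow_self q ha0).trans hqN) r hr hrN with e1 | e1
      exacts [hrp e1, hrq e1]
  -- a `p`-element acting transitively on a Sylow `q`-subgroup
  simp only [CfsgLib.Transfer.FrobeniusCond, not_forall] at hF
  obtain ⟨Q, hQ, g, hg, hgc, hgC⟩ := hF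
  have hQ1 : Q ≠ ⊥ := fun e => hgC (by
    rw [mem_centralizer_iff]; intro z hz
    rw [e, SetLike.mem_coe, mem_bot] at hz
    simp [hz])
  have hQn := hnorm Q hQ hQ1
  obtain ⟨i, hi⟩ := hQ.exists_card_eq
  have hqN : q ∣ Nat.card (normalizer (Q : Set G)) := by
    refine dvd_trans ?_ (card_dvd_of_le le_normalizer)
    rw [hi]
    exact dvd_pow_self q fun e0 => hQ1 (card_eq_one.1 (by rw [hi, e0, pow_zero]))
  obtain ⟨k, hk⟩ : ∃ k, orderOf g = p ^ k := ⟨_,
    Nat.eq_prime_pow_of_unique_prime_dvd (orderOf_pos g).ne' fun {s} hs hsd => by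
      rcases hsmall _ hQn hqN s hs (hsd.trans (orderOf_dvd_natCard _ hg)) with e1 | e1
      · exact e1
      · exact absurd (e1 ▸ hsd) (hq.coprime_iff_not_dvd.1 hgc.symm)⟩
  have hgm : ∀ z : Q, g * z.1 * g⁻¹ ∈ Q := fun z => (mem_normalizer_iff.1 hg _).1 z.2
  classical
  have := Fintype.ofFinite Q
  let σ : Equiv.Perm Q := Equiv.ofBijective (fun z => ⟨g * z.1 * g⁻¹, hgm z⟩)
    (Finite.injective_iff_bijective.1 fun b c e => Subtype.ext (by simpa using congrArg Subtype.val e))
  have hσn : ∀ m : ℕ, ∀ z, ((σ ^ m) z).1 = g ^ m * z.1 * (g ^ m)⁻¹ := by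
    intro m
    induction m with
    | zero => intro s; simp
    | succ m ih' =>
      intro s
      rw [pow_succ', Equiv.Perm.mul_apply]
      show g * ((σ ^ m) s).1 * g⁻¹ = _
      rw [ih', pow_succ']
      group
  have hσ : σ ^ p ^ k = 1 := Equiv.ext fun s => Subtype.ext (by
    rw [hσn, ← hk, pow_orderOf_eq_one]; simp)
  have e := Equiv.Perm.card_compl_support_modEq hσ
  let F : Subgroup Q :=
    { carrier := {z | g * z.1 = z.1 * g}
      one_mem' := by simp
      mul_mem' := fun {b c} hb hc => (show Commute g b.1 from hb).mul_right hc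
      inv_mem' := fun {b} hb => (show Commute g b.1 from hb).inv_right }
  have hF : σ.supportᶜ = Finset.univ.filter fun z => z ∈ F := by
    ext z
    simp only [Finset.mem_compl, Equiv.Perm.mem_support, not_not, Finset.mem_filter, Finset.mem_univ,
      true_and]
    constructor
    · intro e; exact mul_inv_eq_iff_eq_mul.1 (congrArg Subtype.val e)
    · intro e; exact Subtype.ext (mul_inv_eq_iff_eq_mul.2 e)
  rw [hF, ← Fintype.card_subtype, ← Nat.card_eq_fintype_card, ← Nat.card_eq_fintype_card] at e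
  change Nat.card F ≡ Nat.card Q [MOD p] at e
  obtain ⟨j, hj, hFj⟩ := (Nat.dvd_prime_pow hq).1 (hi ▸ F.card_subgroup_dvd_card)
  have hji : j < i := by
    refine lt_of_le_of_ne hj fun e' => hgC ?_
    have hFt : F = ⊤ := F.eq_top_of_card_eq (by rw [hFj, e', hi])
    rw [mem_centralizer_iff]
    intro z hz
    exact ((hFt ▸ mem_top (⟨z, hz⟩ : Q) : (⟨z, hz⟩ : Q) ∈ F)).symm
  have hia : i ≤ a := (hq.pow_dvd_iff_le_factorization Nat.card_pos.ne').1 (hi ▸ Q.card_subgroup_dvd_card)
  rw [hFj, hi] at e
  have hd := (Nat.modEq_iff_dvd' (Nat.pow_le_pow_right hq.pos hj)).1 e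
  have hpos : q ^ j < q ^ i := Nat.pow_lt_pow_right hq.one_lt hji
  have hpd := Nat.le_of_dvd (by omega) hd
  have hia2 : q ^ i ≤ q ^ a := Nat.pow_le_pow_right hq.pos hia
  have hj1 : 1 ≤ q ^ j := Nat.one_le_pow _ _ hq.pos
  obtain ⟨hpa, hab⟩ : p = q ^ a - 1 ∧ ∀ P : Sylow p G, IsMulCommutative P := by
    rcases hlarge with h1 | h1
    · omega
    · exact h1
  have hQcard : q ^ i = q ^ a ∧ q ^ j = 1 := by constructor <;> omega
  have hqa : q ^ a - 1 = p := hpa.symm
  have ha0 : a ≠ 0 := fun e0 => by rw [e0, pow_zero] at hqa; exact hp.ne_zero hqa.symm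
  have hq2 : q = 2 := by
    rcases hq.eq_two_or_odd' with e1 | hodd
    · exact e1
    · exfalso
      obtain ⟨b, hb⟩ := (hodd.pow (n := a))
      have : Even p := ⟨b, by omega⟩
      exact hp2 ((Nat.Prime.even_iff hp).1 this)
  subst hq2
  -- `g` fixes only the identity
  have hfree : ∀ z ∈ Q, g * z = z * g → z = 1 := fun z hz hgz => by
    have hF1 : F = ⊥ := card_eq_one.1 (hFj.trans hQcard.2)
    have : (⟨z, hz⟩ : Q) ∈ F := hgz
    rw [hF1, mem_bot] at this
    exact congrArg Subtype.val this
  obtain ⟨S, hS⟩ := hQ.exists_le_sylow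
  have hScard : Nat.card (S : Subgroup G) = 2 ^ a := S.card_eq_multiplicity
  have hQS : Q = (S : Subgroup G) :=
    eq_of_le_of_card_ge hS (by rw [hScard, hi, hQcard.1])
  subst hQS
  have htrans : ∀ b ∈ (S : Subgroup G), ∀ c ∈ (S : Subgroup G), b ≠ 1 → c ≠ 1 →
      ∃ l : ℕ, g ^ l * b * (g ^ l)⁻¹ = c := by
    intro b hb c hc hb1 hc1
    -- the orbit of `b` has `p` elements
    set O : Finset G := (Finset.range (p ^ k)).image fun l => g ^ l * b * (g ^ l)⁻¹ with hO
    have hOS : O ⊆ (Finset.univ.filter fun z : ↥(S : Subgroup G) => (z : G) ≠ 1).map (Function.Embedding.subtype _) := by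
      intro z hz
      obtain ⟨l, -, rfl⟩ := Finset.mem_image.1 hz
      simp only [Finset.mem_map, Finset.mem_filter, Finset.mem_univ, true_and, Function.Embedding.coe_subtype]
      exact ⟨⟨_, (mem_normalizer_iff.1 (pow_mem hg l) b).1 hb⟩, by simpa using hb1, rfl⟩
    have hO' : O.card ≥ p := by
      let τ : Equiv.Perm {z // z ∈ O} := Equiv.ofBijective (fun z => ⟨g * z.1 * g⁻¹, by
          obtain ⟨l, hl, hlz⟩ := Finset.mem_image.1 z.2
          refine Finset.mem_image.2 ⟨(l + 1) % p ^ k, Finset.mem_range.2 (Nat.mod_lt _ (pow_pos hp.pos k)), ?_⟩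
          rw [← hlz, ← hk, pow_mod_orderOf, pow_succ']
          group⟩)
        (Finite.injective_iff_bijective.1 fun b c e => Subtype.ext (by simpa using congrArg Subtype.val e))
      have hτn : ∀ m : ℕ, ∀ z, ((τ ^ m) z).1 = g ^ m * z.1 * (g ^ m)⁻¹ := by
        intro m
        induction m with
        | zero => intro s; simp
        | succ m ih' =>
          intro s
          rw [pow_succ', Equiv.Perm.mul_apply]
          show g * ((τ ^ m) s).1 * g⁻¹ = _
          rw [ih', pow_succ']
          group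
      have hτ : τ ^ p ^ k = 1 := Equiv.ext fun s => Subtype.ext (by
        rw [hτn, ← hk, pow_orderOf_eq_one]; simp)
      have e1 := Equiv.Perm.card_compl_support_modEq hτ
      have hne : τ.supportᶜ = ∅ := by
        ext z
        simp only [Finset.mem_compl, Equiv.Perm.mem_support, not_not, Finset.notMem_empty, iff_false]
        intro hz
        obtain ⟨⟨w, hw⟩, hw1, hwz⟩ := Finset.mem_map.1 (hOS z.2)
        simp only [Finset.mem_filter, Finset.mem_univ, true_and] at hw1
        refine hw1 (hfree w hw ?_)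
        have e2 : g * z.1 * g⁻¹ = z.1 := congrArg Subtype.val hz
        rw [← hwz] at e2
        exact mul_inv_eq_iff_eq_mul.1 e2
      rw [hne, Finset.card_empty, Fintype.card_coe] at e1
      have hO0 : 0 < O.card := Finset.card_pos.2 ⟨_, Finset.mem_image.2 ⟨0, Finset.mem_range.2 (pow_pos hp.pos k), rfl⟩⟩
      exact Nat.le_of_dvd hO0 (Nat.modEq_zero_iff_dvd.1 e1.symm)
    have hT : ((Finset.univ.filter fun z : ↥(S : Subgroup G) => (z : G) ≠ 1).map (Function.Embedding.subtype _)).card = p := by
      rw [Finset.card_map, show (Finset.univ.filter fun z : ↥(S : Subgroup G) => (z : G) ≠ 1) = Finset.univ.erase 1 by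
        ext z; simp, Finset.card_erase_of_mem (Finset.mem_univ _), Finset.card_univ, ← Nat.card_eq_fintype_card,
        hScard, hqa]
    have heq := Finset.eq_of_subset_of_card_le hOS (by rw [hT]; exact hO')
    have hcO : c ∈ O := by
      rw [heq]
      simp only [Finset.mem_map, Finset.mem_filter, Finset.mem_univ, true_and, Function.Embedding.coe_subtype]
      exact ⟨⟨c, hc⟩, hc1, rfl⟩
    obtain ⟨l, -, hl⟩ := Finset.mem_image.1 hcO
    exact ⟨l, hl⟩
  -- `G` is perfect
  have hperf : commutator G = ⊤ := by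
    by_contra hperf
    set M := commutator G with hM
    haveI : M.Normal := by rw [hM]; infer_instance
    have hSM : (S : Subgroup G) ≤ M := by
      let φ : ↥(S : Subgroup G) → ↥(S : Subgroup G) := fun z =>
        ⟨g * z.1 * g⁻¹ * z.1⁻¹, mul_mem (hgm z) (inv_mem z.2)⟩
      have hφ : Function.Injective φ := by
        intro b c e1
        have e2 : g * b.1 * g⁻¹ * b.1⁻¹ = g * c.1 * g⁻¹ * c.1⁻¹ := congrArg Subtype.val e1
        have e3 : g * (c.1⁻¹ * b.1) * g⁻¹ = c.1⁻¹ * b.1 := by
          calc g * (c.1⁻¹ * b.1) * g⁻¹ = (g * c.1 * g⁻¹)⁻¹ * (g * b.1 * g⁻¹ * b.1⁻¹) * b.1 := by group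
            _ = (g * c.1 * g⁻¹)⁻¹ * (g * c.1 * g⁻¹ * c.1⁻¹) * b.1 := by rw [e2]
            _ = _ := by group
        exact (Subtype.ext (inv_mul_eq_one.1 (hfree _ (mul_mem (inv_mem c.2) b.2)
          (mul_inv_eq_iff_eq_mul.1 e3)))).symm
      intro z hz
      obtain ⟨w, hw⟩ := Finite.injective_iff_surjective.1 hφ ⟨z, hz⟩
      have : g * w.1 * g⁻¹ * w.1⁻¹ = z := congrArg Subtype.val hw
      rw [← this, hM, commutator_def, ← commutatorElement_def]
      exact commutator_mem_commutator (mem_top g) (mem_top _)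
    have hqM : 2 ∣ Nat.card M := (S.dvd_card_of_dvd_card hqG).trans (card_dvd_of_le hSM)
    have hsup := Sylow.normalizer_sup_eq_top' S hSM
    have e1 : M.index ∣ Nat.card (normalizer ((S : Subgroup G) : Set G)) := by
      rw [← relIndex_top_right, ← hsup, relIndex_sup_right]
      exact relIndex_dvd_card _ _
    have hd : Nat.card G ∣ Nat.card M * Nat.card (normalizer ((S : Subgroup G) : Set G)) := by
      rw [← M.card_mul_index]; exact mul_dvd_mul_left _ e1
    rcases hr.dvd_mul.1 (hrG.trans hd) with h1 | h1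
    · rcases hsmall M hperf hqM r hr h1 with e1 | e1
      exacts [hrp e1, hrq e1]
    · rcases hsmall _ hQn hqN r hr h1 with e1 | e1
      exacts [hrp e1, hrq e1]
  exact H79.TwoPrime.Conf.false (p := p) (a := a)
    ⟨hp2, by omega, rfl, hab, hperf, hsmall, ⟨r, hr, hrG, hrp, hrq⟩, S, g, ⟨k, hk⟩, hg, htrans⟩

/-- Let G be a finite group and let p and q be distinct primes dividing the order of G, with p odd. Suppose that p divides the order of every proper subgroup of G that is neither a q-group nor of order prime to q. Let q^a be the q-part of the order of G. If p > q^a − 1, or if p = q^a − 1 and the Sylow p-subgroups of G are abelian, then p and q are the only primes dividing the order of G. -/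
theorem result {G : Type*} [Group G] [Finite G]
    {p q : ℕ} (hp : p.Prime) (hq : q.Prime) (hpq : p ≠ q) (hp2 : p ≠ 2)
    (hpG : p ∣ Nat.card G) (hqG : q ∣ Nat.card G)
    (hmix : ∀ H : Subgroup G, H ≠ ⊤ → ¬ IsPGroup q H → q ∣ Nat.card H → p ∣ Nat.card H)
    (hlarge : q ^ (Nat.card G).factorization q - 1 < p ∨
      (p = q ^ (Nat.card G).factorization q - 1 ∧ ∀ P : Sylow p G, IsMulCommutative P)) :
    ∀ r : ℕ, r.Prime → r ∣ Nat.card G → r = p ∨ r = q := by
  exact aux _ rfl hp hq hpq hp2 hpG hqG hmix hlarge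

end Cfsg.Agent.S4017
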