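import Cfsg.Statements.S4020
import Cfsg.Agent.Lib.EqualOrder.ExtraspecialCube

set_option autoImplicit false
open Cfsg

namespace Cfsg.Agent.S4020

open CfsgLib.EqualOrder

theorem iso_of_conj {G : Type*} [Group G] [Finite G] {p : ℕ}
    (hD : ∀ H K : Subgroup G, IsPGroup p H → IsPGroup p K → Nat.card H = Nat.card K →
      ∃ g : G, K = H.map (MulAut.conj g).toMonoidHom)
    (P : Subgroup G) (hP : IsPGroup p P) (A B : Subgroup P) (h : Nat.card A = Nat.card B) :
    Nonempty (A ≃* B) := by
  obtain ⟨g, hg⟩ := hD (A.map P.subtype) (B.map P.subtype) ((hP.to_subgroup A).map _)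
    ((hP.to_subgroup B).map _)
    (by rw [Subgroup.card_map_of_injective P.subtype_injective,
      Subgroup.card_map_of_injective P.subtype_injective, h])
  exact ⟨((A.equivMapOfInjective P.subtype P.subtype_injective).trans
    (((A.map P.subtype).equivMapOfInjective (MulAut.conj g).toMonoidHom (MulAut.conj g).injective).trans
      (MulEquiv.subgroupCongr hg.symm))).trans
    (B.equivMapOfInjective P.subtype P.subtype_injective).symm⟩

theorem quaternion_comm : ∀ a b : QuaternionGroup 2,
    a * b * a⁻¹ * b⁻¹ = 1 ∨ a * b * a⁻¹ * b⁻¹ = b ^ 2 := by decide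

/-- Let G be a finite group in which, for every prime p, any two p-subgroups of the same order are conjugate. Then every Sylow subgroup of G is cyclic, elementary abelian, or a quaternion group of order 8. -/
theorem result {G : Type*} [Group G] [Finite G]
    (hD : ∀ p : ℕ, p.Prime → ∀ H K : Subgroup G, IsPGroup p H → IsPGroup p K → Nat.card H = Nat.card K →
      ∃ g : G, K = H.map (MulAut.conj g).toMonoidHom) {p : ℕ} [Fact p.Prime] (P : Sylow p G) :
    IsCyclic P ∨ Cfsg.IsElementaryAbelian p (P : Subgroup G) ∨ Nonempty ((P : Subgroup G) ≃* QuaternionGroup 2) := by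
  have hp : p.Prime := Fact.out
  have hiso := iso_of_conj (hD p hp) (P : Subgroup G) P.2
  have hel : (IsMulCommutative (P : Subgroup G) ∧ ∀ w : (P : Subgroup G), w ^ p = 1) →
      Cfsg.IsElementaryAbelian p (P : Subgroup G) := fun h =>
    ⟨h.1, fun a ha => congrArg Subtype.val (h.2 ⟨a, ha⟩)⟩
  rcases eq_or_ne p 2 with rfl | hp2
  · rcases two_shape P.2 hiso with h | h | h
    · exact Or.inl h
    · exact Or.inr (Or.inl (hel h))
    · exact Or.inr (Or.inr h)
  rcases odd_shape hp2 P.2 hiso with h | h | ⟨hcard, hexp, z, hzc, hzo, hZ, hcomm⟩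
  · exact Or.inl h
  · exact Or.inr (Or.inl (hel h))
  exfalso
  have zp : ∀ w : (P : Subgroup G), w ∈ Subgroup.zpowers z → (w : G) ∈ Subgroup.zpowers (z : G) := by
    rintro w ⟨i, rfl⟩
    exact ⟨i, (Subgroup.coe_zpow _ z i).symm⟩
  have hcube : Cube p (P : Subgroup G) (z : G) :=
    ⟨hcard, fun w hw => congrArg Subtype.val (hexp ⟨w, hw⟩), z.2, (Subgroup.orderOf_coe z).trans hzo,
      fun w hw => congrArg Subtype.val (Subgroup.mem_center_iff.1 hzc ⟨w, hw⟩),
      fun a ha b hb => zp _ (hcomm ⟨a, ha⟩ ⟨b, hb⟩),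
      fun w hw hall => zp ⟨w, hw⟩ (hZ ▸ Subgroup.mem_center_iff.2 fun v => Subtype.ext (hall v v.2))⟩
  have hna : ∃ a ∈ (P : Subgroup G), ∃ b ∈ (P : Subgroup G), a * b ≠ b * a := by
    by_contra hall
    push Not at hall
    have htop : Subgroup.zpowers z = ⊤ := by
      rw [← hZ]
      exact (Subgroup.eq_top_iff' _).2 fun a => Subgroup.mem_center_iff.2 fun b =>
        Subtype.ext (hall b b.2 a a.2)
    have h := Nat.card_zpowers z
    rw [htop, Subgroup.card_top, hcard, hzo] at h
    have h1 : p ^ 1 < p ^ 3 := Nat.pow_lt_pow_right hp.one_lt (by norm_num)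
    rw [h, pow_one] at h1
    exact lt_irrefl p h1
  refine no_cube hp2 (hD p hp) P hcube hna fun T hT a ha b hb => ?_
  haveI : Fact (Nat.Prime 2) := ⟨Nat.prime_two⟩
  obtain ⟨S, hS⟩ := hT.exists_le_sylow
  have one : ∀ u v : (S : Subgroup G), u * v = v * u → (u * v * u⁻¹ * v⁻¹ : (S : Subgroup G)) = 1 :=
    fun u v h => by rw [h]; group
  have key : ∀ u v : (S : Subgroup G), u * v * u⁻¹ * v⁻¹ = 1 ∨ u * v * u⁻¹ * v⁻¹ = v ^ 2 := by
    rcases two_shape S.2 (iso_of_conj (hD 2 Nat.prime_two) (S : Subgroup G) S.2) with h | h | ⟨⟨e⟩⟩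
    · haveI := h
      exact fun u v => Or.inl (one u v (IsCyclic.isMulCommutative.is_comm.comm u v))
    · exact fun u v => Or.inl (one u v (h.1.is_comm.comm u v))
    · intro u v
      rcases quaternion_comm (e u) (e v) with h | h
      · exact Or.inl (e.injective (by simp only [map_mul, map_inv, map_one]; exact h))
      · exact Or.inr (e.injective (by simp only [map_mul, map_inv, map_pow]; exact h))
  rcases key ⟨a, hS ha⟩ ⟨b, hS hb⟩ with h | h
  · have h' : a * b * a⁻¹ * b⁻¹ = 1 := congrArg Subtype.val h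
    rw [h']; exact one_mem _
  · have h' : a * b * a⁻¹ * b⁻¹ = b ^ 2 := congrArg Subtype.val h
    rw [h']; exact Subgroup.mem_zpowers _

end Cfsg.Agent.S4020
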