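import Cfsg.Statements.S4021
import Cfsg.Agent.Lib.CGroup.Classify

set_option autoImplicit false
open Cfsg

namespace Cfsg.Agent.S4021

/-- Let G be a finite group in which any two subgroups of the same order are conjugate. Then G/O(G), O(G) the largest normal subgroup of odd order, is one of: a cyclic 2-group; the one-dimensional affine group over the field with 8 elements; the one-dimensional semi-affine group over the field with 8 or with 32 elements; PSL₂(8); the full automorphism group of PSL₂(32); the alternating group of degree 4 or 5; SL₂(3); or SL₂(5). -/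
theorem result {G : Type*} [Group G] [Finite G]
    (hC : ∀ H K : Subgroup G, Nat.card H = Nat.card K → ∃ g : G, K = H.map (MulAut.conj g).toMonoidHom) :
    (IsCyclic (G ⧸ Cfsg.oddCore G) ∧ IsPGroup 2 (G ⧸ Cfsg.oddCore G)) ∨
    Nonempty (G ⧸ Cfsg.oddCore G ≃* Cfsg.affineGroup (GaloisField 2 3)) ∨
    Nonempty (G ⧸ Cfsg.oddCore G ≃* Cfsg.semiaffineGroup (GaloisField 2 3)) ∨
    Nonempty (G ⧸ Cfsg.oddCore G ≃* Cfsg.semiaffineGroup (GaloisField 2 5)) ∨
    Nonempty (G ⧸ Cfsg.oddCore G ≃* Matrix.ProjectiveSpecialLinearGroup (Fin 2) (GaloisField 2 3)) ∨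
    Nonempty (G ⧸ Cfsg.oddCore G ≃* MulAut (Matrix.ProjectiveSpecialLinearGroup (Fin 2) (GaloisField 2 5))) ∨
    Nonempty (G ⧸ Cfsg.oddCore G ≃* alternatingGroup (Fin 4)) ∨
    Nonempty (G ⧸ Cfsg.oddCore G ≃* alternatingGroup (Fin 5)) ∨
    Nonempty (G ⧸ Cfsg.oddCore G ≃* Matrix.SpecialLinearGroup (Fin 2) (ZMod 3)) ∨
    Nonempty (G ⧸ Cfsg.oddCore G ≃* Matrix.SpecialLinearGroup (Fin 2) (ZMod 5)) := by
  classical
  haveI : Fact (Nat.Prime 2) := ⟨Nat.prime_two⟩
  have hQ : CfsgLib.CGroup.CGrp (G ⧸ Cfsg.oddCore G) :=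
    CfsgLib.CGroup.CGrp.quotient hC (Cfsg.oddCore G)
  have hO : Cfsg.oddCore (G ⧸ Cfsg.oddCore G) = ⊥ :=
    CfsgLib.PCore.pPrimeCore_quotient_pPrimeCore
  obtain ⟨T⟩ : Nonempty (Sylow 2 (G ⧸ Cfsg.oddCore G)) := inferInstance
  by_cases hcyc : IsCyclic T
  · left
    have hle : Subgroup.normalizer ((T : Subgroup (G ⧸ Cfsg.oddCore G)) : Set (G ⧸ Cfsg.oddCore G)) ≤
        Subgroup.centralizer ((T : Subgroup (G ⧸ Cfsg.oddCore G)) : Set (G ⧸ Cfsg.oddCore G)) := by
      by_cases h2 : 2 ∣ Nat.card (G ⧸ Cfsg.oddCore G)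
      · exact IsCyclic.normalizer_le_centralizer ((Nat.minFac_eq_two_iff _).2 h2) hcyc
      · intro g _
        refine Subgroup.mem_centralizer_iff.2 fun t ht => ?_
        have h1 : Nat.card T = 1 := by
          rw [Sylow.card_eq_multiplicity T, Nat.factorization_eq_zero_of_not_dvd h2, pow_zero]
        rw [Subgroup.card_eq_one.1 h1, SetLike.mem_coe, Subgroup.mem_bot] at ht
        rw [ht, one_mul, mul_one]
    obtain ⟨S, N, hN, hc⟩ := CfsgLib.Transfer.hasNormalPComplement_of_normalizer_le T hle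
    have hodd : ¬ 2 ∣ Nat.card N := by
      intro h2
      apply S.not_dvd_index
      rwa [hc.index_eq_card]
    have hbot : N = ⊥ := eq_bot_iff.2 ((CfsgLib.PCore.le_pPrimeCore_of_not_dvd hN hodd).trans hO.le)
    have htop : (S : Subgroup (G ⧸ Cfsg.oddCore G)) = ⊤ := by
      have := hc.sup_eq_top
      rwa [hbot, bot_sup_eq] at this
    obtain ⟨g, hg⟩ := MulAction.exists_smul_eq (G ⧸ Cfsg.oddCore G) S T
    have hT : (T : Subgroup (G ⧸ Cfsg.oddCore G)) = ⊤ := by
      rw [← hg, Sylow.coe_subgroup_smul, htop]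
      exact eq_top_iff.2 fun x _ => ⟨g⁻¹ * x * g, trivial, by simp [mul_assoc]⟩
    refine ⟨?_, ?_⟩
    · haveI : IsCyclic (T : Subgroup (G ⧸ Cfsg.oddCore G)) := hcyc
      exact isCyclic_of_surjective _
        ((MulEquiv.subgroupCongr hT).trans Subgroup.topEquiv).surjective
    · exact T.isPGroup'.of_equiv ((MulEquiv.subgroupCongr hT).trans Subgroup.topEquiv)
  rcases Cfsg.Agent.S4023.result (fun H K _ _ => hQ H K) T with h | hel | ⟨-, ⟨e⟩⟩ | ⟨h2, -⟩
  · exact absurd h hcyc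
  · obtain ⟨n, hn⟩ := IsPGroup.iff_card.1 T.isPGroup'
    have hn2 : 2 ≤ n := by
      by_contra hlt
      apply hcyc
      rcases (show n = 0 ∨ n = 1 by omega) with rfl | rfl
      · haveI : Subsingleton (T : Subgroup (G ⧸ Cfsg.oddCore G)) :=
          (Nat.card_eq_one_iff_unique.1 (by rw [hn, pow_zero])).1
        exact isCyclic_of_subsingleton
      · exact isCyclic_of_prime_card (by rw [hn, pow_one])
    rcases CfsgLib.CGroup.elementary_case hQ hel hn hn2 hO with
      ⟨-, -, -, -, h⟩ | ⟨-, -, h⟩ | ⟨-, h | h | h | h | h⟩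
    · exact Or.inr (Or.inr (Or.inr (Or.inr (Or.inr (Or.inr (Or.inl h))))))
    · exact Or.inr (Or.inr (Or.inr (Or.inr (Or.inr (Or.inr (Or.inr (Or.inl h)))))))
    · exact Or.inr (Or.inl h)
    · exact Or.inr (Or.inr (Or.inl h))
    · exact Or.inr (Or.inr (Or.inr (Or.inl h)))
    · exact Or.inr (Or.inr (Or.inr (Or.inr (Or.inl h))))
    · exact Or.inr (Or.inr (Or.inr (Or.inr (Or.inr (Or.inl h)))))
  · rcases CfsgLib.CGroup.quaternion_case hQ T e hO with h | h
    · exact Or.inr (Or.inr (Or.inr (Or.inr (Or.inr (Or.inr (Or.inr (Or.inr (Or.inl h))))))))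
    · exact Or.inr (Or.inr (Or.inr (Or.inr (Or.inr (Or.inr (Or.inr (Or.inr (Or.inr h))))))))
  · exact absurd rfl h2

end Cfsg.Agent.S4021
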