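import Cfsg.Statements.S4024
import Cfsg.Agent.H79SylowTypes
import Cfsg.Agent.Lib.PCore.PSolvable

set_option autoImplicit false
open Cfsg

namespace Cfsg.Agent.S4024

open H79.ConjSub CfsgLib.Coprime CfsgLib.PCore

/-- Let p be an odd prime and G a finite group in which any two p-subgroups of the same order are conjugate, with Sylow p-subgroup P. If H is a normal p-solvable subgroup of G whose order is divisible by p, then P is abelian, and either P ≤ H or P is cyclic. -/
theorem result {G : Type*} [Group G] [Finite G]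
    {p : ℕ} [Fact p.Prime] (hp : p ≠ 2) (hC : ∀ H K : Subgroup G, IsPGroup p H → IsPGroup p K → Nat.card H = Nat.card K →
      ∃ g : G, K = H.map (MulAut.conj g).toMonoidHom) (P : Sylow p G)
    (H : Subgroup G) [H.Normal] (hsolv : Cfsg.IsPSolvable p H) (hdiv : p ∣ Nat.card H) :
    IsMulCommutative P ∧ ((P : Subgroup G) ≤ H ∨ IsCyclic P) := by
  rcases PConj.cyclic_or_exponent hC hp P with hcyc | hexp
  · exact ⟨inferInstance, Or.inr hcyc⟩
  obtain ⟨m, hm⟩ := exists_prime_orderOf_dvd_card' p hdiv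
  have hord : ∀ x ∈ (P : Subgroup G), x ≠ 1 → orderOf x = p :=
    fun x hx hx1 => orderOf_eq_prime (hexp x hx) hx1
  have hPH : (P : Subgroup G) ≤ H := by
    intro x hx
    by_cases hx1 : x = 1
    · exact hx1 ▸ H.one_mem
    exact PConj.mem_normal hC m.2 (by rw [Subgroup.orderOf_coe, hm]) (hord x hx hx1)
  refine ⟨?_, Or.inl hPH⟩
  -- modulo `O_{p'}(H)`
  set O := (Cfsg.pPrimeCore p H).map H.subtype with hO
  have : O.Normal := inferInstance
  have hOp : ¬ p ∣ Nat.card O := by
    rw [hO, Subgroup.card_map_of_injective H.subtype_injective]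
    exact not_dvd_card_pPrimeCore
  let π := QuotientGroup.mk' O
  have hinj : ∀ x ∈ (P : Subgroup G), π x = 1 → x = 1 := by
    intro x hx h1
    by_contra hx1
    exact hOp (hord x hx hx1 ▸ Subgroup.orderOf_dvd_natCard O ((QuotientGroup.eq_one_iff x).1 h1))
  set K := H.map π with hK
  have : K.Normal := (inferInstance : H.Normal).map π (QuotientGroup.mk'_surjective O)
  -- `K ≅ H / O_{p'}(H)`
  let ψ : H →* K := π.subgroupMap H
  have hψ : Function.Surjective ψ := π.subgroupMap_surjective H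
  have hker : ψ.ker = Cfsg.pPrimeCore p H := by
    ext x
    rw [MonoidHom.mem_ker, Subtype.ext_iff]
    change π (x : G) = 1 ↔ _
    rw [QuotientGroup.mk'_apply, QuotientGroup.eq_one_iff, hO]
    exact ⟨fun ⟨y, hy, e⟩ => (H.subtype_injective e) ▸ hy, fun hx => ⟨x, hx, rfl⟩⟩
  let e : H ⧸ Cfsg.pPrimeCore p H ≃* K :=
    (QuotientGroup.quotientMulEquivOfEq hker.symm).trans (QuotientGroup.quotientKerEquivOfSurjective ψ hψ)
  have hKsol : Cfsg.IsPSolvable p K := isPSolvable_of_surjective ψ hψ hsolv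
  have hKcore : Cfsg.pPrimeCore p K = ⊥ := by
    rw [← map_pPrimeCore_equiv e, pPrimeCore_quotient_pPrimeCore, Subgroup.map_bot]
  have : Nontrivial K := by
    refine ⟨⟨ψ m, 1, fun h => ?_⟩⟩
    have : m ∈ Cfsg.pPrimeCore p H := hker ▸ h
    exact not_dvd_card_pPrimeCore (hm ▸ Subgroup.orderOf_dvd_natCard _ this)
  set V := (Cfsg.pCore p K).map K.subtype with hV
  have : V.Normal := inferInstance
  have hVp : IsPGroup p V := pCore_isPGroup.map _
  have hVne : V ≠ ⊥ := by
    rw [hV, Ne, Subgroup.map_eq_bot_iff_of_injective _ K.subtype_injective]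
    exact pCore_ne_bot hKsol hKcore
  let Pb : Sylow p (G ⧸ O) := P.mapSurjective (QuotientGroup.mk'_surjective O)
  have hPb : (Pb : Subgroup (G ⧸ O)) = (P : Subgroup G).map π := Sylow.coe_mapSurjective _ P
  have hexpb : ∀ x ∈ (Pb : Subgroup (G ⧸ O)), x ^ p = 1 := by
    rw [hPb]
    rintro _ ⟨x, hx, rfl⟩
    rw [← map_pow, hexp x hx, map_one]
  have hCb := pConj_quotient hC O
  have key : ∀ M : Subgroup (G ⧸ O), M.Normal → IsPGroup p M → M ≠ ⊥ →
      (Pb : Subgroup (G ⧸ O)) ≤ M := by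
    intro M hM hMp hMne x hx
    by_cases hx1 : x = 1
    · exact hx1 ▸ M.one_mem
    obtain ⟨v, hv⟩ := exists_prime_orderOf_dvd_card' p (hMp.card_eq_or_dvd.resolve_left
      (fun h => hMne (Subgroup.card_eq_one.1 h)))
    exact PConj.mem_normal hCb v.2 (by rw [Subgroup.orderOf_coe, hv]) (orderOf_eq_prime (hexpb x hx) hx1)
  have hVeq : V = Pb := Pb.is_maximal' hVp (key V inferInstance hVp hVne)
  have : Nontrivial V := (Subgroup.nontrivial_iff_ne_bot V).2 hVne
  have := hVp.center_nontrivial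
  have hC' : (Pb : Subgroup (G ⧸ O)) ≤ (Subgroup.center V).map V.subtype :=
    key _ inferInstance ((hVp.to_subgroup _).map _) (by
      rw [Ne, Subgroup.map_eq_bot_iff_of_injective _ V.subtype_injective,
        ← Ne, ← Subgroup.nontrivial_iff_ne_bot]
      exact hVp.center_nontrivial)
  refine ⟨⟨fun a b => Subtype.ext ?_⟩⟩
  have ha : π a ∈ (Pb : Subgroup (G ⧸ O)) := hPb ▸ ⟨a, a.2, rfl⟩
  have hb : π b ∈ (Pb : Subgroup (G ⧸ O)) := hPb ▸ ⟨b, b.2, rfl⟩
  obtain ⟨za, hza, hza2⟩ := hC' ha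
  obtain ⟨zb, hzb, hzb2⟩ := hC' hb
  have hcomm : π (a : G) * π (b : G) = π (b : G) * π (a : G) := by
    rw [← hza2, ← hzb2, ← map_mul, ← map_mul, (Subgroup.mem_center_iff.1 hzb za)]
  have h1 := hinj ((a : G) * b * ((b : G) * a)⁻¹)
    ((P : Subgroup G).mul_mem ((P : Subgroup G).mul_mem a.2 b.2)
      ((P : Subgroup G).inv_mem ((P : Subgroup G).mul_mem b.2 a.2)))
    (by rw [map_mul, map_inv, map_mul, map_mul, hcomm, mul_inv_cancel])
  exact mul_inv_eq_one.1 h1

end Cfsg.Agent.S4024
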