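import Cfsg.Statements.S4027
import Cfsg.Agent.H79NoReal

set_option autoImplicit false
open Cfsg

namespace Cfsg.Agent.S4027

/-- Let G be a finite group in which every element x of odd order satisfies N_G(⟨x⟩) = C_G(x). Then the Sylow 2-subgroups of G are normal. -/
theorem result {G : Type*} [Group G] [Finite G]
    (hirr : ∀ x : G, (∀ r : ℕ, r.Prime → r ∣ orderOf x → r ≠ 2) →
      Subgroup.normalizer ((Subgroup.zpowers x : Subgroup G) : Set G) ≤ Subgroup.centralizer {x}) (P : Sylow 2 G) :
    (P : Subgroup G).Normal := by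
  refine H79.NoReal.sylow_two_normal _ G rfl (fun x g hx hg => ?_) P
  have hgN : g ∈ Subgroup.normalizer ((Subgroup.zpowers x : Subgroup G) : Set G) :=
    H79.mem_normalizer_zpowers (hg ▸ Subgroup.inv_mem _ (Subgroup.mem_zpowers x))
  have hc := H79.mem_centralizer_singleton.1 (hirr x (fun r hr hd h2 => by
    subst h2; exact (Nat.not_even_iff_odd.2 hx) (even_iff_two_dvd.2 hd)) hgN)
  rw [hc, mul_inv_cancel_right] at hg
  have h2 : x ^ 2 = 1 := by rw [pow_two]; exact eq_inv_iff_mul_eq_one.1 hg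
  exact orderOf_eq_one_iff.1 (Nat.eq_one_of_dvd_coprimes (Nat.coprime_two_left.2 hx)
    (orderOf_dvd_of_pow_eq_one h2) dvd_rfl)

end Cfsg.Agent.S4027
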