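import Cfsg.Statements.S4028
import Cfsg.Agent.H79Basic

set_option autoImplicit false
open Cfsg

namespace Cfsg.Agent.S4028

/-- Let G be a finite group with Sylow 2-subgroup P. Then N_G(⟨x⟩) = C_G(x) holds for every 2-element x of G if and only if N_P(⟨y⟩) = C_P(y) holds for every y ∈ P (computed inside P). -/
theorem result {G : Type*} [Group G] [Finite G] (P : Sylow 2 G) :
    (∀ x : G, (∀ r : ℕ, r.Prime → r ∣ orderOf x → r = 2) →
      Subgroup.normalizer ((Subgroup.zpowers x : Subgroup G) : Set G) ≤ Subgroup.centralizer {x}) ↔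
    (∀ y : ↥(P : Subgroup G), Subgroup.normalizer ((Subgroup.zpowers y : Subgroup ↥(P : Subgroup G)) : Set ↥(P : Subgroup G)) ≤
        Subgroup.centralizer {y}) := by
  constructor
  · intro hirr y g hg
    obtain ⟨i, hi⟩ := H79.exists_pow_of_mem_normalizer_zpowers hg
    have hy2 : ∀ r : ℕ, r.Prime → r ∣ orderOf (y : G) → r = 2 := by
      intro r hr hrd
      obtain ⟨k, hk⟩ := IsPGroup.iff_orderOf.1 P.isPGroup' y
      rw [Subgroup.orderOf_coe, hk] at hrd
      exact (Nat.prime_dvd_prime_iff_eq hr Nat.prime_two).1 (hr.dvd_of_dvd_pow hrd)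
    have hmem : (g : G) ∈ Subgroup.normalizer ((Subgroup.zpowers (y : G) : Subgroup G) : Set G) := by
      apply H79.mem_normalizer_zpowers
      have h := congrArg Subtype.val hi
      simp only [Subgroup.coe_mul, Subgroup.coe_inv, SubmonoidClass.coe_pow] at h
      rw [h]
      exact Subgroup.npow_mem_zpowers _ _
    have h := H79.mem_centralizer_singleton.1 (hirr (y : G) hy2 hmem)
    exact H79.mem_centralizer_singleton.2 (Subtype.ext h)
  · intro hirr x hx g hg
    rw [H79.mem_centralizer_singleton]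
    obtain ⟨e, he⟩ : ∃ e, orderOf x = 2 ^ e := by
      refine ⟨_, Nat.eq_prime_pow_of_unique_prime_dvd (orderOf_pos x).ne' (fun {r} hr hrd => hx r hr hrd)⟩
    obtain ⟨a, m, hm, h2, hodd⟩ := H79.exists_odd_part g
    have hN : ∀ k : ℕ, g ^ k ∈ Subgroup.normalizer ((Subgroup.zpowers x : Subgroup G) : Set G) :=
      fun k => Subgroup.pow_mem _ hg k
    have hoddc : g ^ (2 ^ a) * x = x * g ^ (2 ^ a) := by
      apply H79.commute_of_normalizes_of_coprime (hN _)
      rw [he]
      rcases e with _ | e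
      · simp
      · rw [Nat.totient_prime_pow Nat.prime_two (Nat.succ_pos e), show 2 - 1 = 1 from rfl, mul_one]
        exact Nat.Coprime.pow_right _ (Nat.coprime_two_right.2 hodd)
    have htwo : g ^ m * x = x * g ^ m := by
      have hX : IsPGroup 2 (Subgroup.zpowers x) := IsPGroup.of_card (by rw [Nat.card_zpowers, he])
      have hg2 : IsPGroup 2 (Subgroup.zpowers (g ^ m)) := IsPGroup.of_card (by rw [Nat.card_zpowers, h2])
      have hT : IsPGroup 2 (Subgroup.zpowers (g ^ m) ⊔ Subgroup.zpowers x : Subgroup G) :=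
        hg2.to_sup_of_normal_right' hX (Subgroup.zpowers_le.2 (hN m))
      obtain ⟨Q, hQ⟩ := hT.exists_le_sylow
      obtain ⟨h, rfl⟩ := MulAction.exists_smul_eq G P Q
      have key : ∀ z ∈ Subgroup.zpowers (g ^ m) ⊔ Subgroup.zpowers x, h⁻¹ * z * h ∈ (P : Subgroup G) := by
        intro z hz
        have := (Subgroup.mem_pointwise_smul_iff_inv_smul_mem (a := MulAut.conj h) (S := (P : Subgroup G))).1 (hQ hz)
        simpa [MulAut.conj_inv_apply, MulAut.smul_def] using this
      have hx' := key x (Subgroup.mem_sup_right (Subgroup.mem_zpowers x))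
      have hg' := key (g ^ m) (Subgroup.mem_sup_left (Subgroup.mem_zpowers _))
      obtain ⟨i, hi⟩ := H79.exists_pow_of_mem_normalizer_zpowers (hN m)
      have hnorm : (⟨h⁻¹ * g ^ m * h, hg'⟩ : (P : Subgroup G)) ∈
          Subgroup.normalizer ((Subgroup.zpowers (⟨h⁻¹ * x * h, hx'⟩ : (P : Subgroup G)) : Subgroup (P : Subgroup G)) : Set (P : Subgroup G)) := by
        apply H79.mem_normalizer_zpowers
        convert Subgroup.npow_mem_zpowers (⟨h⁻¹ * x * h, hx'⟩ : (P : Subgroup G)) i using 1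
        apply Subtype.ext
        simp only [Subgroup.coe_mul, Subgroup.coe_inv, SubmonoidClass.coe_pow]
        have e2 : (h⁻¹ * x * h) ^ i = h⁻¹ * x ^ i * h := by
          simpa using conj_pow (i := i) (a := h⁻¹) (b := x)
        rw [e2, ← hi]
        group
      have hc := congrArg Subtype.val (H79.mem_centralizer_singleton.1 (hirr _ hnorm))
      simp only [Subgroup.coe_mul] at hc
      have h'' : h * (h⁻¹ * g ^ m * h * (h⁻¹ * x * h)) * h⁻¹ = h * (h⁻¹ * x * h * (h⁻¹ * g ^ m * h)) * h⁻¹ := by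
        rw [hc]
      simpa [mul_assoc] using h''
    -- combine
    have hcop : Nat.Coprime (2 ^ a) m := Nat.Coprime.pow_left _ (Nat.coprime_two_left.2 hm)
    have e1 : (1 : ℤ) = (2 ^ a : ℕ) * Nat.gcdA (2 ^ a) m + (m : ℤ) * Nat.gcdB (2 ^ a) m := by
      rw [← Nat.gcd_eq_gcd_ab, hcop.gcd_eq_one, Nat.cast_one]
    have e3 : g = (g ^ (2 ^ a)) ^ Nat.gcdA (2 ^ a) m * (g ^ m) ^ Nat.gcdB (2 ^ a) m := by
      rw [← zpow_natCast, ← zpow_natCast g m, ← zpow_mul, ← zpow_mul, ← zpow_add, ← e1, zpow_one]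
    rw [e3]
    exact ((Commute.zpow_left (show Commute (g ^ (2 ^ a)) x from hoddc) _).mul_left
      (Commute.zpow_left (show Commute (g ^ m) x from htwo) _)).eq

end Cfsg.Agent.S4028
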