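import Cfsg.Statements.S4029
import Cfsg.Agent.H79RealLinear
import Cfsg.Agent.H79Basic

set_option autoImplicit false
open Cfsg

namespace Cfsg.Agent.S4029

/-- Let P be a finite 2-group in which N_P(⟨y⟩) = C_P(y) for every y ∈ P. If s is the number of conjugacy classes of involutions of P, then #(P/Φ(P)) ≤ s + 1; in particular the subgroup generated by the involutions of P has order at least #(P/Φ(P)). -/
theorem result {P : Type*} [Group P] [Finite P] (hP : IsPGroup 2 P)
    (hirr : ∀ y : P, Subgroup.normalizer ((Subgroup.zpowers y : Subgroup P) : Set P) ≤ Subgroup.centralizer {y}) :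
    Nat.card (P ⧸ frattini P) ≤ Nat.card {c : ConjClasses P // ∃ y : P, ConjClasses.mk y = c ∧ orderOf y = 2} + 1 ∧
    Nat.card (P ⧸ frattini P) ≤ Nat.card (Subgroup.closure {y : P | orderOf y = 2}) := by
  classical
  let T := {c : ConjClasses P // ∃ y : P, ConjClasses.mk y = c ∧ orderOf y = 2}
  have hreal : ∀ y : P, ConjClasses.mk y⁻¹ = ConjClasses.mk y → y ^ 2 = 1 := by
    intro y hy
    obtain ⟨g, hg⟩ := isConj_iff.1 (ConjClasses.mk_eq_mk_iff_isConj.1 hy.symm)
    have hgN : g ∈ Subgroup.normalizer ((Subgroup.zpowers y : Subgroup P) : Set P) :=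
      H79.mem_normalizer_zpowers (hg ▸ Subgroup.inv_mem _ (Subgroup.mem_zpowers y))
    rw [H79.mem_centralizer_singleton.1 (hirr y hgN), mul_inv_cancel_right] at hg
    rw [pow_two]
    exact eq_inv_iff_mul_eq_one.1 hg
  have h1 : Nat.card (P ⧸ frattini P) ≤ Nat.card T + 1 := by
    refine ((H79.RealLinear.card_frattini_quotient_le P hP).trans
      H79.RealLinear.card_signHoms_le_card_real).trans ?_
    rw [H79.RealLinear.card_real_eq_card_classes, ← Finite.card_option]
    refine Nat.card_le_card_of_injective
      (fun c => if h : (c.1 = ConjClasses.mk (1 : P)) then none else some (⟨c.1, ?_⟩ : T)) ?_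
    · obtain ⟨y, hy⟩ := ConjClasses.mk_surjective c.1
      refine ⟨y, hy, ?_⟩
      have hy2 := hreal y ((c.2 y hy).trans hy.symm)
      exact orderOf_eq_prime hy2 (fun h1 => h (by rw [← hy, h1]))
    · intro a b hab
      simp only at hab
      split_ifs at hab with ha hb hb
      · exact Subtype.ext (ha.trans hb.symm)
      · have h' := congrArg Subtype.val (Option.some.inj hab)
        exact Subtype.ext h'
  refine ⟨h1, h1.trans ?_⟩
  choose r hr1 hr2 using fun c : T => c.2
  rw [← Finite.card_option]
  refine Nat.card_le_card_of_injective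
    (fun o : Option T => (match o with
      | none => 1
      | some c => ⟨r c, Subgroup.subset_closure (hr2 c)⟩ : Subgroup.closure {y : P | orderOf y = 2})) ?_
  rintro (_ | a) (_ | b) hab
  · rfl
  · have h := congrArg Subtype.val hab
    simp only [OneMemClass.coe_one] at h
    have h2 := hr2 b
    rw [← h, orderOf_one] at h2
    exact absurd h2 (by norm_num)
  · have h := congrArg Subtype.val hab
    simp only [OneMemClass.coe_one] at h
    have h2 := hr2 a
    rw [h, orderOf_one] at h2
    exact absurd h2 (by norm_num)
  · have h := congrArg Subtype.val hab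
    simp only at h
    exact congrArg some (Subtype.ext (by rw [← hr1 a, ← hr1 b, h]))

end Cfsg.Agent.S4029
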