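import Cfsg.Statements.S4032
import Cfsg.Agent.H79Basic

set_option autoImplicit false
open Cfsg

namespace Cfsg.Agent.S4032

/-- Let π be a set of primes and G a finite group in which N_G(⟨x⟩) = C_G(x) for every π-element x. If N is a normal subgroup of G whose order is divisible by no prime of π, then G/N has the same property: N_{G/N}(⟨y⟩) = C_{G/N}(y) for every π-element y of G/N. -/
theorem result {G : Type*} [Group G] [Finite G] (π : Set ℕ)
    (hirr : ∀ x : G, (∀ r : ℕ, r.Prime → r ∣ orderOf x → r ∈ π) →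
      Subgroup.normalizer ((Subgroup.zpowers x : Subgroup G) : Set G) ≤ Subgroup.centralizer {x})
    (N : Subgroup G) [N.Normal] (hN : ∀ r : ℕ, r.Prime → r ∣ Nat.card N → r ∉ π) :
    ∀ y : G ⧸ N, (∀ r : ℕ, r.Prime → r ∣ orderOf y → r ∈ π) →
      Subgroup.normalizer ((Subgroup.zpowers y : Subgroup (G ⧸ N)) : Set (G ⧸ N)) ≤ Subgroup.centralizer {y} := by
  intro y hy g hg
  rw [H79.mem_centralizer_singleton]
  obtain ⟨g, rfl⟩ := QuotientGroup.mk_surjective g
  suffices key : y ∈ Subgroup.centralizer ({(g : G ⧸ N)} : Set (G ⧸ N)) from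
    (H79.mem_centralizer_singleton.1 key).symm
  apply H79.mem_of_primePow_powers
  intro z hz p k hp hzo
  rw [H79.mem_centralizer_singleton]
  rcases Nat.eq_zero_or_pos k with rfl | hk
  · rw [pow_zero, orderOf_eq_one_iff] at hzo
    simp [hzo]
  have hpπ : p ∈ π := hy p hp ((hzo ▸ dvd_pow_self p hk.ne').trans (orderOf_dvd_of_mem_zpowers hz))
  have hpN : ¬ p ∣ Nat.card N := fun h => hN p hp h hpπ
  obtain ⟨x, rfl, hxo⟩ := H79.exists_lift_primePow N hp hpN z hzo
  obtain ⟨i, hi⟩ := H79.exists_pow_of_mem_normalizer_zpowers hg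
  obtain ⟨j, hj⟩ := Subgroup.mem_zpowers_iff.1 hz
  have himg : ((g * x * g⁻¹ : G) : G ⧸ N) = ((x ^ i : G) : G ⧸ N) := by
    simp only [QuotientGroup.mk_mul, QuotientGroup.mk_inv, QuotientGroup.mk_pow, ← hj]
    rw [← conj_zpow, hi, ← zpow_natCast, ← zpow_natCast, ← zpow_mul, ← zpow_mul, mul_comm]
  obtain ⟨n, hn, hnx⟩ := H79.exists_conj_of_quotient_eq N hp hpN (x ^ i) (g * x * g⁻¹)
    ((orderOf_pow_dvd i).trans hxo.dvd) (hxo ▸ orderOf_dvd_of_pow_eq_one (by rw [conj_pow, pow_orderOf_eq_one, mul_one, mul_inv_cancel])) himg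
  have hng : n * g ∈ Subgroup.normalizer ((Subgroup.zpowers x : Subgroup G) : Set G) := by
    apply H79.mem_normalizer_zpowers
    rw [show n * g * x * (n * g)⁻¹ = n * (g * x * g⁻¹) * n⁻¹ by group, hnx]
    exact Subgroup.npow_mem_zpowers _ _
  have hxπ : ∀ r : ℕ, r.Prime → r ∣ orderOf x → r ∈ π := fun r hr hrd => by
    rw [hxo] at hrd
    exact (Nat.prime_dvd_prime_iff_eq hr hp).1 (hr.dvd_of_dvd_pow hrd) ▸ hpπ
  have h := congrArg (QuotientGroup.mk (s := N)) (H79.mem_centralizer_singleton.1 (hirr x hxπ hng))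
  simp only [QuotientGroup.mk_mul, (QuotientGroup.eq_one_iff n).2 hn, one_mul] at h
  exact h.symm

end Cfsg.Agent.S4032
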