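import Cfsg.Statements.S4036

set_option autoImplicit false
open Cfsg

namespace Cfsg.Agent.S4036

/-- Let P be a finite abelian p-group and K a group of automorphisms of P (a subgroup of Aut P) whose order is divisible by p. If all non-identity elements of K have the same fixed-point subgroup on P, then K has no non-trivial normal subgroup of order prime to p. -/
theorem result {P : Type*} [CommGroup P] [Finite P] {p : ℕ}
    [Fact p.Prime] (hP : IsPGroup p P) (K : Subgroup (MulAut P)) (hK : p ∣ Nat.card K)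
    (hfix : ∀ x y : MulAut P, x ∈ K → y ∈ K → x ≠ 1 → y ≠ 1 → ∀ v : P, x v = v ↔ y v = v) :
    ∀ N : Subgroup ↥K, N.Normal → ¬ p ∣ Nat.card N → N = ⊥ := by
  classical
  intro N hN hpN
  by_contra hne
  obtain ⟨n₀, hn₀, hn₀1⟩ : ∃ n₀ ∈ N, n₀ ≠ 1 := Subgroup.ne_bot_iff_exists_ne_one.1 hne |>.elim
    fun a ha => ⟨a, a.2, fun h => ha (Subtype.ext h)⟩
  obtain ⟨z, hz⟩ := exists_prime_orderOf_dvd_card' p hK
  have hz1 : z ≠ 1 := fun h => (Fact.out : p.Prime).one_lt.ne' (by rw [← hz, h, orderOf_one])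
  have hzK : (z : MulAut P) ≠ 1 := fun h => hz1 (Subtype.ext h)
  have hn₀K : ((n₀ : ↥K) : MulAut P) ≠ 1 := fun h => hn₀1 (Subtype.ext h)
  let _ := Fintype.ofFinite N
  let T : P →* P :=
    { toFun := fun v => ∏ n : N, ((n : ↥K) : MulAut P) v
      map_one' := by simp
      map_mul' := fun a b => by simp [Finset.prod_mul_distrib] }
  have hTn : ∀ v : P, ((n₀ : ↥K) : MulAut P) (T v) = T v := by
    intro v
    show ((n₀ : ↥K) : MulAut P) (∏ n : N, ((n : ↥K) : MulAut P) v) = ∏ n : N, ((n : ↥K) : MulAut P) v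
    rw [map_prod]
    exact Fintype.prod_equiv (Equiv.mulLeft (⟨n₀, hn₀⟩ : N)) _ _ (fun n => rfl)
  have hinj : T.ker = ⊥ := by
    have hzmem : ∀ v ∈ T.ker, ∀ a : ↥K, (a : MulAut P) v ∈ T.ker := by
      intro v hv a
      rw [MonoidHom.mem_ker] at hv ⊢
      show ∏ n : N, ((n : ↥K) : MulAut P) ((a : MulAut P) v) = 1
      have e : ∀ n : N, ((n : ↥K) : MulAut P) ((a : MulAut P) v)
          = (a : MulAut P) (((((MulAut.conjNormal a).symm n : N) : ↥K) : MulAut P) v) := by
        intro n
        simp [MulAut.mul_apply]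
      rw [Finset.prod_congr rfl (fun n _ => e n), ← map_prod]
      refine (congrArg (a : MulAut P) ((Fintype.prod_equiv (MulAut.conjNormal a).symm.toEquiv _
        (fun n : N => ((n : ↥K) : MulAut P) v) (fun n => rfl)).trans hv)).trans (map_one _)
    by_contra hker
    let Z : Subgroup ↥K := Subgroup.zpowers z
    have hZ : IsPGroup p Z := IsPGroup.of_card (n := 1) (by rw [Nat.card_zpowers, hz, pow_one])
    let _ : MulAction Z T.ker :=
      { smul := fun a v => ⟨((a : ↥K) : MulAut P) v, hzmem v v.2 a⟩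
        one_smul := fun v => rfl
        mul_smul := fun a b v => rfl }
    obtain ⟨m, hm⟩ := IsPGroup.iff_card.1 (hP.to_subgroup T.ker)
    have hm0 : m ≠ 0 := by
      rintro rfl
      exact hker (Subgroup.card_eq_one.1 (by simpa using hm))
    have h1fix : (1 : T.ker) ∈ MulAction.fixedPoints Z T.ker := fun a =>
      Subtype.ext (map_one ((a : ↥K) : MulAut P))
    obtain ⟨w, hw, hw1⟩ := hZ.exists_fixed_point_of_prime_dvd_card_of_fixed_point T.ker
      (hm ▸ dvd_pow_self p hm0) h1fix
    have hwz : (z : MulAut P) (w : P) = w :=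
      congrArg Subtype.val (hw ⟨z, Subgroup.mem_zpowers z⟩)
    have hwN : ∀ n : N, ((n : ↥K) : MulAut P) (w : P) = w := by
      intro n
      by_cases hn : ((n : ↥K) : MulAut P) = 1
      · simp [hn]
      · exact (hfix z n z.2 (n : ↥K).2 hzK hn w).1 hwz
    have h1 : (w : P) ^ Nat.card N = 1 := by
      have h := w.2
      rw [MonoidHom.mem_ker] at h
      rw [← h]
      show _ = ∏ n : N, ((n : ↥K) : MulAut P) (w : P)
      simp [hwN, Nat.card_eq_fintype_card]
    obtain ⟨k, hk⟩ := IsPGroup.iff_orderOf.1 hP (w : P)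
    have h2 : orderOf (w : P) = 1 := Nat.eq_one_of_dvd_coprimes
      (Nat.Coprime.pow_left k (((Fact.out : p.Prime).coprime_iff_not_dvd).2 hpN)) hk.dvd
      (orderOf_dvd_of_pow_eq_one h1)
    exact hw1 (Subtype.ext (orderOf_eq_one_iff.1 h2).symm)
  have hsurj : Function.Surjective T :=
    (Finite.injective_iff_surjective (f := T)).1 ((MonoidHom.ker_eq_bot_iff T).1 hinj)
  apply hn₀K
  ext v
  obtain ⟨u, rfl⟩ := hsurj v
  simpa using hTn u

end Cfsg.Agent.S4036
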