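import Cfsg.Statements.S4039
import Cfsg.Agent.H79MaxNilp

set_option autoImplicit false
open Cfsg

namespace Cfsg.Agent.S4039

open H79.MaxNilp

universe u

/-- Commutators are central in class at most two. -/
theorem commutator_central {M : Type*} [Group M] [Group.IsNilpotent M]
    (hcl : Group.nilpotencyClass M ≤ 2) (a b c : M) :
    (a * b * a⁻¹ * b⁻¹) * c = c * (a * b * a⁻¹ * b⁻¹) := by
  have h2 : Subgroup.upperCentralSeries M 2 = ⊤ :=
    Subgroup.upperCentralSeries_eq_top_iff_nilpotencyClass_le.2 hcl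
  have h := (h2 ▸ Subgroup.mem_top a : a ∈ Subgroup.upperCentralSeries M 2)
  have h1 := Subgroup.mem_upperCentralSeries_succ_iff.1 h b
  rw [Subgroup.upperCentralSeries_one, Subgroup.mem_center_iff] at h1
  exact (h1 c).symm

theorem solvable : ∀ (n : ℕ) (G : Type u) [Group G] [Finite G], Nat.card G = n → ∀ (M : Subgroup G)
    [Group.IsNilpotent M], IsCoatom M → Group.nilpotencyClass ↥M ≤ 2 → Group.IsSolvable G := by
  intro n
  induction n using Nat.strong_induction_on with
  | _ n ih =>
    intro G _ _ hn M hnil hmax hcl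
    by_cases hN : ∃ N : Subgroup G, N.Normal ∧ N ≤ M ∧ N ≠ ⊥
    · obtain ⟨N, hNn, hNM, hNe⟩ := hN
      have : Group.IsSolvable N :=
        Group.isSolvable_of_isSolvable_injective (Subgroup.inclusion_injective hNM)
      have : Group.IsNilpotent (M.map (QuotientGroup.mk' N)) :=
        Group.nilpotent_of_surjective _ ((QuotientGroup.mk' N).subgroupMap_surjective M)
      have hcard : Nat.card (G ⧸ N) < n := by
        rw [← hn, Subgroup.card_eq_card_quotient_mul_card_subgroup N]
        exact lt_mul_of_one_lt_right Nat.card_pos (Subgroup.one_lt_card_iff_ne_bot N |>.2 hNe)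
      have : Group.IsSolvable (G ⧸ N) := by
        refine ih _ hcard (G ⧸ N) rfl (M.map (QuotientGroup.mk' N)) ?_
          ((Group.nilpotencyClass_le_of_surjective _ ((QuotientGroup.mk' N).subgroupMap_surjective M)).trans hcl)
        refine ⟨fun h => hmax.1 ?_, fun b hb => ?_⟩
        · have := congrArg (Subgroup.comap (QuotientGroup.mk' N)) h
          rwa [Subgroup.comap_top, Subgroup.comap_map_eq_self (by rwa [QuotientGroup.ker_mk'])] at this
        · have hb2 : M < b.comap (QuotientGroup.mk' N) := by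
            rw [← Subgroup.comap_map_eq_self (f := QuotientGroup.mk' N) (H := M) (by rwa [QuotientGroup.ker_mk'])]
            exact (Subgroup.comap_lt_comap_of_surjective (QuotientGroup.mk'_surjective N)).2 hb
          rw [← Subgroup.map_comap_eq_self_of_surjective (QuotientGroup.mk'_surjective N) b, hmax.2 _ hb2,
            Subgroup.map_top_of_surjective _ (QuotientGroup.mk'_surjective N)]
      exact Group.isSolvable_of_ker_le_range N.subtype (QuotientGroup.mk' N)
        (by rw [QuotientGroup.ker_mk', Subgroup.range_subtype])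
    push Not at hN
    refine solvable_of_npc M hmax hnil hN fun p hp hd => ?_
    have := Fact.mk hp
    refine CfsgLib.Transfer.hasNormalPComplement_of_frobeniusCond ?_
    by_contra hF
    obtain ⟨P, Q, hQP, hCQ, g, hg, hgc, hgC⟩ := exists_bad hF
    obtain ⟨P0, hP0⟩ := exists_sylow_le M hmax hnil hN hd
    obtain ⟨a, rfl⟩ := MulAction.exists_smul_eq G P0 P
    let e := MulAut.conj a
    -- move everything into `M`
    let Q' := Q.map e.symm.toMonoidHom
    have hQ'P : Q' ≤ (P0 : Subgroup G) := by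
      rintro _ ⟨q, hq, rfl⟩
      obtain ⟨y, hy, e'⟩ := hQP hq
      simpa [← e', e, mul_assoc] using (show y ∈ (P0 : Subgroup G) from hy)
    have hCQ' : ∀ x ∈ (P0 : Subgroup G), (∀ q ∈ Q', q * x = x * q) → x ∈ Q' := by
      intro x hx hxc
      refine ⟨e x, hCQ ⟨⟨x, hx, rfl⟩, ?_⟩, e.symm_apply_apply x⟩
      show e x ∈ Subgroup.centralizer (Q : Set G)
      rw [Subgroup.mem_centralizer_iff]
      intro q hq
      have := congrArg e (hxc _ ⟨q, hq, rfl⟩)
      simpa using this
    have hcentral : ∀ u ∈ M, ∀ v ∈ M, ∀ w ∈ M,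
        (u * v * u⁻¹ * v⁻¹) * w = w * (u * v * u⁻¹ * v⁻¹) := fun u hu v hv w hw =>
      congrArg Subtype.val (commutator_central hcl ⟨u, hu⟩ ⟨v, hv⟩ ⟨w, hw⟩)
    have hQn : ∀ s ∈ (P0 : Subgroup G), ∀ q ∈ Q', s * q * s⁻¹ ∈ Q' := by
      intro s hs q hq
      have hmem : s * q * s⁻¹ * q⁻¹ ∈ Q' := by
        refine hCQ' _ ?_ fun w hw => (hcentral s (hP0 hs) q (hP0 (hQ'P hq)) w (hP0 (hQ'P hw))).symm
        exact Subgroup.mul_mem _ (Subgroup.mul_mem _ (Subgroup.mul_mem _ hs (hQ'P hq))
          (Subgroup.inv_mem _ hs)) (Subgroup.inv_mem _ (hQ'P hq))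
      have := Q'.mul_mem hmem hq
      rwa [inv_mul_cancel_right] at this
    have hQp : ∀ q : M, (q : G) ∈ (P0 : Subgroup G) → ∃ k, orderOf q = p ^ k := fun q hq => by
      obtain ⟨k, hk⟩ := IsPGroup.iff_orderOf.1 P0.2 ⟨_, hq⟩
      exact ⟨k, by rw [← Subgroup.orderOf_coe, ← hk, Subgroup.orderOf_mk]⟩
    have hcomm : ∀ q : M, (q : G) ∈ (P0 : Subgroup G) → ∀ x : M, (orderOf x).Coprime p → Commute q x := by
      intro q hq x hx
      obtain ⟨k, hk⟩ := hQp q hq
      exact CfsgLib.NilpotentSubgroups.commute_of_orderOf_coprime (hk ▸ (hx.pow_right k).symm)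
    have hMn : M ≤ Subgroup.normalizer (Q' : Set G) := by
      intro m hm
      obtain ⟨b, c, hc, hoa⟩ : ∃ b c, ¬ p ∣ c ∧ orderOf (⟨m, hm⟩ : M) = p ^ b * c :=
        ⟨_, _, Nat.not_dvd_ordCompl hp (orderOf_pos _).ne', (Nat.ordProj_mul_ordCompl_eq_self _ p).symm⟩
      apply H79.mem_normalizer_of_conj_mem
      intro q hq
      obtain ⟨i, j, hij⟩ : ∃ i j : ℤ, 1 = (p ^ b : ℕ) * i + (c : ℤ) * j := by
        have hcp : Nat.Coprime (p ^ b) c := ((hp.coprime_iff_not_dvd).2 hc).pow_left b
        exact ⟨Nat.gcdA (p ^ b) c, Nat.gcdB (p ^ b) c, by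
          rw [← Nat.gcd_eq_gcd_ab, hcp.gcd_eq_one]; rfl⟩
      set x : M := ⟨m, hm⟩ ^ ((p ^ b : ℕ) * i) with hx
      set y : M := ⟨m, hm⟩ ^ ((c : ℤ) * j) with hy
      have hxy : (⟨m, hm⟩ : M) = y * x := by rw [hx, hy, ← zpow_add, add_comm, ← hij, zpow_one]
      have hxo : (orderOf x).Coprime p := by
        refine Nat.Coprime.coprime_dvd_left (m := orderOf x) (k := c) ?_ ((hp.coprime_iff_not_dvd).2 hc).symm
        apply orderOf_dvd_of_pow_eq_one
        rw [hx, ← zpow_natCast, ← zpow_mul, show ((p ^ b : ℕ) : ℤ) * i * c = (orderOf (⟨m, hm⟩ : M) : ℤ) * i by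
          rw [hoa]; push_cast; ring, zpow_mul, zpow_natCast, pow_orderOf_eq_one, one_zpow]
      have hyP : (y : G) ∈ (P0 : Subgroup G) := by
        have hPn : ((P0 : Subgroup G).subgroupOf M).Normal := by
          have h3 : ∀ (p : ℕ) (_ : Fact p.Prime) (P : Sylow p M), (P : Subgroup M).Normal :=
            ((Group.isNilpotent_of_finite_tfae (G := M)).out 0 3).1 hnil
          exact h3 p inferInstance (P0.subtype hP0)
        have hyp : IsPGroup p (Subgroup.zpowers y) := by
          obtain ⟨k, -, hk⟩ := (Nat.dvd_prime_pow hp).1 (orderOf_dvd_of_pow_eq_one (n := p ^ b) (x := y) (by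
            rw [hy, ← zpow_natCast, ← zpow_mul, show (c : ℤ) * j * ((p ^ b : ℕ) : ℤ) = (orderOf (⟨m, hm⟩ : M) : ℤ) * j by
              rw [hoa]; push_cast; ring, zpow_mul, zpow_natCast, pow_orderOf_eq_one, one_zpow]))
          exact IsPGroup.of_card (n := k) (by rw [Nat.card_zpowers, hk])
        have hle := (P0.subtype hP0).is_maximal'
          (IsPGroup.to_sup_of_normal_left (H := (P0 : Subgroup G).subgroupOf M) (P0.subtype hP0).2 hyp)
          le_sup_left
        have : y ∈ ((P0.subtype hP0 : Sylow p M) : Subgroup M) :=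
          hle ▸ Subgroup.mem_sup_right (Subgroup.mem_zpowers y)
        exact this
      have hq' : (q : G) ∈ M := hP0 (hQ'P hq)
      have hc' := congrArg Subtype.val (hcomm ⟨q, hq'⟩ (hQ'P hq) x hxo).eq
      have hm' : m = (y : G) * x := congrArg Subtype.val hxy
      have : m * q * m⁻¹ = (y : G) * q * (y : G)⁻¹ := by
        simp only [Subgroup.coe_mul] at hc'
        rw [hm', mul_inv_rev, mul_assoc (y : G) (x : G) q, ← hc']
        group
      rw [this]
      exact hQn _ hyP _ hq
    have hQne : Q' ≠ ⊥ := by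
      intro h
      rw [Subgroup.map_eq_bot_iff_of_injective _ e.symm.injective] at h
      exact hgC (by rw [h, Subgroup.mem_centralizer_iff]; intro q hq; simp [(Subgroup.mem_bot).1 hq])
    have hN' := normalizer_eq M hmax hN hQne (hQ'P.trans hP0) hMn
    have hg' : e.symm g ∈ M := by
      rw [← hN', Subgroup.mem_normalizer_iff]
      intro z
      rw [Subgroup.mem_map_equiv, Subgroup.mem_map_equiv, MulEquiv.symm_symm, map_mul, map_mul, map_inv,
        MulEquiv.apply_symm_apply]
      exact (Subgroup.mem_normalizer_iff.1 hg _)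
    apply hgC
    rw [Subgroup.mem_centralizer_iff]
    intro q hq
    have hq' : e.symm q ∈ Q' := ⟨q, hq, rfl⟩
    have := hcomm ⟨e.symm q, hP0 (hQ'P hq')⟩ (hQ'P hq') ⟨e.symm g, hg'⟩ (by
      rw [Subgroup.orderOf_mk]; exact hgc.coprime_dvd_left (orderOf_map_dvd e.symm.toMonoidHom g))
    apply e.symm.injective
    have h' := congrArg Subtype.val this.eq
    simpa using h'

/-- A finite group possessing a maximal subgroup that is nilpotent of class at most 2 is solvable. -/
theorem result {G : Type*} [Group G] [Finite G]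
    (M : Subgroup G) (hmax : IsCoatom M) (hnil : Group.IsNilpotent M) (hcl : Group.nilpotencyClass ↥M ≤ 2) :
    Group.IsSolvable G := by
  exact solvable _ G rfl M hmax hcl

end Cfsg.Agent.S4039
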