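import Cfsg.Statements.S4040
import Cfsg.Agent.H79MaxNilp
import Cfsg.Agent.Lib.Structure.NilpotentMaximal

set_option autoImplicit false
open Cfsg

namespace Cfsg.Agent.S4040

open H79.MaxNilp

universe u

theorem solvable : ∀ (n : ℕ) (G : Type u) [Group G] [Finite G], Nat.card G = n → ∀ (M : Subgroup G)
    [Group.IsNilpotent M], IsCoatom M → Odd (Nat.card M) → Group.IsSolvable G := by
  intro n
  induction n using Nat.strong_induction_on with
  | _ n ih =>
    intro G _ _ hn M hnil hmax hodd
    by_cases hN : ∃ N : Subgroup G, N.Normal ∧ N ≤ M ∧ N ≠ ⊥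
    · obtain ⟨N, hNn, hNM, hNe⟩ := hN
      have : Group.IsSolvable N :=
        Group.isSolvable_of_isSolvable_injective (Subgroup.inclusion_injective hNM)
      have : Group.IsNilpotent (M.map (QuotientGroup.mk' N)) :=
        Group.nilpotent_of_surjective _ ((QuotientGroup.mk' N).subgroupMap_surjective M)
      have hcard : Nat.card (G ⧸ N) < n := by
        rw [← hn, Subgroup.card_eq_card_quotient_mul_card_subgroup N]
        exact lt_mul_of_one_lt_right Nat.card_pos (Subgroup.one_lt_card_iff_ne_bot N |>.2 hNe)
      have : Group.IsSolvable (G ⧸ N) := by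
        refine ih _ hcard (G ⧸ N) rfl (M.map (QuotientGroup.mk' N)) ?_
          (Odd.of_dvd_nat hodd (Subgroup.card_map_dvd M _))
        refine ⟨fun h => hmax.1 ?_, fun b hb => ?_⟩
        · have := congrArg (Subgroup.comap (QuotientGroup.mk' N)) h
          rwa [Subgroup.comap_top, Subgroup.comap_map_eq_self (by rwa [QuotientGroup.ker_mk'])] at this
        · have hb2 : M < b.comap (QuotientGroup.mk' N) := by
            rw [← Subgroup.comap_map_eq_self (f := QuotientGroup.mk' N) (H := M) (by rwa [QuotientGroup.ker_mk'])]
            exact (Subgroup.comap_lt_comap_of_surjective (QuotientGroup.mk'_surjective N)).2 hb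
          rw [← Subgroup.map_comap_eq_self_of_surjective (QuotientGroup.mk'_surjective N) b, hmax.2 _ hb2,
            Subgroup.map_top_of_surjective _ (QuotientGroup.mk'_surjective N)]
      exact Group.isSolvable_of_ker_le_range N.subtype (QuotientGroup.mk' N)
        (by rw [QuotientGroup.ker_mk', Subgroup.range_subtype])
    push Not at hN
    refine solvable_of_npc M hmax hnil hN fun p hp hd => ?_
    have := Fact.mk hp
    have hp2 : p ≠ 2 := fun h => by
      subst h
      exact (Nat.not_even_iff_odd.2 hodd) (even_iff_two_dvd.2 hd)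
    obtain ⟨P, hP⟩ := exists_sylow_le M hmax hnil hN hd
    refine CfsgLib.Frobenius.ZJComp.hasNormalPComplement_of_centerThompsonAOf hp2 P ?_
    rw [CfsgLib.PLocal.centerThompsonAOf_eq]
    have hPn : ((P : Subgroup G).subgroupOf M).Normal := by
      have h3 : ∀ (p : ℕ) (_ : Fact p.Prime) (P : Sylow p M), (P : Subgroup M).Normal :=
        ((Group.isNilpotent_of_finite_tfae (G := M)).out 0 3).1 hnil
      exact h3 p inferInstance (P.subtype hP)
    have hMP : M ≤ Subgroup.normalizer ((P : Subgroup G) : Set G) :=
      (Subgroup.normal_subgroupOf_iff_le_normalizer hP).1 hPn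
    have hJ : CfsgLib.PLocal.centerJ 0 (P : Subgroup G) ≠ ⊥ :=
      CfsgLib.PLocal.centerJ_zero_ne_bot P.isPGroup'
        (P.ne_bot_of_dvd_card (hd.trans (Subgroup.card_subgroup_dvd_card M)))
    rw [normalizer_eq M hmax hN hJ ((CfsgLib.PLocal.centerJ_le 0 _).trans hP)
      (hMP.trans (CfsgLib.PLocal.normalizer_le_normalizer_centerJ 0 _))]
    exact CfsgLib.NilpotentMaximal.hasNormalPComplement_of_isNilpotent p

/-- A finite group possessing a maximal subgroup that is nilpotent of odd order is solvable. -/
theorem result {G : Type*} [Group G] [Finite G]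
    (M : Subgroup G) (hmax : IsCoatom M) (hnil : Group.IsNilpotent M) (hodd : Odd (Nat.card M)) :
    Group.IsSolvable G := by
  exact solvable _ G rfl M hmax hodd

end Cfsg.Agent.S4040
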