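import Cfsg.Statements.S4043
import Cfsg.Agent.Lib.Coprime.Action
import Cfsg.Agent.H79Basic

set_option autoImplicit false
open Cfsg

namespace Cfsg.Agent.S4043

open Pointwise

theorem exists_pPrime_part {G : Type*} [Group G] [Finite G] {p : ℕ} [Fact p.Prime] (N A : Subgroup G)
    [N.Normal] (hA : A.IsComplement' N) (hAp : Cfsg.HasNormalPComplement p A)
    (hC : ∀ n : G, n ∈ N → (∀ a : G, a ∈ A → a * n * a⁻¹ = n) → n = 1) (hN : IsPGroup p N) :
    ∃ K : Subgroup G, K ≤ A ∧ A ≤ Subgroup.normalizer (K : Set G) ∧ ¬ p ∣ Nat.card K ∧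
      N ⊓ Subgroup.centralizer (K : Set G) = ⊥ ∧
      ∀ U : Subgroup G, (Nat.card U).Coprime p → U ≤ K ⊔ N := by
  classical
  obtain ⟨P, K0, hK0n, hcomp⟩ := hAp
  have hp := (Fact.out : p.Prime)
  have hK0 : ¬ p ∣ Nat.card K0 := by
    rw [show Nat.card K0 = (P : Subgroup A).index from hcomp.index_eq_card.symm]
    exact P.not_dvd_index
  set K := K0.map A.subtype with hK
  have hKA : K ≤ A := Subgroup.map_subtype_le K0
  have hKcard : Nat.card K = Nat.card K0 := Subgroup.card_map_of_injective A.subtype_injective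
  have hAK : A ≤ Subgroup.normalizer (K : Set G) := by
    intro a ha
    apply H79.mem_normalizer_of_conj_mem
    rintro _ ⟨k, hk, rfl⟩
    exact ⟨⟨a, ha⟩ * k * ⟨a, ha⟩⁻¹, hK0n.conj_mem k hk ⟨a, ha⟩, rfl⟩
  refine ⟨K, hKA, hAK, hKcard ▸ hK0, ?_, fun U hU => ?_⟩
  · set V := N ⊓ Subgroup.centralizer (K : Set G) with hV
    by_contra hne
    have hconjV : ∀ s : (P : Subgroup A), ∀ v ∈ V, ((s : A) : G) * v * ((s : A) : G)⁻¹ ∈ V := by
      intro s v hv
      refine ⟨(inferInstance : N.Normal).conj_mem v hv.1 _, Subgroup.mem_centralizer_iff.2 ?_⟩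
      intro k hk
      have hk' : ((s : A) : G)⁻¹ * k * ((s : A) : G) ∈ K := by
        have := (Subgroup.mem_normalizer_iff.1 (Subgroup.inv_mem _ (hAK (s : A).2)) k).1 hk
        simpa using this
      have h1 := Subgroup.mem_centralizer_iff.1 hv.2 _ hk'
      calc k * (((s : A) : G) * v * ((s : A) : G)⁻¹)
          = ((s : A) : G) * ((((s : A) : G)⁻¹ * k * ((s : A) : G)) * v) * ((s : A) : G)⁻¹ := by group
        _ = ((s : A) : G) * (v * (((s : A) : G)⁻¹ * k * ((s : A) : G))) * ((s : A) : G)⁻¹ := by rw [h1]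
        _ = ((s : A) : G) * v * ((s : A) : G)⁻¹ * k := by group
    let _ : MulAction (P : Subgroup A) V :=
      { smul := fun s v => ⟨((s : A) : G) * v * ((s : A) : G)⁻¹, hconjV s v v.2⟩
        one_smul := fun v => Subtype.ext
          (show (((1 : (P : Subgroup A)) : A) : G) * v * (((1 : (P : Subgroup A)) : A) : G)⁻¹ = v by simp)
        mul_smul := fun s t v => Subtype.ext
          (show (((s * t : (P : Subgroup A)) : A) : G) * v * (((s * t : (P : Subgroup A)) : A) : G)⁻¹ =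
            ((s : A) : G) * (((t : A) : G) * v * ((t : A) : G)⁻¹) * ((s : A) : G)⁻¹ by simp [mul_assoc]) }
    have hVp : IsPGroup p V := hN.to_le inf_le_left
    obtain ⟨m, hm⟩ := IsPGroup.iff_card.1 hVp
    have hm0 : m ≠ 0 := by
      rintro rfl
      exact hne (Subgroup.card_eq_one.1 (by simpa using hm))
    obtain ⟨w, hw, hw1⟩ := P.isPGroup'.exists_fixed_point_of_prime_dvd_card_of_fixed_point V
      (hm ▸ dvd_pow_self p hm0) (a := (1 : V)) (fun s => Subtype.ext
        (show ((s : A) : G) * ((1 : V) : G) * ((s : A) : G)⁻¹ = ((1 : V) : G) by simp))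
    apply hw1
    refine Subtype.ext (hC (w : G) w.2.1 fun a ha => ?_).symm
    have ha' : (⟨a, ha⟩ : A) ∈ K0 ⊔ (P : Subgroup A) := hcomp.sup_eq_top ▸ Subgroup.mem_top _
    obtain ⟨k, hk, s, hs, hks⟩ := Subgroup.mem_sup_of_normal_left.1 ha'
    have hfix : (s : G) * w * (s : G)⁻¹ = w := congrArg Subtype.val (hw ⟨s, hs⟩)
    have hc : (k : G) * w = w * (k : G) := Subgroup.mem_centralizer_iff.1 w.2.2 _ ⟨k, hk, rfl⟩
    have e : a = (k : G) * (s : G) := (congrArg Subtype.val hks).symm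
    rw [e, show (k : G) * s * w * ((k : G) * s)⁻¹ = (k : G) * ((s : G) * w * (s : G)⁻¹) * (k : G)⁻¹ by group,
      hfix, hc, mul_inv_cancel_right]
  · have hMn : (K ⊔ N).Normal := by
      rw [← Subgroup.normalizer_eq_top_iff, eq_top_iff, ← hA.sup_eq_top]
      refine sup_le (fun a ha => ?_) (le_trans le_sup_right Subgroup.le_normalizer)
      apply H79.mem_normalizer_of_conj_mem
      intro x hx
      obtain ⟨k, hk, n, hn, rfl⟩ := Subgroup.mem_sup_of_normal_right.1 hx
      rw [show a * (k * n) * a⁻¹ = (a * k * a⁻¹) * (a * n * a⁻¹) by group]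
      exact Subgroup.mul_mem_sup ((Subgroup.mem_normalizer_iff.1 (hAK ha) k).1 hk)
        ((inferInstance : N.Normal).conj_mem n hn a)
    intro u hu
    rw [← QuotientGroup.eq_one_iff (N := K ⊔ N), ← orderOf_eq_one_iff]
    obtain ⟨e, he⟩ := IsPGroup.iff_card.1 P.isPGroup'
    have hq : Nat.card (G ⧸ (K ⊔ N)) = p ^ e := by
      have hdisj : N ⊓ K = ⊥ :=
        eq_bot_iff.2 ((inf_le_inf_left N hKA).trans (by rw [inf_comm]; exact hA.disjoint.le_bot))
      have h1 := CfsgLib.Coprime.card_sup_of_disjoint (H := K) (N := N) Subgroup.le_normalizer_of_normal hdisj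
      have h2 := Subgroup.card_eq_card_quotient_mul_card_subgroup (K ⊔ N)
      rw [h1, ← hA.card_mul, hKcard, ← hcomp.card_mul, he] at h2
      apply Nat.eq_of_mul_eq_mul_right (Nat.mul_pos (Nat.card_pos (α := K0)) (Nat.card_pos (α := N)))
      rw [← h2]
      ring
    refine Nat.eq_one_of_dvd_coprimes (hU.pow_right e) ?_ (hq ▸ orderOf_dvd_natCard _)
    exact (orderOf_map_dvd (QuotientGroup.mk' (K ⊔ N)) u).trans (Subgroup.orderOf_dvd_natCard _ hu)


/-- Let G be a finite group that is the semidirect product of a normal p-subgroup N by a subgroup A, and also of N by a subgroup A₁, where p is a prime and A and A₁ both have normal p-complements. If C_N(A) = C_N(A₁) = 1, then A₁ is conjugate to A by an element of N. -/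
theorem result {G : Type*} [Group G] [Finite G] {p : ℕ}
    [Fact p.Prime] (N : Subgroup G) [N.Normal] (hN : IsPGroup p N) (A A₁ : Subgroup G)
    (hA : A.IsComplement' N) (hA₁ : A₁.IsComplement' N)
    (hAp : Cfsg.HasNormalPComplement p A) (hA₁p : Cfsg.HasNormalPComplement p A₁)
    (hC : ∀ n : G, n ∈ N → (∀ a : G, a ∈ A → a * n * a⁻¹ = n) → n = 1)
    (hC₁ : ∀ n : G, n ∈ N → (∀ a : G, a ∈ A₁ → a * n * a⁻¹ = n) → n = 1) :
    ∃ n : G, n ∈ N ∧ A₁ = A.map (MulAut.conj n).toMonoidHom := by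
  classical
  have hp := (Fact.out : p.Prime)
  obtain ⟨K, hKA, hAK, hpK, hCK, hKU⟩ := exists_pPrime_part N A hA hAp hC hN
  obtain ⟨K₁, hKA₁, hAK₁, hpK₁, hCK₁, hKU₁⟩ := exists_pPrime_part N A₁ hA₁ hA₁p hC₁ hN
  obtain ⟨b, hb⟩ := IsPGroup.iff_card.1 hN
  have hcopK : ∀ {L : Subgroup G}, ¬ p ∣ Nat.card L → (Nat.card L).Coprime (Nat.card N) := fun h =>
    hb ▸ Nat.Coprime.pow_right _ ((hp.coprime_iff_not_dvd).2 h).symm
  have hsolv : Group.IsSolvable N := by
    have := hN.isNilpotent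
    infer_instance
  obtain ⟨x, hx, hle⟩ := CfsgLib.Coprime.exists_conj_le_of_coprime K N Subgroup.le_normalizer_of_normal
    (hcopK hpK) K₁ (hKU K₁ ((hp.coprime_iff_not_dvd).2 hpK₁).symm) (hcopK hpK₁) (Or.inr hsolv)
  have hcard : Nat.card K ≤ Nat.card K₁ := by
    have h1 := hKU₁ K ((hp.coprime_iff_not_dvd).2 hpK).symm
    have hinf : N ⊓ K₁ = ⊥ := Subgroup.inf_eq_bot_of_coprime (hcopK hpK₁).symm
    have h2 := Subgroup.card_dvd_of_le h1
    rw [CfsgLib.Coprime.card_sup_of_disjoint Subgroup.le_normalizer_of_normal hinf] at h2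
    exact Nat.le_of_dvd Nat.card_pos ((hcopK hpK).dvd_of_dvd_mul_right h2)
  have heq := CfsgLib.Coprime.conj_smul_eq_of_le hle hcard
  refine ⟨x⁻¹, N.inv_mem hx, ?_⟩
  have hnorm : ∀ a ∈ A, x⁻¹ * a * x ∈ A₁ := by
    intro a ha
    have hg : x⁻¹ * a * x ∈ Subgroup.normalizer (K₁ : Set G) := by
      apply H79.mem_normalizer_of_conj_mem
      intro k hk
      have h1 : x * k * x⁻¹ ∈ K := CfsgLib.Coprime.conj_smul_le.1 hle k hk
      have h2 : a * (x * k * x⁻¹) * a⁻¹ ∈ K := (Subgroup.mem_normalizer_iff.1 (hAK ha) _).1 h1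
      rw [← heq, CfsgLib.Coprime.mem_conj_smul] at h2
      simpa [mul_assoc] using h2
    obtain ⟨a₁, ha₁, n, hn, he⟩ := Subgroup.mem_sup_of_normal_right.1
      (hA₁.sup_eq_top ▸ Subgroup.mem_top (x⁻¹ * a * x) : x⁻¹ * a * x ∈ A₁ ⊔ N)
    have hnN : n ∈ Subgroup.normalizer (K₁ : Set G) := by
      have : n = a₁⁻¹ * (x⁻¹ * a * x) := by rw [← he]; group
      rw [this]
      exact Subgroup.mul_mem _ (Subgroup.inv_mem _ (hAK₁ ha₁)) hg
    have hn1 : n = 1 := by
      rw [← Subgroup.mem_bot, ← hCK₁]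
      refine ⟨hn, Subgroup.mem_centralizer_iff.2 ?_⟩
      intro k hk
      have h1 : k * n * k⁻¹ * n⁻¹ ∈ N ⊓ K₁ := by
        refine ⟨N.mul_mem ((inferInstance : N.Normal).conj_mem n hn k) (N.inv_mem hn), ?_⟩
        rw [show k * n * k⁻¹ * n⁻¹ = k * (n * k⁻¹ * n⁻¹) by group]
        exact K₁.mul_mem hk ((Subgroup.mem_normalizer_iff.1 hnN _).1 (K₁.inv_mem hk))
      rw [Subgroup.inf_eq_bot_of_coprime (hcopK hpK₁).symm, Subgroup.mem_bot] at h1
      calc k * n = (k * n * k⁻¹ * n⁻¹) * (n * k) := by group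
        _ = n * k := by rw [h1, one_mul]
    rw [← he, hn1, mul_one]
    exact ha₁
  symm
  apply Subgroup.eq_of_le_of_card_ge
  · rintro _ ⟨a, ha, rfl⟩
    simpa using hnorm a ha
  · rw [Subgroup.card_map_of_injective (MulAut.conj x⁻¹).injective]
    exact (Nat.eq_of_mul_eq_mul_right Nat.card_pos (hA₁.card_mul.trans hA.card_mul.symm)).le

end Cfsg.Agent.S4043
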