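import Cfsg.Statements.S4049
import Cfsg.Agent.H79NoReal

set_option autoImplicit false
open Cfsg

namespace Cfsg.Agent.S4049

/-- Let G be a finite group such that N_G(H)/C_G(H) has odd order for every nontrivial subgroup H of odd order. Then the Sylow 2-subgroups of G are normal. -/
theorem result {G : Type*} [Group G] [Finite G]
    (hhom : ∀ H : Subgroup G, H ≠ ⊥ → ¬ 2 ∣ Nat.card ↥H →
        ¬ 2 ∣ (Subgroup.centralizer (H : Set G)).relIndex (Subgroup.normalizer (H : Set G))) (P : Sylow 2 G) :
    (P : Subgroup G).Normal := by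
  refine H79.NoReal.sylow_two_normal _ G rfl (fun x g hx hg => ?_) P
  by_contra hx1
  set H := Subgroup.zpowers x with hH
  have hodd : Odd ((Subgroup.centralizer (H : Set G)).relIndex (Subgroup.normalizer (H : Set G))) := by
    rw [← Nat.not_even_iff_odd]
    intro he
    refine hhom H (fun h => hx1 (Subgroup.zpowers_eq_bot.1 h)) ?_ he.two_dvd
    rw [hH, Nat.card_zpowers]
    exact fun hd => (Nat.not_even_iff_odd.2 hx) (even_iff_two_dvd.2 hd)
  have hgN : g ∈ Subgroup.normalizer (H : Set G) :=
    H79.mem_normalizer_zpowers (hg ▸ Subgroup.inv_mem _ (Subgroup.mem_zpowers x))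
  have : ((Subgroup.centralizer (H : Set G)).subgroupOf (Subgroup.normalizer (H : Set G))).Normal := by
    rw [← Subgroup.normalizerMonoidHom_ker]; infer_instance
  have hpow := ((Subgroup.centralizer (H : Set G)).subgroupOf (Subgroup.normalizer (H : Set G))).pow_index_mem ⟨g, hgN⟩
  rw [Subgroup.mem_subgroupOf, Subgroup.mem_centralizer_iff] at hpow
  have hc := hpow x (Subgroup.mem_zpowers x)
  simp only [SubmonoidClass.coe_pow] at hc
  have h1 := H79.conj_pow_inv_of_odd hg (m := ((Subgroup.centralizer (H : Set G)).subgroupOf (Subgroup.normalizer (H : Set G))).index) hodd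
  rw [← hc, mul_inv_cancel_right] at h1
  have h2 : x ^ 2 = 1 := by rw [pow_two]; exact eq_inv_iff_mul_eq_one.1 h1
  exact hx1 (orderOf_eq_one_iff.1 (Nat.eq_one_of_dvd_coprimes (Nat.coprime_two_left.2 hx)
    (orderOf_dvd_of_pow_eq_one h2) dvd_rfl))

end Cfsg.Agent.S4049
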