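import Cfsg.Statements.S4050
import Cfsg.Agent.H79PiClosed

set_option autoImplicit false
open Cfsg

namespace Cfsg.Agent.S4050

open H79.PiClosed

theorem closed_of_series {G : Type*} [Group G] [Finite G] (π : Set ℕ) (hw : WeakHom π G) :
    (∃ (n : ℕ) (H : Fin (n + 1) → Subgroup G), H 0 = ⊥ ∧ H (Fin.last n) = ⊤ ∧ Monotone H ∧ (∀ i, (H i).Normal) ∧
      ∀ i : Fin n, (∀ q : ℕ, q.Prime → q ∣ (H i.castSucc).relIndex (H i.succ) → q ∈ π) ∨
        (∀ q : ℕ, q.Prime → q ∣ (H i.castSucc).relIndex (H i.succ) → q ∉ π)) → Closed π G := by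
  rintro ⟨n, H, h0, hlast, hmono, hnorm, hstep⟩
  have key : ∀ i : Fin (n + 1), Closed π ↥(H i) := by
    intro i
    induction i using Fin.induction with
    | zero =>
      rw [h0]
      exact closed_of_piNum_card (fun p hp hd => by
        rw [Subgroup.card_bot] at hd
        exact absurd (Nat.dvd_one.1 hd) hp.ne_one)
    | succ i ih =>
      have hle : H i.castSucc ≤ H i.succ := hmono (Fin.castSucc_lt_succ (i := i)).le
      have := hnorm i.castSucc
      have : ((H i.castSucc).subgroupOf (H i.succ)).Normal := (hnorm i.castSucc).subgroupOf _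
      refine closed_extension (weakHom_subgroup hw _) ((H i.castSucc).subgroupOf (H i.succ))
        (closed_of_mulEquiv (Subgroup.subgroupOfEquivOfLe hle).symm ih) ?_
      rcases hstep i with h | h
      · exact closed_of_piNum_card h
      · exact closed_of_piNum_compl_card h
  have h := key (Fin.last n)
  rw [hlast] at h
  exact closed_of_mulEquiv Subgroup.topEquiv h


/-- Let π be a set of primes and G a finite group. The π-elements of G (elements whose order is divisible only by primes of π) form a subgroup if and only if G is π-separable (it has a chain of normal subgroups from 1 to G with each successive index divisible only by primes in π or only by primes outside π) and N_G(H)/C_G(H) is a π'-group for every nontrivial π'-subgroup H of G. -/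
theorem result {G : Type*} [Group G] [Finite G] (π : Set ℕ)
    (hπ : ∀ p ∈ π, p.Prime) :
    (∃ K : Subgroup G, ∀ x : G, x ∈ K ↔ ∀ p : ℕ, p.Prime → p ∣ orderOf x → p ∈ π) ↔
    ((∃ (n : ℕ) (H : Fin (n + 1) → Subgroup G), H 0 = ⊥ ∧ H (Fin.last n) = ⊤ ∧ Monotone H ∧ (∀ i, (H i).Normal) ∧
      ∀ i : Fin n, (∀ q : ℕ, q.Prime → q ∣ (H i.castSucc).relIndex (H i.succ) → q ∈ π) ∨
        (∀ q : ℕ, q.Prime → q ∣ (H i.castSucc).relIndex (H i.succ) → q ∉ π)) ∧
     (∀ H : Subgroup G, H ≠ ⊥ → (∀ p : ℕ, p.Prime → p ∣ Nat.card ↥H → p ∉ π) →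
        ∀ p : ℕ, p.Prime → p ∣ (Subgroup.centralizer (H : Set G)).relIndex (Subgroup.normalizer (H : Set G)) → p ∉ π)) := by
  classical
  constructor
  · rintro hcl
    obtain ⟨K, hKn, hKc, hKi⟩ := closed_iff_normal_hall.1 hcl
    refine ⟨⟨2, ![⊥, K, ⊤], rfl, rfl, ?_, ?_, ?_⟩, ?_⟩
    · refine Fin.monotone_iff_le_succ.2 fun i => ?_
      fin_cases i <;> simp
    · intro i
      fin_cases i
      · exact inferInstanceAs (⊥ : Subgroup G).Normal
      · exact hKn
      · exact inferInstanceAs (⊤ : Subgroup G).Normal
    · intro i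
      fin_cases i
      · left
        intro q hq hd
        refine hKc q hq ?_
        simpa [Subgroup.relIndex_bot_left] using hd
      · right
        intro q hq hd
        refine hKi q hq ?_
        simpa [Subgroup.relIndex_top_right] using hd
    · intro H _ hH p hp hd hpπ
      have := Fact.mk hp
      set f := H.normalizerMonoidHom with hf
      have hrange : Nat.card f.range =
          (Subgroup.centralizer (H : Set G)).relIndex (Subgroup.normalizer (H : Set G)) := by
        rw [← Subgroup.index_ker, hf, Subgroup.normalizerMonoidHom_ker]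
        rfl
      obtain ⟨⟨y, g, rfl⟩, hy⟩ := exists_prime_orderOf_dvd_card' p (hrange ▸ hd)
      rw [← Subgroup.orderOf_coe] at hy
      replace hy : orderOf (f g) = p := hy
      obtain ⟨c, hc1, hc2⟩ := exists_pi_part (π := π) g
      have hfc : f g = f (g ^ c) := by
        rw [map_pow]
        have h := hc2 (f.rangeRestrict) (by
          rw [← Subgroup.orderOf_coe]
          show PiNum π (orderOf (f g))
          rw [hy]
          exact fun r hr hd => (Nat.prime_dvd_prime_iff_eq hr hp).1 hd ▸ hpπ)
        exact (congrArg Subtype.val h).symm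
      have hker : g ^ c ∈ f.ker := by
        rw [hf, Subgroup.normalizerMonoidHom_ker, Subgroup.mem_subgroupOf, Subgroup.mem_centralizer_iff]
        intro z hz
        set u : G := ((g ^ c : Subgroup.normalizer (H : Set G)) : G) with hu
        have hmem : u * z * u⁻¹ * z⁻¹ ∈ K ⊓ H := by
          refine ⟨?_, H.mul_mem ((Subgroup.mem_normalizer_iff.1 (g ^ c).2 z).1 hz) (H.inv_mem hz)⟩
          rw [show u * z * u⁻¹ * z⁻¹ = u * (z * u⁻¹ * z⁻¹) by group]
          have huK : u ∈ K := by
            rw [← QuotientGroup.eq_one_iff (N := K), ← orderOf_eq_one_iff]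
            refine eq_one_of_piNum (piNum_of_dvd hc1 ?_) (fun p hp hd => hKi p hp (hd.trans (orderOf_dvd_natCard _)))
            exact (orderOf_map_dvd (QuotientGroup.mk' K) u).trans (by rw [hu, Subgroup.orderOf_coe])
          exact K.mul_mem huK (hKn.conj_mem _ (K.inv_mem huK) z)
        rw [Subgroup.inf_eq_bot_of_coprime (CfsgLib.Hall.coprime_of_pi hKc (fun p hp hπ hd => hH p hp hd hπ)),
          Subgroup.mem_bot] at hmem
        calc z * u = (u * z * u⁻¹ * z⁻¹)⁻¹ * (u * z) := by group
          _ = u * z := by rw [hmem, inv_one, one_mul]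
      rw [hfc, MonoidHom.mem_ker.1 hker, orderOf_one] at hy
      exact hp.ne_one hy.symm
  · rintro ⟨hser, hhom⟩
    exact closed_of_series π (weakHom_of_relIndex hhom) hser

end Cfsg.Agent.S4050
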