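import Cfsg.Statements.S4056

set_option autoImplicit false
open Cfsg

namespace Cfsg.Agent.S4056

/-- In a finite 2-group of nilpotency class at most 2 and exponent dividing 4, the Frattini subgroup lies in the centre and is elementary abelian. -/
theorem result {P : Type*} [Group P] [Finite P] (hP : IsPGroup 2 P)
    (hcl : Group.nilpotencyClass P ≤ 2) (hexp : Monoid.exponent P ∣ 4) :
    frattini P ≤ Subgroup.center P ∧ Cfsg.IsElementaryAbelian 2 (frattini P) := by
  have : Group.IsNilpotent P := hP.isNilpotent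
  have hup : Subgroup.upperCentralSeries P 2 = ⊤ :=
    top_le_iff.1 ((Subgroup.upperCentralSeries_nilpotencyClass (G := P)).ge.trans
      (Subgroup.upperCentralSeries_mono P hcl))
  have hcomm : ∀ x y : P, x * y * x⁻¹ * y⁻¹ ∈ Subgroup.center P := by
    intro x y
    have hx : x ∈ Subgroup.upperCentralSeries P 2 := hup ▸ Subgroup.mem_top x
    have h := Subgroup.mem_upperCentralSeries_succ_iff.1 hx y
    simpa [Subgroup.upperCentralSeries_one, commutatorElement_def] using h
  have h4 : ∀ x : P, x ^ 4 = 1 := fun x => by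
    obtain ⟨c, hc⟩ := (Monoid.order_dvd_exponent x).trans hexp
    rw [hc, pow_mul, pow_orderOf_eq_one, one_pow]
  have hsqc : ∀ x : P, x ^ 2 ∈ Subgroup.center P := by
    intro x
    rw [Subgroup.mem_center_iff]
    intro y
    obtain ⟨z, hzdef⟩ : ∃ z, z = x * y * x⁻¹ * y⁻¹ := ⟨_, rfl⟩
    have hz : z ∈ Subgroup.center P := hzdef ▸ hcomm x y
    have hzc : ∀ t, t * z = z * t := Subgroup.mem_center_iff.1 hz
    have hxy : x * y = z * (y * x) := by rw [hzdef]; group
    have e1 : x ^ 2 * y = z ^ 2 * (y * x ^ 2) := by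
      calc x ^ 2 * y = x * (x * y) := by rw [pow_two, mul_assoc]
        _ = x * z * (y * x) := by rw [hxy, mul_assoc]
        _ = z * (x * y) * x := by rw [hzc]; group
        _ = z ^ 2 * (y * x ^ 2) := by rw [hxy, pow_two, pow_two]; group
    suffices z ^ 2 = 1 by rw [e1, this, one_mul]
    have hzp : ∀ (n : ℕ) (t : P), t * z ^ n = z ^ n * t := fun n t =>
      Subgroup.mem_center_iff.1 (Subgroup.pow_mem _ hz n) t
    have e2 : x ^ 2 * y ^ 2 = z ^ 4 * (y ^ 2 * x ^ 2) := by
      calc x ^ 2 * y ^ 2 = x ^ 2 * y * y := by rw [pow_two y]; group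
        _ = z ^ 2 * (y * x ^ 2) * y := congrArg (· * y) e1
        _ = z ^ 2 * (y * (x ^ 2 * y)) := by simp only [mul_assoc]
        _ = z ^ 2 * (y * z ^ 2 * (y * x ^ 2)) := by rw [e1, mul_assoc y]
        _ = z ^ 4 * (y ^ 2 * x ^ 2) := by
          rw [hzp 2 y, pow_two y, show (4 : ℕ) = 2 + 2 from rfl, pow_add]; group
    rw [h4 z, one_mul] at e2
    have hcomm2 : Commute (x ^ 2) (y ^ 2) := e2
    have e3 : (y * x) ^ 4 = (x ^ 2 * y ^ 2) ^ 2 * z⁻¹ ^ 6 := by
      have hyx : y * x = z⁻¹ * (x * y) := by rw [hxy]; group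
      have hzinv : ∀ t, t * z⁻¹ = z⁻¹ * t := Subgroup.mem_center_iff.1 (Subgroup.inv_mem _ hz)
      have s1 : (x * y) ^ 2 = x ^ 2 * y ^ 2 * z⁻¹ := by
        rw [pow_two, pow_two x, pow_two y]
        calc x * y * (x * y) = x * (y * x) * y := by group
          _ = x * z⁻¹ * (x * y) * y := by rw [hyx]; group
          _ = z⁻¹ * (x * x * (y * y)) := by rw [hzinv]; group
          _ = x * x * (y * y) * z⁻¹ := (hzinv _).symm
      have c1 : Commute (x ^ 2 * y ^ 2) z⁻¹ := hzinv _
      have c2 : Commute z⁻¹ (x * y) := (hzinv _).symm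
      rw [hyx, c2.mul_pow, show (4 : ℕ) = 2 * 2 from rfl, pow_mul (x * y), s1, c1.mul_pow,
        show (6 : ℕ) = 2 * 2 + 2 from rfl, pow_add, ← mul_assoc, ← mul_assoc,
        ((c1.pow_pow 2 (2 * 2)).eq).symm]
    rw [h4, hcomm2.mul_pow, ← pow_mul, ← pow_mul, h4, h4, one_mul, one_mul] at e3
    have h6 : z ^ 6 = 1 := by rw [← inv_eq_one, ← inv_pow, ← e3]
    rwa [show (6 : ℕ) = 4 + 2 from rfl, pow_add, h4, one_mul] at h6
  let N : Subgroup P := Subgroup.closure (Set.range fun x : P => x ^ 2)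
  have hNc : N ≤ Subgroup.center P := by
    rw [Subgroup.closure_le]
    rintro _ ⟨x, rfl⟩
    exact hsqc x
  have hNn : N.Normal := ⟨fun n hn g => by
    rw [Subgroup.mem_center_iff.1 (hNc hn) g, mul_inv_cancel_right]; exact hn⟩
  have hsq2 : ∀ a : P ⧸ N, a ^ 2 = 1 := by
    intro a
    obtain ⟨a, rfl⟩ := QuotientGroup.mk_surjective a
    rw [← QuotientGroup.mk_pow, QuotientGroup.eq_one_iff]
    exact Subgroup.subset_closure ⟨a, rfl⟩
  have hfr : frattini P ≤ N := by
    intro a ha
    by_contra haN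
    have hab : ∀ u v : P ⧸ N, u * v = v * u := fun u v => by
      have := hsq2 (u * v)
      rw [pow_two] at this
      have hu : u⁻¹ = u := inv_eq_of_mul_eq_one_right (by rw [← pow_two, hsq2])
      have hv : v⁻¹ = v := inv_eq_of_mul_eq_one_right (by rw [← pow_two, hsq2])
      rw [← inv_eq_of_mul_eq_one_right this, mul_inv_rev, hu, hv]
    obtain ⟨M, ⟨hNM, haM⟩, hmax⟩ := (Set.toFinite {M : Subgroup P | N ≤ M ∧ a ∉ M}).exists_maximal ⟨N, le_rfl, haN⟩
    have hMn : M.Normal := ⟨fun m hm g => by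
      have hmem : (g * m * g⁻¹) * m⁻¹ ∈ N := by
        rw [← QuotientGroup.eq_one_iff]
        simp only [QuotientGroup.mk_mul, QuotientGroup.mk_inv]
        rw [hab (g : P ⧸ N) (m : P ⧸ N)]
        group
      simpa using M.mul_mem (hNM hmem) hm⟩
    have hbig : ∀ L : Subgroup P, M < L → a ∈ L := fun L hL => by
      by_contra h
      exact hL.not_ge (hmax ⟨hNM.trans hL.le, h⟩ hL.le)
    have htop : M ⊔ Subgroup.zpowers a = ⊤ := by
      rw [eq_top_iff]
      intro b _
      by_cases hb : b ∈ M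
      · exact Subgroup.mem_sup_left hb
      have hlt : M < M ⊔ Subgroup.zpowers b := lt_of_le_of_ne le_sup_left
        (fun h => hb (h ▸ Subgroup.mem_sup_right (Subgroup.mem_zpowers b)))
      obtain ⟨m, hm, t, ht, hmt⟩ := Subgroup.mem_sup_of_normal_left.1 (hbig _ hlt)
      obtain ⟨i, rfl⟩ := Subgroup.mem_zpowers_iff.1 ht
      have hb2 : b ^ (2 : ℤ) ∈ M := by
        rw [show (2 : ℤ) = ((2 : ℕ) : ℤ) from rfl, zpow_natCast]
        exact hNM (Subgroup.subset_closure ⟨b, rfl⟩)
      rcases Int.even_or_odd' i with ⟨j, hj | hj⟩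
      · exfalso
        apply haM
        rw [← hmt, hj, zpow_mul]
        exact M.mul_mem hm (M.zpow_mem hb2 j)
      · have hmem : m * (b ^ (2 : ℤ)) ^ j ∈ M := M.mul_mem hm (M.zpow_mem hb2 j)
        have e : b = (m * (b ^ (2 : ℤ)) ^ j)⁻¹ * a := by
          rw [← hmt, hj, zpow_add, zpow_mul, zpow_one]
          group
        rw [e]
        exact Subgroup.mul_mem _ (Subgroup.mem_sup_left (M.inv_mem hmem))
          (Subgroup.mem_sup_right (Subgroup.mem_zpowers a))
    have hcoatom : IsCoatom M := by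
      refine ⟨fun h => haM (h ▸ Subgroup.mem_top a), fun L hL => ?_⟩
      rw [eq_top_iff, ← htop]
      exact sup_le hL.le (Subgroup.zpowers_le.2 (hbig L hL))
    exact haM (frattini_le_coatom hcoatom ha)
  refine ⟨hfr.trans hNc, ⟨⟨fun u v => Subtype.ext ?_⟩⟩, fun a ha => ?_⟩
  · exact (Subgroup.mem_center_iff.1 ((hfr.trans hNc) v.2) u)
  · suffices key : ∀ a ∈ N, a ^ 2 = 1 from key a (hfr ha)
    clear ha a
    intro a hmem
    induction hmem using Subgroup.closure_induction with
    | mem x hx =>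
      obtain ⟨w, rfl⟩ := hx
      simp only
      rw [← pow_mul]
      exact h4 w
    | one => simp
    | mul x y hx hy ihx ihy =>
      have hc : Commute x y := (Subgroup.mem_center_iff.1 (hNc hy) x)
      rw [hc.mul_pow, ihx, ihy, one_mul]
    | inv x hx ih => rw [inv_pow, ih, inv_one]

end Cfsg.Agent.S4056
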