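import Cfsg.Statements.S4057
import Cfsg.Agent.H79OmegaCentral
import Cfsg.Agent.H79Pivot
import Cfsg.Agent.Lib.OddOrder41.NormalElementary
import Cfsg.Agent.Lib.PGroup.ExtraspecialIso

set_option autoImplicit false
open Cfsg

namespace Cfsg.Agent.S4057

/-- An abelian group of exponent `p` on `n` generators has order at most `p ^ n`. -/
theorem card_le_of_gens {P : Type*} [Group P] [Finite P] {p : ℕ} [hp : Fact p.Prime]
    (S : Finset P) (hcomm : ∀ x ∈ S, ∀ y ∈ S, x * y = y * x) (he : ∀ x ∈ S, x ^ p = 1) :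
    Nat.card (Subgroup.closure (S : Set P)) ≤ p ^ S.card := by
  classical
  induction S using Finset.induction with
  | empty => simp
  | @insert s S hs ih =>
    have hn : s ∈ Subgroup.normalizer (Subgroup.closure (S : Set P) : Set P) := by
      apply Subgroup.mem_normalizer_iff.2
      intro w
      have hcen : ∀ z ∈ Subgroup.closure (S : Set P), s * z = z * s := by
        intro z hz
        refine Subgroup.mem_centralizer_iff.1 ((Subgroup.closure_le
          (Subgroup.centralizer ({s} : Set P))).2 ?_ hz) s rfl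
        intro y hy
        rw [SetLike.mem_coe, Subgroup.mem_centralizer_iff]
        rintro _ rfl
        exact hcomm _ (Finset.mem_insert_self _ _) y (Finset.mem_insert_of_mem hy)
      constructor
      · intro hw; rwa [hcen w hw, mul_inv_cancel_right]
      · intro hw
        have h1 := hcen _ hw
        have h2 : s * w * s⁻¹ = w := by
          have h3 : s * (s * w * s⁻¹) * s⁻¹ = s * w * s⁻¹ := by rw [h1, mul_inv_cancel_right]
          calc s * w * s⁻¹ = s⁻¹ * (s * (s * w * s⁻¹) * s⁻¹) * s := by group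
            _ = s⁻¹ * (s * w * s⁻¹) * s := by rw [h3]
            _ = w := by group
        rwa [h2] at hw
    have h1 := CfsgLib.ExtraIso.card_sup_zpowers_le (p := p) (Subgroup.closure (S : Set P)) s
      hp.out.pos hn (by rw [he s (Finset.mem_insert_self _ _)]; exact one_mem _)
    rw [Finset.coe_insert, Set.insert_eq, Subgroup.closure_union, ← Subgroup.zpowers_eq_closure,
      Finset.card_insert_of_notMem hs, pow_succ']
    exact h1.trans (Nat.mul_le_mul_left p (ih
      (fun x hx y hy => hcomm x (Finset.mem_insert_of_mem hx) y (Finset.mem_insert_of_mem hy))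
      (fun x hx => he x (Finset.mem_insert_of_mem hx))))

/-- Let p be an odd prime and P a finite p-group in which every normal abelian subgroup can be generated by k elements. Then every subgroup of P can be generated by at most ⌊k(k+4)/4⌋ elements. -/
theorem result {P : Type*} [Group P] [Finite P] {p : ℕ} [Fact p.Prime]
    (hp : p ≠ 2) (hP : IsPGroup p P) (k : ℕ)
    (hab : ∀ A : Subgroup P, A.Normal → IsMulCommutative A → ∃ S : Finset P, S.card ≤ k ∧ Subgroup.closure (S : Set P) = A) :
    ∀ H : Subgroup P, ∃ S : Finset P, S.card ≤ k * (k + 4) / 4 ∧ Subgroup.closure (S : Set P) = H := by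
  classical
  haveI := hP.isNilpotent
  intro H
  obtain ⟨A, ⟨hAn, hAe⟩, hmax⟩ := Set.Finite.exists_maximal
    (s := {A : Subgroup P | A.Normal ∧ IsElementaryAbelian p A}) (Set.toFinite _)
    ⟨⊥, inferInstance, ⟨⟨⟨fun x y => Subsingleton.elim _ _⟩⟩, fun x hx => by
      rw [Subgroup.mem_bot.1 hx, one_pow]⟩⟩
  haveI := hAn
  have hom : ∀ x ∈ Subgroup.centralizer (A : Set P), x ^ p = 1 → x ∈ A := by
    intro x hx hxp
    by_contra hxA
    obtain ⟨F, hFn, hFe, hlt⟩ :=
      CfsgLib.OddOrder41.exists_normal_elementary_gt hp hP A hAe x hx hxp hxA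
    exact hlt.not_ge (hmax ⟨hFn, hFe⟩ hlt.le)
  have hAc : ∀ x ∈ A, ∀ y ∈ A, x * y = y * x := fun x hx y hy =>
    congrArg Subtype.val (hAe.1.is_comm.comm ⟨x, hx⟩ ⟨y, hy⟩)
  obtain ⟨a, ha⟩ := IsPGroup.iff_card.1 (hP.to_subgroup A)
  have hak : a ≤ k := by
    obtain ⟨S, hS, hSA⟩ := hab A hAn hAe.1
    have hmem : ∀ x ∈ S, x ∈ A := fun x hx => hSA ▸ Subgroup.subset_closure (Finset.mem_coe.2 hx)
    have h1 := card_le_of_gens (p := p) S (fun x hx y hy => hAc x (hmem x hx) y (hmem y hy))
      (fun x hx => hAe.2 x (hmem x hx))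
    rw [hSA, ha, Nat.pow_le_pow_iff_right (Fact.out : p.Prime).one_lt] at h1
    exact h1.trans hS
  obtain ⟨F, hFA, hFa⟩ := H79.Pivot.Flag.exists_of hP A hAc hAe.2 ha
  obtain ⟨S, hS, hSH, hHW⟩ := F.exists_gens H
  rw [hFA] at hHW
  rw [hFa] at hS
  set H0 := H ⊓ Subgroup.centralizer (A : Set P)
  have hc0 : H79.OmegaCentral.CentralOmega p H0 := by
    intro z hz
    have hzA : (z : P) ∈ A := hom _ z.2.2 (by rw [← Subgroup.coe_pow, hz, Subgroup.coe_one])
    rw [Subgroup.mem_center_iff]
    exact fun g => Subtype.ext ((Subgroup.mem_centralizer_iff.1 g.2.2 _ hzA).symm)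
  obtain ⟨S0, hS0, hS0T⟩ := H79.OmegaCentral.exists_gens hp (hP.to_subgroup H0) hc0 (m := a) (by
    rw [← ha]
    exact Nat.card_le_card_of_injective
      (fun z => (⟨z.1, hom _ z.1.2.2 (by rw [← Subgroup.coe_pow, z.2, Subgroup.coe_one])⟩ : A))
      fun z w h => Subtype.ext (Subtype.ext (congrArg (fun v : A => (v : P)) h)))
  let T : Finset P := S ∪ S0.image H0.subtype
  refine ⟨T, ?_, ?_⟩
  · rw [Nat.le_div_iff_mul_le (by norm_num)]
    have h1 : T.card ≤ S.card + a :=
      (Finset.card_union_le _ _).trans (Nat.add_le_add_left (Finset.card_image_le.trans hS0) _)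
    have h2 : a ^ 2 ≤ k ^ 2 := Nat.pow_le_pow_left hak 2
    nlinarith
  have hTH : Subgroup.closure (T : Set P) ≤ H := by
    rw [Subgroup.closure_le]
    intro x hx
    rcases Finset.mem_union.1 (Finset.mem_coe.1 hx) with h | h
    · exact hSH (Finset.mem_coe.2 h)
    · obtain ⟨z, -, rfl⟩ := Finset.mem_image.1 h
      exact z.2.1
  have h0 : H0 ≤ Subgroup.closure (T : Set P) := by
    intro x hx
    have h1 : x ∈ (Subgroup.closure (S0 : Set H0)).map H0.subtype := by
      rw [hS0T]; exact ⟨⟨x, hx⟩, trivial, rfl⟩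
    rw [MonoidHom.map_closure, ← Finset.coe_image] at h1
    exact Subgroup.closure_mono (Finset.coe_subset.2 Finset.subset_union_right) h1
  refine le_antisymm hTH ?_
  have h1 : H ≤ Subgroup.closure (T : Set P) ⊔ ⁅H, H⁆ := by
    refine hHW.trans (sup_le (sup_le (le_sup_of_le_left h0) le_sup_right) ?_)
    exact le_sup_of_le_left (Subgroup.closure_mono (Finset.coe_subset.2 Finset.subset_union_left))
  have h2 : (Subgroup.closure (T : Set P)).subgroupOf H = ⊤ := by
    apply frattini_nongenerating
    rw [eq_top_iff]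
    refine le_trans ?_ (sup_le_sup_left (CfsgLib.PGroup.commutator_le_frattini (hP.to_subgroup H)) _)
    have h3 : ⁅H, H⁆.subgroupOf H = commutator H := by
      rw [Subgroup.subgroupOf, ← Subgroup.map_subtype_commutator,
        Subgroup.comap_map_eq_self_of_injective H.subtype_injective]
    rw [← h3, ← Subgroup.subgroupOf_sup hTH (by
      rw [← Subgroup.map_subtype_commutator]; exact Subgroup.map_subtype_le _)]
    intro x _
    exact h1 x.2
  exact Subgroup.subgroupOf_eq_top.1 h2

end Cfsg.Agent.S4057
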