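import Cfsg.Statements.S4059
import Cfsg.Agent.H79Real

set_option autoImplicit false
open Cfsg

namespace Cfsg.Agent.S4059

/-- Let G be a finite group in which every element is conjugate to its inverse. Then: every non-identity element commuting with all elements of some Sylow 2-subgroup is an involution; the centre of G is an elementary abelian 2-group; the commutator quotient G/G' is an elementary abelian 2-group; and G is generated by its 2-elements. -/
theorem result {G : Type*} [Group G] [Finite G] (hamb : ∀ x : G, IsConj x x⁻¹) :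
    (∀ (S : Sylow 2 G) (x : G), x ∈ Subgroup.centralizer ((S : Subgroup G) : Set G) → x ≠ 1 → orderOf x = 2) ∧
    (∀ z : G, z ∈ Subgroup.center G → z ^ 2 = 1) ∧
    (∀ x : G, x ^ 2 ∈ commutator G) ∧
    Subgroup.closure {x : G | ∃ k : ℕ, orderOf x = 2 ^ k} = ⊤ := by
  refine ⟨fun S x hx hx1 => orderOf_eq_prime (H79.sq_eq_one_of_real_of_mem_centralizer_sylow S hx (hamb x)) hx1,
    fun z hz => ?_, fun x => ?_, ?_⟩
  · obtain ⟨g, hg⟩ := isConj_iff.1 (hamb z)
    rw [Subgroup.mem_center_iff.1 hz g, mul_inv_cancel_right] at hg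
    rw [pow_two]
    exact eq_inv_iff_mul_eq_one.1 hg
  · obtain ⟨g, hg⟩ := isConj_iff.1 (hamb x)
    have h := Subgroup.commutator_mem_commutator (Subgroup.mem_top g) (Subgroup.mem_top x)
    rw [← commutator_def, commutatorElement_def, hg] at h
    have h' := Subgroup.inv_mem _ h
    rwa [mul_inv_rev, inv_inv, ← pow_two] at h'
  · set K := Subgroup.closure {x : G | ∃ k : ℕ, orderOf x = 2 ^ k} with hK
    have hmap : ∀ (g : G) (x : G), x ∈ K → g * x * g⁻¹ ∈ K := by
      intro g x hx
      induction hx using Subgroup.closure_induction with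
      | mem y hy =>
        obtain ⟨k, hk⟩ := hy
        refine Subgroup.subset_closure ⟨k, ?_⟩
        rw [← hk]
        exact orderOf_injective (MulAut.conj g).toMonoidHom (MulAut.conj g).injective y
      | one => simp
      | mul y z _ _ iy iz =>
        rw [← conj_mul]
        exact K.mul_mem iy iz
      | inv y _ iy =>
        rw [← conj_inv]
        exact K.inv_mem iy
    have hKn : K.Normal := ⟨fun x hx g => hmap g x hx⟩
    have hodd : ∀ y : G ⧸ K, Odd (orderOf y) := by
      intro y
      obtain ⟨x, rfl⟩ := QuotientGroup.mk_surjective y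
      obtain ⟨a, m, hm, h2, -⟩ := H79.exists_odd_part x
      have h1 : (x : G ⧸ K) ^ m = 1 := by
        rw [← QuotientGroup.mk_pow, QuotientGroup.eq_one_iff]
        exact Subgroup.subset_closure ⟨a, h2⟩
      exact hm.of_dvd_nat (orderOf_dvd_of_pow_eq_one h1)
    rw [eq_top_iff]
    intro x _
    rw [← QuotientGroup.eq_one_iff (N := K)]
    obtain ⟨g, hg⟩ := isConj_iff.1 (hamb x)
    exact H79.eq_one_of_conj_inv_of_odd (g := (g : G ⧸ K)) (by
      rw [← QuotientGroup.mk_inv, ← QuotientGroup.mk_inv, ← QuotientGroup.mk_mul, ← QuotientGroup.mk_mul, hg])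
      (hodd _) (hodd _)

end Cfsg.Agent.S4059
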