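import Cfsg.Statements.S4060
import Cfsg.Agent.H79Real

set_option autoImplicit false
open Cfsg

namespace Cfsg.Agent.S4060

universe u

theorem odd_normalizing_sylow_two_not_real : ∀ (n : ℕ) (G : Type u) [Group G] [Finite G] [Group.IsSolvable G],
    Nat.card G = n → ∀ (S : Sylow 2 G) (x : G), x ≠ 1 → Odd (orderOf x) →
      x ∈ Subgroup.normalizer ((S : Subgroup G) : Set G) → ¬ IsConj x x⁻¹ := by
  intro n
  induction n using Nat.strong_induction_on with
  | _ n ih =>
    intro G _ _ _ hn S x hx hodd hnorm hreal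
    classical
    -- a nontrivial abelian normal subgroup
    have hsolv : ∃ k, derivedSeries G k = ⊥ := (Group.isSolvable_def G).1 inferInstance
    have hd0 : Nat.find hsolv ≠ 0 := by
      intro h
      have hspec := Nat.find_spec hsolv
      rw [h, derivedSeries_zero] at hspec
      exact hx (Subgroup.mem_bot.1 (hspec ▸ Subgroup.mem_top x))
    obtain ⟨j, hj⟩ := Nat.exists_eq_succ_of_ne_zero hd0
    set A := derivedSeries G j with hA
    have hAne : A ≠ ⊥ := Nat.find_min hsolv (by omega)
    have hAab : ∀ a ∈ A, ∀ b ∈ A, a * b = b * a := by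
      intro a ha b hb
      have h := Subgroup.commutator_mem_commutator (H₁ := A) (H₂ := A) ha hb
      have h0 : derivedSeries G (j + 1) = ⊥ := by
        have hspec := Nat.find_spec hsolv
        rwa [hj] at hspec
      rw [derivedSeries_succ, ← hA] at h0
      rw [h0, Subgroup.mem_bot, commutatorElement_eq_one_iff_mul_comm] at h
      exact h
    have hAn : A.Normal := derivedSeries_normal G j
    obtain ⟨V, hVn, hVne, hVcase⟩ : ∃ V : Subgroup G, V.Normal ∧ V ≠ ⊥ ∧
        (Odd (Nat.card V) ∨ ∀ v ∈ V, v ^ 2 = 1) := by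
      rcases Nat.even_or_odd (Nat.card A) with he | ho
      · let V : Subgroup G :=
          { carrier := {v | v ∈ A ∧ v ^ 2 = 1}
            one_mem' := ⟨A.one_mem, one_pow _⟩
            mul_mem' := by
              intro a b ha hb
              refine ⟨A.mul_mem ha.1 hb.1, ?_⟩
              rw [(show Commute a b from hAab a ha.1 b hb.1).mul_pow, ha.2, hb.2, one_mul]
            inv_mem' := by
              intro a ha
              exact ⟨A.inv_mem ha.1, by rw [inv_pow, ha.2, inv_one]⟩ }
        have hVn : V.Normal := ⟨fun v hv g => ⟨hAn.conj_mem v hv.1 g, by rw [conj_pow, hv.2, mul_one, mul_inv_cancel]⟩⟩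
        refine ⟨V, hVn, ?_, Or.inr fun v hv => hv.2⟩
        obtain ⟨t, ht⟩ := exists_prime_orderOf_dvd_card' 2 he.two_dvd
        have ht2 : orderOf (t : G) = 2 := by rw [Subgroup.orderOf_coe, ht]
        intro hbot
        have hmem : (t : G) ∈ V := ⟨t.2, by rw [← ht2, pow_orderOf_eq_one]⟩
        rw [hbot, Subgroup.mem_bot] at hmem
        rw [hmem, orderOf_one] at ht2
        exact absurd ht2 (by norm_num)
      · exact ⟨A, hAn, hAne, Or.inl ho⟩
    by_cases hxV : x ∈ V
    · rcases hVcase with ho | h2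
      · -- `x` centralizes `S`
        have hcent : x ∈ Subgroup.centralizer ((S : Subgroup G) : Set G) := by
          rw [Subgroup.mem_centralizer_iff]
          intro s hs
          have h1 : x * s * x⁻¹ * s⁻¹ ∈ (S : Subgroup G) :=
            Subgroup.mul_mem _ ((Subgroup.mem_normalizer_iff.1 hnorm s).1 hs) (Subgroup.inv_mem _ hs)
          have h2 : x * s * x⁻¹ * s⁻¹ ∈ V := by
            rw [show x * s * x⁻¹ * s⁻¹ = x * (s * x⁻¹ * s⁻¹) by group]
            exact V.mul_mem hxV (hVn.conj_mem _ (V.inv_mem hxV) s)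
          obtain ⟨e, he⟩ := IsPGroup.iff_orderOf.1 S.isPGroup' ⟨_, h1⟩
          rw [Subgroup.orderOf_mk] at he
          have h3 : x * s * x⁻¹ * s⁻¹ = 1 := H79.eq_one_of_mem_of_primePow_order V Nat.prime_two
            (fun h => (Nat.not_even_iff_odd.2 ho) (even_iff_two_dvd.2 h)) _ h2 he.dvd
          exact (eq_of_mul_inv_eq_one (show x * s * (s * x)⁻¹ = 1 by rw [mul_inv_rev, ← mul_assoc]; exact h3)).symm
        have hsq := H79.sq_eq_one_of_real_of_mem_centralizer_sylow S hcent hreal
        exact hx (orderOf_eq_one_iff.1 (Nat.eq_one_of_dvd_coprimes (Nat.coprime_two_left.2 hodd)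
          (orderOf_dvd_of_pow_eq_one hsq) dvd_rfl))
      · exact hx (orderOf_eq_one_iff.1 (Nat.eq_one_of_dvd_coprimes (Nat.coprime_two_left.2 hodd)
          (orderOf_dvd_of_pow_eq_one (h2 x hxV)) dvd_rfl))
    · have hlt : Nat.card (G ⧸ V) < n := by
        rw [← hn, Subgroup.card_eq_card_quotient_mul_card_subgroup V]
        exact lt_mul_of_one_lt_right Nat.card_pos (Subgroup.one_lt_card_iff_ne_bot V |>.2 hVne)
      have : Group.IsSolvable (G ⧸ V) := Group.isSolvable_of_surjective (QuotientGroup.mk'_surjective V)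
      apply ih _ hlt (G ⧸ V) rfl (S.mapSurjective (QuotientGroup.mk'_surjective V)) (x : G ⧸ V)
      · rwa [Ne, QuotientGroup.eq_one_iff]
      · exact hodd.of_dvd_nat (orderOf_map_dvd (QuotientGroup.mk' V) x)
      · apply H79.mem_normalizer_of_conj_mem
        rw [Sylow.coe_mapSurjective]
        rintro _ ⟨s, hs, rfl⟩
        exact ⟨x * s * x⁻¹, (Subgroup.mem_normalizer_iff.1 hnorm s).1 hs, by simp⟩
      · obtain ⟨g, hg⟩ := isConj_iff.1 hreal
        exact isConj_iff.2 ⟨(g : G ⧸ V), by rw [← QuotientGroup.mk_inv, ← QuotientGroup.mk_inv, ← QuotientGroup.mk_mul, ← QuotientGroup.mk_mul, hg]⟩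


/-- Let G be a finite solvable group with Sylow 2-subgroup S, and let x ≠ 1 be an element of odd order normalizing S. Then x is not conjugate to its inverse in G. -/
theorem result {G : Type*} [Group G] [Finite G] [Group.IsSolvable G]
    (S : Sylow 2 G) (x : G) (hx : x ≠ 1) (hodd : Odd (orderOf x))
    (hnorm : x ∈ Subgroup.normalizer ((S : Subgroup G) : Set G)) : ¬ IsConj x x⁻¹ := by
  exact odd_normalizing_sylow_two_not_real _ G rfl S x hx hodd hnorm

end Cfsg.Agent.S4060
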