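import Cfsg.Statements.S4061
import Cfsg.Agent.H79Real
import Cfsg.Agent.H79ConjSubgroups
import Cfsg.Agent.Lib.PCore.Basic
import Cfsg.Agent.Lib.TwoGroups.OneInvolution

set_option autoImplicit false
open Cfsg

namespace Cfsg.Agent.S4061

open scoped commutatorElement
universe u

variable {G : Type u} [Group G] [Finite G]

omit [Finite G] in
theorem pow_two_eq_one_of_order {x : G} (hx : orderOf x = 2) : x⁻¹ = x :=
  inv_eq_of_mul_eq_one_right (by rw [← pow_two, ← hx, pow_orderOf_eq_one])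

/-- A normal elementary abelian `2`-subgroup containing all involutions, permuted transitively, has order two. -/
theorem two_involutions_false [Group.IsSolvable G] (hamb : ∀ x : G, IsConj x x⁻¹)
    (hone : ∀ s t : G, orderOf s = 2 → orderOf t = 2 → IsConj s t)
    (V : Subgroup G) [V.Normal] (hel : ∀ v ∈ V, v ^ 2 = 1) (hVc : IsMulCommutative V)
    (hall : ∀ t : G, orderOf t = 2 → t ∈ V)
    {a b : G} (ha : orderOf a = 2) (hb : orderOf b = 2) (hab : a ≠ b) : False := by
  classical
  have hord : ∀ v ∈ V, v ≠ 1 → orderOf v = 2 := fun v hv hv1 => orderOf_eq_prime (hel v hv) hv1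
  set C := Subgroup.centralizer (V : Set G) with hC
  have hCn : C.Normal := by
    refine ⟨fun c hc g => ?_⟩
    rw [hC, Subgroup.mem_centralizer_iff] at hc ⊢
    intro v hv
    have := hc _ ((inferInstance : V.Normal).conj_mem' v hv g)
    calc v * (g * c * g⁻¹) = g * ((g⁻¹ * v * g) * c) * g⁻¹ := by group
      _ = g * (c * (g⁻¹ * v * g)) * g⁻¹ := by rw [this]
      _ = g * c * g⁻¹ * v := by group
  have hHnt : Nontrivial (G ⧸ C) := by
    rw [QuotientGroup.nontrivial_iff]
    intro htop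
    obtain ⟨g, hg⟩ := isConj_iff.1 (hone a b ha hb)
    have := Subgroup.mem_centralizer_iff.1 (show g ∈ C from htop ▸ Subgroup.mem_top g) a (hall a ha)
    rw [← this, mul_inv_cancel_right] at hg
    exact hab hg
  obtain ⟨R, hR⟩ := CfsgLib.MinNormal.exists_isMinNormal (G := G ⧸ C)
  have := hR.1
  obtain ⟨r, hr, helR, hRp, k, hk, hRc⟩ := hR.elementaryAbelian_of_solvable
  have := Fact.mk hr
  set N := R.comap (QuotientGroup.mk' C) with hN
  have hNn : N.Normal := (inferInstance : R.Normal).comap _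
  have hCN : C ≤ N := fun c hc => by
    rw [hN, Subgroup.mem_comap, QuotientGroup.mk'_apply, (QuotientGroup.eq_one_iff c).2 hc]
    exact R.one_mem
  obtain ⟨T, hTp, hTR, -⟩ := H79.ConjSub.exists_lift_pgroup C R hRp
  have hTN : T ≤ N := fun t ht => by
    rw [hN, Subgroup.mem_comap, ← hTR]
    exact ⟨t, ht, rfl⟩
  obtain ⟨y, hyT, hyC⟩ : ∃ y ∈ T, y ∉ C := SetLike.not_le_iff_exists.1 fun hle => by
    apply hR.2.1
    rw [← hTR, Subgroup.map_eq_bot_iff, QuotientGroup.ker_mk']
    exact hle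
  let K : G → Subgroup G := fun v => N ⊓ Subgroup.centralizer ({v} : Set G)
  have hKmem : ∀ v x, x ∈ K v ↔ x ∈ N ∧ x * v = v * x := fun v x => by
    simp only [K, Subgroup.mem_inf, H79.mem_centralizer_singleton]
  have hCK : ∀ v ∈ V, C ≤ K v := fun v hv c hc =>
    (hKmem v c).2 ⟨hCN hc, (Subgroup.mem_centralizer_iff.1 hc v hv).symm⟩
  have hKcard : ∀ v ∈ V, v ≠ 1 → Nat.card (K v) = Nat.card (K a) := by
    intro v hv hv1
    obtain ⟨g, hg⟩ := isConj_iff.1 (hone a v ha (hord v hv hv1))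
    have he : K v = (K a).map (MulAut.conj g).toMonoidHom := by
      ext x
      rw [Subgroup.mem_map_equiv, hKmem, hKmem]
      simp only [MulAut.conj_symm_apply]
      refine and_congr ⟨fun h => hNn.conj_mem' x h g, fun h => by
        have := hNn.conj_mem _ h g
        simpa [mul_assoc] using this⟩ ?_
      rw [← hg]
      constructor
      · intro h
        calc g⁻¹ * x * g * a = g⁻¹ * (x * (g * a * g⁻¹)) * g := by group
          _ = g⁻¹ * (g * a * g⁻¹ * x) * g := by rw [h]
          _ = a * (g⁻¹ * x * g) := by group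
      · intro h
        calc x * (g * a * g⁻¹) = g * ((g⁻¹ * x * g) * a) * g⁻¹ := by group
          _ = g * (a * (g⁻¹ * x * g)) * g⁻¹ := by rw [h]
          _ = g * a * g⁻¹ * x := by group
    rw [he, Subgroup.card_map_of_injective (MulAut.conj g).injective]
  have hKeq_of_le : ∀ v ∈ V, v ≠ 1 → ∀ w ∈ V, w ≠ 1 → K v ≤ K w → K v = K w := fun v hv hv1 w hw hw1 h =>
    Subgroup.eq_of_le_of_card_ge h (by rw [hKcard v hv hv1, hKcard w hw hw1])
  have hcommN : ∀ u ∈ N, ∀ z ∈ N, u * z * u⁻¹ * z⁻¹ ∈ C := by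
    intro u hu z hz
    rw [← QuotientGroup.eq_one_iff]
    have := congrArg Subtype.val (helR.1.is_comm.comm ⟨_, hu⟩ ⟨_, hz⟩)
    simp only [QuotientGroup.mk'_apply, Subgroup.coe_mul] at this
    simp [this]
  have hKconj : ∀ w ∈ V, ∀ u ∈ N, ∀ z ∈ K w, z * (u * w * u⁻¹) = (u * w * u⁻¹) * z := by
    intro w hw u hu z hz
    have hz' := (hKmem w z).1 hz
    have hmem : u⁻¹ * z * u * z⁻¹ ∈ K w := by
      refine hCK w hw ?_
      simpa using hcommN u⁻¹ (N.inv_mem hu) z hz'.1
    have h2 := (hKmem w _).1 ((K w).mul_mem hmem hz)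
    rw [inv_mul_cancel_right] at h2
    calc z * (u * w * u⁻¹) = u * ((u⁻¹ * z * u) * w) * u⁻¹ := by group
      _ = u * (w * (u⁻¹ * z * u)) * u⁻¹ := by rw [h2.2]
      _ = u * w * u⁻¹ * z := by group
  have hcomm : ∀ u ∈ V, ∀ w ∈ V, u * w = w * u := fun u hu w hw =>
    congrArg Subtype.val (hVc.is_comm.comm ⟨u, hu⟩ ⟨w, hw⟩)
  have hKsame : ∀ v ∈ V, v ≠ 1 → ∀ w ∈ V, w ≠ 1 → K v = K w := by
    intro v hv hv1 w hw hw1
    by_contra hne
    have hvw : v * w ≠ 1 := fun e => hne (by
      rw [show w = v from (inv_eq_of_mul_eq_one_right e).symm.trans (pow_two_eq_one_of_order (hord v hv hv1))])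
    set u := v * w with hu
    have huV : u ∈ V := V.mul_mem hv hw
    obtain ⟨z, hzv, hzw⟩ : ∃ z ∈ K v, z ∉ K w :=
      SetLike.not_le_iff_exists.1 fun h => hne (hKeq_of_le v hv hv1 w hw hw1 h)
    have hzN := ((hKmem v z).1 hzv)
    set w' := z * w * z⁻¹ with hw'
    have hw'V : w' ∈ V := (inferInstance : V.Normal).conj_mem w hw z
    have hu' : z * u * z⁻¹ = v * w' := by
      calc z * u * z⁻¹ = (z * v) * w * z⁻¹ := by rw [hu]; group
        _ = (v * z) * w * z⁻¹ := by rw [hzN.2]
        _ = v * w' := by rw [hw']; group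
    set e := w⁻¹ * w' with he
    have heV : e ∈ V := V.mul_mem (V.inv_mem hw) hw'V
    have he1 : e ≠ 1 := by
      intro h
      rw [he, inv_mul_eq_one] at h
      exact hzw ((hKmem w z).2 ⟨hzN.1, eq_mul_inv_iff_mul_eq.1 h |>.symm⟩)
    have heu : e = u⁻¹ * (v * w') := by rw [hu, he]; group
    have h1 : K w ≤ K e := fun x hx => (hKmem e x).2 ⟨((hKmem w x).1 hx).1, by
      rw [he]
      exact ((Commute.inv_right ((hKmem w x).1 hx).2).mul_right (hKconj w hw z hzN.1 x hx)).eq⟩
    have h2 : K u ≤ K e := fun x hx => (hKmem e x).2 ⟨((hKmem u x).1 hx).1, by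
      rw [heu]
      refine ((Commute.inv_right ((hKmem u x).1 hx).2).mul_right ?_).eq
      rw [← hu']
      exact hKconj u huV z hzN.1 x hx⟩
    have h3 : K u = K w :=
      (hKeq_of_le u huV hvw e heV he1 h2).trans (hKeq_of_le w hw hw1 e heV he1 h1).symm
    have h4 : K u ≤ K v := fun x hx => by
      have hxw : x ∈ K w := h3 ▸ hx
      refine (hKmem v x).2 ⟨((hKmem u x).1 hx).1, ?_⟩
      have := (Commute.mul_right ((hKmem u x).1 hx).2 (Commute.inv_right ((hKmem w x).1 hxw).2)).eq
      rwa [hu, mul_inv_cancel_right] at this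
    exact hne ((hKeq_of_le u huV hvw v hv hv1 h4).symm.trans h3)
  -- a nontrivial element of `T` fixes no nonzero vector
  have ha1 : a ≠ 1 := fun e => by rw [e, orderOf_one] at ha; norm_num at ha
  have hKC : ∀ v ∈ V, v ≠ 1 → K v ≤ C := by
    intro v hv hv1 x hx
    rw [hC, Subgroup.mem_centralizer_iff]
    intro w hw
    by_cases hw1 : w = 1
    · simp [hw1]
    · exact ((hKmem w x).1 (hKsame v hv hv1 w hw hw1 ▸ hx)).2.symm
  have hyfix : ∀ v ∈ V, v ≠ 1 → y * v ≠ v * y := fun v hv hv1 h =>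
    hyC (hKC v hv hv1 ((hKmem v y).2 ⟨hTN hyT, h⟩))
  obtain ⟨j, hj⟩ := IsPGroup.iff_orderOf.1 hTp ⟨y, hyT⟩
  rw [Subgroup.orderOf_mk] at hj
  rcases hr.eq_two_or_odd' with hr2 | hrodd
  · -- a `2`-group fixes a nonzero vector
    subst hr2
    have hVp : IsPGroup 2 V := fun v => ⟨1, Subtype.ext (by simpa using hel _ v.2)⟩
    let f : T →* MulAut V := (MulAut.conjNormal (H := V)).comp T.subtype
    letI : MulAction T V := MulAction.compHom V f
    have hdvd : 2 ∣ Nat.card V := by
      rw [← ha]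
      exact Subgroup.orderOf_dvd_natCard V (hall a ha)
    have h1 : (1 : V) ∈ MulAction.fixedPoints T V := fun t => (f t).map_one
    obtain ⟨v, hv, hv1⟩ := hTp.exists_fixed_point_of_prime_dvd_card_of_fixed_point (α := V) hdvd h1
    refine hyfix v v.2 (fun e => hv1 (Subtype.ext e.symm)) ?_
    have := congrArg Subtype.val (hv ⟨y, hyT⟩)
    change (y * (v : G) * y⁻¹ : G) = v at this
    exact mul_inv_eq_iff_eq_mul.1 this
  · have hyodd : Odd (orderOf y) := by rw [hj]; exact hrodd.pow
    obtain ⟨g, hg⟩ := isConj_iff.1 (hamb y)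
    obtain ⟨i, m, hm, hs, -⟩ := H79.exists_odd_part g
    set s := g ^ m with hsdef
    have hinv : s * y * s⁻¹ = y⁻¹ := H79.conj_pow_inv_of_odd hg hm
    have hCodd : ¬ 2 ∣ Nat.card (Subgroup.centralizer ({y} : Set G)) := by
      intro hd
      obtain ⟨t, ht⟩ := exists_prime_orderOf_dvd_card' 2 hd
      have ht' : orderOf (t : G) = 2 := by rw [Subgroup.orderOf_coe, ht]
      have htc := H79.mem_centralizer_singleton.1 t.2
      exact hyfix t (hall t ht') (fun e => by rw [e, orderOf_one] at ht'; norm_num at ht') htc.symm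
    have hs2 : s ^ 2 = 1 := by
      refine H79.eq_one_of_mem_of_primePow_order (Subgroup.centralizer ({y} : Set G)) Nat.prime_two
        (k := i) hCodd (s ^ 2) ?_ (hs ▸ orderOf_pow_dvd 2)
      rw [H79.mem_centralizer_singleton]
      have h2 : s ^ 2 * y * (s ^ 2)⁻¹ = y := by
        calc s ^ 2 * y * (s ^ 2)⁻¹ = s * (s * y * s⁻¹) * s⁻¹ := by rw [pow_two]; group
          _ = s * y⁻¹ * s⁻¹ := by rw [hinv]
          _ = (s * y * s⁻¹)⁻¹ := by group
          _ = y := by rw [hinv, inv_inv]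
      exact mul_inv_eq_iff_eq_mul.1 h2
    have hsV : s ∈ V := by
      by_cases hs1 : s = 1
      · exact hs1 ▸ V.one_mem
      · exact hall s (orderOf_eq_prime hs2 hs1)
    have hy2 : y * y ∈ V := by
      have h1 : y * s * y⁻¹ * s⁻¹ ∈ V :=
        V.mul_mem ((inferInstance : V.Normal).conj_mem s hsV y) (V.inv_mem hsV)
      have e : s * y⁻¹ * s⁻¹ = y := by
        calc s * y⁻¹ * s⁻¹ = (s * y * s⁻¹)⁻¹ := by group
          _ = y := by rw [hinv, inv_inv]
      rwa [show y * s * y⁻¹ * s⁻¹ = y * (s * y⁻¹ * s⁻¹) by group, e] at h1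
    have h4 : y ^ 4 = 1 := by
      rw [show y ^ 4 = (y * y) ^ 2 by rw [← pow_two, ← pow_mul]]
      exact hel _ hy2
    have hy1 : y = 1 := orderOf_eq_one_iff.1 (Nat.eq_one_of_dvd_coprimes
      (Nat.Coprime.pow_left 2 (Nat.coprime_two_left.2 hyodd)) (orderOf_dvd_of_pow_eq_one h4) dvd_rfl)
    exact hyC (hy1 ▸ C.one_mem)

/-- Let G be a finite solvable group of even order in which every element is conjugate to its inverse and all involutions are conjugate. Then a Sylow 2-subgroup S of G has order 2 or is a generalized quaternion group (of order at least 8). Moreover, if S has order 2, then G is the semidirect product of its largest normal subgroup of odd order O(G) by S, O(G) equals the derived subgroup of G, and the involution of S inverts every element of O(G). -/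
theorem result {G : Type*} [Group G] [Finite G] [Group.IsSolvable G]
    (hamb : ∀ x : G, IsConj x x⁻¹) (heven : 2 ∣ Nat.card G) (hone : ∀ s t : G, orderOf s = 2 → orderOf t = 2 → IsConj s t) (S : Sylow 2 G) :
    (Nat.card S = 2 ∨ ∃ n : ℕ, Nonempty ((S : Subgroup G) ≃* QuaternionGroup (2 ^ (n + 1)))) ∧
    (Nat.card S = 2 → (S : Subgroup G).IsComplement' (Cfsg.oddCore G) ∧ Cfsg.oddCore G = commutator G ∧
        ∀ t : G, t ∈ S → t ≠ 1 → ∀ x : G, x ∈ Cfsg.oddCore G → t * x * t⁻¹ = x⁻¹) := by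
  classical
  have : Fact (Nat.Prime 2) := ⟨Nat.prime_two⟩
  set O := Cfsg.oddCore G with hO
  have hOodd : ¬ 2 ∣ Nat.card O := CfsgLib.PCore.not_dvd_card_pPrimeCore
  let π := QuotientGroup.mk' O
  have hamb' : ∀ x : G ⧸ O, IsConj x x⁻¹ := by
    intro x
    obtain ⟨x, rfl⟩ := QuotientGroup.mk_surjective x
    exact π.map_isConj (hamb x)
  have hone' : ∀ s t : G ⧸ O, orderOf s = 2 → orderOf t = 2 → IsConj s t := by
    intro s t hs ht
    obtain ⟨a, rfl, ha⟩ := H79.exists_lift_primePow O Nat.prime_two (k := 1) hOodd s (by rw [hs, pow_one])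
    obtain ⟨b, rfl, hb⟩ := H79.exists_lift_primePow O Nat.prime_two (k := 1) hOodd t (by rw [ht, pow_one])
    exact π.map_isConj (hone a b (by rw [ha, pow_one]) (by rw [hb, pow_one]))
  have h2Q : 2 ∣ Nat.card (G ⧸ O) := by
    rw [Subgroup.card_eq_card_quotient_mul_card_subgroup O] at heven
    exact (Nat.prime_two.dvd_mul.1 heven).resolve_right hOodd
  have : Nontrivial (G ⧸ O) := Finite.one_lt_card_iff_nontrivial.1
    (lt_of_lt_of_le one_lt_two (Nat.le_of_dvd Nat.card_pos h2Q))
  obtain ⟨V, hV⟩ := CfsgLib.MinNormal.exists_isMinNormal (G := G ⧸ O)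
  have := hV.1
  obtain ⟨q, hq, hel, hVp, k, hk, hVc⟩ := hV.elementaryAbelian_of_solvable
  have hq2 : q = 2 := by
    by_contra hne
    apply hV.2.1
    have h0 : Cfsg.pPrimeCore 2 (G ⧸ O) = ⊥ := CfsgLib.PCore.pPrimeCore_quotient_pPrimeCore
    rw [← le_bot_iff, ← h0]
    exact CfsgLib.PCore.le_pPrimeCore inferInstance
      (hVc ▸ ((Nat.coprime_primes hq Nat.prime_two).2 hne).pow_left k)
  subst hq2
  obtain ⟨v₀, hv₀⟩ := exists_prime_orderOf_dvd_card' (G := V) 2 (hVc ▸ dvd_pow_self 2 (by omega))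
  have hv₀' : orderOf (v₀ : G ⧸ O) = 2 := by rw [Subgroup.orderOf_coe, hv₀]
  have hall : ∀ t : G ⧸ O, orderOf t = 2 → t ∈ V := by
    intro t ht
    obtain ⟨g, hg⟩ := isConj_iff.1 (hone' _ t hv₀' ht)
    exact hg ▸ (inferInstance : V.Normal).conj_mem _ v₀.2 g
  have huniq : ∀ a b : G ⧸ O, orderOf a = 2 → orderOf b = 2 → a = b := fun a b ha hb => by
    by_contra hab
    exact two_involutions_false hamb' hone' V hel.2 hel.1 hall ha hb hab
  have hinjS : ∀ x ∈ (S : Subgroup G), (x : G ⧸ O) = 1 → x = 1 := by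
    intro x hx h1
    obtain ⟨j, hj⟩ := IsPGroup.iff_orderOf.1 S.2 ⟨x, hx⟩
    rw [Subgroup.orderOf_mk] at hj
    exact H79.eq_one_of_mem_of_primePow_order O Nat.prime_two hOodd x ((QuotientGroup.eq_one_iff x).1 h1) hj.dvd
  have hS1 : ∀ a b : (S : Subgroup G), orderOf a = 2 → orderOf b = 2 → a = b := by
    intro a b ha hb
    have himg : ∀ c : (S : Subgroup G), orderOf c = 2 → orderOf ((c : G) : G ⧸ O) = 2 := by
      intro c hc
      have hc' : orderOf (c : G) = 2 := by rw [Subgroup.orderOf_coe, hc]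
      refine orderOf_eq_prime ?_ ?_
      · have hp := pow_orderOf_eq_one (c : G)
        rw [hc'] at hp
        rw [← QuotientGroup.mk_pow, hp, QuotientGroup.mk_one]
      · intro e
        rw [hinjS _ c.2 e, orderOf_one] at hc'
        norm_num at hc'
    have h := huniq _ _ (himg a ha) (himg b hb)
    rw [QuotientGroup.eq] at h
    refine Subtype.ext (inv_mul_eq_one.1 (hinjS _ (Subgroup.mul_mem _ (Subgroup.inv_mem _ a.2) b.2)
      ((QuotientGroup.eq_one_iff _).2 h)))
  refine ⟨?_, fun hS2 => ?_⟩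
  · rcases CfsgLib.TwoGroups.OneInvolution.isCyclic_or_quaternion S.2 hS1 with hc | ⟨n, hn, he⟩
    · left
      have hexp : ∀ x : (S : Subgroup G), x ^ 2 = 1 := fun x => Subtype.ext (by
        simpa using H79.sq_eq_one_of_real_of_mem_centralizer_sylow S (x := (x : G)) (by
          rw [Subgroup.mem_centralizer_iff]
          intro y hy
          exact congrArg Subtype.val (IsCyclic.isMulCommutative (α := (S : Subgroup G)) |>.is_comm.comm ⟨y, hy⟩ x))
          (hamb _))
      obtain ⟨gen, hgen⟩ := IsCyclic.exists_ofOrder_eq_natCard (α := (S : Subgroup G))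
      have h1 : Nat.card S ∣ 2 := hgen ▸ orderOf_dvd_of_pow_eq_one (hexp gen)
      refine ((Nat.dvd_prime Nat.prime_two).1 h1).resolve_left ?_
      intro h
      exact S.ne_bot_of_dvd_card heven (Subgroup.card_eq_one.1 h)
    · exact Or.inr ⟨n - 1, by rw [Nat.sub_add_cancel hn]; exact he⟩
  -- order two
  let Sb : Sylow 2 (G ⧸ O) := S.mapSurjective (f := π) (QuotientGroup.mk'_surjective O)
  have hSb : Nat.card (Sb : Subgroup (G ⧸ O)) ≤ 2 := by
    refine le_trans ?_ hS2.le
    rw [Sylow.coe_mapSurjective]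
    exact Nat.le_of_dvd Nat.card_pos (Subgroup.card_map_dvd _ _)
  have hV2 : Nat.card V = 2 := by
    obtain ⟨T, hT⟩ := hVp.exists_le_sylow
    have h1 : Nat.card V ≤ Nat.card (Sb : Subgroup (G ⧸ O)) := by
      rw [Sylow.card_eq_multiplicity Sb, ← Sylow.card_eq_multiplicity T]
      exact Nat.le_of_dvd Nat.card_pos (Subgroup.card_dvd_of_le hT)
    have := (Subgroup.one_lt_card_iff_ne_bot V).2 hV.2.1
    omega
  have hodd : ¬ 2 ∣ Nat.card ((G ⧸ O) ⧸ V) := by
    intro hd
    have hd4 : 2 ^ 2 ∣ Nat.card (G ⧸ O) := by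
      rw [Subgroup.card_eq_card_quotient_mul_card_subgroup V, hV2, pow_two]
      exact Nat.mul_dvd_mul_right hd 2
    have h4 : 2 ^ 2 ∣ Nat.card (Sb : Subgroup (G ⧸ O)) := Sb.pow_dvd_card_of_pow_dvd_card hd4
    have := Nat.le_of_dvd Nat.card_pos h4
    omega
  have hVtop : V = ⊤ := by
    rw [eq_top_iff]
    intro x _
    rw [← QuotientGroup.eq_one_iff]
    obtain ⟨g, hg⟩ := isConj_iff.1 (hamb' x)
    have hoddg : ∀ z : (G ⧸ O) ⧸ V, Odd (orderOf z) := fun z =>
      Nat.not_even_iff_odd.1 fun he => hodd (he.two_dvd.trans (orderOf_dvd_natCard z))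
    have := congrArg (QuotientGroup.mk' V) hg
    simp only [map_mul, map_inv, QuotientGroup.mk'_apply] at this
    exact H79.eq_one_of_conj_inv_of_odd this (hoddg _) (hoddg _)
  have hidx : O.index = 2 := by
    rw [Subgroup.index_eq_card, ← hV2, hVtop, Subgroup.card_top]
  have hcompl : (S : Subgroup G).IsComplement' O := by
    refine Subgroup.isComplement'_of_coprime ?_ ?_
    · rw [hS2, ← hidx, O.index_mul_card]
    · rw [hS2]; exact (Nat.prime_two.coprime_iff_not_dvd).2 hOodd
  have hfix : ∀ t ∈ (S : Subgroup G), t ≠ 1 → ∀ x ∈ O, t * x * t⁻¹ = x⁻¹ := by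
    intro t ht ht1 x hx
    have hOx : ∀ z ∈ O, t * z * t⁻¹ = z → z = 1 := by
      intro z hz hzt
      have hzC : z ∈ Subgroup.centralizer ((S : Subgroup G) : Set G) := by
        rw [Subgroup.mem_centralizer_iff]
        intro u hu
        have hST : Subgroup.zpowers t = (S : Subgroup G) := by
          refine Subgroup.eq_of_le_of_card_ge (Subgroup.zpowers_le.2 ht) ?_
          rw [hS2, Nat.card_zpowers]
          have := orderOf_pos t
          have : orderOf t ≠ 1 := fun e => ht1 (orderOf_eq_one_iff.1 e)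
          omega
        rw [SetLike.mem_coe, ← hST] at hu
        obtain ⟨i, rfl⟩ := hu
        exact ((show Commute t z from mul_inv_eq_iff_eq_mul.1 hzt).zpow_left i).eq
      exact H79.eq_one_of_mem_of_primePow_order O Nat.prime_two (k := 1) hOodd z hz
        (orderOf_dvd_of_pow_eq_one (by
          rw [pow_one]; exact H79.sq_eq_one_of_real_of_mem_centralizer_sylow S hzC (hamb z)))
    let φ : O →* O := (MulAut.conjNormal (H := O) t).toMonoidHom
    have hff : MonoidHom.FixedPointFree φ := fun c hc => Subtype.ext (hOx c c.2 (congrArg Subtype.val hc))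
    have ht2 : t * t = 1 := by
      have := congrArg Subtype.val (pow_card_eq_one' (x := (⟨t, ht⟩ : (S : Subgroup G))))
      rw [hS2] at this
      simpa [pow_two] using this
    have hinvol : Function.Involutive φ := fun c => Subtype.ext (by
      show t * (t * c * t⁻¹) * t⁻¹ = (c : G)
      calc t * (t * c * t⁻¹) * t⁻¹ = (t * t) * c * (t * t)⁻¹ := by group
        _ = c := by rw [ht2]; simp)
    exact congrArg Subtype.val (congrFun (hff.coe_eq_inv_of_involutive hinvol) ⟨x, hx⟩)
  refine ⟨hcompl, ?_, fun t ht ht1 x hx => hfix t ht ht1 x hx⟩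
  refine le_antisymm ?_ ?_
  · intro x hx
    obtain ⟨t, ht⟩ := exists_prime_orderOf_dvd_card' (G := (S : Subgroup G)) 2 (by rw [hS2])
    have ht1 : (t : G) ≠ 1 := fun e => by
      rw [← Subgroup.orderOf_coe, e, orderOf_one] at ht
      norm_num at ht
    have h1 : ⁅(t : G), x⁆ ∈ commutator G :=
      Subgroup.commutator_mem_commutator (Subgroup.mem_top _) (Subgroup.mem_top _)
    rw [commutatorElement_def, hfix _ t.2 ht1 x hx, ← mul_inv_rev] at h1
    have hx2 : x ^ 2 ∈ commutator G := by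
      have := Subgroup.inv_mem _ h1
      rwa [inv_inv, ← pow_two] at this
    obtain ⟨m, hm⟩ : Odd (orderOf x) := Nat.not_even_iff_odd.1 fun he =>
      hOodd (he.two_dvd.trans (Subgroup.orderOf_dvd_natCard O hx))
    have e : x = (x ^ 2) ^ (m + 1) := by
      rw [← pow_mul, show 2 * (m + 1) = orderOf x + 1 by omega, pow_add, pow_orderOf_eq_one, one_mul, pow_one]
    rw [e]
    exact Subgroup.pow_mem _ hx2 _
  · have : IsCyclic (G ⧸ O) := isCyclic_of_prime_card (p := 2) (by rw [← Subgroup.index_eq_card, hidx])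
    exact (Subgroup.Normal.quotient_commutative_iff_commutator_le (N := O)).1 IsCyclic.isMulCommutative

end Cfsg.Agent.S4061
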