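import Cfsg.Statements.S4062
import Cfsg.Agent.H79Real
import Cfsg.Agent.Lib.Solvable.MinNormal
import Cfsg.Agent.Lib.InvChar.InvolutionCount

set_option autoImplicit false
open Cfsg

namespace Cfsg.Agent.S4062

open H79

universe u

/-- Elements of equal order are conjugate. -/
def EC (G : Type u) [Group G] : Prop := ∀ x y : G, orderOf x = orderOf y → IsConj x y

variable {G : Type u} [Group G] [Finite G]

theorem EC.comm_card (h : EC G) (hc : ∀ a b : G, a * b = b * a) : Nat.card G ≤ 2 := by
  have hone : ∀ x y : G, IsConj x y → x = y := fun x y hxy => by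
    obtain ⟨g, hg⟩ := isConj_iff.1 hxy
    rw [← hg, hc g x, mul_inv_cancel_right]
  have h2 : ∀ x : G, x ≠ 1 → orderOf x = 2 := fun x hx => by
    refine orderOf_eq_prime ?_ hx
    rw [pow_two]
    exact eq_inv_iff_mul_eq_one.1 (hone x x⁻¹ (h _ _ (orderOf_inv x).symm))
  by_contra hlt
  have h3 : 2 < ({(1 : G)}ᶜ : Set G).ncard + 1 := by
    have := Set.ncard_add_ncard_compl ({(1 : G)} : Set G)
    rw [Set.ncard_singleton] at this
    omega
  obtain ⟨a, ha, b, hb, hab⟩ := (Set.one_lt_ncard (Set.toFinite _)).1 (show 1 < ({(1 : G)}ᶜ : Set G).ncard by omega)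
  exact hab (hone a b (h a b (by rw [h2 a ha, h2 b hb])))

variable {V : Subgroup G} [V.Normal] {q : ℕ} [hq : Fact q.Prime]

theorem EC.quotient (h : EC G) (hexp : ∀ v ∈ V, v ^ q = 1) (hall : ∀ w : G, orderOf w = q → w ∈ V) :
    EC (G ⧸ V) := by
  intro x y hxy
  obtain ⟨a, rfl⟩ := QuotientGroup.mk_surjective x
  obtain ⟨b, rfl⟩ := QuotientGroup.mk_surjective y
  set m := orderOf (a : G ⧸ V) with hm
  have hm0 : 0 < m := orderOf_pos _
  have hpow : ∀ c : G, orderOf (c : G ⧸ V) = m → c ^ (m * q) = 1 := by
    intro c hc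
    rw [pow_mul]
    exact hexp _ ((QuotientGroup.eq_one_iff _).1 (by rw [QuotientGroup.mk_pow, ← hc, pow_orderOf_eq_one]))
  have hle : ∀ c : G, orderOf (c : G ⧸ V) = m → m ∣ orderOf c := fun c hc =>
    hc ▸ orderOf_map_dvd (QuotientGroup.mk' V) c
  -- lifts of equal order
  have key : ∀ c : G, orderOf (c : G ⧸ V) = m →
      ∃ d : G, (d : G ⧸ V) = c ∧ orderOf d = if q ∣ m then m * q else m := by
    intro c hc
    by_cases hqm : q ∣ m
    · refine ⟨c, rfl, ?_⟩
      rw [if_pos hqm]
      obtain ⟨k, hk⟩ := hle c hc
      have h1 := orderOf_dvd_of_pow_eq_one (hpow c hc)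
      rw [hk] at h1 ⊢
      rcases (Nat.dvd_prime hq.out).1 (Nat.dvd_of_mul_dvd_mul_left hm0 h1) with hk1 | hk1
      · exfalso
        rw [hk1, mul_one] at hk
        obtain ⟨j, hj⟩ := hqm
        have hjpos : 0 < j := by
          rcases Nat.eq_zero_or_pos j with h0 | h0
          · rw [h0, mul_zero] at hj; omega
          · exact h0
        have hw : orderOf (c ^ j) = q := by
          rw [orderOf_pow' c hjpos.ne', hk, hj, Nat.gcd_eq_right (dvd_mul_left j q),
            Nat.mul_div_cancel _ hjpos]
        have h2 := hall _ hw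
        rw [← QuotientGroup.eq_one_iff, QuotientGroup.mk_pow, ← orderOf_dvd_iff_pow_eq_one, hc, hj] at h2
        have := Nat.le_of_dvd hjpos h2
        have := hq.out.two_le
        nlinarith
      · rw [hk1]
    · obtain ⟨i, hi⟩ : ∃ i, q * i % m = 1 % m :=
        Nat.exists_mul_mod_eq_of_coprime 1 ((hq.out.coprime_iff_not_dvd).2 hqm) hm0.ne' |>.imp
          fun i hi => hi.2
      have heq : ((c ^ (q * i) : G) : G ⧸ V) = c := by
        rw [QuotientGroup.mk_pow, ← pow_mod_orderOf, hc, hi, ← hc, pow_mod_orderOf, pow_one]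
      refine ⟨c ^ (q * i), heq, ?_⟩
      rw [if_neg hqm]
      refine Nat.dvd_antisymm (orderOf_dvd_of_pow_eq_one ?_) (hle _ (by rw [heq, hc]))
      rw [← pow_mul, show q * i * m = m * q * i by ring, pow_mul, hpow c hc, one_pow]
  obtain ⟨d, hd, hdo⟩ := key a rfl
  obtain ⟨e, he, heo⟩ := key b hxy.symm
  rw [← hd, ← he]
  exact (QuotientGroup.mk' V).map_isConj (h d e (hdo.trans heo.symm))

theorem EC.class_dvd (h : EC G) (hVc : IsMulCommutative V) (hexp : ∀ v ∈ V, v ^ q = 1)
    (hall : ∀ w : G, orderOf w = q → w ∈ V) {v : G} (hv : v ∈ V) (hv1 : v ≠ 1) :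
    (Subgroup.centralizer ({v} : Set G)).index = Nat.card V - 1 ∧ Nat.card V - 1 ∣ Nat.card (G ⧸ V) := by
  have hord : ∀ w ∈ V, w ≠ 1 → orderOf w = q := fun w hw hw1 => orderOf_eq_prime (hexp w hw) hw1
  have hidx : (Subgroup.centralizer ({v} : Set G)).index = Nat.card V - 1 := by
    classical
    have := Fintype.ofFinite G
    rw [← CfsgLib.InvChar.ncard_conjugates]
    have he : {y : G | IsConj v y} = (V : Set G) \ {1} := by
      ext w
      simp only [Set.mem_setOf_eq, Set.mem_sdiff, SetLike.mem_coe, Set.mem_singleton_iff]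
      constructor
      · intro hw
        obtain ⟨g, rfl⟩ := isConj_iff.1 hw
        exact ⟨(inferInstance : V.Normal).conj_mem v hv g, by simpa using hv1⟩
      · rintro ⟨hw, hw1⟩
        exact h _ _ (by rw [hord v hv hv1, hord w hw hw1])
    rw [he, Set.ncard_sdiff_singleton_of_mem V.one_mem, ← Nat.card_coe_set_eq]
    rfl
  refine ⟨hidx, ?_⟩
  rw [← hidx, ← Subgroup.index_eq_card]
  refine Subgroup.index_dvd_of_le fun w hw => ?_
  rw [mem_centralizer_singleton]
  exact congrArg Subtype.val (hVc.is_comm.comm ⟨w, hw⟩ ⟨v, hv⟩)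

omit [V.Normal] hq in
theorem exists_two_power_sq_ne (h : ∀ x : G, (∃ k, orderOf x = 2 ^ k) → x ^ 2 = 1)
    {P : Subgroup G} (hP : IsPGroup 2 P) : ∀ a ∈ P, a ^ 2 = 1 := fun a ha => by
  obtain ⟨k, hk⟩ := IsPGroup.iff_orderOf.1 hP ⟨a, ha⟩
  exact h a ⟨k, by rw [← hk, Subgroup.orderOf_mk]⟩

theorem classify : ∀ (n : ℕ) (G : Type u) [Group G] [Finite G] [Group.IsSolvable G], Nat.card G = n → EC G →
    n = 1 ∨ n = 2 ∨ (n = 6 ∧ ¬ ∀ a b : G, a * b = b * a) := by
  intro n
  induction n using Nat.strong_induction_on with
  | _ n ih =>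
    intro G _ _ _ hn h
    by_cases hab : ∀ a b : G, a * b = b * a
    · have := h.comm_card hab
      have := Nat.card_pos (α := G)
      omega
    have : Nontrivial G := by
      by_contra hnt
      rw [not_nontrivial_iff_subsingleton] at hnt
      exact hab fun a b => Subsingleton.elim _ _
    obtain ⟨V, hV⟩ := CfsgLib.MinNormal.exists_isMinNormal (G := G)
    have := hV.1
    obtain ⟨q, hq, hel, hVp, k, hk, hVc⟩ := hV.elementaryAbelian_of_solvable
    have := Fact.mk hq
    obtain ⟨v₀, hv₀⟩ := exists_prime_orderOf_dvd_card' (G := V) q (hVc ▸ dvd_pow_self q (by omega))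
    have hv₀' : orderOf (v₀ : G) = q := by rw [Subgroup.orderOf_coe, hv₀]
    have hall : ∀ w : G, orderOf w = q → w ∈ V := by
      intro w hw
      obtain ⟨g, hg⟩ := isConj_iff.1 (h _ _ (hv₀'.trans hw.symm))
      exact hg ▸ (inferInstance : V.Normal).conj_mem _ v₀.2 g
    have hv1 : (v₀ : G) ≠ 1 := fun e => hq.ne_one (by rw [← hv₀', e, orderOf_one])
    obtain ⟨hidx, hdvd⟩ := h.class_dvd hel.1 hel.2 hall v₀.2 hv1
    have hlt : Nat.card (G ⧸ V) < n := by
      rw [← hn, Subgroup.card_eq_card_quotient_mul_card_subgroup V]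
      exact lt_mul_of_one_lt_right Nat.card_pos (Subgroup.one_lt_card_iff_ne_bot V |>.2 hV.2.1)
    have hcard := Subgroup.card_eq_card_quotient_mul_card_subgroup V
    have hquot := ih _ hlt (G ⧸ V) rfl (EC.quotient h hel.2 hall)
    have hreal : ∀ x : G, IsConj x x⁻¹ := fun x => h _ _ (orderOf_inv x).symm
    -- no `2`-element of order at least `4` centralises a Sylow `2`-subgroup
    have hsyl : ∀ (S : Sylow 2 G), IsMulCommutative S → ∀ x ∈ (S : Subgroup G), x ^ 2 = 1 := by
      intro S hS x hx
      refine sq_eq_one_of_real_of_mem_centralizer_sylow S ?_ (hreal x)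
      rw [Subgroup.mem_centralizer_iff]
      intro y hy
      exact congrArg Subtype.val (hS.is_comm.comm ⟨y, hy⟩ ⟨x, hx⟩)
    have : Fact (Nat.Prime 2) := ⟨Nat.prime_two⟩
    obtain ⟨S⟩ : Nonempty (Sylow 2 G) := inferInstance
    have hScard := S.card_eq_multiplicity
    -- if `q = 2` an abelian Sylow `2`-subgroup lies in `V`
    have hSV : q = 2 → IsMulCommutative S → (S : Subgroup G) ≤ V := by
      intro hq2 hS x hx
      by_cases hx1 : x = 1
      · exact hx1 ▸ V.one_mem
      · exact hall x (hq2 ▸ orderOf_eq_prime (hsyl S hS x hx) hx1)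
    rcases hquot with h1 | h2 | ⟨h6, hna⟩
    · exfalso
      refine hab fun a b => ?_
      have htop : V = ⊤ := Subgroup.index_eq_one.1 ((Subgroup.index_eq_card V).trans h1)
      exact congrArg Subtype.val (hel.1.is_comm.comm ⟨a, htop ▸ Subgroup.mem_top a⟩ ⟨b, htop ▸ Subgroup.mem_top b⟩)
    · rw [h2] at hdvd hcard
      have hV3 : Nat.card V = 2 ∨ Nat.card V = 3 := by
        have h1 := (Subgroup.one_lt_card_iff_ne_bot V).2 hV.2.1
        have := Nat.le_of_dvd (by norm_num) hdvd
        omega
      rcases hV3 with hV2 | hV3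
      · exfalso
        exact hab fun a b => IsPGroup.commutative_of_card_eq_prime_sq (p := 2) (by rw [hcard, hV2]; norm_num) a b
      · exact Or.inr (Or.inr ⟨by rw [← hn, hcard, hV3], hab⟩)
    · exfalso
      rw [h6] at hdvd hcard
      have hV7 : Nat.card V = 2 ∨ Nat.card V = 3 ∨ Nat.card V = 4 ∨ Nat.card V = 7 := by
        have h1 := (Subgroup.one_lt_card_iff_ne_bot V).2 hV.2.1
        have h2 := Nat.le_of_dvd (by norm_num) hdvd
        have h3 : Nat.card V ≤ 7 := by omega
        interval_cases hh : Nat.card V <;> simp_all (config := { decide := true })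
      have hqV : q ∣ Nat.card V := hVc ▸ dvd_pow_self q (by omega)
      have hfac : ∀ a : ℕ, Nat.card G = 2 ^ a * 3 → Nat.card (S : Subgroup G) = 2 ^ a := fun a ha => by
        rw [hScard, ha, Nat.factorization_mul (by positivity) (by norm_num), Finsupp.add_apply,
          Nat.prime_two.factorization_pow, Finsupp.single_eq_same,
          Nat.factorization_eq_zero_of_not_dvd (by norm_num), add_zero]
      rcases hV7 with hV2 | hV3 | hV4 | hV7
      · have hq2 : q = 2 := ((Nat.prime_dvd_prime_iff_eq hq Nat.prime_two).1 (hV2 ▸ hqV))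
        have hS := hfac 2 (by rw [hcard, hV2]; norm_num)
        have hle := hSV hq2 ⟨⟨IsPGroup.commutative_of_card_eq_prime_sq hS⟩⟩
        have := Subgroup.card_dvd_of_le hle
        rw [hS, hV2] at this
        norm_num at this
      · have hq3 : q = 3 := ((Nat.prime_dvd_prime_iff_eq hq Nat.prime_three).1 (hV3 ▸ hqV))
        subst hq3
        obtain ⟨T, hT⟩ := Sylow.exists_subgroup_card_pow_prime 3 (n := 2) (show 3 ^ 2 ∣ Nat.card G by
          rw [hcard, hV3]; norm_num)
        obtain ⟨y, hyT, hyV⟩ : ∃ y ∈ T, y ∉ V := SetLike.not_le_iff_exists.1 fun hle => by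
          have := Subgroup.card_dvd_of_le hle
          rw [hT, hV3] at this
          norm_num at this
        have hy9 : orderOf y = 9 := by
          have hd : orderOf y ∣ 3 ^ 2 := hT ▸ Subgroup.orderOf_dvd_natCard T hyT
          obtain ⟨j, hj, hj2⟩ := (Nat.dvd_prime_pow Nat.prime_three).1 hd
          interval_cases j
          · obtain rfl := orderOf_eq_one_iff.1 (show orderOf y = 1 by simpa using hj2)
            exact absurd V.one_mem hyV
          · exact absurd (hall y (by simpa using hj2)) hyV
          · simpa using hj2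
        have hsub : ({y, y ^ 2, y ^ 4} : Set G) ⊆ {w | IsConj y w} := by
          intro w hw
          rcases hw with rfl | rfl | rfl
          · exact IsConj.refl _
          · exact h _ _ (by rw [Nat.Coprime.orderOf_pow (by rw [hy9]; norm_num)])
          · exact h _ _ (by rw [Nat.Coprime.orderOf_pow (by rw [hy9]; norm_num)])
        have h3 := Set.ncard_le_ncard hsub (Set.toFinite _)
        classical
        have := Fintype.ofFinite G
        rw [CfsgLib.InvChar.ncard_conjugates] at h3
        have hne : ∀ i j : ℕ, i < 9 → j < 9 → i ≠ j → y ^ i ≠ y ^ j := fun i j hi hj hij e =>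
          hij (pow_injOn_Iio_orderOf (by simp [hy9, hi]) (by simp [hy9, hj]) e)
        have h12 : y ≠ y ^ 2 := by simpa using hne 1 2 (by norm_num) (by norm_num) (by norm_num)
        have h14 : y ≠ y ^ 4 := by simpa using hne 1 4 (by norm_num) (by norm_num) (by norm_num)
        have h24 : y ^ 2 ≠ y ^ 4 := hne 2 4 (by norm_num) (by norm_num) (by norm_num)
        rw [Set.ncard_insert_of_notMem (by simp [h12, h14]), Set.ncard_pair h24] at h3
        have hle : Subgroup.zpowers y ≤ Subgroup.centralizer ({y} : Set G) := by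
          rw [Subgroup.zpowers_le, mem_centralizer_singleton]
        have h9 := Subgroup.index_dvd_of_le hle
        have h18 := (Subgroup.zpowers y).card_mul_index
        rw [Nat.card_zpowers, hy9, hcard, hV3] at h18
        rw [show (Subgroup.zpowers y).index = 2 by omega] at h9
        have := Nat.le_of_dvd (by norm_num) h9
        omega
      · have hq2 : q = 2 := by
          have := (hq.dvd_of_dvd_pow (show q ∣ 2 ^ 2 by norm_num; exact hV4 ▸ hqV))
          exact (Nat.prime_dvd_prime_iff_eq hq Nat.prime_two).1 this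
        have hS := hfac 3 (by rw [hcard, hV4]; norm_num)
        have hVS : V ≤ (S : Subgroup G) := by
          obtain ⟨R, hR⟩ := (show IsPGroup 2 V from hq2 ▸ hVp).exists_le_sylow
          obtain ⟨g, rfl⟩ := MulAction.exists_smul_eq G S R
          intro x hx
          obtain ⟨z, hz, e⟩ := hR ((inferInstance : V.Normal).conj_mem x hx g)
          obtain rfl : z = x := (MulAut.conj g).injective e
          exact hz
        obtain ⟨x, hxS, hxV⟩ : ∃ x ∈ (S : Subgroup G), x ∉ V := SetLike.not_le_iff_exists.1 fun hle => by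
          have := Subgroup.card_dvd_of_le hle
          rw [hS, hV4] at this
          norm_num at this
        have hidx2 : (V.subgroupOf S).index = 2 := by
          have h1 := (V.subgroupOf S).card_mul_index
          rw [show Nat.card (V.subgroupOf S) = Nat.card V from Nat.card_congr (Subgroup.subgroupOfEquivOfLe hVS).toEquiv,
            hV4, hS] at h1
          omega
        have hsq : ∀ a ∈ (S : Subgroup G), a ^ 2 ∈ V := fun a ha =>
          Subgroup.sq_mem_of_index_two hidx2 ⟨a, ha⟩
        by_cases hcx : ∀ w ∈ V, x * w = w * x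
        · -- then `S` is abelian
          have hdec : ∀ a ∈ (S : Subgroup G), a ∈ V ∨ ∃ w ∈ V, a = w * x := by
            intro a ha
            by_cases haV : a ∈ V
            · exact Or.inl haV
            refine Or.inr ⟨a * x⁻¹, ?_, by simp⟩
            have hm : (⟨a, ha⟩ : (S : Subgroup G)) * (⟨x, hxS⟩)⁻¹ ∈ V.subgroupOf S :=
              (Subgroup.mul_mem_iff_of_index_two hidx2).2 ⟨fun h1 => absurd h1 haV,
                fun h1 => absurd ((Subgroup.inv_mem_iff _).1 h1) hxV⟩
            exact hm
          refine hxV (hSV hq2 ⟨⟨fun a b => Subtype.ext ?_⟩⟩ hxS)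
          have hcomm : ∀ u ∈ V, ∀ w ∈ V, u * w = w * u := fun u hu w hw =>
            congrArg Subtype.val (hel.1.is_comm.comm ⟨u, hu⟩ ⟨w, hw⟩)
          show (a : G) * b = b * a
          rcases hdec a a.2 with ha | ⟨u, hu, ha⟩ <;> rcases hdec b b.2 with hb | ⟨w, hw, hb⟩
          · exact hcomm _ ha _ hb
          · rw [hb]; calc (a : G) * (w * x) = (a * w) * x := by group
              _ = w * (a * x) := by rw [hcomm _ ha _ hw]; group
              _ = w * (x * a) := by rw [hcx _ ha]
              _ = w * x * a := by group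
          · rw [ha]; calc u * x * b = u * (x * b) := by group
              _ = u * b * x := by rw [hcx _ hb]; group
              _ = b * (u * x) := by rw [hcomm _ hu _ hb]; group
          · rw [ha, hb]; calc u * x * (w * x) = u * (x * w) * x := by group
              _ = (u * w) * x * x := by rw [hcx _ hw]; group
              _ = (w * u) * x * x := by rw [hcomm _ hu _ hw]
              _ = w * (u * x) * x := by group
              _ = w * (x * u) * x := by rw [hcx _ hu]
              _ = w * x * (u * x) := by group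
        push Not at hcx
        obtain ⟨w, hw, hxw⟩ := hcx
        set c := w⁻¹ * (x * w * x⁻¹) with hcdef
        have hcV : c ∈ V := V.mul_mem (V.inv_mem hw) ((inferInstance : V.Normal).conj_mem w hw x)
        have hc1 : c ≠ 1 := by
          intro e
          rw [hcdef, inv_mul_eq_one] at e
          exact hxw (eq_mul_inv_iff_mul_eq.1 e).symm
        have hinv : ∀ u ∈ V, u⁻¹ = u := fun u hu => inv_eq_of_mul_eq_one_right (by
          rw [← pow_two]; exact hq2 ▸ hel.2 u hu)
        have hx2V := hsq x hxS
        have hcomm : ∀ u ∈ V, ∀ w ∈ V, u * w = w * u := fun u hu w hw =>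
          congrArg Subtype.val (hel.1.is_comm.comm ⟨u, hu⟩ ⟨w, hw⟩)
        have hx21 : x ^ 2 ≠ 1 := by
          intro e
          refine hxV (hall x (hq2 ▸ orderOf_eq_prime e ?_))
          rintro rfl
          exact hxV V.one_mem
        -- `x²` is `x`-fixed and so is `c`; they coincide
        have hVset : ∀ u ∈ V, u = 1 ∨ u = c ∨ u = w ∨ u = w * c := by
          intro u hu
          have hw1 : w ≠ 1 := fun e => hxw (by simp [e])
          have hwc : w ≠ c := by
            intro e
            rw [hcdef, eq_inv_mul_iff_mul_eq, ← pow_two, show w ^ 2 = 1 from hq2 ▸ hel.2 w hw] at e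
            exact hw1 (by
              have e2 := congrArg (fun z => x⁻¹ * z * x) e
              simpa [mul_assoc] using e2.symm)
          have hsub : ({1, c, w, w * c} : Set G) ⊆ (V : Set G) := by
            intro z hz
            rcases hz with rfl | rfl | rfl | rfl
            exacts [V.one_mem, hcV, hw, V.mul_mem hw hcV]
          have h4 : ({1, c, w, w * c} : Set G).ncard = 4 := by
            rw [Set.ncard_insert_of_notMem, Set.ncard_insert_of_notMem, Set.ncard_pair]
            · exact fun e => hc1 (by simpa using e.symm)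
            · simp only [Set.mem_insert_iff, Set.mem_singleton_iff, not_or]
              exact ⟨hwc.symm, fun e => hw1 (by simpa using e.symm)⟩
            · simp only [Set.mem_insert_iff, Set.mem_singleton_iff, not_or]
              refine ⟨hc1.symm, hw1.symm, fun e => hwc ?_⟩
              rw [← hinv w hw]
              exact inv_eq_of_mul_eq_one_right e.symm
          have := Set.eq_of_subset_of_ncard_le hsub (by
            rw [h4, ← Nat.card_coe_set_eq]; exact hV4.le) (Set.toFinite _)
          have hu' : u ∈ ({1, c, w, w * c} : Set G) := this ▸ hu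
          simpa using hu'
        have hxc : x * w * x⁻¹ = w * c := by rw [hcdef]; group
        have hx2c : x ^ 2 = c := by
          rcases hVset _ hx2V with e | e | e | e
          · exact absurd e hx21
          · exact e
          · exfalso
            apply hxw
            rw [← e]
            group
          · exfalso
            have e2 : x ^ 2 = x * w * x⁻¹ := e.trans hxc.symm
            have e3 : w = x ^ 2 := by
              calc w = x⁻¹ * (x * w * x⁻¹) * x := by group
                _ = x⁻¹ * x ^ 2 * x := by rw [e2]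
                _ = x ^ 2 := by group
            exact hc1 (left_eq_mul.1 (e3.trans e))
        have hxwo : (x * w) ^ 2 = 1 := by
          calc (x * w) ^ 2 = (x * w * x⁻¹) * x ^ 2 * w := by rw [pow_two, pow_two]; group
            _ = w * (c * c) * w := by rw [hxc, hx2c]; group
            _ = 1 := by
              rw [← pow_two, show c ^ 2 = 1 from hq2 ▸ hel.2 c hcV, mul_one, ← pow_two]
              exact hq2 ▸ hel.2 w hw
        have hxwV : x * w ∉ V := fun e => hxV (by simpa using V.mul_mem e (V.inv_mem hw))
        exact hxwV (hall _ (hq2 ▸ orderOf_eq_prime hxwo (fun e => hxwV (e ▸ V.one_mem))))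
      · -- `G/V` embeds in the abelian group `Aut V`
        rw [hV7] at hidx hcard
        set C := Subgroup.centralizer ({(v₀ : G)} : Set G)
        have hle : V ≤ C := fun w hw => by
          rw [mem_centralizer_singleton]
          exact congrArg Subtype.val (hel.1.is_comm.comm ⟨w, hw⟩ v₀)
        have hCV : V = C := by
          refine Subgroup.eq_of_le_of_card_ge hle ?_
          have := C.card_mul_index
          rw [hidx, hcard] at this
          omega
        have hcyc : Subgroup.zpowers (v₀ : G) = V := by
          refine Subgroup.eq_of_le_of_card_ge (Subgroup.zpowers_le.2 v₀.2) ?_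
          rw [Nat.card_zpowers, hv₀', hV7]
          exact (Nat.prime_dvd_prime_iff_eq hq (by norm_num)).1 (hV7 ▸ hqV) |>.ge
        refine hna fun a b => ?_
        obtain ⟨a, rfl⟩ := QuotientGroup.mk_surjective a
        obtain ⟨b, rfl⟩ := QuotientGroup.mk_surjective b
        rw [← QuotientGroup.mk_mul, ← QuotientGroup.mk_mul]
        have key : ∀ g : G, ∃ i : ℤ, g * (v₀ : G) * g⁻¹ = (v₀ : G) ^ i := fun g => by
          have := (inferInstance : V.Normal).conj_mem _ v₀.2 g
          obtain ⟨i, hi⟩ := (SetLike.ext_iff.1 hcyc _).2 this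
          exact ⟨i, hi.symm⟩
        obtain ⟨i, hi⟩ := key a
        obtain ⟨j, hj⟩ := key b
        have e1 : (a * b) * (v₀ : G) * (a * b)⁻¹ = (v₀ : G) ^ (i * j) := by
          calc (a * b) * (v₀ : G) * (a * b)⁻¹ = a * (b * v₀ * b⁻¹) * a⁻¹ := by group
            _ = (a * v₀ * a⁻¹) ^ j := by rw [hj, conj_zpow]
            _ = _ := by rw [hi, zpow_mul]
        have e2 : (b * a) * (v₀ : G) * (b * a)⁻¹ = (v₀ : G) ^ (i * j) := by
          calc (b * a) * (v₀ : G) * (b * a)⁻¹ = b * (a * v₀ * a⁻¹) * b⁻¹ := by group
            _ = (b * v₀ * b⁻¹) ^ i := by rw [hi, conj_zpow]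
            _ = _ := by rw [hj, ← zpow_mul, mul_comm]
        rw [QuotientGroup.eq, hCV, mem_centralizer_singleton]
        have e3 := e2.trans e1.symm
        calc (a * b)⁻¹ * (b * a) * (v₀ : G) = (a * b)⁻¹ * ((b * a) * (v₀ : G) * (b * a)⁻¹) * (b * a) := by group
          _ = (v₀ : G) * ((a * b)⁻¹ * (b * a)) := by rw [e3]; group

theorem iso_perm_three {G : Type u} [Group G] [Finite G] (h6 : Nat.card G = 6)
    (hna : ¬ ∀ a b : G, a * b = b * a) : Nonempty (G ≃* Equiv.Perm (Fin 3)) := by
  have : Fact (Nat.Prime 2) := ⟨Nat.prime_two⟩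
  obtain ⟨H, hH⟩ := Sylow.exists_subgroup_card_pow_prime 2 (n := 1) (show 2 ^ 1 ∣ Nat.card G by rw [h6]; norm_num)
  rw [pow_one] at hH
  have hidx : H.index = 3 := by
    have := H.card_mul_index
    rw [hH, h6] at this
    omega
  set f := MulAction.toPermHom G (G ⧸ H)
  have hker : f.ker = H.normalCore := (Subgroup.normalCore_eq_ker H).symm
  have hinj : Function.Injective f := by
    rw [← MonoidHom.ker_eq_bot_iff, hker]
    have : Fact (Nat.card H).Prime := ⟨by rw [hH]; exact Nat.prime_two⟩
    rcases Subgroup.eq_bot_or_eq_top_of_prime_card (H.normalCore.subgroupOf H) with hb | ht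
    · rwa [Subgroup.subgroupOf_eq_bot, disjoint_iff, inf_eq_left.2 H.normalCore_le] at hb
    · exfalso
      rw [Subgroup.subgroupOf_eq_top] at ht
      have hn : H.Normal := by
        rw [le_antisymm ht H.normalCore_le]; infer_instance
      have hcen : H ≤ Subgroup.center G := by
        intro z hz
        rw [Subgroup.mem_center_iff]
        intro g
        by_cases hz1 : z = 1
        · simp [hz1]
        have hmem := hn.conj_mem z hz g
        have h2 : ∀ w ∈ H, w = 1 ∨ w = z := by
          intro w hw
          by_contra hne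
          push Not at hne
          have hsub : ({1, z, w} : Set G) ⊆ (H : Set G) := by
            intro u hu
            rcases hu with rfl | rfl | rfl
            exacts [H.one_mem, hz, hw]
          have h3 := Set.ncard_le_ncard hsub (Set.toFinite _)
          rw [Set.ncard_insert_of_notMem (by simp [Ne.symm hz1, hne.1.symm]), Set.ncard_pair hne.2.symm,
            ← Nat.card_coe_set_eq, show Nat.card (H : Set G) = 2 from hH] at h3
          omega
        rcases h2 _ hmem with e | e
        · exact absurd (by simpa using e) hz1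
        · exact mul_inv_eq_iff_eq_mul.1 e
      have : IsCyclic (G ⧸ H) := by
        have : Fact (Nat.Prime 3) := ⟨Nat.prime_three⟩
        exact isCyclic_of_prime_card (p := 3) (by rw [← Subgroup.index_eq_card, hidx])
      exact hna (commutative_of_cyclic_center_quotient (QuotientGroup.mk' H) (by rwa [QuotientGroup.ker_mk']))
  let e : G ⧸ H ≃ Fin 3 := Finite.equivFinOfCardEq (by rw [← Subgroup.index_eq_card, hidx])
  let g : G →* Equiv.Perm (Fin 3) := e.permCongrHom.toMonoidHom.comp f
  have hg : Function.Injective g := e.permCongrHom.injective.comp hinj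
  exact ⟨MulEquiv.ofBijective g ((Nat.bijective_iff_injective_and_card _).2 ⟨hg, by
    rw [h6, Nat.card_eq_fintype_card, Fintype.card_perm, Fintype.card_fin]; rfl⟩)⟩

/-- A finite solvable group in which any two elements of the same order are conjugate has order 1 or 2 or is isomorphic to the symmetric group of degree 3. -/
theorem result {G : Type*} [Group G] [Finite G] [Group.IsSolvable G]
    (h : ∀ x y : G, orderOf x = orderOf y → IsConj x y) :
    Nat.card G = 1 ∨ Nat.card G = 2 ∨ Nonempty (G ≃* Equiv.Perm (Fin 3)) := by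
  rcases classify _ G rfl h with h1 | h2 | ⟨h6, hna⟩
  · exact Or.inl h1
  · exact Or.inr (Or.inl h2)
  · exact Or.inr (Or.inr (iso_perm_three h6 hna))

end Cfsg.Agent.S4062
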