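import Cfsg.Statements.S4064
import Cfsg.Statements.S4064
import Cfsg.Agent.Lib.TICent79.Main
import Cfsg.Agent.Lib.ClassicalGroups.PermModel

set_option autoImplicit false
open Cfsg

namespace Cfsg.Agent.S4064

open Subgroup in
/-- The complement in the Frobenius case. -/
theorem complement_shape {G : Type*} [Group G] [Finite G] (h : CfsgLib.TICent79.TICent G)
    (E : Subgroup G) (C Q : Subgroup ↥E) (hsup : C ⊔ Q = ⊤)
    (hcomm : ∀ a ∈ C, ∀ b ∈ Q, a * b = b * a) (hC : IsCyclic C) (hodd : Odd (Nat.card C))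
    {n : ℕ} (e : ↥Q ≃* QuaternionGroup (2 ^ n)) :
    IsCyclic E ∨ ∃ m : ℕ, Odd m ∧ Nonempty (E ≃* Multiplicative (ZMod m) × QuaternionGroup 2) := by
  have hc : ∀ (a : C) (b : Q), Commute (C.subtype a) (Q.subtype b) := fun a b => hcomm a a.2 b b.2
  set f : C × Q →* ↥E := C.subtype.noncommCoprod Q.subtype hc with hf
  haveI : NeZero (2 ^ n) := ⟨by positivity⟩
  have hQcard : Nat.card ↥Q = 4 * 2 ^ n := by
    rw [Nat.card_congr e.toEquiv, Nat.card_eq_fintype_card, QuaternionGroup.card]
  have hcop : (Nat.card ↥C).Coprime (Nat.card ↥Q) := by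
    rw [hQcard, show 4 * 2 ^ n = 2 ^ (n + 2) by ring]
    exact (Nat.coprime_two_right.2 hodd).pow_right _
  have hinj : Function.Injective f := by
    rw [injective_iff_map_eq_one]
    rintro ⟨a, b⟩ hab
    have hab' : (a : ↥E) * (b : ↥E) = 1 := hab
    have hab2 : (a : ↥E) = (b : ↥E)⁻¹ := eq_inv_of_mul_eq_one_left hab'
    have hbot := (disjoint_iff_inf_le.2 (Subgroup.inf_eq_bot_of_coprime hcop).le : Disjoint C Q)
    have ha : (a : ↥E) = 1 := by
      rw [disjoint_def] at hbot
      exact hbot a.2 (hab2 ▸ inv_mem b.2)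
    have hb : (b : ↥E) = 1 := by rwa [ha, one_mul] at hab'
    exact Prod.ext (Subtype.ext ha) (Subtype.ext hb)
  have hsurj : Function.Surjective f := by
    rw [← MonoidHom.range_eq_top, hf, MonoidHom.noncommCoprod_range, range_subtype, range_subtype,
      hsup]
  let ef : C × Q ≃* ↥E := MulEquiv.ofBijective f ⟨hinj, hsurj⟩
  have hTQ : ∀ x : QuaternionGroup (2 ^ n),
      Cfsg.IsTISubset (Subgroup.centralizer ({x} : Set (QuaternionGroup (2 ^ n))) :
        Set (QuaternionGroup (2 ^ n))) :=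
    h.of_injective ((E.subtype.comp Q.subtype).comp e.symm.toMonoidHom)
      ((E.subtype_injective.comp Q.subtype_injective).comp e.symm.injective)
  have hn : n ≤ 1 := (Nat.pow_dvd_pow_iff_le_right (show 1 < 2 by norm_num)).1
    (by simpa using CfsgLib.TICent79.quaternion_bound hTQ)
  rcases Nat.le_one_iff_eq_zero_or_eq_one.1 hn with rfl | rfl
  · left
    haveI : IsCyclic (QuaternionGroup (2 ^ 0)) :=
      isCyclic_of_orderOf_eq_card (QuaternionGroup.xa 0) (by
        rw [QuaternionGroup.orderOf_xa, Nat.card_eq_fintype_card, QuaternionGroup.card]; rfl)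
    haveI : IsCyclic ↥Q := isCyclic_of_surjective e.symm e.symm.surjective
    haveI : IsCyclic (↥C × ↥Q) := Group.isCyclic_prod_iff.2 ⟨hC, inferInstance, hcop⟩
    exact isCyclic_of_surjective ef ef.surjective
  · right
    exact ⟨Nat.card C, hodd,
      ⟨ef.symm.trans ((zmodCyclicMulEquiv hC).symm.prodCongr e)⟩⟩

/-- Let G be a finite group in which the centralizer of every element meets each of its conjugates by elements outside its normalizer trivially. Then G is nilpotent; or G is a Frobenius group with a complement that is cyclic or isomorphic to the direct product of a cyclic group of odd order and the quaternion group of order 8; or G is isomorphic to PSL₂(2ⁿ) for some n ≥ 2. -/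
theorem result {G : Type*} [Group G] [Finite G] (hTI : ∀ x : G, Cfsg.IsTISubset (Subgroup.centralizer ({x} : Set G) : Set G)) :
    Group.IsNilpotent G ∨
    (∃ H : Subgroup G, Cfsg.IsFrobeniusComplement H ∧
      (IsCyclic H ∨ ∃ m : ℕ, Odd m ∧ Nonempty (H ≃* Multiplicative (ZMod m) × QuaternionGroup 2))) ∨
    (∃ n : ℕ, 2 ≤ n ∧ Nonempty (G ≃* Matrix.ProjectiveSpecialLinearGroup (Fin 2) (GaloisField 2 n))) := by
  by_cases hnn : Group.IsNilpotent G
  · exact Or.inl hnn
  have hCN : Cfsg.IsCNGroup G := CfsgLib.TICent79.TICent.isCN hTI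
  by_cases hs : ∀ (q : ℕ) [Fact q.Prime] (Q : Sylow q G), (Q : Subgroup G).Normal →
      (Q : Subgroup G) = ⊥
  · refine Or.inr (Or.inr ?_)
    obtain ⟨F, iF, iF', n, hn, hF, ⟨e⟩⟩ :=
      CfsgLib.TICent79.exists_psl_of_no_normal_sylow hTI hnn hs
    haveI : Fact (Nat.Prime 2) := ⟨Nat.prime_two⟩
    haveI := Fintype.ofFinite (GaloisField 2 n)
    have hK : Fintype.card F = Fintype.card (GaloisField 2 n) := by
      rw [hF, ← Nat.card_eq_fintype_card, GaloisField.card 2 n (by omega)]
    exact ⟨n, hn, ⟨e.trans (CfsgLib.ClassicalGroups.pslFieldCongr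
      (FiniteField.ringEquivOfCardEq hK))⟩⟩
  · push Not at hs
    obtain ⟨q, hq, Q, hQn, hQb⟩ := hs
    obtain ⟨h1, -, E, hE, hEb, hfpf⟩ :=
      CfsgLib.CNGroup.exists_frobenius_of_normal_sylow hCN hnn Q hQb hQn
    haveI := CfsgLib.CNGroup.isNilpotent_complement hCN hE h1 hEb hfpf
    refine Or.inr (Or.inl ⟨E, CfsgLib.CNGroup.isFrobeniusComplement_of_fpf hE h1 hEb hfpf, ?_⟩)
    letI : MulDistribMulAction ↥E ↥(Cfsg.fittingHall G) :=
      MulDistribMulAction.compHom _
        ((MulAut.conjNormal (H := Cfsg.fittingHall G)).comp E.subtype)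
    haveI : Nontrivial ↥(Cfsg.fittingHall G) := (Subgroup.nontrivial_iff_ne_bot _).2 h1
    have hf : CfsgLib.Frobenius.IsFPF ↥E ↥(Cfsg.fittingHall G) := by
      intro e he v hv
      have hv' : (MulAut.conjNormal (e : G) v : G) = v := congrArg Subtype.val hv
      rw [MulAut.conjNormal_apply] at hv'
      have h2 : (v : G) ∈ Cfsg.fittingHall G ⊓ Subgroup.centralizer ({(e : G)} : Set G) :=
        ⟨v.2, Subgroup.mem_centralizer_singleton_iff.2 (mul_inv_eq_iff_eq_mul.1 hv').symm⟩
      rw [hfpf e e.2 (fun h => he (Subtype.ext h)), Subgroup.mem_bot] at h2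
      exact Subtype.ext h2
    rcases CfsgLib.CNGroup.isCyclic_or_prod_of_fpf hf with hc | ⟨C, R, hsup, hcomm, hC, hodd, n, ⟨e⟩⟩
    · exact Or.inl hc
    exact complement_shape hTI E C R hsup hcomm hC hodd e

end Cfsg.Agent.S4064
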