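import Cfsg.Statements.S4067
import Mathlib

set_option autoImplicit false
open Cfsg
open scoped commutatorElement IsMulCommutative

namespace Cfsg.Agent.S4067

lemma orbit_count {G : Type*} [Group G] [Finite G] (Z : Subgroup G) (B : Set G) (p m : ℕ) (hp : 0 < p)
    (hm : 0 < m) (hZ : ∀ g ∈ B, g ∉ Z)
    (hout : ∀ g, g ∉ Z → p ≤ Nat.card (MulAction.orbit (MulAut G) g))
    (hB : ∀ g ∈ B, m ≤ Nat.card (MulAction.orbit (MulAut G) g)) :
    (Nat.card (MulAction.orbitRel.Quotient (MulAut G) G) : ℚ) ≤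
      Nat.card Z + ((Nat.card G : ℚ) - Nat.card Z) / p - (Nat.card B : ℚ) * (1 / p - 1 / m) := by
  classical
  letI := Fintype.ofFinite G
  letI := Fintype.ofFinite (MulAction.orbitRel.Quotient (MulAut G) G)
  let f : G → MulAction.orbitRel.Quotient (MulAut G) G := Quotient.mk''
  have hfib : ∀ g, ((Finset.univ.filter fun h => f h = f g).card : ℚ) = Nat.card (MulAction.orbit (MulAut G) g) := by
    intro g
    congr 1
    rw [Nat.subtype_card]
    intro h
    rw [Finset.mem_filter]
    simp only [Finset.mem_univ, true_and, f]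
    rw [Quotient.eq'']
    exact MulAction.orbitRel_apply
  have h1 : (Nat.card (MulAction.orbitRel.Quotient (MulAut G) G) : ℚ) =
      ∑ g : G, (1 : ℚ) / Nat.card (MulAction.orbit (MulAut G) g) := by
    rw [← Finset.sum_fiberwise Finset.univ f, Nat.card_eq_fintype_card, Fintype.card, Finset.card_eq_sum_ones,
      Nat.cast_sum]
    refine Finset.sum_congr rfl fun c _ => ?_
    obtain ⟨g, rfl⟩ := Quotient.mk''_surjective c
    have hne : ((Finset.univ.filter fun h => f h = f g).card : ℚ) ≠ 0 := by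
      exact Nat.cast_ne_zero.2 (Finset.card_ne_zero_of_mem (Finset.mem_filter.2 ⟨Finset.mem_univ g, rfl⟩))
    rw [Finset.sum_congr rfl (g := fun _ => (1 : ℚ) / ((Finset.univ.filter fun h => f h = f g).card : ℚ)) fun h hh => ?_]
    · simp only [Finset.sum_const, nsmul_eq_mul, Nat.cast_one]
      exact (mul_one_div_cancel hne).symm
    · rw [← hfib h]
      rw [show f h = f g from (Finset.mem_filter.1 hh).2]
  rw [h1]
  have h2 : ∀ g : G, (1 : ℚ) / Nat.card (MulAction.orbit (MulAut G) g) ≤
      1 / p + (if g ∈ Z then (1 : ℚ) - 1 / p else 0) - (if g ∈ B then (1 : ℚ) / p - 1 / m else 0) := by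
    intro g
    haveI : Nonempty (MulAction.orbit (MulAut G) g) := ⟨⟨g, MulAction.mem_orbit_self g⟩⟩
    by_cases hgB : g ∈ B
    · rw [if_neg (hZ g hgB), if_pos hgB]
      calc (1 : ℚ) / Nat.card (MulAction.orbit (MulAut G) g) ≤ 1 / m := by
            apply one_div_le_one_div_of_le
            · exact_mod_cast hm
            · exact_mod_cast hB g hgB
        _ = _ := by ring
    · rw [if_neg hgB, sub_zero]
      by_cases hgZ : g ∈ Z
      · rw [if_pos hgZ, add_sub_cancel, div_le_one (by exact_mod_cast Nat.card_pos)]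
        exact_mod_cast Nat.card_pos (α := MulAction.orbit (MulAut G) g)
      · rw [if_neg hgZ, add_zero]
        apply one_div_le_one_div_of_le
        · exact_mod_cast hp
        · exact_mod_cast hout g hgZ
  refine (Finset.sum_le_sum fun g _ => h2 g).trans_eq ?_
  rw [Finset.sum_sub_distrib, Finset.sum_add_distrib, Finset.sum_ite, Finset.sum_ite, Finset.sum_const,
    Finset.sum_const, Finset.sum_const_zero, Finset.sum_const, Finset.sum_const_zero]
  have hZc : (Finset.univ.filter fun g => g ∈ Z).card = Nat.card Z := by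
    rw [Nat.card_eq_fintype_card, Fintype.card_subtype]
  have hBc : (Finset.univ.filter fun g => g ∈ B).card = Nat.card B := by
    rw [Nat.card_eq_fintype_card, Fintype.card_subtype]
  simp only [nsmul_eq_mul, hZc, hBc, Finset.card_univ, ← Nat.card_eq_fintype_card]
  ring

lemma class_le_orbit {G : Type*} [Group G] [Finite G] (g : G) :
    (Subgroup.centralizer ({g} : Set G)).index ≤ Nat.card (MulAction.orbit (MulAut G) g) := by
  have h : (Subgroup.centralizer ({g} : Set G)).index = Nat.card (MulAction.orbit (ConjAct G) g) := by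
    rw [Nat.card_congr (MulAction.orbitEquivQuotientStabilizer (ConjAct G) g), ← Subgroup.index_eq_card,
      ConjAct.stabilizer_eq_centralizer]
    rfl
  rw [h]
  apply Nat.card_mono (Set.toFinite _)
  rintro y ⟨c, rfl⟩
  exact ⟨MulAut.conj (ConjAct.ofConjAct c), by simp [ConjAct.smul_def]⟩

lemma exists_functional {Q : Type*} [CommGroup Q] {p : ℕ} [Fact p.Prime] (hQ : ∀ v : Q, v ^ p = 1) {v : Q}
    (hv : v ≠ 1) : ∃ ψ : Q →* Multiplicative (ZMod p), ψ v = Multiplicative.ofAdd 1 := by
  haveI : Module (ZMod p) (Additive Q) := AddCommGroup.zmodModule (G := Additive Q) (n := p) fun w => by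
    apply Additive.toMul.injective
    simpa using hQ (Additive.toMul w)
  obtain ⟨φ, hφ⟩ : ∃ φ : Module.Dual (ZMod p) (Additive Q), φ (Additive.ofMul v) ≠ 0 := by
    by_contra h
    push Not at h
    exact hv ((Module.forall_dual_apply_eq_zero_iff (ZMod p) (Additive.ofMul v)).1 h)
  refine ⟨AddMonoidHom.toMultiplicativeRight ((φ (Additive.ofMul v))⁻¹ • φ).toAddMonoidHom, ?_⟩
  change Multiplicative.ofAdd ((φ (Additive.ofMul v))⁻¹ * φ (Additive.ofMul v)) = _
  rw [inv_mul_cancel₀ hφ]

section classTwo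
variable {G : Type*} [Group G]

lemma comm_mul_left (hc : ∀ a b : G, ⁅a, b⁆ ∈ Subgroup.center G) (a b c : G) :
    ⁅a * b, c⁆ = ⁅a, c⁆ * ⁅b, c⁆ := by
  have h := Subgroup.mem_center_iff.1 (hc b c) a
  calc ⁅a * b, c⁆ = a * ⁅b, c⁆ * (c * a⁻¹ * c⁻¹) := by simp only [commutatorElement_def]; group
    _ = ⁅b, c⁆ * ⁅a, c⁆ := by rw [h]; simp only [commutatorElement_def]; group
    _ = _ := (Subgroup.mem_center_iff.1 (hc b c) _).symm

lemma comm_mul_right (hc : ∀ a b : G, ⁅a, b⁆ ∈ Subgroup.center G) (a b c : G) :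
    ⁅a, b * c⁆ = ⁅a, b⁆ * ⁅a, c⁆ := by
  have h := Subgroup.mem_center_iff.1 (hc a c) b
  calc ⁅a, b * c⁆ = ⁅a, b⁆ * (b * ⁅a, c⁆ * b⁻¹) := by simp only [commutatorElement_def]; group
    _ = _ := by rw [h, mul_inv_cancel_right]

lemma comm_pow_left (hc : ∀ a b : G, ⁅a, b⁆ ∈ Subgroup.center G) (a b : G) (n : ℕ) :
    ⁅a ^ n, b⁆ = ⁅a, b⁆ ^ n := by
  induction n with
  | zero => simp
  | succ n ih => rw [pow_succ, comm_mul_left hc, ih, pow_succ]

lemma mul_pow_comm (hc : ∀ a b : G, ⁅a, b⁆ ∈ Subgroup.center G) (a b : G) (n : ℕ) :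
    (a * b) ^ n = a ^ n * b ^ n * ⁅b, a⁆ ^ n.choose 2 := by
  induction n with
  | zero => simp
  | succ n ih =>
    have h1 := Subgroup.mem_center_iff.1 (Subgroup.pow_mem _ (hc b a) (n.choose 2))
    have h2 : b ^ n * a = a * b ^ n * ⁅b, a⁆ ^ n := by
      rw [Subgroup.mem_center_iff.1 (Subgroup.pow_mem _ (hc b a) n), ← comm_pow_left hc, commutatorElement_def]
      group
    rw [pow_succ, ih, Nat.choose_succ_succ' n 1, Nat.choose_one_right, pow_succ a n, pow_succ b n, pow_add]
    calc a ^ n * b ^ n * ⁅b, a⁆ ^ n.choose 2 * (a * b)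
        = a ^ n * b ^ n * (⁅b, a⁆ ^ n.choose 2 * (a * b)) := mul_assoc _ _ _
      _ = a ^ n * (b ^ n * a) * b * ⁅b, a⁆ ^ n.choose 2 := by rw [← h1]; simp only [mul_assoc]
      _ = a ^ n * a * (b ^ n * b) * (⁅b, a⁆ ^ n * ⁅b, a⁆ ^ n.choose 2) := by
        rw [h2]
        have h3 := Subgroup.mem_center_iff.1 (Subgroup.pow_mem _ (hc b a) n) b
        simp only [mul_assoc]
        rw [← mul_assoc (⁅b, a⁆ ^ n) b, ← h3, mul_assoc]

end classTwo

lemma exists_transvection {G : Type*} [Group G] {p : ℕ} [Fact p.Prime]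
    (hc : ∀ a b : G, ⁅a, b⁆ ∈ Subgroup.center G) {x ζ : G}
    (hζ : orderOf ζ = p) (hζZ : ζ ∈ Subgroup.center G)
    (hcomm : ∀ g, ∃ a : ℕ, ⁅x, g⁆ = ζ ^ a) (hx : x ^ p * ζ ^ p.choose 2 = 1) [Finite G] :
    ∀ y, ⁅x, y⁆ ≠ 1 → ∃ (α : MulAut G) (v : G), (∀ k : ℕ, (α ^ k) y = y * v ^ k) ∧
      ∃ c : G, orderOf c = p ∧ ∀ k : ℕ, ⁅v ^ k, y⁆ = c ^ k := by
  choose a ha using hcomm
  let u : ℕ → G := fun n => x ^ n * ζ ^ n.choose 2
  have hζc := fun (n : ℕ) (g : G) => Subgroup.mem_center_iff.1 (Subgroup.pow_mem _ hζZ n) g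
  have hu : ∀ g : G, ∀ k m : ℕ, ⁅x, g⁆ = ζ ^ m → u k * g = g * u k * ζ ^ (k * m) := by
    intro g k m hm
    have h1 : ⁅x ^ k, g⁆ = ζ ^ (k * m) := by rw [comm_pow_left hc, hm, ← pow_mul, mul_comm]
    have h2 : x ^ k * g = g * x ^ k * ζ ^ (k * m) := by
      rw [hζc, ← h1, commutatorElement_def]; group
    simp only [u]
    rw [mul_assoc, ← hζc, ← mul_assoc, h2, mul_assoc, ← hζc (k * m), ← mul_assoc, ← mul_assoc]
  have hadd : ∀ i j : ℕ, u i * u j * ζ ^ (i * j) = u (i + j) := by
    intro i j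
    simp only [u]
    rw [show (i + j).choose 2 = i.choose 2 + j.choose 2 + i * j by
      induction j with
      | zero => simp
      | succ j ih =>
        rw [← add_assoc, Nat.choose_succ_succ' (i + j) 1, ih, Nat.choose_succ_succ' j 1, Nat.choose_one_right,
          Nat.choose_one_right, mul_add, mul_one]
        ring]
    calc x ^ i * ζ ^ i.choose 2 * (x ^ j * ζ ^ j.choose 2) * ζ ^ (i * j)
        = x ^ i * (ζ ^ i.choose 2 * x ^ j) * ζ ^ j.choose 2 * ζ ^ (i * j) := by simp only [mul_assoc]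
      _ = _ := by rw [← hζc, pow_add x, pow_add ζ, pow_add ζ]; simp only [mul_assoc]
  have hper : ∀ i j : ℕ, i ≡ j [MOD p] → u i = u j := by
    have hstep : ∀ i, u (i + p) = u i := fun i => by
      rw [← hadd, show u p = 1 from hx, mul_one]
      rw [orderOf_dvd_iff_pow_eq_one.1 (hζ ▸ dvd_mul_left p i), mul_one]
    have hall : ∀ i k, u (i + p * k) = u i := fun i k => by
      induction k with
      | zero => simp
      | succ k ih => rw [mul_add, mul_one, ← add_assoc, hstep, ih]
    intro i j hij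
    conv_rhs => rw [← Nat.mod_add_div j p, hall]
    conv_lhs => rw [← Nat.mod_add_div i p, hall]
    rw [show i % p = j % p from hij]
  have hmod : ∀ i j : ℕ, ζ ^ i = ζ ^ j → i ≡ j [MOD p] := fun i j h => hζ ▸ pow_eq_pow_iff_modEq.1 h
  let f : G →* G := MonoidHom.mk' (fun g => g * u (a g)) fun g h => by
    have h1 : ζ ^ a (g * h) = ζ ^ (a g + a h) := by rw [← ha, comm_mul_right hc, ha, ha, ← pow_add]
    rw [hper _ _ (hmod _ _ h1), ← hadd]
    calc g * h * (u (a g) * u (a h) * ζ ^ (a g * a h))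
        = g * (h * u (a g)) * u (a h) * ζ ^ (a g * a h) := by simp only [mul_assoc]
      _ = g * (h * u (a g) * ζ ^ (a g * a h)) * u (a h) := by
        simp only [mul_assoc]; rw [← hζc (a g * a h) (u (a h))]
      _ = g * (u (a g) * h) * u (a h) := by rw [← hu h (a g) (a h) (ha h)]
      _ = _ := by simp only [mul_assoc]
  have hxu : ∀ k, ⁅x, u k⁆ = 1 := by
    intro k
    rw [commutatorElement_eq_one_iff_mul_comm]
    simp only [u]
    rw [← mul_assoc, ← pow_succ', mul_assoc _ _ x, ← hζc, ← mul_assoc, pow_succ]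
  have hfix : ∀ g, ⁅x, g⁆ = 1 → f g = g := by
    intro g hg
    change g * u (a g) = g
    rw [hper (a g) 0 (hmod _ _ (by rw [← ha, hg, pow_zero]))]
    simp [u]
  have hinj : Function.Injective f := by
    rw [injective_iff_map_eq_one]
    intro g hg
    have h1 : g = (u (a g))⁻¹ := eq_inv_of_mul_eq_one_left hg
    have h2 : ⁅x, g⁆ = 1 := by
      rw [h1, commutatorElement_eq_one_iff_commute]
      exact ((commutatorElement_eq_one_iff_commute.1 (hxu (a g)))).inv_right
    rw [← hfix g h2, hg]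
  intro y hy
  refine ⟨MulEquiv.ofBijective f (Finite.injective_iff_bijective.1 hinj), u (a y), ?_, ζ ^ (a y * a y), ?_, ?_⟩
  · intro k
    induction k with
    | zero => simp
    | succ k ih =>
      rw [pow_succ', MulAut.mul_apply, ih, map_mul, map_pow]
      change y * u (a y) * (f (u (a y))) ^ k = _
      rw [hfix _ (hxu _), pow_succ', mul_assoc]
  · have hay : ¬ p ∣ a y := fun hd => hy (by rw [ha, orderOf_dvd_iff_pow_eq_one.1 (hζ ▸ hd)])
    rw [orderOf_pow, hζ, ((Fact.out : p.Prime).coprime_iff_not_dvd.2 fun hd => hay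
      (((Fact.out : p.Prime).dvd_mul.1 hd).elim id id)).gcd_eq_one, Nat.div_one]
  · intro k
    rw [comm_pow_left hc, comm_mul_left hc, commutatorElement_eq_one_iff_commute.2
      (Commute.symm (hζc _ y)), mul_one, comm_pow_left hc, ha, ← pow_mul, ← pow_mul, ← pow_mul]
    congr 1
    ring

/-- Let G be a finite non-abelian group and p the least prime dividing its order. Then the automorphism group of G has at most #G/p orbits on G. -/
theorem result {G : Type*} [Group G] [Finite G] (hna : ¬ IsMulCommutative G) :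
    Nat.card (MulAction.orbitRel.Quotient (MulAut G) G) ≤ Nat.card G / (Nat.card G).minFac := by
  classical
  obtain ⟨a0, b0, hab0⟩ : ∃ a b : G, a * b ≠ b * a := by
    by_contra h
    push Not at h
    exact hna ⟨⟨h⟩⟩
  have hN1 : Nat.card G ≠ 1 := fun h => by
    haveI := (Nat.card_eq_one_iff_unique.1 h).1
    exact hab0 (Subsingleton.elim _ _)
  set p := (Nat.card G).minFac with hpdef
  haveI : Fact p.Prime := ⟨Nat.minFac_prime hN1⟩
  have hp : p.Prime := Fact.out
  have hmin : ∀ d, d ∣ Nat.card G → d ≠ 1 → p ≤ d := fun d hd hd1 =>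
    Nat.minFac_le_of_dvd (by have := Nat.pos_of_dvd_of_pos hd Nat.card_pos; omega) hd
  set Z := Subgroup.center G with hZdef
  have hC : ∀ g, (Subgroup.centralizer ({g} : Set G)).index = 1 ↔ g ∈ Z := fun g => by
    rw [Subgroup.index_eq_one, Subgroup.centralizer_eq_top_iff_subset, Set.singleton_subset_iff, SetLike.mem_coe]
  have hout : ∀ g, g ∉ Z → p ≤ Nat.card (MulAction.orbit (MulAut G) g) := fun g hg =>
    (hmin _ (Subgroup.index_dvd_card _) (fun h => hg ((hC g).1 h))).trans (class_le_orbit g)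
  have hcyc : ¬ IsCyclic (G ⧸ Z) := fun h => hab0
    (commutative_of_cyclic_center_quotient (QuotientGroup.mk' Z) (by simp [hZdef]) a0 b0)
  have hn1 : Z.index ≠ 1 := fun h => by
    rw [Subgroup.index_eq_one, hZdef] at h
    exact hab0 (Subgroup.mem_center_iff.1 (h ▸ Subgroup.mem_top b0 : b0 ∈ Subgroup.center G) a0)
  -- the index of the center
  have hnp : Z.index = p ^ 2 ∨ p * (p + 1) ≤ Z.index := by
    have hd := Subgroup.index_dvd_card Z
    have hr : Z.index.minFac.Prime := Nat.minFac_prime hn1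
    obtain ⟨s, hs⟩ := Nat.minFac_dvd Z.index
    have hr1 : p ≤ Z.index.minFac := hmin _ ((Nat.minFac_dvd _).trans hd) hr.ne_one
    have hs1 : s ≠ 1 := fun h => hcyc (by
      rw [h, mul_one] at hs
      haveI := Fact.mk hr
      exact isCyclic_of_prime_card (p := Z.index.minFac) (by rw [← Subgroup.index_eq_card, ← hs]))
    have hs2 : p ≤ s := hmin _ ((Dvd.intro_left _ hs.symm).trans hd) hs1
    rcases Nat.lt_or_ge p Z.index.minFac with h | h
    · right
      rw [hs, mul_comm p]
      exact Nat.mul_le_mul h hs2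
    · rcases Nat.lt_or_ge p s with h' | h'
      · right
        rw [hs]
        exact Nat.mul_le_mul hr1 h'
      · left
        rw [hs, le_antisymm h hr1, le_antisymm h' hs2, sq]
  have hn2 : p * p ≤ Z.index := by
    rcases hnp with h | h
    · rw [h, sq]
    · exact le_trans (Nat.mul_le_mul le_rfl (Nat.le_succ p)) h
  have hNZ : (Nat.card G : ℚ) = Nat.card Z * Z.index := by exact_mod_cast (Subgroup.card_mul_index Z).symm
  have hZpos : (0 : ℚ) < Nat.card Z := by exact_mod_cast Nat.card_pos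
  have hp2 : (2 : ℚ) ≤ p := by exact_mod_cast hp.two_le
  have hn2' : (p : ℚ) * p ≤ Z.index := by exact_mod_cast hn2
  suffices hmain : (Nat.card (MulAction.orbitRel.Quotient (MulAut G) G) : ℚ) * p ≤ Nat.card G by
    rw [Nat.le_div_iff_mul_le hp.pos]
    exact_mod_cast hmain
  set T : Set G := {g | (Subgroup.centralizer ({g} : Set G)).index ≤ p} with hT
  by_cases hgen : Subgroup.closure T = ⊤
  · -- class two, elementary abelian central quotient
    have hnorm : ∀ t ∈ T, ∀ a b : G, ⁅a, b⁆ ∈ Subgroup.centralizer ({t} : Set G) ∧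
        a ^ p ∈ Subgroup.centralizer ({t} : Set G) := by
      intro t ht a b
      by_cases htZ : t ∈ Z
      · rw [show Subgroup.centralizer ({t} : Set G) = ⊤ from Subgroup.index_eq_one.1 ((hC t).2 htZ)]
        exact ⟨trivial, trivial⟩
      set H := Subgroup.centralizer ({t} : Set G) with hH
      have hi : H.index = p := le_antisymm ht (hmin _ (Subgroup.index_dvd_card _) fun h => htZ ((hC t).1 h))
      haveI : H.Normal := Subgroup.normal_of_index_eq_minFac_card (hi.trans hpdef)
      refine ⟨?_, hi ▸ Subgroup.pow_index_mem H a⟩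
      haveI : IsCyclic (G ⧸ H) := isCyclic_of_prime_card (p := p) (by rw [← Subgroup.index_eq_card, hi])
      rw [← QuotientGroup.eq_one_iff, ← QuotientGroup.mk'_apply, map_commutatorElement,
        commutatorElement_eq_one_iff_commute]
      exact IsCyclic.commGroup.mul_comm _ _
    have hcent : ∀ z : G, (∀ t ∈ T, z ∈ Subgroup.centralizer ({t} : Set G)) → z ∈ Z := by
      intro z hz
      have h1 : Subgroup.closure T ≤ Subgroup.centralizer ({z} : Set G) := by
        rw [Subgroup.closure_le]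
        intro t ht
        exact Subgroup.mem_centralizer_singleton_iff.2 (Subgroup.mem_centralizer_singleton_iff.1 (hz t ht)).symm
      rw [hgen] at h1
      exact Subgroup.mem_center_iff.2 fun g => Subgroup.mem_centralizer_singleton_iff.1 (h1 (Subgroup.mem_top g))
    have hc : ∀ a b : G, ⁅a, b⁆ ∈ Subgroup.center G := fun a b => hcent _ fun t ht => (hnorm t ht a b).1
    have hpw : ∀ a : G, a ^ p ∈ Z := fun a => hcent _ fun t ht => (hnorm t ht a 1).2
    have hcp : ∀ a b : G, ⁅a, b⁆ ^ p = 1 := fun a b => by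
      rw [← comm_pow_left hc, commutatorElement_eq_one_iff_mul_comm]
      exact (Subgroup.mem_center_iff.1 (hpw a) b).symm
    -- central automorphisms
    have hshift : ∀ g, g ∉ Z → ∀ w, w ∈ Z → w ^ p = 1 → g * w ∈ MulAction.orbit (MulAut G) g := by
      intro g hg w hwZ hwp
      letI : CommGroup (G ⧸ Z) :=
        { (inferInstance : Group (G ⧸ Z)) with
          mul_comm := fun u v => by
            obtain ⟨u, rfl⟩ := QuotientGroup.mk'_surjective Z u
            obtain ⟨v, rfl⟩ := QuotientGroup.mk'_surjective Z v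
            rw [← commutatorElement_eq_one_iff_mul_comm, ← map_commutatorElement, QuotientGroup.mk'_apply,
              QuotientGroup.eq_one_iff]
            exact hc u v }
      obtain ⟨ψ, hψ⟩ := exists_functional (Q := G ⧸ Z) (p := p) (fun v => by
        obtain ⟨v, rfl⟩ := QuotientGroup.mk'_surjective Z v
        rw [← map_pow, QuotientGroup.mk'_apply, QuotientGroup.eq_one_iff]
        exact hpw v) (v := (g : G ⧸ Z)) (by rwa [ne_eq, QuotientGroup.eq_one_iff])
      have hwn := fun (n : ℕ) (y : G) => Subgroup.mem_center_iff.1 (Subgroup.pow_mem _ hwZ n) y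
      let e : G → ℕ := fun y => (Multiplicative.toAdd (ψ (y : G ⧸ Z))).val
      let β : G →* G := MonoidHom.mk' (fun y => y * w ^ e y) fun y y' => by
        have h1 : w ^ e (y * y') = w ^ e y * w ^ e y' := by
          simp only [e, QuotientGroup.mk_mul, map_mul, toAdd_mul, ZMod.val_add, ← pow_add]
          exact (pow_eq_pow_mod _ hwp).symm
        rw [h1]
        calc y * y' * (w ^ e y * w ^ e y') = y * (y' * w ^ e y) * w ^ e y' := by simp only [mul_assoc]
          _ = _ := by rw [hwn (e y) y']; simp only [mul_assoc]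
      have hinj : Function.Injective β := by
        rw [injective_iff_map_eq_one]
        intro y hy
        have hyZ : y ∈ Z := by
          rw [eq_inv_of_mul_eq_one_left hy]
          exact inv_mem (Subgroup.pow_mem _ hwZ _)
        have he : e y = 0 := by
          simp only [e, (QuotientGroup.eq_one_iff y).2 hyZ, map_one, toAdd_one, ZMod.val_zero]
        change y * w ^ e y = 1 at hy
        rwa [he, pow_zero, mul_one] at hy
      refine ⟨MulEquiv.ofBijective β (Finite.injective_iff_bijective.1 hinj), ?_⟩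
      change g * w ^ e g = g * w
      simp only [e, hψ, toAdd_ofAdd, ZMod.val_one, pow_one]
    set Ω := (powMonoidHom p : Z →* Z).ker with hΩdef
    have hΩmem : ∀ w : Z, w ∈ Ω ↔ (w : G) ^ p = 1 := fun w => by
      simp [hΩdef, MonoidHom.mem_ker, Subtype.ext_iff]
    rcases le_or_gt (p * p) (Nat.card Ω) with hΩ | hΩ
    · -- big socle of the center
      have hb : ∀ g ∈ ((Z : Set G))ᶜ, p * p ≤ Nat.card (MulAction.orbit (MulAut G) g) := fun g hg => by
        refine hΩ.trans (Nat.card_le_card_of_injective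
          (fun w : Ω => (⟨g * ((w : Z) : G), hshift g hg _ (w : Z).2 ((hΩmem _).1 w.2)⟩ :
            MulAction.orbit (MulAut G) g)) fun w w' h => ?_)
        exact Subtype.ext (Subtype.ext (mul_left_cancel (congrArg Subtype.val h)))
      have h := orbit_count Z ((Z : Set G))ᶜ p (p * p) hp.pos (Nat.mul_pos hp.pos hp.pos) (fun g hg => hg) hout hb
      have hcB : (Nat.card ↥((Z : Set G))ᶜ : ℚ) = (Nat.card G : ℚ) - Nat.card Z := by
        rw [eq_sub_iff_add_eq']
        exact_mod_cast Set.ncard_add_ncard_compl (Z : Set G)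
      rw [hcB, Nat.cast_mul] at h
      have h' := mul_le_mul_of_nonneg_right h (by positivity : (0 : ℚ) ≤ p * p)
      field_simp at h'
      rw [hNZ] at h' ⊢
      nlinarith [mul_le_mul_of_nonneg_left hn2' hZpos.le]
    · -- socle of order p
      have hΩp : IsPGroup p Ω := fun w => ⟨1, Subtype.ext (Subtype.ext (by simpa using (hΩmem _).1 w.2))⟩
      have hne : (⟨⟨⁅a0, b0⁆, hc a0 b0⟩, (hΩmem _).2 (hcp a0 b0)⟩ : Ω) ≠ 1 := fun h => hab0
        (commutatorElement_eq_one_iff_mul_comm.1 (congrArg (fun w : Ω => ((w : Z) : G)) h))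
      haveI : Nontrivial Ω := nontrivial_of_ne _ _ hne
      obtain ⟨k, hk⟩ := IsPGroup.iff_card.1 hΩp
      have hcardΩ : Nat.card Ω = p := by
        have h1 := Finite.one_lt_card (α := Ω)
        rw [hk] at h1 hΩ ⊢
        rw [← sq] at hΩ
        have hk2 : k < 2 := (Nat.pow_lt_pow_iff_right hp.one_lt).1 hΩ
        interval_cases k
        · simp at h1
        · exact pow_one p
      obtain ⟨⟨⟨ζ, hζZ⟩, hζΩ⟩, hζ1⟩ := exists_ne (1 : Ω)
      have hζ : orderOf ζ = p := orderOf_eq_prime ((hΩmem _).1 hζΩ) fun h => hζ1 (Subtype.ext (Subtype.ext h))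
      have hΩgen : ∀ w, w ∈ Z → w ^ p = 1 → ∃ i : ℕ, w = ζ ^ i := by
        intro w hwZ hwp
        have h := mem_zpowers_of_prime_card (G := Ω) hcardΩ hζ1 (g' := ⟨⟨w, hwZ⟩, (hΩmem _).2 hwp⟩)
        rw [← mem_powers_iff_mem_zpowers, Submonoid.mem_powers_iff] at h
        obtain ⟨i, hi⟩ := h
        exact ⟨i, (congrArg (fun w : Ω => ((w : Z) : G)) hi).symm.trans (by simp)⟩
      -- a root of the twisting constant
      set R := (powMonoidHom p : Z →* Z).range with hRdef
      have hQ : Nat.card (Z ⧸ R) = p := by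
        have h1 := Subgroup.card_mul_index Ω
        rw [hΩdef, Subgroup.index_ker, ← hRdef, ← hΩdef, hcardΩ] at h1
        have h2 := Subgroup.card_mul_index R
        rw [← Subgroup.index_eq_card]
        exact mul_left_cancel₀ (Nat.card_pos (α := R)).ne' (h2.trans (h1.symm.trans (mul_comm _ _)))
      let cl : G → Z ⧸ R := fun g => ((⟨g ^ p * ζ ^ p.choose 2,
        mul_mem (hpw g) (Subgroup.pow_mem _ hζZ _)⟩ : Z) : Z ⧸ R)
      obtain ⟨x0, hx0Z, hx0⟩ : ∃ x, x ∉ Z ∧ cl x = 1 := by
        have ha0 : a0 ∉ Z := fun h => hab0 (Subgroup.mem_center_iff.1 h b0).symm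
        have hb0 : b0 ∉ Z := fun h => hab0 (Subgroup.mem_center_iff.1 h a0)
        by_cases hca : cl a0 = 1
        · exact ⟨a0, ha0, hca⟩
        have hyZ : ∀ j : ℕ, a0 ^ j * b0 ∉ Z := fun j h => hab0 <| by
          have h1 : a0 * (a0 ^ j * b0) = (a0 ^ j * b0) * a0 := Subgroup.mem_center_iff.1 h a0
          rw [← mul_assoc, ← pow_succ', pow_succ, mul_assoc, mul_assoc] at h1
          exact mul_left_cancel h1
        by_cases hodd : p = 2
        · by_cases hcb : cl b0 = 1
          · exact ⟨b0, hb0, hcb⟩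
          refine ⟨a0 ^ 1 * b0, hyZ 1, ?_⟩
          have hprod : cl a0 * cl b0 = 1 := by
            obtain ⟨c, -, huniq⟩ := (Nat.card_eq_two_iff' (1 : Z ⧸ R)).1 (hQ.trans hodd)
            rw [huniq _ hca, huniq _ hcb, ← sq]
            exact orderOf_dvd_iff_pow_eq_one.1 ((hQ.trans hodd) ▸ orderOf_dvd_natCard c)
          obtain ⟨i, hi⟩ := hΩgen ⁅b0, a0⁆ (hc _ _) (hcp _ _)
          have hi1 : ⁅b0, a0⁆ = ζ := by
            rw [hi, ← pow_mod_orderOf, hζ, hodd]
            rcases Nat.mod_two_eq_zero_or_one i with h | h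
            · exfalso
              apply hab0
              rw [← pow_mod_orderOf, hζ, hodd, h, pow_zero, commutatorElement_eq_one_iff_mul_comm] at hi
              exact hi.symm
            · rw [h, pow_one]
          rw [← hprod]
          change _ = (((⟨_, _⟩ : Z) * ⟨_, _⟩ : Z) : Z ⧸ R)
          apply congrArg (fun z : Z => (z : Z ⧸ R))
          apply Subtype.ext
          change (a0 ^ 1 * b0) ^ p * ζ ^ p.choose 2 = a0 ^ p * ζ ^ p.choose 2 * (b0 ^ p * ζ ^ p.choose 2)
          have hC1 : p.choose 2 = 1 := by rw [hodd]; rfl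
          rw [pow_one, mul_pow_comm hc, hi1, hC1, pow_one]
          have hz := Subgroup.mem_center_iff.1 hζZ (b0 ^ p)
          rw [mul_assoc (a0 ^ p) ζ, ← mul_assoc ζ, ← hz]
          simp only [mul_assoc]
        · have hC : p ∣ p.choose 2 := hp.dvd_choose_self (by norm_num) (lt_of_le_of_ne hp.two_le (Ne.symm hodd))
          have hζC : ∀ w : G, w ^ p = 1 → w ^ p.choose 2 = 1 := fun w hw => by
            obtain ⟨d, hd⟩ := hC; rw [hd, pow_mul, hw, one_pow]
          haveI := Fact.mk (hQ ▸ hp : (Nat.card (Z ⧸ R)).Prime)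
          have h := mem_zpowers_of_prime_card (G := Z ⧸ R) hQ hca (g' := (cl b0)⁻¹)
          rw [← mem_powers_iff_mem_zpowers, Submonoid.mem_powers_iff] at h
          obtain ⟨j, hj⟩ := h
          refine ⟨a0 ^ j * b0, hyZ j, ?_⟩
          rw [eq_inv_iff_mul_eq_one] at hj
          rw [← hj]
          change _ = (((⟨_, _⟩ : Z) ^ j * ⟨_, _⟩ : Z) : Z ⧸ R)
          apply congrArg (fun z : Z => (z : Z ⧸ R))
          apply Subtype.ext
          change (a0 ^ j * b0) ^ p * ζ ^ p.choose 2 = (a0 ^ p * ζ ^ p.choose 2) ^ j * (b0 ^ p * ζ ^ p.choose 2)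
          rw [mul_pow_comm hc, hζC _ (hcp _ _), hζC ζ (hζ ▸ pow_orderOf_eq_one ζ)]
          simp only [mul_one]
          rw [← pow_mul, ← pow_mul, mul_comm j]
      obtain ⟨z, hz⟩ := (QuotientGroup.eq_one_iff _).1 hx0
      have hz' : (z : G) ^ p = x0 ^ p * ζ ^ p.choose 2 := congrArg Subtype.val hz
      set x := x0 * (z : G)⁻¹ with hxdef
      have hxp : x ^ p * ζ ^ p.choose 2 = 1 := by
        have hcz : Commute x0 ((z : G)⁻¹) := (Commute.inv_right (Subgroup.mem_center_iff.1 z.2 x0))
        rw [hcz.mul_pow, inv_pow, mul_assoc, hz',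
          ← Subgroup.mem_center_iff.1 (inv_mem (hz' ▸ Subgroup.pow_mem _ z.2 p)) (ζ ^ p.choose 2)]
        group
      have hxZ : x ∉ Z := fun h => hx0Z (by simpa [hxdef] using mul_mem h z.2)
      obtain ⟨htrans⟩ : Nonempty (PLift (∀ y, ⁅x, y⁆ ≠ 1 → ∃ (α : MulAut G) (v : G), (∀ k : ℕ, (α ^ k) y = y * v ^ k) ∧
          ∃ c : G, orderOf c = p ∧ ∀ k : ℕ, ⁅v ^ k, y⁆ = c ^ k)) :=
        ⟨⟨exists_transvection hc hζ hζZ (fun g => hΩgen _ (hc _ _) (hcp _ _)) hxp⟩⟩
      set C := Subgroup.centralizer ({x} : Set G) with hCdef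
      have hbZ : ∀ g ∈ ((C : Set G))ᶜ, g ∉ Z := fun g hg h =>
        hg (Subgroup.mem_centralizer_singleton_iff.2 (Subgroup.mem_center_iff.1 h x).symm)
      have hb : ∀ y ∈ ((C : Set G))ᶜ, p * p ≤ Nat.card (MulAction.orbit (MulAut G) y) := by
        intro y hy
        obtain ⟨α, v, hα, c, hcord, hcv⟩ := htrans.down y (fun h => hy
          (Subgroup.mem_centralizer_singleton_iff.2 (commutatorElement_eq_one_iff_mul_comm.1 h).symm))
        have hmem : ∀ q : Fin p × Ω, y * v ^ (q.1 : ℕ) * ((q.2 : Z) : G) ∈ MulAction.orbit (MulAut G) y := by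
          intro q
          rw [← hα]
          have h1 : (α ^ (q.1 : ℕ)) y ∈ MulAction.orbit (MulAut G) y := MulAction.mem_orbit y (α ^ (q.1 : ℕ))
          rw [← MulAction.orbit_eq_iff.2 h1]
          refine hshift _ (fun hm => hbZ y hy ?_) _ (q.2 : Z).2 ((hΩmem _).1 q.2.2)
          have := Subgroup.characteristic_iff_map_le.1 (inferInstanceAs Z.Characteristic) (α ^ (q.1 : ℕ))⁻¹
            ⟨_, hm, rfl⟩
          simpa using this
        refine le_trans (le_of_eq ?_) (Nat.card_le_card_of_injective (fun q : Fin p × Ω =>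
          (⟨_, hmem q⟩ : MulAction.orbit (MulAut G) y)) ?_)
        · rw [Nat.card_prod, Nat.card_fin, hcardΩ]
        rintro ⟨i, w⟩ ⟨j, w'⟩ h
        have h1 : y * v ^ (i : ℕ) * ((w : Z) : G) = y * v ^ (j : ℕ) * ((w' : Z) : G) := congrArg Subtype.val h
        rw [mul_assoc, mul_assoc] at h1
        have h2 := mul_left_cancel h1
        have h3 := congrArg (fun t => ⁅t, y⁆) h2
        have hw : ∀ w : Ω, ⁅((w : Z) : G), y⁆ = 1 := fun w => commutatorElement_eq_one_iff_mul_comm.2
          (Subgroup.mem_center_iff.1 (w : Z).2 y).symm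
        simp only [comm_mul_left hc, hw, mul_one, hcv] at h3
        have h5 := pow_eq_pow_iff_modEq.1 h3
        rw [hcord] at h5
        have h4 : i = j := Fin.ext (h5.eq_of_lt_of_lt i.2 j.2)
        subst h4
        exact Prod.ext rfl (Subtype.ext (Subtype.ext (mul_left_cancel h2)))
      have h := orbit_count Z ((C : Set G))ᶜ p (p * p) hp.pos (Nat.mul_pos hp.pos hp.pos) hbZ hout hb
      have hcB : (Nat.card ↥((C : Set G))ᶜ : ℚ) = (Nat.card G : ℚ) - Nat.card C := by
        rw [eq_sub_iff_add_eq']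
        exact_mod_cast Set.ncard_add_ncard_compl (C : Set G)
      have hC2 : (Nat.card C : ℚ) * p ≤ Nat.card G := by
        have h1 : p ≤ C.index := hmin _ (Subgroup.index_dvd_card _) fun h => hxZ ((hC x).1 h)
        have h2 : Nat.card C * p ≤ Nat.card G := (Nat.mul_le_mul le_rfl h1).trans (Subgroup.card_mul_index C).le
        exact_mod_cast h2
      rw [hcB, Nat.cast_mul] at h
      have h6 : (Nat.card Z : ℚ) * p ≤ (Nat.card G : ℚ) - Nat.card C := by
        refine le_of_mul_le_mul_right (a := (p : ℚ)) ?_ (by linarith)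
        have h7 : (0 : ℚ) ≤ Nat.card G := by positivity
        nlinarith [mul_le_mul_of_nonneg_left hn2' hZpos.le, mul_le_mul_of_nonneg_left hp2 h7]
      have h8 := mul_le_mul_of_nonneg_left h6 (by linarith : (0 : ℚ) ≤ p - 1)
      have h' := mul_le_mul_of_nonneg_right h (by positivity : (0 : ℚ) ≤ p * p)
      field_simp at h'
      nlinarith
  · -- few elements with small classes
    have hn3 : p * (p + 1) ≤ Z.index := by
      refine hnp.resolve_left fun h => hgen (top_le_iff.1 fun g _ => Subgroup.subset_closure ?_)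
      change _ ≤ p
      by_cases hg : g ∈ Z
      · rw [(hC g).2 hg]; exact hp.one_lt.le
      have hle : Z ≤ Subgroup.centralizer ({g} : Set G) := fun z hz =>
        Subgroup.mem_centralizer_singleton_iff.2 (Subgroup.mem_center_iff.1 hz g).symm
      obtain ⟨i, hi, hi'⟩ := (Nat.dvd_prime_pow hp).1 (h ▸ Subgroup.index_dvd_of_le hle)
      rw [hi']
      have : i ≠ 2 := fun h2 => hg <| by
        have hlt : Z.relIndex (Subgroup.centralizer ({g} : Set G)) = 1 := by
          have := Subgroup.relIndex_mul_index hle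
          rw [hi', h2, h] at this
          exact (mul_eq_right₀ (pow_ne_zero 2 hp.ne_zero)).1 this
        exact Subgroup.relIndex_eq_one.1 hlt (Subgroup.mem_centralizer_singleton_iff.2 rfl)
      calc p ^ i ≤ p ^ 1 := Nat.pow_le_pow_right hp.pos (by omega)
        _ = p := pow_one p
    have hb : ∀ g ∈ Tᶜ, p + 1 ≤ Nat.card (MulAction.orbit (MulAut G) g) := fun g hg =>
      (Nat.succ_le_of_lt (lt_of_not_ge hg)).trans (class_le_orbit g)
    have hbZ : ∀ g ∈ Tᶜ, g ∉ Z := fun g hg h => hg (le_of_eq_of_le ((hC g).2 h) hp.one_lt.le)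
    have h := orbit_count Z Tᶜ p (p + 1) hp.pos (Nat.succ_pos p) hbZ hout hb
    have hcB : (Nat.card ↥Tᶜ : ℚ) = (Nat.card G : ℚ) - Nat.card T := by
      rw [eq_sub_iff_add_eq']
      exact_mod_cast Set.ncard_add_ncard_compl T
    have hT2 : (Nat.card T : ℚ) * p ≤ Nat.card G := by
      have h1 : p ≤ (Subgroup.closure T).index := hmin _ (Subgroup.index_dvd_card _) fun h => hgen (Subgroup.index_eq_one.1 h)
      have h0 : Nat.card T ≤ Nat.card (Subgroup.closure T) := Nat.card_mono (Set.toFinite _) Subgroup.subset_closure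
      have h2 : Nat.card T * p ≤ Nat.card G := (Nat.mul_le_mul h0 h1).trans (Subgroup.card_mul_index _).le
      exact_mod_cast h2
    have hn3' : (p : ℚ) * (p + 1) ≤ Z.index := by exact_mod_cast hn3
    rw [hcB, Nat.cast_add, Nat.cast_one] at h
    have h' := mul_le_mul_of_nonneg_right h (by positivity : (0 : ℚ) ≤ p * p * (p + 1))
    field_simp at h'
    rw [hNZ] at h' hT2 ⊢
    nlinarith [mul_le_mul_of_nonneg_left hn3' hZpos.le]

end Cfsg.Agent.S4067
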