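import Cfsg.Statements.S4068
import Cfsg.Agent.Lib.Solvable.PrimeOrders
-- import your own Cfsg.Agent.* helpers here

set_option autoImplicit false
open Cfsg

namespace Cfsg.Agent.S4068

open Subgroup CfsgLib.Solvable.PrimeOrders

/-- Each element order class is a single orbit of the automorphism group. -/
theorem orders {G : Type*} [Group G] [Finite G] (hns : ¬ Group.IsSolvable G)
    (h4 : Nat.card (MulAction.orbitRel.Quotient (MulAut G) G) = 4) :
    (∀ g : G, g ≠ 1 → (orderOf g).Prime) ∧ (Nat.card G).primeFactors.card = 3 ∧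
      ∀ x y : G, orderOf x = orderOf y → ∃ φ : MulAut G, φ x = y := by
  classical
  let Q := MulAction.orbitRel.Quotient (MulAut G) G
  let f : Q → ℕ := Quotient.lift (fun g : G => orderOf g) (by
    rintro a b ⟨φ, hφ⟩
    change φ b = a at hφ
    rw [← hφ, MulEquiv.orderOf_eq])
  have := Fintype.ofFinite Q
  have hQ : Fintype.card Q = 4 := by rw [← Nat.card_eq_fintype_card]; exact h4
  have h3 := CfsgLib.FewOrders.three_le_card_primeFactors hns
  have h1 : 1 ∉ (Nat.card G).primeFactors := fun h => Nat.not_prime_one (Nat.prime_of_mem_primeFactors h)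
  have hsub : insert 1 (Nat.card G).primeFactors ⊆ Finset.univ.image f := by
    intro t ht
    rw [Finset.mem_image]
    rcases Finset.mem_insert.1 ht with rfl | ht
    · exact ⟨Quotient.mk'' (1 : G), Finset.mem_univ _, orderOf_one⟩
    · have := Fact.mk (Nat.prime_of_mem_primeFactors ht)
      obtain ⟨g, hg⟩ := exists_prime_orderOf_dvd_card' t (Nat.dvd_of_mem_primeFactors ht)
      exact ⟨Quotient.mk'' g, Finset.mem_univ _, hg⟩
  have hc := Finset.card_le_card hsub
  rw [Finset.card_insert_of_notMem h1] at hc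
  have him : (Finset.univ.image f).card ≤ 4 := hQ ▸ Finset.card_image_le
  have heq : insert 1 (Nat.card G).primeFactors = Finset.univ.image f :=
    Finset.eq_of_subset_of_card_le hsub (by rw [Finset.card_insert_of_notMem h1]; omega)
  have hinj : Set.InjOn f (Finset.univ : Finset Q) := by
    apply Finset.injOn_of_card_image_eq
    rw [Finset.card_univ, hQ]; omega
  refine ⟨fun g hg => ?_, by omega, fun x y hxy => ?_⟩
  · have : orderOf g ∈ insert 1 (Nat.card G).primeFactors := by
      rw [heq, Finset.mem_image]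
      exact ⟨Quotient.mk'' g, Finset.mem_univ _, rfl⟩
    rcases Finset.mem_insert.1 this with h | h
    · exact absurd (orderOf_eq_one_iff.1 h) hg
    · exact Nat.prime_of_mem_primeFactors h
  · obtain ⟨φ, hφ⟩ := Quotient.exact' (hinj (x₁ := Quotient.mk'' y) (x₂ := Quotient.mk'' x)
      (Finset.mem_univ _) (Finset.mem_univ _) hxy.symm)
    exact ⟨φ, hφ⟩

/-- In the odd order case the elements of a fixed prime order are at most a third of the group. -/
theorem count {G : Type*} [Group G] [Finite G] (hns : ¬ Group.IsSolvable G)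
    (hord : ∀ g : G, g ≠ 1 → (orderOf g).Prime) (h3 : (Nat.card G).primeFactors.card ≤ 3)
    (hsame : ∀ x y : G, orderOf x = orderOf y → ∃ φ : MulAut G, φ x = y)
    (hodd : ¬ 2 ∣ Nat.card G) {p : ℕ} (hp : p ∈ (Nat.card G).primeFactors) :
    ∃ m : ℕ, m * p ^ (Nat.card G).factorization p = Nat.card G ∧
      3 * Nat.card {x : G // orderOf x = p} + m ≤ Nat.card G := by
  classical
  have hpp := Nat.prime_of_mem_primeFactors hp
  have := Fact.mk hpp
  have hpd := Nat.dvd_of_mem_primeFactors hp
  have hp3 : 3 ≤ p := by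
    have h2 := hpp.two_le
    rcases eq_or_ne p 2 with h | h
    · exact absurd (h ▸ hpd) hodd
    · omega
  let P : Sylow p G := default
  have hPc : Nat.card (P : Subgroup G) = p ^ (Nat.card G).factorization p := P.card_eq_multiplicity
  have hP1 : 1 < Nat.card (P : Subgroup G) :=
    hpp.one_lt.trans_le (Nat.le_of_dvd Nat.card_pos (P.dvd_card_of_dvd_card hpd))
  have : Nontrivial (P : Subgroup G) := Finite.one_lt_card_iff_nontrivial.1 hP1
  have hPp : IsPGroup p (P : Subgroup G) := P.2
  have : Nontrivial (center (P : Subgroup G)) := hPp.center_nontrivial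
  obtain ⟨z0, hz0⟩ := exists_ne (1 : center (P : Subgroup G))
  set z : G := ((z0 : (P : Subgroup G)) : G) with hzdef
  have hz1 : z ≠ 1 := fun h => hz0 (Subtype.ext (Subtype.ext h))
  have hzo : orderOf z = p := by
    obtain ⟨k, hk⟩ := hPp (z0 : (P : Subgroup G))
    have h' := hord z hz1
    exact (Nat.prime_dvd_prime_iff_eq h' hpp).1
      (h'.dvd_of_dvd_pow (orderOf_dvd_of_pow_eq_one (congrArg Subtype.val hk)))
  have hPz : ∀ y ∈ (P : Subgroup G), Commute y z := fun y hy =>
    congrArg Subtype.val (mem_center_iff.1 z0.2 ⟨y, hy⟩)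
  set Z := (center (P : Subgroup G)).map (P : Subgroup G).subtype with hZ
  -- every element of order p is a conjugate of a nontrivial central element of P
  have hcov : ∀ x : G, orderOf x = p → ∃ (h : G) (w : G), w ∈ Z ∧ w ≠ 1 ∧ x = h * w * h⁻¹ := by
    intro x hx
    obtain ⟨φ, hφ⟩ := hsame z x (hzo.trans hx.symm)
    have hR : IsPGroup p ((P : Subgroup G).map φ.toMonoidHom) := hPp.map _
    obtain ⟨R, hR'⟩ := hR.exists_le_sylow
    have hRe : (R : Subgroup G) = (P : Subgroup G).map φ.toMonoidHom := by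
      refine (eq_of_le_of_card_ge hR' (le_of_eq ?_)).symm
      rw [R.card_eq_multiplicity, Subgroup.card_map_of_injective φ.injective, hPc]
    obtain ⟨h, rfl⟩ := MulAction.exists_smul_eq G P R
    have hxm : x ∈ (P : Subgroup G).map φ.toMonoidHom :=
      ⟨z, (z0 : (P : Subgroup G)).2, hφ⟩
    have hxc : ∀ y ∈ (P : Subgroup G).map φ.toMonoidHom, Commute y x := by
      rintro _ ⟨y, hy, rfl⟩
      rw [← hφ]
      exact (hPz y hy).map φ.toMonoidHom
    rw [← hRe, Sylow.coe_subgroup_smul, Subgroup.mem_pointwise_smul_iff_inv_smul_mem] at hxm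
    have hxm' : h⁻¹ * x * h ∈ (P : Subgroup G) := by simpa [MulAut.smul_def] using hxm
    refine ⟨h, h⁻¹ * x * h, ⟨⟨_, hxm'⟩, mem_center_iff.2 fun y => ?_, rfl⟩, ?_, by group⟩
    · apply Subtype.ext
      have : h * y * h⁻¹ ∈ (P : Subgroup G).map φ.toMonoidHom := by
        rw [← hRe, Sylow.coe_subgroup_smul, Subgroup.mem_pointwise_smul_iff_inv_smul_mem]
        simp [MulAut.smul_def, mul_assoc]
      have e := (hxc _ this).eq
      simp only [Subgroup.coe_mul]
      calc (y : G) * (h⁻¹ * x * h) = h⁻¹ * (h * y * h⁻¹ * x) * h := by group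
        _ = h⁻¹ * (x * (h * y * h⁻¹)) * h := by rw [e]
        _ = _ := by group
    · intro h0
      have : x = 1 := by
        calc x = h * (h⁻¹ * x * h) * h⁻¹ := by group
          _ = 1 := by rw [h0]; group
      rw [this, orderOf_one] at hx
      omega
  set N := normalizer ((P : Subgroup G) : Set G) with hN
  have hPN : (P : Subgroup G) ≤ N := le_normalizer
  have hZn : ∀ n ∈ N, ∀ w ∈ Z, n * w * n⁻¹ ∈ Z := by
    rintro n hn _ ⟨w, hw, rfl⟩
    have hnw : n * w * n⁻¹ ∈ (P : Subgroup G) := (mem_normalizer_iff.1 hn w).1 w.2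
    refine ⟨⟨_, hnw⟩, mem_center_iff.2 fun y => ?_, rfl⟩
    have hy : n⁻¹ * y * n ∈ (P : Subgroup G) := (mem_normalizer_iff''.1 hn y).1 y.2
    have e : (n⁻¹ * y * n) * (w : G) = w * (n⁻¹ * y * n) :=
      congrArg Subtype.val (mem_center_iff.1 hw ⟨_, hy⟩)
    apply Subtype.ext
    simp only [Subgroup.coe_mul]
    calc (y : G) * (n * w * n⁻¹) = n * ((n⁻¹ * y * n) * w) * n⁻¹ := by group
      _ = n * (w * (n⁻¹ * y * n)) * n⁻¹ := by rw [e]
      _ = _ := by group
  -- counting
  have hsurj : ∀ x : {x : G // orderOf x = p}, ∃ a : (G ⧸ N) × {w : Z // w ≠ 1},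
      (a.1.out : G) * ((a.2 : Z) : G) * (a.1.out : G)⁻¹ = x := by
    rintro ⟨x, hx⟩
    obtain ⟨h, w, hw, hw1, rfl⟩ := hcov x hx
    obtain ⟨n, hn⟩ := QuotientGroup.mk_out_eq_mul N h
    have hw' : ((n : G))⁻¹ * w * n ∈ Z := by
      have := hZn _ (inv_mem n.2) w hw
      rwa [inv_inv] at this
    refine ⟨(QuotientGroup.mk h, ⟨⟨_, hw'⟩, fun h0 => hw1 ?_⟩), ?_⟩
    · have e : ((n : G))⁻¹ * w * n = 1 := congrArg Subtype.val h0
      calc w = (n : G) * (((n : G))⁻¹ * w * n) * ((n : G))⁻¹ := by group
        _ = 1 := by rw [e]; group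
    · change (QuotientGroup.mk h : G ⧸ N).out * (((n : G))⁻¹ * w * n) *
        (QuotientGroup.mk h : G ⧸ N).out⁻¹ = h * w * h⁻¹
      rw [hn]; group
  choose a ha using hsurj
  have hcle : Nat.card {x : G // orderOf x = p} ≤ N.index * (Nat.card Z - 1) := by
    have hle := Nat.card_le_card_of_injective a (fun x y hxy => Subtype.ext
      (by rw [← ha x, ← ha y, hxy]))
    have hw : Nat.card {w : Z // w ≠ 1} = Nat.card Z - 1 := by
      have := Fintype.ofFinite Z
      rw [Nat.card_eq_fintype_card, Fintype.card_subtype_compl, Fintype.card_subtype_eq,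
        Nat.card_eq_fintype_card]
    rwa [Nat.card_prod, ← index_eq_card, hw] at hle
  set Pc := Nat.card (P : Subgroup G) with hPcdef
  set e := (P : Subgroup G).relIndex N with he
  have hG : N.index * e * Pc = Nat.card G := by
    rw [mul_comm N.index, he, relIndex_mul_index hPN, hPcdef, index_mul_card]
  have hZle : Nat.card Z ≤ Pc := card_le_of_le (map_subtype_le _)
  have hZ1 : 1 ≤ Nat.card Z := Nat.card_pos
  have key : 3 * (Nat.card Z - 1) ≤ e * (Pc - 1) := by
    have he0 : e ≠ 0 := fun h0 => by rw [h0] at hG; simp at hG; exact Nat.card_pos.ne' hG.symm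
    rcases (show e = 1 ∨ e = 2 ∨ 3 ≤ e by omega) with h1 | h2 | h3'
    · -- self-normalising: P is not abelian
      have hne : Z ≠ (P : Subgroup G) := by
        intro hZP
        have hNP : N ≤ (P : Subgroup G) := relIndex_eq_one.1 h1
        refine hns (isSolvable_of_normalizer_le_centralizer h3 hpd P fun n hn => ?_)
        rw [mem_centralizer_iff]
        intro y hy
        have hy' : y ∈ Z := hZP ▸ hy
        obtain ⟨w, hw, rfl⟩ := hy'
        exact (congrArg Subtype.val (mem_center_iff.1 hw ⟨n, hNP hn⟩)).symm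
      have hlt : Nat.card Z < Pc := lt_of_le_of_ne hZle fun h0 =>
        hne (eq_of_le_of_card_ge (map_subtype_le _) h0.ge)
      obtain ⟨k, hk⟩ := card_dvd_of_le (map_subtype_le (center (P : Subgroup G)))
      rw [← hPcdef, ← hZ] at hk
      have hk1 : k ≠ 1 := fun h0 => by rw [h0, mul_one] at hk; omega
      obtain ⟨b, hb⟩ := IsPGroup.iff_card.1 hPp
      have hkd : k ∣ p ^ b := hb ▸ hPcdef ▸ hk ▸ dvd_mul_left k _
      obtain ⟨j, -, rfl⟩ := (Nat.dvd_prime_pow hpp).1 hkd
      have hj : j ≠ 0 := fun h0 => hk1 (by rw [h0, pow_zero])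
      have : 3 ≤ p ^ j := hp3.trans (Nat.le_self_pow hj p)
      have : Nat.card Z * 3 ≤ Pc := hk ▸ Nat.mul_le_mul_left _ this
      rw [h1, one_mul]; omega
    · exact absurd ⟨N.index * Pc, by rw [← hG, h2]; ring⟩ hodd
    · exact Nat.mul_le_mul h3' (by omega)
  refine ⟨N.index * e, by rw [← hPc, hG], ?_⟩
  have h5 : 3 * Nat.card {x : G // orderOf x = p} ≤ N.index * (e * (Pc - 1)) :=
    calc 3 * Nat.card {x : G // orderOf x = p} ≤ 3 * (N.index * (Nat.card Z - 1)) :=
          Nat.mul_le_mul_left 3 hcle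
      _ = N.index * (3 * (Nat.card Z - 1)) := by ring
      _ ≤ _ := Nat.mul_le_mul_left _ key
  have h6 : N.index * (e * (Pc - 1)) + N.index * e = Nat.card G := by
    rw [← hG, ← mul_assoc, ← Nat.mul_succ]
    congr 1
    omega
  omega

/-- A finite non-solvable group on which its automorphism group has exactly four orbits is isomorphic to the alternating group of degree 5. -/
theorem result {G : Type*} [Group G] [Finite G] (hns : ¬ Group.IsSolvable G)
    (h4 : Nat.card (MulAction.orbitRel.Quotient (MulAut G) G) = 4) : Nonempty (G ≃* alternatingGroup (Fin 5)) := by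
  classical
  obtain ⟨hord, h3, hsame⟩ := orders hns h4
  refine iso_alternating_of_even hord h3.le hns ?_
  by_contra hodd
  have key := fun p (hp : p ∈ (Nat.card G).primeFactors) => count hns hord h3.le hsame hodd hp
  choose m hm hle using key
  have := Fintype.ofFinite G
  have hsum : Nat.card G = 1 + ∑ p ∈ (Nat.card G).primeFactors, Nat.card {x : G // orderOf x = p} := by
    have h1 : 1 ∉ (Nat.card G).primeFactors :=
      fun h => Nat.not_prime_one (Nat.prime_of_mem_primeFactors h)
    have hmaps : Set.MapsTo (fun g : G => orderOf g) (Finset.univ : Finset G)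
        (insert 1 (Nat.card G).primeFactors : Finset ℕ) := by
      intro g _
      rcases eq_or_ne g 1 with rfl | hg
      · simp
      · exact Finset.mem_insert_of_mem ((hord g hg).mem_primeFactors (orderOf_dvd_natCard g) Nat.card_pos.ne')
    have h := Finset.card_eq_sum_card_fiberwise hmaps
    rw [Finset.sum_insert h1, Finset.card_univ, ← Nat.card_eq_fintype_card] at h
    refine h.trans (congrArg₂ (· + ·) ?_ (Finset.sum_congr rfl fun p _ => ?_))
    · rw [Finset.card_eq_one]
      exact ⟨1, by ext g; simp [orderOf_eq_one_iff]⟩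
    · rw [Nat.card_eq_fintype_card, Fintype.card_subtype]
  have h5 : ∀ p ∈ (Nat.card G).primeFactors, 3 * Nat.card {x : G // orderOf x = p} + 2 ≤ Nat.card G := by
    intro p hp
    have h6 := hle p hp
    have h7 := hm p hp
    have : 2 ≤ m p hp := by
      by_contra hlt
      have hm0 : m p hp ≠ 0 := fun h0 => by rw [h0, zero_mul] at h7; exact Nat.card_pos.ne' h7.symm
      have hm1 : m p hp = 1 := by omega
      rw [hm1, one_mul] at h7
      have hpf := Nat.primeFactors_prime_pow ((Nat.prime_of_mem_primeFactors hp).factorization_pos_of_dvd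
        Nat.card_pos.ne' (Nat.dvd_of_mem_primeFactors hp)).ne' (Nat.prime_of_mem_primeFactors hp)
      rw [h7] at hpf
      rw [hpf, Finset.card_singleton] at h3
      omega
    omega
  have h6 := Finset.sum_le_sum h5
  rw [Finset.sum_add_distrib, ← Finset.mul_sum, Finset.sum_const, Finset.sum_const, h3] at h6
  simp only [smul_eq_mul] at h6
  omega

end Cfsg.Agent.S4068
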