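import Cfsg.Statements.S4070
import Cfsg.Agent.Lib.DlStab.Main
import Cfsg.Agent.Lib.DlStab.Odd

set_option autoImplicit false
open Cfsg
open scoped commutatorElement

namespace Cfsg.Agent.S4070

open CfsgLib.OddBase CfsgLib.DlStab in
universe u v in
/-- The action lifted to a common universe. -/
theorem lifted {G : Type u} {V : Type v} [Group G] [Finite G] [Group.IsSolvable G]
    {p : ℕ} [Fact p.Prime] [AddCommGroup V] [Module (ZMod p) V] [Finite V] [DistribMulAction G V]
    [FaithfulSMul G V]
    (hcr : ∀ W : Submodule (ZMod p) V, (∀ (g : G) (w : V), w ∈ W → g • w ∈ W) →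
      ∃ W' : Submodule (ZMod p) V, (∀ (g : G) (w : V), w ∈ W' → g • w ∈ W') ∧ IsCompl W W') :
    (∃ v : V, ser (MulAction.stabilizer G v) 9 = ⊥) ∧
    (Odd (Nat.card G) → p ≠ 2 → ∃ v : V, ser (MulAction.stabilizer G v) 1 = ⊥) := by
  let e : ULift.{u} V ≃+ V := AddEquiv.ulift
  let ρ : ULift.{v} G →* AddMonoid.End (ULift.{u} V) :=
    { toFun := fun a =>
        { toFun := fun w => ULift.up (a.down • w.down)
          map_zero' := congrArg ULift.up (smul_zero a.down)
          map_add' := fun w w' => congrArg ULift.up (smul_add a.down w.down w'.down) }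
      map_one' := AddMonoidHom.ext fun w => congrArg ULift.up (one_smul G w.down)
      map_mul' := fun a b => AddMonoidHom.ext fun w => congrArg ULift.up (mul_smul a.down b.down w.down) }
  haveI : Group.IsSolvable (ULift.{v} G) :=
    Group.isSolvable_of_surjective (f := (MulEquiv.ulift (α := G)).symm.toMonoidHom)
      (MulEquiv.ulift (α := G)).symm.surjective
  have hker : ker ρ = ⊥ := by
    rw [eq_bot_iff]
    intro a ha
    rw [mem_ker] at ha
    refine Subgroup.mem_bot.2 (ULift.down_injective (FaithfulSMul.eq_of_smul_eq_smul (α := V) fun w => ?_))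
    rw [ULift.one_down, one_smul]
    exact congrArg ULift.down (DFunLike.congr_fun ha (ULift.up w))
  have hc : CR ρ := by
    intro X hX
    let W : Submodule (ZMod p) V := AddSubgroup.toZModSubmodule p (X.map e.toAddMonoidHom)
    obtain ⟨W', hW', hcompl⟩ := hcr W fun g w hw => by
      obtain ⟨x, hx, rfl⟩ := hw
      exact ⟨ρ (ULift.up g) x, hX _ x hx, rfl⟩
    refine ⟨W'.toAddSubgroup.comap e.toAddMonoidHom, fun a w hw => hW' a.down w.down hw, ?_, ?_⟩
    · rw [eq_bot_iff]
      rintro x ⟨hx, hx'⟩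
      have : e x ∈ W ⊓ W' := ⟨⟨x, hx, rfl⟩, hx'⟩
      rw [hcompl.inf_eq_bot, Submodule.mem_bot] at this
      exact AddSubgroup.mem_bot.2 (e.injective (this.trans (map_zero e).symm))
    · rw [eq_top_iff]
      intro x _
      have : e x ∈ W ⊔ W' := by rw [hcompl.sup_eq_top]; trivial
      obtain ⟨w, ⟨y, hy, rfl⟩, w', hw', heq⟩ := Submodule.mem_sup.1 this
      refine AddSubgroup.mem_sup.2 ⟨y, hy, e.symm w', ?_, ?_⟩
      · show e (e.symm w') ∈ W'
        rw [e.apply_symm_apply]; exact hw'
      · apply e.injective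
        rw [map_add, e.apply_symm_apply]
        exact heq
  have back : ∀ (n : ℕ) (x : ULift.{u} V), Good ρ n x →
      ser (MulAction.stabilizer G x.down) n = ⊥ := by
    intro n x hx
    let f : G →* ULift.{v} G := MulEquiv.ulift.symm.toMonoidHom
    rw [← Subgroup.map_eq_bot_iff_of_injective (f := f) _ MulEquiv.ulift.symm.injective, map_ser,
      eq_bot_iff, ← hker]
    refine (ser_mono ?_ n).trans hx
    rintro _ ⟨g, hg, rfl⟩
    exact congrArg ULift.up hg
  refine ⟨?_, fun hG hp => ?_⟩
  · obtain ⟨x, hx⟩ := exists_good_nine ρ hc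
    exact ⟨x.down, back 9 x hx⟩
  · have hV : Odd (Nat.card (ULift.{u} V)) := by
      haveI : Module.Finite (ZMod p) V := Module.Finite.of_finite
      rw [Nat.card_congr Equiv.ulift, Module.natCard_eq_pow_finrank (K := ZMod p), Nat.card_zmod]
      exact ((Fact.out : p.Prime).odd_of_ne_two hp).pow
    obtain ⟨x, hx⟩ := exists_good_one (A := ULift.{v} G)
      (by rw [Nat.card_congr Equiv.ulift]; exact hG) ρ hV hc
    exact ⟨x.down, back 1 x hx⟩

/-- Let G be a finite solvable group acting faithfully by additive automorphisms on a finite vector space V over the field with p elements, completely reducibly (every G-invariant subspace has a G-invariant complement). Then some vector v ∈ V has stabilizer C_G(v) of derived length at most 9; and if both #G and p are odd, some vector has abelian stabilizer. -/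
theorem result {G V : Type*} [Group G] [Finite G] [Group.IsSolvable G]
    {p : ℕ} [Fact p.Prime] [AddCommGroup V] [Module (ZMod p) V] [Finite V] [DistribMulAction G V] [FaithfulSMul G V]
    (hcr : ∀ W : Submodule (ZMod p) V, (∀ (g : G) (w : V), w ∈ W → g • w ∈ W) →
      ∃ W' : Submodule (ZMod p) V, (∀ (g : G) (w : V), w ∈ W' → g • w ∈ W') ∧ IsCompl W W') :
    (∃ v : V, derivedSeries ↥(MulAction.stabilizer G v) 9 = ⊥) ∧
    (Odd (Nat.card G) → p ≠ 2 → ∃ v : V, IsMulCommutative ↥(MulAction.stabilizer G v)) := by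
  obtain ⟨⟨v, hv⟩, hodd⟩ := lifted hcr
  refine ⟨⟨v, (CfsgLib.DlStab.derivedSeries_eq_bot_iff _ 9).2 hv⟩, fun h1 h2 => ?_⟩
  obtain ⟨w, hw⟩ := hodd h1 h2
  refine ⟨w, ⟨⟨fun a b => Subtype.ext ?_⟩⟩⟩
  have hc : ⁅(a : G), (b : G)⁆ ∈ CfsgLib.DlStab.ser (MulAction.stabilizer G w) 1 :=
    Subgroup.commutator_mem_commutator a.2 b.2
  rw [hw, Subgroup.mem_bot, commutatorElement_eq_one_iff_mul_comm] at hc
  exact hc

end Cfsg.Agent.S4070
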