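import Cfsg.Statements.S4071
import Cfsg.Agent.Lib.Coprime.Action

set_option autoImplicit false
open Cfsg
open scoped commutatorElement Pointwise

namespace Cfsg.Agent.S4071

lemma mem_normalizer_of_forall {G : Type*} [Group G] [Finite G] {H : Subgroup G} (g : G)
    (h : ∀ y ∈ H, g * y * g⁻¹ ∈ H) : g ∈ Subgroup.normalizer (H : Set G) :=
  CfsgLib.Coprime.mem_normalizer_of_forall_conj h

lemma fpf_structure_imp {G : Type*} [Group G] [Finite G] {x : G} {A : Subgroup G} {p k : ℕ} (hp : p.Prime)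
    [A.Normal] (hA : IsMulCommutative A) (hxk : orderOf x = p ^ k)
    (hc : (Subgroup.zpowers x).IsComplement' A) (hxp : x ^ p ∈ Subgroup.center G)
    (hfpf : ∀ a : G, a ∈ A → a ≠ 1 → x * a * x⁻¹ ≠ a) (H : Subgroup G) (hH : ¬ IsMulCommutative H) :
    Subgroup.normalizer (H : Set G) = H := by
  have hAc : ∀ a ∈ A, ∀ b ∈ A, a * b = b * a := fun a ha b hb => setLike_mul_comm (s := A) ha hb
  -- the displacement map is bijective
  let δ : A → A := fun a => ⟨(a : G) * (x * (a : G)⁻¹ * x⁻¹),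
    A.mul_mem a.2 (‹A.Normal›.conj_mem _ (A.inv_mem a.2) x)⟩
  have hinj : ∀ a b : A, δ a = δ b → a = b := by
    intro a b hab
    have h1 : (a : G) * (x * (a : G)⁻¹ * x⁻¹) = (b : G) * (x * (b : G)⁻¹ * x⁻¹) := congrArg Subtype.val hab
    by_contra hne
    refine hfpf ((b : G)⁻¹ * a) (A.mul_mem (A.inv_mem b.2) a.2)
      (fun h => hne (Subtype.ext (inv_mul_eq_one.1 h).symm)) ?_
    have hcomm := hAc _ (A.inv_mem b.2) _ (‹A.Normal›.conj_mem _ a.2 x)
    have h2 : x * (b : G)⁻¹ * x⁻¹ = (b : G)⁻¹ * a * (x * (a : G)⁻¹ * x⁻¹) := by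
      rw [mul_assoc (b : G)⁻¹, h1, inv_mul_cancel_left]
    calc x * ((b : G)⁻¹ * a) * x⁻¹ = (x * (b : G)⁻¹ * x⁻¹) * (x * (a : G) * x⁻¹) := by group
      _ = _ := by rw [h2]; group
  -- `x` is in a conjugate of `H`
  have hdec : ∀ g : G, ∃ (j : ℕ) (a : G), a ∈ A ∧ g = a * x ^ j := by
    intro g
    obtain ⟨⟨⟨a, ha⟩, ⟨u, hu⟩⟩, hau⟩ := (hc.symm.existsUnique g).exists
    rw [SetLike.mem_coe, ← mem_powers_iff_mem_zpowers, Submonoid.mem_powers_iff] at hu
    obtain ⟨j, rfl⟩ := hu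
    exact ⟨j, a, ha, hau.symm⟩
  obtain ⟨j, a, ha, hmem, hpj⟩ : ∃ (j : ℕ) (a : G), a ∈ A ∧ a * x ^ j ∈ H ∧ ¬ p ∣ j := by
    by_contra hno
    push Not at hno
    apply hH
    refine .of_setLike_mul_comm fun g hg h hh => ?_
    obtain ⟨j, a, ha, rfl⟩ := hdec g
    obtain ⟨i, b, hb, rfl⟩ := hdec h
    obtain ⟨j', rfl⟩ := hno j a ha hg
    obtain ⟨i', rfl⟩ := hno i b hb hh
    rw [pow_mul, pow_mul]
    have hz := fun (n : ℕ) (y : G) => Subgroup.mem_center_iff.1 (Subgroup.pow_mem _ hxp n) y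
    calc a * (x ^ p) ^ j' * (b * (x ^ p) ^ i') = a * ((x ^ p) ^ j' * b) * (x ^ p) ^ i' := by simp only [mul_assoc]
      _ = a * b * ((x ^ p) ^ j' * (x ^ p) ^ i') := by rw [← hz]; simp only [mul_assoc]
      _ = b * a * ((x ^ p) ^ i' * (x ^ p) ^ j') := by rw [hAc a ha b hb, ← pow_add, ← pow_add, add_comm]
      _ = b * (a * (x ^ p) ^ i') * (x ^ p) ^ j' := by simp only [mul_assoc]
      _ = _ := by rw [hz i' a]; simp only [mul_assoc]
  obtain ⟨c, hc'⟩ : ∃ c ∈ A, c * x * c⁻¹ ∈ H := by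
    obtain ⟨m, hm⟩ := exists_pow_eq_self_of_coprime (x := x)
      (n := j) (by rw [hxk]; exact ((hp.coprime_iff_not_dvd.2 hpj).pow_left k).symm)
    obtain ⟨i, b, hb, hib⟩ := hdec ((a * x ^ j) ^ m)
    have hpw : ∀ n : ℕ, ∃ b ∈ A, (a * x ^ j) ^ n = b * (x ^ j) ^ n := by
      intro n
      induction n with
      | zero => exact ⟨1, A.one_mem, by simp⟩
      | succ n ih =>
        obtain ⟨b, hb, hbn⟩ := ih
        refine ⟨b * ((x ^ j) ^ n * a * ((x ^ j) ^ n)⁻¹), A.mul_mem hb (‹A.Normal›.conj_mem _ ha _), ?_⟩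
        rw [pow_succ, hbn, pow_succ]
        group
    obtain ⟨b, hb, hbm⟩ := hpw m
    rw [hm] at hbm
    obtain ⟨⟨c, hc1⟩, hc2⟩ := (Finite.injective_iff_surjective.1 hinj) ⟨b, hb⟩
    refine ⟨c, hc1, ?_⟩
    have h1 : c * (x * c⁻¹ * x⁻¹) = b := congrArg Subtype.val hc2
    have h2 : b * x = c * x * c⁻¹ := by rw [← h1]; group
    rw [← h2, ← hbm]
    exact H.pow_mem hmem m
  obtain ⟨hcA, hcH⟩ := hc'
  refine le_antisymm (fun g hg => ?_) Subgroup.le_normalizer
  set y := c * x * c⁻¹ with hy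
  obtain ⟨i, b, hb, rfl⟩ := hdec g
  -- write `g` as an element of `A` times a power of `y`
  obtain ⟨b', hb', hg'⟩ : ∃ b' ∈ A, b * x ^ i = b' * y ^ i := by
    refine ⟨b * (x ^ i * c * (x ^ i)⁻¹) * c⁻¹, A.mul_mem (A.mul_mem hb (‹A.Normal›.conj_mem _ hcA _))
      (A.inv_mem hcA), ?_⟩
    rw [hy, conj_pow]
    group
  rw [hg'] at hg ⊢
  refine H.mul_mem ?_ (H.pow_mem hcH i)
  have hbN : b' ∈ Subgroup.normalizer (H : Set G) := by
    have := Subgroup.mul_mem _ hg (Subgroup.le_normalizer (H.inv_mem (H.pow_mem hcH i)))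
    rwa [mul_inv_cancel_right] at this
  have hd : (δ ⟨b', hb'⟩ : G) ∈ H := by
    have hxy : ∀ a ∈ A, y * a * y⁻¹ = x * a * x⁻¹ := by
      intro a ha
      rw [hy]
      have := hAc c hcA _ (‹A.Normal›.conj_mem _ (‹A.Normal›.conj_mem _ ha (c⁻¹)) x)
      calc c * x * c⁻¹ * a * (c * x * c⁻¹)⁻¹ = c * (x * (c⁻¹ * a * (c⁻¹)⁻¹) * x⁻¹) * c⁻¹ := by group
        _ = x * (c⁻¹ * a * (c⁻¹)⁻¹) * x⁻¹ := by rw [this, mul_inv_cancel_right]
        _ = _ := by rw [hAc c⁻¹ (A.inv_mem hcA) a ha, mul_inv_cancel_right]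
    change b' * (x * b'⁻¹ * x⁻¹) ∈ H
    rw [← hxy _ (A.inv_mem hb')]
    have h1 := ((Subgroup.mem_normalizer_iff.1 hbN) y).1 hcH
    have h2 := H.mul_mem h1 (H.inv_mem hcH)
    rwa [show b' * y * b'⁻¹ * y⁻¹ = b' * (y * b'⁻¹ * y⁻¹) by group] at h2
  -- `δ` restricts to a permutation of `H ⊓ A`
  let δ' : {a : A // (a : G) ∈ H} → {a : A // (a : G) ∈ H} := fun a => ⟨δ a.1, by
    change (a.1 : G) * (x * (a.1 : G)⁻¹ * x⁻¹) ∈ H
    have hxy : y * (a.1 : G)⁻¹ * y⁻¹ = x * (a.1 : G)⁻¹ * x⁻¹ := by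
      rw [hy]
      have ha' := A.inv_mem a.1.2
      have := hAc c hcA _ (‹A.Normal›.conj_mem _ (‹A.Normal›.conj_mem _ ha' (c⁻¹)) x)
      calc c * x * c⁻¹ * (a.1 : G)⁻¹ * (c * x * c⁻¹)⁻¹
          = c * (x * (c⁻¹ * (a.1 : G)⁻¹ * (c⁻¹)⁻¹) * x⁻¹) * c⁻¹ := by group
        _ = x * (c⁻¹ * (a.1 : G)⁻¹ * (c⁻¹)⁻¹) * x⁻¹ := by rw [this, mul_inv_cancel_right]
        _ = _ := by rw [hAc c⁻¹ (A.inv_mem hcA) _ ha', mul_inv_cancel_right]
    rw [← hxy]
    exact H.mul_mem a.2 (H.mul_mem (H.mul_mem hcH (H.inv_mem a.2)) (H.inv_mem hcH))⟩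
  have hinj' : Function.Injective δ' := fun a b h => Subtype.ext (hinj _ _ (congrArg Subtype.val h))
  obtain ⟨⟨a', ha'⟩, hh⟩ := (Finite.injective_iff_surjective.1 hinj') ⟨δ ⟨b', hb'⟩, hd⟩
  have := hinj _ _ (congrArg Subtype.val hh)
  subst this
  exact ha'

/-- A proper subgroup cannot generate a nilpotent group with the derived subgroup. -/
lemma eq_top_of_sup_commutator {G : Type*} [Group G] [Finite G] [Group.IsNilpotent G] (K : Subgroup G)
    (h : K ⊔ commutator G = ⊤) : K = ⊤ := by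
  by_contra hne
  obtain ⟨M, hM, hKM⟩ := (eq_top_or_exists_le_coatom K).resolve_left hne
  haveI : M.Normal := Subgroup.NormalizerCondition.normal_of_coatom M Group.normalizerCondition_of_isNilpotent hM
  haveI : IsCyclic (G ⧸ M) := by
    obtain ⟨g, hg⟩ : ∃ g, g ∉ M := by
      by_contra hall
      push Not at hall
      exact hM.1 (eq_top_iff.2 fun g _ => hall g)
    refine ⟨(g : G ⧸ M), fun y => ?_⟩
    obtain ⟨y, rfl⟩ := QuotientGroup.mk'_surjective M y
    have h2 : (Subgroup.zpowers (g : G ⧸ M)).comap (QuotientGroup.mk' M) = ⊤ := by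
      refine hM.2 _ (lt_of_le_of_ne (fun m hm => ?_) fun he => hg (he ▸ Subgroup.mem_zpowers _))
      rw [Subgroup.mem_comap, QuotientGroup.mk'_apply, (QuotientGroup.eq_one_iff m).2 hm]
      exact one_mem _
    exact (h2 ▸ Subgroup.mem_top y : y ∈ (Subgroup.zpowers (g : G ⧸ M)).comap (QuotientGroup.mk' M))
  have hc : commutator G ≤ M := by
    rw [commutator_def, Subgroup.commutator_le]
    intro a _ b _
    rw [← QuotientGroup.eq_one_iff, ← QuotientGroup.mk'_apply, map_commutatorElement,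
      commutatorElement_eq_one_iff_mul_comm]
    exact IsCyclic.commGroup.mul_comm _ _
  exact hM.1 (top_le_iff.1 (h ▸ sup_le hKM hc))

/-- Let G be a finite solvable non-nilpotent group. Every non-abelian subgroup of G is self-normalizing if and only if G is a semidirect product ⟨x⟩ ⋉ A in which ⟨x⟩ is a p-group for some prime p, A is a normal abelian subgroup of order prime to p, x^p is central in G, and x acts fixed-point-freely on A (no non-identity element of A commutes with x). -/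
theorem result {G : Type*} [Group G] [Finite G]
    [Group.IsSolvable G] (hnn : ¬ Group.IsNilpotent G) :
    (∀ H : Subgroup G, ¬ IsMulCommutative H → Subgroup.normalizer (H : Set G) = H) ↔
    ∃ (x : G) (A : Subgroup G) (p : ℕ), p.Prime ∧ A.Normal ∧ IsMulCommutative A ∧ (∃ k : ℕ, orderOf x = p ^ k) ∧
      ¬ p ∣ Nat.card A ∧ (Subgroup.zpowers x).IsComplement' A ∧ x ^ p ∈ Subgroup.center G ∧
      ∀ a : G, a ∈ A → a ≠ 1 → x * a * x⁻¹ ≠ a := by
  classical
  constructor
  swap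
  · rintro ⟨x, A, p, hp, hAn, hA, ⟨k, hk⟩, -, hc, hxp, hfpf⟩ H hH
    exact fpf_structure_imp hp hA hk hc hxp hfpf H hH
  intro hall
  have hnab : ∀ N : Subgroup G, N.Normal → N ≠ ⊤ → IsMulCommutative N := fun N hN hne => by
    by_contra h
    exact hne ((hall N h).symm.trans (Subgroup.normalizer_eq_top_iff.2 hN))
  haveI : Nontrivial G := by
    by_contra h
    rw [not_nontrivial_iff_subsingleton] at h
    exact hnn inferInstance
  have hGne : commutator G ≠ ⊤ := ne_of_lt (Group.IsSolvable.commutator_lt_top_of_nontrivial G)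
  obtain ⟨M, hM, hGM⟩ := (eq_top_or_exists_le_coatom (commutator G)).resolve_left hGne
  have hnorm : ∀ N : Subgroup G, commutator G ≤ N → N.Normal := fun N hN => ⟨fun n hn g => by
    have h1 : ⁅g, n⁆ ∈ N := hN (Subgroup.commutator_mem_commutator (Subgroup.mem_top g) (Subgroup.mem_top n))
    rw [show g * n * g⁻¹ = ⁅g, n⁆ * n by simp [commutatorElement_def]]
    exact N.mul_mem h1 hn⟩
  haveI hMn := hnorm M hGM
  have hMc := hnab M hMn hM.1
  have huniq : ∀ N : Subgroup G, IsCoatom N → commutator G ≤ N → N = M := by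
    intro N hN hGN
    by_contra hne
    apply hnn
    have hNc := hnab N (hnorm N hGN) hN.1
    have htop : N ⊔ M = ⊤ := hN.2 _ (lt_of_le_of_ne le_sup_left fun he => hne
      (((hN.le_iff.1 (le_refl N)).elim (fun h => absurd h hN.1) id).trans
        ((hM.le_iff.1 (he ▸ le_sup_right)).resolve_left hN.1)))
    rw [Subgroup.nilpotent_iff_lowerCentralSeries]
    refine ⟨2, ?_⟩
    simp only [Subgroup.lowerCentralSeries_succ, Subgroup.lowerCentralSeries_zero]
    rw [← commutator_def, eq_bot_iff, Subgroup.commutator_le]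
    intro a ha b _
    have hle : N ⊔ M ≤ Subgroup.centralizer ({a} : Set G) := sup_le
      (fun n hn => Subgroup.mem_centralizer_singleton_iff.2 (setLike_mul_comm (s := N) hn (hGN ha)))
      (fun n hn => Subgroup.mem_centralizer_singleton_iff.2 (setLike_mul_comm (s := M) hn (hGM ha)))
    rw [htop] at hle
    rw [Subgroup.mem_bot, commutatorElement_eq_one_iff_mul_comm]
    exact (Subgroup.mem_centralizer_singleton_iff.1 (hle (Subgroup.mem_top b))).symm
  -- the index of `M` is a prime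
  have hi1 : M.index ≠ 1 := fun h => hM.1 (Subgroup.index_eq_one.1 h)
  obtain ⟨p, hp, hpd⟩ := Nat.exists_prime_and_dvd hi1
  haveI := Fact.mk hp
  rw [Subgroup.index_eq_card] at hpd
  obtain ⟨gb, hgb⟩ := exists_prime_orderOf_dvd_card' p hpd
  have hpow : ∀ g : G, g ^ p ∈ M := by
    have htop : (Subgroup.zpowers gb).comap (QuotientGroup.mk' M) = ⊤ := by
      refine hM.2 _ (lt_of_le_of_ne (fun m hm => ?_) fun he => ?_)
      · rw [Subgroup.mem_comap, QuotientGroup.mk'_apply, (QuotientGroup.eq_one_iff m).2 hm]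
        exact one_mem _
      · obtain ⟨g, rfl⟩ := QuotientGroup.mk'_surjective M gb
        have : g ∈ M := he ▸ Subgroup.mem_zpowers (QuotientGroup.mk' M g)
        rw [QuotientGroup.mk'_apply, (QuotientGroup.eq_one_iff g).2 this, orderOf_one] at hgb
        exact hp.ne_one hgb.symm
    intro g
    rw [← QuotientGroup.eq_one_iff, QuotientGroup.mk_pow]
    have h1 : (g : G ⧸ M) ∈ Subgroup.zpowers gb :=
      (htop ▸ Subgroup.mem_top g : g ∈ (Subgroup.zpowers gb).comap (QuotientGroup.mk' M))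
    exact orderOf_dvd_iff_pow_eq_one.1 (hgb ▸ orderOf_dvd_of_mem_zpowers h1)
  -- a `p`-element outside `M`
  obtain ⟨g0, hg0⟩ : ∃ g, g ∉ M := by
    by_contra h
    push Not at h
    exact hM.1 (eq_top_iff.2 fun g _ => h g)
  obtain ⟨e, m, hm, hgm⟩ := Nat.exists_eq_pow_mul_and_not_dvd (orderOf_pos g0).ne' p hp.ne_one
  set x := g0 ^ m with hxdef
  have hxk : ∃ k, orderOf x = p ^ k := by
    refine ⟨e, ?_⟩
    rw [hxdef, orderOf_pow, hgm, Nat.gcd_eq_right (dvd_mul_left m _), Nat.mul_div_cancel _ (Nat.pos_of_ne_zero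
      fun h => hm (by rw [h]; exact dvd_zero p))]
  have hxM : x ∉ M := fun h => hg0 <| by
    have hcop : Nat.gcd p m = 1 := hp.coprime_iff_not_dvd.2 hm
    have := Nat.gcd_eq_gcd_ab p m
    rw [hcop] at this
    rw [← zpow_one g0, show (1 : ℤ) = _ from this, zpow_add, zpow_mul, zpow_mul, zpow_natCast, zpow_natCast]
    exact M.mul_mem (M.zpow_mem (hpow g0) _) (M.zpow_mem h _)
  have hgen : Subgroup.zpowers x ⊔ commutator G = ⊤ := by
    by_contra hne
    obtain ⟨N, hN, hle⟩ := (eq_top_or_exists_le_coatom _).resolve_left hne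
    rw [huniq N hN (le_sup_right.trans hle)] at hle
    exact hxM (hle (Subgroup.mem_sup_left (Subgroup.mem_zpowers x)))
  have hxp : x ^ p ∈ Subgroup.center G := by
    refine Subgroup.mem_center_iff.2 fun y => ?_
    have hle : Subgroup.centralizer ({x ^ p} : Set G) = ⊤ := by
      refine hM.2 _ (lt_of_le_of_ne (fun n hn => Subgroup.mem_centralizer_singleton_iff.2
        (setLike_mul_comm (s := M) hn (hpow x))) fun he => hxM ?_)
      rw [he]
      exact Subgroup.mem_centralizer_singleton_iff.2 (Commute.self_pow x p).eq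
    exact Subgroup.mem_centralizer_singleton_iff.1 (hle ▸ Subgroup.mem_top y)
  -- the Hall subgroup
  obtain ⟨f, r, hr, hMr⟩ := Nat.exists_eq_pow_mul_and_not_dvd (Nat.card_pos (α := M)).ne' p hp.ne_one
  let A : Subgroup G :=
    { carrier := {a | a ∈ M ∧ a ^ r = 1}
      one_mem' := ⟨M.one_mem, one_pow r⟩
      mul_mem' := fun {a b} ha hb => ⟨M.mul_mem ha.1 hb.1, by
        rw [(show Commute a b from setLike_mul_comm (s := M) ha.1 hb.1).mul_pow, ha.2, hb.2, one_mul]⟩
      inv_mem' := fun {a} ha => ⟨M.inv_mem ha.1, by rw [inv_pow, ha.2, inv_one]⟩ }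
  haveI hAn : A.Normal := ⟨fun a ha g => ⟨hMn.conj_mem _ ha.1 g, by rw [conj_pow, ha.2]; simp⟩⟩
  have hAc : IsMulCommutative A := .of_setLike_mul_comm fun a ha b hb => setLike_mul_comm (s := M) ha.1 hb.1
  have hpA : ¬ p ∣ Nat.card A := fun hd => by
    obtain ⟨a, ha⟩ := exists_prime_orderOf_dvd_card' p hd
    refine hr ?_
    rw [← ha, ← Subgroup.orderOf_coe]
    exact orderOf_dvd_of_pow_eq_one a.2.2
  have hA1 : ∀ y, y ∈ A → (∃ k, orderOf y = p ^ k) → y = 1 := by
    rintro y hy ⟨k, hk⟩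
    have h1 : orderOf y ∣ Nat.card A := by
      have := orderOf_dvd_natCard (⟨y, hy⟩ : A)
      rwa [Subgroup.orderOf_mk] at this
    rcases Nat.eq_zero_or_pos k with rfl | hk0
    · exact orderOf_eq_one_iff.1 (by simpa using hk)
    · exact absurd ((dvd_pow_self p hk0.ne').trans (hk ▸ h1)) hpA
  obtain ⟨k, hk⟩ := hxk
  have hdisj : Subgroup.zpowers x ⊓ A = ⊥ := by
    rw [eq_bot_iff]
    rintro y ⟨hy, hyA⟩
    have h1 : orderOf y ∣ p ^ k := hk ▸ orderOf_dvd_of_mem_zpowers hy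
    obtain ⟨i, -, hi⟩ := (Nat.dvd_prime_pow hp).1 h1
    exact Subgroup.mem_bot.2 (hA1 y hyA ⟨i, hi⟩)
  have hAtop : Subgroup.zpowers x ⊔ A = ⊤ := by
    haveI : Group.IsNilpotent (G ⧸ A) := IsPGroup.isNilpotent (p := p) fun y => by
      obtain ⟨g, rfl⟩ := QuotientGroup.mk'_surjective A y
      refine ⟨f + 1, ?_⟩
      rw [← map_pow, QuotientGroup.mk'_apply, QuotientGroup.eq_one_iff, pow_succ', pow_mul]
      refine ⟨M.pow_mem (hpow g) _, ?_⟩
      rw [← pow_mul (g ^ p), ← hMr]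
      have := pow_card_eq_one' (x := (⟨g ^ p, hpow g⟩ : M))
      exact congrArg Subtype.val this
    have h1 : (Subgroup.zpowers x).map (QuotientGroup.mk' A) = ⊤ := by
      apply eq_top_of_sup_commutator
      have h2 : (commutator G).map (QuotientGroup.mk' A) = commutator (G ⧸ A) := by
        rw [commutator_def, Subgroup.map_commutator, commutator_def,
          Subgroup.map_top_of_surjective _ (QuotientGroup.mk'_surjective A)]
      rw [← h2, ← Subgroup.map_sup, hgen, Subgroup.map_top_of_surjective _ (QuotientGroup.mk'_surjective A)]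
    have h3 := congrArg (Subgroup.comap (QuotientGroup.mk' A)) h1
    rwa [Subgroup.comap_map_eq, QuotientGroup.ker_mk', Subgroup.comap_top] at h3
  refine ⟨x, A, p, hp, hAn, hAc, ⟨k, hk⟩, hpA,
    Subgroup.isComplement'_of_disjoint_and_mul_eq_univ (disjoint_iff.2 hdisj)
      (by rw [← Subgroup.mul_normal, hAtop]; rfl), hxp, ?_⟩
  -- fixed-point-free
  intro c hc hc1 hxc
  let R : Subgroup G :=
    { carrier := {y | ∃ a ∈ A, y = x * a * x⁻¹ * a⁻¹}
      one_mem' := ⟨1, A.one_mem, by simp⟩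
      mul_mem' := by
        rintro y y' ⟨a, ha, rfl⟩ ⟨b, hb, rfl⟩
        refine ⟨a * b, A.mul_mem ha hb, ?_⟩
        have h1 := setLike_mul_comm (s := A) (A.inv_mem ha)
          (A.mul_mem (hAn.conj_mem _ hb x) (A.inv_mem hb))
        calc x * a * x⁻¹ * a⁻¹ * (x * b * x⁻¹ * b⁻¹) = x * a * x⁻¹ * (a⁻¹ * (x * b * x⁻¹ * b⁻¹)) := by group
          _ = _ := by rw [h1]; group
      inv_mem' := by
        rintro y ⟨a, ha, rfl⟩
        refine ⟨a⁻¹, A.inv_mem ha, ?_⟩
        have h1 := setLike_mul_comm (s := A) ha (A.inv_mem (hAn.conj_mem _ ha x))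
        rw [show (x * a * x⁻¹ * a⁻¹)⁻¹ = a * (x * a * x⁻¹)⁻¹ by group, h1]
        group }
  have hRA : R ≤ A := by
    rintro _ ⟨a, ha, rfl⟩
    exact A.mul_mem (hAn.conj_mem _ ha x) (A.inv_mem ha)
  have hRC : ∀ y ∈ R, x * y * x⁻¹ = y → y = 1 := by
    rintro y ⟨a, ha, rfl⟩ hy
    obtain ⟨u, hu⟩ : ∃ u, u = x * a * x⁻¹ * a⁻¹ := ⟨_, rfl⟩
    rw [← hu] at hy ⊢
    have hpw : ∀ n : ℕ, x ^ n * a * (x ^ n)⁻¹ = u ^ n * a := by
      intro n
      induction n with
      | zero => simp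
      | succ n ih =>
        have h1 : x ^ (n + 1) * a * (x ^ (n + 1))⁻¹ = (x * u * x⁻¹) ^ n * (x * a * x⁻¹) := by
          calc x ^ (n + 1) * a * (x ^ (n + 1))⁻¹ = x * (x ^ n * a * (x ^ n)⁻¹) * x⁻¹ := by
                rw [pow_succ']; group
            _ = _ := by rw [ih, conj_pow]; group
        rw [h1, hy, pow_succ, mul_assoc (u ^ n)]
        congr 1
        rw [hu]
        group
    have h1 := hpw (p ^ k)
    rw [← hk, pow_orderOf_eq_one, hk] at h1
    simp only [one_mul, inv_one, mul_one] at h1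
    have h2 : u ^ (p ^ k) = 1 := mul_eq_right.1 h1.symm
    exact hA1 u (hRA ⟨a, ha, hu⟩) ((Nat.dvd_prime_pow hp).1 (orderOf_dvd_of_pow_eq_one h2) |>.imp fun i hi => hi.2)
  have hxR : Subgroup.zpowers x ≤ Subgroup.normalizer (R : Set G) := by
    rw [Subgroup.zpowers_le]
    refine mem_normalizer_of_forall x fun y hy => ?_
    obtain ⟨a, ha, rfl⟩ := hy
    exact ⟨x * a * x⁻¹, hAn.conj_mem _ ha x, by group⟩
  set H := R ⊔ Subgroup.zpowers x with hH
  have hHA : ∀ y ∈ H, y ∈ A → y ∈ R := by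
    intro y hy hyA
    have : y ∈ ((R : Set G) * (Subgroup.zpowers x : Set G)) := by
      rw [← Subgroup.coe_mul_of_right_le_normalizer_left _ _ hxR]; exact hy
    obtain ⟨r', hr', t, ht, rfl⟩ := Set.mem_mul.1 this
    have : t ∈ Subgroup.zpowers x ⊓ A := ⟨ht, (A.mul_mem_cancel_left (hRA hr')).1 hyA⟩
    rw [hdisj, Subgroup.mem_bot] at this
    subst this
    simpa using hr'
  have hHna : ¬ IsMulCommutative H := by
    intro hHc
    apply hnn
    have hR1 : ∀ y ∈ R, y = 1 := fun y hy => hRC y hy (by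
      rw [setLike_mul_comm (s := H) (Subgroup.mem_sup_right (Subgroup.mem_zpowers x)) (Subgroup.mem_sup_left hy),
        mul_inv_cancel_right])
    have hxA : ∀ a ∈ A, x * a = a * x := fun a ha => by
      have h1 := hR1 _ ⟨a, ha, rfl⟩
      rwa [mul_inv_eq_one, mul_inv_eq_iff_eq_mul] at h1
    have htop : ∀ a ∈ A, ∀ g : G, g * a = a * g := fun a ha g => by
      have hle : Subgroup.zpowers x ⊔ A ≤ Subgroup.centralizer ({a} : Set G) := sup_le
        (Subgroup.zpowers_le.2 (Subgroup.mem_centralizer_singleton_iff.2 (hxA a ha)))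
        (fun b hb => Subgroup.mem_centralizer_singleton_iff.2 (setLike_mul_comm (s := A) hb ha))
      rw [hAtop] at hle
      exact Subgroup.mem_centralizer_singleton_iff.1 (hle (Subgroup.mem_top g))
    haveI : IsCyclic (G ⧸ A) := ⟨(x : G ⧸ A), fun y => by
      obtain ⟨g, rfl⟩ := QuotientGroup.mk'_surjective A y
      have : g ∈ Subgroup.zpowers x ⊔ A := hAtop ▸ Subgroup.mem_top g
      have h1 : (Subgroup.zpowers x ⊔ A).map (QuotientGroup.mk' A) ≤ Subgroup.zpowers (x : G ⧸ A) := by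
        rw [Subgroup.map_sup, MonoidHom.map_zpowers, QuotientGroup.map_mk'_self, sup_bot_eq]
        exact le_rfl
      exact h1 ⟨g, this, rfl⟩⟩
    have hcomm := commutative_of_cyclic_center_quotient (QuotientGroup.mk' A)
      (by rw [QuotientGroup.ker_mk']; exact fun a ha => Subgroup.mem_center_iff.2 (htop a ha))
    rw [Subgroup.nilpotent_iff_lowerCentralSeries]
    refine ⟨1, ?_⟩
    simp only [Subgroup.lowerCentralSeries_succ, Subgroup.lowerCentralSeries_zero]
    rw [eq_bot_iff, Subgroup.commutator_le]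
    intro a _ b _
    rw [Subgroup.mem_bot, commutatorElement_eq_one_iff_mul_comm]
    exact hcomm a b
  have hcN : c ∈ Subgroup.normalizer (H : Set G) := by
    refine mem_normalizer_of_forall c fun y hy => ?_
    have hle : H ≤ Subgroup.centralizer ({c} : Set G) := sup_le
      (fun r' hr' => Subgroup.mem_centralizer_singleton_iff.2 (setLike_mul_comm (s := A) (hRA hr') hc))
      (Subgroup.zpowers_le.2 (Subgroup.mem_centralizer_singleton_iff.2 (mul_inv_eq_iff_eq_mul.1 hxc)))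
    rw [← Subgroup.mem_centralizer_singleton_iff.1 (hle hy), mul_inv_cancel_right]
    exact hy
  rw [hall H hHna] at hcN
  exact hc1 (hRC c (hHA c hcN hc) hxc)

end Cfsg.Agent.S4071
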