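import Cfsg.Statements.S4072
import Cfsg.Agent.Lib.Coprime.Action
import Cfsg.Agent.Lib.Transfer.NormalComplement

set_option autoImplicit false
open Cfsg

namespace Cfsg.Agent.S4072

/-- If `w = q (g q⁻¹ g⁻¹)` is fixed by `g`, has order prime to that of `g`, then it is trivial. -/
lemma eq_one_of_fixed {G : Type*} [Group G] [Finite G] {q g w : G} (hw : q * g * q⁻¹ * g⁻¹ = w)
    (hc : Commute g w) (hcop : (orderOf g).Coprime (orderOf w)) (hqw : Commute q w) : w = 1 := by
  have h : ∀ n : ℕ, g ^ n * q⁻¹ * (g ^ n)⁻¹ = q⁻¹ * w ^ n := by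
    intro n
    induction n with
    | zero => simp
    | succ n ih =>
      have hstep : g * q⁻¹ * g⁻¹ = q⁻¹ * w := by rw [← hw]; simp [mul_assoc]
      calc g ^ (n + 1) * q⁻¹ * (g ^ (n + 1))⁻¹ = g * (g ^ n * q⁻¹ * (g ^ n)⁻¹) * g⁻¹ := by
            rw [pow_succ', mul_inv_rev]; simp [mul_assoc]
        _ = g * q⁻¹ * g⁻¹ * (g * w ^ n * g⁻¹) := by rw [ih]; simp [mul_assoc]
        _ = q⁻¹ * w ^ (n + 1) := by
            rw [hstep, (hc.pow_right n).eq, mul_inv_cancel_right, mul_assoc, ← pow_succ']
  have h1 := h (orderOf g)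
  rw [pow_orderOf_eq_one, one_mul, inv_one, mul_one] at h1
  exact orderOf_eq_one_iff.1 (Nat.eq_one_of_dvd_coprimes hcop
    (orderOf_dvd_of_pow_eq_one ((mul_eq_left.1 h1.symm))) dvd_rfl)

/-- A finite group in which every non-abelian subgroup is self-normalizing is solvable or simple. -/
theorem result {G : Type*} [Group G] [Finite G] (hS : ∀ H : Subgroup G, ¬ IsMulCommutative H → Subgroup.normalizer (H : Set G) = H) :
    Group.IsSolvable G ∨ IsSimpleGroup G := by
  by_contra hcon
  push Not at hcon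
  obtain ⟨hns, hnsimple⟩ := hcon
  haveI : Nontrivial G := by
    by_contra h
    rw [not_nontrivial_iff_subsingleton] at h
    exact hns inferInstance
  have habel : ∀ N : Subgroup G, N.Normal → N ≠ ⊤ → IsMulCommutative N := by
    intro N hN hne
    by_contra hna
    have := hS N hna
    rw [Subgroup.normalizer_eq_top] at this
    exact hne this.symm
  have hperf : commutator G = ⊤ := by
    by_contra hne
    apply hns
    haveI := habel (commutator G) inferInstance hne
    haveI : Group.IsSolvable (commutator G) := Group.isSolvable_of_comm (fun a b => mul_comm' a b)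
    haveI : IsMulCommutative (G ⧸ commutator G) := ⟨⟨fun a b => mul_comm (G := Abelianization G) a b⟩⟩
    exact (Group.isSolvable_iff_subgroup_quotient (commutator G)).2 ⟨inferInstance, Group.isSolvable_of_comm (fun a b => mul_comm' a b)⟩
  obtain ⟨N, hN, hN1, hN2⟩ : ∃ N : Subgroup G, N.Normal ∧ N ≠ ⊥ ∧ N ≠ ⊤ := by
    by_contra h
    push Not at h
    exact hnsimple ⟨fun H hH => (em (H = ⊥)).imp_right (h H hH)⟩
  obtain ⟨M, hNM, ⟨hM, hMtop⟩, hMmax⟩ := (Set.toFinite {K : Subgroup G | K.Normal ∧ K ≠ ⊤}).exists_le_maximal (a := N) ⟨hN, hN2⟩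
  haveI := hM
  haveI hMc : IsMulCommutative M := habel M hM hMtop
  have hM1 : M ≠ ⊥ := fun h => hN1 (le_bot_iff.1 (h ▸ hNM))
  haveI hCn : (Subgroup.centralizer (M : Set G)).Normal := Subgroup.normal_centralizer
  by_cases hC : Subgroup.centralizer (M : Set G) = ⊤
  · -- central case
    have hZ1 : Subgroup.center G ≠ ⊥ := fun h => hM1 <| le_bot_iff.1 <| h ▸ fun m hm =>
      Subgroup.mem_center_iff.2 fun g => ((Subgroup.mem_centralizer_iff.1 (hC ▸ Subgroup.mem_top g)) m hm).symm
    obtain ⟨p, hp, hpd⟩ := Nat.exists_prime_and_dvd (fun h => hZ1 (Subgroup.card_eq_one.1 h))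
    haveI := Fact.mk hp
    obtain ⟨z, hz⟩ := exists_prime_orderOf_dvd_card' (G := Subgroup.center G) p hpd
    have hzG : orderOf (z : G) = p := (Subgroup.orderOf_coe z).trans hz
    have hF : CfsgLib.Transfer.FrobeniusCond p G := by
      intro Q hQ g hg hcop
      by_cases hQc : IsMulCommutative Q
      swap
      · rw [hS Q hQc] at hg
        obtain ⟨k, hk⟩ := IsPGroup.iff_orderOf.1 hQ ⟨g, hg⟩
        rw [Subgroup.orderOf_mk] at hk
        have : g = 1 := orderOf_eq_one_iff.1 (Nat.eq_one_of_dvd_coprimes (hcop.pow_right k) dvd_rfl hk.dvd)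
        exact this ▸ one_mem _
      by_contra hgc
      obtain ⟨q, hq, hqg⟩ : ∃ q ∈ Q, q * g * q⁻¹ * g⁻¹ ≠ 1 := by
        by_contra h
        push Not at h
        apply hgc
        rw [Subgroup.mem_centralizer_iff]
        intro q hq
        have := h q hq
        rw [mul_inv_eq_one, mul_inv_eq_iff_eq_mul] at this
        exact this
      -- `W` is the set of commutators with `g`
      have hconj : ∀ u ∈ Q, g * u * g⁻¹ ∈ Q := fun u hu => (Subgroup.mem_normalizer_iff.1 hg u).1 hu
      let φ : Q →* Q :=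
        { toFun := fun u => ⟨(u : G) * g * (u : G)⁻¹ * g⁻¹, by
            have := Q.mul_mem u.2 (hconj _ (Q.inv_mem u.2))
            simpa [mul_assoc] using this⟩
          map_one' := by ext; simp
          map_mul' := fun u v => by
            apply Subtype.ext
            simp only [Subgroup.coe_mul]
            have hcm : Commute (g * (u : G)⁻¹ * g⁻¹) ((v : G) * (g * (v : G)⁻¹ * g⁻¹)) :=
              setLike_mul_comm (s := Q) (hconj _ (Q.inv_mem u.2)) (Q.mul_mem v.2 (hconj _ (Q.inv_mem v.2)))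
            calc (u : G) * v * g * ((u : G) * v)⁻¹ * g⁻¹
                = (u : G) * ((v : G) * (g * (v : G)⁻¹ * g⁻¹) * (g * (u : G)⁻¹ * g⁻¹)) := by group
              _ = (u : G) * ((g * (u : G)⁻¹ * g⁻¹) * ((v : G) * (g * (v : G)⁻¹ * g⁻¹))) := by rw [hcm.eq]
              _ = _ := by group }
      set W := φ.range.map Q.subtype with hW
      have hWQ : W ≤ Q := Subgroup.map_subtype_le _
      have hfix : ∀ w ∈ W, Commute g w → w = 1 := by
        rintro _ ⟨_, ⟨u, rfl⟩, rfl⟩ hc
        obtain ⟨k, hk⟩ := IsPGroup.iff_orderOf.1 hQ (φ u)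
        refine eq_one_of_fixed (q := (u : G)) rfl hc ?_ ?_
        · rw [Subgroup.subtype_apply, Subgroup.orderOf_coe, hk]
          exact hcop.pow_right k
        · exact setLike_mul_comm (s := Q) u.2 (φ u).2
      have hgW : g ∈ Subgroup.normalizer (W : Set G) := by
        have h : ∀ w ∈ W, g * w * g⁻¹ ∈ W := by
          rintro _ ⟨_, ⟨u, rfl⟩, rfl⟩
          refine ⟨_, ⟨⟨g * u * g⁻¹, hconj u u.2⟩, rfl⟩, ?_⟩
          change g * (u : G) * g⁻¹ * g * (g * (u : G) * g⁻¹)⁻¹ * g⁻¹ = g * ((u : G) * g * (u : G)⁻¹ * g⁻¹) * g⁻¹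
          group
        exact CfsgLib.Coprime.mem_normalizer_of_forall_conj h
      set H := W ⊔ Subgroup.zpowers g with hH
      have hHna : ¬ IsMulCommutative H := by
        intro hHc
        have hw : q * g * q⁻¹ * g⁻¹ ∈ W := ⟨_, ⟨⟨q, hq⟩, rfl⟩, rfl⟩
        exact hqg (hfix _ hw (setLike_mul_comm (s := H) (Subgroup.mem_sup_right (Subgroup.mem_zpowers g))
          (Subgroup.mem_sup_left hw)))
      have hzH : (z : G) ∈ H := by
        rw [← hS H hHna]
        exact Subgroup.centralizer_le_normalizer _ (Subgroup.center_le_centralizer _ z.2)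
      rw [hH, ← SetLike.mem_coe,
        Subgroup.coe_mul_of_right_le_normalizer_left W (Subgroup.zpowers g) ((Subgroup.zpowers_le).2 hgW)] at hzH
      obtain ⟨w, hw, v, hv, hwv⟩ := Set.mem_mul.1 hzH
      obtain ⟨i, rfl⟩ := hv
      have hgz : Commute g (z : G) := Subgroup.mem_center_iff.1 z.2 g
      have hgw : Commute g w := by
        have : w = (z : G) * (g ^ i)⁻¹ := by simp [← hwv]
        rw [this]
        exact hgz.mul_right ((Commute.refl g).zpow_right i).inv_right
      have hw1 := hfix w hw hgw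
      rw [hw1, one_mul] at hwv
      have hd : orderOf (z : G) ∣ orderOf g := hwv ▸ orderOf_dvd_of_mem_zpowers ⟨i, rfl⟩
      rw [hzG] at hd
      exact hp.not_dvd_one (hcop.gcd_eq_one ▸ Nat.dvd_gcd hd dvd_rfl)
    obtain ⟨P, K, hK, hKP⟩ := CfsgLib.Transfer.hasNormalPComplement_of_frobeniusCond hF
    haveI := hK
    have hpG : p ∣ Nat.card G := hzG ▸ orderOf_dvd_natCard _
    have hK2 : K ≠ ⊤ := fun h => by
      have := hKP.card_mul
      rw [h, Subgroup.card_top, Nat.mul_eq_left Nat.card_pos.ne'] at this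
      exact hp.not_dvd_one (this ▸ P.dvd_card_of_dvd_card hpG)
    haveI := habel K hK hK2
    apply hns
    haveI : Group.IsSolvable K := Group.isSolvable_of_comm (fun a b => mul_comm' a b)
    haveI : Group.IsSolvable (G ⧸ K) := by
      obtain ⟨j, hj⟩ := IsPGroup.iff_card.1 P.isPGroup'
      have hQp : IsPGroup p (G ⧸ K) := IsPGroup.of_card (n := j) (by
        change K.index = _
        rw [hKP.symm.index_eq_card, hj])
      haveI := hQp.isNilpotent
      infer_instance
    exact (Group.isSolvable_iff_subgroup_quotient K).2 ⟨inferInstance, inferInstance⟩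
  · -- faithful case
    have hCM : Subgroup.centralizer (M : Set G) = M :=
      le_antisymm (hMmax ⟨hCn, hC⟩ (Subgroup.le_centralizer M)) (Subgroup.le_centralizer M)
    have hself : ∀ X : Subgroup (G ⧸ M), X ≠ ⊥ → Subgroup.normalizer (X : Set (G ⧸ M)) = X := by
      intro X hX
      set Y := X.comap (QuotientGroup.mk' M) with hY
      have hMY : M ≤ Y := fun m hm => by
        change QuotientGroup.mk' M m ∈ X
        rw [QuotientGroup.mk'_apply, (QuotientGroup.eq_one_iff m).2 hm]
        exact one_mem X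
      have hna : ¬ IsMulCommutative Y := by
        intro hYc
        apply hX
        have hYM : Y ≤ M := hCM ▸ fun y hy => Subgroup.mem_centralizer_iff.2 fun m hm =>
          setLike_mul_comm (s := Y) (hMY hm) hy
        rw [eq_bot_iff]
        intro x hx
        obtain ⟨y, rfl⟩ := QuotientGroup.mk'_surjective M x
        simpa using hYM hx
      apply Subgroup.comap_injective (QuotientGroup.mk'_surjective M)
      rw [Subgroup.comap_normalizer_eq_of_surjective X (QuotientGroup.mk'_surjective M)]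
      exact hS Y hna
    haveI : Nontrivial (G ⧸ M) := QuotientGroup.nontrivial_iff.2 hMtop
    haveI : IsSimpleGroup (G ⧸ M) := ⟨fun X hX => by
      by_cases hXb : X = ⊥
      · exact Or.inl hXb
      · right
        rw [← hself X hXb, Subgroup.normalizer_eq_top]⟩
    obtain ⟨p, hp, hpd⟩ := Nat.exists_prime_and_dvd (n := Nat.card (G ⧸ M)) Finite.one_lt_card.ne'
    haveI := Fact.mk hp
    obtain ⟨P⟩ := (inferInstance : Nonempty (Sylow p (G ⧸ M)))
    haveI : Nontrivial (P : Subgroup (G ⧸ M)) := by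
      rw [← Finite.one_lt_card_iff_nontrivial]
      exact hp.one_lt.trans_le (Nat.le_of_dvd Nat.card_pos (P.dvd_card_of_dvd_card hpd))
    haveI := P.isPGroup'.center_nontrivial
    obtain ⟨⟨x, hx⟩, hx1⟩ := exists_ne (1 : Subgroup.center (P : Subgroup (G ⧸ M)))
    have hxne : (x : G ⧸ M) ≠ 1 := fun h => hx1 (Subtype.ext (Subtype.ext h))
    have hPX : (P : Subgroup (G ⧸ M)) ≤ Subgroup.zpowers (x : G ⧸ M) := by
      intro u hu
      rw [← hself _ (Subgroup.zpowers_ne_bot.2 hxne)]
      apply Subgroup.centralizer_le_normalizer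
      rw [Subgroup.mem_centralizer_iff]
      rintro _ ⟨i, rfl⟩
      exact ((Commute.zpow_right (congrArg Subtype.val (Subgroup.mem_center_iff.1 hx ⟨u, hu⟩) : Commute u (x : G ⧸ M))) i).symm.eq
    haveI : IsMulCommutative (P : Subgroup (G ⧸ M)) := .of_setLike_mul_comm fun a ha b hb => by
      obtain ⟨i, rfl⟩ := hPX ha
      obtain ⟨j, rfl⟩ := hPX hb
      exact ((Commute.refl (x : G ⧸ M)).zpow_zpow i j).eq
    have hnc : Subgroup.normalizer ((P : Subgroup (G ⧸ M)) : Set (G ⧸ M)) ≤ Subgroup.centralizer ((P : Subgroup (G ⧸ M)) : Set (G ⧸ M)) :=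
      (hself _ (Subgroup.nontrivial_iff_ne_bot _ |>.1 inferInstance)).le.trans (Subgroup.le_centralizer _)
    rcases CfsgLib.Transfer.simple_of_hasNormalPComplement
      (CfsgLib.Transfer.hasNormalPComplement_of_normalizer_le P hnc) with h | h
    · exact h hpd
    · apply hns
      haveI : Group.IsSolvable M := Group.isSolvable_of_comm (fun a b => mul_comm' a b)
      haveI := h.isNilpotent
      exact (Group.isSolvable_iff_subgroup_quotient M).2 ⟨inferInstance, inferInstance⟩

end Cfsg.Agent.S4072
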