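import Cfsg.Statements.S4073
import Cfsg.Agent.Lib.SelfNorm.Linear

set_option autoImplicit false
open Cfsg CfsgLib

namespace Cfsg.Agent.S4073

/-- Let G be a finite non-abelian simple group. Every non-abelian subgroup of G is self-normalizing if and only if G is isomorphic to PSL₂(2ⁿ) for some n ≥ 2 with 2ⁿ − 1 prime (this includes the alternating group of degree 5 as PSL₂(4)). -/
theorem result {G : Type*} [Group G] [Finite G] [IsSimpleGroup G]
    (hna : ¬ IsMulCommutative G) :
    (∀ H : Subgroup G, ¬ IsMulCommutative H → Subgroup.normalizer (H : Set G) = H) ↔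
    ∃ n : ℕ, 2 ≤ n ∧ (2 ^ n - 1).Prime ∧ Nonempty (G ≃* Matrix.ProjectiveSpecialLinearGroup (Fin 2) (GaloisField 2 n)) := by
  have hnc : ¬ ∀ a b : G, a * b = b * a := fun h => hna ⟨⟨h⟩⟩
  haveI : Fact (Nat.Prime 2) := ⟨Nat.prime_two⟩
  constructor
  · intro h
    have hsn : SelfNorm15.SN G := fun H hH => h H fun hc => hH ((SelfNorm15.ab_iff H).2 hc)
    have hCA := SelfNorm15.ca_of_sn _ G rfl inferInstance hnc hsn
    obtain ⟨F, iF, iF', f, hf, hcard, ⟨e⟩⟩ := CASimple.exists_psl_of_ca hCA hnc
    haveI : CharP F 2 := charP_of_card_eq_prime_pow hcard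
    have hsl := (hsn.of_equiv e).of_equiv SelfNorm15.pslEquiv
    have hq : 4 ≤ Fintype.card F := by
      rw [hcard]
      calc 4 = 2 ^ 2 := by norm_num
        _ ≤ 2 ^ f := Nat.pow_le_pow_right (by norm_num) hf
    have hp := SelfNorm15.prime_of_sn hsl hq
    rw [hcard] at hp
    haveI : Fintype (GaloisField 2 f) := Fintype.ofFinite _
    have hcards : Fintype.card F = Fintype.card (GaloisField 2 f) := by
      rw [hcard, ← Nat.card_eq_fintype_card (α := GaloisField 2 f),
        GaloisField.card 2 f (by omega)]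
    let ρ := FiniteField.ringEquivOfCardEq hcards
    let σ : Matrix.SpecialLinearGroup (Fin 2) F ≃*
        Matrix.SpecialLinearGroup (Fin 2) (GaloisField 2 f) :=
      { toFun := Matrix.SpecialLinearGroup.map (ρ : F →+* GaloisField 2 f)
        invFun := Matrix.SpecialLinearGroup.map (ρ.symm : GaloisField 2 f →+* F)
        left_inv := fun M => by ext i j; simp
        right_inv := fun M => by ext i j; simp
        map_mul' := map_mul _ }
    exact ⟨f, hf, hp, ⟨((e.trans SelfNorm15.pslEquiv).trans σ).trans SelfNorm15.pslEquiv.symm⟩⟩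
  · rintro ⟨n, hn, hp, ⟨e⟩⟩ H hH
    haveI : Fintype (GaloisField 2 n) := Fintype.ofFinite _
    have hcard : Fintype.card (GaloisField 2 n) = 2 ^ n := by
      rw [← Nat.card_eq_fintype_card, GaloisField.card 2 n (by omega)]
    have hsn := SelfNorm15.sn_of_prime (F := GaloisField 2 n) (by rw [hcard]; exact hp)
    have hG := (hsn.of_equiv SelfNorm15.pslEquiv.symm).of_equiv e.symm
    exact hG H fun hc => hH ((SelfNorm15.ab_iff H).1 hc)

end Cfsg.Agent.S4073
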