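import Cfsg.Statements.S4074
import Mathlib

set_option autoImplicit false
open Cfsg

namespace Cfsg.Agent.S4074

/-- For n > 2, every non-abelian subgroup of the dihedral group of order 2n is self-normalizing if and only if n = 4 or n is odd. -/
theorem result (n : ℕ) (hn : 2 < n) :
    (∀ H : Subgroup (DihedralGroup n), ¬ IsMulCommutative H → Subgroup.normalizer (H : Set (DihedralGroup n)) = H) ↔
    (n = 4 ∨ Odd n) := by
  haveI : NeZero n := ⟨by omega⟩
  constructor
  · intro h
    by_contra hn
    push Not at hn
    obtain ⟨hn4, hodd⟩ := hn
    rw [Nat.not_odd_iff_even] at hodd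
    have h2 : 2 ∣ n := even_iff_two_dvd.1 hodd
    let φ : DihedralGroup n → ZMod 2 := fun x =>
      match x with
      | .r i => ZMod.castHom h2 (ZMod 2) i
      | .sr i => ZMod.castHom h2 (ZMod 2) i
    have hφ : ∀ x y, φ (x * y) = φ x + φ y := by
      rintro (i | i) (j | j)
      · simp only [DihedralGroup.r_mul_r, φ, map_add]
      · simp only [DihedralGroup.r_mul_sr, φ, map_sub, ZModModule.sub_eq_add, add_comm]
      · simp only [DihedralGroup.sr_mul_r, φ, map_add]
      · simp only [DihedralGroup.sr_mul_sr, φ, map_sub, ZModModule.sub_eq_add, add_comm]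
    let f : DihedralGroup n →* Multiplicative (ZMod 2) :=
      MonoidHom.mk' (fun x => Multiplicative.ofAdd (φ x)) (fun x y => by simp [hφ])
    have hr2 : DihedralGroup.r (2 : ZMod n) ∈ f.ker := by
      have : φ (DihedralGroup.r (2 : ZMod n)) = 0 := by
        change ZMod.castHom h2 (ZMod 2) 2 = 0
        rw [map_ofNat]
        rfl
      simp [f, MonoidHom.mem_ker, this]
    have hs : DihedralGroup.sr (0 : ZMod n) ∈ f.ker := by
      simp [f, φ, MonoidHom.mem_ker]
    have hna : ¬ IsMulCommutative f.ker := by
      intro hc
      have := setLike_mul_comm hr2 hs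
      rw [DihedralGroup.r_mul_sr, DihedralGroup.sr_mul_r] at this
      have h' : (0 : ZMod n) - 2 = 0 + 2 := DihedralGroup.sr.inj this
      have h4 : ((4 : ℕ) : ZMod n) = 0 := by
        push_cast
        linear_combination -h'
      rw [ZMod.natCast_eq_zero_iff] at h4
      have h5 := Nat.le_of_dvd (by norm_num) h4
      interval_cases n <;> simp_all
    have hk := h _ hna
    rw [Subgroup.normalizer_eq_top] at hk
    have hne : DihedralGroup.r (1 : ZMod n) ∈ f.ker := hk ▸ Subgroup.mem_top _
    simp [f, φ, MonoidHom.mem_ker, ZMod.cast_one h2] at hne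
  · rintro (rfl | hodd) H hna
    · have : H = ⊤ := by
        by_contra hne
        apply hna
        have hidx := Subgroup.card_mul_index H
        rw [DihedralGroup.nat_card] at hidx
        have h1 : H.index ≠ 1 := fun hi => hne (Subgroup.index_eq_one.1 hi)
        have h0 : H.index ≠ 0 := Subgroup.index_ne_zero_of_finite
        have hle : Nat.card H ≤ 4 := by
          have : 2 ≤ H.index := by omega
          nlinarith
        have hdvd : Nat.card H ∣ 2 ^ 3 := Dvd.intro _ (hidx.trans (by norm_num))
        obtain ⟨k, -, hk⟩ := (Nat.dvd_prime_pow Nat.prime_two).1 hdvd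
        have hk2 : k ≤ 2 := by
          by_contra hc
          have : 2 ^ 3 ≤ 2 ^ k := Nat.pow_le_pow_right (by norm_num) (by omega)
          omega
        haveI := Fact.mk Nat.prime_two
        interval_cases k
        · rw [pow_zero, Subgroup.card_eq_one] at hk
          subst hk
          infer_instance
        · rw [pow_one] at hk
          haveI := isCyclic_of_prime_card hk
          infer_instance
        · exact IsPGroup.isMulCommutative_of_card_eq_prime_sq hk
      subst this
      exact top_le_iff.1 Subgroup.le_normalizer
    · refine le_antisymm ?_ Subgroup.le_normalizer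
      obtain ⟨i, hi⟩ : ∃ i, DihedralGroup.sr i ∈ H := by
        by_contra hc
        push Not at hc
        apply hna
        refine ⟨⟨fun a b => ?_⟩⟩
        obtain ⟨a, ha⟩ := a
        obtain ⟨b, hb⟩ := b
        rcases a with i | i
        · rcases b with j | j
          · apply Subtype.ext
            simp [DihedralGroup.r_mul_r, add_comm]
          · exact absurd hb (hc j)
        · exact absurd ha (hc i)
      have key : ∀ k : ZMod n, DihedralGroup.r k ∈ Subgroup.normalizer (H : Set (DihedralGroup n)) →
          DihedralGroup.r k ∈ H := by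
        intro k hk
        have h1 : DihedralGroup.r k * DihedralGroup.sr i * (DihedralGroup.r k)⁻¹ ∈ H :=
          (Subgroup.mem_normalizer_iff.1 hk _).1 hi
        have h2 := H.mul_mem h1 hi
        rw [DihedralGroup.inv_r, DihedralGroup.r_mul_sr, DihedralGroup.sr_mul_r,
          DihedralGroup.sr_mul_sr] at h2
        have h3 := H.pow_mem h2 ((n + 1) / 2)
        rw [DihedralGroup.r_pow] at h3
        have hhalf : 2 * ((n + 1) / 2) = n + 1 := by
          obtain ⟨m, rfl⟩ := hodd
          omega
        have hcast : (2 : ZMod n) * (((n + 1) / 2 : ℕ) : ZMod n) = 1 := by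
          have := congrArg (Nat.cast : ℕ → ZMod n) hhalf
          push_cast at this
          simpa using this
        have hfin : (i - (i - k + -k)) * (((n + 1) / 2 : ℕ) : ZMod n) = k := by
          linear_combination k * hcast
        rwa [hfin] at h3
      intro g hg
      rcases g with k | k
      · exact key k hg
      · have h1 : DihedralGroup.sr k * DihedralGroup.sr i ∈ Subgroup.normalizer (H : Set (DihedralGroup n)) :=
          mul_mem hg (Subgroup.le_normalizer hi)
        rw [DihedralGroup.sr_mul_sr] at h1
        have h2 := H.mul_mem (key _ h1) hi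
        rw [DihedralGroup.r_mul_sr] at h2
        simpa using h2

end Cfsg.Agent.S4074
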