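import Cfsg.Statements.S4075
import Mathlib

set_option autoImplicit false
open Cfsg

namespace Cfsg.Agent.S4075

/-- Let G be a finite nilpotent group. Every non-abelian subgroup of G is self-normalizing if and only if G is abelian or G is a minimal non-abelian p-group for some prime p (non-abelian of prime-power order with every proper subgroup abelian). -/
theorem result {G : Type*} [Group G] [Finite G]
    [Group.IsNilpotent G] :
    (∀ H : Subgroup G, ¬ IsMulCommutative H → Subgroup.normalizer (H : Set G) = H) ↔
    (IsMulCommutative G ∨ (IsPrimePow (Nat.card G) ∧ ¬ IsMulCommutative G ∧ ∀ H : Subgroup G, H ≠ ⊤ → IsMulCommutative H)) := by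
  constructor
  · intro h
    have htop : ∀ H : Subgroup G, H ≠ ⊤ → IsMulCommutative H := by
      intro H hH
      by_contra hna
      have hlt := normalizerCondition_of_isNilpotent (G := G) H (lt_top_iff_ne_top.2 hH)
      rw [h H hna] at hlt
      exact lt_irrefl _ hlt
    by_cases hG : IsMulCommutative G
    · exact Or.inl hG
    refine Or.inr ⟨?_, hG, htop⟩
    by_contra hpp
    apply hG
    have hn : ∀ {p : ℕ} [Fact p.Prime] (P : Sylow p G), (P : Subgroup G).Normal :=
      fun {p} hp P => ((Group.isNilpotent_of_finite_tfae (G := G)).out 0 3 : Group.IsNilpotent G ↔ ∀ (p : ℕ) (_hp : Fact p.Prime) (P : Sylow p G), (P : Subgroup G).Normal).1 ‹Group.IsNilpotent G› p hp P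
    have hP : ∀ (p : (Nat.card G).primeFactors) (P : Sylow p G), IsMulCommutative (P : Subgroup G) := by
      intro p P
      haveI := Fact.mk (Nat.prime_of_mem_primeFactors p.2)
      apply htop
      intro hPt
      apply hpp
      obtain ⟨k, hk⟩ := IsPGroup.iff_card.1 P.isPGroup'
      rw [hPt, Subgroup.card_top] at hk
      have hk0 : k ≠ 0 := by
        rintro rfl
        have : (p : ℕ) ∈ (Nat.card G).primeFactors := p.2
        simp [hk] at this
      exact hk ▸ (Nat.prime_of_mem_primeFactors p.2).isPrimePow.pow hk0
    have e := Sylow.directProductOfNormal (G := G) hn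
    refine ⟨⟨fun a b => ?_⟩⟩
    obtain ⟨a, rfl⟩ := e.surjective a
    obtain ⟨b, rfl⟩ := e.surjective b
    rw [← map_mul, ← map_mul]
    congr 1
    funext p P
    exact (hP p P).is_comm.comm (a p P) (b p P)
  · rintro (hG | ⟨-, -, hmin⟩) H hH
    · exact absurd (by infer_instance) hH
    · have : H = ⊤ := by
        by_contra hne
        exact hH (hmin H hne)
      subst this
      exact top_le_iff.1 Subgroup.le_normalizer

end Cfsg.Agent.S4075
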