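import Cfsg.Statements.S4079
import Mathlib
import Cfsg.Agent.Lib.OddOrder41.MetacyclicAction
import Cfsg.Agent.Lib.PGroup.Class2
import Cfsg.Agent.Lib.Recognition.NormalSquareAll
import Cfsg.Agent.Lib.PCore.Basic
import Cfsg.Agent.Lib.Coprime.Basic
import Cfsg.Agent.Lib.ConstStab.Basic

set_option autoImplicit false
open Cfsg

namespace Cfsg.Agent.S4079

section Class

variable {P : Type*} [Group P] [Finite P] {p : ℕ} [hp : Fact p.Prime]

lemma class_le_one_of_comm {G : Type*} [Group G] [Group.IsNilpotent G] (h : ∀ a b : G, a * b = b * a) :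
    Group.nilpotencyClass G ≤ 1 := by
  letI : CommGroup G := { (inferInstance : Group G) with mul_comm := h }
  exact CommGroup.nilpotencyClass_le_one

lemma comm_of_quotient_center_cyclic {G : Type*} [Group G] (h : IsCyclic (G ⧸ Subgroup.center G)) :
    ∀ a b : G, a * b = b * a := by
  haveI := h
  haveI : IsMulCommutative G := MonoidHom.isMulCommutative_of_isCyclic_of_ker_le_center
    (QuotientGroup.mk' (Subgroup.center G)) (by simp)
  exact mul_comm'

lemma card_center_quotient (hP : IsPGroup p P) {n : ℕ} (hn : Nat.card P = p ^ n) :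
    ∃ i j, Nat.card (Subgroup.center P) = p ^ i ∧ Nat.card (P ⧸ Subgroup.center P) = p ^ j ∧ i + j = n := by
  obtain ⟨i, hi⟩ := IsPGroup.iff_card.1 (hP.to_subgroup (Subgroup.center P))
  obtain ⟨j, hj⟩ := IsPGroup.iff_card.1 (hP.to_quotient (Subgroup.center P))
  refine ⟨i, j, hi, hj, ?_⟩
  have h := Subgroup.card_eq_card_quotient_mul_card_subgroup (Subgroup.center P)
  rw [hn, hi, hj, ← pow_add] at h
  rw [add_comm, (Nat.pow_right_injective hp.out.two_le h)]

lemma class_le : ∀ (n : ℕ) {P : Type*} [Group P] [Finite P], IsPGroup p P → Nat.card P = p ^ n → 2 ≤ n →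
    Group.nilpotencyClass P + 1 ≤ n := by
  intro n
  induction n using Nat.strong_induction_on with
  | _ n ih =>
  intro P _ _ hP hn h2
  haveI := hP.isNilpotent
  obtain ⟨i, j, hi, hj, hij⟩ := card_center_quotient hP hn
  rcases Nat.lt_or_ge j 2 with hj2 | hj2
  · have hc : IsCyclic (P ⧸ Subgroup.center P) := by
      rcases Nat.eq_zero_or_pos j with rfl | hj0
      · haveI : Subsingleton (P ⧸ Subgroup.center P) := (Nat.card_eq_one_iff_unique.1 (by rw [hj, pow_zero])).1
        infer_instance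
      · exact isCyclic_of_prime_card (p := p) (by rw [hj, show j = 1 by omega, pow_one])
    have := class_le_one_of_comm (comm_of_quotient_center_cyclic hc)
    omega
  · have hi0 : i ≠ 0 := by
      rintro rfl
      haveI : Nontrivial P := Finite.one_lt_card_iff_nontrivial.1 (hn ▸ Nat.one_lt_pow (by omega) hp.out.one_lt)
      have h0 := hP.center_nontrivial
      have := Finite.one_lt_card_iff_nontrivial.2 h0
      rw [hi, pow_zero] at this
      omega
    have h1 := ih j (by omega) (hP.to_quotient _) hj hj2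
    rw [Group.nilpotencyClass_quotient_center] at h1
    omega

/-- A small centraliser forces maximal class. -/
lemma class_eq_of_centralizer : ∀ (n : ℕ) {P : Type*} [Group P] [Finite P], IsPGroup p P → Nat.card P = p ^ n → 2 ≤ n →
    ∀ s : P, Nat.card (Subgroup.centralizer ({s} : Set P)) ≤ p ^ 2 → Group.nilpotencyClass P + 1 = n := by
  intro n
  induction n using Nat.strong_induction_on with
  | _ n ih =>
  intro P _ _ hP hn h2 s hs
  haveI := hP.isNilpotent
  haveI : Nontrivial P := Finite.one_lt_card_iff_nontrivial.1 (hn ▸ Nat.one_lt_pow (by omega) hp.out.one_lt)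
  have hpos : 0 < Group.nilpotencyClass P := by
    rw [Nat.pos_iff_ne_zero, Ne, Group.nilpotencyClass_zero_iff_subsingleton, not_subsingleton_iff_nontrivial]
    infer_instance
  rcases Nat.eq_or_lt_of_le h2 with rfl | hn3
  · have := class_le 2 hP hn le_rfl
    omega
  obtain ⟨i, j, hi, hj, hij⟩ := card_center_quotient hP hn
  set Z := Subgroup.center P
  set C := Subgroup.centralizer ({s} : Set P) with hC
  have hZC : Z ≤ C := Subgroup.center_le_centralizer _
  have hsC : s ∈ C := Subgroup.mem_centralizer_singleton_iff.2 rfl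
  have hsZ : s ∉ Z := fun h => by
    have htop : C = ⊤ := eq_top_iff.2 fun g _ => Subgroup.mem_centralizer_singleton_iff.2 (Subgroup.mem_center_iff.1 h g)
    rw [htop, Subgroup.card_top, hn] at hs
    have := (Nat.pow_le_pow_iff_right hp.out.one_lt).1 hs
    omega
  have hi1 : i = 1 := by
    have hlt : Nat.card Z < Nat.card C := by
      refine lt_of_le_of_ne (Subgroup.card_le_of_le hZC) fun h => hsZ ?_
      rw [Subgroup.eq_of_le_of_card_ge hZC h.ge]; exact hsC
    have hi2 : p ^ i < p ^ 2 := hi ▸ hlt.trans_le hs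
    have := (Nat.pow_lt_pow_iff_right hp.out.one_lt).1 hi2
    have hne : i ≠ 0 := by
      rintro rfl
      have := Finite.one_lt_card_iff_nontrivial.2 hP.center_nontrivial
      rw [hi, pow_zero] at this
      omega
    omega
  subst hi1
  set π := QuotientGroup.mk' Z
  set D := (Subgroup.centralizer ({π s} : Set (P ⧸ Z))).comap π with hD
  have hcomm : ∀ g ∈ D, g * s * g⁻¹ * s⁻¹ ∈ Z := by
    intro g hg
    have h1 := Subgroup.mem_centralizer_singleton_iff.1 (Subgroup.mem_comap.1 hg)
    rw [← QuotientGroup.eq_one_iff (N := Z)]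
    change π (g * s * g⁻¹ * s⁻¹) = 1
    rw [map_mul, map_mul, map_mul, map_inv, map_inv, h1, mul_inv_cancel_right, mul_inv_cancel]
  have hCD : C ≤ D := fun g hg => Subgroup.mem_comap.2 (Subgroup.mem_centralizer_singleton_iff.2 (by
    rw [← map_mul, ← map_mul, Subgroup.mem_centralizer_singleton_iff.1 hg]))
  let φ : D →* Z :=
    { toFun := fun g => ⟨g * s * (g : P)⁻¹ * s⁻¹, hcomm g g.2⟩
      map_one' := Subtype.ext (show (1 : P) * s * (1 : P)⁻¹ * s⁻¹ = 1 by group)
      map_mul' := fun g h => Subtype.ext (by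
        change (g : P) * h * s * ((g : P) * h)⁻¹ * s⁻¹ = (g * s * (g : P)⁻¹ * s⁻¹) * (h * s * (h : P)⁻¹ * s⁻¹)
        have hz := Subgroup.mem_center_iff.1 (hcomm h h.2) (g : P)
        calc (g : P) * h * s * ((g : P) * h)⁻¹ * s⁻¹
            = g * ((h * s * (h : P)⁻¹ * s⁻¹)) * (s * (g : P)⁻¹ * s⁻¹) := by group
          _ = (h * s * (h : P)⁻¹ * s⁻¹) * g * (s * (g : P)⁻¹ * s⁻¹) := by rw [hz]
          _ = (h * s * (h : P)⁻¹ * s⁻¹) * (g * s * (g : P)⁻¹ * s⁻¹) := by group
          _ = _ := (Subgroup.mem_center_iff.1 (hcomm h h.2) _).symm) }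
  have hkerle : Nat.card φ.ker ≤ p ^ 2 := by
    refine le_trans (Nat.card_le_card_of_injective (fun g : φ.ker => (⟨((g : D) : P), ?_⟩ : C)) ?_) hs
    · have h1 : ((g : D) : P) * s * ((g : D) : P)⁻¹ * s⁻¹ = 1 := congrArg Subtype.val (MonoidHom.mem_ker.1 g.2)
      exact Subgroup.mem_centralizer_singleton_iff.2 (mul_inv_eq_iff_eq_mul.1 (mul_inv_eq_one.1 h1))
    · intro g h e
      exact Subtype.ext (Subtype.ext (congrArg (fun z : C => (z : P)) e))
  have hDle : Nat.card D ≤ p ^ 2 * p := by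
    rw [← φ.ker.card_mul_index]
    refine Nat.mul_le_mul hkerle ?_
    rw [Subgroup.index_ker φ]
    exact (Subgroup.card_le_card_group _).trans (by rw [hi, pow_one])
  have hcent : Nat.card (Subgroup.centralizer ({π s} : Set (P ⧸ Z))) ≤ p ^ 2 := by
    have h1 := CfsgLib.PCore.card_comap_mk' Z (Subgroup.centralizer ({π s} : Set (P ⧸ Z)))
    rw [hi, pow_one] at h1
    refine Nat.le_of_mul_le_mul_right ?_ hp.out.pos
    calc Nat.card (Subgroup.centralizer ({π s} : Set (P ⧸ Z))) * p = Nat.card D := by rw [hD, h1]; ring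
      _ ≤ p ^ 2 * p := hDle
  have h1 := ih j (by omega) (hP.to_quotient Z) hj (by omega) (π s) hcent
  rw [Group.nilpotencyClass_quotient_center] at h1
  omega

lemma card_center_of_class (hP : IsPGroup p P) {n : ℕ} (hn : Nat.card P = p ^ n) (h3 : 3 ≤ n)
    (hc : Group.nilpotencyClass P + 1 = n) :
    Nat.card (Subgroup.center P) = p ∧ Nat.card (P ⧸ Subgroup.center P) = p ^ (n - 1) ∧
      Group.nilpotencyClass (P ⧸ Subgroup.center P) + 1 = n - 1 := by
  haveI := hP.isNilpotent
  obtain ⟨i, j, hi, hj, hij⟩ := card_center_quotient hP hn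
  have hq := Group.nilpotencyClass_quotient_center (G := P)
  have hj' : j + 1 = n := by
    rcases Nat.lt_or_ge j 2 with h | h
    · exfalso
      have hcy : IsCyclic (P ⧸ Subgroup.center P) := by
        rcases Nat.eq_zero_or_pos j with rfl | hj0
        · haveI : Subsingleton (P ⧸ Subgroup.center P) := (Nat.card_eq_one_iff_unique.1 (by rw [hj, pow_zero])).1
          infer_instance
        · exact isCyclic_of_prime_card (p := p) (by rw [hj, show j = 1 by omega, pow_one])
      have := class_le_one_of_comm (comm_of_quotient_center_cyclic hcy)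
      omega
    · have h1 := class_le j (hP.to_quotient _) hj h
      have hi0 : i ≠ 0 := by
        rintro rfl
        haveI : Nontrivial P := Finite.one_lt_card_iff_nontrivial.1 (hn ▸ Nat.one_lt_pow (by omega) hp.out.one_lt)
        have := Finite.one_lt_card_iff_nontrivial.2 hP.center_nontrivial
        rw [hi, pow_zero] at this
        omega
      omega
  refine ⟨by rw [hi, show i = 1 by omega, pow_one], by rw [hj, show n - 1 = j by omega], by omega⟩

/-- In a group of maximal class of order at least `p ^ 4`, `p` odd, cyclic normal subgroups have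
order at most `p`. -/
lemma not_cyclic_normal (hp2 : p ≠ 2) (hP : IsPGroup p P) {n : ℕ} (hn : Nat.card P = p ^ n) (h4 : 4 ≤ n)
    (hc : Group.nilpotencyClass P + 1 = n) (C : Subgroup P) [C.Normal] [IsCyclic C] : Nat.card C ≤ p := by
  haveI := hP.isNilpotent
  by_contra hcon
  push Not at hcon
  obtain ⟨k, hk⟩ := IsPGroup.iff_card.1 (hP.to_subgroup C)
  have hk2 : 2 ≤ k := by
    by_contra h
    rw [hk] at hcon
    have := Nat.pow_le_pow_right hp.out.pos (show k ≤ 1 by omega)
    rw [pow_one] at this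
    omega
  obtain ⟨g, hg⟩ := IsCyclic.exists_generator (α := C)
  have hgo : orderOf (g : P) = p ^ k := by rw [Subgroup.orderOf_coe, orderOf_eq_card_of_forall_mem_zpowers hg, hk]
  set d := (g : P) ^ p ^ (k - 2) with hd
  have hdo : orderOf d = p ^ 2 := by
    rw [hd, orderOf_pow_of_dvd (pow_ne_zero _ hp.out.ne_zero) (hgo ▸ pow_dvd_pow p (by omega)), hgo,
      Nat.pow_div (by omega) hp.out.pos, show k - (k - 2) = 2 by omega]
  haveI hDn : (Subgroup.zpowers d).Normal := ⟨fun y hy x => by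
    obtain ⟨j, rfl⟩ := hy
    obtain ⟨t, ht⟩ := Subgroup.mem_zpowers_iff.1 (hg ⟨x * g * x⁻¹, (inferInstance : C.Normal).conj_mem _ g.2 x⟩)
    have ht' : x * (g : P) * x⁻¹ = (g : P) ^ t := by
      rw [← SubgroupClass.coe_zpow, ht]
    refine ⟨t * j, ?_⟩
    change d ^ (t * j) = x * d ^ j * x⁻¹
    rw [← conj_zpow, zpow_mul]
    congr 1
    rw [hd, ← conj_pow, ht', ← zpow_natCast, ← zpow_natCast, ← zpow_mul, ← zpow_mul, mul_comm]⟩
  have hnc : ¬ IsCyclic P := fun h => by
    have := class_le_one_of_comm (G := P) (fun a b => by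
      letI : CommGroup P := IsCyclic.commGroup
      exact mul_comm a b)
    omega
  have hodd : ¬ 2 ∣ Nat.card P := fun h => hp2 (((Nat.prime_dvd_prime_iff_eq Nat.prime_two hp.out).1 (Nat.prime_two.dvd_of_dvd_pow (hn ▸ h))).symm)
  obtain ⟨U, hUn, hUe, hUc⟩ := CfsgLib.RecognitionNormalSquare.exists_normal_elementary_square_of_not_special hP hnc
    (fun t ⟨e⟩ => hodd (by
      rcases Nat.eq_zero_or_pos t with rfl | ht
      · haveI : Finite ℤ := by
          haveI := Finite.of_equiv P e.toEquiv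
          exact Finite.of_injective (fun i : ℤ => QuaternionGroup.a (n := 0) i) fun i j h => (QuaternionGroup.a.injEq _ _).mp h
        exact absurd ‹Finite ℤ› (not_finite_iff_infinite.2 inferInstance)
      haveI : NeZero t := ⟨ht.ne'⟩
      rw [Nat.card_congr e.toEquiv, Nat.card_eq_fintype_card, QuaternionGroup.card]; omega))
    (fun t ⟨e⟩ => hodd (by rw [Nat.card_congr e.toEquiv, DihedralGroup.nat_card]; exact dvd_mul_right 2 t))
    (fun ⟨t, ht, hcard, _⟩ => hodd (hcard ▸ dvd_pow_self 2 (by omega)))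
  haveI := hUn
  obtain ⟨hZ, hQ, hQc⟩ := card_center_of_class hP hn (by omega) hc
  obtain ⟨hZ2, -, -⟩ := card_center_of_class (hP.to_quotient _) hQ (by omega) hQc
  have huniq : ∀ S : Subgroup P, S.Normal → Nat.card S = p ^ 2 →
      S ≤ (Subgroup.center (P ⧸ Subgroup.center P)).comap (QuotientGroup.mk' (Subgroup.center P)) := by
    intro S hSn hS
    haveI := hSn
    set π := QuotientGroup.mk' (Subgroup.center P)
    have hSZ : Subgroup.center P ⊓ S ≠ ⊥ := by
      intro h
      letI : MulAction P S := MulAction.compHom S (MulAut.conjNormal : P →* MulAut S)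
      obtain ⟨z, hz, hz1⟩ := hP.exists_fixed_point_of_prime_dvd_card_of_fixed_point (α := S) (hS ▸ dvd_pow_self p two_ne_zero)
        (a := 1) (fun x => map_one (MulAut.conjNormal x))
      have hmem : (z : P) ∈ Subgroup.center P ⊓ S := ⟨Subgroup.mem_center_iff.2 fun x => by
        have h1 := congrArg Subtype.val (hz x)
        change ((MulAut.conjNormal x z : S) : P) = z at h1
        rw [MulAut.conjNormal_apply] at h1
        exact mul_inv_eq_iff_eq_mul.1 h1, z.2⟩
      rw [h, Subgroup.mem_bot] at hmem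
      exact hz1 (Subtype.ext hmem.symm)
    haveI hn' : (S.map π).Normal := hSn.map π (QuotientGroup.mk'_surjective _)
    have hsmall : Nat.card (S.map π) ≤ p := by
      have h1 := CfsgLib.Coprime.card_map_mul_inf_ker π S
      rw [QuotientGroup.ker_mk', hS] at h1
      have h2 := Finite.one_lt_card_iff_nontrivial.2 ((Subgroup.nontrivial_iff_ne_bot _).2 hSZ)
      obtain ⟨e, he⟩ := IsPGroup.iff_card.1 (hP.to_subgroup (Subgroup.center P ⊓ S))
      have : p ≤ Nat.card (Subgroup.center P ⊓ S : Subgroup P) := by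
        rw [he] at h2 ⊢
        exact Nat.le_self_pow (by rintro rfl; simp at h2) p
      refine Nat.le_of_mul_le_mul_right ?_ hp.out.pos
      calc Nat.card (S.map π) * p ≤ Nat.card (S.map π) * Nat.card (Subgroup.center P ⊓ S : Subgroup P) :=
            Nat.mul_le_mul_left _ this
        _ = p * p := by rw [h1, sq]
    intro x hx
    rw [Subgroup.mem_comap]
    refine Subgroup.mem_center_iff.2 fun y => ?_
    by_cases hb : S.map π = ⊥
    · have : π x = 1 := Subgroup.mem_bot.1 (hb ▸ Subgroup.mem_map_of_mem π hx)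
      rw [this, mul_one, one_mul]
    letI : MulAction (P ⧸ Subgroup.center P) (S.map π) :=
      MulAction.compHom (S.map π) (MulAut.conjNormal : (P ⧸ Subgroup.center P) →* MulAut (S.map π))
    have h2 := Finite.one_lt_card_iff_nontrivial.2 ((Subgroup.nontrivial_iff_ne_bot _).2 hb)
    obtain ⟨e, he⟩ := IsPGroup.iff_card.1 ((hP.to_quotient (Subgroup.center P)).to_subgroup (S.map π))
    have hdv : p ∣ Nat.card (S.map π) := by
      rw [he] at h2 ⊢
      exact dvd_pow_self p (by rintro rfl; simp at h2)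
    obtain ⟨z, hz, hz1⟩ := (hP.to_quotient (Subgroup.center P)).exists_fixed_point_of_prime_dvd_card_of_fixed_point
      (α := S.map π) hdv (a := 1) (fun x => map_one (MulAut.conjNormal x))
    have hzc : (z : P ⧸ Subgroup.center P) ∈ Subgroup.center (P ⧸ Subgroup.center P) := Subgroup.mem_center_iff.2 fun x => by
      have h1 := congrArg Subtype.val (hz x)
      change ((MulAut.conjNormal x z : S.map π) : P ⧸ Subgroup.center P) = z at h1
      rw [MulAut.conjNormal_apply] at h1
      exact mul_inv_eq_iff_eq_mul.1 h1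
    have hgen : Subgroup.zpowers (z : P ⧸ Subgroup.center P) = S.map π := by
      refine Subgroup.eq_of_le_of_card_ge (Subgroup.zpowers_le.2 z.2) (hsmall.trans ?_)
      rw [Nat.card_zpowers]
      have : orderOf (z : P ⧸ Subgroup.center P) ∣ Nat.card (S.map π) := Subgroup.orderOf_dvd_natCard _ z.2
      rw [he] at this
      obtain ⟨t, -, ht⟩ := (Nat.dvd_prime_pow hp.out).1 this
      rw [ht]
      refine Nat.le_self_pow (fun h0 => hz1 ?_) p
      subst h0
      rw [pow_zero, orderOf_eq_one_iff] at ht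
      exact Subtype.ext ht.symm
    exact Subgroup.mem_center_iff.1 (Subgroup.zpowers_le.2 hzc (by rw [hgen]; exact Subgroup.mem_map_of_mem π hx)) y
  have hcardZ2 : Nat.card ((Subgroup.center (P ⧸ Subgroup.center P)).comap (QuotientGroup.mk' (Subgroup.center P))) = p ^ 2 := by
    rw [CfsgLib.PCore.card_comap_mk', hZ, hZ2, sq]
  have e1 := Subgroup.eq_of_le_of_card_ge (huniq _ hDn (by rw [Nat.card_zpowers, hdo])) (by rw [hcardZ2, Nat.card_zpowers, hdo])
  have e2 := Subgroup.eq_of_le_of_card_ge (huniq U hUn hUc) (by rw [hcardZ2, hUc])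
  have hdU : d ∈ U := by rw [e2, ← e1]; exact Subgroup.mem_zpowers d
  have := orderOf_dvd_of_pow_eq_one (hUe.2 d hdU)
  rw [hdo] at this
  have := Nat.le_of_dvd hp.out.pos this
  have := hp.out.two_le
  nlinarith

end Class

section Main

open scoped commutatorElement

variable {L : Type*} [Group L] [Finite L] {p : ℕ} [hp : Fact p.Prime]

/-- A metacyclic group of order `p ^ 4` and exponent `p ^ 2`. -/
lemma square_facts {W : Type*} [Group W] [Finite W] (hp2 : p ≠ 2) (hmc : Cfsg.IsMetacyclic W)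
    (hc : Nat.card W = p ^ 4) (hexp : ∀ w : W, w ^ p ^ 2 = 1) (E : Subgroup W) (hEc : Nat.card E = p ^ 2)
    (hEmem : ∀ w : W, w ^ p = 1 ↔ w ∈ E) :
    E ≤ Subgroup.center W ∧ (∀ u v : W, (u * v) ^ p = u ^ p * v ^ p) ∧ (∀ e ∈ E, ∃ u : W, u ^ p = e) := by
  obtain ⟨K, hKn, hKc, hQc⟩ := hmc
  haveI := hKn
  haveI := hKc
  haveI := hQc
  have hP : IsPGroup p W := IsPGroup.of_card hc
  obtain ⟨x, hx⟩ := IsCyclic.exists_generator (α := K)
  obtain ⟨yb, hyb⟩ := IsCyclic.exists_generator (α := W ⧸ K)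
  obtain ⟨y, rfl⟩ := QuotientGroup.mk'_surjective K yb
  have hKx : Nat.card K = orderOf (x : W) := by
    rw [Subgroup.orderOf_coe, orderOf_eq_card_of_forall_mem_zpowers hx]
  have hQy : Nat.card (W ⧸ K) = orderOf (QuotientGroup.mk' K y) :=
    (orderOf_eq_card_of_forall_mem_zpowers hyb).symm
  have h1 : Nat.card K ≤ p ^ 2 := hKx ▸ orderOf_le_of_pow_eq_one (pow_pos hp.out.pos 2) (hexp _)
  have h2 : Nat.card (W ⧸ K) ≤ p ^ 2 :=
    hQy ▸ orderOf_le_of_pow_eq_one (pow_pos hp.out.pos 2) (by rw [← map_pow, hexp, map_one])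
  have h3 : Nat.card (W ⧸ K) * Nat.card K = p ^ 4 := by
    rw [← Subgroup.card_eq_card_quotient_mul_card_subgroup, hc]
  have hK : Nat.card K = p ^ 2 := le_antisymm h1 (Nat.le_of_mul_le_mul_left (a := p ^ 2)
    (by calc p ^ 2 * p ^ 2 = Nat.card (W ⧸ K) * Nat.card K := by rw [h3]; ring
      _ ≤ p ^ 2 * Nat.card K := Nat.mul_le_mul_right _ h2) (pow_pos hp.out.pos 2))
  have hQ : Nat.card (W ⧸ K) = p ^ 2 := by
    rw [hK, show p ^ 4 = p ^ 2 * p ^ 2 by ring] at h3
    exact Nat.eq_of_mul_eq_mul_right (pow_pos hp.out.pos 2) h3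
  obtain ⟨t, ht⟩ : ∃ r : ℤ, y * (x : W) * y⁻¹ = (x : W) ^ r := by
    obtain ⟨r, hr⟩ := Subgroup.mem_zpowers_iff.1 (hx ⟨y * x * y⁻¹, hKn.conj_mem _ x.2 y⟩)
    exact ⟨r, by rw [← SubgroupClass.coe_zpow, hr]⟩
  obtain ⟨r, hr⟩ : ∃ r : ℕ, y * (x : W) * y⁻¹ = (x : W) ^ r := by
    refine ⟨(t % (p ^ 2 : ℕ)).toNat, ?_⟩
    have hne : ((p ^ 2 : ℕ) : ℤ) ≠ 0 := by exact_mod_cast pow_ne_zero 2 hp.out.ne_zero
    rw [← zpow_natCast, Int.toNat_of_nonneg (Int.emod_nonneg _ hne), ht, ← hK, hKx, zpow_mod_orderOf]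
  have hiter : ∀ i : ℕ, y ^ i * (x : W) * (y ^ i)⁻¹ = (x : W) ^ (r ^ i) := by
    intro i
    induction i with
    | zero => simp
    | succ i ih =>
      rw [show y ^ (i + 1) * (x : W) * (y ^ (i + 1))⁻¹ = y * (y ^ i * (x : W) * (y ^ i)⁻¹) * y⁻¹ by
        rw [pow_succ']; group, ih, ← conj_pow, hr, ← pow_mul, ← pow_succ']
  have hxo : orderOf (x : W) = p ^ 2 := by rw [← hKx, hK]
  -- the automorphism has order dividing `p`
  have hrp : r ^ p ≡ 1 [MOD p ^ 2] := by
    have h := hiter (p ^ 2)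
    rw [hexp, one_mul, inv_one, mul_one] at h
    nth_rw 1 [← pow_one (x : W)] at h
    have h' := pow_eq_pow_iff_modEq.1 h
    rw [hxo] at h'
    have h'' : ((r : ZMod (p ^ 2))) ^ p ^ 2 = 1 := by
      rw [← Nat.cast_pow, ← Nat.cast_one, ZMod.natCast_eq_natCast_iff]
      exact h'.symm
    obtain ⟨w, hw⟩ := IsUnit.of_pow_eq_one h'' (pow_ne_zero 2 hp.out.ne_zero)
    have hw' : w ^ p ^ 2 = 1 := Units.ext (by rw [Units.val_pow_eq_pow_val, hw, h'', Units.val_one])
    haveI : NeZero (p ^ 2) := ⟨pow_ne_zero 2 hp.out.ne_zero⟩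
    have h5 : orderOf w ∣ p * (p - 1) := by
      have := orderOf_dvd_natCard w
      rwa [Nat.card_eq_fintype_card, ZMod.card_units_eq_totient, Nat.totient_prime_pow hp.out two_pos,
        show 2 - 1 = 1 from rfl, pow_one] at this
    have hcop : (p ^ 2).Coprime (p - 1) :=
      (hp.out.coprime_iff_not_dvd.2 fun hd => by
        have := Nat.le_of_dvd (by have := hp.out.two_le; omega) hd
        have := hp.out.two_le
        omega).pow_left 2
    have h6 : orderOf w ∣ p :=
      (hcop.coprime_dvd_left (orderOf_dvd_of_pow_eq_one hw')).dvd_of_dvd_mul_right h5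
    have h7 : ((r : ZMod (p ^ 2))) ^ p = 1 := by
      rw [← hw, ← Units.val_pow_eq_pow_val, orderOf_dvd_iff_pow_eq_one.1 h6, Units.val_one]
    rwa [← Nat.cast_pow, ← Nat.cast_one, ZMod.natCast_eq_natCast_iff] at h7
  have hr1 : r ≡ 1 [MOD p] := by
    have h := hrp.of_dvd (dvd_pow_self p two_ne_zero)
    rw [← ZMod.natCast_eq_natCast_iff, Nat.cast_pow, ZMod.pow_card] at h
    exact (ZMod.natCast_eq_natCast_iff _ _ _).1 h
  have hcent : ∀ z : W, z * (x : W) = x * z → z * y = y * z → z ∈ Subgroup.center W := by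
    intro z h1 h2
    refine Subgroup.mem_center_iff.2 fun g => ?_
    have hKz : ∀ k ∈ K, k * z = z * k := by
      intro k hk
      obtain ⟨j, hj⟩ := Subgroup.mem_zpowers_iff.1 (hx ⟨k, hk⟩)
      have hj' : (x : W) ^ j = k := by rw [← SubgroupClass.coe_zpow, hj]
      rw [← hj', ((show Commute z (x : W) from h1).zpow_right j).eq]
    obtain ⟨j, hj⟩ := Subgroup.mem_zpowers_iff.1 (hyb (QuotientGroup.mk' K g))
    rw [← map_zpow] at hj
    have hk : (y ^ j)⁻¹ * g ∈ K := QuotientGroup.eq.1 hj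
    calc g * z = y ^ j * (((y ^ j)⁻¹ * g) * z) := by group
      _ = y ^ j * (z * ((y ^ j)⁻¹ * g)) := by rw [hKz _ hk]
      _ = (y ^ j * z) * ((y ^ j)⁻¹ * g) := by rw [mul_assoc]
      _ = (z * y ^ j) * ((y ^ j)⁻¹ * g) := by rw [((show Commute z y from h2).zpow_right j).eq]
      _ = z * g := by group
  have hxp : (x : W) ^ p ∈ Subgroup.center W := by
    refine hcent _ (pow_mul_comm' _ _) ?_
    have h : y * (x : W) ^ p * y⁻¹ = (x : W) ^ p := by
      rw [← conj_pow, hr, ← pow_mul]
      refine pow_eq_pow_iff_modEq.2 ?_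
      rw [hxo, sq]
      have := Nat.ModEq.mul_right' p hr1
      rwa [one_mul] at this
    exact (mul_inv_eq_iff_eq_mul.1 h).symm
  have hyp : y ^ p ∈ Subgroup.center W := by
    refine hcent _ ?_ (pow_mul_comm' _ _)
    have h := hiter p
    rw [show (x : W) ^ (r ^ p) = (x : W) ^ 1 from pow_eq_pow_iff_modEq.2 (hxo.symm ▸ hrp), pow_one] at h
    exact mul_inv_eq_iff_eq_mul.1 h
  have hcm : ∀ u v : W, ⁅u, v⁆ ∈ Subgroup.center W := by
    have hcx : ⁅y, (x : W)⁆ ∈ Subgroup.center W := by
      obtain ⟨s, hs⟩ : p ∣ ((r : ℤ) - 1).natAbs := by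
        rw [← Int.natCast_dvd]
        have h := (Nat.modEq_iff_dvd.1 hr1.symm)
        simpa using h
      have he : ⁅y, (x : W)⁆ = (x : W) ^ ((r : ℤ) - 1) := by
        rw [commutatorElement_def, hr, zpow_sub, zpow_natCast, zpow_one]
      rw [he]
      rcases Int.natAbs_eq ((r : ℤ) - 1) with h | h <;> rw [h, hs]
      · rw [zpow_natCast, pow_mul]; exact Subgroup.pow_mem _ hxp s
      · rw [zpow_neg, zpow_natCast, pow_mul]; exact Subgroup.inv_mem _ (Subgroup.pow_mem _ hxp s)
    set π := QuotientGroup.mk' (Subgroup.center W)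
    have hxy : π y * π (x : W) = π (x : W) * π y := by
      have : π ⁅y, (x : W)⁆ = 1 := (QuotientGroup.eq_one_iff _).2 hcx
      rwa [map_commutatorElement, commutatorElement_eq_one_iff_mul_comm] at this
    have hgen : ∀ u : W, ∃ i j : ℤ, π u = π y ^ i * π (x : W) ^ j := by
      intro u
      obtain ⟨i, hi⟩ := Subgroup.mem_zpowers_iff.1 (hyb (QuotientGroup.mk' K u))
      rw [← map_zpow] at hi
      have hk : (y ^ i)⁻¹ * u ∈ K := QuotientGroup.eq.1 hi
      obtain ⟨j, hj⟩ := Subgroup.mem_zpowers_iff.1 (hx ⟨_, hk⟩)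
      have hj' : (x : W) ^ j = (y ^ i)⁻¹ * u := by rw [← SubgroupClass.coe_zpow, hj]
      refine ⟨i, j, ?_⟩
      rw [← map_zpow, ← map_zpow, ← map_mul, hj', mul_inv_cancel_left]
    intro u v
    rw [← QuotientGroup.eq_one_iff]
    change π ⁅u, v⁆ = 1
    rw [map_commutatorElement, commutatorElement_eq_one_iff_mul_comm]
    obtain ⟨i, j, hu⟩ := hgen u
    obtain ⟨k, l, hv⟩ := hgen v
    rw [hu, hv]
    have hc' : Commute (π y) (π (x : W)) := hxy
    exact ((((Commute.refl (π y)).zpow_zpow i k).mul_right (hc'.zpow_zpow i l)).mul_left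
      ((hc'.symm.zpow_zpow j k).mul_right ((Commute.refl (π (x : W))).zpow_zpow j l))).eq
  have hpc : ∀ u : W, u ^ p ∈ Subgroup.center W := by
    intro u
    obtain ⟨i, hi⟩ := Subgroup.mem_zpowers_iff.1 (hyb (QuotientGroup.mk' K u))
    rw [← map_zpow] at hi
    have hk : (y ^ i)⁻¹ * u ∈ K := QuotientGroup.eq.1 hi
    obtain ⟨j, hj⟩ := Subgroup.mem_zpowers_iff.1 (hx ⟨_, hk⟩)
    have hj' : (x : W) ^ j = (y ^ i)⁻¹ * u := by rw [← SubgroupClass.coe_zpow, hj]
    have hu : u = y ^ i * (x : W) ^ j := by rw [hj', mul_inv_cancel_left]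
    rw [hu, CfsgLib.PGroup.mul_pow_of_central (hcm _ _), ← zpow_natCast (y ^ i), ← zpow_natCast ((x : W) ^ j), ← zpow_mul,
      ← zpow_mul, mul_comm i, mul_comm j, zpow_mul, zpow_mul, zpow_natCast, zpow_natCast]
    exact mul_mem (mul_mem (Subgroup.zpow_mem _ hyp _) (Subgroup.zpow_mem _ hxp _)) (Subgroup.pow_mem _ (hcm _ _) _)
  have hmul : ∀ u v : W, (u * v) ^ p = u ^ p * v ^ p := fun u v =>
    CfsgLib.PGroup.mul_pow_odd_of_central (hp.out.odd_of_ne_two hp2) (hcm v u)
      (CfsgLib.PGroup.commutatorElement_pow_eq_one_of_pow_central (hcm v u) (hpc v))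
  let φ : W →* W := MonoidHom.mk' (fun u => u ^ p) hmul
  have hker : φ.ker = E := by ext w; exact hEmem w
  have hrange : φ.range = E := by
    refine Subgroup.eq_of_le_of_card_ge ?_ ?_
    · rintro _ ⟨u, rfl⟩
      refine (hEmem _).1 ?_
      change (u ^ p) ^ p = 1
      rw [← pow_mul, ← sq, hexp]
    · rw [← Subgroup.index_ker φ, hker]
      have h := E.card_mul_index
      rw [hEc, hc, show p ^ 4 = p ^ 2 * p ^ 2 by ring] at h
      rw [hEc, Nat.eq_of_mul_eq_mul_left (pow_pos hp.out.pos 2) h]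
  refine ⟨fun e he => ?_, hmul, fun e he => ?_⟩
  · obtain ⟨u, rfl⟩ : e ∈ φ.range := hrange.symm ▸ he
    exact hpc u
  · obtain ⟨u, rfl⟩ : e ∈ φ.range := hrange.symm ▸ he
    exact ⟨u, rfl⟩

/-- `Ω₁` of a non-cyclic metacyclic `p`-group. -/
lemma omega_card (hp2 : p ≠ 2) (hL : IsPGroup p L) (hmc : Cfsg.IsMetacyclic L) (hnc : ¬ IsCyclic L) :
    ∃ E : Subgroup L, (∀ x, x ^ p = 1 ↔ x ∈ E) ∧ Nat.card E = p ^ 2 ∧ E.Normal ∧ (∀ a b : L, a ∈ E → b ∈ E → a * b = b * a) := by
  obtain ⟨E, hEe, hEc, hEall⟩ := CfsgLib.OddOrder41.metacyclic_omega hp2 hL hmc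
  have hmem : ∀ x, x ^ p = 1 ↔ x ∈ E := fun x => ⟨hEall x, fun hx => hEe.2 x hx⟩
  obtain ⟨x, y, hx1, hx, hy, hxy⟩ : ∃ x y : L, x ≠ 1 ∧ x ^ p = 1 ∧ y ^ p = 1 ∧ y ∉ Subgroup.zpowers x := by
    by_contra hcon
    push Not at hcon
    exact hnc (CfsgLib.ConstStab.isCyclic_of_unique_prime_subgroup hp2 hL fun x y h1 h2 h3 => hcon x y h1 h2 h3)
  refine ⟨E, hmem, ?_, ⟨fun z hz g => ?_⟩, fun a b ha hb => ?_⟩
  · refine le_antisymm hEc ?_
    obtain ⟨k, hk⟩ := IsPGroup.iff_card.1 (hL.to_subgroup E)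
    have hlt : Nat.card (Subgroup.zpowers x) < Nat.card E := by
      refine lt_of_le_of_ne (Subgroup.card_le_of_le (Subgroup.zpowers_le.2 ((hmem x).1 hx))) fun h => hxy ?_
      rw [Subgroup.eq_of_le_of_card_ge (Subgroup.zpowers_le.2 ((hmem x).1 hx)) h.ge]
      exact (hmem y).1 hy
    rw [Nat.card_zpowers, orderOf_eq_prime hx hx1, hk] at hlt
    rw [hk]
    refine Nat.pow_le_pow_right hp.out.pos ?_
    by_contra h
    push Not at h
    have := Nat.pow_le_pow_right hp.out.pos (show k ≤ 1 by omega)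
    rw [pow_one] at this
    omega
  · exact (hmem _).1 (by rw [conj_pow, (hmem z).2 hz, mul_one, mul_inv_cancel])
  · haveI := hEe.1
    exact congrArg Subtype.val (mul_comm' (⟨a, ha⟩ : E) ⟨b, hb⟩)

omit hp in
lemma conj_inl (a : MulAut L) (x : L) :
    (SemidirectProduct.inr ⟨a, Subgroup.mem_zpowers a⟩ : SemidirectProduct L ↥(Subgroup.zpowers a) (Subgroup.zpowers a).subtype) *
      SemidirectProduct.inl x * (SemidirectProduct.inr ⟨a, Subgroup.mem_zpowers a⟩)⁻¹ = SemidirectProduct.inl (a x) := by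
  rw [← map_inv, ← SemidirectProduct.inl_aut]
  rfl

/-- An automorphism fixing `Ω₁` cannot give maximal class. -/
lemma not_max_class (hp2 : p ≠ 2) (hL : IsPGroup p L) (hmc : Cfsg.IsMetacyclic L)
    (hnc : ∀ C : Subgroup L, IsCyclic C → C.index ≠ p) (a : MulAut L) (ha : orderOf a = p) (m : ℕ)
    (hm : Nat.card L = p ^ m) (hfix : ∀ x : L, x ^ p = 1 → a x = x) :
    Group.nilpotencyClass (SemidirectProduct L ↥(Subgroup.zpowers a) (Subgroup.zpowers a).subtype) ≠ m := by
  intro hcl
  set G := SemidirectProduct L ↥(Subgroup.zpowers a) (Subgroup.zpowers a).subtype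
  change Group.nilpotencyClass G = m at hcl
  haveI : Finite G := Finite.of_equiv _ SemidirectProduct.equivProd.symm
  have hGc : Nat.card G = p ^ (m + 1) := by
    rw [Nat.card_congr SemidirectProduct.equivProd, Nat.card_prod, hm, Nat.card_zpowers, ha, pow_succ]
  have hGp : IsPGroup p G := IsPGroup.of_card hGc
  have hncL : ¬ IsCyclic L := fun hc => by
    haveI := hc
    obtain ⟨g, hg⟩ := IsCyclic.exists_generator (α := L)
    rcases Nat.eq_zero_or_pos m with rfl | hm0
    · haveI : Subsingleton L := (Nat.card_eq_one_iff_unique.1 (by rw [hm, pow_zero])).1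
      haveI : Subsingleton (MulAut L) := ⟨fun f h => MulEquiv.ext fun x => Subsingleton.elim _ _⟩
      rw [Subsingleton.elim a 1, orderOf_one] at ha
      exact hp.out.ne_one ha.symm
    refine hnc (Subgroup.zpowers (g ^ p)) inferInstance ?_
    have hgo : orderOf g = p ^ m := by rw [orderOf_eq_card_of_forall_mem_zpowers hg, hm]
    have h := (Subgroup.zpowers (g ^ p)).card_mul_index
    rw [Nat.card_zpowers, orderOf_pow_of_dvd hp.out.ne_zero (hgo ▸ dvd_pow_self p hm0.ne'), hgo, hm] at h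
    have hm' : p ^ m = p ^ (m - 1) * p := by rw [← pow_succ, Nat.sub_add_cancel hm0]
    rw [hm', Nat.mul_div_cancel _ hp.out.pos] at h
    exact Nat.eq_of_mul_eq_mul_left (pow_pos hp.out.pos _) h
  obtain ⟨E, hEmem, hEc, hEn, hEcomm⟩ := omega_card hp2 hL hmc hncL
  have hm4 : 4 ≤ m := by
    have h2m : 2 ≤ m := (Nat.pow_le_pow_iff_right hp.out.one_lt).1 (hm ▸ hEc ▸ Subgroup.card_le_card_group E)
    by_contra h
    obtain ⟨g, hg⟩ : ∃ g : L, p ^ (m - 1) ≤ orderOf g := by
      interval_cases m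
      · obtain ⟨g, hg⟩ : ∃ g : L, g ≠ 1 := by
          haveI : Nontrivial L := Finite.one_lt_card_iff_nontrivial.1 (hm ▸ Nat.one_lt_pow two_ne_zero hp.out.one_lt)
          exact exists_ne 1
        obtain ⟨k, hk⟩ := IsPGroup.iff_orderOf.1 hL g
        refine ⟨g, ?_⟩
        rw [hk]
        refine Nat.pow_le_pow_right hp.out.pos ?_
        rcases Nat.eq_zero_or_pos k with rfl | hk0
        · exact absurd (orderOf_eq_one_iff.1 (by rw [hk, pow_zero])) hg
        · omega
      · obtain ⟨g, hg⟩ : ∃ g : L, g ∉ E := by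
          by_contra hcon
          push Not at hcon
          have h1 : E = ⊤ := top_le_iff.1 fun x _ => hcon x
          rw [h1, Subgroup.card_top, hm] at hEc
          have := Nat.pow_right_injective hp.out.two_le hEc
          omega
        obtain ⟨k, hk⟩ := IsPGroup.iff_orderOf.1 hL g
        refine ⟨g, ?_⟩
        rw [hk]
        refine Nat.pow_le_pow_right hp.out.pos ?_
        by_contra hk1
        apply hg
        rw [← hEmem]
        refine orderOf_dvd_iff_pow_eq_one.1 (hk ▸ ?_)
        calc p ^ k ∣ p ^ 1 := pow_dvd_pow p (by omega)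
          _ = p := pow_one p
    obtain ⟨k, hk⟩ := IsPGroup.iff_orderOf.1 hL g
    have hkm : m - 1 ≤ k := (Nat.pow_le_pow_iff_right hp.out.one_lt).1 (hk ▸ hg)
    have hidx := (Subgroup.zpowers (g ^ p ^ (k - (m - 1)))).card_mul_index
    rw [Nat.card_zpowers, orderOf_pow_of_dvd (pow_ne_zero _ hp.out.ne_zero) (hk ▸ pow_dvd_pow p (Nat.sub_le _ _)), hk,
      Nat.pow_div (Nat.sub_le _ _) hp.out.pos, show k - (k - (m - 1)) = m - 1 by omega, hm] at hidx
    refine hnc (Subgroup.zpowers (g ^ p ^ (k - (m - 1)))) inferInstance (Nat.eq_of_mul_eq_mul_left (pow_pos hp.out.pos (m - 1)) ?_)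
    rw [hidx, ← pow_succ, Nat.sub_add_cancel (by omega)]
  set i : L →* G := SemidirectProduct.inl
  have hi : Function.Injective i := SemidirectProduct.inl_injective
  have hnormal : ∀ S : Subgroup L, S.Characteristic → (S.map i).Normal := by
    intro S hS
    haveI : i.range.Normal := by
      rw [SemidirectProduct.range_inl_eq_ker_rightHom]; infer_instance
    haveI : (S.map i.rangeRestrict).Characteristic := by
      let e : L ≃* i.range := MonoidHom.ofInjective hi
      refine Subgroup.characteristic_iff_map_le.2 fun φ => ?_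
      rintro _ ⟨_, ⟨s, hs, rfl⟩, rfl⟩
      refine ⟨e.symm (φ (e s)), ?_, ?_⟩
      · exact Subgroup.characteristic_iff_map_le.1 hS ((e.trans φ).trans e.symm) ⟨s, hs, rfl⟩
      · exact e.apply_symm_apply _
    have h := ConjAct.normal_of_characteristic_of_normal (H := i.range) (K := S.map i.rangeRestrict)
    rwa [Subgroup.map_map] at h
  have hsmall : ∀ S : Subgroup L, S.Characteristic → IsCyclic S → Nat.card S ≤ p := by
    intro S hS hScyc
    haveI := hnormal S hS
    haveI : IsCyclic (S.map i) := isCyclic_of_surjective (i.subgroupMap S) (MonoidHom.subgroupMap_surjective i S)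
    have := not_cyclic_normal hp2 hGp hGc (by omega) (by omega) (S.map i)
    rwa [Subgroup.card_map_of_injective hi] at this
  obtain ⟨N, hNn, hNc, hQc⟩ := hmc
  haveI := hNn; haveI := hNc; haveI := hQc
  have hL' : commutator L ≤ N := by
    rw [commutator_def, Subgroup.commutator_le]
    intro u _ v _
    rw [← QuotientGroup.eq_one_iff]
    change QuotientGroup.mk' N ⁅u, v⁆ = 1
    letI : CommGroup (L ⧸ N) := IsCyclic.commGroup
    rw [map_commutatorElement, commutatorElement_eq_one_iff_mul_comm, mul_comm]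
  haveI : IsCyclic (commutator L) := Subgroup.isCyclic_of_le hL'
  have hL'c := hsmall (commutator L) inferInstance inferInstance
  have hL'cen : commutator L ≤ Subgroup.center L := by
    intro c hc
    refine Subgroup.mem_center_iff.2 fun g => ?_
    letI : MulAction L (commutator L) := MulAction.compHom (commutator L) (MulAut.conjNormal : L →* MulAut (commutator L))
    rcases eq_or_ne c 1 with rfl | hc1
    · simp
    obtain ⟨k, hk⟩ := IsPGroup.iff_card.1 (hL.to_subgroup (commutator L))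
    have hdv : p ∣ Nat.card (commutator L) := by
      rw [hk]
      refine dvd_pow_self p ?_
      rintro rfl
      haveI := (Nat.card_eq_one_iff_unique.1 (hk.trans (pow_zero p))).1
      exact hc1 (congrArg Subtype.val (Subsingleton.elim (⟨c, hc⟩ : commutator L) 1))
    obtain ⟨z, hz, hz1⟩ := hL.exists_fixed_point_of_prime_dvd_card_of_fixed_point (α := commutator L) hdv
      (a := 1) (fun x => map_one (MulAut.conjNormal x))
    have hgen : Subgroup.zpowers (z : L) = commutator L := by
      refine Subgroup.eq_of_le_of_card_ge (Subgroup.zpowers_le.2 z.2) (hL'c.trans ?_)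
      rw [Nat.card_zpowers]
      obtain ⟨t, ht⟩ := IsPGroup.iff_orderOf.1 hL (z : L)
      rw [ht]
      refine Nat.le_self_pow (fun h0 => hz1 ?_) p
      subst h0
      rw [pow_zero, orderOf_eq_one_iff] at ht
      exact Subtype.ext ht.symm
    have hzc : (z : L) ∈ Subgroup.center L := Subgroup.mem_center_iff.2 fun x => by
      have h1 := congrArg Subtype.val (hz x)
      change ((MulAut.conjNormal x z : commutator L) : L) = z at h1
      rw [MulAut.conjNormal_apply] at h1
      exact mul_inv_eq_iff_eq_mul.1 h1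
    exact Subgroup.mem_center_iff.1 (Subgroup.zpowers_le.2 hzc (by rw [hgen]; exact hc)) g
  have hcp : ∀ c ∈ commutator L, c ^ p = 1 := by
    intro c hc
    obtain ⟨k, hk⟩ := IsPGroup.iff_card.1 (hL.to_subgroup (commutator L))
    have h1 : Nat.card (commutator L) ∣ p := by
      have hk1 : k ≤ 1 := (Nat.pow_le_pow_iff_right hp.out.one_lt).1 (by rw [pow_one, ← hk]; exact hL'c)
      rw [hk]
      calc p ^ k ∣ p ^ 1 := pow_dvd_pow p hk1
        _ = p := pow_one p
    exact orderOf_dvd_iff_pow_eq_one.1 ((Subgroup.orderOf_dvd_natCard _ hc).trans h1)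
  let φ : L →* L := MonoidHom.mk' (fun u => u ^ p) (fun u v =>
    CfsgLib.PGroup.mul_pow_odd_of_central (hp.out.odd_of_ne_two hp2)
      (hL'cen (Subgroup.commutator_mem_commutator (Subgroup.mem_top v) (Subgroup.mem_top u)))
      (hcp _ (Subgroup.commutator_mem_commutator (Subgroup.mem_top v) (Subgroup.mem_top u))))
  have hker : φ.ker = E := by ext w; exact hEmem w
  have hIcen : φ.range ≤ Subgroup.center L := by
    rintro _ ⟨u, rfl⟩
    refine Subgroup.mem_center_iff.2 fun g => ?_
    have hc : ⁅u, g⁆ ∈ Subgroup.center L :=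
      hL'cen (Subgroup.commutator_mem_commutator (Subgroup.mem_top u) (Subgroup.mem_top g))
    have h1 : ⁅u ^ p, g⁆ = 1 := by
      rw [CfsgLib.PGroup.commutatorElement_pow_left_of_central hc, hcp _ (Subgroup.commutator_mem_commutator (Subgroup.mem_top u) (Subgroup.mem_top g))]
    exact (commutatorElement_eq_one_iff_mul_comm.1 h1).symm
  haveI hIchar : φ.range.Characteristic := by
    refine Subgroup.characteristic_iff_map_le.2 fun σ => ?_
    rintro _ ⟨_, ⟨u, rfl⟩, rfl⟩
    exact ⟨σ u, (map_pow σ u p).symm⟩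
  have hIc : Nat.card φ.range * p ^ 2 = p ^ m := by
    rw [← Subgroup.index_ker φ, hker, ← hEc, mul_comm, E.card_mul_index, hm]
  have hInc : ¬ IsCyclic φ.range := fun h => by
    have h1 := hsmall φ.range hIchar h
    have h2 : p ^ m ≤ p ^ 3 := by
      rw [← hIc]
      calc Nat.card φ.range * p ^ 2 ≤ p * p ^ 2 := Nat.mul_le_mul_right _ h1
        _ = p ^ 3 := by ring
    have := (Nat.pow_le_pow_iff_right hp.out.one_lt).1 h2
    omega
  have hEI : E ≤ φ.range := by
    obtain ⟨x, y, hx1, hx, hy, hxy⟩ : ∃ x y : φ.range, x ≠ 1 ∧ x ^ p = 1 ∧ y ^ p = 1 ∧ y ∉ Subgroup.zpowers x := by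
      by_contra hcon
      push Not at hcon
      exact hInc (CfsgLib.ConstStab.isCyclic_of_unique_prime_subgroup hp2 (hL.to_subgroup _) fun x y h1 h2 h3 => hcon x y h1 h2 h3)
    have hin : ∀ z : φ.range, z ^ p = 1 → (z : L) ∈ E ⊓ φ.range := fun z hz =>
      ⟨(hEmem _).1 (by rw [← SubgroupClass.coe_pow, hz]; rfl), z.2⟩
    have hle : Subgroup.zpowers (x : L) ≤ E ⊓ φ.range := Subgroup.zpowers_le.2 (hin x hx)
    have hlt : Nat.card (Subgroup.zpowers (x : L)) < Nat.card (E ⊓ φ.range : Subgroup L) := by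
      refine lt_of_le_of_ne (Subgroup.card_le_of_le hle) fun h => hxy ?_
      have h1 := hin y hy
      rw [← Subgroup.eq_of_le_of_card_ge hle h.ge] at h1
      obtain ⟨j, hj⟩ := Subgroup.mem_zpowers_iff.1 h1
      exact Subgroup.mem_zpowers_iff.2 ⟨j, Subtype.ext (by rw [SubgroupClass.coe_zpow]; exact hj)⟩
    obtain ⟨k, hk⟩ := IsPGroup.iff_card.1 (hL.to_subgroup (E ⊓ φ.range))
    rw [Nat.card_zpowers, Subgroup.orderOf_coe, orderOf_eq_prime hx hx1, hk] at hlt
    have hk2 : 2 ≤ k := by
      by_contra h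
      have := Nat.pow_le_pow_right hp.out.pos (show k ≤ 1 by omega)
      rw [pow_one] at this
      omega
    have h := Subgroup.eq_of_le_of_card_ge (inf_le_left : E ⊓ φ.range ≤ E) (by
      rw [hk, hEc]; exact Nat.pow_le_pow_right hp.out.pos hk2)
    exact h ▸ inf_le_right
  have hEZ : E.map i ≤ Subgroup.center G := by
    rintro _ ⟨e, he, rfl⟩
    have hEc' : i.range ≤ Subgroup.centralizer ({i e} : Set G) := by
      rintro _ ⟨u, rfl⟩
      rw [Subgroup.mem_centralizer_singleton_iff, ← map_mul, ← map_mul, Subgroup.mem_center_iff.1 (hIcen (hEI he)) u]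
    have hAc : (SemidirectProduct.inr ⟨a, Subgroup.mem_zpowers a⟩ : G) ∈ Subgroup.centralizer ({i e} : Set G) := by
      rw [Subgroup.mem_centralizer_singleton_iff, ← mul_inv_eq_iff_eq_mul]
      change _ = i e
      rw [conj_inl, hfix e ((hEmem e).2 he)]
    refine Subgroup.mem_center_iff.2 fun g => ?_
    have hg : g ∈ Subgroup.centralizer ({i e} : Set G) := by
      rw [← SemidirectProduct.inl_left_mul_inr_right g]
      refine mul_mem (hEc' ⟨g.left, rfl⟩) ?_
      obtain ⟨j, hj⟩ := Subgroup.mem_zpowers_iff.1 g.right.2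
      have hr : g.right = (⟨a, Subgroup.mem_zpowers a⟩ : Subgroup.zpowers a) ^ j := Subtype.ext (by
        rw [SubgroupClass.coe_zpow]; exact hj.symm)
      rw [hr, map_zpow]
      exact Subgroup.zpow_mem _ hAc j
    exact Subgroup.mem_centralizer_singleton_iff.1 hg
  obtain ⟨hZ, -, -⟩ := card_center_of_class hGp hGc (by omega) (by omega)
  have h1 := Subgroup.card_le_of_le hEZ
  rw [Subgroup.card_map_of_injective hi, hEc, hZ] at h1
  have := hp.out.two_le
  nlinarith

/-- Moving an element of order `p` forces `p = 3` and maximal class. -/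
lemma moved (hp2 : p ≠ 2) (hL : IsPGroup p L) (hmc : Cfsg.IsMetacyclic L)
    (hnc : ∀ C : Subgroup L, IsCyclic C → C.index ≠ p) (a : MulAut L) (ha : orderOf a = p) (m : ℕ)
    (hm : Nat.card L = p ^ m) (e₀ : L) (he₀ : e₀ ^ p = 1) (hmove : a e₀ ≠ e₀) :
    p = 3 ∧ Group.nilpotencyClass (SemidirectProduct L ↥(Subgroup.zpowers a) (Subgroup.zpowers a).subtype) = m := by
  have hm1 : 1 ≤ m := by
    rcases Nat.eq_zero_or_pos m with rfl | h
    · haveI : Subsingleton L := (Nat.card_eq_one_iff_unique.1 (by rw [hm, pow_zero])).1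
      exact absurd (Subsingleton.elim _ _) hmove
    · exact h
  have hncL : ¬ IsCyclic L := fun hc => by
    haveI := hc
    obtain ⟨g, hg⟩ := IsCyclic.exists_generator (α := L)
    refine hnc (Subgroup.zpowers (g ^ p)) inferInstance ?_
    have hgo : orderOf g = p ^ m := by rw [orderOf_eq_card_of_forall_mem_zpowers hg, hm]
    have h := (Subgroup.zpowers (g ^ p)).card_mul_index
    rw [Nat.card_zpowers, orderOf_pow_of_dvd hp.out.ne_zero (hgo ▸ dvd_pow_self p (Nat.one_le_iff_ne_zero.1 hm1)), hgo, hm] at h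
    have hm' : p ^ m = p ^ (m - 1) * p := by rw [← pow_succ, Nat.sub_add_cancel hm1]
    rw [hm', Nat.mul_div_cancel _ hp.out.pos] at h
    exact Nat.eq_of_mul_eq_mul_left (pow_pos hp.out.pos _) h
  obtain ⟨E, hEmem, hEc, hEn, hEcomm⟩ := omega_card hp2 hL hmc hncL
  haveI := hEn
  have hm3 : 3 ≤ m := by
    by_contra h
    have h2 : m ≤ 2 := by omega
    have hE : E = ⊤ := Subgroup.eq_top_of_le_card E (hm ▸ hEc ▸ Nat.pow_le_pow_right hp.out.pos h2)
    refine hnc (Subgroup.zpowers e₀) inferInstance ?_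
    have h1 : Nat.card L = p ^ 2 := by rw [← Subgroup.card_top, ← hE, hEc]
    have h3 := (Subgroup.zpowers e₀).card_mul_index
    rw [Nat.card_zpowers, orderOf_eq_prime he₀ (fun h0 => hmove (by rw [h0, map_one])), h1, sq] at h3
    exact Nat.eq_of_mul_eq_mul_left hp.out.pos h3
  set π := QuotientGroup.mk' E
  have hncQ : ¬ IsCyclic (L ⧸ E) := fun hc => by
    haveI := hc
    obtain ⟨g, hg⟩ := IsCyclic.exists_generator (α := L ⧸ E)
    obtain ⟨g, rfl⟩ := QuotientGroup.mk'_surjective E g
    set C := Subgroup.zpowers g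
    have htop : C ⊔ E = ⊤ := by
      rw [eq_top_iff]
      intro u _
      obtain ⟨j, hj⟩ := Subgroup.mem_zpowers_iff.1 (hg (π u))
      rw [← map_zpow] at hj
      rw [show u = g ^ j * ((g ^ j)⁻¹ * u) by group]
      exact mul_mem (Subgroup.mem_sup_left (Subgroup.zpow_mem _ (Subgroup.mem_zpowers g) j))
        (Subgroup.mem_sup_right (QuotientGroup.eq.1 hj))
    have hg1 : g ≠ 1 := fun h => by
      have : C = ⊥ := Subgroup.zpowers_eq_bot.2 h
      rw [this, bot_sup_eq] at htop
      rw [htop, Subgroup.card_top, hm] at hEc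
      have := Nat.pow_right_injective hp.out.two_le hEc
      omega
    have hcs := CfsgLib.Coprime.card_sup_mul_card_inf (H := C) (N := E) (by rw [Subgroup.normalizer_eq_top]; exact le_top)
    rw [htop, Subgroup.card_top, hEc, ← C.card_mul_index] at hcs
    obtain ⟨k, hk⟩ := IsPGroup.iff_orderOf.1 hL g
    have hk0 : k ≠ 0 := by rintro rfl; exact hg1 (orderOf_eq_one_iff.1 (by rw [hk, pow_zero]))
    obtain ⟨j, hj⟩ := IsPGroup.iff_card.1 (hL.to_subgroup (E ⊓ C))
    have hj1 : 1 ≤ j := by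
      by_contra h0
      obtain rfl : j = 0 := by omega
      have hmem : g ^ p ^ (k - 1) ∈ E ⊓ C := ⟨(hEmem _).1 (by
        rw [← pow_mul, ← pow_succ, Nat.sub_add_cancel (Nat.one_le_iff_ne_zero.2 hk0), ← hk, pow_orderOf_eq_one]),
        Subgroup.pow_mem _ (Subgroup.mem_zpowers g) _⟩
      rw [Subgroup.eq_bot_of_card_eq _ (hj.trans (pow_zero p)), Subgroup.mem_bot] at hmem
      have := orderOf_dvd_of_pow_eq_one hmem
      rw [hk, Nat.pow_dvd_pow_iff_le_right hp.out.one_lt] at this
      omega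
    rw [hj, mul_assoc] at hcs
    have hidx : C.index * p ^ j = p ^ 2 := Nat.eq_of_mul_eq_mul_left (Nat.card_pos (α := C)) hcs
    obtain ⟨l, -, hl⟩ := (Nat.dvd_prime_pow hp.out).1 (Dvd.intro _ hidx : C.index ∣ p ^ 2)
    rw [hl, ← pow_add] at hidx
    have := Nat.pow_right_injective hp.out.two_le hidx
    rcases Nat.lt_or_ge l 1 with h0 | h0
    · obtain rfl : l = 0 := by omega
      exact hncL ⟨⟨g, fun u => by
        have h := Subgroup.index_eq_one.1 (hl.trans (pow_zero p))
        exact (h ▸ Subgroup.mem_top u : u ∈ C)⟩⟩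
    · exact hnc C inferInstance (by rw [hl, show l = 1 by omega, pow_one])
  obtain ⟨E2, hE2mem, hE2c, hE2n, -⟩ := omega_card hp2 (hL.to_quotient E)
    (CfsgLib.OddOrder41.isMetacyclic_of_surjective π (QuotientGroup.mk'_surjective E) hmc) hncQ
  set W := E2.comap π with hW
  have hWmem : ∀ u : L, u ∈ W ↔ u ^ p ∈ E := fun u => by
    rw [hW, Subgroup.mem_comap, ← hE2mem, ← map_pow]
    exact QuotientGroup.eq_one_iff _
  have hEW : E ≤ W := fun u hu => (hWmem u).2 (E.pow_mem hu p)
  have hWc : Nat.card W = p ^ 4 := by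
    rw [hW, CfsgLib.PCore.card_comap_mk', hEc, hE2c]; ring
  obtain ⟨hWcen, hWmul, hWroot⟩ := square_facts (W := W) hp2
    (CfsgLib.OddOrder41.isMetacyclic_of_injective W.subtype W.subtype_injective hmc) hWc
    (fun w => Subtype.ext (by rw [SubgroupClass.coe_pow, sq, pow_mul, OneMemClass.coe_one]; exact (hEmem _).2 ((hWmem _).1 w.2)))
    (E.subgroupOf W) (by rw [CfsgLib.Coprime.card_subgroupOf hEW, hEc])
    (fun w => by rw [Subgroup.mem_subgroupOf, ← hEmem, Subtype.ext_iff, SubgroupClass.coe_pow, OneMemClass.coe_one])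
  have hcenW : ∀ e ∈ E, ∀ u ∈ W, u * e = e * u := fun e he u hu =>
    congrArg Subtype.val (Subgroup.mem_center_iff.1 (hWcen (show (⟨e, hEW he⟩ : W) ∈ E.subgroupOf W from he)) ⟨u, hu⟩)
  have hmulW : ∀ u ∈ W, ∀ v ∈ W, (u * v) ^ p = u ^ p * v ^ p := fun u hu v hv => by
    simpa using congrArg Subtype.val (hWmul ⟨u, hu⟩ ⟨v, hv⟩)
  have haE : ∀ e ∈ E, a e ∈ E := fun e he => (hEmem _).1 (by rw [← map_pow, (hEmem e).2 he, map_one])
  have haW : ∀ u ∈ W, a u ∈ W := fun u hu => (hWmem _).2 (by rw [← map_pow]; exact haE _ ((hWmem u).1 hu))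
  have hap : ∀ x : L, (a ^ p) x = x := fun x => by rw [← ha, pow_orderOf_eq_one, MulAut.one_apply]
  -- the kernel and the image of `e ↦ e⁻¹ a(e)`
  let δ : E →* E := MonoidHom.mk' (fun e => ⟨(e : L)⁻¹ * a e, E.mul_mem (E.inv_mem e.2) (haE e e.2)⟩) (fun e f => Subtype.ext (by
    change ((e : L) * f)⁻¹ * a ((e : L) * f) = ((e : L)⁻¹ * a e) * ((f : L)⁻¹ * a f)
    rw [map_mul]
    calc ((e : L) * f)⁻¹ * (a e * a f) = (f : L)⁻¹ * ((e : L)⁻¹ * a e) * a f := by group
      _ = ((e : L)⁻¹ * a e) * (f : L)⁻¹ * a f := by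
        rw [hEcomm _ _ (E.inv_mem f.2) (E.mul_mem (E.inv_mem e.2) (haE e e.2))]
      _ = _ := by group))
  have hδ : ∀ e : E, ((δ e : E) : L) = (e : L)⁻¹ * a e := fun _ => rfl
  have he₀E : e₀ ∈ E := (hEmem _).1 he₀
  obtain ⟨z, hz⟩ : ∃ z : L, z = e₀⁻¹ * a e₀ := ⟨_, rfl⟩
  have hz1 : z ≠ 1 := fun h => hmove (inv_mul_eq_one.1 (hz ▸ h)).symm
  have hzE : z ∈ E := hz ▸ E.mul_mem (E.inv_mem he₀E) (haE _ he₀E)
  have hkey : ∀ e : E, δ (δ e) = 1 := by
    intro e
    haveI : Fact p.Prime := hp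
    have hEp : IsPGroup p E := hL.to_subgroup E
    -- the image is a proper subgroup, hence of order at most `p`
    have hlt : Nat.card δ.range < p ^ 2 := by
      rw [← hEc]
      refine lt_of_le_of_ne (Subgroup.card_le_card_group _) fun h => ?_
      have hsurj : Function.Surjective δ := MonoidHom.range_eq_top.1 (Subgroup.eq_top_of_card_eq _ h)
      have hinj : Function.Injective δ := (Finite.injective_iff_surjective (α := E)).2 hsurj
      letI : MulAction (Subgroup.zpowers a) E :=
        { smul := fun g x => ⟨(g : MulAut L) x, (hEmem _).1 (by rw [← map_pow, (hEmem _).2 x.2, map_one])⟩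
          one_smul := fun x => Subtype.ext rfl
          mul_smul := fun g h x => Subtype.ext rfl }
      have hA : IsPGroup p (Subgroup.zpowers a) := IsPGroup.of_card (n := 1) (by rw [Nat.card_zpowers, ha, pow_one])
      obtain ⟨f, hf, hf1⟩ := hA.exists_fixed_point_of_prime_dvd_card_of_fixed_point (α := E) (hEc ▸ dvd_pow_self p two_ne_zero)
        (a := 1) (fun g => Subtype.ext (map_one (g : MulAut L)))
      have hfa : a (f : L) = f := congrArg Subtype.val (hf ⟨a, Subgroup.mem_zpowers a⟩)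
      exact hf1 (hinj (by rw [map_one]; exact (Subtype.ext (by rw [hδ, hfa, inv_mul_cancel, OneMemClass.coe_one]) : δ f = 1))).symm
    obtain ⟨k, hk⟩ := IsPGroup.iff_card.1 (hEp.to_subgroup δ.range)
    have hk1 : k ≤ 1 := by
      by_contra h
      exact absurd hlt (not_lt.2 (hk ▸ Nat.pow_le_pow_right hp.out.pos (by omega)))
    letI : MulAction (Subgroup.zpowers a) E :=
      { smul := fun g x => ⟨(g : MulAut L) x, (hEmem _).1 (by rw [← map_pow, (hEmem _).2 x.2, map_one])⟩
        one_smul := fun x => Subtype.ext rfl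
        mul_smul := fun g h x => Subtype.ext rfl }
    -- `a` has a fixed point in the image
    by_contra hne
    have hinjR : ∀ x ∈ δ.range, δ x = 1 → x = 1 := by
      intro x hx hx1
      by_contra hxne
      apply hne
      have hgen : Subgroup.zpowers x = δ.range := by
        refine Subgroup.eq_of_le_of_card_ge (Subgroup.zpowers_le.2 hx) ?_
        rw [hk, Nat.card_zpowers]
        obtain ⟨t, ht⟩ := IsPGroup.iff_orderOf.1 hEp x
        rw [ht]
        refine Nat.pow_le_pow_right hp.out.pos (hk1.trans ?_)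
        rcases Nat.eq_zero_or_pos t with rfl | h
        · exact absurd (orderOf_eq_one_iff.1 (ht.trans (pow_zero p))) hxne
        · omega
      obtain ⟨j, hj⟩ := Subgroup.mem_zpowers_iff.1 (hgen.symm ▸ (⟨e, rfl⟩ : δ e ∈ δ.range) : δ e ∈ Subgroup.zpowers x)
      rw [← hj, map_zpow, hx1, one_zpow]
    letI : MulAction (Subgroup.zpowers a) δ.range :=
      { smul := fun g x => ⟨g • (x : E), by
          obtain ⟨y, hy⟩ := x.2
          refine ⟨g • y, ?_⟩
          rw [← hy]
          apply Subtype.ext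
          change ((g : MulAut L) (y : L))⁻¹ * a ((g : MulAut L) (y : L)) = (g : MulAut L) ((y : L)⁻¹ * a (y : L))
          rw [map_mul, map_inv]
          congr 1
          obtain ⟨j, hj⟩ := Subgroup.mem_zpowers_iff.1 g.2
          rw [← hj, ← MulAut.mul_apply, ← MulAut.mul_apply, (Commute.self_zpow a j).eq]⟩
        one_smul := fun x => Subtype.ext (one_smul _ (x : E))
        mul_smul := fun g h x => Subtype.ext (mul_smul g h (x : E)) }
    have hA : IsPGroup p (Subgroup.zpowers a) := IsPGroup.of_card (n := 1) (by rw [Nat.card_zpowers, ha, pow_one])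
    have hk0 : k ≠ 0 := by
      rintro rfl
      haveI := (Nat.card_eq_one_iff_unique.1 (hk.trans (pow_zero p))).1
      apply hne
      rw [show δ e = 1 from congrArg Subtype.val (Subsingleton.elim (⟨δ e, e, rfl⟩ : δ.range) 1), map_one]
    obtain ⟨f, hf, hf1⟩ := hA.exists_fixed_point_of_prime_dvd_card_of_fixed_point (α := δ.range) (hk ▸ dvd_pow_self p hk0)
      (a := 1) (fun g => Subtype.ext (Subtype.ext (map_one (g : MulAut L))))
    have hfa : a ((f : E) : L) = (f : E) := congrArg (fun y : δ.range => ((y : E) : L)) (hf ⟨a, Subgroup.mem_zpowers a⟩)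
    exact hf1 (Subtype.ext (hinjR _ f.2 (Subtype.ext (by rw [hδ, hfa, inv_mul_cancel, OneMemClass.coe_one])))).symm
  have haz : a z = z := by
    have h : δ (δ ⟨e₀, he₀E⟩) = 1 := hkey _
    have h' := inv_mul_eq_one.1 (congrArg Subtype.val h)
    rw [hδ] at h'
    simp only at h'
    rw [hz]
    exact h'.symm
  -- fixed elements of `E` are powers of `z`
  have hfixE : ∀ e ∈ E, a e = e → e ∈ Subgroup.zpowers z := by
    intro e he hae
    by_contra hez
    let F : Subgroup L := { carrier := {u | u ∈ E ∧ a u = u}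
                            one_mem' := ⟨E.one_mem, map_one a⟩
                            mul_mem' := fun {u v} hu hv => ⟨E.mul_mem hu.1 hv.1, by rw [map_mul, hu.2, hv.2]⟩
                            inv_mem' := fun {u} hu => ⟨E.inv_mem hu.1, by rw [map_inv, hu.2]⟩ }
    have hFE : F ≤ E := fun u hu => hu.1
    have hle : Subgroup.zpowers z ≤ F := Subgroup.zpowers_le.2 ⟨hzE, haz⟩
    obtain ⟨k, hk⟩ := IsPGroup.iff_card.1 (hL.to_subgroup F)
    have hlt : Nat.card (Subgroup.zpowers z) < Nat.card F :=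
      lt_of_le_of_ne (Subgroup.card_le_of_le hle) fun h => hez (by
        rw [Subgroup.eq_of_le_of_card_ge hle h.ge]; exact ⟨he, hae⟩)
    rw [Nat.card_zpowers, orderOf_eq_prime ((hEmem z).2 hzE) hz1, hk] at hlt
    have hk2 : 2 ≤ k := by
      by_contra h
      have := Nat.pow_le_pow_right hp.out.pos (show k ≤ 1 by omega)
      rw [pow_one] at this
      omega
    have hFeq : F = E := Subgroup.eq_of_le_of_card_ge hFE (by rw [hk, hEc]; exact Nat.pow_le_pow_right hp.out.pos hk2)
    have : e₀ ∈ F := hFeq.symm ▸ he₀E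
    exact hmove this.2
  -- a root of `e₀`
  obtain ⟨⟨u, huW⟩, hu⟩ := hWroot ⟨e₀, hEW he₀E⟩ (show (⟨e₀, hEW he₀E⟩ : W) ∈ E.subgroupOf W from he₀E)
  have hu' : u ^ p = e₀ := by simpa using congrArg Subtype.val hu
  set v := u⁻¹ * a u with hv
  have hvW : v ∈ W := W.mul_mem (W.inv_mem huW) (haW u huW)
  have hvp : v ^ p = z := by
    rw [hv, hmulW _ (W.inv_mem huW) _ (haW u huW), inv_pow, ← map_pow, hu', hz]
  set w := v⁻¹ * a v with hw
  have hwE : w ∈ E := (hEmem _).1 (by
    rw [hw, hmulW _ (W.inv_mem hvW) _ (haW v hvW), inv_pow, ← map_pow, hvp, haz, inv_mul_cancel])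
  set c := w⁻¹ * a w with hc
  have hac : a c = c := by
    have h : δ (δ ⟨w, hwE⟩) = 1 := hkey _
    exact (inv_mul_eq_one.1 (congrArg Subtype.val h)).symm
  have hcE : c ∈ E := E.mul_mem (E.inv_mem hwE) (haE w hwE)
  have hau : a u = u * v := by rw [hv]; group
  have hav : a v = v * w := by rw [hw]; group
  have haw : a w = w * c := by rw [hc]; group
  have hcwv : Commute v w := hcenW w hwE v hvW
  have hcwc : Commute w c := hEcomm _ _ hwE hcE
  have hiter : ∀ i : ℕ, (a ^ i) u = u * v ^ i * w ^ i.choose 2 * c ^ i.choose 3 := by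
    intro i
    induction i with
    | zero => simp
    | succ i ih =>
      rw [pow_succ', MulAut.mul_apply, ih, map_mul, map_mul, map_mul, map_pow, map_pow, map_pow, hau, hav, haw, hac,
        hcwv.mul_pow, hcwc.mul_pow, Nat.choose_succ_succ' i 1, Nat.choose_one_right, Nat.choose_succ_succ' i 2,
        pow_add w, pow_add c, pow_succ' v]
      simp only [mul_assoc]
  have hfinal := hiter p
  rw [hap] at hfinal
  have hw2 : w ^ p.choose 2 = 1 := by
    obtain ⟨d, hd⟩ := hp.out.dvd_choose_self two_ne_zero (by have := hp.out.two_le; omega)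
    rw [hd, pow_mul, (hEmem w).2 hwE, one_pow]
  rw [hvp, hw2, mul_one, mul_assoc, left_eq_mul] at hfinal
  have hp3 : p = 3 := by
    by_contra hne
    apply hz1
    obtain ⟨d, hd⟩ := hp.out.dvd_choose_self (k := 3) (by norm_num) (by have := hp.out.two_le; omega)
    rwa [hd, pow_mul, (hEmem c).2 hcE, one_pow, mul_one] at hfinal
  have hc1 : c ≠ 1 := fun h => hz1 (by rwa [h, one_pow, mul_one] at hfinal)
  refine ⟨hp3, ?_⟩
  -- fixed points of `a`
  have hfW : ∀ x ∈ W, a x = x → x ∈ E := by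
    intro x hxW hax
    have hxp : x ^ p ∈ Subgroup.zpowers z := hfixE _ ((hWmem x).1 hxW) (by rw [map_pow, hax])
    obtain ⟨j, hj⟩ := Subgroup.mem_zpowers_iff.1 hxp
    set e' := (v ^ j)⁻¹ * x with he'
    have he'E : e' ∈ E := (hEmem _).1 (by
      rw [he', hmulW _ (W.inv_mem (W.zpow_mem hvW j)) _ hxW, ← hj, inv_pow, ← zpow_natCast (v ^ j), ← zpow_mul,
        mul_comm j, zpow_mul, zpow_natCast, hvp, inv_mul_cancel])
    have h1 : a x = v ^ j * w ^ j * a e' := by
      rw [show x = v ^ j * e' by rw [he']; group, map_mul, map_zpow, hav, hcwv.mul_zpow]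
    rw [hax, show x = v ^ j * e' by rw [he']; group, mul_assoc, mul_left_cancel_iff] at h1
    have h2 : w ^ j ∈ Subgroup.zpowers z := by
      have h3 : w ^ j = e' * (a e')⁻¹ := eq_mul_inv_of_mul_eq h1.symm
      rw [h3, show e' * (a e')⁻¹ = ((δ ⟨e', he'E⟩ : E) : L)⁻¹ * 1 by
        rw [hδ, mul_one, mul_inv_rev, inv_inv, hEcomm _ _ (E.inv_mem (haE _ he'E)) he'E], mul_one]
      refine Subgroup.inv_mem _ (hfixE _ (δ ⟨e', he'E⟩).2 ?_)
      exact (inv_mul_eq_one.1 (congrArg Subtype.val (hkey ⟨e', he'E⟩))).symm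
    by_contra hxE
    have hjp : ¬ (p : ℤ) ∣ j := by
      rintro ⟨d, hd⟩
      apply hxE
      rw [← hEmem, ← hj, hd, zpow_mul, zpow_natCast, (hEmem z).2 hzE, one_zpow]
    have hfixw : a (w ^ j) = w ^ j := by
      obtain ⟨d, hd⟩ := Subgroup.mem_zpowers_iff.1 h2
      rw [← hd, map_zpow, haz]
    rw [map_zpow, haw, hcwc.mul_zpow, mul_eq_left] at hfixw
    apply hc1
    have ho : (orderOf c : ℤ) ∣ j := orderOf_dvd_iff_zpow_eq_one.2 hfixw
    rcases (Nat.dvd_prime hp.out).1 (orderOf_dvd_of_pow_eq_one ((hEmem c).2 hcE)) with h | h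
    · exact orderOf_eq_one_iff.1 h
    · exact absurd (h ▸ ho) hjp
  have hfix : ∀ x : L, a x = x → x ∈ Subgroup.zpowers z := by
    intro x hax
    refine hfixE x ?_ hax
    have hk : ∀ k : ℕ, x ^ p ^ k ∈ E → x ∈ E := by
      intro k
      induction k with
      | zero => intro h; simpa using h
      | succ k ih =>
        intro h
        rw [pow_succ, pow_mul] at h
        exact ih (hfW _ ((hWmem _).2 h) (by rw [map_pow, hax]))
    obtain ⟨k, hk'⟩ := hL x
    exact hk k (hk' ▸ E.one_mem)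
  set G := SemidirectProduct L ↥(Subgroup.zpowers a) (Subgroup.zpowers a).subtype
  change Group.nilpotencyClass G = m
  haveI : Finite G := Finite.of_equiv _ SemidirectProduct.equivProd.symm
  have hGc : Nat.card G = p ^ (m + 1) := by
    rw [Nat.card_congr SemidirectProduct.equivProd, Nat.card_prod, hm, Nat.card_zpowers, ha, pow_succ]
  set s : G := SemidirectProduct.inr ⟨a, Subgroup.mem_zpowers a⟩ with hs
  have hcent : Nat.card (Subgroup.centralizer ({s} : Set G)) ≤ p ^ 2 := by
    have hmem : ∀ g ∈ Subgroup.centralizer ({s} : Set G), g.left ∈ Subgroup.zpowers z := by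
      intro g hg
      apply hfix
      have h1 := congrArg (·.left) (Subgroup.mem_centralizer_singleton_iff.1 hg)
      rw [SemidirectProduct.mul_left, SemidirectProduct.mul_left] at h1
      simpa [hs] using h1.symm
    refine le_trans (Nat.card_le_card_of_injective (fun g : Subgroup.centralizer ({s} : Set G) =>
      ((⟨(g : G).left, hmem g g.2⟩ : Subgroup.zpowers z), (g : G).right)) ?_) ?_
    · intro g g' h
      exact Subtype.ext (SemidirectProduct.ext (congrArg Subtype.val (Prod.ext_iff.1 h).1) (Prod.ext_iff.1 h).2)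
    · rw [Nat.card_prod, Nat.card_zpowers, Nat.card_zpowers, ha, orderOf_eq_prime ((hEmem z).2 hzE) hz1, sq]
  have := class_eq_of_centralizer (m + 1) (IsPGroup.of_card hGc) hGc (by omega) s hcent
  omega

end Main

/-- Let p be an odd prime and L a finite metacyclic p-group with no cyclic subgroup of index p, and let a be an automorphism of L of order p. Then a moves some element of order p of L if and only if p = 3 and the semidirect product L ⋊ ⟨a⟩ (of order 3·#L) has maximal class, i.e. nilpotency class m where #L = 3^m. -/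
theorem result {L : Type*} [Group L] [Finite L] {p : ℕ} [Fact p.Prime]
    (hp : p ≠ 2) (hL : IsPGroup p L) (hmc : Cfsg.IsMetacyclic L) (hnc : ∀ C : Subgroup L, IsCyclic C → C.index ≠ p)
    (a : MulAut L) (ha : orderOf a = p) (m : ℕ) (hm : Nat.card L = p ^ m) :
    (∃ x : L, orderOf x = p ∧ a x ≠ x) ↔
    (p = 3 ∧ Group.nilpotencyClass (SemidirectProduct L ↥(Subgroup.zpowers a) (Subgroup.zpowers a).subtype) = m) := by
  constructor
  · rintro ⟨x, hx, hax⟩
    exact moved hp hL hmc hnc a ha m hm x (hx ▸ pow_orderOf_eq_one x) hax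
  · rintro ⟨-, hcl⟩
    by_contra hcon
    push Not at hcon
    refine not_max_class hp hL hmc hnc a ha m hm (fun x hx => ?_) hcl
    rcases eq_or_ne x 1 with rfl | hx1
    · exact map_one a
    · exact hcon x (orderOf_eq_prime hx hx1)

end Cfsg.Agent.S4079
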