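import Cfsg.Statements.S4080
import Mathlib

set_option autoImplicit false
open Cfsg

namespace Cfsg.Agent.S4080

section
variable (p : ℕ) [hp : Fact p.Prime]

local notation "Mod2" => ZMod (p ^ 2) × ZMod (p ^ 2)

/-- Elements killed by `p` are multiples of `p`. -/
lemma exists_nsmul (v : Mod2) (hv : p • v = 0) : ∃ w : Mod2, p • w = v := by
  haveI : NeZero (p ^ 2) := ⟨pow_ne_zero _ hp.out.ne_zero⟩
  have h : ∀ z : ZMod (p ^ 2), p • z = 0 → ∃ w : ZMod (p ^ 2), p • w = z := by
    intro z hz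
    rw [nsmul_eq_mul, ← ZMod.natCast_zmod_val z, ← Nat.cast_mul, ZMod.natCast_eq_zero_iff] at hz
    replace hz : p ∣ z.val := by
      generalize z.val = n at hz ⊢
      rw [pow_two] at hz
      exact Nat.dvd_of_mul_dvd_mul_left hp.out.pos hz
    refine ⟨((z.val / p : ℕ) : ZMod (p ^ 2)), ?_⟩
    rw [nsmul_eq_mul, ← Nat.cast_mul, Nat.mul_div_cancel' hz, ZMod.natCast_zmod_val]
  obtain ⟨a, ha⟩ := h v.1 (congrArg Prod.fst hv)
  obtain ⟨b, hb⟩ := h v.2 (congrArg Prod.snd hv)
  exact ⟨(a, b), Prod.ext ha hb⟩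

/-- The elements killed by `p` form a group of order at most `p ^ 2`. -/
lemma card_omega : Nat.card (nsmulAddMonoidHom p : Mod2 →+ Mod2).ker ≤ p ^ 2 := by
  haveI : NeZero (p ^ 2) := ⟨pow_ne_zero _ hp.out.ne_zero⟩
  let f : ZMod p × ZMod p → Mod2 := fun i => ((p * i.1.val : ℕ), (p * i.2.val : ℕ))
  have hsub : ∀ v : (nsmulAddMonoidHom p : Mod2 →+ Mod2).ker, ∃ i, f i = (v : Mod2) := by
    intro v
    have hv : p • (v : Mod2) = 0 := v.2
    obtain ⟨w, hw⟩ := exists_nsmul p (v : Mod2) hv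
    have key : ∀ z : ZMod (p ^ 2), ((p * (z.val : ZMod p).val : ℕ) : ZMod (p ^ 2)) = p • z := by
      intro z
      rw [nsmul_eq_mul, ← ZMod.natCast_zmod_val z, ← Nat.cast_mul, ZMod.natCast_eq_natCast_iff,
        ZMod.val_natCast, ZMod.natCast_zmod_val]
      generalize z.val = n
      rw [pow_two]
      exact Nat.ModEq.mul_left' p (Nat.mod_modEq _ _)
    exact ⟨((w.1.val : ZMod p), (w.2.val : ZMod p)), by rw [← hw]; exact Prod.ext (key w.1) (key w.2)⟩
  choose g hg using hsub
  have hinj : Function.Injective g := fun a b h => Subtype.ext (by rw [← hg a, ← hg b, h])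
  refine (Nat.card_le_card_of_injective g hinj).trans ?_
  rw [Nat.card_prod, Nat.card_zmod, pow_two]

/-- The additive endomorphism underlying an automorphism. -/
def toEnd : MulAut (Multiplicative Mod2) →* AddMonoid.End Mod2 where
  toFun e :=
    { toFun := fun v => Multiplicative.toAdd (e (Multiplicative.ofAdd v))
      map_zero' := by simp
      map_add' := fun v w => by simp }
  map_one' := AddMonoidHom.ext fun _ => rfl
  map_mul' e e' := AddMonoidHom.ext fun _ => rfl

end

/-- Let p > 3 be a prime and L the direct product of two cyclic groups of order p². Every automorphism of L of order p fixes every element of order p of L. -/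
theorem result {p : ℕ} [Fact p.Prime] (hp : 3 < p)
    (a : MulAut (Multiplicative (ZMod (p ^ 2) × ZMod (p ^ 2)))) (ha : orderOf a = p)
    (x : Multiplicative (ZMod (p ^ 2) × ZMod (p ^ 2))) (hx : orderOf x = p) : a x = x := by
  haveI : NeZero (p ^ 2) := ⟨pow_ne_zero _ (Fact.out : p.Prime).ne_zero⟩
  have hpp : p.Prime := Fact.out
  set A : AddMonoid.End (ZMod (p ^ 2) × ZMod (p ^ 2)) := toEnd p a with hA
  set f : AddMonoid.End (ZMod (p ^ 2) × ZMod (p ^ 2)) := A - 1 with hf
  have hAp : A ^ p = 1 :=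
    (map_pow (toEnd p) a p).symm.trans ((congrArg (toEnd p) (orderOf_dvd_iff_pow_eq_one.1 ha.dvd)).trans (map_one _))
  set T := (nsmulAddMonoidHom p : (ZMod (p ^ 2) × ZMod (p ^ 2)) →+ _).ker with hT
  have hmemT : ∀ v, v ∈ T ↔ p • v = 0 := fun v => Iff.rfl
  have hfT : ∀ v ∈ T, f v ∈ T := fun v hv => by
    rw [hmemT] at hv ⊢
    rw [← map_nsmul, hv, map_zero]
  have hexp : ∑ k ∈ Finset.range (p + 1), f ^ k * (p.choose k : AddMonoid.End (ZMod (p ^ 2) × ZMod (p ^ 2))) = 1 := by
    have := (Commute.one_right f).add_pow p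
    simp only [one_pow, mul_one] at this
    rw [← this, hf, sub_add_cancel, hAp]
  have happ : ∀ v, ∑ k ∈ Finset.range (p + 1), (p.choose k) • ((f ^ k) v) = v := by
    intro v
    have h := DFunLike.congr_fun hexp v
    replace h := (AddMonoidHom.finsetSum_apply
      (fun k => ((f ^ k * (p.choose k : AddMonoid.End (ZMod (p ^ 2) × ZMod (p ^ 2)))) :
        (ZMod (p ^ 2) × ZMod (p ^ 2)) →+ (ZMod (p ^ 2) × ZMod (p ^ 2)))) (Finset.range (p + 1)) v).symm.trans h
    refine Eq.trans (Finset.sum_congr rfl (fun k _ => ?_)) h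
    exact (map_nsmul (f ^ k) (p.choose k) v).symm
  have hfk : ∀ k v, v ∈ T → (f ^ k) v ∈ T := by
    intro k
    induction k with
    | zero => intro v hv; simpa using hv
    | succ k ih => intro v hv; rw [pow_succ f]; exact ih _ (hfT v hv)
  have hchoose : ∀ k, 0 < k → k < p → p ∣ p.choose k := fun k h0 h1 => hpp.dvd_choose_self h0.ne' h1
  have hfp : ∀ v ∈ T, (f ^ p) v = 0 := by
    intro v hv
    have h := happ v
    rw [Finset.sum_range_succ, Finset.sum_eq_single 0] at h
    · simpa using h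
    · intro k hk hk0
      obtain ⟨c, hc⟩ := hchoose k (Nat.pos_of_ne_zero hk0) (Finset.mem_range.1 hk)
      rw [hc, mul_comm, mul_nsmul']
      rw [(hmemT _).1 (hfk k v hv), smul_zero]
    · intro h0; exact absurd (Finset.mem_range.2 hpp.pos) h0
  -- a subgroup of `T` equal to its image under `f` is trivial
  have hnil : ∀ S : AddSubgroup (ZMod (p ^ 2) × ZMod (p ^ 2)), S ≤ T → S.map f = S → S = ⊥ := by
    intro S hS he
    have hk : ∀ k, ∀ v ∈ S, ∃ w ∈ S, (f ^ k) w = v := by
      intro k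
      induction k with
      | zero => exact fun v hv => ⟨v, hv, rfl⟩
      | succ k ih =>
        intro v hv
        obtain ⟨u, hu, hfu⟩ := ih v hv
        rw [← he] at hu
        obtain ⟨w, hw, hwu⟩ := AddSubgroup.mem_map.1 hu
        refine ⟨w, hw, ?_⟩
        rw [pow_succ f]
        exact (congrArg (f ^ k) hwu).trans hfu
    rw [eq_bot_iff]
    intro v hv
    obtain ⟨w, hw, hwv⟩ := hk p v hv
    rw [hfp w (hS hw)] at hwv
    simp [← hwv]
  have hmapT : ∀ S : AddSubgroup (ZMod (p ^ 2) × ZMod (p ^ 2)), S ≤ T → S.map f ≤ T := by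
    rintro S hS _ ⟨v, hv, rfl⟩
    exact hfT v (hS hv)
  have hstep : ∀ S : AddSubgroup (ZMod (p ^ 2) × ZMod (p ^ 2)), S ≤ T → S.map f ≤ S → S ≠ ⊥ →
      ∀ i, Nat.card S ∣ p ^ (i + 1) → Nat.card (S.map f) ∣ p ^ i := by
    intro S hS hle hne i hi
    have hlt : S.map f < S := lt_of_le_of_ne hle (fun h => hne (hnil S hS h))
    have hd : Nat.card (S.map f) ∣ Nat.card S := AddSubgroup.card_dvd_of_le hle
    obtain ⟨j, hj, hj'⟩ := (Nat.dvd_prime_pow hpp).1 hi
    obtain ⟨l, hl, hl'⟩ := (Nat.dvd_prime_pow hpp).1 (hj' ▸ hd)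
    have : l ≠ j := by
      intro h
      exact hlt.ne (AddSubgroup.eq_of_le_of_card_ge hle (by rw [hl', hj', h]))
    rw [hl']
    exact pow_dvd_pow p (by omega)
  have hT2 : Nat.card T ∣ p ^ 2 := by
    have h : IsPGroup p (Multiplicative T) := by
      intro v
      refine ⟨1, ?_⟩
      rw [pow_one]
      apply Multiplicative.toAdd.injective
      rw [toAdd_pow, toAdd_one]
      exact Subtype.ext ((hmemT _).1 (Multiplicative.toAdd v).2)
    obtain ⟨i, hi⟩ := IsPGroup.iff_card.1 h
    rw [Nat.card_congr Multiplicative.toAdd] at hi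
    rw [hi]
    apply pow_dvd_pow
    have h2 := card_omega p
    rw [← hT, hi] at h2
    exact (Nat.pow_le_pow_iff_right hpp.one_lt).1 h2
  have hf2 : ∀ v ∈ T, f (f v) = 0 := by
    intro v hv
    set T1 := T.map f
    have hT1 : T1 ≤ T := hmapT T le_rfl
    suffices T1.map f = ⊥ by
      have h : f (f v) ∈ T1.map f := ⟨_, ⟨v, hv, rfl⟩, rfl⟩
      rwa [this, AddSubgroup.mem_bot] at h
    by_cases hTb : T = ⊥
    · have h : T1 = ⊥ := by
        simp only [T1, hTb]
        exact AddSubgroup.map_bot _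
      rw [h]
      exact AddSubgroup.map_bot _
    by_cases hT1b : T1 = ⊥
    · rw [hT1b]
      exact AddSubgroup.map_bot _
    have h1 := hstep T le_rfl hT1 hTb 1 hT2
    have h2 := hstep T1 hT1 (AddSubgroup.map_mono hT1) hT1b 0 (by simpa using h1)
    rw [pow_zero, Nat.dvd_one] at h2
    exact AddSubgroup.card_eq_one.1 h2
  have hkill : ∀ v, p • v = (0 : ZMod (p ^ 2) × ZMod (p ^ 2)) → f v = 0 := by
    intro v hv
    obtain ⟨w, rfl⟩ := exists_nsmul p v hv
    have hp2 : ∀ z : ZMod (p ^ 2) × ZMod (p ^ 2), p • p • z = 0 := by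
      intro z
      rw [← mul_nsmul]
      have h : ((p * p : ℕ) : ZMod (p ^ 2)) = 0 := (ZMod.natCast_eq_zero_iff _ _).2 (dvd_of_eq (pow_two p))
      apply Prod.ext
      · rw [Prod.smul_fst, nsmul_eq_mul, h, zero_mul]; rfl
      · rw [Prod.smul_snd, nsmul_eq_mul, h, zero_mul]; rfl
    have h3 : p • (f (f w)) = 0 := by
      rw [← map_nsmul, ← map_nsmul]
      exact hf2 _ ((hmemT _).2 (hp2 w))
    have h4 : ∀ k, 4 ≤ k → (f ^ k) w = 0 := by
      intro k hk
      obtain ⟨j, rfl⟩ := Nat.exists_eq_add_of_le hk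
      rw [add_comm, pow_add f]
      change (f ^ j) ((f ^ 4) w) = 0
      rw [show (f ^ 4) w = f (f (f (f w))) from rfl, hf2 _ ((hmemT _).2 h3), map_zero]
    have h := happ w
    rw [Finset.sum_eq_add (s := Finset.range (p + 1)) 0 1 (by norm_num)] at h
    · simp only [Nat.choose_zero_right, pow_zero, one_smul, Nat.choose_one_right, pow_one] at h
      rw [← map_nsmul] at h
      simpa using h
    · intro k hk ⟨hk0, hk1⟩
      by_cases hk4 : 4 ≤ k
      · rw [h4 k hk4, smul_zero]
      · obtain ⟨c, hc⟩ := hchoose k (Nat.pos_of_ne_zero hk0) (by omega)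
        have hz : p • (f ^ k) w = 0 := by
          obtain rfl | rfl : k = 2 ∨ k = 3 := by omega
          · exact h3
          · change p • f (f (f w)) = 0
            rw [← map_nsmul, h3, map_zero]
        rw [hc, mul_comm, mul_nsmul', hz, smul_zero]
    · intro h0; exact absurd (Finset.mem_range.2 (by omega)) h0
    · intro h0; exact absurd (Finset.mem_range.2 (by omega)) h0
  have hx0 : p • Multiplicative.toAdd x = 0 := by
    rw [← toAdd_pow, orderOf_dvd_iff_pow_eq_one.1 hx.dvd]
    rfl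
  have := hkill _ hx0
  rw [hf] at this
  change Multiplicative.toAdd (a x) - Multiplicative.toAdd x = 0 at this
  exact Multiplicative.toAdd.injective (sub_eq_zero.1 this)

end Cfsg.Agent.S4080
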