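import Cfsg.Statements.S4081
import Cfsg.Agent.Lib.Structure80.FpfTwist
import Cfsg.Agent.Lib.Solvable.Fitting
import Cfsg.Agent.Lib.Characters.Burnside

set_option autoImplicit false
open Cfsg
open scoped IsMulCommutative

namespace Cfsg.Agent.S4081

section
variable {G : Type*} [Group G] [Finite G]

open scoped IsMulCommutative

/-- The element order on automorphism orbits. -/
noncomputable def orderClass : MulAction.orbitRel.Quotient (MulAut G) G → ℕ :=
  Quotient.lift orderOf fun a b h => by
    obtain ⟨e, rfl⟩ := MulAction.orbitRel_apply.1 h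
    exact MulEquiv.orderOf_eq e b

lemma range_orderClass : Set.range (orderClass (G := G)) = Set.range (orderOf : G → ℕ) := by
  ext n
  constructor
  · rintro ⟨c, rfl⟩
    induction c using Quotient.inductionOn' with
    | h a => exact ⟨a, rfl⟩
  · rintro ⟨a, rfl⟩
    exact ⟨Quotient.mk'' a, rfl⟩

/-- Equal orders meaning equal orbits gives the orbit count. -/
lemma card_orbits (h : ∀ a b : G, orderOf a = orderOf b → ∃ e : MulAut G, e b = a) :
    Nat.card (MulAction.orbitRel.Quotient (MulAut G) G) = (Set.range (orderOf : G → ℕ)).ncard := by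
  have hinj : Function.Injective (orderClass (G := G)) := by
    intro c d
    induction c using Quotient.inductionOn' with
    | h a => induction d using Quotient.inductionOn' with
      | h b =>
        intro hab
        obtain ⟨e, he⟩ := h a b hab
        exact Quotient.sound' (MulAction.orbitRel_apply.2 ⟨e, he⟩)
  rw [← range_orderClass, ← Nat.card_coe_set_eq, Nat.card_range_of_injective hinj]

/-- Three orbits with three orders: equal orders give equal orbits. -/
lemma exists_aut_of_three (h3 : Nat.card (MulAction.orbitRel.Quotient (MulAut G) G) = 3)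
    {p q : ℕ} (hp : p.Prime) (hq : q.Prime) (hpq : p ≠ q) (hpd : p ∣ Nat.card G) (hqd : q ∣ Nat.card G) :
    (∀ a : G, orderOf a = 1 ∨ orderOf a = p ∨ orderOf a = q) ∧
      ∀ a b : G, orderOf a = orderOf b → ∃ e : MulAut G, e b = a := by
  classical
  letI := Fintype.ofFinite (MulAction.orbitRel.Quotient (MulAut G) G)
  haveI := Fact.mk hp
  haveI := Fact.mk hq
  set S := Finset.univ.image (orderClass (G := G))
  have hmem : ∀ a : G, orderOf a ∈ S := fun a => Finset.mem_image.2 ⟨Quotient.mk'' a, Finset.mem_univ _, rfl⟩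
  obtain ⟨a, ha⟩ := exists_prime_orderOf_dvd_card' p hpd
  obtain ⟨b, hb⟩ := exists_prime_orderOf_dvd_card' q hqd
  have hsub : ({1, p, q} : Finset ℕ) ⊆ S := by
    intro n hn
    simp only [Finset.mem_insert, Finset.mem_singleton] at hn
    rcases hn with rfl | rfl | rfl
    · simpa using hmem (1 : G)
    · exact ha ▸ hmem a
    · exact hb ▸ hmem b
  have h1 : ({1, p, q} : Finset ℕ).card = 3 :=
    Finset.card_eq_three.2 ⟨1, p, q, hp.one_lt.ne, hq.one_lt.ne, hpq, rfl⟩
  have h2 : S.card ≤ 3 := Finset.card_image_le.trans (by rw [Finset.card_univ, ← Nat.card_eq_fintype_card, h3])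
  have hSeq := Finset.eq_of_subset_of_card_le hsub (by rw [h1]; exact h2)
  refine ⟨fun a => ?_, fun a b hab => ?_⟩
  · have := hSeq ▸ hmem a
    simpa using this
  · have hcard : S.card = (Finset.univ : Finset (MulAction.orbitRel.Quotient (MulAut G) G)).card := by
      rw [← hSeq, h1, Finset.card_univ, ← Nat.card_eq_fintype_card, h3]
    have hc : (Quotient.mk'' a : MulAction.orbitRel.Quotient (MulAut G) G) = Quotient.mk'' b :=
      Finset.card_image_iff.1 hcard (Finset.mem_coe.2 (Finset.mem_univ _)) (Finset.mem_coe.2 (Finset.mem_univ _)) hab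
    obtain ⟨e, he⟩ := MulAction.orbitRel_apply.1 (Quotient.exact' hc)
    exact ⟨e, he⟩

/-- Conjugation as a linear operator on an elementary abelian normal subgroup. -/
noncomputable def conjEnd (p : ℕ) (P : Subgroup G) [P.Normal] [IsMulCommutative P]
    [Module (ZMod p) (Additive P)] (x : G) : Module.End (ZMod p) (Additive P) :=
  (MonoidHom.toAdditive (MulAut.conjNormal x : MulAut P).toMonoidHom).toZModLinearMap p

omit [Finite G] in
lemma conjEnd_pow_apply (p : ℕ) (P : Subgroup G) [P.Normal] [IsMulCommutative P]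
    [Module (ZMod p) (Additive P)] (x : G) (k : ℕ) (u : Additive P) :
    ((Additive.toMul ((conjEnd p P x ^ k) u) : P) : G) = x ^ k * (Additive.toMul u : P) * (x ^ k)⁻¹ := by
  induction k generalizing u with
  | zero => simp
  | succ k ih =>
    rw [pow_succ, Module.End.mul_apply, ih, pow_succ]
    change x ^ k * (x * ((Additive.toMul u : P) : G) * x⁻¹) * (x ^ k)⁻¹ = _
    simp [mul_assoc]

/-- A fixed-point-free group of operators on a nontrivial elementary abelian `p`-group has no
elementary abelian subgroup of order `q ^ 2`. -/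
lemma mem_zpowers_of_commute {p q : ℕ} [Fact p.Prime] (hq : q.Prime) (hpq : p ≠ q) (P : Subgroup G)
    [P.Normal] [IsMulCommutative P] [Module (ZMod p) (Additive P)] [Nontrivial P] {z w : G}
    (hz : orderOf z = q) (hw : w ^ q = 1) (hzw : Commute z w)
    (hfpf : ∀ e : G, orderOf e = q → ∀ u ∈ P, e * u * e⁻¹ = u → u = 1) : w ∈ Subgroup.zpowers z := by
  by_contra hwz
  have hz1 : z ^ q = 1 := hz ▸ pow_orderOf_eq_one z
  have hTpow : ∀ e : G, e ^ q = 1 → conjEnd p P e ^ q = 1 := by
    intro e he
    refine LinearMap.ext fun u => ?_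
    apply Additive.toMul.injective
    apply Subtype.ext
    rw [conjEnd_pow_apply, he]
    simp
  have hnorm : ∀ e : G, orderOf e = q → ∀ v, (∑ k ∈ Finset.range q, (conjEnd p P e ^ k) v) = 0 := by
    intro e he v
    haveI := Fact.mk hq
    have h0 := CfsgLib.Structure80.aeval_cyclotomic_eq_zero (conjEnd p P e)
      (hTpow e (he ▸ pow_orderOf_eq_one e)) (fun u hu => by
        have h2 := congrArg (fun v : Additive P => ((Additive.toMul v : P) : G)) hu
        have := hfpf e he _ (Additive.toMul u).2 h2
        exact Additive.toMul.injective (Subtype.ext this))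
    rw [Polynomial.cyclotomic_prime, map_sum] at h0
    simpa using LinearMap.congr_fun h0 v
  have he : ∀ i : ℕ, orderOf (w * z ^ i) = q := by
    intro i
    haveI := Fact.mk hq
    apply orderOf_eq_prime
    · rw [(hzw.symm.pow_right i).mul_pow, hw, ← pow_mul, mul_comm, pow_mul, hz1, one_pow, one_mul]
    · intro h
      exact hwz (by rw [eq_inv_of_mul_eq_one_left h]; exact inv_mem (Subgroup.pow_mem _ (Subgroup.mem_zpowers z) i))
  obtain ⟨u, hu1⟩ := exists_ne (1 : P)
  set v : Additive P := Additive.ofMul u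
  have hterm : ∀ i j : ℕ, (conjEnd p P (w * z ^ i) ^ j) v = (conjEnd p P w ^ j) ((conjEnd p P z ^ (i * j)) v) := by
    intro i j
    apply Additive.toMul.injective
    apply Subtype.ext
    rw [conjEnd_pow_apply, conjEnd_pow_apply, conjEnd_pow_apply, (hzw.symm.pow_right i).mul_pow, pow_mul]
    simp [mul_assoc]
  have hsum : ∑ j ∈ Finset.range q, (conjEnd p P w ^ j) (∑ i ∈ Finset.range q, (conjEnd p P z ^ (i * j)) v) = 0 := by
    simp_rw [map_sum, ← hterm]
    rw [Finset.sum_comm]
    exact Finset.sum_eq_zero fun i _ => hnorm _ (he i) v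
  rw [Finset.sum_eq_single 0] at hsum
  · simp only [pow_zero, mul_zero, Finset.sum_const, Finset.card_range] at hsum
    change q • v = 0 at hsum
    apply hu1
    have h1 : u ^ q = 1 := by
      have := congrArg Additive.toMul hsum
      simpa [v] using this
    have h2 : u ^ p = 1 := by
      have : p • v = 0 := by rw [← Nat.cast_smul_eq_nsmul (ZMod p), ZMod.natCast_self, zero_smul]
      have := congrArg Additive.toMul this
      simpa [v] using this
    exact orderOf_eq_one_iff.1 (Nat.eq_one_of_dvd_coprimes ((Nat.coprime_primes (Fact.out) hq).2 hpq)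
      (orderOf_dvd_of_pow_eq_one h2) (orderOf_dvd_of_pow_eq_one h1))
  · intro j hj hj0
    have hjq : ¬ q ∣ j := fun hd => by
      have := Nat.le_of_dvd (Nat.pos_of_ne_zero hj0) hd
      have := Finset.mem_range.1 hj
      omega
    have hzj : orderOf (z ^ j) = q := by
      rw [orderOf_pow, hz, (hq.coprime_iff_not_dvd.2 hjq).gcd_eq_one, Nat.div_one]
    have : ∑ i ∈ Finset.range q, (conjEnd p P z ^ (i * j)) v = 0 := by
      rw [← hnorm (z ^ j) hzj v]
      refine Finset.sum_congr rfl fun i _ => ?_
      apply Additive.toMul.injective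
      apply Subtype.ext
      rw [conjEnd_pow_apply, conjEnd_pow_apply, ← pow_mul, mul_comm j i]
    rw [this, map_zero]
  · intro h; exact absurd (Finset.mem_range.2 hq.pos) h

/-- The easy structure of `P ⋊ C_q`. -/
lemma exists_aut_extension {p q : ℕ} [Fact p.Prime] [Fact q.Prime] (P : Subgroup G) [P.Normal]
    [IsMulCommutative P] [Module (ZMod p) (Additive P)] {x : G} (hx : orderOf x = q)
    (hc : P.IsComplement' (Subgroup.zpowers x)) {i : ℕ} (hi : ¬ q ∣ i) (σ : Additive P ≃+ Additive P)
    (hσ : ∀ u, σ (conjEnd p P x u) = (conjEnd p P x ^ i) (σ u)) :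
    ∃ e : MulAut G, e x = x ^ i ∧ ∀ u : P, e u = ((Additive.toMul (σ (Additive.ofMul u)) : P) : G) := by
  let σ' : P ≃* P :=
    { toFun := fun u => Additive.toMul (σ (Additive.ofMul u))
      invFun := fun u => Additive.toMul (σ.symm (Additive.ofMul u))
      left_inv := fun u => by simp
      right_inv := fun u => by simp
      map_mul' := fun u v => by simp }
  haveI : IsMulCommutative (Subgroup.zpowers x) := inferInstance
  let C := Subgroup.zpowers x
  have hcop : (Nat.card C).Coprime i := by
    rw [Nat.card_zpowers, hx]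
    exact (Fact.out : q.Prime).coprime_iff_not_dvd.2 hi
  let fg : C ≃* C :=
    { powCoprime hcop with
      map_mul' := fun a b => by
        change (a * b) ^ i = a ^ i * b ^ i
        exact mul_pow a b i }
  have key : ∀ (k : ℕ) (u : Additive P), σ ((conjEnd p P x ^ k) u) = (conjEnd p P x ^ (i * k)) (σ u) := by
    intro k
    induction k with
    | zero => intro u; simp
    | succ k ih =>
      intro u
      rw [pow_succ', Module.End.mul_apply, hσ, ih, mul_add, mul_one, add_comm, pow_add, Module.End.mul_apply]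
  let e0 := SemidirectProduct.mulEquivSubgroup hc
  let φ : C →* MulAut P := P.normalizerMonoidHom.comp (Subgroup.inclusion (P.normalizer_eq_top ▸ le_top))
  have hcond : ∀ g : C, (φ g).trans σ' = σ'.trans (φ (fg g)) := by
    intro g
    obtain ⟨k, hk⟩ : ∃ k : ℕ, x ^ k = (g : G) := by
      have := g.2
      rwa [← mem_powers_iff_mem_zpowers, Submonoid.mem_powers_iff] at this
    ext u
    change ((Additive.toMul (σ (Additive.ofMul (φ g u))) : P) : G) =
      ((fg g : C) : G) * ((σ' u : P) : G) * ((fg g : C) : G)⁻¹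
    have h1 : Additive.ofMul (φ g u) = (conjEnd p P x ^ k) (Additive.ofMul u) := by
      apply Additive.toMul.injective
      apply Subtype.ext
      rw [conjEnd_pow_apply, hk]
      rfl
    rw [h1, key, conjEnd_pow_apply]
    have h2 : ((fg g : C) : G) = x ^ (i * k) := by
      change ((g ^ i : C) : G) = _
      rw [SubmonoidClass.coe_pow, ← hk, ← pow_mul, mul_comm]
    rw [h2]
    rfl
  let f := e0.symm.trans ((SemidirectProduct.congr σ' fg hcond).trans e0)
  refine ⟨f, ?_, fun u => ?_⟩
  · have h1 : e0 (SemidirectProduct.inr ⟨x, Subgroup.mem_zpowers x⟩) = x := by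
      simp [e0, SemidirectProduct.mulEquivSubgroup, SemidirectProduct.monoidHomSubgroup]
    have h2 : e0.symm x = SemidirectProduct.inr ⟨x, Subgroup.mem_zpowers x⟩ := by
      rw [MulEquiv.symm_apply_eq, h1]
    change e0 ((SemidirectProduct.congr σ' fg hcond) (e0.symm x)) = _
    rw [h2]
    simp [e0, SemidirectProduct.mulEquivSubgroup, SemidirectProduct.monoidHomSubgroup, fg, powCoprime, SemidirectProduct.congr]
  · have h1 : e0 (SemidirectProduct.inl u) = (u : G) := by
      simp [e0, SemidirectProduct.mulEquivSubgroup, SemidirectProduct.monoidHomSubgroup]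
    have h2 : e0.symm (u : G) = SemidirectProduct.inl u := by
      rw [MulEquiv.symm_apply_eq, h1]
    change e0 ((SemidirectProduct.congr σ' fg hcond) (e0.symm (u : G))) = _
    rw [h2]
    simp [e0, SemidirectProduct.mulEquivSubgroup, SemidirectProduct.monoidHomSubgroup, σ', SemidirectProduct.congr]

end

/-- Let G be a finite group whose order is not a prime power. Then the automorphism group of G has exactly three orbits on G if and only if there are distinct primes p, q with #G = pⁿ·q (n ≥ 1) such that G has a normal elementary abelian Sylow p-subgroup P, p is a primitive root modulo q (the multiplicative order of p mod q is q − 1), and every element of order q of G acts on P without non-identity fixed points. -/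
theorem result {G : Type*} [Group G] [Finite G] (hnpp : ¬ IsPrimePow (Nat.card G)) (hnt : Nat.card G ≠ 1) :
    Nat.card (MulAction.orbitRel.Quotient (MulAut G) G) = 3 ↔
    ∃ (p q n : ℕ) (_ : Fact p.Prime) (_ : Fact q.Prime), p ≠ q ∧ 1 ≤ n ∧ Nat.card G = p ^ n * q ∧
      (∀ P : Sylow p G, (P : Subgroup G).Normal ∧ Cfsg.IsElementaryAbelian p (P : Subgroup G)) ∧
      orderOf (p : ZMod q) = q - 1 ∧
      ∀ x y : G, orderOf x = q → orderOf y = p → x * y * x⁻¹ ≠ y := by
  classical
  constructor
  · intro h3
    obtain ⟨p0, q0, hp0, hq0, hpq0, hp0d, hq0d⟩ : ∃ p q : ℕ, p.Prime ∧ q.Prime ∧ p ≠ q ∧ p ∣ Nat.card G ∧ q ∣ Nat.card G := by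
      rw [isPrimePow_iff_card_primeFactors_eq_one] at hnpp
      have h1 : (Nat.card G).primeFactors.Nonempty := Nat.nonempty_primeFactors.2 (by
        have := Nat.card_pos (α := G); omega)
      have h2 : 1 < (Nat.card G).primeFactors.card := by have := h1.card_pos; omega
      obtain ⟨p, hp, q, hq, hpq⟩ := Finset.one_lt_card.1 h2
      simp only [Nat.mem_primeFactors] at hp hq
      exact ⟨p, q, hp.1, hq.1, hpq, hp.2.1, hq.2.1⟩
    obtain ⟨hord0, -⟩ := exists_aut_of_three h3 hp0 hq0 hpq0 hp0d hq0d
    -- solvability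
    have hcases : ∀ r : ℕ, r.Prime → r ∣ Nat.card G → r = p0 ∨ r = q0 := by
      intro r hr hrd
      haveI := Fact.mk hr
      obtain ⟨a, ha⟩ := exists_prime_orderOf_dvd_card' r hrd
      rcases hord0 a with h | h | h
      · exact absurd (ha ▸ h) hr.ne_one
      · exact Or.inl (ha ▸ h)
      · exact Or.inr (ha ▸ h)
    have hsplit : ∀ n : ℕ, n ≠ 0 → (∀ r : ℕ, r.Prime → r ∣ n → r = p0 ∨ r = q0) →
        n = p0 ^ n.factorization p0 * q0 ^ n.factorization q0 := by
      intro n hn hr
      have hsub : n.factorization.support ⊆ {p0, q0} := fun r hr' => by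
        rw [Nat.support_factorization, Nat.mem_primeFactors] at hr'
        simpa using hr r hr'.1 hr'.2.1
      conv_lhs => rw [← Nat.prod_factorization_pow_eq_self hn]
      rw [Finsupp.prod_of_support_subset _ hsub _ (fun _ _ => pow_zero _), Finset.prod_pair hpq0]
    have hsolv : Group.IsSolvable G :=
      CfsgLib.Burnside.isSolvable_of_card_eq hp0 hq0 _ _ (hsplit _ Nat.card_pos.ne' hcases)
    haveI : Nontrivial G := Finite.one_lt_card_iff_nontrivial.1 (by have := Nat.card_pos (α := G); omega)
    obtain ⟨p, hp, hpd, hPne⟩ := CfsgLib.Fitting.exists_pCore_ne_bot (G := G)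
    obtain ⟨q, hq, hpq, hqd⟩ : ∃ q : ℕ, q.Prime ∧ p ≠ q ∧ q ∣ Nat.card G := by
      by_cases h : p = p0
      · exact ⟨q0, hq0, h ▸ hpq0, hq0d⟩
      · exact ⟨p0, hp0, h, hp0d⟩
    haveI := Fact.mk hp
    haveI := Fact.mk hq
    obtain ⟨hord, haut⟩ := exists_aut_of_three h3 hp hq hpq hpd hqd
    set P := Cfsg.pCore p G with hPdef
    haveI : P.Normal := CfsgLib.Fitting.pCore_normal p
    haveI hPchar : P.Characteristic := CfsgLib.Fitting.pCore_characteristic p
    have hPp : IsPGroup p P := CfsgLib.Fitting.pCore_isPGroup p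
    have hinv : ∀ (e : MulAut G) (u : G), u ∈ P → e u ∈ P := fun e u hu => by
      have := Subgroup.characteristic_iff_map_le.1 hPchar e
      exact this ⟨u, hu, rfl⟩
    -- every nontrivial element of `P` has order `p`, and every element of order `p` is in `P`
    have hPord : ∀ u ∈ P, u ≠ 1 → orderOf u = p := by
      intro u hu hu1
      obtain ⟨k, hk⟩ := IsPGroup.iff_orderOf.1 hPp ⟨u, hu⟩
      rw [Subgroup.orderOf_mk] at hk
      rcases hord u with h | h | h
      · exact absurd (orderOf_eq_one_iff.1 h) hu1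
      · exact h
      · exact absurd ((Nat.prime_dvd_prime_iff_eq hq hp).1 (hq.dvd_of_dvd_pow (h ▸ hk.dvd))).symm hpq
    obtain ⟨u0, hu0, hu01⟩ := P.bot_or_exists_ne_one.resolve_left hPne
    have hPall : ∀ u : G, orderOf u = p → u ∈ P := fun u hu => by
      obtain ⟨e, rfl⟩ := haut u u0 (hu.trans (hPord u0 hu0 hu01).symm)
      exact hinv e u0 hu0
    -- `P` is abelian
    haveI : Nontrivial P := (Subgroup.nontrivial_iff_ne_bot _).2 hPne
    haveI := hPp.center_nontrivial
    obtain ⟨⟨z0, hz0⟩, hz01⟩ := exists_ne (1 : Subgroup.center P)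
    haveI hPc : IsMulCommutative P := .of_setLike_mul_comm fun a ha b hb => by
      rcases eq_or_ne a 1 with rfl | ha1
      · simp
      have hz0ne : (z0 : G) ≠ 1 := fun h => hz01 (Subtype.ext (Subtype.ext h))
      obtain ⟨e, he⟩ := haut a z0 ((hPord a ha ha1).trans (hPord z0 z0.2 hz0ne).symm)
      have hcz : Commute (z0 : G) (e.symm b) :=
        (congrArg Subtype.val (Subgroup.mem_center_iff.1 hz0 ⟨_, hinv e.symm b hb⟩)).symm
      have := hcz.map e.toMonoidHom
      simpa [he] using this.eq
    have hexp : ∀ u : P, u ^ p = 1 := fun u => by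
      apply Subtype.ext
      rcases eq_or_ne (u : G) 1 with h | h
      · simp [h]
      · have := pow_orderOf_eq_one (u : G)
        rw [hPord u u.2 h] at this
        simpa using this
    haveI : Module (ZMod p) (Additive P) := AddCommGroup.zmodModule (G := Additive P) (n := p) fun v => by
      apply Additive.toMul.injective
      simpa using hexp (Additive.toMul v)
    have hfpf : ∀ e : G, orderOf e = q → ∀ u ∈ P, e * u * e⁻¹ = u → u = 1 := by
      intro e he u hu heu
      by_contra hu1
      have hc : Commute e u := mul_inv_eq_iff_eq_mul.1 heu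
      have hcop : (orderOf e).Coprime (orderOf u) := by
        rw [he, hPord u hu hu1]; exact (Nat.coprime_primes hq hp).2 hpq.symm
      have := hc.orderOf_mul_eq_mul_orderOf_of_coprime hcop
      rw [he, hPord u hu hu1] at this
      rcases hord (e * u) with h | h | h <;> rw [this] at h
      · exact hq.ne_one (mul_eq_one.1 h).1
      · exact hq.ne_one ((Nat.mul_eq_right hp.ne_zero).1 h)
      · exact hp.ne_one ((Nat.mul_eq_left hq.ne_zero).1 h)
    -- every Sylow `p`-subgroup is `P`
    have hSyl : ∀ S : Sylow p G, (S : Subgroup G) = P := fun S => by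
      refine le_antisymm (fun u hu => ?_) (CfsgLib.Fitting.pCore_le_sylow S)
      obtain ⟨k, hk⟩ := IsPGroup.iff_orderOf.1 S.isPGroup' ⟨u, hu⟩
      rw [Subgroup.orderOf_mk] at hk
      rcases hord u with h | h | h
      · rw [orderOf_eq_one_iff.1 h]; exact one_mem P
      · exact hPall u h
      · exact absurd ((Nat.prime_dvd_prime_iff_eq hq hp).1 (hq.dvd_of_dvd_pow (h ▸ hk.dvd))).symm hpq
    -- the Sylow `q`-subgroups have order `q`
    obtain ⟨Q⟩ := (inferInstance : Nonempty (Sylow q G))
    haveI : Nontrivial (Q : Subgroup G) := by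
      rw [← Finite.one_lt_card_iff_nontrivial]
      exact hq.one_lt.trans_le (Nat.le_of_dvd Nat.card_pos (Q.dvd_card_of_dvd_card hqd))
    haveI := Q.isPGroup'.center_nontrivial
    obtain ⟨⟨x0, hx0⟩, hx01⟩ := exists_ne (1 : Subgroup.center (Q : Subgroup G))
    have hx0ne : (x0 : G) ≠ 1 := fun h => hx01 (Subtype.ext (Subtype.ext h))
    have hQord : ∀ u ∈ (Q : Subgroup G), u ≠ 1 → orderOf u = q := by
      intro u hu hu1
      obtain ⟨k, hk⟩ := IsPGroup.iff_orderOf.1 Q.isPGroup' ⟨u, hu⟩
      rw [Subgroup.orderOf_mk] at hk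
      rcases hord u with h | h | h
      · exact absurd (orderOf_eq_one_iff.1 h) hu1
      · exact absurd ((Nat.prime_dvd_prime_iff_eq hp hq).1 (hp.dvd_of_dvd_pow (h ▸ hk.dvd))) hpq
      · exact h
    set x : G := (x0 : G) with hxdef
    have hx : orderOf x = q := hQord x x0.2 hx0ne
    have hQeq : (Q : Subgroup G) = Subgroup.zpowers x := by
      refine le_antisymm (fun w hw => ?_) (Subgroup.zpowers_le.2 x0.2)
      refine mem_zpowers_of_commute (p := p) hq hpq P hx ?_ ?_ hfpf
      · rcases eq_or_ne w 1 with rfl | hw1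
        · simp
        · exact hQord w hw hw1 ▸ pow_orderOf_eq_one w
      · exact (congrArg Subtype.val (Subgroup.mem_center_iff.1 hx0 ⟨w, hw⟩)).symm
    -- the order of `G`
    obtain ⟨S⟩ := (inferInstance : Nonempty (Sylow p G))
    obtain ⟨n, hn⟩ := IsPGroup.iff_card.1 hPp
    have hcardG : Nat.card G = p ^ n * q := by
      have h2 : Nat.card G = p ^ (Nat.card G).factorization p * q ^ (Nat.card G).factorization q := by
        refine Nat.dvd_antisymm ?_ (Nat.Coprime.mul_dvd_of_dvd_of_dvd
          (((Nat.coprime_primes hp hq).2 hpq).pow _ _) (Nat.ordProj_dvd _ _) (Nat.ordProj_dvd _ _))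
        rw [Nat.dvd_iff_prime_pow_dvd_dvd]
        intro r k hr hk
        rcases Nat.eq_zero_or_pos k with rfl | hk0
        · simp
        have hle : k ≤ (Nat.card G).factorization r := (hr.pow_dvd_iff_le_factorization Nat.card_pos.ne').1 hk
        haveI := Fact.mk hr
        obtain ⟨a, ha⟩ := exists_prime_orderOf_dvd_card' r ((dvd_pow_self r hk0.ne').trans hk)
        rcases hord a with h | h | h <;> rw [ha] at h
        · exact absurd h hr.ne_one
        · exact h ▸ (pow_dvd_pow r hle).trans (h ▸ dvd_mul_right _ _)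
        · exact h ▸ (pow_dvd_pow r hle).trans (h ▸ dvd_mul_left _ _)
      rwa [← S.card_eq_multiplicity, hSyl S, hn, ← Q.card_eq_multiplicity, hQeq, Nat.card_zpowers, hx] at h2
    have hn1 : 1 ≤ n := by
      by_contra h
      push Not at h
      have h0 : n = 0 := by omega
      rw [h0, pow_zero, Subgroup.card_eq_one] at hn
      exact hPne hn
    refine ⟨p, q, n, inferInstance, inferInstance, hpq, hn1, hcardG, fun S => ?_, ?_, ?_⟩
    · rw [hSyl S]
      exact ⟨inferInstance, hPc, fun a ha => by simpa using congrArg Subtype.val (hexp ⟨a, ha⟩)⟩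
    · -- `p` is a primitive root
      obtain ⟨T, hT⟩ : ∃ T : Module.End (ZMod p) (Additive P), T = conjEnd p P x := ⟨_, rfl⟩
      have hTq : T ^ q = 1 := by
        refine LinearMap.ext fun u => Additive.toMul.injective (Subtype.ext ?_)
        rw [hT, conjEnd_pow_apply, show x ^ q = 1 from hx ▸ pow_orderOf_eq_one x]
        simp
      have hTfpf : ∀ v, T v = v → v = 0 := fun u hu => by
        rw [hT] at hu
        have h2 := congrArg (fun v : Additive P => ((Additive.toMul v : P) : G)) hu
        exact Additive.toMul.injective (Subtype.ext (hfpf x hx _ (Additive.toMul u).2 h2))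
      have hcompl : P.IsComplement' (Subgroup.zpowers x) := by
        apply Subgroup.isComplement'_of_coprime
        · rw [hn, Nat.card_zpowers, hx, hcardG]
        · rw [hn, Nat.card_zpowers, hx]
          exact ((Nat.coprime_primes hp hq).2 hpq).pow_left n
      -- an automorphism restricts to a semilinear map
      have hrestrict : ∀ e : MulAut G, ∃ σ : Additive P ≃+ Additive P,
          (∀ u : P, ((Additive.toMul (σ (Additive.ofMul u)) : P) : G) = e u) ∧
          ∀ j : ℕ, (∃ u ∈ P, e x = u * x ^ j) → ∀ v, σ (T v) = (T ^ j) (σ v) := by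
        intro e
        let σm : P ≃* P :=
          { toFun := fun u => ⟨e u, hinv e u u.2⟩
            invFun := fun u => ⟨e.symm u, hinv e.symm u u.2⟩
            left_inv := fun u => Subtype.ext (e.symm_apply_apply _)
            right_inv := fun u => Subtype.ext (e.apply_symm_apply _)
            map_mul' := fun u v => Subtype.ext (map_mul e _ _) }
        refine ⟨MulEquiv.toAdditive σm, fun u => rfl, ?_⟩
        rintro j ⟨u, hu, hux⟩ v
        apply Additive.toMul.injective
        apply Subtype.ext
        rw [hT, conjEnd_pow_apply]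
        change e (x * ((Additive.toMul v : P) : G) * x⁻¹) = x ^ j * e ((Additive.toMul v : P) : G) * (x ^ j)⁻¹
        rw [map_mul, map_mul, map_inv, hux]
        have hmem : x ^ j * e ((Additive.toMul v : P) : G) * (x ^ j)⁻¹ ∈ P :=
          ‹P.Normal›.conj_mem _ (hinv e _ (Additive.toMul v).2) _
        have hc : Commute u (x ^ j * e ((Additive.toMul v : P) : G) * (x ^ j)⁻¹) :=
          setLike_mul_comm (s := P) hu hmem
        calc u * x ^ j * e ((Additive.toMul v : P) : G) * (u * x ^ j)⁻¹
            = u * (x ^ j * e ((Additive.toMul v : P) : G) * (x ^ j)⁻¹) * u⁻¹ := by group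
          _ = _ := by rw [hc.eq, mul_inv_cancel_right]
      have hdecomp : ∀ g : G, orderOf g = q → ∃ j : ℕ, ¬ q ∣ j ∧ ∃ u ∈ P, g = u * x ^ j := by
        intro g hg
        obtain ⟨⟨⟨u, hu⟩, ⟨c, hc⟩⟩, huc⟩ := (hcompl.existsUnique g).exists
        rw [SetLike.mem_coe, ← mem_powers_iff_mem_zpowers, Submonoid.mem_powers_iff] at hc
        obtain ⟨j, rfl⟩ := hc
        refine ⟨j, fun hd => ?_, u, hu, huc.symm⟩
        have : x ^ j = 1 := orderOf_dvd_iff_pow_eq_one.1 (hx ▸ hd)
        simp only [this, mul_one] at huc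
        subst huc
        rcases eq_or_ne u 1 with h | h
        · rw [h, orderOf_one] at hg; exact hq.ne_one hg.symm
        · exact hpq ((hPord u hu h).symm.trans hg)
      refine CfsgLib.Structure80.orderOf_eq_of_twists hpq T hTq hTfpf ?_ ?_
      · intro v w hv hw
        have hv' : ((Additive.toMul v : P) : G) ≠ 1 := fun h => hv (Additive.toMul.injective (Subtype.ext h))
        have hw' : ((Additive.toMul w : P) : G) ≠ 1 := fun h => hw (Additive.toMul.injective (Subtype.ext h))
        obtain ⟨e, he⟩ := haut _ _ ((hPord _ (Additive.toMul w).2 hw').trans (hPord _ (Additive.toMul v).2 hv').symm)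
        obtain ⟨σ, hσ, hσT⟩ := hrestrict e
        refine ⟨σ, Additive.toMul.injective (Subtype.ext ((hσ _).trans he)), ?_⟩
        obtain ⟨j, hj, hju⟩ := hdecomp (e x) ((MulEquiv.orderOf_eq e x).trans hx)
        exact ⟨j, hj, hσT j hju⟩
      · intro j hj
        have hxj : orderOf (x ^ j) = q := by
          rw [orderOf_pow, hx, (hq.coprime_iff_not_dvd.2 hj).gcd_eq_one, Nat.div_one]
        obtain ⟨e, he⟩ := haut (x ^ j) x (hxj.trans hx.symm)
        obtain ⟨σ, -, hσT⟩ := hrestrict e
        exact ⟨σ, hσT j ⟨1, one_mem P, by rw [one_mul, he]⟩⟩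
    · intro a b ha hb hab
      have := hfpf a ha b (hPall b hb) hab
      rw [this, orderOf_one] at hb
      exact hp.ne_one hb.symm
  · rintro ⟨p, q, n, hp, hq, hpq, hn, hcard, hS, hprim, hfix⟩
    obtain ⟨S⟩ := (inferInstance : Nonempty (Sylow p G))
    obtain ⟨hSn, hSc, hSe⟩ := hS S
    set P : Subgroup G := (S : Subgroup G) with hPdef
    haveI := hSn
    haveI := hSc
    have hPcard : Nat.card P = p ^ n := by
      rw [hPdef, S.card_eq_multiplicity, hcard, Nat.factorization_mul (pow_ne_zero _ hp.out.ne_zero) hq.out.ne_zero,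
        Finsupp.add_apply, Nat.factorization_pow_self hp.out, hq.out.factorization, Finsupp.single_eq_of_ne hpq,
        add_zero]
    have hexp : ∀ u : P, u ^ p = 1 := fun u => Subtype.ext (by simpa using hSe u u.2)
    haveI : Module (ZMod p) (Additive P) := AddCommGroup.zmodModule (G := Additive P) (n := p) fun v => by
      apply Additive.toMul.injective
      simpa using hexp (Additive.toMul v)
    have hPord : ∀ u ∈ P, u ≠ 1 → orderOf u = p := fun u hu hu1 => orderOf_eq_prime (hSe u hu) hu1
    obtain ⟨x, hx⟩ := exists_prime_orderOf_dvd_card' q (hcard ▸ dvd_mul_left q _)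
    have hcompl : P.IsComplement' (Subgroup.zpowers x) := by
      apply Subgroup.isComplement'_of_coprime
      · rw [hPcard, Nat.card_zpowers, hx, hcard]
      · rw [hPcard, Nat.card_zpowers, hx]
        exact ((Nat.coprime_primes hp.out hq.out).2 hpq).pow_left n
    obtain ⟨T, hT⟩ : ∃ T : Module.End (ZMod p) (Additive P), T = conjEnd p P x := ⟨_, rfl⟩
    have hTq : T ^ q = 1 := by
      refine LinearMap.ext fun u => Additive.toMul.injective (Subtype.ext ?_)
      rw [hT, conjEnd_pow_apply, show x ^ q = 1 from hx ▸ pow_orderOf_eq_one x]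
      simp
    have hTfpf : ∀ v, T v = v → v = 0 := fun u hu => by
      apply Additive.toMul.injective
      apply Subtype.ext
      rw [hT] at hu
      by_contra hu1
      have h2 := congrArg (fun v : Additive P => ((Additive.toMul v : P) : G)) hu
      exact hfix x _ hx (hPord _ (Additive.toMul u).2 hu1) h2
    -- elements outside `P` have order `q`
    have hout : ∀ g : G, g ∉ P → orderOf g = q := by
      intro g hg
      have hgq : g ^ q ∈ P := by
        have hi : P.index = q := by
          rw [hcompl.symm.index_eq_card, Nat.card_zpowers, hx]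
        rw [← hi]
        exact Subgroup.pow_index_mem P g
      by_contra hne
      have hgq1 : g ^ q ≠ 1 := fun h => hne (orderOf_eq_prime h fun h1 => hg (h1 ▸ one_mem P))
      have hb := hPord _ hgq hgq1
      have hgpq : g ^ (p * q) = 1 := by
        rw [mul_comm, pow_mul, orderOf_dvd_iff_pow_eq_one.1 hb.dvd]
      have ha : orderOf (g ^ p) = q := by
        apply orderOf_eq_prime (by rw [← pow_mul, hgpq])
        intro h
        have hgp : orderOf g ∣ p := orderOf_dvd_of_pow_eq_one h
        rcases (Nat.dvd_prime hp.out).1 hgp with h1 | h1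
        · exact hg (orderOf_eq_one_iff.1 h1 ▸ one_mem P)
        · apply hg
          have hz : IsPGroup p (Subgroup.zpowers g) := IsPGroup.of_card (n := 1) (by rw [Nat.card_zpowers, h1, pow_one])
          obtain ⟨R, hR⟩ := hz.exists_le_sylow
          obtain ⟨c, rfl⟩ := MulAction.exists_smul_eq G S R
          rw [Sylow.smul_eq_of_normal] at hR
          exact hR (Subgroup.mem_zpowers g)
      refine hfix _ _ ha hb ?_
      rw [(Commute.pow_pow_self g p q).eq, mul_inv_cancel_right]
    have hxi : ∀ g : G, g ∉ P → ∃ i : ℕ, ¬ q ∣ i ∧ ∃ c ∈ P, g = c * x ^ i * c⁻¹ := by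
      intro g hg
      obtain ⟨⟨⟨u, hu⟩, ⟨b, hb⟩⟩, hub⟩ := (hcompl.existsUnique g).exists
      rw [SetLike.mem_coe, ← mem_powers_iff_mem_zpowers, Submonoid.mem_powers_iff] at hb
      obtain ⟨i, rfl⟩ := hb
      simp only at hub
      have hi : ¬ q ∣ i := fun hd => hg (by
        rw [← hub, orderOf_dvd_iff_pow_eq_one.1 (hx ▸ hd), mul_one]; exact hu)
      have hxi' : orderOf (x ^ i) = q := by
        rw [orderOf_pow, hx, (hq.out.coprime_iff_not_dvd.2 hi).gcd_eq_one, Nat.div_one]
      let f : P → P := fun c => c * ⟨x ^ i * ((c : G))⁻¹ * (x ^ i)⁻¹, hSn.conj_mem _ (inv_mem c.2) _⟩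
      have hinj : Function.Injective f := by
        intro c d hcd
        have hcd' : (c : G) * (x ^ i * (c : G)⁻¹ * (x ^ i)⁻¹) = (d : G) * (x ^ i * (d : G)⁻¹ * (x ^ i)⁻¹) :=
          congrArg Subtype.val hcd
        apply Subtype.ext
        by_contra hne
        refine hfix (x ^ i) ((d : G)⁻¹ * c) hxi' (hPord _ (mul_mem (inv_mem d.2) c.2)
          (fun h => hne (inv_mul_eq_one.1 h).symm)) ?_
        have hcomm : Commute ((d : G)⁻¹) (x ^ i * (c : G) * (x ^ i)⁻¹) :=
          setLike_mul_comm (s := P) (inv_mem d.2) (hSn.conj_mem _ c.2 _)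
        have h1 : x ^ i * (d : G)⁻¹ * (x ^ i)⁻¹ = (d : G)⁻¹ * c * (x ^ i * (c : G)⁻¹ * (x ^ i)⁻¹) := by
          rw [mul_assoc ((d : G)⁻¹) (c : G), hcd', inv_mul_cancel_left]
        calc x ^ i * ((d : G)⁻¹ * c) * (x ^ i)⁻¹ = (x ^ i * (d : G)⁻¹ * (x ^ i)⁻¹) * (x ^ i * (c : G) * (x ^ i)⁻¹) := by group
          _ = _ := by rw [h1]; group
      obtain ⟨c, hc⟩ := (Finite.injective_iff_surjective.1 hinj) ⟨u, hu⟩
      refine ⟨i, hi, c, c.2, ?_⟩
      have hc' : (c : G) * (x ^ i * (c : G)⁻¹ * (x ^ i)⁻¹) = u := congrArg Subtype.val hc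
      rw [← hub, ← hc']
      group
    have hPne : P ≠ ⊥ := fun h => by
      rw [h, Subgroup.card_bot] at hPcard
      exact (Nat.one_lt_pow (by omega) hp.out.one_lt).ne hPcard
    obtain ⟨u0, hu0, hu01⟩ := P.bot_or_exists_ne_one.resolve_left hPne
    have hv0 : Additive.ofMul (⟨u0, hu0⟩ : P) ≠ 0 := fun h => hu01 (congrArg Subtype.val (congrArg Additive.toMul h))
    have hautP : ∀ a ∈ P, ∀ b ∈ P, a ≠ 1 → b ≠ 1 → ∃ e : MulAut G, e b = a := by
      intro a ha b hb ha1 hb1
      obtain ⟨σ, hσ, hσT⟩ := CfsgLib.Structure80.exists_twist hpq hprim T hTq hTfpf (i := 1) hq.out.not_dvd_one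
        (v := Additive.ofMul ⟨b, hb⟩) (w := Additive.ofMul ⟨a, ha⟩)
        (fun h => hb1 (congrArg Subtype.val (congrArg Additive.toMul h)))
        (fun h => ha1 (congrArg Subtype.val (congrArg Additive.toMul h)))
      obtain ⟨e, -, heu⟩ := exists_aut_extension (p := p) P hx hcompl hq.out.not_dvd_one σ (hT ▸ hσT)
      exact ⟨e, by rw [heu ⟨b, hb⟩, hσ]; rfl⟩
    have hautQ : ∀ g : G, g ∉ P → ∃ e : MulAut G, e x = g := by
      intro g hg
      obtain ⟨i, hi, c, hc, rfl⟩ := hxi g hg
      obtain ⟨σ, -, hσT⟩ := CfsgLib.Structure80.exists_twist hpq hprim T hTq hTfpf hi hv0 hv0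
      obtain ⟨e, hex, -⟩ := exists_aut_extension (p := p) P hx hcompl hi σ (hT ▸ hσT)
      exact ⟨e.trans (MulAut.conj c), by simp [hex]⟩
    have horders : Set.range (orderOf : G → ℕ) = {1, p, q} := by
      ext m
      constructor
      · rintro ⟨g, rfl⟩
        rcases eq_or_ne g 1 with rfl | hg1
        · simp
        by_cases hg : g ∈ P
        · simp [hPord g hg hg1]
        · simp [hout g hg]
      · rintro (rfl | rfl | rfl)
        · exact ⟨1, orderOf_one⟩
        · exact ⟨u0, hPord u0 hu0 hu01⟩
        · exact ⟨x, hx⟩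
    have hinP : ∀ g : G, g ≠ 1 → (g ∈ P ↔ orderOf g = p) := fun g hg1 =>
      ⟨fun hg => hPord g hg hg1, fun h => by_contra fun hg => hpq (h.symm.trans (hout g hg))⟩
    rw [card_orbits, horders, Set.ncard_eq_three.2 ⟨1, p, q, hp.out.one_lt.ne, hq.out.one_lt.ne, hpq, rfl⟩]
    intro a b hab
    rcases eq_or_ne a 1 with rfl | ha1
    · exact ⟨1, by simpa [eq_comm, orderOf_eq_one_iff] using hab⟩
    have hb1 : b ≠ 1 := fun h => ha1 (orderOf_eq_one_iff.1 (by rw [hab, h, orderOf_one]))
    by_cases haP : a ∈ P
    · exact hautP a haP b ((hinP b hb1).2 (hab ▸ (hinP a ha1).1 haP)) ha1 hb1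
    · have hbP : b ∉ P := fun h => haP ((hinP a ha1).2 (hab.trans ((hinP b hb1).1 h)))
      obtain ⟨e, he⟩ := hautQ a haP
      obtain ⟨e', he'⟩ := hautQ b hbP
      exact ⟨e'.symm.trans e, by
        change e (e'.symm b) = a
        rw [← he', MulEquiv.symm_apply_apply, he]⟩

end Cfsg.Agent.S4081
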