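import Cfsg.Statements.S4082
import Mathlib
import Cfsg.Agent.Lib.Transfer.NormalComplement
import Cfsg.Agent.Lib.SmallOrth.Dihedral
import Cfsg.Agent.Lib.Coprime.Action

set_option autoImplicit false
open Cfsg
open scoped Pointwise

namespace Cfsg.Agent.S4082

section
variable {G : Type*} [Group G] [Finite G] {p : ℕ} [hp : Fact p.Prime]

lemma decomp (x : G) : ∃ a b : G, x = a * b ∧ a ∈ Subgroup.zpowers x ∧ b ∈ Subgroup.zpowers x ∧
    Commute a b ∧ IsPGroup p (Subgroup.zpowers a) ∧ (orderOf b).Coprime p := by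
  obtain ⟨e, m, hm, hn⟩ := Nat.exists_eq_pow_mul_and_not_dvd (orderOf_pos x).ne' p hp.out.ne_one
  have hcop : Nat.Coprime (p ^ e) m := (hp.out.coprime_iff_not_dvd.2 hm).pow_left e
  have h := Nat.gcd_eq_gcd_ab (p ^ e) m
  rw [hcop] at h
  set s := Nat.gcdA (p ^ e) m
  set t := Nat.gcdB (p ^ e) m
  have h1 : x ^ (orderOf x) = 1 := pow_orderOf_eq_one x
  refine ⟨(x ^ m) ^ t, (x ^ p ^ e) ^ s, ?_, ?_, ?_, ?_, ?_, ?_⟩
  · rw [← zpow_natCast, ← zpow_mul, ← zpow_natCast x (p ^ e), ← zpow_mul, ← zpow_add]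
    conv_lhs => rw [← zpow_one x]
    congr 1
    push_cast at h ⊢
    linarith
  · exact Subgroup.zpow_mem _ (Subgroup.pow_mem _ (Subgroup.mem_zpowers x) _) _
  · exact Subgroup.zpow_mem _ (Subgroup.pow_mem _ (Subgroup.mem_zpowers x) _) _
  · exact ((Commute.refl x).pow_pow _ _).zpow_zpow _ _
  · have h2 : ((x ^ m) ^ t) ^ (p ^ e) = 1 := by
      rw [← zpow_natCast, ← zpow_mul, mul_comm, zpow_mul, zpow_natCast, ← pow_mul, mul_comm m, ← hn, h1, one_zpow]
    obtain ⟨i, -, hi⟩ := (Nat.dvd_prime_pow hp.out).1 (orderOf_dvd_of_pow_eq_one h2)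
    exact IsPGroup.of_card (n := i) (by rw [Nat.card_zpowers, hi])
  · have h2 : ((x ^ p ^ e) ^ s) ^ m = 1 := by
      rw [← zpow_natCast, ← zpow_mul, mul_comm, zpow_mul, zpow_natCast, ← pow_mul, ← hn, h1, one_zpow]
    exact Nat.Coprime.coprime_dvd_left (orderOf_dvd_of_pow_eq_one h2) (hp.out.coprime_iff_not_dvd.2 hm).symm

lemma isCyclic_pSub (P : Sylow p G) (hc : IsCyclic (P : Subgroup G)) {R : Subgroup G} (hR : IsPGroup p R) :
    IsCyclic R := by
  obtain ⟨P', hP'⟩ := hR.exists_le_sylow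
  haveI : IsCyclic (P' : Subgroup G) :=
    isCyclic_of_surjective _ (Sylow.equiv P P').surjective
  exact Subgroup.isCyclic_of_le hP'

/-- In a cyclic `p`-group every subgroup of order `p` lies in every nontrivial cyclic subgroup. -/
lemma le_zpowers_of_card {R Q : Subgroup G} (hR : IsPGroup p R) (hRc : IsCyclic R) (hQ : Q ≤ R)
    (hQc : Nat.card Q = p) {v : G} (hv : v ∈ R) (hv1 : v ≠ 1) : Q ≤ Subgroup.zpowers v := by
  classical
  obtain ⟨k, hk⟩ := IsPGroup.iff_orderOf.1 hR ⟨v, hv⟩
  rw [Subgroup.orderOf_mk] at hk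
  have hk0 : k ≠ 0 := fun h => hv1 (orderOf_eq_one_iff.1 (by rw [hk, h, pow_zero]))
  set w := v ^ (p ^ (k - 1)) with hw
  have hwo : orderOf w = p := by
    rw [hw, orderOf_pow' _ (pow_ne_zero _ hp.out.ne_zero), hk,
      Nat.gcd_eq_right (pow_dvd_pow p (Nat.sub_le k 1)), Nat.pow_div (Nat.sub_le k 1) hp.out.pos,
      show k - (k - 1) = 1 by omega, pow_one]
  have hwR : w ∈ R := R.pow_mem hv _
  intro y hy
  letI := Fintype.ofFinite R
  let w' : R := ⟨w, hwR⟩
  have hw' : orderOf w' = p := (Subgroup.orderOf_mk w hwR).trans hwo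
  have hsub : Finset.univ.filter (fun a => a ∈ Subgroup.zpowers w') ⊆
      Finset.univ.filter (fun a : R => a ^ p = 1) := by
    intro a ha
    simp only [Finset.mem_filter, Finset.mem_univ, true_and] at ha ⊢
    exact orderOf_dvd_iff_pow_eq_one.1 (hw' ▸ orderOf_dvd_of_mem_zpowers ha)
  have hcard : (Finset.univ.filter (fun a => a ∈ Subgroup.zpowers w')).card = p := by
    rw [← Fintype.card_subtype, ← Nat.card_eq_fintype_card]
    exact (Nat.card_zpowers w').trans hw'
  have heq := Finset.eq_of_subset_of_card_le hsub (by rw [hcard]; exact IsCyclic.card_pow_eq_one_le hp.out.pos)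
  have hy' : (⟨y, hQ hy⟩ : R) ∈ Finset.univ.filter (fun a : R => a ^ p = 1) := by
    simp only [Finset.mem_filter, Finset.mem_univ, true_and]
    apply Subtype.ext
    have := congrArg Subtype.val (pow_card_eq_one' (x := (⟨y, hy⟩ : Q)))
    rw [hQc] at this
    simpa using this
  rw [← heq, Finset.mem_filter] at hy'
  obtain ⟨i, hi⟩ := Subgroup.mem_zpowers_iff.1 hy'.2
  have hyw : w ^ i = y := congrArg Subtype.val hi
  rw [← hyw]
  exact Subgroup.zpow_mem _ (Subgroup.pow_mem _ (Subgroup.mem_zpowers v) _) _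

/-- An involutory automorphism of a cyclic group of odd prime power order is `±1`. -/
lemma comm_or_inverts (hp2 : p ≠ 2) {R Q : Subgroup G} (hR : IsPGroup p R) (hRc : IsCyclic R) (hQ : Q ≤ R)
    (hQc : Nat.card Q = p) {y : G} (hy : y * y = 1) (hyR : y ∈ Subgroup.normalizer (R : Set G)) :
    (∀ u ∈ R, y * u * y⁻¹ = u) ∨ (∀ u ∈ R, y * u * y⁻¹ = u⁻¹) := by
  have hmem : ∀ u ∈ R, y * u * y⁻¹ ∈ R := fun u hu => ((Subgroup.mem_normalizer_iff.1 hyR) u).1 hu
  have hcomm : ∀ a ∈ R, ∀ b ∈ R, a * b = b * a := by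
    haveI : IsMulCommutative R := inferInstance
    exact fun a ha b hb => setLike_mul_comm (s := R) ha hb
  have hinv : y⁻¹ = y := inv_eq_of_mul_eq_one_left hy
  have hsq : ∀ u, y * (y * u * y⁻¹) * y⁻¹ = u := fun u => by
    rw [hinv]
    calc y * (y * u * y) * y = (y * y) * u * (y * y) := by simp only [mul_assoc]
      _ = u := by rw [hy, one_mul, mul_one]
  by_contra hcon
  push Not at hcon
  obtain ⟨⟨u, hu, hu'⟩, w, hw, hw'⟩ := hcon
  set v := y * w * y⁻¹ * w with hv
  set t := y * u * y⁻¹ * u⁻¹ with ht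
  have hv1 : v ≠ 1 := fun h => hw' (eq_inv_of_mul_eq_one_left h)
  have ht1 : t ≠ 1 := fun h => hu' (mul_inv_eq_one.1 h)
  have hQv := le_zpowers_of_card hR hRc hQ hQc (R.mul_mem (hmem w hw) hw) hv1
  have hQt := le_zpowers_of_card hR hRc hQ hQc (R.mul_mem (hmem u hu) (R.inv_mem hu)) ht1
  have hyv : y * v * y⁻¹ = v := by
    rw [hv, show y * (y * w * y⁻¹ * w) * y⁻¹ = (y * (y * w * y⁻¹) * y⁻¹) * (y * w * y⁻¹) by group, hsq,
      hcomm w hw _ (hmem w hw)]
  have hyt : y * t * y⁻¹ = t⁻¹ := by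
    rw [ht, show y * (y * u * y⁻¹ * u⁻¹) * y⁻¹ = (y * (y * u * y⁻¹) * y⁻¹) * (y * u * y⁻¹)⁻¹ by group, hsq]
    group
  obtain ⟨q, hq, hq1⟩ := Q.bot_or_exists_ne_one.resolve_left fun h => by
    rw [h, Subgroup.card_bot] at hQc; exact hp.out.ne_one hQc.symm
  obtain ⟨i, hi⟩ := Subgroup.mem_zpowers_iff.1 (hQv hq)
  obtain ⟨j, hj⟩ := Subgroup.mem_zpowers_iff.1 (hQt hq)
  have e1 : y * q * y⁻¹ = q := by rw [← hi, ← conj_zpow, hyv]
  have e2 : y * q * y⁻¹ = q⁻¹ := by rw [← hj, ← conj_zpow, hyt, inv_zpow]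
  have hq2 : q ^ 2 = 1 := by
    rw [sq]; nth_rw 1 [← e1]; rw [e2, inv_mul_cancel]
  have hqp : q ^ p = 1 := by
    have := congrArg Subtype.val (pow_card_eq_one' (x := (⟨q, hq⟩ : Q)))
    rw [hQc] at this
    simpa using this
  exact hq1 (orderOf_eq_one_iff.1 (Nat.eq_one_of_dvd_coprimes ((Nat.coprime_primes hp.out Nat.prime_two).2 hp2)
    (orderOf_dvd_of_pow_eq_one hqp) (orderOf_dvd_of_pow_eq_one hq2)))

/-- The hypothesis on restricted `p`-by-cyclic subgroups, applied to `R⟨y⟩`. -/
lemma test (hres : ∀ H : Subgroup G, (∀ S : Sylow p ↥H, (S : Subgroup ↥H).Normal) →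
      (∀ (S : Sylow p ↥H) [(S : Subgroup ↥H).Normal], IsCyclic (↥H ⧸ (S : Subgroup ↥H))) →
      IsCyclic H ∨ (∃ n : ℕ, Nonempty (H ≃* DihedralGroup (p ^ n))))
    {R : Subgroup G} (hR : IsPGroup p R) {y : G} (hy : (orderOf y).Coprime p)
    (hyR : y ∈ Subgroup.normalizer (R : Set G)) :
    (∀ u ∈ R, y * u = u * y) ∨ y * y = 1 := by
  set H := R ⊔ Subgroup.zpowers y with hH
  have hyH : y ∈ H := Subgroup.mem_sup_right (Subgroup.mem_zpowers y)
  have hRH : R ≤ H := le_sup_left
  have hHN : H ≤ Subgroup.normalizer (R : Set G) := sup_le Subgroup.le_normalizer (Subgroup.zpowers_le.2 hyR)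
  set R' := R.subgroupOf H with hR'
  haveI hR'n : R'.Normal := Subgroup.normal_subgroupOf_of_le_normalizer hHN
  have hgen : R' ⊔ Subgroup.zpowers (⟨y, hyH⟩ : H) = ⊤ := by
    apply Subgroup.map_injective H.subtype_injective
    rw [Subgroup.map_sup, hR', Subgroup.subgroupOf_map_subtype, inf_of_le_left hRH, MonoidHom.map_zpowers,
      ← MonoidHom.range_eq_map, Subgroup.range_subtype]
    rfl
  have himg : Subgroup.zpowers ((QuotientGroup.mk' R') ⟨y, hyH⟩) = ⊤ := by
    rw [← Subgroup.map_top_of_surjective _ (QuotientGroup.mk'_surjective R'), ← hgen, Subgroup.map_sup,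
      QuotientGroup.map_mk'_self, bot_sup_eq, MonoidHom.map_zpowers]
  have hidx : ¬ p ∣ R'.index := by
    rw [Subgroup.index_eq_card, ← Subgroup.card_top, ← himg, Nat.card_zpowers]
    intro hd
    have h1 : orderOf ((QuotientGroup.mk' R') ⟨y, hyH⟩) ∣ orderOf y :=
      (orderOf_map_dvd _ _).trans (Subgroup.orderOf_mk y hyH).dvd
    exact hp.out.ne_one (Nat.eq_one_of_dvd_coprimes hy (hd.trans h1) dvd_rfl)
  have hR'p : IsPGroup p R' := hR.comap_subtype
  have hSyl : ∀ S : Sylow p H, (S : Subgroup H) = R' := fun S => by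
    haveI : ((hR'p.toSylow hidx : Sylow p H) : Subgroup H).Normal := hR'n
    obtain ⟨k, hk⟩ := MulAction.exists_smul_eq H (hR'p.toSylow hidx) S
    rw [← hk, Sylow.smul_eq_of_normal]
    rfl
  have hres' := hres H (fun S => by rw [hSyl S]; exact hR'n) fun S hS => by
    haveI : IsCyclic (H ⧸ R') := ⟨⟨_, fun a => (himg ▸ Subgroup.mem_top a :
      a ∈ Subgroup.zpowers ((QuotientGroup.mk' R') ⟨y, hyH⟩))⟩⟩
    exact isCyclic_of_surjective _ (QuotientGroup.quotientMulEquivOfEq (hSyl S).symm).surjective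
  rcases hres' with hc | ⟨n, ⟨e⟩⟩
  · left
    intro u hu
    haveI : IsMulCommutative H := inferInstance
    exact setLike_mul_comm (s := H) hyH (hRH hu)
  · right
    have h1 : orderOf y ∣ 2 * p ^ n := by
      rw [← DihedralGroup.nat_card, ← Nat.card_congr e.toEquiv]
      exact Subgroup.orderOf_dvd_natCard H hyH
    have h2 : orderOf y ∣ 2 := (hy.pow_right n).dvd_of_dvd_mul_right h1
    rw [← sq]
    exact orderOf_dvd_iff_pow_eq_one.1 h2

/-- Abelianness from a central normal cyclic subgroup with cyclic quotient. -/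
lemma isCyclic_of_central {H : Type*} [Group H] [Finite H] (S : Sylow p H) [(S : Subgroup H).Normal]
    [IsCyclic (S : Subgroup H)] [IsCyclic (H ⧸ (S : Subgroup H))]
    (hc : (S : Subgroup H) ≤ Subgroup.center H) : IsCyclic H := by
  haveI : IsMulCommutative H := MonoidHom.isMulCommutative_of_isCyclic_of_ker_le_center
    (QuotientGroup.mk' (S : Subgroup H)) (by rw [QuotientGroup.ker_mk']; exact hc)
  haveI : IsZGroup H := ⟨fun q hq T => by
    haveI := Fact.mk hq
    rcases eq_or_ne q p with rfl | hqp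
    · obtain ⟨k, hk⟩ := MulAction.exists_smul_eq H S T
      rw [Sylow.smul_eq_of_normal] at hk
      subst hk
      infer_instance
    · refine isCyclic_of_injective ((QuotientGroup.mk' (S : Subgroup H)).comp (T : Subgroup H).subtype)
        ((injective_iff_map_eq_one _).2 fun t ht => ?_)
      have hts : (t : H) ∈ (S : Subgroup H) := (QuotientGroup.eq_one_iff _).1 ht
      obtain ⟨i, hi⟩ := IsPGroup.iff_orderOf.1 S.isPGroup' ⟨t, hts⟩
      obtain ⟨j, hj⟩ := IsPGroup.iff_orderOf.1 T.isPGroup' t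
      rw [Subgroup.orderOf_mk] at hi
      rw [← Subgroup.orderOf_coe, hi] at hj
      refine Subtype.ext (orderOf_eq_one_iff.1 (Nat.eq_one_of_dvd_coprimes
        (((Nat.coprime_primes hp.out hq).2 hqp.symm).pow i j) hi.dvd (hi.trans hj).dvd))⟩
  haveI : Group.IsNilpotent H := by
    letI : CommGroup H := { (inferInstance : Group H) with mul_comm := fun a b => mul_comm' a b }
    exact CommGroup.isNilpotent
  infer_instance

end

/-- Let p be an odd prime and G a finite group with Sylow p-subgroup P. Say that G has restricted p-by-cyclic subgroups when every subgroup H of G whose Sylow p-subgroup is normal in H with cyclic quotient is itself cyclic or dihedral of order 2pⁿ for some n. Then G has restricted p-by-cyclic subgroups if and only if P is cyclic and one of the following holds: (1) N_G(P) = C_G(P); or (2) N_G(P)/C_G(P) has order 2 and, for the subgroup Q of order p of P, the centralizer C_G(Q) is abelian and every element of N_G(Q) outside C_G(Q) is an involution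 inverting every element of C_G(Q). -/
theorem result {G : Type*} [Group G] [Finite G] {p : ℕ}
    [Fact p.Prime] (hp : p ≠ 2) (P : Sylow p G) :
    (∀ H : Subgroup G, (∀ S : Sylow p ↥H, (S : Subgroup ↥H).Normal) →
        (∀ (S : Sylow p ↥H) [(S : Subgroup ↥H).Normal], IsCyclic (↥H ⧸ (S : Subgroup ↥H))) →
        IsCyclic H ∨ (∃ n : ℕ, Nonempty (H ≃* DihedralGroup (p ^ n)))) ↔
    (IsCyclic P ∧
      (Subgroup.normalizer ((P : Subgroup G) : Set G) = Subgroup.centralizer ((P : Subgroup G) : Set G) ∨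
       ((Subgroup.centralizer ((P : Subgroup G) : Set G)).relIndex (Subgroup.normalizer ((P : Subgroup G) : Set G)) = 2 ∧
        ∀ Q : Subgroup G, Q ≤ P → Nat.card Q = p →
          IsMulCommutative ↥(Subgroup.centralizer (Q : Set G)) ∧
          ∀ x : G, x ∈ Subgroup.normalizer (Q : Set G) → x ∉ Subgroup.centralizer (Q : Set G) →
            orderOf x = 2 ∧ ∀ c : G, c ∈ Subgroup.centralizer (Q : Set G) → x * c * x⁻¹ = c⁻¹))) := by
  classical
  constructor
  · intro hres
    -- `P` is cyclic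
    have hP1 : ∀ S : Sylow p (P : Subgroup G), (S : Subgroup (P : Subgroup G)) = ⊤ := fun S => by
      have h := S.is_maximal' (IsPGroup.to_subgroup P.isPGroup' ⊤) le_top
      exact h.symm
    have hPc : IsCyclic (P : Subgroup G) := by
      rcases hres P (fun S => by rw [hP1 S]; infer_instance) (fun S hS => by
        haveI : Subsingleton ((P : Subgroup G) ⧸ (S : Subgroup (P : Subgroup G))) := by
          rw [hP1 S]; exact QuotientGroup.subsingleton_quotient_top
        infer_instance) with h | ⟨n, ⟨e⟩⟩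
      · exact h
      · exfalso
        obtain ⟨k, hk⟩ := IsPGroup.iff_card.1 P.isPGroup'
        rw [Nat.card_congr e.toEquiv, DihedralGroup.nat_card] at hk
        exact hp ((Nat.prime_dvd_prime_iff_eq Nat.prime_two Fact.out).1 (Nat.prime_two.dvd_of_dvd_pow (hk ▸ dvd_mul_right 2 _))).symm
    refine ⟨hPc, ?_⟩
    set N := Subgroup.normalizer ((P : Subgroup G) : Set G)
    set C := Subgroup.centralizer ((P : Subgroup G) : Set G)
    have hCN : C ≤ N := Subgroup.centralizer_le_normalizer _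
    rcases eq_or_lt_of_le hCN with h | h
    · exact Or.inl h.symm
    right
    have hcen : ∀ g, g ∈ C ↔ ∀ u ∈ (P : Subgroup G), g * u * g⁻¹ = u := fun g => by
      rw [Subgroup.mem_centralizer_iff]
      exact ⟨fun hg u hu => by rw [← hg u hu, mul_inv_cancel_right], fun hg u hu => (mul_inv_eq_iff_eq_mul.1 (hg u hu)).symm⟩
    obtain ⟨g0, hg0N, hg0C⟩ := SetLike.exists_of_lt h
    -- the order `p` subgroup
    obtain ⟨u1, hu1, hu11⟩ := (P : Subgroup G).bot_or_exists_ne_one.resolve_left fun hb => hg0C ((hcen g0).2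
      fun u hu => by rw [hb, Subgroup.mem_bot] at hu; rw [hu]; group)
    have hex : ∃ Q0 : Subgroup G, Q0 ≤ (P : Subgroup G) ∧ Nat.card Q0 = p := by
      obtain ⟨k, hk⟩ := IsPGroup.iff_orderOf.1 P.isPGroup' ⟨u1, hu1⟩
      rw [Subgroup.orderOf_mk] at hk
      have hk0 : k ≠ 0 := fun h => hu11 (orderOf_eq_one_iff.1 (by rw [hk, h, pow_zero]))
      obtain ⟨u, hu⟩ := exists_prime_orderOf_dvd_card' (G := Subgroup.zpowers u1) p
        (by rw [Nat.card_zpowers, hk]; exact dvd_pow_self p hk0)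
      exact ⟨Subgroup.zpowers (u : G), Subgroup.zpowers_le.2 (Subgroup.zpowers_le.2 hu1 u.2),
        by rw [Nat.card_zpowers, Subgroup.orderOf_coe, hu]⟩
    obtain ⟨Q0, hQ0, hQ0c⟩ := hex
    have hdich : ∀ g ∈ N, g ∈ C ∨ ∀ u ∈ (P : Subgroup G), g * u * g⁻¹ = u⁻¹ := by
      intro g hg
      obtain ⟨a, b, rfl, ha, hb, -, hap, hbc⟩ := decomp (p := p) g
      have haN : a ∈ N := Subgroup.zpowers_le.2 hg ha
      have hbN : b ∈ N := Subgroup.zpowers_le.2 hg hb
      obtain ⟨k, hk⟩ := IsPGroup.iff_orderOf.1 hap ⟨a, Subgroup.mem_zpowers a⟩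
      rw [Subgroup.orderOf_mk] at hk
      have haP : a ∈ (P : Subgroup G) :=
        CfsgLib.Transfer.isPGroup_mem_of_mem_normalizer P haN (k := k) (hk ▸ pow_orderOf_eq_one a)
      haveI := hPc
      have haC : ∀ u ∈ (P : Subgroup G), a * u * a⁻¹ = u := fun u hu => by
        rw [setLike_mul_comm (s := (P : Subgroup G)) haP hu, mul_inv_cancel_right]
      rcases test hres P.isPGroup' hbc hbN with hc | hb2
      · left
        rw [hcen]
        intro u hu
        rw [show a * b * u * (a * b)⁻¹ = a * (b * u * b⁻¹) * a⁻¹ by group, hc u hu, mul_inv_cancel_right]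
        exact haC u hu
      · rcases comm_or_inverts hp P.isPGroup' hPc hQ0 hQ0c hb2 hbN with hc | hi
        · left
          rw [hcen]
          intro u hu
          rw [show a * b * u * (a * b)⁻¹ = a * (b * u * b⁻¹) * a⁻¹ by group, hc u hu]
          exact haC u hu
        · right
          intro u hu
          rw [show a * b * u * (a * b)⁻¹ = a * (b * u * b⁻¹) * a⁻¹ by group, hi u hu]
          exact haC u⁻¹ ((P : Subgroup G).inv_mem hu)
    have hinv0 := (hdich g0 hg0N).resolve_left hg0C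
    refine ⟨?_, ?_⟩
    · rw [Subgroup.relIndex, Subgroup.index_eq_two_iff]
      refine ⟨⟨g0, hg0N⟩, fun b => ?_⟩
      rcases hdich b b.2 with hb | hb
      · exact Or.inr ⟨hb, fun h' => hg0C (by simpa using C.mul_mem (C.inv_mem hb) h')⟩
      · refine Or.inl ⟨(hcen _).2 fun u hu => ?_, fun hbC => hg0C ((hcen g0).2 fun u hu => ?_)⟩
        · change (b : G) * g0 * u * ((b : G) * g0)⁻¹ = u
          rw [show (b : G) * g0 * u * ((b : G) * g0)⁻¹ = b * (g0 * u * g0⁻¹) * (b : G)⁻¹ by group, hinv0 u hu,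
            hb _ ((P : Subgroup G).inv_mem hu), inv_inv]
        · rw [hinv0 u hu, ← hb u hu]
          exact (hcen _).1 hbC u hu
    intro Q hQP hQc
    have hkey : ∀ x : G, x ∈ Subgroup.normalizer (Q : Set G) → x ∉ Subgroup.centralizer (Q : Set G) → x * x = 1 := by
      intro x hx hxC
      obtain ⟨a, b, rfl, ha, hb, hab, hap, hbc⟩ := decomp (p := p) x
      have haN : a ∈ Subgroup.normalizer (Q : Set G) := Subgroup.zpowers_le.2 hx ha
      have hbN : b ∈ Subgroup.normalizer (Q : Set G) := Subgroup.zpowers_le.2 hx hb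
      have hQp : IsPGroup p Q := IsPGroup.of_card (n := 1) (by rw [hQc, pow_one])
      have hR := hap.to_sup_of_normal_right' hQp (Subgroup.zpowers_le.2 haN)
      haveI := isCyclic_pSub P hPc hR
      have haC : ∀ u ∈ Q, a * u = u * a := fun u hu => setLike_mul_comm
        (s := Subgroup.zpowers a ⊔ Q) (Subgroup.mem_sup_left (Subgroup.mem_zpowers a)) (Subgroup.mem_sup_right hu)
      have hbC : ¬ ∀ u ∈ Q, b * u = u * b := fun hc => hxC (Subgroup.mem_centralizer_iff.2 fun u hu =>
        (show Commute (a * b) u from Commute.mul_left (haC u hu) (hc u hu)).eq.symm)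
      have hb2 := (test hres hQp hbc hbN).resolve_left hbC
      have ha1 : a = 1 := by
        by_contra ha1
        have hle := le_zpowers_of_card hR inferInstance (le_sup_right : Q ≤ Subgroup.zpowers a ⊔ Q) hQc
          (Subgroup.mem_sup_left (Subgroup.mem_zpowers a)) ha1
        refine hbC fun u hu => ?_
        obtain ⟨i, rfl⟩ := Subgroup.mem_zpowers_iff.1 (hle hu)
        exact (hab.symm.zpow_right i).eq
      rw [ha1, one_mul, hb2]
    have hg0Q : g0 ∈ Subgroup.normalizer (Q : Set G) ∧ g0 ∉ Subgroup.centralizer (Q : Set G) := by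
      refine ⟨CfsgLib.Coprime.mem_normalizer_of_forall_conj fun u hu => ?_, fun hg => ?_⟩
      · rw [hinv0 u (hQP hu)]; exact Q.inv_mem hu
      · obtain ⟨u, hu, hu1⟩ := Q.bot_or_exists_ne_one.resolve_left fun h => by
          rw [h, Subgroup.card_bot] at hQc; exact (Fact.out : p.Prime).ne_one hQc.symm
        have h1 := hinv0 u (hQP hu)
        rw [← (Subgroup.mem_centralizer_iff.1 hg) u hu, mul_inv_cancel_right, eq_inv_iff_mul_eq_one, ← sq] at h1
        have h2 : u ^ p = 1 := by
          have := congrArg Subtype.val (pow_card_eq_one' (x := (⟨u, hu⟩ : Q)))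
          rw [hQc] at this
          simpa using this
        exact hu1 (orderOf_eq_one_iff.1 (Nat.eq_one_of_dvd_coprimes ((Nat.coprime_primes Fact.out Nat.prime_two).2 hp)
          (orderOf_dvd_of_pow_eq_one h2) (orderOf_dvd_of_pow_eq_one h1)))
    have hinvC : ∀ x : G, x ∈ Subgroup.normalizer (Q : Set G) → x ∉ Subgroup.centralizer (Q : Set G) →
        ∀ c ∈ Subgroup.centralizer (Q : Set G), x * c * x⁻¹ = c⁻¹ := by
      intro x hx hxC c hc
      have h1 := hkey (x * c) (Subgroup.mul_mem _ hx (Subgroup.centralizer_le_normalizer _ hc))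
        (fun hh => hxC (by simpa using Subgroup.mul_mem _ hh (Subgroup.inv_mem _ hc)))
      rw [inv_eq_of_mul_eq_one_left (hkey x hx hxC)]
      apply eq_inv_of_mul_eq_one_left
      rw [← h1]; simp only [mul_assoc]
    refine ⟨.of_setLike_mul_comm fun c hc d hd => ?_, fun x hx hxC => ⟨?_, hinvC x hx hxC⟩⟩
    · have h1 := hinvC g0 hg0Q.1 hg0Q.2 (c * d) (Subgroup.mul_mem _ hc hd)
      rw [show g0 * (c * d) * g0⁻¹ = (g0 * c * g0⁻¹) * (g0 * d * g0⁻¹) by group, hinvC g0 hg0Q.1 hg0Q.2 c hc,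
        hinvC g0 hg0Q.1 hg0Q.2 d hd, mul_inv_rev] at h1
      have h2 := congrArg (·⁻¹) h1
      simpa only [mul_inv_rev, inv_inv] using h2.symm
    · exact orderOf_eq_prime (by rw [sq]; exact hkey x hx hxC) (fun h => hxC (h ▸ one_mem _))
  rintro ⟨hPc, hcase⟩ H hSn hSq
  obtain ⟨S⟩ := (inferInstance : Nonempty (Sylow p H))
  haveI := hSn S
  haveI := hSq S
  set S0 := (S : Subgroup H).map H.subtype with hS0
  have hS0p : IsPGroup p S0 := S.isPGroup'.map _
  haveI hS0c : IsCyclic S0 := isCyclic_pSub P hPc hS0p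
  haveI : IsCyclic (S : Subgroup H) := isCyclic_of_surjective _
    ((S : Subgroup H).equivMapOfInjective H.subtype H.subtype_injective).symm.surjective
  rcases hcase with hNC | ⟨-, hQ⟩
  · left
    have hG := CfsgLib.Transfer.hasNormalPComplement_of_normalizer_le P hNC.le
    obtain ⟨S', K, hK, hKc⟩ := CfsgLib.Transfer.hasNormalPComplement_subgroup H hG
    obtain ⟨k, hk⟩ := MulAction.exists_smul_eq H S S'
    rw [Sylow.smul_eq_of_normal] at hk
    subst hk
    refine isCyclic_of_central S fun s hs => Subgroup.mem_center_iff.2 fun g => ?_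
    obtain ⟨⟨⟨a, ha⟩, ⟨b, hb⟩⟩, hab⟩ := (hKc.existsUnique g).exists
    haveI : IsMulCommutative (S : Subgroup H) := inferInstance
    have h1 := Subgroup.commute_of_normal_of_disjoint K (S : Subgroup H) hK inferInstance hKc.disjoint a s ha hs
    have h2 : Commute b s := setLike_mul_comm (s := (S : Subgroup H)) hb hs
    rw [← hab]
    exact (h1.mul_left h2).eq
  · -- the subgroup of order `p` in `S0`
    by_cases hS1 : S0 = ⊥
    · left
      refine isCyclic_of_central S fun s hs => ?_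
      have : (s : G) = 1 := Subgroup.mem_bot.1 (hS1 ▸ (⟨s, hs, rfl⟩ : (s : G) ∈ S0))
      rw [show s = 1 from Subtype.ext this]
      exact one_mem _
    have hS0comm : ∀ a ∈ S0, ∀ b ∈ S0, a * b = b * a := fun a ha b hb => setLike_mul_comm (s := S0) ha hb
    let Q' : Subgroup G :=
      { carrier := {y | y ∈ S0 ∧ y ^ p = 1}
        one_mem' := ⟨one_mem _, one_pow p⟩
        mul_mem' := fun {a b} ha hb => ⟨mul_mem ha.1 hb.1,
          by rw [(show Commute a b from hS0comm a ha.1 b hb.1).mul_pow, ha.2, hb.2, one_mul]⟩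
        inv_mem' := fun {a} ha => ⟨inv_mem ha.1, by rw [inv_pow, ha.2, inv_one]⟩ }
    have hQ'le : Q' ≤ S0 := fun y hy => hy.1
    have hQ'c : Nat.card Q' = p := by
      haveI : IsCyclic Q' := Subgroup.isCyclic_of_le hQ'le
      have h1 : Nat.card Q' ∣ p := by
        rw [← IsCyclic.exponent_eq_card]
        exact Monoid.exponent_dvd_of_forall_pow_eq_one fun y => Subtype.ext y.2.2
      obtain ⟨k, hk0, hk⟩ := (IsPGroup.nontrivial_iff_card hS0p).1 ((Subgroup.nontrivial_iff_ne_bot S0).2 hS1)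
      obtain ⟨u, hu⟩ := exists_prime_orderOf_dvd_card' (G := S0) p (hk ▸ dvd_pow_self p hk0.ne')
      rcases (Nat.dvd_prime Fact.out).1 h1 with h2 | h2
      · exfalso
        have hbot := Subgroup.card_eq_one.1 h2
        have hmem : (u : G) ∈ Q' := ⟨u.2, by rw [← hu, ← Subgroup.orderOf_coe]; exact pow_orderOf_eq_one _⟩
        rw [hbot, Subgroup.mem_bot] at hmem
        rw [← Subgroup.orderOf_coe, hmem, orderOf_one] at hu
        exact (Fact.out : p.Prime).ne_one hu.symm
      · exact h2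
    -- transport the condition on centralizers
    obtain ⟨P', hP'⟩ := (hS0p.to_le hQ'le).exists_le_sylow
    obtain ⟨g, hg⟩ := MulAction.exists_smul_eq G P' P
    set Q := Q'.map (MulAut.conj g).toMonoidHom with hQdef
    have hQP : Q ≤ (P : Subgroup G) := by
      rw [← hg, Sylow.coe_subgroup_smul]
      exact Subgroup.map_mono hP'
    obtain ⟨hCab, hCinv⟩ := hQ Q hQP (by rw [hQdef, Subgroup.card_map_of_injective (MulAut.conj g).injective, hQ'c])
    have hcentmap : ∀ c, c ∈ Subgroup.centralizer (Q' : Set G) ↔ g * c * g⁻¹ ∈ Subgroup.centralizer (Q : Set G) := by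
      intro c
      rw [Subgroup.mem_centralizer_iff, Subgroup.mem_centralizer_iff]
      constructor
      · rintro h _ ⟨y, hy, rfl⟩
        change g * y * g⁻¹ * (g * c * g⁻¹) = g * c * g⁻¹ * (g * y * g⁻¹)
        rw [show g * y * g⁻¹ * (g * c * g⁻¹) = g * (y * c) * g⁻¹ by group, h y hy]
        group
      · intro h y hy
        have h1 : g * y * g⁻¹ * (g * c * g⁻¹) = g * c * g⁻¹ * (g * y * g⁻¹) := h _ ⟨y, hy, rfl⟩
        rw [show g * y * g⁻¹ * (g * c * g⁻¹) = g * (y * c) * g⁻¹ by group,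
          show g * c * g⁻¹ * (g * y * g⁻¹) = g * (c * y) * g⁻¹ by group] at h1
        exact mul_left_cancel (mul_right_cancel h1)
    have hS0N : ∀ h ∈ H, ∀ y ∈ S0, h * y * h⁻¹ ∈ S0 := by
      rintro h hh _ ⟨s, hs, rfl⟩
      exact ⟨_, (hSn S).conj_mem s hs ⟨h, hh⟩, rfl⟩
    have hHN : ∀ h ∈ H, ∀ y ∈ Q', h * y * h⁻¹ ∈ Q' := fun h hh y hy =>
      ⟨hS0N h hh y hy.1, by rw [conj_pow, hy.2]; group⟩
    have hS0C : ∀ y ∈ S0, y ∈ Subgroup.centralizer (Q' : Set G) := fun y hy =>
      Subgroup.mem_centralizer_iff.2 fun z hz => hS0comm z hz.1 y hy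
    have hcomm : ∀ c ∈ Subgroup.centralizer (Q' : Set G), ∀ d ∈ Subgroup.centralizer (Q' : Set G), c * d = d * c := by
      intro c hc d hd
      have h1 : g * c * g⁻¹ * (g * d * g⁻¹) = g * d * g⁻¹ * (g * c * g⁻¹) :=
        setLike_mul_comm (s := Subgroup.centralizer (Q : Set G)) ((hcentmap c).1 hc) ((hcentmap d).1 hd)
      rw [show g * c * g⁻¹ * (g * d * g⁻¹) = g * (c * d) * g⁻¹ by group,
        show g * d * g⁻¹ * (g * c * g⁻¹) = g * (d * c) * g⁻¹ by group] at h1
      exact mul_left_cancel (mul_right_cancel h1)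
    by_cases hHC : H ≤ Subgroup.centralizer (Q' : Set G)
    · left
      refine isCyclic_of_central S fun s hs => Subgroup.mem_center_iff.2 fun h => Subtype.ext ?_
      exact hcomm h (hHC h.2) s (hS0C _ ⟨s, hs, rfl⟩)
    · right
      obtain ⟨x, hxH, hxC⟩ := SetLike.not_le_iff_exists.1 hHC
      have hinvH : ∀ y ∈ H, y ∉ Subgroup.centralizer (Q' : Set G) → y * y = 1 ∧
          ∀ c ∈ Subgroup.centralizer (Q' : Set G), y * c * y⁻¹ = c⁻¹ := by
        intro y hy hyC
        have hyN : g * y * g⁻¹ ∈ Subgroup.normalizer (Q : Set G) := by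
          refine CfsgLib.Coprime.mem_normalizer_of_forall_conj ?_
          rintro _ ⟨z, hz, rfl⟩
          refine ⟨_, hHN y hy z hz, ?_⟩
          simp only [MulEquiv.coe_toMonoidHom, MulAut.conj_apply]
          group
        obtain ⟨h1, h2⟩ := hCinv _ hyN (fun h => hyC ((hcentmap y).2 h))
        refine ⟨?_, fun c hc => ?_⟩
        · have h3 := pow_orderOf_eq_one (g * y * g⁻¹)
          rw [h1, conj_pow, sq, conj_eq_one_iff] at h3
          exact h3
        · have h3 := h2 _ ((hcentmap c).1 hc)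
          rw [show g * y * g⁻¹ * (g * c * g⁻¹) * (g * y * g⁻¹)⁻¹ = g * (y * c * y⁻¹) * g⁻¹ by group,
            show (g * c * g⁻¹)⁻¹ = g * c⁻¹ * g⁻¹ by group] at h3
          exact mul_left_cancel (mul_right_cancel h3)
      obtain ⟨hx2, hxinv⟩ := hinvH x hxH hxC
      set xh : H := ⟨x, hxH⟩
      have hxS : xh ∉ (S : Subgroup H) := fun h => hxC (hS0C x ⟨xh, h, rfl⟩)
      have hx2' : xh * xh = 1 := Subtype.ext hx2
      -- the centralizing part of `H` is `S`
      have hH0 : ∀ c : H, (c : G) ∈ Subgroup.centralizer (Q' : Set G) → c ∈ (S : Subgroup H) := by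
        intro c hc
        set qm := QuotientGroup.mk' (S : Subgroup H)
        have hc2 : qm c ^ 2 = 1 := by
          have h1 : xh * c * xh⁻¹ = c⁻¹ := Subtype.ext (hxinv c hc)
          have h2 := congrArg qm h1
          rw [map_mul, map_mul, map_inv, map_inv, IsCyclic.commGroup.mul_comm (qm xh) (qm c), mul_inv_cancel_right] at h2
          rw [sq]
          exact eq_inv_iff_mul_eq_one.1 h2
        have hx2q : qm xh ^ 2 = 1 := by rw [sq, ← map_mul, hx2', map_one]
        have hxq : qm xh ≠ 1 := fun h => hxS ((QuotientGroup.eq_one_iff _).1 h)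
        letI := Fintype.ofFinite (H ⧸ (S : Subgroup H))
        by_contra hcS
        have hcq : qm c ≠ 1 := fun h => hcS ((QuotientGroup.eq_one_iff _).1 h)
        rcases eq_or_ne (qm c) (qm xh) with he | he
        · have h1 : c⁻¹ * xh ∈ (S : Subgroup H) := QuotientGroup.eq.1 he
          refine hxC ?_
          have h2 : ((c * (c⁻¹ * xh) : H) : G) ∈ Subgroup.centralizer (Q' : Set G) :=
            Subgroup.mul_mem _ hc (hS0C _ ⟨c⁻¹ * xh, h1, rfl⟩)
          simpa using h2
        · have hsub : ({1, qm c, qm xh} : Finset (H ⧸ (S : Subgroup H))) ⊆ Finset.univ.filter (fun a => a ^ 2 = 1) := by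
            intro a ha
            simp only [Finset.mem_insert, Finset.mem_singleton] at ha
            rw [Finset.mem_filter]
            rcases ha with rfl | rfl | rfl
            · exact ⟨Finset.mem_univ _, one_pow 2⟩
            · exact ⟨Finset.mem_univ _, hc2⟩
            · exact ⟨Finset.mem_univ _, hx2q⟩
          have h1 := (Finset.card_le_card hsub).trans (IsCyclic.card_pow_eq_one_le (by norm_num : (0 : ℕ) < 2))
          rw [Finset.card_eq_three.2 ⟨1, qm c, qm xh, hcq.symm, hxq.symm, he, rfl⟩] at h1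
          omega
      have hidx : (S : Subgroup H).index = 2 := by
        rw [Subgroup.index_eq_two_iff]
        refine ⟨xh, fun b => ?_⟩
        by_cases hb : (b : G) ∈ Subgroup.centralizer (Q' : Set G)
        · exact Or.inr ⟨hH0 b hb, fun h => hxS (by simpa using mul_mem (inv_mem (hH0 b hb)) h)⟩
        · refine Or.inl ⟨hH0 _ (Subgroup.mem_centralizer_iff.2 fun z hz => ?_), fun h => hb (hS0C _ ⟨b, h, rfl⟩)⟩
          have hzC : z ∈ Subgroup.centralizer (Q' : Set G) := hS0C z hz.1
          have h1 := hxinv z hzC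
          have h2 := (hinvH b b.2 hb).2 z⁻¹ (Subgroup.inv_mem _ hzC)
          rw [inv_inv, ← h1, show (b : G) * (x * z * x⁻¹) * (b : G)⁻¹ = ((b : G) * x) * z * ((b : G) * x)⁻¹ by group] at h2
          exact (mul_inv_eq_iff_eq_mul.1 h2).symm
      obtain ⟨n, hn⟩ := IsPGroup.iff_card.1 S.isPGroup'
      obtain ⟨e⟩ : Nonempty (Multiplicative (ZMod (p ^ n)) ≃* (S : Subgroup H)) := by
        rw [← hn]; exact ⟨zmodCyclicMulEquiv inferInstance⟩
      refine ⟨n, CfsgLib.SmallOrth.nonempty_dihedral (N := Multiplicative (ZMod (p ^ n))) (by simp) ?_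
        ((S : Subgroup H).subtype.comp e.toMonoidHom) ?_ xh hx2' ?_ ?_⟩
      · rw [← (S : Subgroup H).card_mul_index, hn, hidx, mul_comm]
      · exact (S : Subgroup H).subtype_injective.comp e.injective
      · intro u
        rw [map_inv]
        set s := ((S : Subgroup H).subtype.comp e.toMonoidHom) u
        have hs : s ∈ (S : Subgroup H) := (e u).2
        rw [← mul_inv_eq_iff_eq_mul]
        exact Subtype.ext (hxinv s (hS0C _ ⟨s, hs, rfl⟩))
      · intro u hu
        exact hxS (hu ▸ (e u).2)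

end Cfsg.Agent.S4082
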