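import Cfsg.Statements.S4083
import Mathlib
import Cfsg.Agent.Lib.SmallOrth.Dihedral
import Cfsg.Agent.Lib.TwoGroups.Dihedral
import Cfsg.Agent.Lib.OddOrder41.Coprime
import Cfsg.Agent.Lib.Coprime.Action

set_option autoImplicit false
open Cfsg
open scoped Pointwise

namespace Cfsg.Agent.S4083

open DihedralGroup in
/-- Subgroups of dihedral `2`-groups are cyclic or dihedral. -/
lemma dihedral_subgroup (n : ℕ) (T : Subgroup (DihedralGroup (2 ^ n))) :
    IsCyclic T ∨ ∃ k, 1 ≤ k ∧ Nonempty (T ≃* DihedralGroup (2 ^ k)) := by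
  haveI : NeZero (2 ^ n) := ⟨(pow_pos two_pos n).ne'⟩
  set rot := Subgroup.zpowers (r 1 : DihedralGroup (2 ^ n)) with hrot
  have hr : ∀ a : ZMod (2 ^ n), r a ∈ rot := fun a => by
    obtain ⟨k, rfl⟩ := ZMod.intCast_surjective a
    exact ⟨k, r_one_zpow k⟩
  by_cases hT : T ≤ rot
  · exact Or.inl (Subgroup.isCyclic_of_le hT)
  obtain ⟨t, htT, htr⟩ := SetLike.not_le_iff_exists.1 hT
  obtain ⟨i, rfl⟩ : ∃ i, t = sr i := by
    rcases t with a | i
    · exact absurd (hr a) htr
    · exact ⟨i, rfl⟩
  set R := rot.subgroupOf T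
  set t' : T := ⟨sr i, htT⟩
  have hidx : R.index = 2 := by
    rw [Subgroup.index_eq_two_iff]
    refine ⟨t', fun b => ?_⟩
    rcases hb : (b : DihedralGroup (2 ^ n)) with a | j
    · refine Or.inr ⟨?_, fun h => htr ?_⟩
      · change (b : DihedralGroup (2 ^ n)) ∈ rot
        rw [hb]; exact hr a
      · have h' : (b : DihedralGroup (2 ^ n)) * sr i ∈ rot := h
        rw [hb] at h'
        simpa using rot.mul_mem (rot.inv_mem (hr a)) h'
    · refine Or.inl ⟨?_, fun h => ?_⟩
      · change (b : DihedralGroup (2 ^ n)) * sr i ∈ rot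
        rw [hb, sr_mul_sr]; exact hr _
      · have h' : sr j ∈ rot := hb ▸ h
        obtain ⟨k, hk⟩ := h'
        simp only [r_one_zpow, reduceCtorEq] at hk
  haveI : IsCyclic R := isCyclic_of_injective
    ({ toFun := fun x => ⟨((x : T) : DihedralGroup (2 ^ n)), x.2⟩, map_one' := rfl, map_mul' := fun _ _ => rfl } : R →* rot)
    (fun x y h => Subtype.ext (Subtype.ext (congrArg (fun z : rot => (z : DihedralGroup (2 ^ n))) h)))
  have hP : IsPGroup 2 (DihedralGroup (2 ^ n)) := IsPGroup.of_card (n := n + 1) (by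
    rw [DihedralGroup.nat_card, pow_succ']) (G := DihedralGroup (2 ^ n))
  obtain ⟨k, hk⟩ := IsPGroup.iff_card.1 ((hP.to_subgroup T).to_subgroup R)
  have hcard : Nat.card T = 2 * 2 ^ k := by rw [← R.card_mul_index, hk, hidx, mul_comm]
  rcases Nat.eq_zero_or_pos k with rfl | hk1
  · left
    haveI := Fact.mk Nat.prime_two
    exact isCyclic_of_prime_card (p := 2) (by rw [hcard]; rfl)
  obtain ⟨e⟩ : Nonempty (Multiplicative (ZMod (2 ^ k)) ≃* R) := by
    rw [← hk]; exact ⟨zmodCyclicMulEquiv inferInstance⟩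
  refine Or.inr ⟨k, hk1, CfsgLib.SmallOrth.nonempty_dihedral (N := Multiplicative (ZMod (2 ^ k))) (by simp) hcard
    (R.subtype.comp e.toMonoidHom) (R.subtype_injective.comp e.injective) t' (Subtype.ext (sr_mul_self i)) ?_ ?_⟩
  · intro u
    rw [map_inv]
    set s := (R.subtype.comp e.toMonoidHom) u
    have hs : (s : DihedralGroup (2 ^ n)) ∈ rot := (e u).2
    obtain ⟨c, hc⟩ := hs
    apply Subtype.ext
    simp only [r_one_zpow] at hc
    change sr i * (s : DihedralGroup (2 ^ n)) = (s : DihedralGroup (2 ^ n))⁻¹ * sr i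
    rw [← hc, sr_mul_r, inv_r, r_mul_sr, sub_neg_eq_add]
  · intro u hu
    refine htr ?_
    have h1 := (e u).2
    change ((R.subtype.comp e.toMonoidHom) u : DihedralGroup (2 ^ n)) ∈ rot at h1
    rwa [hu] at h1

section
variable {G : Type*} [Group G] [Finite G]

/-- A four-group contained in a dihedral Sylow subgroup. -/
lemma four_centralizer (P : Sylow 2 G)
    (hP : ∀ K : Subgroup G, K ≤ P → Nat.card K = 4 → (∀ k ∈ K, k ^ 2 = 1) → Subgroup.centralizer (K : Set G) = K)
    (K : Subgroup G) (hK4 : Nat.card K = 4) (hK2 : ∀ k ∈ K, k ^ 2 = 1) :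
    Subgroup.centralizer (K : Set G) = K := by
  haveI := Fact.mk Nat.prime_two
  obtain ⟨P', hP'⟩ := (IsPGroup.of_card (n := 2) (by rw [hK4]; rfl) : IsPGroup 2 K).exists_le_sylow
  obtain ⟨g, hg⟩ := MulAction.exists_smul_eq G P' P
  set K' := K.map (MulAut.conj g).toMonoidHom with hK'
  have hK'P : K' ≤ (P : Subgroup G) := by
    rw [← hg, Sylow.coe_subgroup_smul]
    exact Subgroup.map_mono hP'
  have h := hP K' hK'P (by rw [hK', Subgroup.card_map_of_injective (MulAut.conj g).injective, hK4]) (by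
    rintro _ ⟨k, hk, rfl⟩
    rw [← map_pow, hK2 k hk, map_one])
  refine le_antisymm (fun c hc => ?_) ?_
  · have h1 : MulAut.conj g c ∈ Subgroup.centralizer (K' : Set G) := by
      rw [Subgroup.mem_centralizer_iff]
      rintro _ ⟨k, hk, rfl⟩
      exact ((show Commute k c from Subgroup.mem_centralizer_iff.1 hc k hk).map (MulAut.conj g)).eq
    rw [h] at h1
    obtain ⟨k, hk, hkc⟩ := h1
    rwa [← (MulAut.conj g).injective hkc]
  · intro k hk
    rw [Subgroup.mem_centralizer_iff]
    intro l hl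
    have h2 : (l * k) ^ 2 = 1 := hK2 _ (K.mul_mem hl hk)
    have hl' := inv_eq_of_mul_eq_one_left (by rw [← sq]; exact hK2 l hl : l * l = 1)
    have hk' := inv_eq_of_mul_eq_one_left (by rw [← sq]; exact hK2 k hk : k * k = 1)
    rw [sq] at h2
    have h3 := eq_inv_of_mul_eq_one_left h2
    rwa [mul_inv_rev, hl', hk'] at h3

lemma two_decomp (x : G) : ∃ a b : G, x = a * b ∧ a ∈ Subgroup.zpowers x ∧ b ∈ Subgroup.zpowers x ∧
    IsPGroup 2 (Subgroup.zpowers a) ∧ Odd (orderOf b) := by
  haveI := Fact.mk Nat.prime_two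
  obtain ⟨e, m, hm, hn⟩ := Nat.exists_eq_pow_mul_and_not_dvd (orderOf_pos x).ne' 2 (by norm_num)
  have hcop : Nat.Coprime (2 ^ e) m := (Nat.prime_two.coprime_iff_not_dvd.2 hm).pow_left e
  have h := Nat.gcd_eq_gcd_ab (2 ^ e) m
  rw [hcop] at h
  set s := Nat.gcdA (2 ^ e) m
  set t := Nat.gcdB (2 ^ e) m
  refine ⟨(x ^ m) ^ t, (x ^ 2 ^ e) ^ s, ?_, ?_, ?_, ?_, ?_⟩
  · rw [← zpow_natCast, ← zpow_mul, ← zpow_natCast x (2 ^ e), ← zpow_mul, ← zpow_add]
    conv_lhs => rw [← zpow_one x]
    congr 1
    push_cast at h ⊢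
    linarith
  · exact Subgroup.zpow_mem _ (Subgroup.pow_mem _ (Subgroup.mem_zpowers x) _) _
  · exact Subgroup.zpow_mem _ (Subgroup.pow_mem _ (Subgroup.mem_zpowers x) _) _
  · have h2 : ((x ^ m) ^ t) ^ (2 ^ e) = 1 := by
      rw [← zpow_natCast, ← zpow_mul, mul_comm, zpow_mul, zpow_natCast, ← pow_mul, mul_comm m, ← hn, pow_orderOf_eq_one, one_zpow]
    obtain ⟨i, -, hi⟩ := (Nat.dvd_prime_pow Nat.prime_two).1 (orderOf_dvd_of_pow_eq_one h2)
    exact IsPGroup.of_card (n := i) (by rw [Nat.card_zpowers, hi])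
  · have h2 : ((x ^ 2 ^ e) ^ s) ^ m = 1 := by
      rw [← zpow_natCast, ← zpow_mul, mul_comm, zpow_mul, zpow_natCast, ← pow_mul, ← hn, pow_orderOf_eq_one, one_zpow]
    exact Odd.of_dvd_nat (Nat.odd_iff.2 (Nat.two_dvd_ne_zero.1 hm)) (orderOf_dvd_of_pow_eq_one h2)

end

section
variable {H : Type*} [Group H] [Finite H]

open DihedralGroup in
/-- An element of odd order normalising a dihedral `2`-group of order at least 8 centralises it. -/
lemma odd_centralizes {k : ℕ} (hk : 2 ≤ k) (S : Subgroup H) (e : S ≃* DihedralGroup (2 ^ k)) {b : H}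
    (hb : Odd (orderOf b)) (hbS : ∀ s ∈ S, b * s * b⁻¹ ∈ S) : ∀ s ∈ S, b * s = s * b := by
  haveI : NeZero (2 ^ k) := ⟨(pow_pos two_pos k).ne'⟩
  set u : S := e.symm (r 1) with hu
  set t : S := e.symm (sr 0) with ht
  have huo : orderOf (u : H) = 2 ^ k := by
    rw [Subgroup.orderOf_coe, hu, MulEquiv.orderOf_eq, orderOf_r_one]
  have hlift : ∀ s : S, ∃ j : ℕ, (s : H) = (u : H) ^ j ∨ (s : H) = t * (u : H) ^ j := by
    intro s
    rcases hs : e s with a | a
    · refine ⟨a.val, Or.inl ?_⟩
      rw [← SubgroupClass.coe_pow, Subtype.coe_inj]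
      apply e.injective
      rw [hs, map_pow, hu, e.apply_symm_apply, r_one_pow, ZMod.natCast_zmod_val]
    · refine ⟨a.val, Or.inr ?_⟩
      rw [← SubgroupClass.coe_pow, ← Subgroup.coe_mul, Subtype.coe_inj]
      apply e.injective
      rw [hs, map_mul, map_pow, hu, ht, e.apply_symm_apply, e.apply_symm_apply, r_one_pow, ZMod.natCast_zmod_val,
        sr_mul_r, zero_add]
  have hts : ∀ j : ℕ, ((t : H) * (u : H) ^ j) ^ 2 = 1 := fun j => by
    have h1 : (t * u ^ j) ^ 2 = 1 := by
      apply e.injective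
      rw [map_one, map_pow, map_mul, map_pow, hu, ht, e.apply_symm_apply, e.apply_symm_apply, r_one_pow, sr_mul_r, sq,
        sr_mul_self]
    simpa using congrArg Subtype.val h1
  -- `b` fixes `u`
  obtain ⟨j, hj⟩ := hlift ⟨b * u * b⁻¹, hbS _ u.2⟩
  have hju : b * (u : H) * b⁻¹ = (u : H) ^ j := by
    rcases hj with hj | hj
    · exact hj
    · exfalso
      have h1 : (b * (u : H) * b⁻¹) ^ 2 = 1 := by rw [show b * (u : H) * b⁻¹ = _ from hj]; exact hts j
      rw [conj_pow, conj_eq_one_iff] at h1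
      have h2 : 2 ^ k ∣ 2 := huo ▸ orderOf_dvd_of_pow_eq_one h1
      have h3 : 2 ^ 2 ≤ 2 ^ k := Nat.pow_le_pow_right two_pos hk
      have := Nat.le_of_dvd two_pos h2
      omega
  have hiter : ∀ i : ℕ, b ^ i * (u : H) * (b ^ i)⁻¹ = (u : H) ^ (j ^ i) := by
    intro i
    induction i with
    | zero => simp
    | succ i ih =>
      rw [show b ^ (i + 1) * (u : H) * (b ^ (i + 1))⁻¹ = b * (b ^ i * (u : H) * (b ^ i)⁻¹) * b⁻¹ by
        rw [pow_succ']; group, ih, ← conj_pow, hju, ← pow_mul, ← pow_succ']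
  have hfix : b * (u : H) * b⁻¹ = u := by
    have h1 := hiter (orderOf b)
    rw [pow_orderOf_eq_one, one_mul, inv_one, mul_one] at h1
    nth_rw 1 [← pow_one (u : H)] at h1
    have h2 : 1 ≡ j ^ orderOf b [MOD 2 ^ k] := huo ▸ pow_eq_pow_iff_modEq.1 h1
    have h3 : ((j : ZMod (2 ^ k))) ^ orderOf b = 1 := by
      rw [← Nat.cast_pow, ← Nat.cast_one, ZMod.natCast_eq_natCast_iff]
      exact h2.symm
    have hunit : IsUnit (j : ZMod (2 ^ k)) := IsUnit.of_pow_eq_one h3 (orderOf_pos b).ne'
    obtain ⟨w, hw⟩ := hunit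
    have h4 : w ^ orderOf b = 1 := Units.ext (by rw [Units.val_pow_eq_pow_val, hw, h3, Units.val_one])
    have h5 : orderOf w ∣ 2 ^ (k - 1) := by
      have := orderOf_dvd_natCard w
      rwa [Nat.card_eq_fintype_card, ZMod.card_units_eq_totient, Nat.totient_prime_pow Nat.prime_two (by omega),
        show 2 - 1 = 1 from rfl, mul_one] at this
    have h6 : orderOf w = 1 := Nat.eq_one_of_dvd_coprimes
      (Nat.Coprime.pow_left (k - 1) (Nat.coprime_two_left.2 hb)) h5 (orderOf_dvd_of_pow_eq_one h4)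
    rw [orderOf_eq_one_iff.1 h6, Units.val_one, ← Nat.cast_one, ZMod.natCast_eq_natCast_iff] at hw
    rw [hju]
    conv_rhs => rw [← pow_one (u : H)]
    exact pow_eq_pow_iff_modEq.2 (huo.symm ▸ hw.symm)
  have hbu : Commute b (u : H) := mul_inv_eq_iff_eq_mul.1 hfix
  -- `b` fixes `t`
  have hbt : b * (t : H) = t * b := by
    obtain ⟨i, hi⟩ := hlift ⟨b * t * b⁻¹, hbS _ t.2⟩
    rcases hi with hi | hi
    · exfalso
      have h2 : (t : H) = (u : H) ^ i := by
        calc (t : H) = b⁻¹ * (b * (t : H) * b⁻¹) * b := by group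
          _ = b⁻¹ * (u : H) ^ i * b := by rw [show b * (t : H) * b⁻¹ = _ from hi]
          _ = _ := by rw [mul_assoc, ← (hbu.pow_right i).eq, inv_mul_cancel_left]
      have h3 : t = u ^ i := Subtype.ext (by rw [SubgroupClass.coe_pow]; exact h2)
      have h4 := congrArg e h3
      rw [map_pow, hu, ht, e.apply_symm_apply, e.apply_symm_apply, r_one_pow] at h4
      simp at h4
    · refine CfsgLib.OddOrder41.fixes_of_step_fixed (H := Subgroup.zpowers (u : H)) ?_
        (Subgroup.pow_mem _ (Subgroup.mem_zpowers _) i) hi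
        (by rw [(hbu.pow_right i).eq, mul_inv_cancel_right])
      rw [Nat.card_zpowers, huo]
      exact (Nat.coprime_two_left.2 hb).symm.pow_right k
  intro s hs
  obtain ⟨i, hi | hi⟩ := hlift ⟨s, hs⟩
  · rw [show s = _ from hi]
    exact (hbu.pow_right i).eq
  · rw [show s = _ from hi]
    exact ((show Commute b (t : H) from hbt).mul_right (hbu.pow_right i)).eq

open DihedralGroup in
lemma exists_four {k : ℕ} (hk : 1 ≤ k) (S : Subgroup H) (e : S ≃* DihedralGroup (2 ^ k)) :
    ∃ K : Subgroup H, K ≤ S ∧ Nat.card K = 4 ∧ ∀ y ∈ K, y ^ 2 = 1 := by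
  haveI : NeZero (2 ^ k) := ⟨(pow_pos two_pos k).ne'⟩
  set z : S := e.symm (r ((2 ^ (k - 1) : ℕ) : ZMod (2 ^ k))) with hz
  set t : S := e.symm (sr 0) with ht
  have hh : ((2 ^ (k - 1) : ℕ) : ZMod (2 ^ k)) + ((2 ^ (k - 1) : ℕ) : ZMod (2 ^ k)) = 0 := by
    rw [← Nat.cast_add, show 2 ^ (k - 1) + 2 ^ (k - 1) = 2 ^ k by rw [← two_mul, ← pow_succ', Nat.sub_add_cancel hk]]
    exact ZMod.natCast_self _
  have hne : ((2 ^ (k - 1) : ℕ) : ZMod (2 ^ k)) ≠ 0 := by
    rw [Ne, ZMod.natCast_eq_zero_iff]
    intro hd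
    have := Nat.le_of_dvd (pow_pos two_pos _) hd
    have : 2 ^ (k - 1) < 2 ^ k := Nat.pow_lt_pow_right one_lt_two (by omega)
    omega
  have hz2 : z * z = 1 := e.injective (by rw [map_mul, map_one, hz, e.apply_symm_apply, r_mul_r, hh, r_zero])
  have ht2 : t * t = 1 := e.injective (by rw [map_mul, map_one, ht, e.apply_symm_apply, sr_mul_self])
  have hzt : z * t = t * z := e.injective (by
    rw [map_mul, map_mul, hz, ht, e.apply_symm_apply, e.apply_symm_apply, r_mul_sr, sr_mul_r, zero_sub, zero_add,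
      neg_eq_of_add_eq_zero_left hh])
  have hz1 : z ≠ 1 := fun h => hne (by
    have := congrArg e h
    rw [map_one, hz, e.apply_symm_apply, one_def, r.injEq] at this
    exact this)
  have ht1 : t ≠ 1 := fun h => by
    have := congrArg e h
    rw [map_one, ht, e.apply_symm_apply, one_def] at this
    cases this
  have htz : z ≠ t := fun h => by
    have := congrArg e h
    rw [hz, ht, e.apply_symm_apply, e.apply_symm_apply] at this
    simp at this
  have hzinv := inv_eq_of_mul_eq_one_left hz2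
  have htinv := inv_eq_of_mul_eq_one_left ht2
  have hzt2 : z * t * (z * t) = 1 := by
    calc z * t * (z * t) = z * (t * z) * t := by simp only [mul_assoc]
      _ = z * (z * t) * t := by rw [hzt]
      _ = 1 := by rw [← mul_assoc, hz2, one_mul, ht2]
  let K0 : Subgroup S :=
    { carrier := {1, z, t, z * t}
      one_mem' := Or.inl rfl
      inv_mem' := by
        rintro a (rfl | rfl | rfl | rfl)
        · exact Or.inl inv_one
        · exact Or.inr (Or.inl hzinv)
        · exact Or.inr (Or.inr (Or.inl htinv))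
        · exact Or.inr (Or.inr (Or.inr (inv_eq_of_mul_eq_one_left hzt2)))
      mul_mem' := by
        have e1 : z * (z * t) = t := by rw [← mul_assoc, hz2, one_mul]
        have e2 : t * (z * t) = z := by rw [hzt, ← mul_assoc, ht2, one_mul]
        have e3 : z * t * z = t := by rw [hzt, mul_assoc, hz2, mul_one]
        have e4 : z * t * t = z := by rw [mul_assoc, ht2, mul_one]
        rintro a b (rfl | rfl | rfl | rfl) (rfl | rfl | rfl | rfl) <;>
          simp only [Set.mem_insert_iff, Set.mem_singleton_iff, one_mul, mul_one, hz2, ht2, ← hzt, e1, e2, e3, e4, hzt2, true_or, or_true] }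
  refine ⟨K0.map S.subtype, Subgroup.map_subtype_le _, ?_, ?_⟩
  · rw [Subgroup.card_map_of_injective S.subtype_injective]
    have h1 : Nat.card K0 = ({1, z, t, z * t} : Set S).ncard := Nat.card_coe_set_eq _
    have h2 : z ≠ z * t := fun h => ht1 (left_eq_mul.1 h)
    have h3 : t ≠ z * t := fun h => hz1 (right_eq_mul.1 h)
    have h4 : z * t ≠ 1 := fun h => htz ((eq_inv_of_mul_eq_one_left h).trans htinv)
    rw [h1, Set.ncard_insert_of_notMem (by simp [hz1.symm, ht1.symm, h4.symm]),
      Set.ncard_insert_of_notMem (by simp [htz, h2]), Set.ncard_insert_of_notMem (by simp [h3]), Set.ncard_singleton]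
  · rintro _ ⟨y, hy, rfl⟩
    rw [← map_pow, show y ^ 2 = 1 from ?_, map_one]
    rw [sq]
    rcases hy with rfl | rfl | rfl | rfl
    · exact one_mul 1
    · exact hz2
    · exact ht2
    · exact hzt2

/-- Abelianness from a central normal cyclic subgroup with cyclic quotient. -/
lemma isCyclic_of_complement [hp : Fact (Nat.Prime 2)] (S : Sylow 2 H) [(S : Subgroup H).Normal]
    [IsCyclic (S : Subgroup H)] [IsCyclic (H ⧸ (S : Subgroup H))] : IsCyclic H := by
  haveI hcomm : IsMulCommutative (S : Subgroup H) := inferInstance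
  by_cases h2 : 2 ∣ Nat.card H
  · have hmin : (Nat.card H).minFac = 2 := (Nat.minFac_eq_two_iff _).2 h2
    have hle := IsCyclic.normalizer_le_centralizer hmin ‹IsCyclic (S : Subgroup H)›
    haveI : IsMulCommutative H := MonoidHom.isMulCommutative_of_isCyclic_of_ker_le_center
      (QuotientGroup.mk' (S : Subgroup H)) (by
        rw [QuotientGroup.ker_mk']
        intro s hs
        refine Subgroup.mem_center_iff.2 fun g => ?_
        have hg : g ∈ Subgroup.normalizer ((S : Subgroup H) : Set H) := by rw [Subgroup.normalizer_eq_top]; trivial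
        exact ((Subgroup.mem_centralizer_iff.1 (hle hg)) s hs).symm)
    haveI : IsZGroup H := ⟨fun q hq T => by
      haveI := Fact.mk hq
      rcases eq_or_ne q 2 with rfl | hq2
      · obtain ⟨k, hk⟩ := MulAction.exists_smul_eq H S T
        rw [Sylow.smul_eq_of_normal] at hk
        subst hk
        infer_instance
      · refine isCyclic_of_injective ((QuotientGroup.mk' (S : Subgroup H)).comp (T : Subgroup H).subtype)
          ((injective_iff_map_eq_one _).2 fun t ht => ?_)
        have hts : (t : H) ∈ (S : Subgroup H) := (QuotientGroup.eq_one_iff _).1 ht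
        obtain ⟨i, hi⟩ := IsPGroup.iff_orderOf.1 S.isPGroup' ⟨t, hts⟩
        obtain ⟨j, hj⟩ := IsPGroup.iff_orderOf.1 T.isPGroup' t
        rw [Subgroup.orderOf_mk] at hi
        rw [← Subgroup.orderOf_coe, hi] at hj
        exact Subtype.ext (orderOf_eq_one_iff.1 (Nat.eq_one_of_dvd_coprimes
          (((Nat.coprime_primes hp.out hq).2 hq2.symm).pow i j) hi.dvd (hi.trans hj).dvd))⟩
    haveI : Group.IsNilpotent H := by
      letI : CommGroup H := { (inferInstance : Group H) with mul_comm := fun a b => mul_comm' a b }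
      exact CommGroup.isNilpotent
    infer_instance
  · have hS : (S : Subgroup H) = ⊥ := by
      rw [← Subgroup.card_eq_one, S.card_eq_multiplicity, Nat.factorization_eq_zero_of_not_dvd h2, pow_zero]
    exact isCyclic_of_injective (QuotientGroup.mk' (S : Subgroup H))
      ((injective_iff_map_eq_one _).2 fun x hx => by
        have := (QuotientGroup.eq_one_iff x).1 hx
        rwa [hS, Subgroup.mem_bot] at this)

/-- The recognition of `A₄`. -/
lemma nonempty_alt_four (S : Subgroup H) [S.Normal] (hS4 : Nat.card S = 4) (hidx : S.index = 3)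
    (hC : Subgroup.centralizer (S : Set H) = S) : Nonempty (H ≃* alternatingGroup (Fin 4)) := by
  classical
  haveI := Fact.mk Nat.prime_three
  have hH : Nat.card H = 12 := by rw [← S.card_mul_index, hS4, hidx]
  obtain ⟨b, hb⟩ := exists_prime_orderOf_dvd_card' (G := H) 3 (by rw [hH]; norm_num)
  set B := Subgroup.zpowers b
  have hBi : B.index = 4 := by
    have := B.card_mul_index
    rw [Nat.card_zpowers, hb, hH] at this
    omega
  let ρ := MulAction.toPermHom H (H ⧸ B)
  have hker : ρ.ker = ⊥ := by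
    rw [← Subgroup.normalCore_eq_ker]
    by_contra hne
    have hle := Subgroup.normalCore_le B
    have hd : Nat.card B.normalCore ∣ 3 := by
      have := Subgroup.card_dvd_of_le hle
      rwa [Nat.card_zpowers, hb] at this
    have heq : B.normalCore = B := Subgroup.eq_of_le_of_card_ge hle (by
      rcases (Nat.dvd_prime Nat.prime_three).1 hd with h | h
      · exact absurd (Subgroup.card_eq_one.1 h) hne
      · rw [h, Nat.card_zpowers, hb])
    haveI : B.Normal := heq ▸ Subgroup.normalCore_normal B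
    have hdisj : Disjoint S B := disjoint_iff.2 (Subgroup.inf_eq_bot_of_coprime (by rw [hS4, Nat.card_zpowers, hb]; norm_num))
    have hbC : b ∈ Subgroup.centralizer (S : Set H) := Subgroup.mem_centralizer_iff.2 fun s hs =>
      (Subgroup.commute_of_normal_of_disjoint S B inferInstance inferInstance hdisj s b hs (Subgroup.mem_zpowers b)).eq
    rw [hC] at hbC
    have : b = 1 := Subgroup.disjoint_def.1 hdisj hbC (Subgroup.mem_zpowers b)
    rw [this, orderOf_one] at hb
    omega
  obtain ⟨f⟩ : Nonempty (H ⧸ B ≃ Fin 4) :=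
    ⟨Finite.equivFinOfCardEq (by rw [← Subgroup.index_eq_card, hBi])⟩
  let σ : H →* Equiv.Perm (Fin 4) := f.permCongrHom.toMonoidHom.comp ρ
  have hσ : Function.Injective σ := f.permCongrHom.injective.comp ((MonoidHom.ker_eq_bot_iff _).1 hker)
  have hr : σ.range.index = 2 := by
    have h1 := σ.range.card_mul_index
    rw [← Nat.card_congr (MonoidHom.ofInjective hσ).toEquiv, hH, Nat.card_perm, Nat.card_fin,
      show Nat.factorial 4 = 24 from rfl] at h1
    omega
  exact ⟨(MonoidHom.ofInjective hσ).trans (MulEquiv.subgroupCongr (Equiv.Perm.eq_alternatingGroup_of_index_eq_two hr))⟩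

end

/-- Let G be a finite group with Sylow 2-subgroup P. Every subgroup H of G whose Sylow 2-subgroup is normal in H with cyclic quotient is cyclic, dihedral of 2-power order, or isomorphic to the alternating group of degree 4, if and only if either P is cyclic, or P is dihedral (of order at least 4) and every elementary abelian subgroup K of order 4 of P satisfies C_G(K) = K. -/
theorem result {G : Type*} [Group G] [Finite G] (P : Sylow 2 G) :
    (∀ H : Subgroup G, (∀ S : Sylow 2 ↥H, (S : Subgroup ↥H).Normal) →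
        (∀ (S : Sylow 2 ↥H) [(S : Subgroup ↥H).Normal], IsCyclic (↥H ⧸ (S : Subgroup ↥H))) →
        IsCyclic H ∨ (∃ n : ℕ, Nonempty (H ≃* DihedralGroup (2 ^ n))) ∨ Nonempty (H ≃* alternatingGroup (Fin 4))) ↔
    (IsCyclic P ∨
      ((∃ n : ℕ, 1 ≤ n ∧ Nonempty ((P : Subgroup G) ≃* DihedralGroup (2 ^ n))) ∧
        ∀ K : Subgroup G, K ≤ P → Nat.card K = 4 → (∀ k ∈ K, k ^ 2 = 1) → Subgroup.centralizer (K : Set G) = K)) := by
  classical
  haveI := Fact.mk Nat.prime_two
  constructor
  · intro hres
    have htest : ∀ (R : Subgroup G), IsPGroup 2 R → ∀ b : G, Odd (orderOf b) → (∀ u ∈ R, b * u = u * b) →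
        IsCyclic (R ⊔ Subgroup.zpowers b : Subgroup G) ∨
        (∃ n : ℕ, Nonempty ((R ⊔ Subgroup.zpowers b : Subgroup G) ≃* DihedralGroup (2 ^ n))) ∨
        Nonempty ((R ⊔ Subgroup.zpowers b : Subgroup G) ≃* alternatingGroup (Fin 4)) := by
      intro R hR b hb hcomm
      set H := R ⊔ Subgroup.zpowers b with hH
      have hbH : b ∈ H := Subgroup.mem_sup_right (Subgroup.mem_zpowers b)
      have hHN : H ≤ Subgroup.normalizer (R : Set G) := sup_le Subgroup.le_normalizer (Subgroup.zpowers_le.2 (by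
        refine CfsgLib.Coprime.mem_normalizer_of_forall_conj fun u hu => ?_
        rw [hcomm u hu, mul_inv_cancel_right]; exact hu))
      set R' := R.subgroupOf H with hR'
      haveI hR'n : R'.Normal := Subgroup.normal_subgroupOf_of_le_normalizer hHN
      have hgen : R' ⊔ Subgroup.zpowers (⟨b, hbH⟩ : H) = ⊤ := by
        apply Subgroup.map_injective H.subtype_injective
        rw [Subgroup.map_sup, hR', Subgroup.subgroupOf_map_subtype, inf_of_le_left (le_sup_left : R ≤ H),
          MonoidHom.map_zpowers, ← MonoidHom.range_eq_map, Subgroup.range_subtype]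
        rfl
      have himg : Subgroup.zpowers ((QuotientGroup.mk' R') ⟨b, hbH⟩) = ⊤ := by
        rw [← Subgroup.map_top_of_surjective _ (QuotientGroup.mk'_surjective R'), ← hgen, Subgroup.map_sup,
          QuotientGroup.map_mk'_self, bot_sup_eq, MonoidHom.map_zpowers]
      have hidx : ¬ 2 ∣ R'.index := by
        rw [Subgroup.index_eq_card, ← Subgroup.card_top, ← himg, Nat.card_zpowers]
        intro hd
        have h1 : orderOf ((QuotientGroup.mk' R') ⟨b, hbH⟩) ∣ orderOf b :=
          (orderOf_map_dvd _ _).trans (Subgroup.orderOf_mk b hbH).dvd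
        exact (Nat.not_even_iff_odd.2 hb) (even_iff_two_dvd.2 (hd.trans h1))
      have hR'p : IsPGroup 2 R' := hR.comap_subtype
      have hSyl : ∀ S : Sylow 2 H, (S : Subgroup H) = R' := fun S => by
        haveI : ((hR'p.toSylow hidx : Sylow 2 H) : Subgroup H).Normal := hR'n
        obtain ⟨k, hk⟩ := MulAction.exists_smul_eq H (hR'p.toSylow hidx) S
        rw [← hk, Sylow.smul_eq_of_normal]
        rfl
      refine hres H (fun S => by rw [hSyl S]; exact hR'n) fun S hS => ?_
      haveI : IsCyclic (H ⧸ R') := ⟨⟨_, fun a => (himg ▸ Subgroup.mem_top a :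
        a ∈ Subgroup.zpowers ((QuotientGroup.mk' R') ⟨b, hbH⟩))⟩⟩
      exact isCyclic_of_surjective _ (QuotientGroup.quotientMulEquivOfEq (hSyl S).symm).surjective
    have hP := htest P P.isPGroup' 1 (by simp) (fun u _ => by simp)
    rw [show (P : Subgroup G) ⊔ Subgroup.zpowers (1 : G) = (P : Subgroup G) by simp] at hP
    rcases hP with hc | ⟨n, he⟩ | ⟨⟨e⟩⟩
    · exact Or.inl hc
    · obtain ⟨e⟩ := he
      rcases Nat.eq_zero_or_pos n with rfl | hn
      · left
        haveI : IsCyclic (DihedralGroup (2 ^ 0)) := DihedralGroup.isCyclic_iff.2 (pow_zero 2)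
        exact isCyclic_of_surjective _ e.symm.surjective
      refine Or.inr ⟨⟨n, hn, ⟨e⟩⟩, fun K hKP hK4 hK2 => ?_⟩
      haveI : NeZero (2 ^ n) := ⟨(pow_pos two_pos n).ne'⟩
      have hKab : ∀ a ∈ K, ∀ b ∈ K, a * b = b * a := fun a ha b hb => by
        have ha' := inv_eq_of_mul_eq_one_left (by rw [← sq]; exact hK2 a ha : a * a = 1)
        have hb' := inv_eq_of_mul_eq_one_left (by rw [← sq]; exact hK2 b hb : b * b = 1)
        have h3 := eq_inv_of_mul_eq_one_left (by rw [← sq]; exact hK2 _ (K.mul_mem ha hb) : a * b * (a * b) = 1)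
        rwa [mul_inv_rev, ha', hb'] at h3
      have hKC : K ≤ Subgroup.centralizer (K : Set G) := fun a ha => Subgroup.mem_centralizer_iff.2 fun b hb => hKab b hb a ha
      -- odd elements centralizing `K` are trivial
      have hodd : ∀ b ∈ Subgroup.centralizer (K : Set G), Odd (orderOf b) → b = 1 := by
        intro b hb hbo
        have hKp : IsPGroup 2 K := IsPGroup.of_card (n := 2) (by rw [hK4]; rfl)
        have hcm : ∀ u ∈ K, b * u = u * b := fun u hu => ((Subgroup.mem_centralizer_iff.1 hb) u hu).symm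
        set H := K ⊔ Subgroup.zpowers b
        have hbH : b ∈ H := Subgroup.mem_sup_right (Subgroup.mem_zpowers b)
        rcases htest K hKp b hbo hcm with hc | ⟨m, ⟨f⟩⟩ | ⟨⟨f⟩⟩
        · exfalso
          haveI : IsCyclic K := Subgroup.isCyclic_of_le (le_sup_left : K ≤ H)
          have h1 : Nat.card K ∣ 2 := by
            rw [← IsCyclic.exponent_eq_card]
            exact Monoid.exponent_dvd_of_forall_pow_eq_one fun y => Subtype.ext (hK2 y y.2)
          rw [hK4] at h1
          exact absurd (Nat.le_of_dvd two_pos h1) (by norm_num)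
        · have h1 : orderOf b ∣ 2 * 2 ^ m := by
            rw [← DihedralGroup.nat_card, ← Nat.card_congr f.toEquiv]
            exact Subgroup.orderOf_dvd_natCard H hbH
          rw [← pow_succ'] at h1
          exact orderOf_eq_one_iff.1 (Nat.eq_one_of_dvd_coprimes
            ((Nat.coprime_two_left.2 hbo).pow_left (m + 1)) h1 dvd_rfl)
        · exfalso
          obtain ⟨a, ha, ha1⟩ := K.bot_or_exists_ne_one.resolve_left fun h => by
            rw [h, Subgroup.card_bot] at hK4; exact absurd hK4 (by norm_num)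
          set a' : H := ⟨a, Subgroup.mem_sup_left ha⟩
          have hcen : a' ∈ Subgroup.center H := by
            refine Subgroup.mem_center_iff.2 fun g => Subtype.ext ?_
            have hle : H ≤ Subgroup.centralizer ({a} : Set G) := sup_le
              (fun k hk => Subgroup.mem_centralizer_singleton_iff.2 (hKab k hk a ha))
              (Subgroup.zpowers_le.2 (Subgroup.mem_centralizer_singleton_iff.2 (hcm a ha)))
            exact Subgroup.mem_centralizer_singleton_iff.1 (hle g.2)
          have h2 : f a' ∈ Subgroup.center (alternatingGroup (Fin 4)) := by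
            refine Subgroup.mem_center_iff.2 fun g => ?_
            obtain ⟨g, rfl⟩ := f.surjective g
            rw [← map_mul, ← map_mul, Subgroup.mem_center_iff.1 hcen g]
          rw [alternatingGroup.center_eq_bot (by simp), Subgroup.mem_bot, ← map_one f] at h2
          exact ha1 (congrArg Subtype.val (f.injective h2))
      have hC2 : IsPGroup 2 (Subgroup.centralizer (K : Set G)) := fun x => by
        obtain ⟨a, b, hab, -, hbm, ha2, hbo⟩ := two_decomp (x : G)
        have hbC : b ∈ Subgroup.centralizer (K : Set G) := Subgroup.zpowers_le.2 x.2 hbm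
        rw [hodd b hbC hbo, mul_one] at hab
        obtain ⟨k, hk⟩ := ha2 ⟨a, Subgroup.mem_zpowers a⟩
        refine ⟨k, Subtype.ext ?_⟩
        rw [SubgroupClass.coe_pow, hab]
        exact congrArg Subtype.val hk
      obtain ⟨P', hP'⟩ := hC2.exists_le_sylow
      let e' : (P' : Subgroup G) ≃* DihedralGroup (2 ^ n) := (Sylow.equiv P' P).trans e
      have hKP' : K ≤ (P' : Subgroup G) := hKC.trans hP'
      set V := (K.subgroupOf (P' : Subgroup G)).map e'.toMonoidHom with hV
      have hV4 : Nat.card V = 4 := by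
        rw [hV, Subgroup.card_map_of_injective e'.injective, Nat.card_congr (Subgroup.subgroupOfEquivOfLe hKP').toEquiv, hK4]
      have hCV := CfsgLib.TwoGroups.Dihedral.centralizer_eq_self (2 ^ n) (V := V) (by
          rintro _ ⟨a, ha, rfl⟩ _ ⟨b, hb, rfl⟩
          rw [← map_mul, ← map_mul, show a * b = b * a from Subtype.ext (hKab _ ha _ hb)])
        hV4.ge (by
          rintro _ ⟨a, ha, rfl⟩
          rw [← map_pow, show a ^ 2 = 1 from Subtype.ext (by rw [SubgroupClass.coe_pow]; exact hK2 _ ha), map_one])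
      refine le_antisymm (fun c hc => ?_) hKC
      have h1 : e' ⟨c, hP' hc⟩ ∈ Subgroup.centralizer (V : Set (DihedralGroup (2 ^ n))) := by
        rw [Subgroup.mem_centralizer_iff]
        rintro _ ⟨a, ha, rfl⟩
        exact (((show Commute a (⟨c, hP' hc⟩ : (P' : Subgroup G)) from
          Subtype.ext (Subgroup.mem_centralizer_iff.1 hc _ ha))).map e'.toMonoidHom).eq
      rw [hCV] at h1
      obtain ⟨a, ha, hac⟩ := h1
      rw [← show (a : G) = c from congrArg Subtype.val (e'.injective hac)]
      exact ha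
    · exfalso
      obtain ⟨k, hk⟩ := IsPGroup.iff_card.1 P.isPGroup'
      rw [Nat.card_congr e.toEquiv] at hk
      have h1 := two_mul_nat_card_alternatingGroup (α := Fin 4)
      rw [hk, Nat.card_perm, Nat.card_fin] at h1
      have h3 : 3 ∣ 2 * 2 ^ k := by rw [h1]; decide
      rw [← pow_succ'] at h3
      have := (Nat.prime_dvd_prime_iff_eq Nat.prime_three Nat.prime_two).1 (Nat.prime_three.dvd_of_dvd_pow h3)
      omega
  intro hcase H hSn hSq
  obtain ⟨S⟩ := (inferInstance : Nonempty (Sylow 2 H))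
  haveI := hSn S
  haveI := hSq S
  set S0 := (S : Subgroup H).map H.subtype with hS0
  have hS0p : IsPGroup 2 S0 := S.isPGroup'.map _
  obtain ⟨P', hP'⟩ := hS0p.exists_le_sylow
  let ψ : (S : Subgroup H) →* (P' : Subgroup G) :=
    (Subgroup.inclusion hP').comp ((S : Subgroup H).equivMapOfInjective H.subtype H.subtype_injective).toMonoidHom
  have hψ : Function.Injective ψ := (Subgroup.inclusion_injective hP').comp (MulEquiv.injective _)
  by_cases hSc : IsCyclic (S : Subgroup H)
  · left
    exact isCyclic_of_complement S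
  rcases hcase with hPc | ⟨⟨n, -, ⟨eP⟩⟩, hK⟩
  · haveI : IsCyclic (P' : Subgroup G) := isCyclic_of_surjective _ (Sylow.equiv P P').surjective
    exact absurd (isCyclic_of_injective ψ hψ) hSc
  let χ : (S : Subgroup H) →* DihedralGroup (2 ^ n) :=
    ((Sylow.equiv P' P).trans eP).toMonoidHom.comp ψ
  have hχ : Function.Injective χ := ((Sylow.equiv P' P).trans eP).injective.comp hψ
  rcases dihedral_subgroup n χ.range with hc | ⟨k, hk, ⟨eT⟩⟩
  · exact absurd (isCyclic_of_surjective _ (MonoidHom.ofInjective hχ).symm.surjective) hSc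
  let eS : (S : Subgroup H) ≃* DihedralGroup (2 ^ k) := (MonoidHom.ofInjective hχ).trans eT
  obtain ⟨K, hKS, hK4, hK2⟩ := exists_four hk (S : Subgroup H) eS
  have hCK : ∀ b : H, (∀ y ∈ K, b * y = y * b) → b ∈ K := by
    intro b hb
    have h1 := four_centralizer P hK (K.map H.subtype)
      (by rw [Subgroup.card_map_of_injective H.subtype_injective, hK4]) (by
        rintro _ ⟨y, hy, rfl⟩
        rw [← map_pow, hK2 y hy, map_one])
    have h2 : (b : G) ∈ Subgroup.centralizer ((K.map H.subtype : Subgroup G) : Set G) := by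
      rw [Subgroup.mem_centralizer_iff]
      rintro _ ⟨y, hy, rfl⟩
      exact (congrArg Subtype.val (hb y hy)).symm
    rw [h1] at h2
    obtain ⟨y, hy, hyb⟩ := h2
    rwa [← show y = b from Subtype.ext hyb]
  have hpart : ∀ h : H, ∃ a b : H, h = a * b ∧ a ∈ (S : Subgroup H) ∧ Odd (orderOf b) := by
    intro h
    obtain ⟨a, b, hab, -, -, ha, hb⟩ := two_decomp h
    refine ⟨a, b, hab, ?_, hb⟩
    obtain ⟨T, hT⟩ := ha.exists_le_sylow
    obtain ⟨g, hg⟩ := MulAction.exists_smul_eq H S T
    rw [Sylow.smul_eq_of_normal] at hg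
    exact hg ▸ hT (Subgroup.mem_zpowers a)
  rcases Nat.lt_or_ge k 2 with hk2 | hk2
  · -- four-group
    obtain rfl : k = 1 := by omega
    have hS4 : Nat.card (S : Subgroup H) = 4 := by
      rw [Nat.card_congr eS.toEquiv, DihedralGroup.nat_card]; rfl
    have hKS' : K = (S : Subgroup H) := Subgroup.eq_of_le_of_card_ge hKS (by rw [hS4, hK4])
    subst hKS'
    -- elements of odd order cube to one
    have hcube : ∀ b : H, Odd (orderOf b) → b ^ 3 = 1 := by
      intro b hb
      let X := {y : H // y ∈ (S : Subgroup H) ∧ y ≠ 1}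
      have hX : Nat.card X = 3 := by
        have h1 : ({y : H | y ∈ (S : Subgroup H) ∧ y ≠ 1} : Set H) = ((S : Subgroup H) : Set H) \ {1} := rfl
        change Nat.card ↥({y : H | y ∈ (S : Subgroup H) ∧ y ≠ 1} : Set H) = 3
        rw [Nat.card_coe_set_eq, h1, Set.ncard_sdiff_singleton_of_mem (one_mem _), ← Nat.card_coe_set_eq]
        exact congrArg (· - 1) hS4
      letI : MulAction H X :=
        { smul := fun g y => ⟨g * y.1 * g⁻¹, (hSn S).conj_mem _ y.2.1 g, fun h => y.2.2 (conj_eq_one_iff.1 h)⟩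
          one_smul := fun y => Subtype.ext (show 1 * y.1 * 1⁻¹ = y.1 by simp)
          mul_smul := fun g g' y => Subtype.ext (show g * g' * y.1 * (g * g')⁻¹ = g * (g' * y.1 * g'⁻¹) * g⁻¹ by group) }
      set ρ := MulAction.toPermHom H X
      have h1 : orderOf (ρ b) ∣ 6 := by
        have := orderOf_dvd_natCard (ρ b)
        rwa [Nat.card_perm, hX] at this
      have h2 : Odd (orderOf (ρ b)) := Odd.of_dvd_nat hb (orderOf_map_dvd _ _)
      have h3 : orderOf (ρ b) ∣ 3 := by
        rw [show (6 : ℕ) = 2 * 3 from rfl] at h1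
        exact (Nat.coprime_two_right.2 h2).dvd_of_dvd_mul_left h1
      have h4 : ρ (b ^ 3) = 1 := by rw [map_pow]; exact orderOf_dvd_iff_pow_eq_one.1 h3
      have h5 : b ^ 3 ∈ (S : Subgroup H) := hCK _ fun y hy => by
        rcases eq_or_ne y 1 with rfl | hy1
        · simp
        have h6 := congrArg (fun σ : Equiv.Perm X => ((σ ⟨y, hy, hy1⟩ : X) : H)) h4
        exact mul_inv_eq_iff_eq_mul.1 h6
      obtain ⟨i, hi⟩ := IsPGroup.iff_orderOf.1 S.isPGroup' ⟨b ^ 3, h5⟩
      rw [Subgroup.orderOf_mk] at hi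
      exact orderOf_eq_one_iff.1 (Nat.eq_one_of_dvd_coprimes ((Nat.coprime_two_left.2 hb).pow_left i) hi.dvd
        (orderOf_pow_dvd 3))
    have hidx : (S : Subgroup H).index ∣ 3 := by
      obtain ⟨q, hq⟩ := IsCyclic.exists_generator (α := H ⧸ (S : Subgroup H))
      obtain ⟨h, rfl⟩ := QuotientGroup.mk'_surjective _ q
      rw [Subgroup.index_eq_card, ← orderOf_eq_card_of_forall_mem_zpowers hq]
      obtain ⟨a, b, rfl, ha, hb⟩ := hpart h
      rw [map_mul, show QuotientGroup.mk' (S : Subgroup H) a = 1 from (QuotientGroup.eq_one_iff a).2 ha, one_mul]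
      exact (orderOf_map_dvd _ _).trans (orderOf_dvd_of_pow_eq_one (hcube b hb))
    rcases (Nat.dvd_prime Nat.prime_three).1 hidx with hi | hi
    · right; left
      refine ⟨1, ⟨?_⟩⟩
      exact (Subgroup.topEquiv.symm.trans (MulEquiv.subgroupCongr (Subgroup.index_eq_one.1 hi).symm)).trans eS
    · right; right
      refine nonempty_alt_four _ hS4 hi (le_antisymm (fun b hb => hCK b fun y hy => ((Subgroup.mem_centralizer_iff.1 hb) y hy).symm) ?_)
      haveI : IsMulCommutative (S : Subgroup H) := .of_setLike_mul_comm fun a ha b hb => by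
        have ha' := inv_eq_of_mul_eq_one_left (by rw [← sq]; exact hK2 a ha : a * a = 1)
        have hb' := inv_eq_of_mul_eq_one_left (by rw [← sq]; exact hK2 b hb : b * b = 1)
        have h3 := eq_inv_of_mul_eq_one_left (by rw [← sq]; exact hK2 _ (mul_mem ha hb) : a * b * (a * b) = 1)
        rwa [mul_inv_rev, ha', hb'] at h3
      exact Subgroup.le_centralizer _
  · right; left
    refine ⟨k, ⟨?_⟩⟩
    have htop : (S : Subgroup H) = ⊤ := by
      rw [eq_top_iff]
      intro h _
      obtain ⟨a, b, rfl, ha, hb⟩ := hpart h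
      have hbc := odd_centralizes hk2 (S : Subgroup H) eS hb (fun s hs => (hSn S).conj_mem s hs b)
      have hbK := hKS (hCK b fun y hy => hbc y (hKS hy))
      exact mul_mem ha hbK
    exact (Subgroup.topEquiv.symm.trans (MulEquiv.subgroupCongr htop.symm)).trans eS

end Cfsg.Agent.S4083
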