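import Cfsg.Statements.S4084
import Mathlib

set_option autoImplicit false
open Cfsg

namespace Cfsg.Agent.S4084

/-- Transfer of an element of order `p * q` along a commuting-graph isomorphism. -/
lemma forward {G H : Type*} [Group G] [Finite G] [Group H] [Finite H] (e : G ≃ H)
    (he : ∀ x y : G, Commute x y ↔ Commute (e x) (e y))
    {p q : ℕ} (hp : p.Prime) (hq : q.Prime) (hpq : p ≠ q) (g : G) (hg : orderOf g = p * q) :
    ∃ h : H, orderOf h = p * q := by
  set B : Subgroup H := Subgroup.centralizer ((Subgroup.centralizer ({e g} : Set H)) : Set H) with hB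
  set A : Subgroup G := Subgroup.centralizer ((Subgroup.centralizer ({g} : Set G)) : Set G) with hA
  have hmemA : ∀ a : G, a ∈ A ↔ ∀ x : G, Commute x g → Commute x a := by
    intro a
    simp [hA, Subgroup.mem_centralizer_iff, Commute, SemiconjBy, eq_comm]
  have hmemB : ∀ a : H, a ∈ B ↔ ∀ x : H, Commute x (e g) → Commute x a := by
    intro a
    simp [hB, Subgroup.mem_centralizer_iff, Commute, SemiconjBy, eq_comm]
  have hAB : ∀ a, a ∈ A ↔ e a ∈ B := by
    intro a
    rw [hmemA, hmemB, e.surjective.forall]
    simp only [← he]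
  have hcard : Nat.card A = Nat.card B := Nat.card_congr (e.subtypeEquiv hAB)
  have hgA : g ∈ A := (hmemA g).2 fun _ h => h
  have hdvd : p * q ∣ Nat.card B := by
    rw [← hcard, ← hg, ← Subgroup.orderOf_mk g hgA]
    exact orderOf_dvd_natCard _
  haveI := Fact.mk hp
  haveI := Fact.mk hq
  obtain ⟨b, hb⟩ := exists_prime_orderOf_dvd_card' (G := B) p ((dvd_mul_right p q).trans hdvd)
  obtain ⟨c, hc⟩ := exists_prime_orderOf_dvd_card' (G := B) q ((dvd_mul_left q p).trans hdvd)
  have hcomm : Commute (b : H) (c : H) := by
    have hc' := (hmemB c).1 c.2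
    have heg : e g ∈ B := (hmemB _).2 fun _ h => h
    have hb' : Commute (b : H) (e g) := ((hmemB b).1 b.2 (e g) (Commute.refl _)).symm
    exact hc' b hb'
  refine ⟨(b : H) * (c : H), ?_⟩
  have hb1 : orderOf (b : H) = p := by simpa using hb
  have hc1 : orderOf (c : H) = q := by simpa using hc
  rw [hcomm.orderOf_mul_eq_mul_orderOf_of_coprime, hb1, hc1]
  rw [hb1, hc1]
  exact (Nat.coprime_primes hp hq).2 hpq

/-- Let G and H be finite groups whose commuting graphs are isomorphic: there is a bijection e : G → H with x, y commuting exactly when e(x), e(y) commute. Then G and H have the same prime graph: for distinct primes p, q, G has an element of order pq if and only if H does (and #G = #H, so the prime divisors agree). -/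
theorem result {G H : Type*} [Group G] [Finite G] [Group H] [Finite H] (e : G ≃ H)
    (he : ∀ x y : G, Commute x y ↔ Commute (e x) (e y))
    {p q : ℕ} (hp : p.Prime) (hq : q.Prime) (hpq : p ≠ q) :
    (∃ g : G, orderOf g = p * q) ↔ (∃ h : H, orderOf h = p * q) := by
  constructor
  · rintro ⟨g, hg⟩
    exact forward e he hp hq hpq g hg
  · rintro ⟨h, hh⟩
    refine forward e.symm (fun x y => ?_) hp hq hpq h hh
    rw [he, e.apply_symm_apply, e.apply_symm_apply]

end Cfsg.Agent.S4084
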