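import Cfsg.Statements.S4085
import Mathlib

set_option autoImplicit false
open Cfsg

namespace Cfsg.Agent.S4085

/-- Adjacency (reflexive) in the power graph. -/
def PAdj {G : Type*} [Group G] (x y : G) : Prop := x ∈ Subgroup.zpowers y ∨ y ∈ Subgroup.zpowers x

section
variable {G : Type*} [Group G] [Finite G]

lemma padj_comm {x y : G} (h : PAdj x y) : PAdj y x := h.symm

lemma padj_self (x : G) : PAdj x x := Or.inl (Subgroup.mem_zpowers x)

lemma padj_one (x : G) : PAdj 1 x := Or.inl (Subgroup.one_mem _)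

omit [Finite G] in
lemma zp_trans {x y z : G} (h : x ∈ Subgroup.zpowers y) (h' : y ∈ Subgroup.zpowers z) : x ∈ Subgroup.zpowers z :=
  Subgroup.zpowers_le.2 h' h

lemma zp_symm_of_order_le {x y : G} (h : x ∈ Subgroup.zpowers y) (hle : orderOf y ≤ orderOf x) :
    y ∈ Subgroup.zpowers x := by
  have h1 : Subgroup.zpowers x = Subgroup.zpowers y :=
    Subgroup.eq_of_le_of_card_ge (Subgroup.zpowers_le.2 h) (by rw [Nat.card_zpowers, Nat.card_zpowers]; exact hle)
  rw [h1]; exact Subgroup.mem_zpowers y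

/-- In a cyclic group inclusion is divisibility. -/
lemma zp_iff_dvd {g x y : G} (hx : x ∈ Subgroup.zpowers g) (hy : y ∈ Subgroup.zpowers g) :
    x ∈ Subgroup.zpowers y ↔ orderOf x ∣ orderOf y := by
  refine ⟨orderOf_dvd_of_mem_zpowers, fun hd => ?_⟩
  classical
  let C := Subgroup.zpowers g
  letI := Fintype.ofFinite C
  let x' : C := ⟨x, hx⟩
  let y' : C := ⟨y, hy⟩
  have hx' : orderOf x' = orderOf x := Subgroup.orderOf_mk x hx
  have hy' : orderOf y' = orderOf y := Subgroup.orderOf_mk y hy
  have hsub : Finset.univ.filter (fun a => a ∈ Subgroup.zpowers y') ⊆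
      Finset.univ.filter (fun a : C => a ^ orderOf y = 1) := by
    intro a ha
    simp only [Finset.mem_filter, Finset.mem_univ, true_and] at ha ⊢
    exact orderOf_dvd_iff_pow_eq_one.1 (hy' ▸ orderOf_dvd_of_mem_zpowers ha)
  have hcard : (Finset.univ.filter (fun a => a ∈ Subgroup.zpowers y')).card = orderOf y := by
    rw [← Fintype.card_subtype, ← Nat.card_eq_fintype_card]
    exact (Nat.card_zpowers y').trans hy'
  have heq := Finset.eq_of_subset_of_card_le hsub
    (by rw [hcard]; exact IsCyclic.card_pow_eq_one_le (orderOf_pos y))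
  have hxmem : x' ∈ Finset.univ.filter (fun a : C => a ^ orderOf y = 1) := by
    simp only [Finset.mem_filter, Finset.mem_univ, true_and]
    exact orderOf_dvd_iff_pow_eq_one.1 (hx'.symm ▸ hd)
  rw [← heq, Finset.mem_filter] at hxmem
  obtain ⟨k, hk⟩ := Subgroup.mem_zpowers_iff.1 hxmem.2
  exact ⟨k, congrArg Subtype.val hk⟩

omit [Finite G] in
lemma exists_order {g : G} {d : ℕ} (hg : orderOf g ≠ 0) (hd : d ∣ orderOf g) :
    ∃ x ∈ Subgroup.zpowers g, orderOf x = d :=
  ⟨g ^ (orderOf g / d), Subgroup.pow_mem _ (Subgroup.mem_zpowers g) _, orderOf_pow_orderOf_div hg hd⟩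

/-- The prime-power part, as a witness of incomparability. -/
lemma exists_incomparable {g x : G} {r : ℕ} (hx : x ∈ Subgroup.zpowers g) (hx1 : x ≠ 1)
    (hxg : g ∉ Subgroup.zpowers x) (hr : r.Prime) (hrn : r ∣ orderOf g) :
    ∃ s : ℕ, s.Prime ∧ s ∣ orderOf g ∧
      ((∀ k, orderOf g ≠ s ^ k) → ¬ (s ^ (orderOf g).factorization s ∣ orderOf x) ∧
        ¬ (orderOf x ∣ s ^ (orderOf g).factorization s) ∨
        ∃ s' : ℕ, s'.Prime ∧ s' ∣ orderOf g ∧ ¬ (s' ^ (orderOf g).factorization s' ∣ orderOf x) ∧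
          ¬ (orderOf x ∣ s' ^ (orderOf g).factorization s')) := by
  set n := orderOf g
  have hn : n ≠ 0 := (orderOf_pos g).ne'
  have hd : orderOf x ∣ n := orderOf_dvd_of_mem_zpowers hx
  have hne : orderOf x ≠ n := fun h => hxg (zp_symm_of_order_le hx h.ge)
  obtain ⟨s, hs, hsn, hsx⟩ : ∃ s, s.Prime ∧ s ∣ n ∧ ¬ s ^ n.factorization s ∣ orderOf x := by
    by_contra hall
    push Not at hall
    refine hne (Nat.dvd_antisymm hd ?_)
    rw [Nat.dvd_iff_prime_pow_dvd_dvd]
    intro t k ht hk
    rcases Nat.eq_zero_or_pos k with rfl | hk0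
    · simp
    exact (pow_dvd_pow t ((ht.pow_dvd_iff_le_factorization hn).1 hk)).trans
      (hall t ht ((dvd_pow_self t hk0.ne').trans hk))
  refine ⟨s, hs, hsn, fun hnp => ?_⟩
  by_cases hxs : orderOf x ∣ s ^ n.factorization s
  swap
  · exact Or.inl ⟨hsx, hxs⟩
  right
  obtain ⟨s', hs', hs'n, hss⟩ : ∃ s', s'.Prime ∧ s' ∣ n ∧ s' ≠ s := by
    by_contra hall
    push Not at hall
    exact hnp _ (Nat.eq_prime_pow_of_unique_prime_dvd hn fun {d} hd hdn => hall d hd hdn)
  obtain ⟨i, -, hi⟩ := (Nat.dvd_prime_pow hs).1 hxs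
  have hi0 : i ≠ 0 := fun h => hx1 (orderOf_eq_one_iff.1 (by rw [hi, h, pow_zero]))
  refine ⟨s', hs', hs'n, fun h => hss ?_, fun h => hss ?_⟩
  · exact (Nat.prime_dvd_prime_iff_eq hs' hs).1 (hs'.dvd_of_dvd_pow
      (((dvd_pow_self s' (hs'.factorization_pos_of_dvd hn hs'n).ne').trans h).trans hxs))
  · rw [hi] at h
    exact ((Nat.prime_dvd_prime_iff_eq hs hs').1 (hs.dvd_of_dvd_pow ((dvd_pow_self s hi0).trans h))).symm

/-- `x` is a non-universal vertex of `⟨g⟩`. -/
def NU (g x : G) : Prop := x ∈ Subgroup.zpowers g ∧ x ≠ 1 ∧ g ∉ Subgroup.zpowers x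

variable {g : G} {p q : ℕ}

lemma NU.not_universal (hp : p.Prime) (hq : q.Prime) (hpq : p ≠ q) (hd : p * q ∣ orderOf g) {x : G}
    (hx : NU g x) : ∃ y, NU g y ∧ ¬ PAdj x y ∧ ∃ r : ℕ, r.Prime ∧ r ∣ orderOf g ∧
      orderOf y = r ^ (orderOf g).factorization r := by
  have hn0 : orderOf g ≠ 0 := (orderOf_pos g).ne'
  have hpn : p ∣ orderOf g := (dvd_mul_right p q).trans hd
  have hnp : ∀ s k : ℕ, s.Prime → orderOf g ≠ s ^ k := fun s k hs h => hpq <|
    ((Nat.prime_dvd_prime_iff_eq hp hs).1 (hp.dvd_of_dvd_pow (h ▸ hpn))).trans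
      ((Nat.prime_dvd_prime_iff_eq hq hs).1 (hq.dvd_of_dvd_pow (h ▸ (dvd_mul_left q p).trans hd))).symm
  have hgood : ∀ r : ℕ, r.Prime → r ∣ orderOf g → ¬ (r ^ (orderOf g).factorization r ∣ orderOf x) →
      ¬ (orderOf x ∣ r ^ (orderOf g).factorization r) →
      ∃ y, NU g y ∧ ¬ PAdj x y ∧ ∃ r : ℕ, r.Prime ∧ r ∣ orderOf g ∧
        orderOf y = r ^ (orderOf g).factorization r := by
    intro r hr hrn h1 h2
    obtain ⟨y, hy, hyo⟩ := exists_order hn0 (Nat.ordProj_dvd (orderOf g) r)
    refine ⟨y, ⟨hy, ?_, fun h => ?_⟩, ?_, r, hr, hrn, hyo⟩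
    · rintro rfl
      exact h1 (by rw [← hyo, orderOf_one]; exact one_dvd _)
    · exact hnp r _ hr ((Nat.dvd_antisymm (orderOf_dvd_of_mem_zpowers h) (orderOf_dvd_of_mem_zpowers hy)).trans hyo)
    · rintro (h | h)
      · exact h2 (hyo ▸ orderOf_dvd_of_mem_zpowers h)
      · exact h1 (hyo ▸ orderOf_dvd_of_mem_zpowers h)
  obtain ⟨s, hs, hsn, hcase⟩ := exists_incomparable hx.1 hx.2.1 hx.2.2 hp hpn
  rcases hcase (fun k => hnp s k hs) with ⟨h1, h2⟩ | ⟨s', hs', hs'n, h1, h2⟩
  · exact hgood s hs hsn h1 h2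
  · exact hgood s' hs' hs'n h1 h2

/-- The incomparability graph on the non-universal vertices is connected. -/
lemma NU.dichotomy (hp : p.Prime) (hq : q.Prime) (hpq : p ≠ q) (hd : p * q ∣ orderOf g) (A : G → Prop)
    (hA : ∀ x y, NU g x → NU g y → A x → ¬ A y → PAdj x y) :
    (∀ x, NU g x → A x) ∨ (∀ x, NU g x → ¬ A x) := by
  by_contra hcon
  push Not at hcon
  obtain ⟨⟨x0, hx0, hx0A⟩, y0, hy0, hy0A⟩ := hcon
  obtain ⟨y, hy, hyx, r, hr, hrn, hyo⟩ := hy0.not_universal hp hq hpq hd
  obtain ⟨x, hx, hxy, r', hr', hr'n, hxo⟩ := hx0.not_universal hp hq hpq hd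
  have hyA : A y := by
    by_contra h
    exact hyx (hA _ _ hy0 hy hy0A h)
  have hxA : ¬ A x := fun h => hxy (padj_comm (hA _ _ hx hx0 h hx0A))
  have hadj := hA _ _ hy hx hyA hxA
  have hn0 : orderOf g ≠ 0 := (orderOf_pos g).ne'
  rcases eq_or_ne r r' with h | h
  · subst h
    have h1 : Subgroup.zpowers x = Subgroup.zpowers y := by
      have := (zp_iff_dvd hx.1 hy.1).2 (by rw [hxo, hyo])
      exact Subgroup.eq_of_le_of_card_ge (Subgroup.zpowers_le.2 this) (by rw [Nat.card_zpowers, Nat.card_zpowers, hxo, hyo])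
    apply hyx
    -- `x` and `y` are twins
    have key : PAdj y0 x → PAdj y0 y := by
      rintro (h' | h')
      · exact Or.inl (h1 ▸ h')
      · exact Or.inr (zp_trans (h1 ▸ Subgroup.mem_zpowers y) h')
    exact key (hA _ _ hy0 hx hy0A hxA)
  · have hcop : ∀ a b : ℕ, a.Prime → b.Prime → a ≠ b → b ∣ orderOf g →
        ¬ b ^ (orderOf g).factorization b ∣ a ^ (orderOf g).factorization a := fun a b ha hb hab hbn hdvd =>
      hab ((Nat.prime_dvd_prime_iff_eq hb ha).1 (hb.dvd_of_dvd_pow
        ((dvd_pow_self b (hb.factorization_pos_of_dvd hn0 hbn).ne').trans hdvd))).symm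
    rcases hadj with h' | h'
    · exact hcop r' r hr' hr h.symm hrn (hyo ▸ hxo ▸ orderOf_dvd_of_mem_zpowers h')
    · exact hcop r r' hr hr' h hr'n (hyo ▸ hxo ▸ orderOf_dvd_of_mem_zpowers h')

end

/-- Sum of totients along a chain of divisors. -/
lemma totient_chain (b : ℕ) : 0 < b → ∀ S : Finset ℕ, (∀ d ∈ S, d ∣ b) →
    (∀ d ∈ S, ∀ d' ∈ S, d ∣ d' ∨ d' ∣ d) →
    (b % 2 = 1 → ∑ d ∈ S, Nat.totient d ≤ 3 * Nat.totient b) ∧ ∑ d ∈ S, Nat.totient d ≤ 4 * Nat.totient b := by
  induction b using Nat.strong_induction_on with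
  | _ b ih =>
    intro hb S hS hchain
    rcases (S.erase b).eq_empty_or_nonempty with he | hne
    · have : S ⊆ {b} := fun d hd => by
        rw [Finset.mem_singleton]
        by_contra hdb
        exact Finset.notMem_empty d (he ▸ Finset.mem_erase.2 ⟨hdb, hd⟩)
      have h1 := Finset.sum_le_sum_of_subset (f := Nat.totient) this
      rw [Finset.sum_singleton] at h1
      exact ⟨fun _ => by omega, by omega⟩
    · obtain ⟨d, hd, hmax⟩ := (S.erase b).exists_max_image id hne
      obtain ⟨hdb, hdS⟩ := Finset.mem_erase.1 hd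
      have hdd : d ∣ b := hS d hdS
      have hd0 : 0 < d := Nat.pos_of_dvd_of_pos hdd hb
      have hlt : d < b := lt_of_le_of_ne (Nat.le_of_dvd hb hdd) hdb
      have hsub : ∀ e ∈ S.erase b, e ∣ d := by
        intro e he'
        obtain ⟨-, heS⟩ := Finset.mem_erase.1 he'
        rcases hchain e heS d hdS with h | h
        · exact h
        · have := hmax e he'
          simp only [id] at this
          rw [le_antisymm this (Nat.le_of_dvd (Nat.pos_of_dvd_of_pos (hS e heS) hb) h)]
      obtain ⟨ih1, ih2⟩ := ih d hlt hd0 (S.erase b) hsub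
        fun e he' e' he'' => hchain e (Finset.mem_of_mem_erase he') e' (Finset.mem_of_mem_erase he'')
      have hsum : ∑ e ∈ S, Nat.totient e ≤ Nat.totient b + ∑ e ∈ S.erase b, Nat.totient e := by
        by_cases hbS : b ∈ S
        · rw [Finset.add_sum_erase S Nat.totient hbS]
        · rw [Finset.erase_eq_of_notMem hbS]; omega
      obtain ⟨m, rfl⟩ := hdd
      have hm : 2 ≤ m := by
        by_contra h
        interval_cases m <;> simp_all
      have hle : Nat.totient d ≤ Nat.totient (d * m) :=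
        Nat.le_of_dvd (Nat.totient_pos.2 hb) (Nat.totient_dvd_of_dvd (dvd_mul_right d m))
      have hbig : (3 ≤ m ∨ d % 2 = 0) → 2 * Nat.totient d ≤ Nat.totient (d * m) := by
        intro hcase
        rcases Nat.lt_or_ge m 3 with hm3 | hm3
        · have hm2 : m = 2 := by omega
          subst hm2
          rw [mul_comm d 2, Nat.totient_mul_of_prime_of_dvd Nat.prime_two (Nat.dvd_of_mod_eq_zero (hcase.resolve_left (by omega)))]
        · have h2 : 2 ≤ Nat.totient m := by
            have := Nat.totient_pos.2 (by omega : 0 < m)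
            have h1 : Nat.totient m ≠ 1 := fun h => by
              rcases Nat.totient_eq_one_iff.1 h with h' | h' <;> omega
            omega
          calc 2 * Nat.totient d ≤ Nat.totient d * Nat.totient m := by
                rw [mul_comm 2]; exact Nat.mul_le_mul le_rfl h2
            _ ≤ _ := Nat.totient_super_multiplicative d m
      constructor
      · intro hodd
        have hd2 : d % 2 = 1 := by
          rw [Nat.mul_mod] at hodd
          rcases Nat.mod_two_eq_zero_or_one d with h | h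
          · simp [h] at hodd
          · exact h
        have hm3 : 3 ≤ m := by
          by_contra h
          have : m = 2 := by omega
          subst this
          simp at hodd
        have := hbig (Or.inl hm3)
        have := ih1 hd2
        omega
      · rcases Nat.mod_two_eq_zero_or_one d with h | h
        · have := hbig (Or.inr h)
          omega
        · have := ih1 h
          omega

section
variable {G H : Type*} [Group G] [Finite G] [Group H] [Finite H]

/-- A vertex with a neighbourhood like a cyclic group has a cyclic neighbourhood. -/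
lemma exists_top (e : G ≃ H) (he : ∀ x y, PAdj x y ↔ PAdj (e x) (e y)) {g : G} {v : H} {p q : ℕ}
    (hp : p.Prime) (hq : q.Prime) (hpq : p < q) (hd : p * q ∣ orderOf g) (hv : v ≠ 1)
    (hN : ∀ t, PAdj (e t) v ↔ t ∈ Subgroup.zpowers g) (hvU : ¬ NU g (e.symm v)) :
    ∃ w : H, ∀ t, t ∈ Subgroup.zpowers g → e t ∈ Subgroup.zpowers w ∧ PAdj w v := by
  classical
  letI := Fintype.ofFinite G
  letI := Fintype.ofFinite H
  have hn0 : orderOf g ≠ 0 := (orderOf_pos g).ne'
  set C := Subgroup.zpowers g with hC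
  -- universal vertices
  let Univ : G → Prop := fun t => t ∈ C ∧ ¬ NU g t
  have huniv : ∀ t, Univ t → ∀ y ∈ C, PAdj (e t) (e y) := by
    rintro t ⟨ht, htn⟩ y hy
    rw [← he]
    by_cases h1 : t = 1
    · exact h1 ▸ padj_one y
    · have : g ∈ Subgroup.zpowers t := by
        by_contra h
        exact htn ⟨ht, h1, h⟩
      exact Or.inr (zp_trans hy this)
  set tv := e.symm v with htv
  have htvC : tv ∈ C := (hN tv).1 (by rw [htv, e.apply_symm_apply]; exact padj_self v)
  have htvU : Univ tv := ⟨htvC, hvU⟩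
  -- the largest universal vertex
  obtain ⟨tb, htb, hmax⟩ := (Finset.univ.filter Univ).exists_max_image (fun t => orderOf (e t))
    ⟨tv, Finset.mem_filter.2 ⟨Finset.mem_univ _, htvU⟩⟩
  simp only [Finset.mem_filter, Finset.mem_univ, true_and] at htb hmax
  set b := e tb with hb
  have hub : ∀ t, Univ t → e t ∈ Subgroup.zpowers b := fun t ht => by
    rcases huniv t ht tb htb.1 with h | h
    · exact h
    · exact zp_symm_of_order_le h (hmax t ht)
  have hvb : v ∈ Subgroup.zpowers b := by
    have := hub tv htvU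
    rwa [htv, e.apply_symm_apply] at this
  by_contra hno
  -- every non-universal vertex lies strictly above the universal ones
  have htop : ¬ ∀ t, NU g t → e t ∈ Subgroup.zpowers b := fun hall => hno ⟨b, fun t ht => ⟨by
    by_cases h : NU g t
    · exact hall t h
    · exact hub t ⟨ht, h⟩, (hN tb).2 htb.1⟩⟩
  have hDU : (∀ x, NU g x → e x ∈ Subgroup.zpowers v) ∨ (∀ x, NU g x → ¬ e x ∈ Subgroup.zpowers v) :=
    NU.dichotomy hp hq hpq.ne hd (fun x => e x ∈ Subgroup.zpowers v) fun x y _ hy hxA hyA => by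
      rw [he]
      exact Or.inl (zp_trans hxA (((hN y).2 hy.1).resolve_left hyA))
  have hup : ∀ x, NU g x → v ∈ Subgroup.zpowers (e x) := by
    rcases hDU with h | h
    · exact absurd (fun x hx => zp_trans (h x hx) hvb) htop
    · exact fun x hx => ((hN x).2 hx.1).resolve_left (h x hx)
  have hbx : ∀ x, NU g x → b ∈ Subgroup.zpowers (e x) ∧ e x ∉ Subgroup.zpowers b := by
    have hdich := NU.dichotomy hp hq hpq.ne hd (fun x => e x ∈ Subgroup.zpowers b) fun x y _ hy hxA hyA => by
      rw [he]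
      exact Or.inl (zp_trans hxA ((huniv tb htb y hy.1).resolve_right hyA))
    rcases hdich with h | h
    · exact absurd h htop
    · exact fun x hx => ⟨(huniv tb htb x hx.1).resolve_right (h x hx), h x hx⟩
  -- the element of order `p`
  obtain ⟨xp, hxpC, hxpo⟩ := exists_order hn0 ((dvd_mul_right p q).trans hd)
  have hnp : ¬ orderOf g = p := fun h => by
    have := Nat.le_of_dvd hp.pos (h ▸ hd)
    have := hq.two_le
    have := Nat.mul_le_mul_left p this
    omega
  have hxp : NU g xp := ⟨hxpC, fun h => hp.ne_one (by rw [← hxpo, h, orderOf_one]), fun h => hnp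
    ((Nat.dvd_antisymm (orderOf_dvd_of_mem_zpowers h) (orderOf_dvd_of_mem_zpowers hxpC)).trans hxpo)⟩
  set u := e xp with hu
  have hgen : ∀ u' : H, Subgroup.zpowers u' = Subgroup.zpowers u → e.symm u' ∈ C ∧ orderOf (e.symm u') = p := by
    intro u' hu'
    set y := e.symm u' with hy
    have hey : e y = u' := e.apply_symm_apply u'
    have hyC : y ∈ C := by
      rw [← hN, hey]
      right
      rw [hu']; exact hup xp hxp
    have hiff : ∀ z, PAdj xp z ↔ PAdj y z := by
      intro z
      rw [he, he y, hey]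
      change (u ∈ _ ∨ _ ∈ Subgroup.zpowers u) ↔ (u' ∈ _ ∨ _ ∈ Subgroup.zpowers u')
      rw [hu', ← Subgroup.zpowers_le, ← Subgroup.zpowers_le (g := u'), hu']
    refine ⟨hyC, ?_⟩
    have hy1 : y ≠ 1 := by
      rintro hy1
      obtain ⟨z, hz, hzn, -⟩ := hxp.not_universal hp hq hpq.ne hd
      exact hzn ((hiff z).2 (hy1 ▸ padj_one z))
    have hpy : p ∣ orderOf y := by
      rcases (hiff xp).1 (padj_self xp) with h | h
      · have := orderOf_dvd_of_mem_zpowers h
        rw [hxpo] at this
        rcases (Nat.dvd_prime hp).1 this with h' | h'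
        · exact absurd (orderOf_eq_one_iff.1 h') hy1
        · rw [h']
      · exact hxpo ▸ orderOf_dvd_of_mem_zpowers h
    have hd' : orderOf y ∣ orderOf g := orderOf_dvd_of_mem_zpowers hyC
    have honly : ∀ s, s.Prime → s ∣ orderOf g → s ≠ p → ¬ s ∣ orderOf y := by
      intro s hs hsn hsp hsy
      obtain ⟨z, hz, hzo⟩ := exists_order hn0 hsn
      rcases (hiff z).2 (Or.inr ((zp_iff_dvd hz hyC).2 (hzo ▸ hsy))) with h | h
      · exact hsp ((Nat.prime_dvd_prime_iff_eq hp hs).1 (hzo ▸ hxpo ▸ orderOf_dvd_of_mem_zpowers h)).symm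
      · exact hsp ((Nat.prime_dvd_prime_iff_eq hs hp).1 (hzo ▸ hxpo ▸ orderOf_dvd_of_mem_zpowers h))
    have hpow := Nat.eq_prime_pow_of_unique_prime_dvd (p := p) (orderOf_pos y).ne' fun {s} hs hsy => by
      by_contra hsp
      exact honly s hs (hsy.trans hd') hsp hsy
    set k := (orderOf y).primeFactorsList.length
    obtain ⟨z, hz, hzo⟩ := exists_order hn0 hd
    have hxz : PAdj xp z := Or.inl ((zp_iff_dvd hxpC hz).2 (by rw [hxpo, hzo]; exact dvd_mul_right p q))
    rcases (hiff z).1 hxz with h | h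
    · have h1 := orderOf_dvd_of_mem_zpowers h
      rw [hzo, hpow] at h1
      have hk : k ≤ 1 := by
        by_contra hk
        have h2 : p * p ∣ p * q := by rw [← sq]; exact (pow_dvd_pow p (by omega)).trans h1
        exact hpq.ne ((Nat.prime_dvd_prime_iff_eq hp hq).1 ((Nat.mul_dvd_mul_iff_left hp.pos).1 h2))
      have hk0 : k ≠ 0 := fun h0 => hy1 (orderOf_eq_one_iff.1 (by rw [hpow, h0, pow_zero]))
      rw [hpow, show k = 1 by omega, pow_one]
    · exfalso
      have h1 := orderOf_dvd_of_mem_zpowers h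
      rw [hzo, hpow] at h1
      exact hpq.ne ((Nat.prime_dvd_prime_iff_eq hq hp).1 (hq.dvd_of_dvd_pow ((dvd_mul_left q p).trans h1))).symm
  have hle : Nat.totient (orderOf u) ≤ p - 1 := by
    rw [← Nat.totient_prime hp]
    classical
    letI := Fintype.ofFinite (Subgroup.zpowers u)
    letI := Fintype.ofFinite (Subgroup.zpowers g)
    rw [← IsCyclic.card_orderOf_eq_totient (α := Subgroup.zpowers u) (by rw [← Nat.card_eq_fintype_card, Nat.card_zpowers]),
      ← IsCyclic.card_orderOf_eq_totient (α := Subgroup.zpowers g) (d := p)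
        (by rw [← Nat.card_eq_fintype_card, Nat.card_zpowers]; exact (dvd_mul_right p q).trans hd)]
    have key : ∀ a : Subgroup.zpowers u, orderOf a = orderOf u →
        e.symm (a : H) ∈ Subgroup.zpowers g ∧ orderOf (e.symm (a : H)) = p := fun a ha => by
      refine hgen (a : H) (Subgroup.eq_of_le_of_card_ge (Subgroup.zpowers_le.2 a.2) ?_)
      rw [Nat.card_zpowers, Nat.card_zpowers, Subgroup.orderOf_coe, ha]
    refine Finset.card_le_card_of_injOn (fun a => if h : orderOf a = orderOf u then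
      (⟨e.symm (a : H), (key a h).1⟩ : Subgroup.zpowers g) else 1) ?_ ?_
    · intro a ha
      simp only [Finset.coe_filter, Finset.mem_univ, true_and, Set.mem_setOf_eq] at ha ⊢
      rw [dif_pos ha, Subgroup.orderOf_mk]
      exact (key a ha).2
    · intro a ha a' ha' haa
      simp only [Finset.coe_filter, Finset.mem_univ, true_and, Set.mem_setOf_eq] at ha ha'
      simp only [dif_pos ha, dif_pos ha'] at haa
      exact Subtype.ext (e.symm.injective (congrArg Subtype.val haa))
  have hbu : Nat.totient (orderOf b) ≤ Nat.totient (orderOf u) :=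
    Nat.le_of_dvd (Nat.totient_pos.2 (orderOf_pos u))
      (Nat.totient_dvd_of_dvd (orderOf_dvd_of_mem_zpowers (hbx xp hxp).1))
  rcases Nat.lt_or_ge p 3 with hp3 | hp3
  · have hu4 : 2 * orderOf b ≤ orderOf u := by
      obtain ⟨m, hm⟩ := orderOf_dvd_of_mem_zpowers (hbx xp hxp).1
      have hm1 : m ≠ 1 := fun h => (hbx xp hxp).2 (zp_symm_of_order_le (hbx xp hxp).1 (by rw [hm, h, mul_one]))
      have hm0 : m ≠ 0 := fun h => (orderOf_pos u).ne' (by rw [hm, h, mul_zero])
      rw [hm, mul_comm 2]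
      exact Nat.mul_le_mul le_rfl (by omega)
    have hb2 : 2 ≤ orderOf b := by
      have h1 : orderOf b ≠ 1 := fun h => hv (by
        rw [orderOf_eq_one_iff.1 h, Subgroup.zpowers_one_eq_bot, Subgroup.mem_bot] at hvb
        exact hvb)
      have := orderOf_pos b
      omega
    have h1 : Nat.totient (orderOf u) = 1 := by
      have := Nat.totient_pos.2 (orderOf_pos u)
      omega
    rcases Nat.totient_eq_one_iff.1 h1 with h | h <;> omega
  -- counting the universal vertices
  let S : Finset H := (Finset.univ.filter Univ).image e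
  have hScard : Nat.totient (orderOf g) < S.card := by
    rw [Finset.card_image_of_injective _ e.injective]
    classical
    letI := Fintype.ofFinite (Subgroup.zpowers g)
    rw [← IsCyclic.card_orderOf_eq_totient (α := Subgroup.zpowers g) (d := orderOf g)
      (by rw [← Nat.card_eq_fintype_card, Nat.card_zpowers]),
      ← Finset.card_map ⟨Subtype.val, Subtype.val_injective⟩]
    refine Finset.card_lt_card (Finset.ssubset_iff_of_subset ?_ |>.2 ⟨1, ?_, ?_⟩)
    · intro t ht
      obtain ⟨a, ha, rfl⟩ := Finset.mem_map.1 ht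
      simp only [Finset.mem_filter, Finset.mem_univ, true_and, Function.Embedding.coeFn_mk] at ha ⊢
      exact ⟨a.2, fun hnu => hnu.2.2 (zp_symm_of_order_le a.2 (by rw [Subgroup.orderOf_coe, ha]))⟩
    · exact Finset.mem_filter.2 ⟨Finset.mem_univ _, C.one_mem, fun hnu => hnu.2.1 rfl⟩
    · intro ht
      obtain ⟨a, ha, ha1⟩ := Finset.mem_map.1 ht
      simp only [Finset.mem_filter, Finset.mem_univ, true_and, Function.Embedding.coeFn_mk] at ha ha1
      rw [← Subgroup.orderOf_coe, ha1, orderOf_one] at ha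
      have := Nat.le_of_dvd (orderOf_pos g) hd
      rw [← ha] at this
      exact absurd this (by have := Nat.mul_le_mul hp.two_le hq.two_le; omega)
  have hSb : ∀ t ∈ S, t ∈ Subgroup.zpowers b := by
    intro t ht
    obtain ⟨t', ht', rfl⟩ := Finset.mem_image.1 ht
    exact hub t' (Finset.mem_filter.1 ht').2
  have hS4 : S.card ≤ 4 * Nat.totient (orderOf b) := by
    rw [Finset.card_eq_sum_card_image orderOf S]
    refine le_trans (Finset.sum_le_sum fun d hd' => ?_) (totient_chain (orderOf b) (orderOf_pos b) (S.image orderOf) ?_ ?_).2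
    · obtain ⟨t, ht, rfl⟩ := Finset.mem_image.1 hd'
      letI := Fintype.ofFinite (Subgroup.zpowers b)
      rw [← IsCyclic.card_orderOf_eq_totient (α := Subgroup.zpowers b)
        (by rw [← Nat.card_eq_fintype_card, Nat.card_zpowers]; exact orderOf_dvd_of_mem_zpowers (hSb t ht)),
        ← Finset.card_map ⟨Subtype.val, Subtype.val_injective⟩]
      refine Finset.card_le_card fun a ha => ?_
      rw [Finset.mem_filter] at ha
      exact Finset.mem_map.2 ⟨⟨a, hSb a ha.1⟩, Finset.mem_filter.2 ⟨Finset.mem_univ _, by rw [Subgroup.orderOf_mk]; exact ha.2⟩, rfl⟩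
    · intro d hd'
      obtain ⟨t, ht, rfl⟩ := Finset.mem_image.1 hd'
      exact orderOf_dvd_of_mem_zpowers (hSb t ht)
    · intro d hd' d' hd''
      obtain ⟨t, ht, rfl⟩ := Finset.mem_image.1 hd'
      obtain ⟨t', ht', rfl⟩ := Finset.mem_image.1 hd''
      obtain ⟨a, ha, rfl⟩ := Finset.mem_image.1 ht
      obtain ⟨a', ha', rfl⟩ := Finset.mem_image.1 ht'
      rcases huniv a (Finset.mem_filter.1 ha).2 a' (Finset.mem_filter.1 ha').2.1 with h | h
      · exact Or.inl (orderOf_dvd_of_mem_zpowers h)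
      · exact Or.inr (orderOf_dvd_of_mem_zpowers h)
  have hphin : (p - 1) * (q - 1) ≤ Nat.totient (orderOf g) := by
    rw [← Nat.totient_prime hp, ← Nat.totient_prime hq, ← Nat.totient_mul ((Nat.coprime_primes hp hq).2 hpq.ne)]
    exact Nat.le_of_dvd (Nat.totient_pos.2 (orderOf_pos g)) (Nat.totient_dvd_of_dvd hd)
  have hq5 : 5 ≤ q := by
    by_contra h
    interval_cases q
    all_goals first | omega | exact absurd hq (by norm_num)
  have h4 : 4 * (p - 1) ≤ (p - 1) * (q - 1) := by
    rw [mul_comm 4]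
    exact Nat.mul_le_mul le_rfl (by omega)
  omega

/-- One direction. -/
lemma exists_order_of_iso (e : G ≃ H) (he : ∀ x y, PAdj x y ↔ PAdj (e x) (e y)) {p q : ℕ}
    (hp : p.Prime) (hq : q.Prime) (hpq : p ≠ q) (hg : ∃ g : G, orderOf g = p * q) :
    ∃ h : H, orderOf h = p * q := by
  classical
  letI := Fintype.ofFinite G
  wlog hlt : p < q generalizing p q with hw
  · obtain ⟨h, hh⟩ := hw hq hp hpq.symm (hg.imp fun g h => h.trans (mul_comm p q)) (by omega)
    exact ⟨h, hh.trans (mul_comm q p)⟩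
  obtain ⟨g0, hg0⟩ := hg
  obtain ⟨g, hg, hmax⟩ := (Finset.univ.filter fun g => g0 ∈ Subgroup.zpowers g).exists_max_image orderOf
    ⟨g0, Finset.mem_filter.2 ⟨Finset.mem_univ _, Subgroup.mem_zpowers g0⟩⟩
  simp only [Finset.mem_filter, Finset.mem_univ, true_and] at hg hmax
  have hd : p * q ∣ orderOf g := hg0 ▸ orderOf_dvd_of_mem_zpowers hg
  have hgmax : ∀ t, PAdj t g ↔ t ∈ Subgroup.zpowers g :=
    fun t => ⟨fun h => h.elim id fun h' => zp_symm_of_order_le h' (hmax t (zp_trans hg h')), Or.inl⟩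
  have hN : ∀ t, PAdj (e t) (e g) ↔ t ∈ Subgroup.zpowers g := fun t => (he t g).symm.trans (hgmax t)
  have hg1 : g ≠ 1 := fun h => by
    rw [h, orderOf_one, Nat.dvd_one, mul_eq_one] at hd
    exact hp.ne_one hd.1
  have hnuniv : ∀ x, x ∈ Subgroup.zpowers g → (∀ y ∈ Subgroup.zpowers g, PAdj x y) → ¬ NU g x := fun x _ hall hx => by
    obtain ⟨y, hy, hxy, -⟩ := hx.not_universal hp hq hpq hd
    exact hxy (hall y hy.1)
  suffices hw : ∃ w : H, orderOf w = orderOf g by
    obtain ⟨w, hw⟩ := hw
    rw [← hw] at hd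
    exact ⟨w ^ (orderOf w / (p * q)), orderOf_pow_orderOf_div (orderOf_pos w).ne' hd⟩
  by_cases hguniv : ∀ t, t ∈ Subgroup.zpowers g
  · obtain ⟨v, hv, hv1⟩ : ∃ v : H, (∀ t, PAdj (e t) v) ∧ v ≠ 1 := by
      rcases eq_or_ne (e g) 1 with h | h
      · refine ⟨e 1, fun t => (he t 1).1 (padj_comm (padj_one t)), fun h1 => hg1 ?_⟩
        exact e.injective (h.trans h1.symm)
      · exact ⟨e g, fun t => (hN t).2 (hguniv t), h⟩
    have hvU : ¬ NU g (e.symm v) := hnuniv _ (hguniv _) fun y _ => by
      rw [he, e.apply_symm_apply]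
      exact padj_comm (hv y)
    obtain ⟨w, hw⟩ := exists_top e he hp hq hlt hd hv1 (fun t => iff_of_true (hv t) (hguniv t)) hvU
    refine ⟨w, ?_⟩
    have h1 : Subgroup.zpowers w = ⊤ := eq_top_iff.2 fun h _ => by
      have := (hw (e.symm h) (hguniv _)).1
      rwa [e.apply_symm_apply] at this
    have h2 : Subgroup.zpowers g = ⊤ := eq_top_iff.2 fun t _ => hguniv t
    rw [← Nat.card_zpowers, ← Nat.card_zpowers g, h1, h2, Subgroup.card_top, Subgroup.card_top]
    exact (Nat.card_congr e).symm
  · push Not at hguniv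
    obtain ⟨t0, ht0⟩ := hguniv
    -- the identity is the only universal vertex
    have huniq : ∀ x : G, (∀ y, PAdj x y) → x = 1 := by
      intro x hx
      by_contra hx1
      have hxC := (hgmax x).1 (hx g)
      have hgx : g ∈ Subgroup.zpowers x := by
        by_contra h
        exact hnuniv x hxC (fun y _ => hx y) ⟨hxC, hx1, h⟩
      apply ht0
      refine (hgmax t0).1 ((padj_comm (hx t0)).elim (fun h => Or.inl (zp_trans h hxC)) fun h => ?_)
      exact Or.inr (zp_trans hgx h)
    have he1 : e.symm 1 = 1 := huniq _ fun y => by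
      rw [he, e.apply_symm_apply]
      exact padj_one _
    have hv1 : e g ≠ 1 := fun h => hg1 (by rw [← e.symm_apply_apply g, h, he1])
    have hvU : ¬ NU g (e.symm (e g)) := by
      rw [e.symm_apply_apply]
      exact fun hx => hx.2.2 (Subgroup.mem_zpowers g)
    obtain ⟨w, hw⟩ := exists_top e he hp hq hlt hd hv1 hN hvU
    refine ⟨w, ?_⟩
    -- `w` is a twin of `e g`
    have hwC : e.symm w ∈ Subgroup.zpowers g := by
      rw [← hN, e.apply_symm_apply]
      exact (hw g (Subgroup.mem_zpowers g)).2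
    set x := e.symm w with hx
    have hxall : ∀ y ∈ Subgroup.zpowers g, PAdj x y := fun y hy => by
      rw [he, hx, e.apply_symm_apply]
      exact Or.inr (hw y hy).1
    have hx1 : x ≠ 1 := fun h => hv1 (by
      have h1 : w = 1 := by rw [← e.apply_symm_apply w, ← hx, h, ← he1, e.apply_symm_apply]
      have := (hw g (Subgroup.mem_zpowers g)).1
      rwa [h1, Subgroup.zpowers_one_eq_bot, Subgroup.mem_bot] at this)
    have hgx : g ∈ Subgroup.zpowers x := by
      by_contra h
      exact hnuniv x hwC hxall ⟨hwC, hx1, h⟩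
    have hinv : ∀ h : H, h ∈ Subgroup.zpowers w → e.symm h ∈ Subgroup.zpowers g := fun h hh => by
      have h1 : PAdj (e.symm h) x := by rw [he, hx, e.apply_symm_apply, e.apply_symm_apply]; exact Or.inl hh
      rcases h1 with h1 | h1
      · exact zp_trans h1 hwC
      · exact zp_symm_of_order_le (zp_trans hgx h1) (hmax _ (zp_trans hg (zp_trans hgx h1)))
    rw [← Nat.card_zpowers, ← Nat.card_zpowers g]
    exact Nat.card_congr
      { toFun := fun h => ⟨e.symm (h : H), hinv _ h.2⟩
        invFun := fun t => ⟨e (t : G), (hw _ t.2).1⟩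
        left_inv := fun h => Subtype.ext (e.apply_symm_apply _)
        right_inv := fun t => Subtype.ext (e.symm_apply_apply _) }

end

/-- Let G and H be finite groups whose power graphs are isomorphic: there is a bijection e : G → H such that, for all x, y, one of x, y is a power of the other exactly when one of e(x), e(y) is a power of the other. Then G and H have the same prime graph: for distinct primes p, q, G has an element of order pq if and only if H does. -/
theorem result {G H : Type*} [Group G] [Finite G] [Group H] [Finite H] (e : G ≃ H)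
    (he : ∀ x y : G, (x ∈ Subgroup.zpowers y ∨ y ∈ Subgroup.zpowers x) ↔
      (e x ∈ Subgroup.zpowers (e y) ∨ e y ∈ Subgroup.zpowers (e x)))
    {p q : ℕ} (hp : p.Prime) (hq : q.Prime) (hpq : p ≠ q) :
    (∃ g : G, orderOf g = p * q) ↔ (∃ h : H, orderOf h = p * q) := by
  refine ⟨exists_order_of_iso e he hp hq hpq, exists_order_of_iso e.symm (fun x y => ?_) hp hq hpq⟩
  have := he (e.symm x) (e.symm y)
  rw [e.apply_symm_apply, e.apply_symm_apply] at this
  exact this.symm

end Cfsg.Agent.S4085
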