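import Cfsg.Statements.S4086
import Mathlib

set_option autoImplicit false
open Cfsg

namespace Cfsg.Agent.S4086

/-- For a finite group G the following are equivalent: every non-identity element has prime-power order; whenever two elements generate a cyclic subgroup, one of them is a power of the other (the enhanced power graph of G coincides with its power graph). -/
theorem result {G : Type*} [Group G] [Finite G] :
    (∀ g : G, g ≠ 1 → IsPrimePow (orderOf g)) ↔
    (∀ x y : G, IsCyclic ↥(Subgroup.closure ({x, y} : Set G)) → (x ∈ Subgroup.zpowers y ∨ y ∈ Subgroup.zpowers x)) := by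
  constructor
  · intro h x y hcyc
    obtain ⟨c, hc⟩ := (Subgroup.isCyclic_iff_exists_zpowers_eq_top _).mp hcyc
    have hx : x ∈ Subgroup.zpowers c := hc ▸ Subgroup.subset_closure (by simp)
    have hy : y ∈ Subgroup.zpowers c := hc ▸ Subgroup.subset_closure (by simp)
    rcases eq_or_ne c 1 with rfl | hc1
    · have : x = 1 := by simpa using hx
      exact Or.inl (this ▸ one_mem _)
    obtain ⟨p, k, hp, -, hpk⟩ := (isPrimePow_nat_iff _).1 (h c hc1)
    have key : ∀ a b : G, a ∈ Subgroup.zpowers c → b ∈ Subgroup.zpowers c →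
        orderOf a ∣ orderOf b → a ∈ Subgroup.zpowers b := by
      intro a b ha hb hdvd
      have hb' : Subgroup.zpowers b ≤ Subgroup.zpowers c := Subgroup.zpowers_le.2 hb
      haveI : IsCyclic (Subgroup.zpowers c) := Subgroup.isCyclic_zpowers c
      classical
      letI := Fintype.ofFinite G
      set b' : Subgroup.zpowers c := ⟨b, hb⟩
      set a' : Subgroup.zpowers c := ⟨a, ha⟩
      have hob : orderOf b' = orderOf b := Subgroup.orderOf_mk b hb
      have hS : (Subgroup.zpowers b' : Set (Subgroup.zpowers c)).toFinset =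
          Finset.univ.filter (fun z => z ^ orderOf b = 1) := by
        apply Finset.eq_of_subset_of_card_le
        · intro z hz
          rw [Set.mem_toFinset, SetLike.mem_coe] at hz
          obtain ⟨j, rfl⟩ := hz
          refine Finset.mem_filter.2 ⟨Finset.mem_univ _, ?_⟩
          change (b' ^ j) ^ orderOf b = 1
          rw [← hob, ← zpow_natCast, ← zpow_mul, mul_comm, zpow_mul, zpow_natCast, pow_orderOf_eq_one,
            one_zpow]
        · refine (IsCyclic.card_pow_eq_one_le (orderOf_pos b)).trans ?_
          rw [Set.toFinset_card, ← Nat.card_eq_fintype_card]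
          change _ ≤ Nat.card (Subgroup.zpowers b')
          rw [Nat.card_zpowers, hob]
      have hmem : a' ∈ (Subgroup.zpowers b' : Set (Subgroup.zpowers c)).toFinset := by
        rw [hS]
        exact Finset.mem_filter.2 ⟨Finset.mem_univ _, Subtype.ext (by simpa [a'] using orderOf_dvd_iff_pow_eq_one.1 hdvd)⟩
      have this : a' ∈ Subgroup.zpowers b' := Set.mem_toFinset.1 hmem
      obtain ⟨j, hj⟩ := this
      exact ⟨j, by simpa [a', b'] using congrArg Subtype.val hj⟩
    have hxd : orderOf x ∣ p ^ k := hpk ▸ orderOf_dvd_of_mem_zpowers hx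
    have hyd : orderOf y ∣ p ^ k := hpk ▸ orderOf_dvd_of_mem_zpowers hy
    obtain ⟨i, -, hi⟩ := (Nat.dvd_prime_pow hp).1 hxd
    obtain ⟨j, -, hj⟩ := (Nat.dvd_prime_pow hp).1 hyd
    rcases le_total i j with hij | hij
    · exact Or.inl (key x y hx hy (hi ▸ hj ▸ pow_dvd_pow p hij))
    · exact Or.inr (key y x hy hx (hi ▸ hj ▸ pow_dvd_pow p hij))
  · intro h g hg
    have hn : orderOf g ≠ 1 := fun h1 => hg (orderOf_eq_one_iff.1 h1)
    by_contra hpp
    obtain ⟨p, q, hp, hq, hpq, hpd, hqd⟩ : ∃ p q : ℕ, p.Prime ∧ q.Prime ∧ p ≠ q ∧ p ∣ orderOf g ∧ q ∣ orderOf g := by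
      have hpos : orderOf g ≠ 0 := (orderOf_pos g).ne'
      rw [isPrimePow_iff_card_primeFactors_eq_one] at hpp
      have h0 : (orderOf g).primeFactors.Nonempty := Nat.nonempty_primeFactors.2 (by omega)
      have h2 : 1 < (orderOf g).primeFactors.card := by
        have := h0.card_pos
        omega
      obtain ⟨p, hp, q, hq, hpq⟩ := Finset.one_lt_card.1 h2
      simp only [Nat.mem_primeFactors] at hp hq
      exact ⟨p, q, hp.1, hq.1, hpq, hp.2.1, hq.2.1⟩
    have ex : orderOf (g ^ (orderOf g / p)) = p := orderOf_pow_orderOf_div (orderOf_pos g).ne' hpd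
    have ey : orderOf (g ^ (orderOf g / q)) = q := orderOf_pow_orderOf_div (orderOf_pos g).ne' hqd
    have hsub : Subgroup.closure ({g ^ (orderOf g / p), g ^ (orderOf g / q)} : Set G) ≤ Subgroup.zpowers g := by
      rw [Subgroup.closure_le]
      rintro z (rfl | rfl) <;> exact Subgroup.pow_mem _ (Subgroup.mem_zpowers g) _
    have hcyc := Subgroup.isCyclic_of_le hsub
    rcases h _ _ hcyc with h1 | h1
    · have := orderOf_dvd_of_mem_zpowers h1
      rw [ex, ey] at this
      exact hpq ((Nat.prime_dvd_prime_iff_eq hp hq).1 this)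
    · have := orderOf_dvd_of_mem_zpowers h1
      rw [ex, ey] at this
      exact hpq ((Nat.prime_dvd_prime_iff_eq hq hp).1 this).symm

end Cfsg.Agent.S4086
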