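import Cfsg.Statements.S4087
import Cfsg.Agent.Lib.CIT.EPPO
import Cfsg.Agent.Lib.CIT.Steps
import Cfsg.Agent.Lib.CIT.NoOdd

set_option autoImplicit false
open Cfsg

namespace Cfsg.Agent.S4087

/-- Let G be a finite group in which every non-identity element has prime-power order (its prime graph has no edges). Then the order of G has at most four distinct prime divisors; and if it has exactly four, then either G is isomorphic to PSL(3,4), or G has a normal 2-subgroup N with G/N isomorphic to the Suzuki group over the field with 8 or with 32 elements. -/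
theorem result {G : Type*} [Group G] [Finite G] (h : ∀ g : G, g ≠ 1 → IsPrimePow (orderOf g)) :
    (Nat.card G).primeFactors.card ≤ 4 ∧
    ((Nat.card G).primeFactors.card = 4 →
      (∃ (F : Type) (_ : Field F) (_ : Fintype F), Fintype.card F = 4 ∧
        Nonempty (G ≃* Matrix.ProjectiveSpecialLinearGroup (Fin 3) F)) ∨
      (∃ (N : Subgroup G) (_ : N.Normal), IsPGroup 2 ↥N ∧
        ∃ (F : Type) (_ : Field F) (_ : Fintype F),
          (Fintype.card F = 8 ∧ Nonempty (G ⧸ N ≃* ↥(Cfsg.Lie.Sz F 4))) ∨
          (Fintype.card F = 32 ∧ Nonempty (G ⧸ N ≃* ↥(Cfsg.Lie.Sz F 8))))) := by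
  exact CfsgLib.CIT.primePow_primeFactors CfsgLib.CIT.kleinStep CfsgLib.CIT.countStep
    CfsgLib.CIT.EPPO.powerList
    (fun _ _ _ hc hQ hF => CfsgLib.CIT.quotient_not_odd hc hQ (Or.inr (Or.inr hF))) h

end Cfsg.Agent.S4087
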