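import Cfsg.Statements.S4088
import Cfsg.Agent.Lib.Structure80.Subnormalizer

set_option autoImplicit false
open Cfsg

namespace Cfsg.Agent.S4088

/-- The conjugates of `H` correspond to the cosets of its normalizer. -/
lemma card_conjugates {G : Type*} [Group G] [Finite G] (H : Subgroup G) :
    Nat.card {K : Subgroup G // ∃ g : G, K = H.map (MulAut.conj g).toMonoidHom} *
      Nat.card (Subgroup.normalizer (H : Set G)) = Nat.card G := by
  rw [mul_comm, ← Subgroup.card_mul_index (Subgroup.normalizer (H : Set G))]
  congr 1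
  have key : ∀ a b : G, H.map (MulAut.conj a).toMonoidHom = H.map (MulAut.conj b).toMonoidHom ↔
      a⁻¹ * b ∈ Subgroup.normalizer (H : Set G) := by
    intro a b
    rw [Subgroup.mem_normalizer_iff_map_conj_eq]
    have e : H.map (MulAut.conj (a⁻¹ * b)).toMonoidHom =
        (H.map (MulAut.conj b).toMonoidHom).map (MulAut.conj a⁻¹).toMonoidHom := by
      rw [Subgroup.map_map]
      congr 1
      ext x
      simp [mul_assoc]
    have e' : ∀ K : Subgroup G, (K.map (MulAut.conj a⁻¹).toMonoidHom).map (MulAut.conj a).toMonoidHom = K := by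
      intro K
      rw [Subgroup.map_map]
      convert Subgroup.map_id K using 2
      ext x
      simp [mul_assoc]
    change _ ↔ H.map (MulAut.conj (a⁻¹ * b)).toMonoidHom = H
    rw [e]
    constructor
    · intro h
      rw [← h, Subgroup.map_map]
      convert Subgroup.map_id H using 2
      ext x
      simp [mul_assoc]
    · intro h
      conv_lhs => rw [← h]
      exact e' _
  refine (Nat.card_congr (Equiv.ofBijective
    (fun c : G ⧸ Subgroup.normalizer (H : Set G) => (⟨H.map (MulAut.conj c.out).toMonoidHom, c.out, rfl⟩ :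
      {K : Subgroup G // ∃ g : G, K = H.map (MulAut.conj g).toMonoidHom})) ⟨?_, ?_⟩)).symm
  · intro c c' h
    rw [← c.out_eq', ← c'.out_eq', QuotientGroup.eq]
    exact (key _ _).1 (congrArg Subtype.val h)
  · rintro ⟨K, g, rfl⟩
    refine ⟨(g : G ⧸ Subgroup.normalizer (H : Set G)), Subtype.ext ((key _ _).2 ?_)⟩
    rw [← QuotientGroup.eq]
    exact QuotientGroup.out_eq' _

/-- Let G be a finite group, p a prime dividing the order of G, H a p-subgroup of G and P a Sylow p-subgroup of G. Call the subnormalizer of H the set of elements g of G such that H is subnormal in the subgroup generated by H and g. Then the number of elements of the subnormalizer of H equals the number of Sylow p-subgroups of G containing H times the order of N_G(P), and also equals the number of conjugates of H contained in P times the order of N_G(H). -/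
theorem result {G : Type*} [Group G] [Finite G] (p : ℕ) [Fact p.Prime]
    (hp : p ∣ Nat.card G) (H : Subgroup G) (hH : IsPGroup p H) (P : Sylow p G) :
    Nat.card {g : G // ((H).subgroupOf (H ⊔ Subgroup.zpowers g)).IsSubnormal} =
        Nat.card {Q : Sylow p G // H ≤ (Q : Subgroup G)} * Nat.card (Subgroup.normalizer ((P : Subgroup G) : Set G)) ∧
    Nat.card {g : G // ((H).subgroupOf (H ⊔ Subgroup.zpowers g)).IsSubnormal} =
        Nat.card {K : Subgroup G // K ≤ (P : Subgroup G) ∧ ∃ g : G, K = H.map (MulAut.conj g).toMonoidHom} *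
          Nat.card (Subgroup.normalizer (H : Set G)) := by
  have h1 := CfsgLib.Structure80.card_subnormalizer hH P
  refine ⟨h1, h1.trans ?_⟩
  have _ := hp
  classical
  set T := {K : Subgroup G // ∃ g : G, K = H.map (MulAut.conj g).toMonoidHom}
  have hsmul : ∀ (a g : G) (K : Subgroup G), K = H.map (MulAut.conj g).toMonoidHom →
      K.map (MulAut.conj a).toMonoidHom = H.map (MulAut.conj (a * g)).toMonoidHom := by
    intro a g K hK
    rw [hK, Subgroup.map_map]
    congr 1
    ext x
    simp [mul_assoc]
  have hmem : ∀ (a : G) (K : Subgroup G) (Q : Sylow p G),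
      K ≤ (Q : Subgroup G) ↔ K.map (MulAut.conj a).toMonoidHom ≤ ((a • Q : Sylow p G) : Subgroup G) := by
    intro a K Q
    rw [Sylow.coe_subgroup_smul]
    change _ ↔ _ ≤ (Q : Subgroup G).map (MulAut.conj a).toMonoidHom
    rw [Subgroup.map_le_map_iff_of_injective (f := (MulAut.conj a).toMonoidHom) (MulAut.conj a).injective]
  letI := Fintype.ofFinite T
  letI := Fintype.ofFinite (Sylow p G)
  have hA : ∀ K : T, Nat.card {Q : Sylow p G // K.1 ≤ (Q : Subgroup G)} =
      Nat.card {Q : Sylow p G // H ≤ (Q : Subgroup G)} := by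
    rintro ⟨K, g, rfl⟩
    refine (Nat.card_congr ((MulAction.toPerm g).subtypeEquiv fun Q => ?_)).symm
    exact hmem g H Q
  have hB : ∀ Q : Sylow p G, Nat.card {K : T // K.1 ≤ (Q : Subgroup G)} =
      Nat.card {K : Subgroup G // K ≤ (P : Subgroup G) ∧ ∃ g : G, K = H.map (MulAut.conj g).toMonoidHom} := by
    intro Q
    obtain ⟨a, rfl⟩ := MulAction.exists_smul_eq G P Q
    refine (Nat.card_congr ?_).symm
    refine
      { toFun := fun K => ⟨⟨K.1.map (MulAut.conj a).toMonoidHom, a * K.2.2.choose,
          hsmul a _ _ K.2.2.choose_spec⟩, (hmem a K.1 P).1 K.2.1⟩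
        invFun := fun K => ⟨K.1.1.map (MulAut.conj a⁻¹).toMonoidHom, by
          have := (hmem a⁻¹ K.1.1 (a • P)).1 K.2
          rwa [inv_smul_smul] at this, a⁻¹ * K.1.2.choose, hsmul _ _ _ K.1.2.choose_spec⟩
        left_inv := fun K => ?_
        right_inv := fun K => ?_ }
    · refine Subtype.ext ?_
      simp only [Subgroup.map_map]
      convert Subgroup.map_id K.1 using 2
      ext x
      simp [mul_assoc]
    · refine Subtype.ext (Subtype.ext ?_)
      simp only [Subgroup.map_map]
      convert Subgroup.map_id K.1.1 using 2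
      ext x
      simp [mul_assoc]
  have hcount : Nat.card T * Nat.card {Q : Sylow p G // H ≤ (Q : Subgroup G)} = Nat.card (Sylow p G) *
      Nat.card {K : Subgroup G // K ≤ (P : Subgroup G) ∧ ∃ g : G, K = H.map (MulAut.conj g).toMonoidHom} := by
    have e : Nat.card (Σ K : T, {Q : Sylow p G // K.1 ≤ (Q : Subgroup G)}) =
        Nat.card (Σ Q : Sylow p G, {K : T // K.1 ≤ (Q : Subgroup G)}) :=
      Nat.card_congr ⟨fun x => ⟨x.2.1, x.1, x.2.2⟩, fun x => ⟨x.2.1, x.1, x.2.2⟩, fun _ => rfl, fun _ => rfl⟩
    rw [Nat.card_sigma, Nat.card_sigma, Finset.sum_congr rfl (fun K _ => hA K),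
      Finset.sum_congr rfl (fun Q _ => hB Q), Finset.sum_const, Finset.sum_const, Finset.card_univ,
      Finset.card_univ, smul_eq_mul, smul_eq_mul, ← Nat.card_eq_fintype_card, ← Nat.card_eq_fintype_card] at e
    exact e
  have hnp : Nat.card (Sylow p G) * Nat.card (Subgroup.normalizer ((P : Subgroup G) : Set G)) = Nat.card G := by
    rw [P.card_eq_index_normalizer, mul_comm]
    exact Subgroup.card_mul_index _
  have hT := card_conjugates H
  apply Nat.eq_of_mul_eq_mul_left (Nat.card_pos (α := G))
  calc Nat.card G * (Nat.card {Q : Sylow p G // H ≤ (Q : Subgroup G)} *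
        Nat.card (Subgroup.normalizer ((P : Subgroup G) : Set G)))
      = (Nat.card T * Nat.card {Q : Sylow p G // H ≤ (Q : Subgroup G)}) *
        Nat.card (Subgroup.normalizer ((P : Subgroup G) : Set G)) *
        Nat.card (Subgroup.normalizer (H : Set G)) := by rw [← hT]; ring
    _ = (Nat.card (Sylow p G) * Nat.card (Subgroup.normalizer ((P : Subgroup G) : Set G))) *
        (Nat.card {K : Subgroup G // K ≤ (P : Subgroup G) ∧ ∃ g : G, K = H.map (MulAut.conj g).toMonoidHom} *
        Nat.card (Subgroup.normalizer (H : Set G))) := by rw [hcount]; ring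
    _ = _ := by rw [hnp]

end Cfsg.Agent.S4088
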