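import Cfsg.Statements.S4089
import Cfsg.Agent.Lib.Structure80.Subnormalizer
import Cfsg.Agent.Lib.Structure80.Basic

set_option autoImplicit false
open Cfsg

namespace Cfsg.Agent.S4089

open CfsgLib.Structure80 in
/-- A radical subgroup over `H` contains the intersection of the Sylow subgroups over `H`. -/
lemma sInf_le_radical {G : Type*} [Group G] [Finite G] {p : ℕ} [Fact p.Prime] {H R : Subgroup G}
    (hHR : H ≤ R) (hR : (Cfsg.pCore p (Subgroup.normalizer (R : Set G))).map (Subgroup.normalizer (R : Set G)).subtype = R) :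
    sInf {K : Subgroup G | ∃ Q : Sylow p G, H ≤ (Q : Subgroup G) ∧ K = (Q : Subgroup G)} ≤ R := by
  set N := Subgroup.normalizer (R : Set G) with hN
  have hRp : IsPGroup p R := hR ▸ (CfsgLib.Fitting.pCore_isPGroup p).map _
  set J := sInf {K : Subgroup G | ∃ Q : Sylow p G, R ≤ (Q : Subgroup G) ∧ K = (Q : Subgroup G)} with hJ
  refine le_trans (sInf_le_sInf ?_) (b := J) ?_
  · rintro K ⟨Q, hQ, rfl⟩
    exact ⟨Q, hHR.trans hQ, rfl⟩
  have hRJ : R ≤ J := le_sInf (by rintro K ⟨Q, hQ, rfl⟩; exact hQ)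
  obtain ⟨Q0, hQ0⟩ := hRp.exists_le_sylow
  have hJp : IsPGroup p J := Q0.isPGroup'.to_le (sInf_le ⟨Q0, hQ0, rfl⟩)
  have hJN : J ⊓ N ≤ R := by
    have hle : (J ⊓ N).subgroupOf N ≤ (⨅ S : Sylow p N, (S : Subgroup N)) := by
      refine le_iInf fun S => ?_
      obtain ⟨Q, hQ⟩ := (S.isPGroup'.map N.subtype).exists_le_sylow
      have hSR : R.subgroupOf N ≤ (S : Subgroup N) := by
        haveI : (Subgroup.comap N.subtype R).Normal := Subgroup.normal_in_normalizer
        exact (hRp.comap_of_injective N.subtype N.subtype_injective).le_sylow_of_normal S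
      have hRQ : R ≤ (Q : Subgroup G) := fun x hx => hQ ⟨⟨x, Subgroup.le_normalizer hx⟩, hSR hx, rfl⟩
      have hS := S.3 (Q.isPGroup'.comap_of_injective N.subtype N.subtype_injective) (Subgroup.map_le_iff_le_comap.1 hQ)
      intro x hx
      exact hS ▸ (sInf_le (show (Q : Subgroup G) ∈ {K : Subgroup G | ∃ Q : Sylow p G, R ≤ (Q : Subgroup G) ∧ K = (Q : Subgroup G)} from ⟨Q, hRQ, rfl⟩) hx.1)
    have hcore : (⨅ S : Sylow p N, (S : Subgroup N)) ≤ Cfsg.pCore p N := by
      obtain ⟨S0⟩ := (inferInstance : Nonempty (Sylow p N))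
      refine CfsgLib.Fitting.le_pCore ⟨fun x hx g => ?_⟩ (S0.isPGroup'.to_le (iInf_le _ S0))
      rw [Subgroup.mem_iInf] at hx ⊢
      intro S
      have h1 := hx (g⁻¹ • S)
      rw [mem_smul_sylow] at h1
      simpa [mul_assoc] using h1
    intro x hx
    rw [← hR]
    exact ⟨⟨x, hx.2⟩, hcore (hle (show (⟨x, hx.2⟩ : N) ∈ (J ⊓ N).subgroupOf N from hx)), rfl⟩
  by_contra hne
  have hlt : R < J := lt_of_le_of_ne hRJ fun h => hne h.ge
  exact (CfsgLib.Isolated.lt_inf_normalizer hJp hlt).not_ge hJN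

/-- Let G be a finite group, p a prime and H a p-subgroup of G. Then the set of elements g of G such that H is subnormal in the subgroup generated by H and g is the union of the normalizers N_G(R) over the subgroups R of G containing H with R = O_p(N_G(R)); and this set does not change when H is replaced by the intersection of all Sylow p-subgroups of G containing H. -/
theorem result {G : Type*} [Group G] [Finite G] (p : ℕ) [Fact p.Prime]
    (H : Subgroup G) (hH : IsPGroup p H) :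
    {g : G | ((H).subgroupOf (H ⊔ Subgroup.zpowers g)).IsSubnormal} =
      {g : G | ∃ R : Subgroup G, H ≤ R ∧ (Cfsg.pCore p (Subgroup.normalizer (R : Set G))).map (Subgroup.normalizer (R : Set G)).subtype = R ∧ g ∈ Subgroup.normalizer (R : Set G)} ∧
    ∀ g : G, (((H).subgroupOf (H ⊔ Subgroup.zpowers g)).IsSubnormal ↔
      (((sInf {K : Subgroup G | ∃ Q : Sylow p G, H ≤ (Q : Subgroup G) ∧ K = (Q : Subgroup G)})).subgroupOf ((sInf {K : Subgroup G | ∃ Q : Sylow p G, H ≤ (Q : Subgroup G) ∧ K = (Q : Subgroup G)}) ⊔ Subgroup.zpowers g)).IsSubnormal) := by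
  have hfst : ∀ g : G, ((H).subgroupOf (H ⊔ Subgroup.zpowers g)).IsSubnormal ↔
      ∃ R : Subgroup G, H ≤ R ∧ (Cfsg.pCore p (Subgroup.normalizer (R : Set G))).map (Subgroup.normalizer (R : Set G)).subtype = R ∧ g ∈ Subgroup.normalizer (R : Set G) := by
    intro g
    rw [CfsgLib.Structure80.isSubnormal_sup_zpowers_iff hH]
    constructor
    · rintro ⟨R, hR, hHR⟩
      exact CfsgLib.Structure80.exists_radical hR hHR
    · rintro ⟨R, hHR, hR, hg⟩
      exact ⟨R, ⟨hR ▸ (CfsgLib.Fitting.pCore_isPGroup p).map _, le_top, hg⟩, hHR⟩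
  refine ⟨Set.ext hfst, fun g => ?_⟩
  set I := sInf {K : Subgroup G | ∃ Q : Sylow p G, H ≤ (Q : Subgroup G) ∧ K = (Q : Subgroup G)}
  have hHI : H ≤ I := le_sInf (by rintro K ⟨Q, hQ, rfl⟩; exact hQ)
  obtain ⟨Q0, hQ0⟩ := hH.exists_le_sylow
  have hIp : IsPGroup p I := Q0.isPGroup'.to_le (sInf_le ⟨Q0, hQ0, rfl⟩)
  rw [hfst g, CfsgLib.Structure80.isSubnormal_sup_zpowers_iff hIp]
  constructor
  · rintro ⟨R, hHR, hR, hg⟩
    exact ⟨R, ⟨hR ▸ (CfsgLib.Fitting.pCore_isPGroup p).map _, le_top, hg⟩, sInf_le_radical hHR hR⟩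
  · rintro ⟨R, hR, hIR⟩
    exact CfsgLib.Structure80.exists_radical hR (hHI.trans hIR)

end Cfsg.Agent.S4089
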