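import Cfsg.Statements.S4090
import Cfsg.Agent.Lib.Structure80.SylowChain

set_option autoImplicit false
open scoped BigOperators
open Cfsg

namespace Cfsg.Agent.S4090

/-- Let G be a finite p-solvable group, H a p-subgroup of G and P a Sylow p-subgroup, and fix a chain of normal subgroups 1 = M₀ ≤ M₁ ≤ ⋯ ≤ Mₙ = G of G each of whose factors is a p-group or a p'-group. Then the number of elements g of G such that H is subnormal in the subgroup generated by H and g equals the order of P times the product, over the factors Mᵢ₊₁/Mᵢ of order prime to p, of the order of the centralizer of H in Mᵢ₊₁/Mᵢ (counted as the number of u ∈ Mᵢ₊₁ with [h, u] ∈ Mᵢ for all h ∈ H, divided by the order of Mᵢ). -/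
theorem result {G : Type*} [Group G] [Finite G] (p : ℕ) [Fact p.Prime]
    (hG : Cfsg.IsPSolvable p G) (H : Subgroup G) (hH : IsPGroup p H) (P : Sylow p G)
    (n : ℕ) (M : Fin (n + 1) → Subgroup G) (h0 : M 0 = ⊥) (hn : M (Fin.last n) = ⊤) (hmono : Monotone M)
    (hnormal : ∀ i, (M i).Normal)
    (hfac : ∀ i : Fin n, (∃ m : ℕ, (M i.castSucc).relIndex (M i.succ) = p ^ m) ∨ ((M i.castSucc).relIndex (M i.succ)).Coprime p) :
    Nat.card {g : G // ((H).subgroupOf (H ⊔ Subgroup.zpowers g)).IsSubnormal} =
      Nat.card (P : Subgroup G) *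
        ∏ i : Fin n, (if ((M i.castSucc).relIndex (M i.succ)).Coprime p then
          Nat.card {u : G // u ∈ M i.succ ∧ ∀ h ∈ H, h * u * h⁻¹ * u⁻¹ ∈ M i.castSucc} / Nat.card (M i.castSucc)
          else 1) := by
  classical
  set c : Fin n → ℕ := fun i => if ((M i.castSucc).relIndex (M i.succ)).Coprime p then
    Nat.card {u : G // u ∈ M i.succ ∧ ∀ h ∈ H, h * u * h⁻¹ * u⁻¹ ∈ M i.castSucc} / Nat.card (M i.castSucc)
    else 1 with hc
  have key : ∀ i : Fin (n + 1), CfsgLib.Structure80.overCount H P (M i) =
      Nat.card ↥(M i ⊔ (P : Subgroup G)) *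
        ∏ j ∈ Finset.univ.filter (fun j : Fin n => i ≤ j.castSucc), c j := by
    intro i
    induction i using Fin.reverseInduction with
    | last =>
      have htop : M (Fin.last n) ⊔ (P : Subgroup G) = ⊤ := by rw [hn, top_sup_eq]
      rw [CfsgLib.Structure80.overCount, htop, Finset.filter_false_of_mem, Finset.prod_empty, mul_one]
      · have h1 : Nat.card {X : Subgroup G // (∃ g : G, X = CfsgLib.Structure80.conjSub g ⊤) ∧ H ≤ X} = 1 := by
          rw [Nat.card_eq_one_iff_exists]
          refine ⟨⟨⊤, ⟨1, (CfsgLib.Structure80.conjSub_one ⊤).symm⟩, le_top⟩, ?_⟩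
          rintro ⟨X, ⟨g, rfl⟩, -⟩
          exact Subtype.ext (CfsgLib.Structure80.conjSub_normal g)
        rw [h1, one_mul, Subgroup.normalizer_eq_top]
      · intro j _ hle
        exact absurd hle (not_le.2 j.castSucc_lt_last)
    | cast i ih =>
      haveI := hnormal i.castSucc
      haveI := hnormal i.succ
      have hLM : M i.castSucc ≤ M i.succ := hmono i.castSucc_lt_succ.le
      have hfilter : Finset.univ.filter (fun j : Fin n => i.castSucc ≤ j.castSucc) =
          insert i (Finset.univ.filter (fun j : Fin n => i.succ ≤ j.castSucc)) := by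
        ext j
        simp only [Finset.mem_filter, Finset.mem_univ, true_and, Finset.mem_insert, Fin.le_def,
          Fin.val_castSucc, Fin.val_succ, Fin.ext_iff]
        omega
      have hni : i ∉ Finset.univ.filter (fun j : Fin n => i.succ ≤ j.castSucc) := by
        simp [Fin.le_def]
      rw [hfilter, Finset.prod_insert hni]
      by_cases hcop : ((M i.castSucc).relIndex (M i.succ)).Coprime p
      · have h1 := CfsgLib.Structure80.overCount_of_coprime H P hH hLM hcop
        have hci : c i * Nat.card (M i.castSucc) =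
            Nat.card (CfsgLib.Structure80.centMod H (M i.castSucc) (M i.succ)) := by
          simp only [hc, if_pos hcop, ← CfsgLib.Structure80.card_centMod]
          refine Nat.div_mul_cancel (Subgroup.card_dvd_of_le fun x hx => ?_)
          refine CfsgLib.Structure80.mem_centMod.2 ⟨hLM hx, fun h _ => ?_⟩
          exact (M i.castSucc).mul_mem ((hnormal i.castSucc).conj_mem x hx h) (inv_mem hx)
        have e1 := CfsgLib.Structure80.card_sup_mul_card_inf (M i.succ) (M i.castSucc ⊔ (P : Subgroup G))
        have hMX : M i.succ ⊔ (M i.castSucc ⊔ (P : Subgroup G)) = M i.succ ⊔ (P : Subgroup G) := by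
          rw [← sup_assoc, sup_eq_left.2 hLM]
        have hinf : M i.succ ⊓ (M i.castSucc ⊔ (P : Subgroup G)) = M i.castSucc := by
          refine le_antisymm ?_ (le_inf hLM le_sup_left)
          rintro x ⟨hxM, hx⟩
          obtain ⟨l, hl, u, hu, rfl⟩ := Subgroup.mem_sup_of_normal_left.1 hx
          refine mul_mem hl (CfsgLib.Structure80.pGroup_le_of_coprime hcop
            (P.isPGroup'.to_le inf_le_left) inf_le_right
            (show u ∈ (P : Subgroup G) ⊓ M i.succ from ⟨hu, ?_⟩))
          simpa using mul_mem (inv_mem (hLM hl)) hxM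
        rw [hMX, hinf] at e1
        rw [ih] at h1
        apply Nat.eq_of_mul_eq_mul_right (Nat.card_pos (α := M i.succ))
        rw [h1, ← hci]
        calc Nat.card ↥(M i.succ ⊔ (P : Subgroup G)) * (∏ j ∈ Finset.univ.filter (fun j : Fin n => i.succ ≤ j.castSucc), c j) *
              (c i * Nat.card (M i.castSucc))
            = (Nat.card ↥(M i.succ ⊔ (P : Subgroup G)) * Nat.card (M i.castSucc)) *
              (c i * ∏ j ∈ Finset.univ.filter (fun j : Fin n => i.succ ≤ j.castSucc), c j) := by ring
          _ = _ := by rw [e1]; ring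
      · obtain ⟨m, hm⟩ := (hfac i).resolve_right hcop
        have hci : c i = 1 := by simp only [hc, if_neg hcop]
        rw [hci, one_mul, CfsgLib.Structure80.overCount_of_pow H P hLM hm, ih,
          CfsgLib.Structure80.sup_sylow_eq_of_pow P hLM hm]
  have h := key 0
  rw [h0, bot_sup_eq, Finset.filter_true_of_mem (fun j _ => Fin.zero_le _)] at h
  rw [CfsgLib.Structure80.card_subnormalizer hH P, ← h, CfsgLib.Structure80.overCount, bot_sup_eq]
  congr 1
  refine Nat.card_congr (Equiv.ofBijective
    (fun Q : {Q : Sylow p G // H ≤ (Q : Subgroup G)} => (⟨(Q.1 : Subgroup G), by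
      obtain ⟨g, hg⟩ := MulAction.exists_smul_eq G P Q.1
      exact ⟨g, by rw [← hg, CfsgLib.Structure80.coe_smul_sylow]⟩, Q.2⟩ :
      {X : Subgroup G // (∃ g : G, X = CfsgLib.Structure80.conjSub g (P : Subgroup G)) ∧ H ≤ X})) ⟨?_, ?_⟩)
  · intro Q Q' he
    exact Subtype.ext (Sylow.ext (congrArg Subtype.val he))
  · rintro ⟨X, ⟨g, rfl⟩, hX⟩
    exact ⟨⟨g • P, by rw [CfsgLib.Structure80.coe_smul_sylow]; exact hX⟩,
      Subtype.ext (CfsgLib.Structure80.coe_smul_sylow g P)⟩

end Cfsg.Agent.S4090
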