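import Cfsg.Statements.S4091
import Mathlib
import Cfsg.Agent.Lib.Structure80.FixedProduct
import Cfsg.Agent.Lib.PCore.PSolvable
import Cfsg.Agent.Lib.Components.Local
import Cfsg.Agent.Lib.OddChar.CoprimeCoset
import Cfsg.Agent.Lib.Coprime.Action

set_option autoImplicit false
open Cfsg
open scoped Pointwise

universe u

namespace Cfsg.Agent.S4091

open CfsgLib.Structure80.FixedProduct

lemma amgm {ι : Type*} (s : Finset ι) (f : ι → ℕ) :
    s.card ^ s.card * ∏ i ∈ s, f i ≤ (∑ i ∈ s, f i) ^ s.card := by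
  rcases s.eq_empty_or_nonempty with rfl | hne
  · simp
  have hm : (0 : ℝ) < (s.card : ℝ) := by exact_mod_cast hne.card_pos
  have h := Real.geom_mean_le_arith_mean s (fun _ => (1 : ℝ)) (fun i => (f i : ℝ))
    (fun _ _ => zero_le_one) (by simpa using hm) (fun i _ => Nat.cast_nonneg _)
  simp only [Real.rpow_one, Finset.sum_const, nsmul_eq_mul, mul_one, one_mul] at h
  have h2 : ((s.card : ℝ) ^ s.card) * ∏ i ∈ s, (f i : ℝ) ≤ (∑ i ∈ s, (f i : ℝ)) ^ s.card := by
    have h3 := pow_le_pow_left₀ (Real.rpow_nonneg (Finset.prod_nonneg fun i _ => Nat.cast_nonneg _) _) h s.card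
    rw [Real.rpow_inv_natCast_pow (Finset.prod_nonneg fun i _ => Nat.cast_nonneg _) hne.card_pos.ne', div_pow,
      le_div_iff₀ (pow_pos hm _)] at h3
    linarith
  exact_mod_cast h2

section step
variable {G : Type u} [Group G] [Finite G]

/-- The `p`-elements. -/
noncomputable def pElems (p : ℕ) (G : Type u) [Group G] [Finite G] : Finset G :=
  (Set.toFinite {g : G | ∃ k : ℕ, orderOf g = p ^ k}).toFinset

lemma mem_pElems {p : ℕ} {g : G} : g ∈ pElems p G ↔ ∃ k : ℕ, orderOf g = p ^ k := by
  simp [pElems]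

/-- The elements of a subgroup. -/
noncomputable def elems (P : Subgroup G) : Finset G := (Set.toFinite (P : Set G)).toFinset

lemma mem_elems {P : Subgroup G} {g : G} : g ∈ elems P ↔ g ∈ P := by simp [elems]

lemma card_elems (P : Subgroup G) : (elems P).card = Nat.card P := by
  exact ((Nat.card_coe_set_eq (P : Set G)).trans (Set.ncard_eq_toFinset_card _ _)).symm

variable {p : ℕ} [Fact p.Prime] (V : Subgroup G) [V.Normal]

open scoped Classical in
/-- The function pushed to the quotient. -/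
noncomputable def pushF (p : ℕ) (F : G → ℕ) (V : Subgroup G) [V.Normal] (q : G ⧸ V) : ℕ :=
  ∑ g ∈ (pElems p G).filter (fun g : G => QuotientGroup.mk g = q), F g

lemma pushF_conj (F : G → ℕ) (hF : ∀ g h, F (h * g * h⁻¹) = F g) (q r : G ⧸ V) :
    pushF p F V (r * q * r⁻¹) = pushF p F V q := by
  classical
  obtain ⟨h, rfl⟩ := QuotientGroup.mk'_surjective V r
  unfold pushF
  refine (Finset.sum_equiv (MulAut.conj h).toEquiv (fun g => ?_) fun g _ => ?_).symm
  · rw [Finset.mem_filter, Finset.mem_filter, mem_pElems, mem_pElems]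
    change _ ↔ (∃ k, orderOf (MulAut.conj h g) = p ^ k) ∧
      ((MulAut.conj h g : G) : G ⧸ V) = (h : G ⧸ V) * q * (h : G ⧸ V)⁻¹
    rw [MulEquiv.orderOf_eq, MulAut.conj_apply, QuotientGroup.mk_mul, QuotientGroup.mk_mul, QuotientGroup.mk_inv,
      mul_left_inj, mul_right_inj]
  · simp only [MulEquiv.toEquiv_eq_coe, EquivLike.coe_coe, MulAut.conj_apply, hF]

lemma sum_pushF (F : G → ℕ) : ∑ q ∈ pElems p (G ⧸ V), pushF p F V q = ∑ g ∈ pElems p G, F g := by
  classical
  refine Finset.sum_fiberwise_of_maps_to (g := fun g : G => (g : G ⧸ V)) (fun g hg => ?_) F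
  rw [mem_pElems] at hg ⊢
  obtain ⟨k, hk⟩ := hg
  obtain ⟨i, -, hi⟩ := (Nat.dvd_prime_pow (Fact.out : p.Prime)).1 (hk ▸ orderOf_map_dvd (QuotientGroup.mk' V) g)
  exact ⟨i, hi⟩

lemma step_p (hV : IsPGroup p V) (P : Sylow p G) (F : G → ℕ)
    (ih : Nat.card ((P.mapSurjective (QuotientGroup.mk'_surjective V) : Sylow p (G ⧸ V)) : Subgroup (G ⧸ V)) ^
          (p * Nat.card ((P.mapSurjective (QuotientGroup.mk'_surjective V) : Sylow p (G ⧸ V)) : Subgroup (G ⧸ V))) *
        Nat.card (Sylow p (G ⧸ V)) ^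
          (Nat.card ((P.mapSurjective (QuotientGroup.mk'_surjective V) : Sylow p (G ⧸ V)) : Subgroup (G ⧸ V)) * (p - 1)) *
        (∏ x ∈ elems ((P.mapSurjective (QuotientGroup.mk'_surjective V) : Sylow p (G ⧸ V)) : Subgroup (G ⧸ V)),
          pushF p F V x) ^ p ≤
      (∑ y ∈ pElems p (G ⧸ V), pushF p F V y) ^
        (p * Nat.card ((P.mapSurjective (QuotientGroup.mk'_surjective V) : Sylow p (G ⧸ V)) : Subgroup (G ⧸ V)))) :
    Nat.card (P : Subgroup G) ^ (p * Nat.card (P : Subgroup G)) *
        Nat.card (Sylow p G) ^ (Nat.card (P : Subgroup G) * (p - 1)) * (∏ x ∈ elems (P : Subgroup G), F x) ^ p ≤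
      (∑ y ∈ pElems p G, F y) ^ (p * Nat.card (P : Subgroup G)) := by
  classical
  set π := QuotientGroup.mk' V
  set Pb := P.mapSurjective (QuotientGroup.mk'_surjective V) with hPb
  have hPbco : (Pb : Subgroup (G ⧸ V)) = (P : Subgroup G).map π := rfl
  obtain ⟨P0, hP0⟩ := hV.exists_le_sylow
  obtain ⟨g0, hg0⟩ := MulAction.exists_smul_eq G P0 P
  have hVP : V ≤ (P : Subgroup G) := by
    intro v hv
    rw [← hg0, Sylow.coe_subgroup_smul, Subgroup.mem_pointwise_smul_iff_inv_smul_mem]
    refine hP0 ?_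
    have := ‹V.Normal›.conj_mem v hv g0⁻¹
    simpa using this
  have hcomap : (Pb : Subgroup (G ⧸ V)).comap π = (P : Subgroup G) := by
    rw [hPbco, Subgroup.comap_map_eq, QuotientGroup.ker_mk', sup_of_le_left hVP]
  have hcard : Nat.card (P : Subgroup G) = Nat.card (Pb : Subgroup (G ⧸ V)) * Nat.card V := by
    rw [hPbco, CfsgLib.PCore.card_map_mk' V (P : Subgroup G), Subgroup.relIndex, mul_comm,
      ← Nat.card_congr (Subgroup.subgroupOfEquivOfLe hVP).toEquiv, Subgroup.card_mul_index]
  have hn : Nat.card (Sylow p (G ⧸ V)) = Nat.card (Sylow p G) := by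
    rw [Pb.card_eq_index_normalizer, P.card_eq_index_normalizer, ← Sylow.coe_coe Pb, ← Sylow.coe_coe P,
      ← Subgroup.index_comap_of_surjective _ (QuotientGroup.mk'_surjective V), Subgroup.comap_normalizer_eq_of_surjective _
        (QuotientGroup.mk'_surjective V)]
    rw [hcomap]
  have hprod : ∏ x ∈ elems (P : Subgroup G), F x =
      ∏ q ∈ elems (Pb : Subgroup (G ⧸ V)), ∏ x ∈ elems (P : Subgroup G) with π x = q, F x :=
    (Finset.prod_fiberwise_of_maps_to (g := π) (fun x hx => by
      rw [mem_elems] at hx ⊢; exact ⟨x, hx, rfl⟩) F).symm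
  have hfib : ∀ q ∈ elems (Pb : Subgroup (G ⧸ V)),
      Nat.card V ^ Nat.card V * ∏ x ∈ elems (P : Subgroup G) with π x = q, F x ≤ pushF p F V q ^ Nat.card V := by
    intro q hq
    rw [mem_elems] at hq
    obtain ⟨x0, hx0, rfl⟩ := hq
    have hsame : (elems (P : Subgroup G)).filter (fun x => π x = π x0) =
        (pElems p G).filter (fun g : G => QuotientGroup.mk g = π x0) := by
      ext g
      simp only [Finset.mem_filter, mem_elems, mem_pElems]
      constructor
      · rintro ⟨hg, hgq⟩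
        refine ⟨?_, hgq⟩
        obtain ⟨k, hk⟩ := IsPGroup.iff_orderOf.1 P.isPGroup' ⟨g, hg⟩
        rw [Subgroup.orderOf_mk] at hk
        exact ⟨k, hk⟩
      · rintro ⟨-, hgq⟩
        refine ⟨?_, hgq⟩
        rw [← hcomap, Subgroup.mem_comap]
        exact ⟨x0, hx0, hgq.symm⟩
    have hcardf : ((elems (P : Subgroup G)).filter (fun x => π x = π x0)).card = Nat.card V := by
      rw [← card_elems V]
      refine Finset.card_bij' (fun g _ => x0⁻¹ * g) (fun v _ => x0 * v) ?_ ?_ ?_ ?_
      · intro g hg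
        rw [Finset.mem_filter] at hg
        rw [mem_elems]
        exact QuotientGroup.eq.1 hg.2.symm
      · intro v hv
        rw [mem_elems] at hv
        rw [Finset.mem_filter, mem_elems]
        refine ⟨(P : Subgroup G).mul_mem hx0 (hVP hv), ?_⟩
        rw [map_mul, show π v = 1 from (QuotientGroup.eq_one_iff v).2 hv, mul_one]
      · intro g _; simp
      · intro v _; simp
    have h := amgm ((elems (P : Subgroup G)).filter (fun x => π x = π x0)) F
    rw [hcardf] at h
    refine h.trans (le_of_eq ?_)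
    rw [hsame]
    rfl
  have hall := Finset.prod_le_prod' hfib
  rw [Finset.prod_mul_distrib, Finset.prod_pow, Finset.prod_const, card_elems, ← hprod] at hall
  rw [← hn, ← sum_pushF V F, hcard]
  set a := Nat.card (Pb : Subgroup (G ⧸ V))
  set v := Nat.card V
  have h' := Nat.pow_le_pow_left ih v
  rw [show p * (a * v) = (p * a) * v by ring]
  refine le_trans ?_ (h'.trans_eq (pow_mul _ _ _).symm)
  have e : (a ^ (p * a) * Nat.card (Sylow p (G ⧸ V)) ^ (a * (p - 1)) *
      (∏ x ∈ elems (Pb : Subgroup (G ⧸ V)), pushF p F V x) ^ p) ^ v =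
      a ^ (p * a * v) * Nat.card (Sylow p (G ⧸ V)) ^ (a * (p - 1) * v) *
        ((∏ x ∈ elems (Pb : Subgroup (G ⧸ V)), pushF p F V x) ^ v) ^ p := by
    rw [mul_pow, mul_pow, ← pow_mul, ← pow_mul, ← pow_mul, ← pow_mul, mul_comm p v]
  rw [e]
  calc (a * v) ^ (p * a * v) * Nat.card (Sylow p (G ⧸ V)) ^ (a * v * (p - 1)) *
        (∏ x ∈ elems (P : Subgroup G), F x) ^ p
      = a ^ (p * a * v) * Nat.card (Sylow p (G ⧸ V)) ^ (a * (p - 1) * v) *
          ((v ^ a) ^ v * ∏ x ∈ elems (P : Subgroup G), F x) ^ p := by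
        rw [mul_pow a v, mul_pow ((v ^ a) ^ v), ← pow_mul v, ← pow_mul v, show a * v * p = p * a * v by ring,
          show a * v * (p - 1) = a * (p - 1) * v by ring]
        ring
    _ ≤ _ := Nat.mul_le_mul le_rfl (Nat.pow_le_pow_left (hall.trans_eq (Finset.prod_pow _ _ _)) p)

lemma step_p' (hV : (Nat.card V).Coprime p) (P : Sylow p G) (F : G → ℕ) (hF : ∀ g h, F (h * g * h⁻¹) = F g)
    (ih : Nat.card ((P.mapSurjective (QuotientGroup.mk'_surjective V) : Sylow p (G ⧸ V)) : Subgroup (G ⧸ V)) ^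
          (p * Nat.card ((P.mapSurjective (QuotientGroup.mk'_surjective V) : Sylow p (G ⧸ V)) : Subgroup (G ⧸ V))) *
        Nat.card (Sylow p (G ⧸ V)) ^
          (Nat.card ((P.mapSurjective (QuotientGroup.mk'_surjective V) : Sylow p (G ⧸ V)) : Subgroup (G ⧸ V)) * (p - 1)) *
        (∏ x ∈ elems ((P.mapSurjective (QuotientGroup.mk'_surjective V) : Sylow p (G ⧸ V)) : Subgroup (G ⧸ V)),
          pushF p F V x) ^ p ≤
      (∑ y ∈ pElems p (G ⧸ V), pushF p F V y) ^
        (p * Nat.card ((P.mapSurjective (QuotientGroup.mk'_surjective V) : Sylow p (G ⧸ V)) : Subgroup (G ⧸ V)))) :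
    Nat.card (P : Subgroup G) ^ (p * Nat.card (P : Subgroup G)) *
        Nat.card (Sylow p G) ^ (Nat.card (P : Subgroup G) * (p - 1)) * (∏ x ∈ elems (P : Subgroup G), F x) ^ p ≤
      (∑ y ∈ pElems p G, F y) ^ (p * Nat.card (P : Subgroup G)) := by
  classical
  have hp : p.Prime := Fact.out
  letI := Fintype.ofFinite (P : Subgroup G)
  set π := QuotientGroup.mk' V
  set Pb := P.mapSurjective (QuotientGroup.mk'_surjective V) with hPb
  have hPbco : (Pb : Subgroup (G ⧸ V)) = (P : Subgroup G).map π := rfl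
  have hpv : ¬ p ∣ Nat.card V := hp.coprime_iff_not_dvd.1 hV.symm
  have hdisj : ∀ g ∈ (P : Subgroup G), g ∈ V → g = 1 := by
    intro g hg hgV
    obtain ⟨k, hk⟩ := IsPGroup.iff_orderOf.1 P.isPGroup' ⟨g, hg⟩
    rw [Subgroup.orderOf_mk] at hk
    have h1 : orderOf g ∣ Nat.card V := Subgroup.orderOf_dvd_natCard V hgV
    rw [hk] at h1
    rcases Nat.eq_zero_or_pos k with rfl | hk0
    · exact orderOf_eq_one_iff.1 (by simpa using hk)
    · exact absurd ((dvd_pow_self p hk0.ne').trans h1) hpv
  have hinj : Set.InjOn π (P : Subgroup G) := by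
    intro a ha b hb hab
    exact inv_mul_eq_one.1 (hdisj _ ((P : Subgroup G).mul_mem ((P : Subgroup G).inv_mem ha) hb) (QuotientGroup.eq.1 hab))
  have helems : elems (Pb : Subgroup (G ⧸ V)) = (elems (P : Subgroup G)).image π := by
    ext q
    simp [mem_elems, hPbco, Subgroup.mem_map]
  have hinj' : Set.InjOn π (elems (P : Subgroup G) : Set G) := fun a ha b hb =>
    hinj (mem_elems.1 ha) (mem_elems.1 hb)
  have hcard : Nat.card (Pb : Subgroup (G ⧸ V)) = Nat.card (P : Subgroup G) := by
    rw [← card_elems, helems, Finset.card_image_of_injOn hinj', card_elems]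
  let φ : (P : Subgroup G) →* MulAut V := (MulAut.conjNormal (H := V)).comp (P : Subgroup G).subtype
  have hφ : ∀ (x : (P : Subgroup G)) (v : V), ((φ x v : V) : G) = (x : G) * v * (x : G)⁻¹ := fun x v =>
    MulAut.conjNormal_apply (x : G) v
  -- the `p`-elements in a coset
  have hfib : ∀ x : (P : Subgroup G), pushF p F V (π x) * Nat.card (fixEl φ x) = Nat.card V * F x := by
    intro x
    obtain ⟨k, hk⟩ := IsPGroup.iff_orderOf.1 P.isPGroup' x
    rw [← Subgroup.orderOf_coe] at hk
    have hcopx : Nat.Coprime (orderOf (x : G)) (Nat.card V) := by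
      rw [hk]; exact (hp.coprime_iff_not_dvd.2 hpv).pow_left k
    set s := (pElems p G).filter (fun g : G => QuotientGroup.mk g = π (x : G))
    have hval : ∀ g ∈ s, ∃ v : V, g = (v : G) * x * (v : G)⁻¹ := by
      intro g hg
      rw [Finset.mem_filter, mem_pElems] at hg
      obtain ⟨⟨i, hi⟩, hgq⟩ := hg
      have hg1 : g * (x : G)⁻¹ ∈ V := by
        rw [← QuotientGroup.eq_one_iff, QuotientGroup.mk_mul, hgq, QuotientGroup.mk_inv]
        exact mul_inv_cancel _
      obtain ⟨v, hv, c, hc, hcx, rfl⟩ := CfsgLib.OddChar.coset_conj_centralizer V (x : G) hcopx hg1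
      refine ⟨⟨v, hv⟩, ?_⟩
      rw [show v * (c * (x : G)) * v⁻¹ = MulAut.conj v (c * (x : G)) from rfl, MulEquiv.orderOf_eq] at hi
      have hcc : (orderOf c).Coprime (orderOf (x : G)) :=
        hcopx.symm.coprime_dvd_left (Subgroup.orderOf_dvd_natCard V hc)
      rw [hcx.orderOf_mul_eq_mul_orderOf_of_coprime hcc, hk] at hi
      have hc1 : c = 1 := by
        rw [← orderOf_eq_one_iff, ← Nat.dvd_one]
        have h1 : orderOf c ∣ p ^ i := hi ▸ dvd_mul_right _ _
        have h2 : orderOf c ∣ Nat.card V := Subgroup.orderOf_dvd_natCard V hc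
        rw [← ((hp.coprime_iff_not_dvd.2 hpv).pow_left i).gcd_eq_one]
        exact Nat.dvd_gcd h1 h2
      rw [hc1, one_mul]
    have hsc : s.card * Nat.card (fixEl φ x) = Nat.card V := by
      have hmem : ∀ v : V, (v : G) * x * (v : G)⁻¹ ∈ s := fun v => by
        rw [Finset.mem_filter, mem_pElems]
        refine ⟨⟨k, ?_⟩, ?_⟩
        · rw [show (v : G) * x * (v : G)⁻¹ = MulAut.conj (v : G) x from rfl, MulEquiv.orderOf_eq, hk]
        · simp [QuotientGroup.mk'_apply, (QuotientGroup.eq_one_iff (v : G)).2 v.2, π]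
      have hiff : ∀ v w : V, (v : G) * x * (v : G)⁻¹ = (w : G) * x * (w : G)⁻¹ ↔ v⁻¹ * w ∈ fixEl φ x := by
        intro v w
        rw [mem_fixEl, Subtype.ext_iff, hφ]
        simp only [Subgroup.coe_mul, Subgroup.coe_inv]
        constructor
        · intro h
          calc (x : G) * ((v : G)⁻¹ * w) * (x : G)⁻¹ = (v : G)⁻¹ * ((v : G) * x * (v : G)⁻¹) * w * (x : G)⁻¹ := by group
            _ = _ := by rw [h]; group
        · intro h
          calc (v : G) * x * (v : G)⁻¹ = (v : G) * ((x : G) * ((v : G)⁻¹ * w) * (x : G)⁻¹) * x * (w : G)⁻¹ := by group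
            _ = _ := by rw [h]; group
      let f : V ⧸ fixEl φ x → s := Quotient.lift (fun v => ⟨_, hmem v⟩) fun v w h => Subtype.ext
        ((hiff v w).2 (QuotientGroup.leftRel_apply.1 h))
      have hf : Function.Bijective f := by
        constructor
        · intro a b
          induction a using QuotientGroup.induction_on with
          | H a => induction b using QuotientGroup.induction_on with
            | H b => exact fun h => QuotientGroup.eq.2 ((hiff a b).1 (congrArg Subtype.val h))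
        · rintro ⟨g, hg⟩
          obtain ⟨v, rfl⟩ := hval g hg
          exact ⟨(v : V ⧸ fixEl φ x), rfl⟩
      rw [Subgroup.card_eq_card_quotient_mul_card_subgroup (fixEl φ x), Nat.card_congr (Equiv.ofBijective f hf),
        Nat.card_eq_finsetCard]
    have hs : pushF p F V (π x) = s.card * F x := by
      rw [pushF, Finset.sum_congr rfl (g := fun _ => F x) fun g hg => ?_, Finset.sum_const, smul_eq_mul]
      obtain ⟨v, rfl⟩ := hval g hg
      exact hF _ _
    rw [hs, mul_right_comm, hsc]
  have hprodF : ∏ x ∈ elems (P : Subgroup G), F x = ∏ x : (P : Subgroup G), F x := by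
    refine Finset.prod_subtype _ (fun g => mem_elems) F
  have hprodb : ∏ q ∈ elems (Pb : Subgroup (G ⧸ V)), pushF p F V q = ∏ x : (P : Subgroup G), pushF p F V (π x) := by
    rw [helems, Finset.prod_image hinj']
    exact Finset.prod_subtype _ (fun g => mem_elems) fun g => pushF p F V (π g)
  have hmain := prod_fixEl_le P.isPGroup' _ V le_rfl hpv φ
  have hfs : Nat.card (fixSub φ) = Nat.card (Subgroup.normalizer ((P : Subgroup G) : Set G) ⊓ V : Subgroup G) := by
    refine Nat.card_congr
      { toFun := fun v => ⟨((v : V) : G), ?_, (v : V).2⟩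
        invFun := fun v => ⟨⟨v, v.2.2⟩, fun x => ?_⟩
        left_inv := fun v => rfl
        right_inv := fun v => rfl }
    · refine CfsgLib.Coprime.mem_normalizer_of_forall_conj fun y hy => ?_
      have := congrArg Subtype.val (v.2 ⟨y, hy⟩)
      rw [hφ] at this
      rw [show ((v : V) : G) * y * ((v : V) : G)⁻¹ = y by
        rw [mul_inv_eq_iff_eq_mul]
        exact (mul_inv_eq_iff_eq_mul.1 this).symm]
      exact hy
    · apply Subtype.ext
      rw [hφ]
      have h1 : (x : G) * v * (x : G)⁻¹ * (v : G)⁻¹ = 1 := by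
        refine hdisj _ ?_ (V.mul_mem (‹V.Normal›.conj_mem _ v.2.2 _) (V.inv_mem v.2.2))
        rw [show (x : G) * v * (x : G)⁻¹ * (v : G)⁻¹ = (x : G) * ((v : G) * (x : G)⁻¹ * (v : G)⁻¹) by group]
        exact (P : Subgroup G).mul_mem x.2 (((Subgroup.mem_normalizer_iff.1 v.2.1) _).1 ((P : Subgroup G).inv_mem x.2))
      exact mul_inv_eq_one.1 h1
  have hn : Nat.card (Sylow p G) * Nat.card (fixSub φ) = Nat.card (Sylow p (G ⧸ V)) * Nat.card V := by
    rw [Pb.card_eq_index_normalizer, P.card_eq_index_normalizer, hfs, ← Sylow.coe_coe Pb, ← Sylow.coe_coe P, hPbco,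
      ← CfsgLib.Components.map_normalizer_quotient hV P.isPGroup']
    set N := Subgroup.normalizer ((P : Subgroup G) : Set G)
    have h1 : Nat.card (N.map π) * Nat.card (N ⊓ V : Subgroup G) = Nat.card N := by
      rw [CfsgLib.PCore.card_map_mk' V N, Subgroup.relIndex, mul_comm,
        show Nat.card (N ⊓ V : Subgroup G) = Nat.card (V.subgroupOf N) by
          rw [inf_comm, ← Subgroup.subgroupOf_map_subtype, Subgroup.card_map_of_injective N.subtype_injective],
        Subgroup.card_mul_index]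
    have h2 := Subgroup.card_mul_index (N.map π)
    have h3 := Subgroup.card_mul_index N
    have h4 := Subgroup.card_eq_card_quotient_mul_card_subgroup V
    refine mul_left_cancel₀ (Nat.card_pos (α := N.map π)).ne' ?_
    calc Nat.card (N.map π) * (N.index * Nat.card (N ⊓ V : Subgroup G))
        = Nat.card N * N.index := by rw [← h1]; ring
      _ = Nat.card (N.map π) * ((N.map π).index * Nat.card V) := by rw [h3, h4, ← mul_assoc, h2]
  -- combine
  rw [hprodb, hcard, sum_pushF V F] at ih
  rw [hprodF]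
  set a := Nat.card (P : Subgroup G)
  set v := Nat.card V
  set c := Nat.card (fixSub φ)
  set D := ∏ x : (P : Subgroup G), Nat.card (fixEl φ x)
  set Q := ∏ x : (P : Subgroup G), pushF p F V (π x)
  set FF := ∏ x : (P : Subgroup G), F x
  have hQD : Q * D = v ^ a * FF := by
    simp only [Q, D, FF, ← Finset.prod_mul_distrib, hfib]
    rw [Finset.prod_mul_distrib, Finset.prod_const, Finset.card_univ, ← Nat.card_eq_fintype_card]
  have hpos : 0 < c ^ (a * (p - 1)) * D ^ p :=
    Nat.mul_pos (pow_pos Nat.card_pos _) (pow_pos (Finset.prod_pos fun x _ => Nat.card_pos) _)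
  have hp1 : a * p = a + a * (p - 1) := by
    have := hp.one_le
    obtain ⟨j, rfl⟩ : ∃ j, p = 1 + j := ⟨p - 1, by omega⟩
    rw [Nat.add_sub_cancel_left]
    ring
  refine le_trans (Nat.le_of_mul_le_mul_right ?_ hpos) ih
  calc a ^ (p * a) * Nat.card (Sylow p G) ^ (a * (p - 1)) * FF ^ p * (c ^ (a * (p - 1)) * D ^ p)
      = a ^ (p * a) * (Nat.card (Sylow p G) * c) ^ (a * (p - 1)) * FF ^ p * D ^ p := by rw [mul_pow]; ring
    _ ≤ a ^ (p * a) * (Nat.card (Sylow p (G ⧸ V)) * v) ^ (a * (p - 1)) * FF ^ p * (v ^ a * c ^ (a * (p - 1))) := by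
        rw [hn]; exact Nat.mul_le_mul le_rfl hmain
    _ = a ^ (p * a) * Nat.card (Sylow p (G ⧸ V)) ^ (a * (p - 1)) * (v ^ (a * p) * FF ^ p) * c ^ (a * (p - 1)) := by
        rw [hp1, pow_add]; ring
    _ = _ := by rw [pow_mul v a p, ← mul_pow, ← hQD, mul_pow]; ring

end step

theorem ineq (p : ℕ) [Fact p.Prime] : ∀ (n : ℕ) (G : Type u) [Group G] [Finite G], Nat.card G ≤ n →
    Cfsg.IsPSolvable p G → ∀ (P : Sylow p G) (F : G → ℕ), (∀ g h, F (h * g * h⁻¹) = F g) →
    Nat.card (P : Subgroup G) ^ (p * Nat.card (P : Subgroup G)) *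
        Nat.card (Sylow p G) ^ (Nat.card (P : Subgroup G) * (p - 1)) * (∏ x ∈ elems (P : Subgroup G), F x) ^ p ≤
      (∑ y ∈ pElems p G, F y) ^ (p * Nat.card (P : Subgroup G)) := by
  intro n
  induction n with
  | zero => intro G _ _ h; exact absurd (Nat.le_zero.1 h) Nat.card_pos.ne'
  | succ n ih =>
    intro G _ _ hn hs P F hF
    rcases subsingleton_or_nontrivial G with h | h
    · have h1 : Nat.card (P : Subgroup G) = 1 := Nat.card_unique
      have h2 : Nat.card (Sylow p G) = 1 := by
        rw [P.card_eq_index_normalizer, Subgroup.index_eq_one]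
        exact Subsingleton.elim _ _
      have h3 : elems (P : Subgroup G) = pElems p G := by
        ext g
        rw [mem_elems, mem_pElems, Subsingleton.elim g 1]
        exact iff_of_true (one_mem _) ⟨0, by simp⟩
      have h4 : (elems (P : Subgroup G)).card = 1 := by rw [card_elems, h1]
      obtain ⟨g, hg⟩ := Finset.card_eq_one.1 h4
      rw [h1, h2, ← h3, hg]
      simp
    · have key : ∀ (V : Subgroup G) [V.Normal], V ≠ ⊥ → Nat.card (G ⧸ V) ≤ n := by
        intro V _ hV
        have h1 := Subgroup.card_eq_card_quotient_mul_card_subgroup V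
        have h2 : 1 < Nat.card V := by
          rw [Finite.one_lt_card_iff_nontrivial]; exact (Subgroup.nontrivial_iff_ne_bot V).2 hV
        have := lt_mul_of_one_lt_right (Nat.card_pos (α := G ⧸ V)) h2
        omega
      rcases CfsgLib.PCore.pCore_ne_bot_or_pPrimeCore_ne_bot hs with hV | hV
      · haveI : (Cfsg.pCore p G).Normal := inferInstance
        exact step_p _ CfsgLib.PCore.pCore_isPGroup P F (ih _ (key _ hV) (CfsgLib.PCore.isPSolvable_quotient hs _) _ _
          (fun g h => pushF_conj _ F hF g h))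
      · haveI : (Cfsg.pPrimeCore p G).Normal := inferInstance
        exact step_p' _ CfsgLib.PCore.pPrimeCore_coprime P F hF (ih _ (key _ hV) (CfsgLib.PCore.isPSolvable_quotient hs _) _ _
          (fun g h => pushF_conj _ F hF g h))

/-- Let G be a finite p-solvable group, P a Sylow p-subgroup of G, u the number of p-elements of G (elements of p-power order, the identity included) and n the number of Sylow p-subgroups of G. Then u/#P ≥ n^((p−1)/p), stated as u^p ≥ #P^p · n^(p−1). -/
theorem result {G : Type*} [Group G] [Finite G] (p : ℕ) [Fact p.Prime]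
    (hG : Cfsg.IsPSolvable p G) (P : Sylow p G) :
    Nat.card (P : Subgroup G) ^ p * Nat.card (Sylow p G) ^ (p - 1) ≤ Nat.card {g : G // ∃ k : ℕ, orderOf g = p ^ k} ^ p := by
  classical
  have h := ineq p (Nat.card G) G le_rfl hG P (fun _ => 1) (fun _ _ => rfl)
  simp only [Finset.prod_const_one, one_pow, mul_one, Finset.sum_const, smul_eq_mul] at h
  have hc : (pElems p G).card = Nat.card {g : G // ∃ k : ℕ, orderOf g = p ^ k} := by
    exact ((Nat.card_coe_set_eq {g : G | ∃ k : ℕ, orderOf g = p ^ k}).trans (Set.ncard_eq_toFinset_card _ _)).symm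
  rw [hc, pow_mul, mul_comm (Nat.card (P : Subgroup G)) (p - 1), pow_mul, ← mul_pow, pow_mul] at h
  exact le_of_pow_le_pow_left₀ Nat.card_pos.ne' (Nat.zero_le _) h

end Cfsg.Agent.S4091
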