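import Cfsg.Statements.S4092
import Mathlib

set_option autoImplicit false
open Cfsg

namespace Cfsg.Agent.S4092

/-- Let G be a finite group, p a prime and P a Sylow p-subgroup of G that is not normal in G. Then G has at least p·#P elements of p-power order (the identity included). -/
theorem result {G : Type*} [Group G] [Finite G] (p : ℕ) [Fact p.Prime]
    (P : Sylow p G) (hP : ¬ (P : Subgroup G).Normal) :
    p * Nat.card (P : Subgroup G) ≤ Nat.card {g : G // ∃ k : ℕ, orderOf g = p ^ k} := by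
  classical
  obtain ⟨P', hP'⟩ : ∃ P' : Sylow p G, P' ≠ P := by
    by_contra hcon
    push Not at hcon
    haveI : Subsingleton (Sylow p G) := ⟨fun a b => (hcon a).trans (hcon b).symm⟩
    exact hP (Sylow.normal_of_subsingleton P)
  haveI : Nonempty {x : Sylow p G × Sylow p G // x.1 ≠ x.2} := ⟨⟨(P', P), hP'⟩⟩
  obtain ⟨⟨⟨P1, P2⟩, hne⟩, hmax⟩ := Finite.exists_max
    (fun x : {x : Sylow p G × Sylow p G // x.1 ≠ x.2} => Nat.card ↥((x.1.1 : Subgroup G) ⊓ (x.1.2 : Subgroup G)))
  change P1 ≠ P2 at hne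
  set D := (P1 : Subgroup G) ⊓ (P2 : Subgroup G) with hD
  set N := Subgroup.normalizer (D : Set G) with hN
  have hmax' : ∀ Q R : Sylow p G, D < (Q : Subgroup G) ⊓ (R : Subgroup G) → Q = R := by
    intro Q R hlt
    by_contra hQR
    have h1 := hmax ⟨(Q, R), hQR⟩
    have h2 : D = (Q : Subgroup G) ⊓ (R : Subgroup G) := Subgroup.eq_of_le_of_card_ge hlt.le h1
    exact hlt.ne h2
  have hgrow : ∀ Q : Sylow p G, D < (Q : Subgroup G) → D < (Q : Subgroup G) ⊓ N := by
    intro Q hQ
    haveI := Q.isPGroup'.isNilpotent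
    have hlt : D.subgroupOf (Q : Subgroup G) < ⊤ := by
      rw [lt_top_iff_ne_top, ne_eq, Subgroup.subgroupOf_eq_top]
      exact not_le_of_gt hQ
    obtain ⟨z, hz, hzD⟩ := SetLike.exists_of_lt (Group.normalizerCondition_of_isNilpotent _ hlt)
    refine lt_of_le_of_ne (le_inf hQ.le (Subgroup.le_normalizer)) (fun he => hzD ?_)
    rw [Subgroup.mem_subgroupOf, he]
    refine ⟨z.2, (?_ : (z : G) ∈ Subgroup.normalizer (D : Set G))⟩
    rw [Subgroup.mem_normalizer_iff]
    intro u
    constructor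
    · intro hu
      exact (Subgroup.mem_normalizer_iff.1 hz ⟨u, hQ.le hu⟩).1 hu
    · intro hu
      have hQu : u ∈ (Q : Subgroup G) := by
        have := mul_mem (mul_mem (inv_mem z.2) (hQ.le hu)) z.2
        simpa [mul_assoc] using this
      exact (Subgroup.mem_normalizer_iff.1 hz ⟨u, hQu⟩).2 hu
  have hcardP : ∀ Q : Sylow p G, Nat.card (Q : Subgroup G) = Nat.card (P : Subgroup G) := fun Q => by
    rw [Q.card_eq_multiplicity, P.card_eq_multiplicity]
  have hlt1 : D < (P1 : Subgroup G) := by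
    refine lt_of_le_of_ne inf_le_left (fun he => hne ?_)
    apply Sylow.ext
    exact Subgroup.eq_of_le_of_card_ge (he ▸ inf_le_right : (P1 : Subgroup G) ≤ P2) ((hcardP _).trans (hcardP _).symm).le
  have hlt2 : D < (P2 : Subgroup G) := by
    refine lt_of_le_of_ne inf_le_right (fun he => hne ?_)
    apply Sylow.ext
    exact (Subgroup.eq_of_le_of_card_ge (he ▸ inf_le_left : (P2 : Subgroup G) ≤ P1) ((hcardP _).trans (hcardP _).symm).le).symm
  -- Sylow subgroups of `N`
  have hP3 : ∀ S : Sylow p N, ∃ Q : Sylow p G, (S : Subgroup N).map N.subtype ≤ Q := fun S =>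
    (S.isPGroup'.map N.subtype).exists_le_sylow
  choose F hF using hP3
  have hDN : ∀ S : Sylow p N, D.subgroupOf N ≤ (S : Subgroup N) := by
    intro S
    haveI : (Subgroup.comap N.subtype D).Normal := Subgroup.normal_in_normalizer
    have hp : IsPGroup p D := P1.isPGroup'.to_le inf_le_left
    exact (hp.comap_of_injective N.subtype N.subtype_injective).le_sylow_of_normal S
  have hDF : ∀ S : Sylow p N, D ≤ (F S : Subgroup G) := by
    intro S u hu
    exact hF S ⟨⟨u, Subgroup.le_normalizer hu⟩, hDN S hu, rfl⟩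
  have hkey : ∀ S : Sylow p N, ∀ Q : Sylow p G, D < (Q : Subgroup G) → ((Q : Subgroup G) ⊓ N).subgroupOf N ≤ (S : Subgroup N) →
      Q = F S := by
    intro S Q hQ hle
    apply hmax'
    refine lt_of_lt_of_le (hgrow Q hQ) (le_inf inf_le_left (fun u hu => ?_))
    exact hF S ⟨⟨u, hu.2⟩, hle hu, rfl⟩
  have hinj : Function.Injective F := by
    intro S T hST
    apply Sylow.ext
    have hp : IsPGroup p (((F S : Subgroup G)).subgroupOf N) :=
      (F S).isPGroup'.comap_of_injective N.subtype N.subtype_injective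
    have hS : ((F S : Subgroup G)).subgroupOf N = (S : Subgroup N) := S.3 hp (Subgroup.map_le_iff_le_comap.1 (hF S))
    have hT : ((F S : Subgroup G)).subgroupOf N = (T : Subgroup N) := T.3 hp (hST ▸ Subgroup.map_le_iff_le_comap.1 (hF T))
    exact hS.symm.trans hT
  have hinter : ∀ S T : Sylow p N, S ≠ T → (F S : Subgroup G) ⊓ (F T : Subgroup G) = D := by
    intro S T hST
    by_contra hne'
    exact hST (hinj (hmax' _ _ (lt_of_le_of_ne (le_inf (hDF S) (hDF T)) (Ne.symm hne'))))
  have hn : p + 1 ≤ Nat.card (Sylow p N) := by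
    have hpos : 0 < Nat.card (Sylow p N) := Nat.card_pos
    have h1 : Nat.card (Sylow p N) ≡ 1 [MOD p] := card_sylow_modEq_one p N
    have h2 : Nat.card (Sylow p N) ≠ 1 := by
      intro h
      obtain ⟨hsub, ⟨S⟩⟩ := Nat.card_eq_one_iff_unique.1 h
      apply hne
      have hall : ∀ Q : Sylow p G, D < (Q : Subgroup G) → Q = F S := by
        intro Q hQ
        apply hkey S Q hQ
        have hp : IsPGroup p (((Q : Subgroup G) ⊓ N).subgroupOf N) :=
          (Q.isPGroup'.to_le inf_le_left).comap_of_injective N.subtype N.subtype_injective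
        obtain ⟨S', hS'⟩ := hp.exists_le_sylow
        exact Subsingleton.elim S' S ▸ hS'
      exact (hall P1 hlt1).trans (hall P2 hlt2).symm
    have h3 : p ∣ Nat.card (Sylow p N) - 1 := (Nat.modEq_iff_dvd' hpos).1 h1.symm
    have h4 := Nat.le_of_dvd (by omega) h3
    omega
  let U := {g : G // ∃ k : ℕ, orderOf g = p ^ k}
  have hpel : ∀ Q : Sylow p G, ∀ u ∈ (Q : Subgroup G), ∃ k : ℕ, orderOf u = p ^ k := by
    intro Q u hu
    obtain ⟨k, hk⟩ := IsPGroup.iff_orderOf.1 Q.isPGroup' ⟨u, hu⟩
    exact ⟨k, by simpa using hk⟩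
  let f : D ⊕ (Σ S : Sylow p N, {x : (F S : Subgroup G) // (x : G) ∉ D}) → U :=
    Sum.elim (fun d => ⟨d, hpel P1 d (hlt1.le d.2)⟩) (fun x => ⟨x.2.1, hpel _ _ x.2.1.2⟩)
  have hfinj : Function.Injective f := by
    rintro (d | ⟨S, x, hx⟩) (d' | ⟨T, y, hy⟩) h <;> replace h := congrArg Subtype.val h <;>
      simp only [f, Sum.elim_inl, Sum.elim_inr] at h
    · exact congrArg Sum.inl (Subtype.ext h)
    · exact absurd (h ▸ d.2) hy
    · exact absurd (h.symm ▸ d'.2) hx
    · have hST : S = T := by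
        by_contra hST
        apply hx
        rw [← hinter S T hST]
        exact ⟨x.2, h ▸ y.2⟩
      subst hST
      simp only [Sum.inr.injEq, Sigma.mk.injEq, heq_eq_eq, true_and]
      exact Subtype.ext (Subtype.ext h)
  have hcount := Nat.card_le_card_of_injective f hfinj
  letI := Fintype.ofFinite (Sylow p N)
  have hdiff : ∀ S : Sylow p N, Nat.card {x : (F S : Subgroup G) // (x : G) ∉ D} =
      Nat.card (P : Subgroup G) - Nat.card D := by
    intro S
    letI := Fintype.ofFinite (F S : Subgroup G)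
    rw [Nat.card_eq_fintype_card, Fintype.card_subtype_compl, ← Nat.card_eq_fintype_card, hcardP,
      ← Nat.card_eq_fintype_card]
    congr 1
    exact Nat.card_congr (Equiv.subtypeSubtypeEquivSubtype (fun hx => hDF S hx))
  rw [Nat.card_sum, Nat.card_sigma, Finset.sum_congr rfl (fun S _ => hdiff S), Finset.sum_const,
    Finset.card_univ, ← Nat.card_eq_fintype_card, smul_eq_mul] at hcount
  change p * Nat.card (P : Subgroup G) ≤ Nat.card U
  obtain ⟨a, ha⟩ := IsPGroup.iff_card.1 (P1.isPGroup'.to_le (inf_le_left : D ≤ P1))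
  obtain ⟨b, hb⟩ := IsPGroup.iff_card.1 P.isPGroup'
  have hDP : Nat.card D < Nat.card (P : Subgroup G) := by
    rw [← hcardP P1]
    by_contra hc
    exact hlt1.ne (Subgroup.eq_of_le_of_card_ge hlt1.le (not_lt.1 hc))
  have hpD : p * Nat.card D ≤ Nat.card (P : Subgroup G) := by
    rw [ha, hb] at hDP ⊢
    have hab : a < b := (Nat.pow_lt_pow_iff_right (Fact.out : p.Prime).one_lt).1 hDP
    rw [← pow_succ']
    exact Nat.pow_le_pow_right (Fact.out : p.Prime).pos hab
  have h5 : (p + 1) * (Nat.card (P : Subgroup G) - Nat.card D) ≤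
      Nat.card (Sylow p N) * (Nat.card (P : Subgroup G) - Nat.card D) := Nat.mul_le_mul_right _ hn
  have h6 : (p + 1) * (Nat.card (P : Subgroup G) - Nat.card D) + (p + 1) * Nat.card D =
      (p + 1) * Nat.card (P : Subgroup G) := by
    rw [← Nat.mul_add, Nat.sub_add_cancel hDP.le]
  simp only [Nat.add_mul, one_mul] at h5 h6
  omega

end Cfsg.Agent.S4092
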