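import Cfsg.Statements.S4093
import Cfsg.Agent.Lib.Structure80.Basic

set_option autoImplicit false
open scoped BigOperators
open Cfsg

namespace Cfsg.Agent.S4093

/-- Let G be a finite group with a normal subgroup N complementing a Sylow p-subgroup P (a normal p-complement). Then the number of elements of G of p-power order equals the sum over x ∈ P of the index of C_N(x) in N. -/
theorem result {G : Type*} [Group G] [Finite G] (p : ℕ) [Fact p.Prime]
    (P : Sylow p G) (N : Subgroup G) [N.Normal] (hNP : N.IsComplement' (P : Subgroup G)) :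
    Nat.card {g : G // ∃ k : ℕ, orderOf g = p ^ k} =
      ∑ᶠ x : (P : Subgroup G), Nat.card N / Nat.card ↥(N ⊓ Subgroup.centralizer ({(x : G)} : Set G)) := by
  classical
  letI := Fintype.ofFinite (P : Subgroup G)
  let C : ↥(P : Subgroup G) → Subgroup N := fun x => (Subgroup.centralizer ({(x : G)} : Set G)).subgroupOf N
  have hC : ∀ x : (P : Subgroup G), Nat.card N / Nat.card ↥(N ⊓ Subgroup.centralizer ({(x : G)} : Set G)) =
      Nat.card (N ⧸ C x) := by
    intro x
    have h1 : Nat.card (C x) = Nat.card ↥(N ⊓ Subgroup.centralizer ({(x : G)} : Set G)) := by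
      rw [← Subgroup.card_map_of_injective N.subtype_injective, Subgroup.subgroupOf_map_subtype, inf_comm]
    rw [← h1, Subgroup.card_eq_card_quotient_mul_card_subgroup (C x), Nat.mul_div_cancel _ Nat.card_pos]
  rw [finsum_eq_sum_of_fintype, Finset.sum_congr rfl (fun x _ => hC x), ← Nat.card_sigma]
  have hmemC : ∀ (x : (P : Subgroup G)) (n : N), n ∈ C x ↔ (n : G) * x = x * n := fun x n =>
    Subgroup.mem_centralizer_singleton_iff
  have hpel : ∀ (x : (P : Subgroup G)) (n : G), ∃ k : ℕ, orderOf (n * (x : G) * n⁻¹) = p ^ k := by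
    intro x n
    obtain ⟨k, hk⟩ := IsPGroup.iff_orderOf.1 P.isPGroup' x
    refine ⟨k, ?_⟩
    rw [← MulAut.conj_apply, MulEquiv.orderOf_eq, Subgroup.orderOf_coe, hk]
  symm
  refine Nat.card_congr (Equiv.ofBijective
    (fun a : Σ x : (P : Subgroup G), N ⧸ C x =>
      (⟨(a.2.out : G) * (a.1 : G) * (a.2.out : G)⁻¹, hpel a.1 _⟩ : {g : G // ∃ k : ℕ, orderOf g = p ^ k})) ⟨?_, ?_⟩)
  · rintro ⟨x, a⟩ ⟨y, b⟩ h
    have h' : (a.out : G) * (x : G) * (a.out : G)⁻¹ = (b.out : G) * (y : G) * (b.out : G)⁻¹ := congrArg Subtype.val h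
    set m : G := (b.out : G)⁻¹ * (a.out : G) with hm
    have hmN : m ∈ N := N.mul_mem (N.inv_mem b.out.2) a.out.2
    have hy : m * (x : G) * m⁻¹ = (y : G) := by
      calc m * (x : G) * m⁻¹ = (b.out : G)⁻¹ * ((a.out : G) * (x : G) * (a.out : G)⁻¹) * b.out := by
            simp [hm, mul_assoc]
        _ = (y : G) := by rw [h']; simp [mul_assoc]
    have hd : (y : G) * (x : G)⁻¹ = 1 := by
      refine Subgroup.disjoint_def.1 hNP.disjoint ?_ ((P : Subgroup G).mul_mem y.2 (inv_mem x.2))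
      rw [← hy]
      have := N.mul_mem hmN (‹N.Normal›.conj_mem _ (N.inv_mem hmN) (x : G))
      simpa [mul_assoc] using this
    obtain rfl : x = y := Subtype.ext (mul_inv_eq_one.1 hd).symm
    have hab : a = b := by
      rw [← a.out_eq', ← b.out_eq', eq_comm, QuotientGroup.eq, hmemC]
      exact mul_inv_eq_iff_eq_mul.1 hy
    subst hab
    rfl
  · rintro ⟨g, k, hg⟩
    have hgp : IsPGroup p (Subgroup.zpowers g) := IsPGroup.of_card (n := k) (by rw [Nat.card_zpowers, hg])
    obtain ⟨Q, hQ⟩ := hgp.exists_le_sylow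
    obtain ⟨c, rfl⟩ := MulAction.exists_smul_eq G P Q
    have hu := CfsgLib.Structure80.mem_smul_sylow.1 (hQ (Subgroup.mem_zpowers g))
    obtain ⟨⟨n, q⟩, hnq⟩ := (hNP.existsUnique c).exists
    simp only at hnq
    set x : (P : Subgroup G) := q * ⟨_, hu⟩ * q⁻¹ with hx
    refine ⟨⟨x, (n : N)⟩, Subtype.ext ?_⟩
    change ((QuotientGroup.mk n : N ⧸ C x).out : G) * (x : G) * ((QuotientGroup.mk n : N ⧸ C x).out : G)⁻¹ = g
    obtain ⟨h, hh⟩ := QuotientGroup.mk_out_eq_mul (C x) n
    rw [hh]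
    have hc := (hmemC x h).1 h.2
    have hgx : (n : G) * (x : G) * (n : G)⁻¹ = g := by
      simp only [hx, Subgroup.coe_mul, Subgroup.coe_inv]
      calc (n : G) * ((q : G) * (c⁻¹ * g * c) * (q : G)⁻¹) * (n : G)⁻¹ =
          ((n : G) * q) * c⁻¹ * g * c * ((n : G) * q)⁻¹ := by group
        _ = g := by rw [hnq]; group
    calc ((n * (h : N) : N) : G) * (x : G) * ((n * (h : N) : N) : G)⁻¹
        = (n : G) * (((h : N) : G) * (x : G) * ((h : N) : G)⁻¹) * (n : G)⁻¹ := by simp [mul_assoc]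
      _ = g := by rw [hc, mul_inv_cancel_right, hgx]

end Cfsg.Agent.S4093
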