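import Mathlib
import Cfsg.Prelude.Def_LocalEven
import Cfsg.Agent.Lib.AltCentral.Reduce
import Cfsg.Agent.Lib.AltCentral.ModuleFive
import Cfsg.Agent.Lib.AltCentral.ModuleTwo

set_option autoImplicit false
open Cfsg

namespace Cfsg.Agent.S4100

/-- Let G be a finite group and p a prime other than 3 such that the centralizer of every non-central element of p-power order is solvable. Then every alternating group of degree at least 5 involved in G (as a section) has degree at most p + 4, or at most p + 6 = 8 when p = 2. -/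
theorem result {G : Type*} [Group G] [Finite G] (p : ℕ) [Fact p.Prime] (hp3 : p ≠ 3)
    (h : ∀ x : G, x ∉ Subgroup.center G → (∃ k : ℕ, orderOf x = p ^ k) → Group.IsSolvable (Subgroup.centralizer ({x} : Set G)))
    (d : ℕ) (hd : 5 ≤ d) (hinv : Cfsg.Involves (alternatingGroup (Fin d)) G) :
    d ≤ p + 4 + (if p = 2 then 2 else 0) := by
  by_contra hcon
  push Not at hcon
  have hp := (Fact.out : p.Prime)
  rcases eq_or_ne p 2 with rfl | hp2
  · rw [if_pos rfl] at hcon
    obtain ⟨H, f, hf⟩ := CfsgLib.AltCentral.exists_hom (m := 9) (by omega : 9 ≤ d) hinv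
    refine CfsgLib.AltCentral.no_large_alt (Or.inr ⟨rfl, rfl⟩)
      (fun _ => CfsgLib.AltCentral.Two.fixedVectorCond) (Nat.card H) H rfl
      (CfsgLib.AltCentral.PCentSolvable.of_injective h H.subtype H.subtype_injective) f hf
  · rw [if_neg hp2] at hcon
    have h2 := hp.two_le
    have h4 : p ≠ 4 := fun h4 => by subst h4; norm_num at hp
    have h5 : 5 ≤ p := by omega
    obtain ⟨H, f, hf⟩ := CfsgLib.AltCentral.exists_hom (m := p + 5) (by omega : p + 5 ≤ d) hinv
    refine CfsgLib.AltCentral.no_large_alt (Or.inl ⟨h5, rfl⟩) (fun hle => ?_) (Nat.card H) H rfl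
      (CfsgLib.AltCentral.PCentSolvable.of_injective h H.subtype H.subtype_injective) f hf
    obtain rfl : p = 5 := le_antisymm hle h5
    exact CfsgLib.AltCentral.Five.fixedVectorCond

end Cfsg.Agent.S4100
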