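import Cfsg.Statements.S4105
import Cfsg.Agent.Lib.PiClasses.Bound

set_option autoImplicit false
open Cfsg

namespace Cfsg.Agent.S4105

/-- Let G be a finite group, π a set of primes with least member p, m the π-part of the order of G and k the number of conjugacy classes of G consisting of π-elements. If k > m·(p² + p − 1)/p³, then G has an abelian Hall π-subgroup (an abelian subgroup of order m). -/
theorem result {G : Type*} [Group G] [Finite G]
    (π : Set ℕ) (hπ : ∀ q ∈ π, q.Prime) (p : ℕ) (hp : p ∈ π) (hmin : ∀ q ∈ π, p ≤ q)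
    (m : ℕ) (hm : m ∣ Nat.card G) (hmπ : ∀ q : ℕ, q.Prime → q ∣ m → q ∈ π)
    (hm' : ∀ q ∈ π, ¬ q ∣ Nat.card G / m)
    (k : ℕ) (hk : k = Nat.card {C : ConjClasses G // ∀ q : ℕ, q.Prime → (∃ g : G, ConjClasses.mk g = C ∧ q ∣ orderOf g) → q ∈ π})
    (hmany : m * (p ^ 2 + p - 1) < p ^ 3 * k) :
    ∃ H : Subgroup G, Nat.card H = m ∧ IsMulCommutative H := by
  have hp2 := (hπ p hp).two_le
  have hmk : m < p * k := by
    by_contra h
    have h1 : p ^ 2 * (p * k) ≤ p ^ 2 * m := Nat.mul_le_mul_left _ (not_lt.1 h)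
    have h2 : m * p ^ 2 ≤ m * (p ^ 2 + p - 1) := Nat.mul_le_mul_left _ (by omega)
    nlinarith
  obtain ⟨H, hc, hn, hb⟩ :=
    CfsgLib.PiClasses.exists_hall_with_bound π hπ p hmin m hm hmπ hm' k hk hmk
  refine ⟨H, hc, ?_⟩
  set a := Nat.card (commutator H) with ha
  have ha1 : a = 1 := by
    by_contra hne
    obtain ⟨r, hr, hrd⟩ := Nat.exists_prime_and_dvd hne
    have hpr : p ≤ r := hmin r (hmπ r hr (hc ▸ hrd.trans (Subgroup.card_subgroup_dvd_card _)))
    obtain ⟨e, he⟩ : ∃ e, a = p + e :=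
      ⟨a - p, by have := Nat.le_of_dvd (ha ▸ Nat.card_pos) hrd; omega⟩
    obtain ⟨d, hd⟩ : ∃ d, p = d + 1 := ⟨p - 1, by omega⟩
    rw [he] at hb
    subst hd
    rw [show (d + 1) ^ 2 + (d + 1) - 1 = (d + 1) ^ 2 + d by omega] at hmany
    have h1 : (m * ((d + 1) ^ 2 + d) + 1) * (d + 1 + e) ≤ (d + 1) ^ 3 * k * (d + 1 + e) :=
      Nat.mul_le_mul_right _ hmany
    nlinarith [h1, Nat.mul_le_mul_left (d + 1) hb, Nat.zero_le (m * e * (d * (d + 2)))]
  exact ⟨⟨fun x y => commutatorElement_eq_one_iff_mul_comm.1 (Subgroup.mem_bot.1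
    (Subgroup.eq_bot_of_card_eq (commutator H) ha1 ▸
      Subgroup.commutator_mem_commutator (Subgroup.mem_top x) (Subgroup.mem_top y)))⟩⟩

end Cfsg.Agent.S4105
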