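import Cfsg.Statements.S4106
import Cfsg.Agent.Lib.Structure80.Basic

set_option autoImplicit false
open Cfsg

namespace Cfsg.Agent.S4106

section
variable {G : Type*} [Group G] [Finite G]

/-- Splitting off the `p`-part of an element. -/
lemma exists_split (p : ℕ) (hp : p.Prime) (g : G) :
    ∃ x y : G, x * y = g ∧ Commute x y ∧ (∃ e : ℕ, x ^ p ^ e = 1) ∧ orderOf y ∣ orderOf g ∧ ¬ p ∣ orderOf y := by
  obtain ⟨e, r, hr, hn⟩ := Nat.exists_eq_pow_mul_and_not_dvd (orderOf_pos g).ne' p hp.ne_one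
  have hcop : Nat.Coprime (p ^ e) r := (hp.coprime_iff_not_dvd.2 hr).pow_left e
  obtain ⟨u, v, huv⟩ := Int.isCoprime_iff_gcd_eq_one.2 ((Int.gcd_natCast_natCast (p ^ e) r).trans hcop :
    Int.gcd ((p ^ e : ℕ) : ℤ) (r : ℤ) = 1)
  have hgn : g ^ ((p ^ e : ℕ) * r : ℤ) = 1 := by
    rw [← Int.natCast_mul, zpow_natCast, ← hn, pow_orderOf_eq_one]
  refine ⟨g ^ (v * r), g ^ (u * (p ^ e : ℕ)), ?_, Commute.zpow_zpow_self g _ _, ⟨e, ?_⟩, ?_, ?_⟩
  · rw [← zpow_add, add_comm, huv, zpow_one]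
  · rw [← zpow_natCast, ← zpow_mul, show v * r * ((p ^ e : ℕ) : ℤ) = ((p ^ e : ℕ) * r : ℤ) * v by ring,
      zpow_mul, hgn, one_zpow]
  · exact orderOf_dvd_of_mem_zpowers ⟨_, rfl⟩
  · intro h
    apply hr
    refine h.trans (orderOf_dvd_of_pow_eq_one ?_)
    rw [← zpow_natCast, ← zpow_mul, show u * ((p ^ e : ℕ) : ℤ) * r = ((p ^ e : ℕ) * r : ℤ) * u by ring,
      zpow_mul, hgn, one_zpow]

end

/-- Count of classes with representatives whose order only involves primes in `S`. -/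
lemma count_le (S : Finset ℕ) (hS : ∀ p ∈ S, p.Prime) :
    ∀ (G : Type*) [Group G] [Finite G],
      Nat.card {C : ConjClasses G // ∃ g, ConjClasses.mk g = C ∧ ∀ q : ℕ, q.Prime → q ∣ orderOf g → q ∈ S} ≤
        ∏ p ∈ S, p ^ (Nat.card G).factorization p := by
  classical
  induction S using Finset.induction with
  | empty =>
    intro G _ _
    rw [Finset.prod_empty]
    refine Finite.card_le_one_iff_subsingleton.2 ⟨?_⟩
    have h1 : ∀ g : G, (∀ q : ℕ, q.Prime → q ∣ orderOf g → q ∈ (∅ : Finset ℕ)) → g = 1 := by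
      intro g hg
      rw [← orderOf_eq_one_iff, Nat.eq_one_iff_not_exists_prime_dvd]
      exact fun q hq hd => Finset.notMem_empty q (hg q hq hd)
    rintro ⟨C, g, rfl, hg⟩ ⟨D, d, rfl, hd⟩
    exact Subtype.ext ((congrArg ConjClasses.mk (h1 g hg)).trans (congrArg ConjClasses.mk (h1 d hd)).symm)
  | @insert p S hpS ih =>
    intro G _ _
    have hp : p.Prime := hS p (Finset.mem_insert_self _ _)
    have hS' : ∀ q ∈ S, q.Prime := fun q hq => hS q (Finset.mem_insert_of_mem hq)
    haveI := Fact.mk hp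
    obtain ⟨P⟩ := (inferInstance : Nonempty (Sylow p G))
    let Z : ↥(P : Subgroup G) → Subgroup G := fun x => Subgroup.centralizer ({(x : G)} : Set G)
    let T : ↥(P : Subgroup G) → Type _ := fun x =>
      {C : ConjClasses (Z x) // ∃ g, ConjClasses.mk g = C ∧ ∀ q : ℕ, q.Prime → q ∣ orderOf g → q ∈ S}
    have hrep : ∀ C : {C : ConjClasses G // ∃ g, ConjClasses.mk g = C ∧ ∀ q : ℕ, q.Prime → q ∣ orderOf g → q ∈ insert p S},
        ∃ (x : ↥(P : Subgroup G)) (y : Z x), ConjClasses.mk ((x : G) * (y : G)) = C.1 ∧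
          ∀ q : ℕ, q.Prime → q ∣ orderOf y → q ∈ S := by
      rintro ⟨C, g, rfl, hg⟩
      obtain ⟨x, y, hxy, hc, ⟨e, he⟩, hy, hpy⟩ := exists_split p hp g
      have hxp : IsPGroup p (Subgroup.zpowers x) := by
        obtain ⟨i, -, hi⟩ := (Nat.dvd_prime_pow hp).1 (orderOf_dvd_of_pow_eq_one he)
        exact IsPGroup.of_card (n := i) (by rw [Nat.card_zpowers, hi])
      obtain ⟨Q, hQ⟩ := hxp.exists_le_sylow
      obtain ⟨c, rfl⟩ := MulAction.exists_smul_eq G P Q
      have hu := CfsgLib.Structure80.mem_smul_sylow.1 (hQ (Subgroup.mem_zpowers x))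
      have hyc : c⁻¹ * y * c ∈ Z ⟨_, hu⟩ := by
        rw [Subgroup.mem_centralizer_singleton_iff]
        simpa using (hc.symm.map (MulAut.conj c⁻¹).toMonoidHom).eq
      refine ⟨⟨_, hu⟩, ⟨_, hyc⟩, ?_, ?_⟩
      · change ConjClasses.mk (c⁻¹ * x * c * (c⁻¹ * y * c)) = ConjClasses.mk g
        rw [ConjClasses.mk_eq_mk_iff_isConj, isConj_iff]
        exact ⟨c, by rw [← hxy]; group⟩
      · intro q hq hqd
        have hord : orderOf (c⁻¹ * y * c) = orderOf y := by simpa using MulEquiv.orderOf_eq (MulAut.conj c⁻¹) y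
        rw [Subgroup.orderOf_mk, hord] at hqd
        rcases Finset.mem_insert.1 (hg q hq (hqd.trans hy)) with rfl | h
        · exact absurd hqd hpy
        · exact h
    choose fx fy hf hfy using hrep
    have hinj : Function.Injective (fun C => (⟨fx C, ⟨ConjClasses.mk (fy C), fy C, rfl, hfy C⟩⟩ : Σ x, T x)) := by
      intro C D h
      apply Subtype.ext
      rw [← hf C, ← hf D]
      have h1 : fx C = fx D := congrArg Sigma.fst h
      have key : ∀ (a b : ↥(P : Subgroup G)) (y : Z a) (z : Z b) (hy : ∃ g, ConjClasses.mk g = ConjClasses.mk y ∧ ∀ q : ℕ, q.Prime → q ∣ orderOf g → q ∈ S)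
          (hz : ∃ g, ConjClasses.mk g = ConjClasses.mk z ∧ ∀ q : ℕ, q.Prime → q ∣ orderOf g → q ∈ S), a = b →
          (⟨a, ⟨ConjClasses.mk y, hy⟩⟩ : Σ x, T x) = ⟨b, ⟨ConjClasses.mk z, hz⟩⟩ →
          ConjClasses.mk ((a : G) * (y : G)) = ConjClasses.mk ((b : G) * (z : G)) := by
        rintro a b y z hy hz rfl he
        simp only [Sigma.mk.injEq, heq_eq_eq, true_and, T, Subtype.mk.injEq, ConjClasses.mk_eq_mk_iff_isConj, isConj_iff] at he ⊢
        obtain ⟨c, rfl⟩ := he
        refine ⟨(c : G), ?_⟩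
        have hca : (c : G) * (a : G) = (a : G) * c := Subgroup.mem_centralizer_singleton_iff.1 c.2
        simp only [Subgroup.coe_mul, Subgroup.coe_inv]
        rw [← mul_assoc, hca, mul_assoc, mul_assoc, mul_assoc]
      exact key _ _ _ _ _ _ h1 h
    refine (Nat.card_le_card_of_injective _ hinj).trans ?_
    letI := Fintype.ofFinite (P : Subgroup G)
    rw [Nat.card_sigma, Finset.prod_insert hpS]
    have hle : ∀ x, Nat.card (T x) ≤ ∏ q ∈ S, q ^ (Nat.card G).factorization q := fun x =>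
      (ih hS' (Z x)).trans (Finset.prod_le_prod' fun q hq => Nat.pow_le_pow_right (hS' q hq).pos
        ((Nat.factorization_le_iff_dvd Nat.card_pos.ne' Nat.card_pos.ne').2 (Subgroup.card_subgroup_dvd_card _) q))
    refine (Finset.sum_le_sum (fun x _ => hle x)).trans ?_
    rw [Finset.sum_const, Finset.card_univ, smul_eq_mul, ← Nat.card_eq_fintype_card, P.card_eq_multiplicity]

/-- Let G be a finite group, π a set of primes and m the π-part of the order of G. Then the number of conjugacy classes of G consisting of π-elements (elements whose order is divisible only by primes in π) is at most m. -/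
theorem result {G : Type*} [Group G] [Finite G]
    (π : Set ℕ) (hπ : ∀ q ∈ π, q.Prime)
    (m : ℕ) (hm : m ∣ Nat.card G) (hmπ : ∀ q : ℕ, q.Prime → q ∣ m → q ∈ π)
    (hm' : ∀ q ∈ π, ¬ q ∣ Nat.card G / m) :
    Nat.card {C : ConjClasses G // ∀ q : ℕ, q.Prime → (∃ g : G, ConjClasses.mk g = C ∧ q ∣ orderOf g) → q ∈ π} ≤ m := by
  classical
  set S := (Nat.card G).primeFactors.filter (fun q => q ∈ π) with hS
  have hSp : ∀ q ∈ S, q.Prime := fun q hq => Nat.prime_of_mem_primeFactors (Finset.mem_filter.1 hq).1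
  refine le_trans ?_ ((count_le S hSp G).trans ?_)
  · refine Nat.card_le_card_of_injective (fun C => (⟨C.1, ?_⟩ : {C : ConjClasses G // ∃ g, ConjClasses.mk g = C ∧
      ∀ q : ℕ, q.Prime → q ∣ orderOf g → q ∈ S})) (fun a b h => Subtype.ext (congrArg Subtype.val h :))
    obtain ⟨g, hg⟩ := ConjClasses.mk_surjective C.1
    refine ⟨g, hg, fun q hq hqd => Finset.mem_filter.2 ⟨?_, C.2 q hq ⟨g, hg, hqd⟩⟩⟩
    exact Nat.mem_primeFactors.2 ⟨hq, hqd.trans (orderOf_dvd_natCard g), Nat.card_pos.ne'⟩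
  · apply Nat.le_of_dvd (Nat.pos_of_ne_zero fun h => Nat.card_pos.ne' (by simpa [h] using hm))
    refine Finset.prod_dvd_of_isRelPrime (fun a ha b hb hab => ?_) (fun q hq => ?_)
    · exact Nat.coprime_iff_isRelPrime.1 (((Nat.coprime_primes (hSp a ha) (hSp b hb)).2 hab).pow _ _)
    · have hqπ : q ∈ π := (Finset.mem_filter.1 hq).2
      have hm0 : m ≠ 0 := fun h => Nat.card_pos.ne' (by simpa [h] using hm)
      have h2 : Nat.card G = m * (Nat.card G / m) := (Nat.mul_div_cancel' hm).symm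
      have h3 : Nat.card G / m ≠ 0 := fun h => Nat.card_pos.ne' (h2.trans (by rw [h, mul_zero]))
      rw [h2, Nat.factorization_mul hm0 h3, Finsupp.add_apply,
        Nat.factorization_eq_zero_of_not_dvd (hm' q hqπ), add_zero]
      exact Nat.ordProj_dvd m q

end Cfsg.Agent.S4106
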