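import Cfsg.Statements.S4107
import Cfsg.Agent.Lib.Solvable.Fitting

set_option autoImplicit false
open Cfsg

namespace Cfsg.Agent.S4107

/-- If `O_p(G)` is not inside `N`, then `N` is a `p`-group. -/
lemma isPGroup_of_not_le {G : Type*} [Group G] [Finite G] (N : Subgroup G)
    (heq : ∀ x : G, x ∉ N → ∀ n ∈ N, orderOf (x * n) = orderOf x)
    {p : ℕ} (hp : p.Prime) (h : ¬ Cfsg.pCore p G ≤ N) : IsPGroup p N := by
  haveI := Fact.mk hp
  obtain ⟨x, hx, hxN⟩ := SetLike.not_le_iff_exists.1 h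
  haveI := CfsgLib.Fitting.pCore_normal (G := G) p
  obtain ⟨k, hk⟩ := CfsgLib.Fitting.pCore_isPGroup p ⟨x, hx⟩
  intro n
  have hxk : x ^ p ^ k = 1 := by simpa using congrArg Subtype.val hk
  have hn : ((n : G)) ^ p ^ k ∈ Cfsg.pCore p G := by
    have h1 : (x * (n : G)) ^ p ^ k = 1 := by
      rw [← orderOf_dvd_iff_pow_eq_one, heq x hxN n n.2, orderOf_dvd_iff_pow_eq_one]
      exact hxk
    rw [← QuotientGroup.eq_one_iff (N := Cfsg.pCore p G)]
    have := congrArg (QuotientGroup.mk' (Cfsg.pCore p G)) h1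
    simp only [map_pow, map_mul, map_one] at this
    rw [QuotientGroup.mk'_apply, (QuotientGroup.eq_one_iff x).2 hx, one_mul] at this
    simpa using this
  obtain ⟨j, hj⟩ := CfsgLib.Fitting.pCore_isPGroup p ⟨_, hn⟩
  refine ⟨k + j, Subtype.ext ?_⟩
  rw [pow_add, pow_mul]
  simpa using congrArg Subtype.val hj

/-- Let G be a finite group and N a proper non-trivial normal subgroup such that for every x outside N all elements of the coset xN have the same order as x. Then N ≤ F(G) or F(G) ≤ N, where F(G) is the Fitting subgroup; and if N is properly contained in F(G) then F(G) has prime-power order. -/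
theorem result {G : Type*} [Group G] [Finite G] (N : Subgroup G) [N.Normal] (hN1 : N ≠ ⊥) (hN2 : N ≠ ⊤)
    (heq : ∀ x : G, x ∉ N → ∀ n ∈ N, orderOf (x * n) = orderOf x) :
    (N ≤ Cfsg.fittingSubgroup G ∨ Cfsg.fittingSubgroup G ≤ N) ∧
    (N < Cfsg.fittingSubgroup G → IsPrimePow (Nat.card (Cfsg.fittingSubgroup G))) := by
  by_cases hF : Cfsg.fittingSubgroup G ≤ N
  · exact ⟨Or.inr hF, fun hlt => absurd hF (not_le_of_gt hlt)⟩
  obtain ⟨p, hp, hpN⟩ : ∃ p : ℕ, p.Prime ∧ ¬ Cfsg.pCore p G ≤ N := by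
    by_contra hcon
    push Not at hcon
    apply hF
    rw [CfsgLib.Fitting.fitting_eq_iSup_pCore]
    exact iSup_le fun q => hcon q (Nat.prime_of_mem_primeFactors q.2)
  haveI := Fact.mk hp
  have hNp := isPGroup_of_not_le N heq hp hpN
  have hNle : N ≤ Cfsg.pCore p G := CfsgLib.Fitting.le_pCore inferInstance hNp
  refine ⟨Or.inl (hNle.trans (CfsgLib.Fitting.pCore_le_fitting hp)), fun _ => ?_⟩
  have hFp : Cfsg.fittingSubgroup G = Cfsg.pCore p G := by
    refine le_antisymm ?_ (CfsgLib.Fitting.pCore_le_fitting hp)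
    rw [CfsgLib.Fitting.fitting_eq_iSup_pCore]
    refine iSup_le fun ⟨q, hq⟩ => ?_
    have hq' := Nat.prime_of_mem_primeFactors hq
    by_cases hqp : q = p
    · subst hqp; exact le_rfl
    intro y hy
    haveI := Fact.mk hq'
    suffices y = 1 by simp [this]
    by_contra hy1
    have hyN : y ∉ N := fun hyN => hy1 <| Subgroup.disjoint_def.1
      (IsPGroup.disjoint_of_ne q p hqp _ _ (CfsgLib.Fitting.pCore_isPGroup q) hNp) hy hyN
    obtain ⟨n, hn, hn1⟩ := N.bot_or_exists_ne_one.resolve_left hN1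
    have hc : Commute y n := CfsgLib.Fitting.commute_pCore_of_ne hq' hp hqp hy (hNle hn)
    obtain ⟨i, hi⟩ := CfsgLib.Fitting.pCore_isPGroup q ⟨y, hy⟩
    obtain ⟨j, hj⟩ := hNp ⟨n, hn⟩
    have hcop : (orderOf y).Coprime (orderOf n) := by
      refine Nat.Coprime.of_dvd (orderOf_dvd_of_pow_eq_one (n := q ^ i) ?_)
        (orderOf_dvd_of_pow_eq_one (n := p ^ j) ?_) (Nat.coprime_pow_primes i j hq' hp hqp)
      · simpa using congrArg Subtype.val hi
      · simpa using congrArg Subtype.val hj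
    have hmul := hc.orderOf_mul_eq_mul_orderOf_of_coprime hcop
    rw [heq y hyN n hn] at hmul
    exact hn1 (orderOf_eq_one_iff.1 ((Nat.mul_eq_left (orderOf_pos y).ne').1 hmul.symm))
  rw [hFp]
  obtain ⟨k, hk⟩ := IsPGroup.iff_card.1 (CfsgLib.Fitting.pCore_isPGroup (G := G) p)
  have hk0 : k ≠ 0 := by
    rintro rfl
    apply hN1
    rw [pow_zero, Subgroup.card_eq_one] at hk
    exact le_bot_iff.1 (hk ▸ hNle)
  exact hk ▸ hp.isPrimePow.pow hk0

end Cfsg.Agent.S4107
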