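import Cfsg.Statements.S4108
import Mathlib
import Cfsg.Agent.Lib.Frobenius.Basic

set_option autoImplicit false
open Cfsg

namespace Cfsg.Agent.S4108

/-- Let G be a finite group, p a prime and N a proper non-trivial normal p-subgroup such that for every x outside N all elements of the coset xN have the same order as x. Then every non-trivial subgroup H of G of order prime to p acts fixed-point-freely on N: NH is a Frobenius group with complement H and kernel N. -/
theorem result {G : Type*} [Group G] [Finite G] (N : Subgroup G) [N.Normal] (hN1 : N ≠ ⊥) (hN2 : N ≠ ⊤)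
    (heq : ∀ x : G, x ∉ N → ∀ n ∈ N, orderOf (x * n) = orderOf x)
    (p : ℕ) [Fact p.Prime] (hNp : IsPGroup p N) :
    ∀ H : Subgroup G, H ≠ ⊥ → (Nat.card H).Coprime p →
      Cfsg.IsFrobeniusComplement (H.subgroupOf (N ⊔ H)) ∧ Cfsg.frobeniusKernel (H.subgroupOf (N ⊔ H)) = (N.subgroupOf (N ⊔ H) : Set ↥(N ⊔ H)) := by
  intro H hH1 hHp
  have hdisj : Disjoint N H := by
    obtain ⟨k, hk⟩ := IsPGroup.iff_card.1 hNp
    exact disjoint_iff.2 (Subgroup.inf_eq_bot_of_coprime
      (by rw [hk]; exact (hHp.symm).pow_left k))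
  have hKH : (N.subgroupOf (N ⊔ H)).IsComplement' (H.subgroupOf (N ⊔ H)) := by
    apply Subgroup.isComplement'_of_disjoint_and_mul_eq_univ
    · rw [Subgroup.disjoint_def]
      intro x hx hx'
      exact Subtype.ext (Subgroup.disjoint_def.1 hdisj hx hx')
    · rw [Set.eq_univ_iff_forall]
      intro x
      obtain ⟨n, hn, h, hh, he⟩ := Subgroup.mem_sup_of_normal_left.1 x.2
      exact ⟨⟨n, Subgroup.mem_sup_left hn⟩, hn, ⟨h, Subgroup.mem_sup_right hh⟩, hh, Subtype.ext he⟩
  haveI : (N.subgroupOf (N ⊔ H)).Normal := ‹N.Normal›.subgroupOf _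
  have hfrob : Cfsg.IsFrobeniusComplement (H.subgroupOf (N ⊔ H)) := by
    refine CfsgLib.Frobenius.isFrobeniusComplement_of_normal_complement hKH ?_ ?_ ?_
    · rw [ne_eq, Subgroup.subgroupOf_eq_bot, disjoint_iff, inf_of_le_left le_sup_left]
      exact hN1
    · rw [ne_eq, Subgroup.subgroupOf_eq_bot, disjoint_iff, inf_of_le_left le_sup_right]
      exact hH1
    · intro h hh hh1 k hk hc
      have hh' : (h : G) ∈ H := hh
      have hk' : (k : G) ∈ N := hk
      have hhN : (h : G) ∉ N := fun hmem =>
        hh1 (Subtype.ext (Subgroup.disjoint_def.1 hdisj hmem hh'))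
      have hcomm : Commute (h : G) (k : G) := congrArg Subtype.val hc
      have hcop : (orderOf (h : G)).Coprime (orderOf (k : G)) := by
        obtain ⟨i, hi⟩ := IsPGroup.iff_card.1 hNp
        refine Nat.Coprime.of_dvd (Subgroup.orderOf_dvd_natCard H hh') (Subgroup.orderOf_dvd_natCard N hk') ?_
        rw [hi]
        exact hHp.pow_right i
      have hmul := hcomm.orderOf_mul_eq_mul_orderOf_of_coprime hcop
      rw [heq _ hhN _ hk'] at hmul
      exact Subtype.ext (orderOf_eq_one_iff.1 ((Nat.mul_eq_left (orderOf_pos (h : G)).ne').1 hmul.symm))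
  exact ⟨hfrob, (CfsgLib.Frobenius.normal_complement_eq_kernel hfrob hKH).symm⟩

end Cfsg.Agent.S4108
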