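import Cfsg.Statements.S4112
import Mathlib
import Cfsg.Agent.Lib.Solvable.Fitting

set_option autoImplicit false
open Cfsg

namespace Cfsg.Agent.S4112

/-- If the element centralizers of `M \ {1}` lie in `N` then `[G : N]` is prime to `#M`. -/
lemma coprime_of_centralizer_le {G : Type*} [Group G] [Finite G] (N M : Subgroup G) [N.Normal] [M.Normal]
    (h : ∀ x ∈ M, x ≠ 1 → Subgroup.centralizer ({x} : Set G) ≤ N) : N.index.Coprime (Nat.card M) := by
  apply Nat.coprime_of_dvd
  intro p hp hpi hpM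
  haveI := Fact.mk hp
  obtain ⟨P⟩ := (inferInstance : Nonempty (Sylow p G))
  letI : MulAction (P : Subgroup G) M :=
    { smul := fun g m => ⟨g * m * (g : G)⁻¹, ‹M.Normal›.conj_mem _ m.2 _⟩
      one_smul := fun m => by
        apply Subtype.ext
        change ((1 : (P : Subgroup G)) : G) * m * ((1 : (P : Subgroup G)) : G)⁻¹ = m
        simp
      mul_smul := fun a b m => by
        apply Subtype.ext
        change ((a * b : (P : Subgroup G)) : G) * m * ((a * b : (P : Subgroup G)) : G)⁻¹ =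
          (a : G) * ((b : G) * m * (b : G)⁻¹) * (a : G)⁻¹
        simp [mul_assoc] }
  have hmod := P.isPGroup'.card_modEq_card_fixedPoints M
  have hfix : p ∣ Nat.card (MulAction.fixedPoints (P : Subgroup G) M) :=
    Nat.modEq_zero_iff_dvd.1 (hmod.symm.trans (Nat.modEq_zero_iff_dvd.2 hpM))
  have h1 : (1 : M) ∈ MulAction.fixedPoints (P : Subgroup G) M := by
    intro g
    apply Subtype.ext
    change (g : G) * (1 : M) * (g : G)⁻¹ = (1 : M)
    simp
  haveI : Nonempty (MulAction.fixedPoints (P : Subgroup G) M) := ⟨⟨1, h1⟩⟩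
  have h2 : 1 < Nat.card (MulAction.fixedPoints (P : Subgroup G) M) :=
    hp.one_lt.trans_le (Nat.le_of_dvd Nat.card_pos hfix)
  haveI := Finite.one_lt_card_iff_nontrivial.1 h2
  obtain ⟨⟨x, hx⟩, hx1⟩ := exists_ne (⟨1, h1⟩ : MulAction.fixedPoints (P : Subgroup G) M)
  have hxne : (x : G) ≠ 1 := fun he => hx1 (Subtype.ext (Subtype.ext he))
  have hPN : (P : Subgroup G) ≤ N := by
    intro g hg
    apply h x x.2 hxne
    rw [Subgroup.mem_centralizer_singleton_iff]
    have := congrArg Subtype.val (hx ⟨g, hg⟩)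
    change g * (x : G) * g⁻¹ = x at this
    rw [mul_inv_eq_iff_eq_mul] at this
    exact this
  exact P.not_dvd_index (hpi.trans (Subgroup.index_dvd_of_le hPN))

/-- Let G be a finite group and M ≤ N non-trivial proper normal subgroups such that for every g outside N the conjugacy class of g is a union of cosets of M (equivalently gm is conjugate to g for every m ∈ M). Then (1) and (2) below are equivalent, and they imply (3): (1) every g outside N acts fixed-point-freely on M, that is C_G(x) ≤ N for every x ∈ M, x ≠ 1; (2) the index of N in G is coprime to the order of M; (3) there is a subgroup H of G with HN = G and H ∩ M = 1. -/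
theorem result {G : Type*} [Group G] [Finite G] (N M : Subgroup G) [N.Normal] [M.Normal] (hMN : M ≤ N) (hM1 : M ≠ ⊥) (hN2 : N ≠ ⊤)
    (hcam : ∀ g : G, g ∉ N → ∀ m ∈ M, ∃ x : G, x * g * x⁻¹ = g * m) :
    ((∀ x ∈ M, x ≠ 1 → Subgroup.centralizer ({x} : Set G) ≤ N) ↔ N.index.Coprime (Nat.card M)) ∧
    ((∀ x ∈ M, x ≠ 1 → Subgroup.centralizer ({x} : Set G) ≤ N) → ∃ H : Subgroup G, H ⊔ N = ⊤ ∧ H ⊓ M = ⊥) := by
  refine ⟨⟨coprime_of_centralizer_le N M, ?_⟩, fun h => ?_⟩
  · intro hcop x hx hx1 g hg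
    set C := Subgroup.centralizer ({x} : Set G) with hC
    by_contra hgN
    obtain ⟨q, hq, Q, hQ⟩ : ∃ q : ℕ, ∃ _ : Fact q.Prime, ∃ Q : Sylow q C, ¬ (Q : Subgroup C) ≤ N.subgroupOf C := by
      by_contra hcon
      push Not at hcon
      have htop : N.subgroupOf C = ⊤ := by
        apply CfsgLib.Fitting.eq_top_of_forall_sylow_le
        intro q hq _
        haveI := Fact.mk hq
        obtain ⟨Q⟩ := (inferInstance : Nonempty (Sylow q C))
        exact ⟨Q, hcon q inferInstance Q⟩
      exact hgN (Subgroup.subgroupOf_eq_top.1 htop hg)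
    obtain ⟨y, hyQ, hyN⟩ := SetLike.not_le_iff_exists.1 hQ
    obtain ⟨k, hk⟩ := Q.isPGroup' ⟨y, hyQ⟩
    have hyk : (y : G) ^ q ^ k = 1 := by
      simpa using congrArg Subtype.val (congrArg Subtype.val hk)
    -- `q` divides the index of `N`
    have hqN : q ∣ N.index := by
      have h0 : ((QuotientGroup.mk' N) (y : G)) ≠ 1 := fun h => hyN ((QuotientGroup.eq_one_iff (N := N) (y : G)).1 h)
      have h1 : ((QuotientGroup.mk' N) (y : G)) ^ q ^ k = 1 := by rw [← map_pow, hyk, map_one]
      obtain ⟨i, -, hi⟩ := (Nat.dvd_prime_pow hq.out).1 (orderOf_dvd_of_pow_eq_one h1)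
      have hd : orderOf ((QuotientGroup.mk' N) (y : G)) ∣ N.index := orderOf_dvd_natCard _
      have hi0 : i ≠ 0 := by
        rintro rfl
        exact h0 (orderOf_eq_one_iff.1 (by simpa using hi))
      exact (dvd_pow_self q hi0).trans (hi ▸ hd)
    obtain ⟨z, hz⟩ := hcam y hyN x hx
    have hord : orderOf ((y : G) * x) = orderOf (y : G) := by
      rw [← hz, ← MulAut.conj_apply, MulEquiv.orderOf_eq]
    have hc : Commute (y : G) x := Subgroup.mem_centralizer_singleton_iff.1 y.2
    have hxk : x ^ q ^ k = 1 := by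
      have := orderOf_dvd_iff_pow_eq_one.1 (hord ▸ orderOf_dvd_of_pow_eq_one hyk)
      rwa [hc.mul_pow, hyk, one_mul] at this
    have hcq : (q ^ k).Coprime (Nat.card M) := (hcop.coprime_dvd_left hqN).pow_left k
    have : orderOf x ∣ 1 := hcq.gcd_eq_one ▸
      Nat.dvd_gcd (orderOf_dvd_of_pow_eq_one hxk) (Subgroup.orderOf_dvd_natCard M hx)
    exact hx1 (orderOf_eq_one_iff.1 (Nat.dvd_one.1 this))
  · classical
    have hcop := coprime_of_centralizer_le N M h
    obtain ⟨H, hH, hmin⟩ := Set.exists_min_image {H : Subgroup G | H ⊔ N = ⊤} (fun H => Nat.card H)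
      (Set.toFinite _) ⟨⊤, top_sup_eq N⟩
    have hmin' : ∀ K : Subgroup G, K ≤ H → K ⊔ N = ⊤ → K = H := fun K hK hKN =>
      Subgroup.eq_of_le_of_card_ge hK (hmin K hKN)
    refine ⟨H, hH, ?_⟩
    by_contra hHM
    have hc1 : Nat.card ↥(H ⊓ M) ≠ 1 := fun hc => hHM (Subgroup.card_eq_one.1 hc)
    obtain ⟨r, hr, hrd⟩ := Nat.exists_prime_and_dvd hc1
    haveI := Fact.mk hr
    have hrN : ¬ r ∣ N.index := fun hd =>
      hr.not_dvd_one (hcop.gcd_eq_one ▸ Nat.dvd_gcd hd (hrd.trans (Subgroup.card_dvd_of_le inf_le_right)))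
    obtain ⟨R⟩ := (inferInstance : Nonempty (Sylow r H))
    have hRN : (R : Subgroup H) ≤ N.subgroupOf H := by
      intro u hu
      obtain ⟨k, hk⟩ := R.isPGroup' ⟨u, hu⟩
      have huk : (u : G) ^ r ^ k = 1 := by
        simpa using congrArg Subtype.val (congrArg Subtype.val hk)
      rw [Subgroup.mem_subgroupOf, ← QuotientGroup.eq_one_iff, ← orderOf_eq_one_iff]
      apply Nat.eq_one_of_dvd_coprimes (((hr.coprime_iff_not_dvd).2 hrN).pow_left k)
      · exact orderOf_dvd_of_pow_eq_one (by rw [← QuotientGroup.mk_pow, huk]; rfl)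
      · exact orderOf_dvd_natCard _
    haveI hNH : (N.subgroupOf H).Normal := ‹N.Normal›.subgroupOf H
    have hfr := Sylow.normalizer_sup_eq_top' R hRN
    have hmap : ∀ L : Subgroup H, L ⊔ N.subgroupOf H = ⊤ → L = ⊤ := by
      intro L hL
      have h1 : L.map H.subtype ⊔ N = ⊤ := by
        rw [eq_top_iff, ← hH]
        refine sup_le ?_ le_sup_right
        intro u hu
        have : (⟨u, hu⟩ : H) ∈ L ⊔ N.subgroupOf H := hL ▸ Subgroup.mem_top _
        obtain ⟨a, ha, b, hb, hab⟩ := Subgroup.mem_sup_of_normal_right.1 this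
        have : (a : G) * b = u := congrArg Subtype.val hab
        rw [← this]
        exact Subgroup.mul_mem_sup ⟨a, ha, rfl⟩ hb
      have h2 := hmin' _ (Subgroup.map_subtype_le L) h1
      rw [eq_top_iff]
      intro u _
      have : (u : G) ∈ L.map H.subtype := h2.symm ▸ u.2
      obtain ⟨a, ha, hau⟩ := this
      exact Subtype.ext hau ▸ ha
    haveI : (R : Subgroup H).Normal := Subgroup.normalizer_eq_top_iff.1 (hmap _ hfr)
    obtain ⟨K, hK⟩ := Subgroup.exists_right_complement'_of_coprime (R.card_coprime_index)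
    have hKtop : K = ⊤ := hmap K (by
      rw [eq_top_iff, ← hK.sup_eq_top]
      exact sup_le (hRN.trans le_sup_right) le_sup_left)
    have hR1 : Nat.card (R : Subgroup H) = 1 := by
      have := hK.card_mul
      rw [hKtop, Subgroup.card_top] at this
      exact (Nat.mul_eq_right Nat.card_pos.ne').1 this
    have hrH : r ∣ Nat.card H := hrd.trans (Subgroup.card_dvd_of_le inf_le_left)
    exact hr.not_dvd_one (hR1 ▸ R.dvd_card_of_dvd_card hrH)

end Cfsg.Agent.S4112
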