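import Cfsg.Statements.S4113
import Cfsg.Agent.Lib.Structure80.Basic

set_option autoImplicit false
open Cfsg

namespace Cfsg.Agent.S4113

/-- Let G be a finite group, M ≤ N non-trivial proper normal subgroups, and H a subgroup with HM = G and H ∩ M = 1. Then every element of G outside N acts fixed-point-freely on M (C_G(x) ≤ N for every x ∈ M, x ≠ 1) if and only if H ∩ gHg⁻¹ ≤ H ∩ N for every g outside H, with H proper and non-trivial and H ∩ N proper in H. -/
theorem result {G : Type*} [Group G] [Finite G] (N M : Subgroup G) [N.Normal] [M.Normal] (hMN : M ≤ N) (hM1 : M ≠ ⊥) (hN2 : N ≠ ⊤)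
    (H : Subgroup G) (hHM : H ⊔ M = ⊤) (hHM' : H ⊓ M = ⊥) :
    (∀ x ∈ M, x ≠ 1 → Subgroup.centralizer ({x} : Set G) ≤ N) ↔
      (H ≠ ⊥ ∧ H ≠ ⊤ ∧ H ⊓ N < H ∧ ∀ g : G, g ∉ H → H ⊓ H.map (MulAut.conj g).toMonoidHom ≤ N) := by
  constructor
  · intro h
    refine ⟨?_, ?_, ?_, ?_⟩
    · rintro rfl
      rw [bot_sup_eq] at hHM
      exact hN2 (top_le_iff.1 (hHM ▸ hMN))
    · rintro rfl
      rw [top_inf_eq] at hHM'
      exact hM1 hHM'
    · refine lt_of_le_of_ne inf_le_left (fun he => hN2 ?_)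
      have hle : H ≤ N := he ▸ inf_le_right
      rw [eq_top_iff, ← hHM]
      exact sup_le hle hMN
    · intro g hg x hx
      obtain ⟨hxH, u, hu, rfl⟩ := Subgroup.mem_inf.1 hx
      simp only [MulEquiv.coe_toMonoidHom, MulAut.conj_apply] at hxH ⊢
      obtain ⟨a, ha, m, hm, rfl⟩ :=
        Subgroup.mem_sup_of_normal_right.1 (show g ∈ H ⊔ M from hHM ▸ Subgroup.mem_top _)
      have hm1 : m ≠ 1 := fun he => hg (by simpa [he] using ha)
      have hv : m * u * m⁻¹ ∈ H := by
        have := H.mul_mem (H.mul_mem (H.inv_mem ha) hxH) ha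
        simpa [mul_assoc] using this
      have hvu : m * u * m⁻¹ * u⁻¹ ∈ H ⊓ M := by
        refine ⟨H.mul_mem hv (H.inv_mem hu), ?_⟩
        have := M.mul_mem hm (‹M.Normal›.conj_mem _ (M.inv_mem hm) u)
        simpa [mul_assoc] using this
      rw [hHM', Subgroup.mem_bot, mul_inv_eq_one, mul_inv_eq_iff_eq_mul] at hvu
      exact ‹N.Normal›.conj_mem u (h m hm hm1 (Subgroup.mem_centralizer_singleton_iff.2 hvu.symm)) _
  · rintro ⟨-, -, -, hFW⟩ x hx hx1
    by_contra hC
    obtain ⟨q, hq, y, hyC, hyN, k, hyk⟩ := CfsgLib.Structure80.exists_primePow_mem_not_mem hC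
    haveI := Fact.mk hq
    have hqN := CfsgLib.Structure80.dvd_index_of_pow_eq_one_of_not_mem N hq hyN hyk
    obtain ⟨Q0⟩ := (inferInstance : Nonempty (Sylow q H))
    have hQ0G : IsPGroup q ((Q0 : Subgroup H).map H.subtype) := Q0.isPGroup'.map _
    obtain ⟨Q, hQ⟩ := hQ0G.exists_le_sylow
    have hQ0N : ¬ (Q0 : Subgroup H).map H.subtype ≤ N := by
      intro hle
      have h1 : (Q0 : Subgroup H) ≤ N.subgroupOf H := Subgroup.map_le_iff_le_comap.1 hle
      have h2 : (N.subgroupOf H).index = N.index := by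
        change N.relIndex H = N.index
        have htop : H ⊔ N = ⊤ := by
          rw [eq_top_iff, ← hHM]
          exact sup_le le_sup_left (hMN.trans le_sup_right)
        rw [← Subgroup.relIndex_sup_right H N, htop, Subgroup.relIndex_top_right]
      exact Q0.not_dvd_index (hqN.trans (h2 ▸ Subgroup.index_dvd_of_le h1))
    have hQeq : (Q0 : Subgroup H).map H.subtype = Q := by
      by_contra hne
      have hlt : (Q0 : Subgroup H).map H.subtype < Q := lt_of_le_of_ne hQ hne
      haveI := Q.isPGroup'.isNilpotent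
      set R := ((Q0 : Subgroup H).map H.subtype).subgroupOf (Q : Subgroup G) with hR
      have hRlt : R < ⊤ := by
        rw [lt_top_iff_ne_top, hR, ne_eq, Subgroup.subgroupOf_eq_top]
        exact not_le_of_gt hlt
      obtain ⟨z, hz, hzR⟩ := SetLike.exists_of_lt (normalizerCondition_of_isNilpotent R hRlt)
      have hzmem : ∀ u ∈ (Q0 : Subgroup H).map H.subtype, (z : G) * u * (z : G)⁻¹ ∈ (Q0 : Subgroup H).map H.subtype :=
        fun u hu => (Subgroup.mem_normalizer_iff.1 hz ⟨u, hQ hu⟩).1 hu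
      have hzH : (z : G) ∉ H := by
        intro hzH
        apply hzR
        rw [hR, Subgroup.mem_subgroupOf]
        have hp : IsPGroup q ((Q : Subgroup G).subgroupOf H) :=
          Q.isPGroup'.comap_of_injective _ H.subtype_injective
        have hle : (Q0 : Subgroup H) ≤ (Q : Subgroup G).subgroupOf H := Subgroup.map_le_iff_le_comap.1 hQ
        have := Q0.3 hp hle
        exact ⟨⟨z, hzH⟩, this ▸ z.2, rfl⟩
      apply hQ0N
      intro u hu
      apply hFW (z : G) hzH
      refine ⟨Subgroup.map_subtype_le _ hu, (z : G)⁻¹ * u * z, ?_, by simp [mul_assoc]⟩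
      have hzi : (z⁻¹ : (Q : Subgroup G)) ∈ Subgroup.normalizer (R : Set (Q : Subgroup G)) := inv_mem hz
      have := (Subgroup.mem_normalizer_iff.1 hzi ⟨u, hQ hu⟩).1 hu
      refine Subgroup.map_subtype_le (Q0 : Subgroup H) (show (z : G)⁻¹ * u * z ∈ (Q0 : Subgroup H).map H.subtype from ?_)
      simpa [hR, Subgroup.mem_subgroupOf] using this
    have hyp : IsPGroup q (Subgroup.zpowers y) := by
      obtain ⟨i, -, hi⟩ := (Nat.dvd_prime_pow hq).1 (orderOf_dvd_of_pow_eq_one hyk)
      exact IsPGroup.of_card (n := i) (by rw [Nat.card_zpowers, hi])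
    obtain ⟨Q', hQ'⟩ := hyp.exists_le_sylow
    obtain ⟨a, rfl⟩ := MulAction.exists_smul_eq G Q Q'
    have hu := CfsgLib.Structure80.mem_smul_sylow.1 (hQ' (Subgroup.mem_zpowers y))
    rw [← hQeq] at hu
    have huH : a⁻¹ * y * a ∈ H := Subgroup.map_subtype_le _ hu
    have hxM : a⁻¹ * x * a ∈ M := ‹M.Normal›.conj_mem' x hx a
    have hxH : a⁻¹ * x * a ∉ H := fun hh => hx1 (by
      have : a⁻¹ * x * a ∈ H ⊓ M := ⟨hh, hxM⟩
      rw [hHM', Subgroup.mem_bot] at this
      calc x = a * (a⁻¹ * x * a) * a⁻¹ := by group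
        _ = 1 := by rw [this]; group)
    have hc : Commute (a⁻¹ * x * a) (a⁻¹ * y * a) := by
      have h0 : Commute y x := Subgroup.mem_centralizer_singleton_iff.1 hyC
      have := h0.symm.map (MulAut.conj a⁻¹).toMonoidHom
      simpa using this
    have hin := hFW _ hxH ⟨huH, a⁻¹ * y * a, huH, by
      simp only [MulEquiv.coe_toMonoidHom, MulAut.conj_apply]
      rw [hc.eq, mul_inv_cancel_right]⟩
    apply hyN
    have := ‹N.Normal›.conj_mem _ hin a
    simpa [mul_assoc] using this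

end Cfsg.Agent.S4113
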