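import Cfsg.Statements.S4116
import Cfsg.Agent.Lib.Structure80.Basic

set_option autoImplicit false
open Cfsg

namespace Cfsg.Agent.S4116

section
variable {G : Type*} [Group G]

/-- The trace in `K` of the conjugate of `H` by `g`. -/
def tr (H K : Subgroup G) (g : G) : Subgroup K :=
  H.comap ((MulAut.conj g⁻¹).toMonoidHom.comp K.subtype)

lemma mem_tr {H K : Subgroup G} {g : G} {u : K} : u ∈ tr H K g ↔ g⁻¹ * (u : G) * g ∈ H := by
  simp [tr]

/-- An element of `N(H)` whose order only involves primes of `H` is in the Hall subgroup `H`. -/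
lemma mem_of_normalizer [Finite G] (H : Subgroup G) (hHall : (Nat.card H).Coprime H.index)
    {u : G} (hu : u ∈ Subgroup.normalizer (H : Set G))
    (hπ : ∀ q : ℕ, q.Prime → q ∣ orderOf u → q ∣ Nat.card H) : u ∈ H := by
  set N := Subgroup.normalizer (H : Set G)
  haveI hn : (H.subgroupOf N).Normal := Subgroup.normal_in_normalizer
  have hd : (H.subgroupOf N).index ∣ H.index := Subgroup.relIndex_dvd_index_of_le Subgroup.le_normalizer
  have h0 : orderOf ((QuotientGroup.mk' (H.subgroupOf N)) ⟨u, hu⟩) = 1 := by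
    apply Nat.eq_one_iff_not_exists_prime_dvd.2
    intro q hq hqd
    have h1 : q ∣ H.index := (hqd.trans (orderOf_dvd_natCard _)).trans hd
    have h2 : q ∣ Nat.card H := hπ q hq (by
      rw [← Subgroup.orderOf_mk u hu]
      exact hqd.trans (orderOf_map_dvd _ _))
    exact hq.not_dvd_one (hHall.gcd_eq_one ▸ Nat.dvd_gcd h2 h1)
  have h3 := (QuotientGroup.eq_one_iff (N := H.subgroupOf N) ⟨u, hu⟩).1 (orderOf_eq_one_iff.1 h0)
  exact h3

/-- A nontrivial element of two conjugates of `H` identifies them. -/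
lemma mem_normalizer_of_mem {H : Subgroup G} (hTI : Cfsg.IsTISubset (H : Set G)) {g g' v : G}
    (hv : v ≠ 1) (h1 : g⁻¹ * v * g ∈ H) (h2 : g'⁻¹ * v * g' ∈ H) :
    g'⁻¹ * g ∈ Subgroup.normalizer (H : Set G) := by
  by_contra hn
  have := hTI _ hn _ h1 (by simpa [mul_assoc] using h2)
  apply hv
  calc v = g * (g⁻¹ * v * g) * g⁻¹ := by group
    _ = 1 := by rw [this]; group

end

/-- Let G be a finite group with a subgroup H whose order is coprime to its index (a Hall subgroup) and which meets each of its conjugates by elements outside N_G(H) trivially. Then every subgroup of G whose order is divisible only by primes dividing the order of H lies in a conjugate of H. -/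
theorem result {G : Type*} [Group G] [Finite G] (H : Subgroup G)
    (hHall : (Nat.card H).Coprime H.index) (hTI : Cfsg.IsTISubset (H : Set G))
    (K : Subgroup G) (hK : ∀ q : ℕ, q.Prime → q ∣ Nat.card K → q ∣ Nat.card H) :
    ∃ g : G, K ≤ H.map (MulAut.conj g).toMonoidHom := by
  have hnorm : ∀ g : G, ∀ k : K, g⁻¹ * (k : G) * g ∈ Subgroup.normalizer (H : Set G) → k ∈ tr H K g := by
    intro g k hk
    rw [mem_tr]
    refine mem_of_normalizer H hHall hk (fun q hq hqd => hK q hq (hqd.trans ?_))
    have : orderOf (g⁻¹ * (k : G) * g) = orderOf (k : G) := by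
      have := MulEquiv.orderOf_eq (MulAut.conj g⁻¹) (k : G)
      simpa using this
    rw [this]
    exact Subgroup.orderOf_dvd_natCard K k.2
  -- every Sylow subgroup of `K` lies in a trace
  have hsyl : ∀ q : ℕ, q.Prime → q ∣ Nat.card K → ∀ Q : Sylow q K, ∃ g, (Q : Subgroup K) ≤ tr H K g := by
    intro q hq hqK Q
    haveI := Fact.mk hq
    obtain ⟨R⟩ := (inferInstance : Nonempty (Sylow q H))
    have hR : IsPGroup q ((R : Subgroup H).map H.subtype) := R.isPGroup'.map _
    obtain ⟨P, hP⟩ := hR.exists_le_sylow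
    have hidx : ¬ q ∣ H.index := fun hd =>
      hq.not_dvd_one (hHall.gcd_eq_one ▸ Nat.dvd_gcd (hK q hq hqK) hd)
    have hcard : Nat.card (P : Subgroup G) ≤ Nat.card ((R : Subgroup H).map H.subtype) := by
      rw [Subgroup.card_map_of_injective H.subtype_injective, Sylow.card_eq_multiplicity,
        Sylow.card_eq_multiplicity]
      have h1 : Nat.card H * H.index = Nat.card G := H.card_mul_index
      rw [← h1, Nat.factorization_mul Nat.card_pos.ne' Subgroup.index_ne_zero_of_finite,
        Finsupp.add_apply, Nat.factorization_eq_zero_of_not_dvd hidx, add_zero]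
    have hPH : (P : Subgroup G) ≤ H := by
      rw [← Subgroup.eq_of_le_of_card_ge hP hcard]
      exact Subgroup.map_subtype_le _
    obtain ⟨P', hP'⟩ := (Q.isPGroup'.map K.subtype).exists_le_sylow
    obtain ⟨g, rfl⟩ := MulAction.exists_smul_eq G P P'
    refine ⟨g, fun u hu => ?_⟩
    rw [mem_tr]
    exact hPH (CfsgLib.Structure80.mem_smul_sylow.1 (hP' ⟨u, hu, rfl⟩))
  have hinj : ∀ g g' : G, ∀ c c' : K, ∀ a : K, a ≠ 1 → a ∈ tr H K g →
      c'⁻¹ * (c * a * c⁻¹) * c' ∈ tr H K g' → g'⁻¹ * ((c'⁻¹ * c : K) : G) * g ∈ Subgroup.normalizer (H : Set G) := by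
    intro g g' c c' a ha h1 h2
    rw [mem_tr] at h1 h2
    have h3 := mem_normalizer_of_mem hTI (g := (c : G) * g) (g' := (c' : G) * g') (v := (c : G) * a * (c : G)⁻¹)
      (fun h => ha (Subtype.ext (by simpa using h))) (by simpa [mul_assoc] using h1)
      (by simpa [mul_assoc] using h2)
    simpa [mul_assoc] using h3
  rcases eq_or_ne K ⊥ with rfl | hKne
  · exact ⟨1, bot_le⟩
  obtain ⟨q, hq, hqK⟩ := Nat.exists_prime_and_dvd (fun h => hKne (Subgroup.card_eq_one.1 h))
  haveI := Fact.mk hq
  obtain ⟨Q⟩ := (inferInstance : Nonempty (Sylow q K))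
  obtain ⟨g, hg⟩ := hsyl q hq hqK Q
  set A := tr H K g with hA
  have hA2 : 2 ≤ Nat.card A := by
    have h1 := Q.dvd_card_of_dvd_card hqK
    exact hq.two_le.trans (Nat.le_of_dvd Nat.card_pos (h1.trans (Subgroup.card_dvd_of_le hg)))
  -- all nontrivial traces are conjugate to `A` in `K`
  have hone : ∀ g' : G, tr H K g' ≠ ⊥ → Nat.card (tr H K g') = Nat.card A := by
    intro g' hB
    set B := tr H K g' with hBdef
    classical
    letI := Fintype.ofFinite G
    let f : (K ⧸ A) × {a : A // a ≠ 1} ⊕ (K ⧸ B) × {b : B // b ≠ 1} → {k : K // k ≠ 1} :=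
      Sum.elim
        (fun x => ⟨x.1.out * (x.2.1 : K) * x.1.out⁻¹, fun h => x.2.2 (Subtype.ext (by simpa using h))⟩)
        (fun x => ⟨x.1.out * (x.2.1 : K) * x.1.out⁻¹, fun h => x.2.2 (Subtype.ext (by simpa using h))⟩)
    by_cases hf : Function.Injective f
    · exfalso
      have hcard := Nat.card_le_card_of_injective f hf
      rw [Nat.card_sum, Nat.card_prod, Nat.card_prod] at hcard
      have hsub : ∀ (L : Type _) [Group L] [Finite L], Nat.card {a : L // a ≠ 1} = Nat.card L - 1 := by
        intro L _ _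
        letI := Fintype.ofFinite L
        rw [Nat.card_eq_fintype_card, Nat.card_eq_fintype_card, Fintype.card_subtype_compl,
          Fintype.card_subtype_eq]
      rw [hsub A, hsub B, hsub K] at hcard
      have eA := A.index_mul_card
      have eB := B.index_mul_card
      change A.index * _ + B.index * _ ≤ _ at hcard
      have hB2 : 2 ≤ Nat.card B := by
        have := Subgroup.one_lt_card_iff_ne_bot B |>.2 hB
        omega
      have hA2' : A.index * 2 ≤ A.index * Nat.card A := Nat.mul_le_mul_left _ hA2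
      have hB2' : B.index * 2 ≤ B.index * Nat.card B := Nat.mul_le_mul_left _ hB2
      rw [Nat.mul_sub_one, Nat.mul_sub_one] at hcard
      have : 0 < Nat.card K := Nat.card_pos
      omega
    · have hmix : ∀ g₁ : G, ∀ c c' : K ⧸ tr H K g₁, ∀ a a' : tr H K g₁, a ≠ 1 →
          c.out * (a : K) * c.out⁻¹ = c'.out * (a' : K) * c'.out⁻¹ → c = c' ∧ a = a' := by
        intro g₁ c c' a a' ha h
        have h2 : c'.out⁻¹ * (c.out * (a : K) * c.out⁻¹) * c'.out ∈ tr H K g₁ := by
          rw [h]; simp [mul_assoc]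
        have h3 := hnorm g₁ _ (hinj g₁ g₁ c.out c'.out a (fun h' => ha (Subtype.ext h')) a.2 h2)
        have hcc : c = c' := by
          rw [← c.out_eq', ← c'.out_eq', eq_comm, QuotientGroup.eq]
          exact h3
        subst hcc
        exact ⟨rfl, Subtype.ext (by simpa using h)⟩
      obtain ⟨c, c', a, b, ha, hb, h⟩ : ∃ (c : K ⧸ A) (c' : K ⧸ B) (a : A) (b : B), a ≠ 1 ∧ b ≠ 1 ∧
          c.out * (a : K) * c.out⁻¹ = c'.out * (b : K) * c'.out⁻¹ := by
        by_contra hcon
        push Not at hcon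
        apply hf
        rintro (⟨c, a, ha⟩ | ⟨c, a, ha⟩) (⟨c', b, hb⟩ | ⟨c', b, hb⟩) h
        · obtain ⟨rfl, rfl⟩ := hmix g c c' a b ha (congrArg Subtype.val h)
          rfl
        · exact absurd (congrArg Subtype.val h) (hcon c c' a b ha hb)
        · exact absurd (congrArg Subtype.val h).symm (hcon c' c b a hb ha)
        · obtain ⟨rfl, rfl⟩ := hmix g' c c' a b ha (congrArg Subtype.val h)
          rfl
      have h2 : c'.out⁻¹ * (c.out * (a : K) * c.out⁻¹) * c'.out ∈ B := by
        rw [h]; simp [mul_assoc]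
      have h3 := hinj g g' c.out c'.out a (fun h' => ha (Subtype.ext h')) a.2 h2
      set k := c'.out⁻¹ * c.out
      have hAB : B = A.map (MulAut.conj k).toMonoidHom := by
        ext u
        rw [Subgroup.mem_map_equiv, hA, hBdef, mem_tr, mem_tr]
        rw [Subgroup.mem_normalizer_iff] at h3
        have := h3 (g⁻¹ * (((k : K) : G)⁻¹ * (u : G) * (k : G)) * g)
        simp only [mul_assoc, mul_inv_rev, inv_inv, mul_inv_cancel_left, inv_mul_cancel_left] at this
        simp only [MulEquiv.coe_toMonoidHom, MulAut.conj_symm_apply, Subgroup.coe_mul, Subgroup.coe_inv,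
          mul_assoc, SetLike.mem_coe] at this ⊢
        exact this.symm
      rw [hAB]
      exact Subgroup.card_map_of_injective (MulAut.conj k).injective
  have hAtop : A = ⊤ := by
    apply Subgroup.eq_top_of_card_eq
    refine Nat.dvd_antisymm (Subgroup.card_subgroup_dvd_card _) ?_
    rw [Nat.dvd_iff_prime_pow_dvd_dvd]
    intro r k hr hk
    rcases Nat.eq_zero_or_pos k with rfl | hk0
    · simp
    haveI := Fact.mk hr
    obtain ⟨R⟩ := (inferInstance : Nonempty (Sylow r K))
    have hrK : r ∣ Nat.card K := (dvd_pow_self r hk0.ne').trans hk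
    obtain ⟨g', hg'⟩ := hsyl r hr hrK R
    have hR1 : r ^ k ∣ Nat.card (tr H K g') :=
      (R.pow_dvd_card_of_pow_dvd_card hk).trans (Subgroup.card_dvd_of_le hg')
    have hne : tr H K g' ≠ ⊥ := by
      intro hb
      rw [hb, Subgroup.card_bot] at hR1
      exact hr.not_dvd_one ((dvd_pow_self r hk0.ne').trans hR1)
    exact hone g' hne ▸ hR1
  refine ⟨g, fun u hu => ⟨g⁻¹ * u * g, mem_tr.1 (show (⟨u, hu⟩ : K) ∈ tr H K g by rw [← hA, hAtop]; trivial), ?_⟩⟩
  simp [mul_assoc]

end Cfsg.Agent.S4116
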