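import Cfsg.Statements.S4115
import Cfsg.Agent.Lib.Frobenius.Theorem
import Cfsg.Agent.Lib.Frobenius.Action
import Cfsg.Agent.Lib.Coprime.Action
import Cfsg.Agent.S4116
import Cfsg.Agent.Lib.OddOrder41.Coprime

set_option autoImplicit false
universe u
open Cfsg
open scoped Pointwise

namespace Cfsg.Agent.S4115

section
open CfsgLib.Characters CfsgLib.Induction

variable {G : Type u} [Group G] [Finite G] {H : Subgroup G}

/-- The data attached to a normal complement in the normalizer. -/
lemma exists_proj (hH : (Nat.card H).Coprime (H.subgroupOf (Subgroup.normalizer (H : Set G))).index)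
    {K : Subgroup (Subgroup.normalizer (H : Set G))} [K.Normal]
    (hK : K.IsComplement' (H.subgroupOf (Subgroup.normalizer (H : Set G)))) :
    ∃ (π : Subgroup.normalizer (H : Set G) →* H) (e : ℕ), (∀ m, ((π m : H) : G) = (m : G) ^ e) ∧
      (∀ (h : H) (hm : (h : G) ∈ Subgroup.normalizer (H : Set G)), π ⟨h, hm⟩ = h) ∧
      ∀ m, π m = 1 ↔ m ∈ K := by
  let M := Subgroup.normalizer (H : Set G)
  let H' : Subgroup M := H.subgroupOf M
  haveI : H'.Normal := Subgroup.normal_in_normalizer
  have hdisj : Disjoint K H' := hK.disjoint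
  have hcard : Nat.card H' = Nat.card H := Nat.card_congr (Subgroup.subgroupOfEquivOfLe Subgroup.le_normalizer).toEquiv
  have hKc : (Nat.card H).Coprime (Nat.card K) := by rwa [← hK.index_eq_card]
  obtain ⟨s, hs⟩ := exists_pow_eq_self_of_coprime
    (x := (Multiplicative.ofAdd (1 : ZMod (Nat.card H)))) (n := Nat.card K)
    (by rw [orderOf_ofAdd_eq_addOrderOf, ZMod.addOrderOf_one]; exact hKc.symm)
  have hmod : Nat.card K * s ≡ 1 [MOD Nat.card H] := by
    rw [← ZMod.natCast_eq_natCast_iff]
    have := congrArg Multiplicative.toAdd hs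
    simpa [mul_comm] using this
  have hpow : ∀ (k h : M), k ∈ K → h ∈ H' → (k * h) ^ (Nat.card K * s) = h := by
    intro k h hk hh
    rw [(Subgroup.commute_of_normal_of_disjoint K H' inferInstance inferInstance hdisj k h hk hh).mul_pow]
    have h1 : k ^ Nat.card K = 1 := by
      have := pow_card_eq_one' (x := (⟨k, hk⟩ : K))
      exact congrArg Subtype.val this
    rw [pow_mul k, h1, one_pow, one_mul]
    conv_rhs => rw [← pow_one h]
    refine pow_eq_pow_iff_modEq.2 (hmod.of_dvd ?_)
    rw [← hcard]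
    exact (Subgroup.orderOf_mk (H := H') h hh).symm ▸ orderOf_dvd_natCard (⟨h, hh⟩ : H')
  have hdec : ∀ m : M, ∃ k ∈ K, ∃ h ∈ H', m = k * h := fun m => by
    obtain ⟨⟨⟨k, hk⟩, ⟨h, hh⟩⟩, hkh⟩ := (hK.existsUnique m).exists
    exact ⟨k, hk, h, hh, hkh.symm⟩
  have hmem : ∀ m : M, (m : G) ^ (Nat.card K * s) ∈ H := fun m => by
    obtain ⟨k, hk, h, hh, rfl⟩ := hdec m
    rw [← SubgroupClass.coe_pow, hpow k h hk hh]
    exact hh
  refine ⟨{ toFun := fun m => ⟨(m : G) ^ (Nat.card K * s), hmem m⟩
            map_one' := Subtype.ext (one_pow _)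
            map_mul' := fun m m' => ?_ }, Nat.card K * s, fun m => rfl, fun h hm => ?_, fun m => ?_⟩
  · obtain ⟨k, hk, h, hh, rfl⟩ := hdec m
    obtain ⟨k', hk', h', hh', rfl⟩ := hdec m'
    apply Subtype.ext
    change ((k * h * (k' * h') : M) : G) ^ _ = ((k * h : M) : G) ^ _ * ((k' * h' : M) : G) ^ _
    have hc := Subgroup.commute_of_normal_of_disjoint K H' inferInstance inferInstance hdisj k' h hk' hh
    rw [← SubgroupClass.coe_pow, ← SubgroupClass.coe_pow, ← SubgroupClass.coe_pow, hpow k h hk hh,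
      hpow k' h' hk' hh', show k * h * (k' * h') = k * k' * (h * h') by
        simp only [mul_assoc]; rw [← mul_assoc h, ← hc.eq, mul_assoc],
      hpow _ _ (K.mul_mem hk hk') (H'.mul_mem hh hh')]
    rfl
  · apply Subtype.ext
    have := congrArg Subtype.val (hpow 1 ⟨h, hm⟩ K.one_mem h.2)
    simpa using this
  · obtain ⟨k, hk, h, hh, rfl⟩ := hdec m
    rw [Subtype.ext_iff]
    change ((k * h : M) : G) ^ _ = (1 : G) ↔ _
    rw [← SubgroupClass.coe_pow, hpow k h hk hh, OneMemClass.coe_eq_one]
    refine ⟨fun h1 => by rw [h1, mul_one]; exact hk, fun h1 => ?_⟩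
    exact Subgroup.disjoint_def.1 hdisj ((K.mul_mem_cancel_left hk).1 h1) hh

/-- Extending a character of `H`. -/
lemma exists_extension [Fintype G] (hTI : Cfsg.IsTISubset (H : Set G))
    (π : Subgroup.normalizer (H : Set G) →* H) (e : ℕ) (he : ∀ m, ((π m : H) : G) = (m : G) ^ e)
    (hπH : ∀ (h : H) (hm : (h : G) ∈ Subgroup.normalizer (H : Set G)), π ⟨h, hm⟩ = h) (φ : Cfsg.IrrCharacter H) :
    ∃ χ : G → ℂ, Cfsg.IsIrrCharacter G χ ∧ (∀ h : H, χ h = (φ : H → ℂ) h) ∧
      ∀ g : G, (∀ x : G, ∀ hm : x⁻¹ * g * x ∈ Subgroup.normalizer (H : Set G), π ⟨_, hm⟩ = 1) → χ g = χ 1 := by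
  classical
  by_cases htriv : (φ : H → ℂ) = fun _ => 1
  · exact ⟨fun _ => 1, isIrrCharacter_one, fun h => by rw [htriv], fun x _ => rfl⟩
  let M := Subgroup.normalizer (H : Set G)
  haveI := Fintype.ofFinite H
  haveI := Fintype.ofFinite M
  have hsurj : Function.Surjective π := fun h => ⟨_, hπH h (Subgroup.le_normalizer h.2)⟩
  have hsum : ∀ F : H → ℂ, ∑ m : M, F (π m) = (Nat.card π.ker : ℂ) * ∑ h : H, F h := by
    intro F
    rw [← Finset.sum_fiberwise Finset.univ π (fun m => F (π m)), Finset.mul_sum]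
    refine Finset.sum_congr rfl fun h _ => ?_
    rw [Finset.sum_congr rfl (g := fun _ => F h) (fun m hm => by rw [(Finset.mem_filter.1 hm).2]),
      Finset.sum_const, nsmul_eq_mul]
    congr 2
    obtain ⟨m0, rfl⟩ := hsurj h
    rw [Nat.card_eq_fintype_card, ← Fintype.card_subtype]
    exact Fintype.card_congr
      { toFun := fun m => ⟨m0⁻¹ * m.1, by rw [MonoidHom.mem_ker, map_mul, map_inv, m.2, inv_mul_cancel]⟩
        invFun := fun k => ⟨m0 * k.1, by rw [map_mul, MonoidHom.mem_ker.1 k.2, mul_one]⟩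
        left_inv := fun m => Subtype.ext (mul_inv_cancel_left m0 m.1)
        right_inv := fun k => Subtype.ext (inv_mul_cancel_left m0 k.1) }
  have hinner : ∀ a b : H → ℂ, Cfsg.classInner (fun m => a (π m)) (fun m => b (π m)) = Cfsg.classInner a b := by
    intro a b
    unfold Cfsg.classInner
    rw [hsum (fun h => a h * (starRingEnd ℂ) (b h))]
    have hc : Nat.card M = Nat.card π.ker * Nat.card H := by
      rw [← Subgroup.card_mul_index π.ker, Subgroup.index_ker, MonoidHom.range_eq_top.2 hsurj,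
        Subgroup.card_top]
    rw [hc]
    have h1 : (Nat.card π.ker : ℂ) ≠ 0 := natCard_ne_zero'
    push_cast
    field_simp
  obtain ⟨d, hd0, hd⟩ := irr_exists_degree φ.2
  let one : H → ℂ := fun _ => 1
  let oneM : M → ℂ := fun _ => 1
  let oneG : G → ℂ := fun _ => 1
  let θ : H → ℂ := (φ : H → ℂ) - (d : ℂ) • one
  let θM : M → ℂ := fun m => θ (π m)
  have hone : Cfsg.IsClassFunction H one := fun _ _ => rfl
  have honeG : Cfsg.IsClassFunction G oneG := fun _ _ => rfl
  have hθcf : Cfsg.IsClassFunction H θ :=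
    isClassFunction_sub (irr_isClassFunction φ) (isClassFunction_smul hone _)
  have hθ1 : θ 1 = 0 := by simp [θ, one, hd]
  have hθMcf : Cfsg.IsClassFunction M θM := fun g h => by
    simp only [θM, map_mul, map_inv]; exact hθcf _ _
  -- trivial-intersection: induction does not change the values on `M`
  have hind : ∀ m : M, Cfsg.indFun M θM (m : G) = θM m := by
    intro m
    have hterm : ∀ x : G, Cfsg.extendByZero M θM (x⁻¹ * (m : G) * x) = if x ∈ M then θM m else 0 := by
      intro x
      split_ifs with hx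
      · have := extendByZero_conj M hθMcf (⟨x, hx⟩⁻¹ : M) (m : G)
        rw [show ((⟨x, hx⟩⁻¹ : M) : G) = x⁻¹ from rfl, inv_inv] at this
        rw [this, extendByZero_mem M θM m.2]
      · by_cases hy : x⁻¹ * (m : G) * x ∈ M
        · rw [extendByZero_mem M θM hy]
          have hval : ((π ⟨_, hy⟩ : H) : G) = x⁻¹ * ((π m : H) : G) * x := by
            rw [he, he]
            have h2 := conj_pow (a := x⁻¹) (b := (m : G)) (i := e)
            rw [inv_inv] at h2
            exact h2
          by_cases hm1 : π m = 1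
          · have : π ⟨_, hy⟩ = 1 := Subtype.ext (by rw [hval, hm1]; simp)
            simp only [θM]
            rw [this, hθ1]
          · exfalso
            have h1 := hTI x⁻¹ (fun hxN => hx (by simpa using M.inv_mem hxN)) ((π m : H) : G) (π m).2
              (by rw [inv_inv, ← hval]; exact (π ⟨_, hy⟩).2)
            exact hm1 (Subtype.ext h1)
        · exact extendByZero_notMem M θM hy
    rw [indFun_apply, Finset.sum_congr rfl fun x _ => hterm x, ← Finset.sum_filter, Finset.sum_const,
      nsmul_eq_mul]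
    have hc : (Finset.univ.filter fun x => x ∈ M).card = Nat.card M := by
      rw [Nat.card_eq_fintype_card, Fintype.card_subtype]
    rw [hc, inv_mul_cancel_left₀ natCard_ne_zero']
  have hindH : ∀ h : H, Cfsg.indFun M θM (h : G) = θ h := fun h => by
    have h1 := hind ⟨(h : G), Subgroup.le_normalizer h.2⟩
    simp only [θM, hπH] at h1
    exact h1
  let φM : M → ℂ := fun m => (φ : H → ℂ) (π m)
  have hφM : Cfsg.IsCharacter M φM := by
    obtain ⟨n, ρ, hρ⟩ := irr_isCharacter φ
    exact ⟨n, ρ.comp π, funext fun m => congrFun hρ (π m)⟩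
  let I := Cfsg.indFun M θM
  have hI : I = Cfsg.indFun M φM - (d : ℂ) • Cfsg.indFun M oneM := by
    have h0 : θM = φM - (d : ℂ) • oneM := funext fun m => rfl
    simp only [I]
    rw [h0, indFun_sub, indFun_smul]
  have hIcf : Cfsg.IsClassFunction G I := isClassFunction_indFun M θM
  let χ : G → ℂ := I + (d : ℂ) • oneG
  have hgen : Cfsg.IsGeneralizedCharacter G χ := by
    refine isGeneralizedCharacter_add ?_ (isGeneralizedCharacter_natCast_smul
      (isGeneralizedCharacter_of_isCharacter (isCharacter_of_irr isIrrCharacter_one)) d)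
    rw [hI]
    exact isGeneralizedCharacter_sub
      (isGeneralizedCharacter_of_isCharacter (isCharacter_indFun M hφM))
      (isGeneralizedCharacter_natCast_smul (isGeneralizedCharacter_of_isCharacter
        (isCharacter_indFun M (isCharacter_of_irr isIrrCharacter_one))) d)
  have hφone : Cfsg.classInner (φ : H → ℂ) one = 0 :=
    classInner_irr_ne φ.2 isIrrCharacter_one htriv
  have honeφ : Cfsg.classInner one (φ : H → ℂ) = 0 :=
    classInner_irr_ne isIrrCharacter_one φ.2 fun e => htriv e.symm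
  have hoo : Cfsg.classInner one one = 1 := classInner_irr_self isIrrCharacter_one
  have hθone : Cfsg.classInner θ one = -(d : ℂ) := by
    simp only [θ]
    rw [classInner_sub_left, classInner_smul_left, hφone, hoo]; simp
  have hθθ : Cfsg.classInner θ θ = 1 + (d : ℂ) * d := by
    simp only [θ]
    rw [classInner_sub_left, classInner_smul_left, classInner_sub_right, classInner_sub_right,
      classInner_smul_right, classInner_smul_right, hφone, honeφ, hoo,
      classInner_irr_self φ.2, Complex.conj_natCast]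
    ring
  have hII : Cfsg.classInner I I = 1 + (d : ℂ) * d := by
    rw [← hθθ, ← hinner θ θ]
    simp only [I]
    rw [classInner_indFun M θM hIcf]
    exact congrArg (Cfsg.classInner θM) (funext hind)
  have hIone : Cfsg.classInner I oneG = -(d : ℂ) := by
    rw [← hθone, ← hinner θ one]
    exact classInner_indFun M θM honeG
  have honeI : Cfsg.classInner oneG I = -(d : ℂ) := by
    rw [classInner_swap, hIone]; simp
  have hnorm : Cfsg.classInner χ χ = 1 := by
    simp only [χ]
    rw [classInner_add_left, classInner_add_right, classInner_add_right, classInner_smul_left,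
      classInner_smul_right, classInner_smul_left, classInner_smul_right, hII, hIone, honeI,
      classInner_irr_self (isIrrCharacter_one (G := G)), Complex.conj_natCast]
    ring
  have hχ1 : χ 1 = d := by
    simp only [χ, I, oneG, θM, Pi.add_apply, Pi.smul_apply, indFun_one_apply, map_one, hθ1, mul_zero, zero_add,
      smul_eq_mul, mul_one]
  refine ⟨χ, isIrrCharacter_of_generalized_norm_one hgen hnorm
    (by rw [hχ1, Complex.natCast_re]; exact Nat.cast_nonneg d), fun h => ?_, fun x hx => ?_⟩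
  · show I (h : G) + (d : ℂ) * 1 = _
    simp only [I]
    rw [hindH]
    simp [θ, one]
  · rw [hχ1]
    show I x + (d : ℂ) * 1 = _
    simp only [I]
    rw [indFun_apply, Finset.sum_eq_zero, mul_zero, zero_add, mul_one]
    intro y _
    by_cases hy : y⁻¹ * x * y ∈ M
    · rw [extendByZero_mem M θM hy]
      simp only [θM]
      rw [hx y hy, hθ1]
    · exact extendByZero_notMem M θM hy

/-- `H` is a Hall subgroup of `G`. -/
lemma hall_of_ti (hTI : Cfsg.IsTISubset (H : Set G))
    (hH : (Nat.card H).Coprime (H.subgroupOf (Subgroup.normalizer (H : Set G))).index) :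
    (Nat.card H).Coprime H.index := by
  set M := Subgroup.normalizer (H : Set G)
  rw [Nat.coprime_iff_gcd_eq_one]
  by_contra hne
  obtain ⟨q, hq, hqd⟩ := Nat.exists_prime_and_dvd hne
  haveI := Fact.mk hq
  have hqH : q ∣ Nat.card H := hqd.trans (Nat.gcd_dvd_left _ _)
  have hqi : q ∣ H.index := hqd.trans (Nat.gcd_dvd_right _ _)
  obtain ⟨S⟩ := (inferInstance : Nonempty (Sylow q H))
  set Q := (S : Subgroup H).map H.subtype with hQ
  have hQH : Q ≤ H := Subgroup.map_subtype_le _
  have hQc : Nat.card Q = q ^ (Nat.card H).factorization q := by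
    rw [hQ, Subgroup.card_map_of_injective H.subtype_injective, S.card_eq_multiplicity]
  set n := (Nat.card H).factorization q
  have hn : 0 < n := hq.factorization_pos_of_dvd Nat.card_pos.ne' hqH
  obtain ⟨R, hR, hQR⟩ := Sylow.exists_subgroup_card_pow_succ (p := q) (n := n)
    (by rw [pow_succ, ← H.card_mul_index]; exact Nat.mul_dvd_mul (Nat.ordProj_dvd _ _) hqi) hQc
  have hRn : (Q.subgroupOf R).Normal := by
    apply Subgroup.normal_of_index_eq_minFac_card
    have h1 := Subgroup.card_mul_index (Q.subgroupOf R)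
    rw [Nat.card_congr (Subgroup.subgroupOfEquivOfLe hQR).toEquiv, hQc, hR, pow_succ] at h1
    rw [hR, hq.pow_minFac (Nat.succ_ne_zero n)]
    exact mul_left_cancel₀ (pow_ne_zero n hq.ne_zero) h1
  have hRM : R ≤ M := by
    intro r hr
    by_contra hrM
    obtain ⟨v, hvQ, hv1⟩ : ∃ v ∈ Q, v ≠ 1 := by
      refine Q.bot_or_exists_ne_one.resolve_left fun h => ?_
      rw [h, Subgroup.card_bot] at hQc
      exact (Nat.one_lt_pow hn.ne' hq.one_lt).ne hQc
    exact hv1 (hTI r hrM v (hQH hvQ) (hQH (hRn.conj_mem ⟨v, hQR hvQ⟩ hvQ ⟨r, hr⟩)))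
  have hd : q ^ (n + 1) ∣ Nat.card H := by
    have h1 := hR ▸ Subgroup.card_dvd_of_le hRM
    have h2 : Nat.card M = Nat.card H * (H.subgroupOf M).index := by
      rw [← Subgroup.card_mul_index (H.subgroupOf M),
        Nat.card_congr (Subgroup.subgroupOfEquivOfLe (Subgroup.le_normalizer (H := H))).toEquiv]
    rw [h2] at h1
    exact ((hH.coprime_dvd_left hqH).pow_left _).dvd_of_dvd_mul_right h1
  have := (hq.pow_dvd_iff_le_factorization Nat.card_pos.ne').1 hd
  omega

/-- The complement in `G`. -/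
lemma exists_complement (hTI : Cfsg.IsTISubset (H : Set G))
    (hH : (Nat.card H).Coprime (H.subgroupOf (Subgroup.normalizer (H : Set G))).index)
    {K : Subgroup (Subgroup.normalizer (H : Set G))} [K.Normal]
    (hK : K.IsComplement' (H.subgroupOf (Subgroup.normalizer (H : Set G)))) :
    ∃ N : Subgroup G, N.Normal ∧ N.IsComplement' H := by
  classical
  haveI := Fintype.ofFinite G
  obtain ⟨π, e, he, hπH, -⟩ := exists_proj hH hK
  choose χ hχirr hχH hχK using exists_extension hTI π e he hπH
  choose n ρ _ hρ using hχirr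
  let N : Subgroup G := ⨅ φ, (ρ φ).ker
  have hNn : N.Normal := Subgroup.normal_iInf_normal fun φ => MonoidHom.normal_ker _
  haveI := hNn
  have hval : ∀ φ g, g ∈ (ρ φ).ker ↔ χ φ g = χ φ 1 := by
    intro φ g
    rw [MonoidHom.mem_ker, ← hρ φ, Representation.char_one]
    exact (char_eq_degree_iff (ρ φ) g).symm
  have hKN : ∀ g : G, (orderOf g).Coprime (Nat.card H) → g ∈ N := fun g hg =>
    Subgroup.mem_iInf.2 fun φ => (hval φ g).2 (hχK φ g fun x hm => by
      rw [← orderOf_eq_one_iff, ← Nat.dvd_one, ← hg.gcd_eq_one]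
      refine Nat.dvd_gcd ?_ (orderOf_dvd_natCard _)
      refine (orderOf_map_dvd π _).trans ?_
      rw [Subgroup.orderOf_mk, show x⁻¹ * g * x = MulAut.conj x⁻¹ g by simp, MulEquiv.orderOf_eq])
  have hNH : N ⊓ H = ⊥ := by
    rw [eq_bot_iff]
    rintro x ⟨hxN, hxH⟩
    have hc : IsConj (⟨x, hxH⟩ : H) 1 := (isConj_iff_irr _ _).2 fun φ => by
      rw [← hχH φ, ← hχH φ]
      exact (hval φ x).1 (Subgroup.mem_iInf.1 hxN φ)
    exact congrArg Subtype.val (isConj_one_left.1 hc)
  refine ⟨N, hNn, Subgroup.isComplement'_of_card_mul_and_disjoint ?_ (disjoint_iff.2 hNH)⟩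
  have hHall := hall_of_ti hTI hH
  have hge : Nat.card H ≤ N.index := by
    have hinj : Function.Injective fun a : H => (QuotientGroup.mk (a : G) : G ⧸ N) := by
      intro a b hab
      have h2 : (a : G)⁻¹ * b ∈ N ⊓ H := ⟨QuotientGroup.eq.1 hab, H.mul_mem (H.inv_mem a.2) b.2⟩
      rw [hNH, Subgroup.mem_bot, inv_mul_eq_one] at h2
      exact Subtype.ext h2
    exact Nat.card_le_card_of_injective _ hinj
  have hdvd : N.index ∣ Nat.card H := by
    have h1 : N.index ∣ Nat.card H * H.index := by rw [H.card_mul_index]; exact N.index_dvd_card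
    refine Nat.Coprime.dvd_of_dvd_mul_right ?_ h1
    rw [Nat.coprime_iff_gcd_eq_one]
    by_contra hne
    obtain ⟨r, hr, hrd⟩ := Nat.exists_prime_and_dvd hne
    haveI := Fact.mk hr
    obtain ⟨S⟩ := (inferInstance : Nonempty (Sylow r G))
    have hrH : ¬ r ∣ Nat.card H := fun h => hr.ne_one
      (Nat.eq_one_of_dvd_coprimes hHall h (hrd.trans (Nat.gcd_dvd_right _ _)))
    have hSN : (S : Subgroup G) ≤ N := fun g hg => hKN g (by
      obtain ⟨k, hk⟩ := IsPGroup.iff_orderOf.1 S.isPGroup' ⟨g, hg⟩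
      rw [Subgroup.orderOf_mk] at hk
      rw [hk]
      exact (hr.coprime_iff_not_dvd.2 hrH).pow_left k)
    exact S.not_dvd_index ((hrd.trans (Nat.gcd_dvd_left _ _)).trans (Subgroup.index_dvd_of_le hSN))
  have hidx : N.index = Nat.card H := le_antisymm (Nat.le_of_dvd Nat.card_pos hdvd) hge
  rw [← hidx, Subgroup.card_mul_index]

end

/-- Let G be a finite group and H a subgroup that meets each of its conjugates by elements outside N_G(H) trivially and whose order is coprime to its index in N_G(H). Then H has a normal complement in N_G(H) if and only if H has a normal complement in G. Moreover, if H is not normal in G and has a normal complement in N_G(H), then H is isomorphic to a Frobenius complement of some finite Frobenius group. -/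
theorem result {G : Type u} [Group G] [Finite G] (H : Subgroup G)
    (hTI : Cfsg.IsTISubset (H : Set G)) (hHall : (Nat.card H).Coprime (H.subgroupOf (Subgroup.normalizer (H : Set G))).index) :
    ((∃ K : Subgroup (Subgroup.normalizer (H : Set G)), K.Normal ∧ K.IsComplement' (H.subgroupOf (Subgroup.normalizer (H : Set G)))) ↔
      (∃ N : Subgroup G, N.Normal ∧ N.IsComplement' H)) ∧
    (¬ H.Normal → (∃ K : Subgroup (Subgroup.normalizer (H : Set G)), K.Normal ∧ K.IsComplement' (H.subgroupOf (Subgroup.normalizer (H : Set G)))) →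
      ∃ (F : Type u) (_ : Group F) (_ : Finite F) (C : Subgroup F), Cfsg.IsFrobeniusComplement C ∧ Nonempty (H ≃* C)) := by
  classical
  let M := Subgroup.normalizer (H : Set G)
  refine ⟨⟨?_, ?_⟩, ?_⟩
  · rintro ⟨K, hKn, hK⟩
    exact exists_complement hTI hHall hK
  · rintro ⟨N, hNn, hN⟩
    refine ⟨N.subgroupOf M, inferInstance, Subgroup.isComplement'_of_disjoint_and_mul_eq_univ ?_ ?_⟩
    · rw [Subgroup.disjoint_def]
      intro m h1 h2
      exact Subtype.ext (Subgroup.disjoint_def.1 hN.disjoint h1 h2)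
    · refine Set.eq_univ_of_forall fun m => ?_
      obtain ⟨⟨⟨a, ha⟩, ⟨b, hb⟩⟩, hab⟩ := (hN.existsUnique (m : G)).exists
      have haM : a ∈ M := by
        rw [show a = (m : G) * b⁻¹ from eq_mul_inv_of_mul_eq hab]
        exact M.mul_mem m.2 (M.inv_mem (Subgroup.le_normalizer hb))
      exact ⟨⟨a, haM⟩, ha, ⟨b, Subgroup.le_normalizer hb⟩, hb, Subtype.ext hab⟩
  intro hnn ⟨K, hKn, hK⟩
  haveI := hKn
  obtain ⟨N, hNn, hN⟩ := exists_complement hTI hHall hK
  haveI := hNn
  obtain ⟨π, e, he, hπH, hπK⟩ := exists_proj hHall hK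
  let H' : Subgroup M := H.subgroupOf M
  haveI : H'.Normal := Subgroup.normal_in_normalizer
  -- centralisers in `N`
  let K0 : Subgroup G := K.map M.subtype
  have hcent : ∀ h : H, (h : G) ≠ 1 → ∀ u ∈ N, Commute (h : G) u → u ∈ M := by
    intro h h1 u hu hc
    by_contra huM
    exact h1 (hTI u huM h h.2 (by rw [← hc.eq, mul_inv_cancel_right]; exact h.2))
  have hNM : ∀ u ∈ N, ∀ hm : u ∈ M, (⟨u, hm⟩ : M) ∈ K := by
    intro u hu hm
    rw [← hπK]
    apply Subtype.ext
    have h1 : ((π ⟨u, hm⟩ : H) : G) ∈ N ⊓ H := ⟨by rw [he]; exact N.pow_mem hu e, (π ⟨u, hm⟩).2⟩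
    rw [disjoint_iff.1 hN.disjoint, Subgroup.mem_bot] at h1
    exact h1
  have hKcent : ∀ k : M, k ∈ K → ∀ h : H, Commute ((h : G)) (k : G) := by
    intro k hk h
    have := Subgroup.commute_of_normal_of_disjoint K H' hKn inferInstance hK.disjoint k
      ⟨h, Subgroup.le_normalizer h.2⟩ hk h.2
    exact (congrArg Subtype.val this.eq).symm
  have hfix : ∀ u ∈ N, u ∈ M → ∀ h : H, Commute (h : G) u := fun u hu hm h => hKcent _ (hNM u hu hm) h
  -- a Sylow subgroup of `N` outside `M`
  have hHallG := hall_of_ti hTI hHall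
  have hNcard : Nat.card N = H.index := by
    rw [← hN.index_eq_card]
  have hcop : (Nat.card H).Coprime (Nat.card N) := hNcard ▸ hHallG
  obtain ⟨r, hr, hrN⟩ : ∃ r : ℕ, r.Prime ∧ ¬ r ^ (Nat.card N).factorization r ∣ Nat.card (N ⊓ M : Subgroup G) := by
    by_contra hall
    push Not at hall
    apply hnn
    have h1 : Nat.card N ∣ Nat.card (N ⊓ M : Subgroup G) := by
      rw [Nat.dvd_iff_prime_pow_dvd_dvd]
      intro r k hr hk
      exact (pow_dvd_pow r ((hr.pow_dvd_iff_le_factorization Nat.card_pos.ne').1 hk)).trans (hall r hr)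
    have h2 : N ⊓ M = N := Subgroup.eq_of_le_of_card_ge inf_le_left (Nat.le_of_dvd Nat.card_pos h1)
    have h3 : M = ⊤ := by
      rw [eq_top_iff]
      intro g _
      obtain ⟨⟨⟨a, ha⟩, ⟨b, hb⟩⟩, hab⟩ := (hN.existsUnique g).exists
      rw [← hab]
      exact M.mul_mem ((h2.ge ha).2) (Subgroup.le_normalizer hb)
    exact Subgroup.normalizer_eq_top_iff.1 h3
  haveI := Fact.mk hr
  obtain ⟨S⟩ := (inferInstance : Nonempty (Sylow r N))
  set U0 := (S : Subgroup N).map N.subtype with hU0
  -- a complement normalising `U0`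
  set L := Subgroup.normalizer (U0 : Set G) with hL
  have hLN : L ⊔ N = ⊤ := Sylow.normalizer_sup_eq_top S
  have hidx : (N.subgroupOf L).index = Nat.card H := by
    change N.relIndex L = _
    rw [← Subgroup.relIndex_sup_right, hLN, Subgroup.relIndex_top_right, hN.symm.index_eq_card]
  have hcopL : (Nat.card (N.subgroupOf L)).Coprime (N.subgroupOf L).index := by
    rw [hidx]
    refine Nat.Coprime.coprime_dvd_left ?_ hcop.symm
    have h1 : Nat.card (N.subgroupOf L) = Nat.card (N ⊓ L : Subgroup G) := by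
      rw [← Subgroup.card_map_of_injective L.subtype_injective, Subgroup.subgroupOf_map_subtype]
    rw [h1]
    exact Subgroup.card_dvd_of_le inf_le_left
  obtain ⟨H1, hH1⟩ := Subgroup.exists_right_complement'_of_coprime hcopL
  have hH1c : Nat.card (H1.map L.subtype) = Nat.card H := by
    rw [Subgroup.card_map_of_injective L.subtype_injective, ← hidx, hH1.symm.index_eq_card]
  obtain ⟨g, hg⟩ := Cfsg.Agent.S4116.result H hHallG hTI (H1.map L.subtype)
    fun q _ hqd => hH1c ▸ hqd
  have hHg : H1.map L.subtype = H.map (MulAut.conj g).toMonoidHom := Subgroup.eq_of_le_of_card_ge hg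
    (by rw [hH1c, Subgroup.card_map_of_injective (MulAut.conj g).injective])
  -- an `H`-invariant Sylow subgroup of `N`
  set U := U0.map (MulAut.conj g⁻¹).toMonoidHom with hU
  have hUH : ∀ h ∈ H, ∀ u ∈ U, h * u * h⁻¹ ∈ U := by
    rintro h hh _ ⟨u, hu, rfl⟩
    obtain ⟨l, -, hl⟩ := hHg.ge ⟨h, hh, rfl⟩
    have hl' : (l : G) = g * h * g⁻¹ := hl
    refine ⟨(l : G) * u * (l : G)⁻¹, ((Subgroup.mem_normalizer_iff.1 l.2) u).1 hu, ?_⟩
    rw [hl']
    simp only [MulEquiv.coe_toMonoidHom, MulAut.conj_apply]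
    group
  have hUN : U ≤ N := by
    rintro _ ⟨u, hu, rfl⟩
    exact hNn.conj_mem u (Subgroup.map_subtype_le _ hu) g⁻¹
  have hUp : IsPGroup r U := (S.isPGroup'.map _).map _
  have hUM : ¬ U ≤ M := fun h => hrN <| by
    have h2 := Subgroup.card_dvd_of_le (le_inf hUN h)
    rwa [hU, Subgroup.card_map_of_injective (MulAut.conj g⁻¹).injective, hU0,
      Subgroup.card_map_of_injective N.subtype_injective, S.card_eq_multiplicity] at h2
  -- the section
  set R := U ⊓ M with hRdef
  set V := U ⊓ Subgroup.normalizer (R : Set G) with hVdef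
  have hRV : R < V := by
    refine lt_of_le_of_ne (le_inf inf_le_left Subgroup.le_normalizer) fun hRV => ?_
    haveI := hUp.isNilpotent
    have hlt : R.subgroupOf U < ⊤ :=
      lt_top_iff_ne_top.2 fun h => hUM ((Subgroup.subgroupOf_eq_top.1 h).trans inf_le_right)
    have h1 := Group.normalizerCondition_of_isNilpotent (R.subgroupOf U) hlt
    obtain ⟨u, hu1, hu2⟩ := SetLike.exists_of_lt h1
    refine hu2 (hRV.ge ⟨u.2, ?_⟩)
    refine CfsgLib.Coprime.mem_normalizer_of_forall_conj fun y hy => ?_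
    have := ((Subgroup.mem_normalizer_iff.1 hu1) ⟨y, inf_le_left (b := M) hy⟩).1 hy
    exact this
  have hRH : ∀ h ∈ H, h ∈ Subgroup.normalizer (R : Set G) := fun h hh =>
    CfsgLib.Coprime.mem_normalizer_of_forall_conj fun y hy =>
      ⟨hUH h hh y hy.1, M.mul_mem (M.mul_mem (Subgroup.le_normalizer hh) hy.2)
        (M.inv_mem (Subgroup.le_normalizer hh))⟩
  have hVH : ∀ h ∈ H, ∀ v ∈ V, h * v * h⁻¹ ∈ V := fun h hh v hv =>
    ⟨hUH h hh v hv.1, Subgroup.mul_mem _ (Subgroup.mul_mem _ (hRH h hh) hv.2) (Subgroup.inv_mem _ (hRH h hh))⟩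
  let T : Subgroup G := V ⊔ H
  have hTR : T ≤ Subgroup.normalizer (R : Set G) := sup_le inf_le_right hRH
  haveI : (R.subgroupOf T).Normal := Subgroup.normal_subgroupOf_of_le_normalizer hTR
  let Q := T ⧸ R.subgroupOf T
  let qm : T →* Q := QuotientGroup.mk' _
  let Kb : Subgroup Q := (V.subgroupOf T).map qm
  let C : Subgroup Q := (H.subgroupOf T).map qm
  have hVT : V ≤ T := le_sup_left
  have hHT : H ≤ T := le_sup_right
  have hTV : T ≤ Subgroup.normalizer (V : Set G) := sup_le Subgroup.le_normalizer fun h hh =>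
    CfsgLib.Coprime.mem_normalizer_of_forall_conj (hVH h hh)
  haveI : (V.subgroupOf T).Normal := Subgroup.normal_subgroupOf_of_le_normalizer hTV
  haveI : Kb.Normal := Subgroup.Normal.map inferInstance qm (QuotientGroup.mk'_surjective _)
  have hker : ∀ t : T, qm t = 1 ↔ (t : G) ∈ R := fun t => by
    rw [QuotientGroup.mk'_apply, QuotientGroup.eq_one_iff]
    rfl
  have hRN : R ≤ N := inf_le_left.trans hUN
  have hVN : V ≤ N := inf_le_left.trans hUN
  have hNH1 : ∀ y : G, y ∈ N → y ∈ H → y = 1 := fun y h1 h2 => Subgroup.disjoint_def.1 hN.disjoint h1 h2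
  have hKC : Kb.IsComplement' C := by
    refine Subgroup.isComplement'_of_disjoint_and_mul_eq_univ ?_ ?_
    · rw [Subgroup.disjoint_def]
      rintro _ ⟨v, hv, rfl⟩ ⟨h, hh, heq⟩
      have h1 : ((h⁻¹ * v : T) : G) ∈ R := (hker _).1 (by rw [map_mul, map_inv, heq, inv_mul_cancel])
      have h2 : (h : G) ∈ N := by
        have := N.mul_mem (hVN hv) (N.inv_mem (hRN h1))
        simpa using this
      have h3 : h = 1 := Subtype.ext (hNH1 _ h2 hh)
      rw [← heq, h3, map_one]
    · rw [← Subgroup.normal_mul, ← Subgroup.map_sup, ← Subgroup.subgroupOf_sup hVT hHT, Subgroup.subgroupOf_self,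
        Subgroup.map_top_of_surjective _ (QuotientGroup.mk'_surjective _)]
      rfl
  let f : H →* Q := qm.comp (Subgroup.inclusion hHT)
  have hfinj : Function.Injective f := by
    rw [injective_iff_map_eq_one]
    intro h hh
    exact Subtype.ext (hNH1 _ (hRN ((hker _).1 hh)) h.2)
  have hC : C = f.range := by
    ext y
    constructor
    · rintro ⟨t, ht, rfl⟩
      exact ⟨⟨t, ht⟩, rfl⟩
    · rintro ⟨h, rfl⟩
      exact ⟨Subgroup.inclusion hHT h, h.2, rfl⟩
  obtain ⟨v0, hv0, hv0R⟩ := SetLike.exists_of_lt hRV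
  refine ⟨Q, inferInstance, inferInstance, C, ?_, ⟨(MonoidHom.ofInjective hfinj).trans (MulEquiv.subgroupCongr hC.symm)⟩⟩
  refine CfsgLib.Frobenius.isFrobeniusComplement_of_normal_complement (K := Kb) hKC ?_ ?_ ?_
  · intro hb
    have h1 : qm ⟨v0, hVT hv0⟩ ∈ Kb := ⟨_, hv0, rfl⟩
    rw [hb, Subgroup.mem_bot] at h1
    exact hv0R ((hker _).1 h1)
  · intro hb
    apply hnn
    have : H = ⊥ := by
      rw [eq_bot_iff]
      intro h hh
      have h1 : f ⟨h, hh⟩ ∈ C := hC ▸ ⟨⟨h, hh⟩, rfl⟩
      rw [hb, Subgroup.mem_bot, ← map_one f] at h1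
      exact Subgroup.mem_bot.2 (congrArg Subtype.val (hfinj h1))
    rw [this]
    infer_instance
  · rintro _ ⟨h, hh, rfl⟩ hne _ ⟨u, hu, rfl⟩ hc
    rw [hker]
    have h1 : ((u⁻¹ * (h * u * h⁻¹) : T) : G) ∈ R := (hker _).1 (by
      rw [map_mul, map_inv, map_mul, map_mul, map_inv, hc, mul_inv_cancel_right, inv_mul_cancel])
    have hh1 : (h : G) ≠ 1 := fun e => hne (by rw [show h = 1 from Subtype.ext e, map_one])
    refine ⟨hu.1, hcent ⟨h, hh⟩ hh1 u (hVN hu) ?_⟩
    obtain ⟨i, hi⟩ := IsPGroup.iff_card.1 (hUp.to_le (inf_le_left : R ≤ U))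
    refine CfsgLib.OddOrder41.fixes_of_step_fixed (H := R) ?_ h1 ?_ ?_
    · refine (hcop.coprime_dvd_left ?_).coprime_dvd_right (Subgroup.card_dvd_of_le hRN)
      have := orderOf_dvd_natCard (⟨(h : G), hh⟩ : H)
      rw [← Subgroup.orderOf_coe] at this
      exact this
    · simp only [Subgroup.coe_mul, Subgroup.coe_inv]
      group
    · rw [(hfix _ (hRN h1) h1.2 ⟨h, hh⟩).eq, mul_inv_cancel_right]

end Cfsg.Agent.S4115
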