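import Cfsg.Statements.S4117
import Cfsg.Agent.Lib.Coprime.Action

set_option autoImplicit false
open Cfsg
open scoped commutatorElement Pointwise

namespace Cfsg.Agent.S4117

lemma card_coprime_of_complement {G : Type*} [Group G] [Finite G] [IsZGroup G] (K C : Subgroup G) [K.Normal]
    [IsCyclic K] (h : K ⊓ C = ⊥) : (Nat.card C).Coprime (Nat.card K) := by
  rw [Nat.coprime_iff_gcd_eq_one]
  by_contra hne
  obtain ⟨p, hp, hpd⟩ := Nat.exists_prime_and_dvd hne
  haveI := Fact.mk hp
  obtain ⟨c, hc⟩ := exists_prime_orderOf_dvd_card' p (hpd.trans (Nat.gcd_dvd_left _ _))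
  obtain ⟨k, hk⟩ := exists_prime_orderOf_dvd_card' p (hpd.trans (Nat.gcd_dvd_right _ _))
  rw [← Subgroup.orderOf_coe] at hc hk
  -- `c` normalises the subgroup generated by `k`
  have hn : Subgroup.zpowers (c : G) ≤ Subgroup.normalizer (Subgroup.zpowers (k : G) : Set G) := by
    rw [Subgroup.zpowers_le]
    refine CfsgLib.Coprime.mem_normalizer_of_forall_conj fun y hy => ?_
    obtain ⟨m, hm⟩ := MonoidHom.map_cyclic (MulAut.conjNormal (c : G) : MulAut K).toMonoidHom
    obtain ⟨i, rfl⟩ := Subgroup.mem_zpowers_iff.1 hy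
    have h1 := congrArg Subtype.val (hm (k ^ i))
    simp only [MulEquiv.coe_toMonoidHom, MulAut.conjNormal_apply, SubgroupClass.coe_zpow] at h1
    rw [h1, ← zpow_mul]
    exact Subgroup.zpow_mem _ (Subgroup.mem_zpowers _) _
  have hz : ∀ g : G, orderOf g = p → IsPGroup p (Subgroup.zpowers g) := fun g hg =>
    IsPGroup.of_card (n := 1) (by rw [Nat.card_zpowers, hg, pow_one])
  have hP : IsPGroup p (Subgroup.zpowers (c : G) ⊔ Subgroup.zpowers (k : G) : Subgroup G) :=
    (hz _ hc).to_sup_of_normal_right' (hz _ hk) hn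
  haveI := hP.isCyclic_of_isZGroup
  set S := Subgroup.zpowers (c : G) ⊔ Subgroup.zpowers (k : G)
  let c' : S := ⟨c, Subgroup.mem_sup_left (Subgroup.mem_zpowers _)⟩
  let k' : S := ⟨k, Subgroup.mem_sup_right (Subgroup.mem_zpowers _)⟩
  have hc' : orderOf c' = p := by rw [Subgroup.orderOf_mk]; exact hc
  have hk' : orderOf k' = p := by rw [Subgroup.orderOf_mk]; exact hk
  classical
  letI := Fintype.ofFinite S
  have h1 : c' ∈ Subgroup.zpowers k' := by
    have hsub : Finset.univ.filter (fun a => a ∈ Subgroup.zpowers k') ⊆ Finset.univ.filter (fun a : S => a ^ p = 1) := by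
      intro a ha
      simp only [Finset.mem_filter, Finset.mem_univ, true_and] at ha ⊢
      exact orderOf_dvd_iff_pow_eq_one.1 (hk' ▸ orderOf_dvd_of_mem_zpowers ha)
    have hcard : (Finset.univ.filter (fun a => a ∈ Subgroup.zpowers k')).card = p := by
      rw [← Fintype.card_subtype, ← Nat.card_eq_fintype_card]
      exact (Nat.card_zpowers k').trans hk'
    have heq := Finset.eq_of_subset_of_card_le hsub (by rw [hcard]; exact IsCyclic.card_pow_eq_one_le hp.pos)
    have hc1 : c' ∈ Finset.univ.filter (fun a : S => a ^ p = 1) := by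
      simp only [Finset.mem_filter, Finset.mem_univ, true_and]
      rw [← hc']
      exact pow_orderOf_eq_one c'
    rw [← heq] at hc1
    simpa using hc1
  obtain ⟨i, hi⟩ := Subgroup.mem_zpowers_iff.1 h1
  have h2 : (c : G) ∈ K ⊓ C := ⟨by
    rw [show (c : G) = (k : G) ^ i from (congrArg Subtype.val hi).symm]
    exact K.zpow_mem k.2 i, c.2⟩
  rw [h, Subgroup.mem_bot] at h2
  rw [h2, orderOf_one] at hc
  exact hp.ne_one hc.symm

/-- Let A be a finite group acting on the finite group G by automorphisms with the orders of A and G coprime, and suppose every Sylow subgroup of G is cyclic. Then the fixed-point subgroup C_G(A) is a Hall subgroup of G (its order is coprime to its index), the subgroup [G, A] generated by the elements g⁻¹·a(g) is cyclic and normal with [G, A] ∩ C_G(A) = 1 and [G, A]·C_G(A) = G. -/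
theorem result {G A : Type*} [Group G] [Finite G] [Group A] [Finite A]
    [MulDistribMulAction A G] (hcop : (Nat.card A).Coprime (Nat.card G))
    (hcyc : ∀ (p : ℕ) [Fact p.Prime] (P : Sylow p G), IsCyclic (P : Subgroup G)) :
    (Nat.card (MulAction.fixedPoints A G : Set G)).Coprime (Nat.card G / Nat.card (MulAction.fixedPoints A G : Set G)) ∧
    IsCyclic (Subgroup.closure {y : G | ∃ (a : A) (g : G), y = g⁻¹ * a • g}) ∧
    (Subgroup.closure {y : G | ∃ (a : A) (g : G), y = g⁻¹ * a • g}).Normal ∧
    (Subgroup.closure {y : G | ∃ (a : A) (g : G), y = g⁻¹ * a • g} : Set G) ∩ MulAction.fixedPoints A G = {1} ∧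
    Subgroup.closure {y : G | ∃ (a : A) (g : G), y = g⁻¹ * a • g} ⊔ Subgroup.closure (MulAction.fixedPoints A G) = ⊤ := by
  classical
  letI := Fintype.ofFinite A
  haveI : IsZGroup G := ⟨fun p hp P => haveI := Fact.mk hp; hcyc p P⟩
  set K := Subgroup.closure {y : G | ∃ (a : A) (g : G), y = g⁻¹ * a • g} with hKdef
  have hKn : K.Normal := ⟨fun y hy h => by
    induction hy using Subgroup.closure_induction with
    | mem y hy =>
      obtain ⟨a, g, rfl⟩ := hy
      rw [show h * (g⁻¹ * a • g) * h⁻¹ =
        ((g * h⁻¹)⁻¹ * a • (g * h⁻¹)) * ((h⁻¹)⁻¹ * a • h⁻¹)⁻¹ by simp only [smul_mul', smul_inv']; group]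
      exact K.mul_mem (Subgroup.subset_closure ⟨a, _, rfl⟩) (K.inv_mem (Subgroup.subset_closure ⟨a, _, rfl⟩))
    | one => simp
    | mul y z _ _ hy hz =>
      rw [show h * (y * z) * h⁻¹ = h * y * h⁻¹ * (h * z * h⁻¹) by group]
      exact K.mul_mem hy hz
    | inv y _ hy =>
      rw [show h * y⁻¹ * h⁻¹ = (h * y * h⁻¹)⁻¹ by group]
      exact K.inv_mem hy⟩
  haveI := IsZGroup.isCyclic_commutator G
  set N := Subgroup.centralizer ((commutator G : Subgroup G) : Set G) with hNdef
  have hgen : ∀ (a : A) (g : G), g⁻¹ * a • g ∈ N := by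
    intro a g
    rw [hNdef, Subgroup.mem_centralizer_iff]
    intro e he
    have hinv : ∀ d : G, d ∈ commutator G → ∀ b : A, b • d ∈ commutator G := fun d hd b => by
      have h := Subgroup.characteristic_iff_map_le.1 (inferInstance : (commutator G).Characteristic)
        (MulDistribMulAction.toMulAut A G b)
      exact h ⟨d, hd, rfl⟩
    obtain ⟨n, hn⟩ := MonoidHom.map_cyclic (G := commutator G)
      { toFun := fun d => ⟨a • (d : G), hinv _ d.2 a⟩
        map_one' := Subtype.ext (smul_one a)
        map_mul' := fun d d' => Subtype.ext (smul_mul' a (d : G) d') }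
    have hn' : ∀ d : G, d ∈ commutator G → a • d = d ^ n := fun d hd => by
      have := congrArg Subtype.val (hn ⟨d, hd⟩)
      simpa using this
    set d := a⁻¹ • e with hd
    have hdD := hinv e he a⁻¹
    have he' : e = a • d := (smul_inv_smul a e).symm
    have h1 : a • (g * d * g⁻¹) = g * (a • d) * g⁻¹ := by
      rw [hn' _ ((inferInstance : (commutator G).Normal).conj_mem d hdD g), hn' _ hdD, conj_zpow]
    rw [smul_mul', smul_mul', smul_inv', ← he'] at h1
    have h2 := congrArg (fun t => g⁻¹ * t * (a • g)) h1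
    calc e * (g⁻¹ * a • g) = g⁻¹ * (g * e * g⁻¹) * (a • g) := by group
      _ = g⁻¹ * (a • g * e * (a • g)⁻¹) * (a • g) := h2.symm
      _ = _ := by group
  have hKN : K ≤ N := by
    rw [hKdef, Subgroup.closure_le]
    rintro _ ⟨a, g, rfl⟩
    exact hgen a g
  have hNc : IsMulCommutative N := by
    refine MonoidHom.isMulCommutative_of_isCyclic_of_ker_le_center ((Abelianization.of).comp N.subtype) ?_
    intro z hz
    rw [MonoidHom.mem_ker, MonoidHom.comp_apply, ← MonoidHom.mem_ker, Abelianization.ker_of] at hz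
    rw [Subgroup.mem_center_iff]
    intro y
    exact Subtype.ext ((Subgroup.mem_centralizer_iff.1 y.2) _ hz).symm
  open scoped IsMulCommutative in
  haveI hNcyc : IsCyclic N := inferInstance
  have hKc : IsCyclic K := Subgroup.isCyclic_of_le hKN
  -- the norm map
  have hNa : ∀ (a : A) (y : G), y ∈ N → a • y ∈ N := by
    intro a y hy
    rw [hNdef, Subgroup.mem_centralizer_iff] at hy ⊢
    intro e he
    have h := Subgroup.characteristic_iff_map_le.1 (inferInstance : (commutator G).Characteristic)
      (MulDistribMulAction.toMulAut A G a⁻¹)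
    have := congrArg (a • ·) (hy _ (h ⟨e, he, rfl⟩))
    simpa [smul_mul'] using this
  let f : G → A → N := fun g a => ⟨g⁻¹ * a • g, hgen a g⟩
  let act : A → N → N := fun a y => ⟨a • (y : G), hNa a _ y.2⟩
  let C : Subgroup G :=
    { carrier := MulAction.fixedPoints A G
      one_mem' := fun a => smul_one a
      mul_mem' := fun {x y} hx hy a => by rw [smul_mul', hx a, hy a]
      inv_mem' := fun {x} hx a => by rw [smul_inv', hx a] }
  open scoped IsMulCommutative in
  have hdisj : K ⊓ C = ⊥ := by
    let nrm : N →* N :=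
      { toFun := fun y => ∏ b, act b y
        map_one' := Finset.prod_eq_one fun b _ => Subtype.ext (smul_one b)
        map_mul' := fun y z => by
          rw [← Finset.prod_mul_distrib]
          exact Finset.prod_congr rfl fun b _ => Subtype.ext (smul_mul' b (y : G) z) }
    have hker : K ≤ (nrm.ker).map N.subtype := by
      rw [hKdef, Subgroup.closure_le]
      rintro _ ⟨a, g, rfl⟩
      refine ⟨f g a, ?_, rfl⟩
      rw [SetLike.mem_coe, MonoidHom.mem_ker]
      change ∏ b, act b (f g a) = 1
      have h1 : ∀ b, act b (f g a) = (f g b)⁻¹ * f g (b * a) := fun b => Subtype.ext (by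
        change b • (g⁻¹ * a • g) = (g⁻¹ * b • g)⁻¹ * (g⁻¹ * (b * a) • g)
        rw [smul_mul', smul_inv', mul_smul]
        group)
      rw [Finset.prod_congr rfl fun b _ => h1 b, Finset.prod_mul_distrib, Finset.prod_inv_distrib,
        show ∏ b, f g (b * a) = ∏ b, f g b from Equiv.prod_comp (Equiv.mulRight a) (f g), inv_mul_cancel]
    rw [eq_bot_iff]
    rintro c ⟨hcK, hcC⟩
    obtain ⟨y, hy, rfl⟩ := hker hcK
    have h1 : ∀ b, act b y = y := fun b => Subtype.ext (hcC b)
    have h2 : nrm y = y ^ Nat.card A := by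
      change ∏ b, act b y = _
      rw [Finset.prod_congr rfl fun b _ => h1 b, Finset.prod_const, Finset.card_univ, Nat.card_eq_fintype_card]
    have h2' : y ^ Nat.card A = 1 := h2.symm.trans (MonoidHom.mem_ker.1 hy)
    have h3 : (y : G) ^ Nat.card A = 1 := by
      rw [← SubgroupClass.coe_pow, h2']; rfl
    exact Subgroup.mem_bot.2 (orderOf_eq_one_iff.1 (Nat.eq_one_of_dvd_coprimes hcop (orderOf_dvd_of_pow_eq_one h3)
      (orderOf_dvd_natCard _)))
  open scoped IsMulCommutative in
  have hdec : ∀ g : G, ∃ u ∈ K, g * u ∈ C := by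
    intro g
    obtain ⟨m, hm⟩ := exists_pow_eq_self_of_coprime (x := (Multiplicative.ofAdd (1 : ZMod (Nat.card N))))
      (n := Nat.card A) (by
        rw [orderOf_ofAdd_eq_addOrderOf, ZMod.addOrderOf_one]
        exact (hcop.coprime_dvd_right (Subgroup.card_subgroup_dvd_card N)))
    set P := ∏ b, f g b with hP
    have hPK : (P : G) ∈ K := by
      have h1 : P ∈ K.subgroupOf N := Subgroup.prod_mem _ fun b _ => Subgroup.subset_closure ⟨b, g, rfl⟩
      exact h1
    refine ⟨((P ^ m : N) : G), by rw [SubgroupClass.coe_pow]; exact K.pow_mem hPK m, fun a => ?_⟩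
    have h1 : P = (f g a) ^ Nat.card A * act a P := by
      have h2 : act a P = ∏ b, act a (f g b) := by
        let acta : N →* N :=
          { toFun := act a
            map_one' := Subtype.ext (smul_one a)
            map_mul' := fun y z => Subtype.ext (smul_mul' a (y : G) z) }
        exact map_prod acta (f g) Finset.univ
      have h3 : ∀ b, act a (f g b) = (f g a)⁻¹ * f g (a * b) := fun b => Subtype.ext (by
        change a • (g⁻¹ * b • g) = (g⁻¹ * a • g)⁻¹ * (g⁻¹ * (a * b) • g)
        rw [smul_mul', smul_inv', mul_smul]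
        group)
      rw [h2, Finset.prod_congr rfl fun b _ => h3 b, Finset.prod_mul_distrib, Finset.prod_const,
        Finset.card_univ, ← Nat.card_eq_fintype_card,
        show ∏ b, f g (a * b) = P from Equiv.prod_comp (Equiv.mulLeft a) (f g), inv_pow, mul_inv_cancel_left]
    have hm' : ∀ y : N, (y ^ Nat.card A) ^ m = y := by
      intro y
      have hmod : Nat.card A * m ≡ 1 [MOD Nat.card N] := by
        rw [← ZMod.natCast_eq_natCast_iff]
        have := congrArg Multiplicative.toAdd hm
        simpa [mul_comm] using this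
      rw [← pow_mul]
      conv_rhs => rw [← pow_one y]
      exact pow_eq_pow_iff_modEq.2 (hmod.of_dvd (orderOf_dvd_natCard y))
    have h4 : act a (P ^ m) = (f g a)⁻¹ * P ^ m := by
      have h5 : act a (P ^ m) = act a P ^ m := Subtype.ext (by simp [act, smul_pow'])
      rw [h5]
      conv_rhs => rw [h1, mul_pow, hm', inv_mul_cancel_left]
    have h6 : a • ((P ^ m : N) : G) = (g⁻¹ * a • g)⁻¹ * ((P ^ m : N) : G) := congrArg Subtype.val h4
    rw [smul_mul', h6]
    group
  have htop : K ⊔ C = ⊤ := by
    rw [eq_top_iff]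
    intro g _
    obtain ⟨u, hu, hgu⟩ := hdec g
    have : g = (g * u) * u⁻¹ := by group
    rw [this]
    exact Subgroup.mul_mem _ (Subgroup.mem_sup_right hgu) (Subgroup.mem_sup_left (K.inv_mem hu))
  haveI := hKn
  haveI := hKc
  have hC : Subgroup.IsComplement' K C := Subgroup.isComplement'_of_disjoint_and_mul_eq_univ
    (disjoint_iff.2 hdisj) (by rw [← Subgroup.normal_mul, htop]; rfl)
  refine ⟨?_, hKc, hKn, ?_, ?_⟩
  · have h1 : Nat.card (MulAction.fixedPoints A G : Set G) = Nat.card C := rfl
    rw [h1, ← hC.card_mul, Nat.mul_div_cancel _ Nat.card_pos]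
    exact card_coprime_of_complement K C hdisj
  · ext y
    simp only [Set.mem_inter_iff, SetLike.mem_coe, Set.mem_singleton_iff]
    refine ⟨fun hy => Subgroup.mem_bot.1 (hdisj ▸ (⟨hy.1, hy.2⟩ : y ∈ K ⊓ C)), fun hy => ?_⟩
    subst hy
    exact ⟨K.one_mem, fun a => smul_one a⟩
  · rw [show Subgroup.closure (MulAction.fixedPoints A G) = C from Subgroup.closure_eq C]
    exact htop

end Cfsg.Agent.S4117
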