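import Cfsg.Statements.S4118
import Mathlib
import Cfsg.Agent.Lib.Structure80.ComplementAut
import Cfsg.Agent.Lib.RegLinear.Final
import Cfsg.Agent.Lib.Coprime.Action
import Cfsg.Agent.Lib.Coprime.Commutator

set_option autoImplicit false
open Cfsg

namespace Cfsg.Agent.S4118

open scoped Pointwise

open CfsgLib.Coprime in
/-- the coprime-core is coprime and the largest such normal subgroup -/
lemma core_spec {G : Type*} [Group G] [Finite G] (m : ℕ) (O : Subgroup G)
    (hO : O = sSup {K : Subgroup G | K.Normal ∧ (Nat.card K).Coprime m}) :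
    O.Normal ∧ (Nat.card O).Coprime m ∧ ∀ K : Subgroup G, K.Normal → (Nat.card K).Coprime m → K ≤ O := by
  classical
  set 𝒮 := {K : Subgroup G | K.Normal ∧ (Nat.card K).Coprime m} with h𝒮
  have hne : 𝒮.Nonempty := ⟨⊥, inferInstance, by rw [Subgroup.card_bot]; exact Nat.coprime_one_left m⟩
  obtain ⟨M, hM⟩ := (Set.toFinite 𝒮).exists_maximal hne
  obtain ⟨hMn, hMc⟩ := hM.prop
  have hle : ∀ K ∈ 𝒮, K ≤ M := by
    rintro K ⟨hKn, hKc⟩
    have hKM : (K ⊔ M) ∈ 𝒮 := by
      refine ⟨Subgroup.sup_normal K M, ?_⟩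
      exact Nat.Coprime.coprime_dvd_left (card_sup_dvd (by haveI := hMn; rw [Subgroup.normalizer_eq_top]; exact le_top)) (hKc.mul_left hMc)
    exact le_sup_left.trans (hM.le_of_ge hKM le_sup_right)
  have hOM : O = M := hO.trans (le_antisymm (sSup_le hle) (le_sSup hM.prop))
  subst hOM
  exact ⟨hMn, hMc, fun K h1 h2 => hle K ⟨h1, h2⟩⟩

section
variable {G : Type*} [Group G] [Finite G] (H : Subgroup G)

/-- TI: normalisers of non-trivial subgroups of `H` lie in `N(H)`. -/
lemma normalizer_le (hTI : Cfsg.IsTISubset (H : Set G)) {R : Subgroup G} (hR : R ≤ H) (hR1 : R ≠ ⊥) :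
    Subgroup.normalizer (R : Set G) ≤ Subgroup.normalizer (H : Set G) := by
  intro g hg
  by_contra hgN
  obtain ⟨x, hxR, hx1⟩ := R.bot_or_exists_ne_one.resolve_left hR1
  exact hx1 (hTI g hgN x (hR hxR) (hR (CfsgLib.Coprime.mem_normalizer_conj hg hxR)))

/-- `H` is a Hall subgroup. -/
lemma hall (hTI : Cfsg.IsTISubset (H : Set G))
    (hHall : (Nat.card H).Coprime (H.subgroupOf (Subgroup.normalizer (H : Set G))).index) :
    (Nat.card H).Coprime H.index := by
  refine Nat.coprime_of_dvd fun p hp hpH hpI => ?_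
  haveI := Fact.mk hp
  obtain ⟨P⟩ := (inferInstance : Nonempty (Sylow p H))
  set P0 := (P : Subgroup H).map H.subtype with hP0
  have hP0H : P0 ≤ H := Subgroup.map_subtype_le _
  have hP0p : IsPGroup p P0 := P.isPGroup'.map _
  have hP0c : Nat.card P0 = p ^ (Nat.card H).factorization p := by
    rw [hP0, Subgroup.card_map_of_injective H.subtype_injective, P.card_eq_multiplicity]
  have hP01 : P0 ≠ ⊥ := by
    intro h
    rw [h, Subgroup.card_bot] at hP0c
    have := hp.factorization_pos_of_dvd Nat.card_pos.ne' hpH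
    exact absurd hP0c.symm (by simp [hp.ne_one]; omega)
  obtain ⟨Q, hQ⟩ := hP0p.exists_le_sylow
  have heq : P0 = (Q : Subgroup G) := by
    by_contra hne
    haveI := Q.isPGroup'.isNilpotent
    have hlt : P0.subgroupOf (Q : Subgroup G) < ⊤ := by
      rw [lt_top_iff_ne_top, Ne, Subgroup.subgroupOf_eq_top]
      exact fun h => hne (le_antisymm hQ h)
    have hgrow := Group.normalizerCondition_of_isNilpotent (G := (Q : Subgroup G)) _ hlt
    obtain ⟨y, hyN, hy⟩ := SetLike.exists_of_lt hgrow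
    set N := Subgroup.normalizer (H : Set G)
    have hyN' : (y : G) ∈ N := by
      refine normalizer_le H hTI hP0H hP01 (CfsgLib.Coprime.mem_normalizer_of_forall_conj fun x hx => ?_)
      have h2 : (⟨x, hQ hx⟩ : (Q : Subgroup G)) ∈ P0.subgroupOf (Q : Subgroup G) := hx
      exact ((Subgroup.mem_normalizer_iff.1 hyN) _).1 h2
    set R := (Q : Subgroup G) ⊓ N with hR
    obtain ⟨b, hb⟩ := IsPGroup.iff_card.1 (Q.isPGroup'.to_le (inf_le_left : R ≤ (Q : Subgroup G)))
    have h3 : Nat.card R ∣ Nat.card H * (H.subgroupOf N).index := by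
      have h4 := (H.subgroupOf N).card_mul_index
      rw [CfsgLib.Coprime.card_subgroupOf (Subgroup.le_normalizer : H ≤ N)] at h4
      rw [h4]
      exact Subgroup.card_dvd_of_le inf_le_right
    have h4 : p.Coprime (H.subgroupOf N).index :=
      hp.coprime_iff_not_dvd.2 fun h => hp.not_dvd_one (hHall ▸ Nat.dvd_gcd hpH h)
    rw [hb] at h3
    have h5 : p ^ b ∣ Nat.card H := (h4.pow_left b).dvd_of_dvd_mul_right h3
    have h6 : b ≤ (Nat.card H).factorization p :=
      (Nat.Prime.pow_dvd_iff_le_factorization hp Nat.card_pos.ne').1 h5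
    have h7 : P0 ≤ R := le_inf hQ (hP0H.trans Subgroup.le_normalizer)
    have h8 : P0 = R := Subgroup.eq_of_le_of_card_ge h7
      (by rw [hb, hP0c]; exact Nat.pow_le_pow_right hp.pos h6)
    apply hy
    change (y : G) ∈ P0
    rw [h8]
    exact ⟨y.2, hyN'⟩
  have h9 : H.index ∣ (Q : Subgroup G).index := Subgroup.index_dvd_of_le (heq ▸ hP0H)
  exact Q.not_dvd_index (hpI.trans h9)

/-- Frattini. -/
lemma sup_normalizer_eq_top (hTI : Cfsg.IsTISubset (H : Set G)) (hH : (Nat.card H).Coprime H.index)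
    (R : Subgroup G) [R.Normal] {p : ℕ} [hp : Fact p.Prime] (hpH : p ∣ Nat.card H) (hpR : p ∣ Nat.card R) :
    R ⊔ Subgroup.normalizer (H : Set G) = ⊤ := by
  set N := Subgroup.normalizer (H : Set G)
  obtain ⟨P⟩ := (inferInstance : Nonempty (Sylow p R))
  set P1 := (P : Subgroup R).map R.subtype with hP1
  have hP11 : P1 ≠ ⊥ := by
    rw [hP1, Ne, Subgroup.map_eq_bot_iff_of_injective _ R.subtype_injective]
    exact P.ne_bot_of_dvd_card hpR
  obtain ⟨P0⟩ := (inferInstance : Nonempty (Sylow p H))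
  obtain ⟨Q, hQ⟩ := (P0.isPGroup'.map H.subtype).exists_le_sylow
  obtain ⟨Q', hQ'⟩ := (P.isPGroup'.map R.subtype).exists_le_sylow
  have hQH : (Q : Subgroup G) ≤ H := by
    have hidx : ¬ p ∣ ((P0 : Subgroup H).map H.subtype).index := by
      rw [Subgroup.index_map_subtype]
      intro h
      rcases hp.out.dvd_mul.1 h with h | h
      · exact P0.not_dvd_index h
      · exact hp.out.not_dvd_one (hH ▸ Nat.dvd_gcd hpH h)
    obtain ⟨k, hk⟩ := IsPGroup.iff_card.1 Q.isPGroup'
    have heq : (P0 : Subgroup H).map H.subtype = (Q : Subgroup G) := by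
      set P0' : Sylow p G := (P0.isPGroup'.map H.subtype).toSylow hidx
      exact (P0'.3 Q.isPGroup' hQ).symm
    rw [← heq]
    exact Subgroup.map_subtype_le _
  obtain ⟨g, hg⟩ := MulAction.exists_smul_eq G Q' Q
  have hconj : ∀ x ∈ P1, g * x * g⁻¹ ∈ H := fun x hx => hQH (by
    rw [← hg]
    change g * x * g⁻¹ ∈ MulAut.conj g • (Q' : Subgroup G)
    rw [CfsgLib.Coprime.mem_conj_smul]
    have : g⁻¹ * (g * x * g⁻¹) * g = x := by group
    rw [this]
    exact hQ' hx)
  have hNP : ∀ n ∈ Subgroup.normalizer (P1 : Set G), g * n * g⁻¹ ∈ N := by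
    intro n hn
    refine normalizer_le H hTI (R := P1.map (MulAut.conj g).toMonoidHom) ?_ ?_ ?_
    · rintro _ ⟨x, hx, rfl⟩; exact hconj x hx
    · rw [Ne, Subgroup.map_eq_bot_iff_of_injective _ (MulAut.conj g).injective]; exact hP11
    · refine CfsgLib.Coprime.mem_normalizer_of_forall_conj ?_
      rintro _ ⟨x, hx, rfl⟩
      refine ⟨n * x * n⁻¹, CfsgLib.Coprime.mem_normalizer_conj hn hx, ?_⟩
      simp only [MulEquiv.coe_toMonoidHom, MulAut.conj_apply]
      group
  have hfr : Subgroup.normalizer (P1 : Set G) ⊔ R = ⊤ := P.normalizer_sup_eq_top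
  have hRn := (inferInstance : R.Normal)
  have hkey : ∀ y : G, g * y * g⁻¹ ∈ R ⊔ N := by
    intro y
    have hy : y ∈ ((Subgroup.normalizer (P1 : Set G) ⊔ R : Subgroup G) : Set G) := hfr ▸ Subgroup.mem_top y
    rw [Subgroup.mul_normal] at hy
    obtain ⟨n, hn, r, hr, rfl⟩ := hy
    rw [show g * (n * r) * g⁻¹ = (g * n * g⁻¹) * (g * r * g⁻¹) by group]
    exact mul_mem (Subgroup.mem_sup_right (hNP n hn)) (Subgroup.mem_sup_left (hRn.conj_mem r hr g))
  rw [eq_top_iff]
  intro y _
  have := hkey (g⁻¹ * y * g)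
  rwa [show g * (g⁻¹ * y * g) * g⁻¹ = y by group] at this

end

section
variable {G : Type*} [Group G] [Finite G] (H O : Subgroup G)

/-- A non-normal TI Hall subgroup acts without fixed points on a non-trivial group made from a
solvable normal coprime subgroup not normalising it. -/
lemma exists_fpf (hTI : Cfsg.IsTISubset (H : Set G)) [O.Normal]
    (hc : (Nat.card O).Coprime (Nat.card H)) (hOs : Group.IsSolvable O)
    (hON : ¬ O ≤ Subgroup.normalizer (H : Set G)) :
    ∃ (B : Subgroup G) (_ : B.Normal) (W : Subgroup (G ⧸ B)) (_ : MulDistribMulAction H W),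
      W ≠ ⊥ ∧ CfsgLib.Frobenius.IsFPF H W := by
  classical
  set N := Subgroup.normalizer (H : Set G)
  set C := Subgroup.centralizer (H : Set G)
  have hdis : O ⊓ H = ⊥ := CfsgLib.Coprime.inf_eq_bot_of_coprime_dvd dvd_rfl dvd_rfl hc
  have hNC : ∀ o ∈ O, o ∈ N → o ∈ C := fun o ho hoN =>
    CfsgLib.Coprime.mem_centralizer_of_normalizes (A := H) (K := O) (inf_comm H O ▸ hdis)
      (by rw [Subgroup.normalizer_eq_top]; exact le_top) ho
      (fun h hh => CfsgLib.Coprime.mem_normalizer_conj hoN hh)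
  have hfixed : ∀ h ∈ H, h ≠ 1 → ∀ o ∈ O, h * o = o * h → o ∈ C := by
    intro h hh h1 o ho hcm
    refine hNC o ho ?_
    by_contra hoN
    exact h1 (hTI o hoN h hh (by rw [← hcm, mul_inv_cancel_right]; exact hh))
  have hOC : ¬ O ≤ C := fun h => hON (h.trans (Subgroup.centralizer_le_normalizer _))
  obtain ⟨n, hn⟩ := (Group.isSolvable_def O).1 hOs
  let D : ℕ → Subgroup G := fun i => (derivedSeries O i).map O.subtype
  have hDn : ∀ i, (D i).Normal := fun i => ConjAct.normal_of_characteristic_of_normal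
  have hex : ∃ i, D i ≤ C := ⟨n, by simp [D, hn]⟩
  have hi0 : Nat.find hex ≠ 0 := by
    intro h0
    have h1 := Nat.find_spec hex
    rw [h0] at h1
    refine hOC ?_
    simpa [D, Subgroup.map_top_of_surjective, ← MonoidHom.range_eq_map] using h1
  obtain ⟨i, hi⟩ := Nat.exists_eq_succ_of_ne_zero hi0
  have hB : D (i + 1) ≤ C := by rw [← Nat.succ_eq_add_one, ← hi]; exact Nat.find_spec hex
  have hA : ¬ D i ≤ C := Nat.find_min hex (by omega)
  have hAO : D i ≤ O := Subgroup.map_subtype_le _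
  have hcomm : ∀ a ∈ D i, ∀ b ∈ D i, a * b * a⁻¹ * b⁻¹ ∈ D (i + 1) := by
    rintro _ ⟨a, ha, rfl⟩ _ ⟨b, hb, rfl⟩
    exact ⟨a * b * a⁻¹ * b⁻¹, Subgroup.commutator_mem_commutator ha hb, by simp⟩
  haveI := hDn i
  haveI := hDn (i + 1)
  set A := D i with hAdef
  set B := D (i + 1) with hBdef
  set f := QuotientGroup.mk' B with hf
  have hAH : H ≤ Subgroup.normalizer (A : Set G) := by rw [Subgroup.normalizer_eq_top]; exact le_top
  have hcA : (Nat.card A).Coprime (Nat.card H) := Nat.Coprime.coprime_dvd_left (Subgroup.card_dvd_of_le hAO) hc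
  have hAs : Group.IsSolvable A :=
    Group.isSolvable_of_isSolvable_injective (f := Subgroup.inclusion hAO) (Subgroup.inclusion_injective hAO)
  haveI hVc : IsMulCommutative (A.map f) := .of_setLike_mul_comm <| by
    rintro _ ⟨a, ha, rfl⟩ _ ⟨b, hb, rfl⟩
    have h1 : f (a * b * a⁻¹ * b⁻¹) = 1 := (QuotientGroup.eq_one_iff _).2 (hcomm a ha b hb)
    rw [map_mul, map_mul, map_mul, map_inv, map_inv, mul_inv_eq_one, mul_inv_eq_iff_eq_mul] at h1
    exact h1
  have hnV : H.map f ≤ Subgroup.normalizer ((A.map f : Subgroup (G ⧸ B)) : Set (G ⧸ B)) := by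
    haveI : (A.map f).Normal := (hDn i).map f (QuotientGroup.mk'_surjective B)
    rw [Subgroup.normalizer_eq_top]; exact le_top
  have hcV : (Nat.card (H.map f)).Coprime (Nat.card (A.map f)) :=
    (Nat.Coprime.coprime_dvd_left (Subgroup.card_map_dvd A f) (Nat.Coprime.coprime_dvd_right (Subgroup.card_map_dvd H f) hcA)).symm
  have hW : ⁅A.map f, H.map f⁆ ≤ A.map f := CfsgLib.Coprime.commutator_le_of_normalizes hnV
  set W := ⁅A.map f, H.map f⁆ with hWdef
  have hWn : H.map f ≤ Subgroup.normalizer (W : Set (G ⧸ B)) := CfsgLib.Coprime.le_normalizer_commutator_right _ _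
  have hW1 : W ≠ ⊥ := by
    intro hW0
    apply hA
    intro a ha
    refine Subgroup.le_centralizer_iff.1 (CfsgLib.Coprime.le_centralizer_of_trivial_on_series H A hAH hcA.symm (Or.inr hAs) B
      (Subgroup.map_mono (derivedSeries_antitone O (Nat.le_succ i)))
      (fun h hh => Subgroup.le_centralizer_iff.1 hB hh) ?_) ha
    intro h hh k hk
    rw [← QuotientGroup.eq_one_iff]
    have h1 := Subgroup.commutator_eq_bot_iff_le_centralizer.1 hW0 (Subgroup.mem_map_of_mem f hk)
    have h2 := Subgroup.mem_centralizer_iff.1 h1 (f h) (Subgroup.mem_map_of_mem f hh)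
    change f (k⁻¹ * (h * k * h⁻¹)) = 1
    rw [map_mul, map_mul, map_mul, map_inv, map_inv, h2, mul_inv_cancel_right, inv_mul_cancel]
  have hmem : ∀ (h : H) (w : G ⧸ B), w ∈ W → f h * w * (f h)⁻¹ ∈ W := fun h w hw =>
    CfsgLib.Coprime.mem_normalizer_conj (hWn (Subgroup.mem_map_of_mem f h.2)) hw
  letI act : MulDistribMulAction H W :=
    { smul := fun h w => ⟨f h * w * (f h)⁻¹, hmem h w w.2⟩
      one_smul := fun w => Subtype.ext (show f (1 : G) * (w : G ⧸ B) * (f (1 : G))⁻¹ = w by simp)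
      mul_smul := fun a b w => Subtype.ext (show f ((a : G) * b) * (w : G ⧸ B) * (f ((a : G) * b))⁻¹
        = f a * (f b * w * (f b)⁻¹) * (f a)⁻¹ by rw [map_mul]; group)
      smul_mul := fun a v w => Subtype.ext (show f a * ((v : G ⧸ B) * w) * (f a)⁻¹
        = (f a * v * (f a)⁻¹) * (f a * w * (f a)⁻¹) by group)
      smul_one := fun a => Subtype.ext (show f a * (1 : G ⧸ B) * (f a)⁻¹ = 1 by simp) }
  refine ⟨B, inferInstance, W, act, hW1, fun h h1 w hw => ?_⟩
  have hw' : f h * (w : G ⧸ B) = w * f h := mul_inv_eq_iff_eq_mul.1 (congrArg Subtype.val hw)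
  have hz : Subgroup.zpowers (h : G) ≤ H := Subgroup.zpowers_le.2 h.2
  have hkey := CfsgLib.Coprime.map_inf_centralizer f (Subgroup.zpowers (h : G)) A (hz.trans hAH)
    (Nat.Coprime.coprime_dvd_left (Subgroup.card_dvd_of_le hz) hcA.symm) (Or.inr hAs)
  have hwc : (w : G ⧸ B) ∈ A.map f ⊓ Subgroup.centralizer ((Subgroup.zpowers (h : G)).map f : Set (G ⧸ B)) := by
    refine ⟨hW w.2, Subgroup.mem_centralizer_iff.2 ?_⟩
    rintro _ ⟨_, ⟨j, rfl⟩, rfl⟩
    rw [map_zpow]
    exact ((show Commute (f h) (w : G ⧸ B) from hw').zpow_left j).eq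
  rw [← hkey] at hwc
  obtain ⟨a, ⟨haA, hac⟩, haw⟩ := hwc
  have haC := hfixed h h.2 (fun h0 => h1 (Subtype.ext h0)) a (hAO haA)
    (Subgroup.mem_centralizer_iff.1 hac _ (Subgroup.mem_zpowers _))
  have hwC : (w : G ⧸ B) ∈ Subgroup.centralizer (H.map f : Set (G ⧸ B)) := by
    rw [← haw, Subgroup.mem_centralizer_iff]
    rintro _ ⟨k, hk, rfl⟩
    rw [← map_mul, ← map_mul, Subgroup.mem_centralizer_iff.1 haC k hk]
  have hbot := CfsgLib.Coprime.commutator_inf_centralizer_eq_bot (H.map f) (A.map f) hnV hcV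
  exact Subtype.ext (Subgroup.mem_bot.1 (hbot ▸ ⟨w.2, hwC⟩))

end

/-- Let G be a finite group and H a non-normal subgroup meeting each of its conjugates by elements outside N_G(H) trivially, with the order of H coprime to its index in N_G(H); let π be the set of primes dividing the order of H and suppose G is π-separable (it has a chain of normal subgroups from 1 to G each of whose factors has order divisible only by primes in π or coprime to the order of H). Let O be the largest normal subgroup of G of order coprime to the order of H. Then G = O·N_G(H), O·H is normal in G, and G is solvable if and only if O is solvable and H has no subgroup isomorphic to SL₂(5). -/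
theorem result {G : Type*} [Group G] [Finite G] (H : Subgroup G)
    (hTI : Cfsg.IsTISubset (H : Set G)) (hnn : ¬ H.Normal)
    (hHall : (Nat.card H).Coprime (H.subgroupOf (Subgroup.normalizer (H : Set G))).index)
    (hsep : ∃ (n : ℕ) (M : Fin (n + 1) → Subgroup G), M 0 = ⊥ ∧ M (Fin.last n) = ⊤ ∧ Monotone M ∧ (∀ i, (M i).Normal) ∧
      ∀ i : Fin n, (∀ q : ℕ, q.Prime → q ∣ (M i.castSucc).relIndex (M i.succ) → q ∣ Nat.card H) ∨
        ((M i.castSucc).relIndex (M i.succ)).Coprime (Nat.card H))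
    (O : Subgroup G) (hO : O = sSup {K : Subgroup G | K.Normal ∧ (Nat.card K).Coprime (Nat.card H)}) :
    O ⊔ Subgroup.normalizer (H : Set G) = ⊤ ∧ (O ⊔ H).Normal ∧
    (Group.IsSolvable G ↔ Group.IsSolvable O ∧
      ∀ K : Subgroup G, K ≤ H → ¬ Nonempty (K ≃* Matrix.SpecialLinearGroup (Fin 2) (ZMod 5))) := by
  classical
  obtain ⟨hOn, hOc, hOmax⟩ := core_spec _ O hO
  haveI := hOn
  set N := Subgroup.normalizer (H : Set G) with hN
  have hH := hall H hTI hHall
  have hH1 : H ≠ ⊥ := fun h => hnn (h ▸ inferInstance)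
  have hOtop : O ≠ ⊤ := by
    intro h
    apply hH1
    rw [← Subgroup.card_eq_one]
    rw [h, Subgroup.card_top] at hOc
    exact Nat.Coprime.eq_one_of_dvd hOc.symm (Subgroup.card_subgroup_dvd_card H)
  -- first part
  obtain ⟨n, M, hM0, hMn, hMmono, hMnor, hMfac⟩ := hsep
  obtain ⟨i, hi1, hi2⟩ : ∃ i : Fin n, M i.castSucc ≤ O ∧ ¬ M i.succ ≤ O := by
    by_contra hcon
    push Not at hcon
    have hall : ∀ j : Fin (n + 1), M j ≤ O := by
      intro j
      induction j using Fin.induction with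
      | zero => rw [hM0]; exact bot_le
      | succ j ih => exact hcon j ih
    exact hOtop (top_le_iff.1 (hMn ▸ hall (Fin.last n)))
  haveI := hMnor i.succ
  have hle : M i.castSucc ≤ M i.succ := hMmono (Fin.castSucc_le_succ i)
  have hfac : ∀ q : ℕ, q.Prime → q ∣ (M i.castSucc).relIndex (M i.succ) → q ∣ Nat.card H := by
    rcases hMfac i with h | h
    · exact h
    refine absurd (hOmax _ (hMnor _) ?_) hi2
    rw [← Subgroup.relIndex_bot_left, ← Subgroup.relIndex_mul_relIndex ⊥ _ _ bot_le hle, Subgroup.relIndex_bot_left]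
    exact ((Nat.Coprime.coprime_dvd_left (Subgroup.card_dvd_of_le hi1) hOc)).mul_left h
  set R := M i.succ ⊔ O with hR
  haveI : R.Normal := Subgroup.sup_normal _ _
  obtain ⟨p, hp, hpR, hpH⟩ : ∃ p, p.Prime ∧ p ∣ Nat.card R ∧ p ∣ Nat.card H := by
    refine Nat.Prime.not_coprime_iff_dvd.1 fun hc => hi2 ?_
    exact le_sup_left.trans (hOmax R inferInstance hc)
  haveI := Fact.mk hp
  have hRN : R ⊔ N = ⊤ := sup_normalizer_eq_top H hTI hH R hpH hpR
  have hON : O ⊔ N = ⊤ := by
    rw [← Subgroup.index_eq_one]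
    set X := O ⊔ N with hX
    have e2 : X.index = X.relIndex R := by
      have htop : X ⊔ R = ⊤ := top_le_iff.1 (hRN ▸ sup_le le_sup_right (le_sup_right.trans le_sup_left))
      have h1 := CfsgLib.Coprime.card_sup_mul_card_inf (H := X) (N := R)
        (by rw [Subgroup.normalizer_eq_top]; exact le_top)
      rw [htop, Subgroup.card_top, ← X.card_mul_index, ← Subgroup.relIndex_bot_left (R),
        ← Subgroup.relIndex_mul_relIndex ⊥ _ _ bot_le (inf_le_left : R ⊓ X ≤ R), Subgroup.relIndex_bot_left,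
        Subgroup.inf_relIndex_left] at h1
      refine Nat.eq_of_mul_eq_mul_left (n := Nat.card X * Nat.card (R ⊓ X : Subgroup G)) (Nat.mul_pos Nat.card_pos Nat.card_pos) ?_
      linarith
    have h1 : X.index ∣ (M i.castSucc).relIndex (M i.succ) := by
      have e1 : X.relIndex R ∣ O.relIndex R := Subgroup.relIndex_dvd_of_le_left _ le_sup_left
      have e3 : O.relIndex R = O.relIndex (M i.succ) := Subgroup.relIndex_sup_right (M i.succ) O
      have e4 : O.relIndex (M i.succ) ∣ (M i.castSucc).relIndex (M i.succ) :=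
        Subgroup.relIndex_dvd_of_le_left _ hi1
      rw [e2]
      exact e1.trans (e3 ▸ e4)
    by_contra hne
    obtain ⟨q, hq, hqX⟩ := Nat.exists_prime_and_dvd hne
    exact hq.not_dvd_one (hH ▸ Nat.dvd_gcd (hfac q hq (hqX.trans h1))
      (hqX.trans (Subgroup.index_dvd_of_le (Subgroup.le_normalizer.trans le_sup_right))))
  have hOH : (O ⊔ H).Normal := by
    rw [← Subgroup.normalizer_eq_top_iff, eq_top_iff, ← hON]
    refine sup_le (le_sup_left.trans Subgroup.le_normalizer) fun g hg => ?_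
    refine CfsgLib.Coprime.mem_normalizer_of_forall_conj fun x hx => ?_
    have h1 : (O ⊔ H).map (MulAut.conj g).toMonoidHom ≤ O ⊔ H := by
      rw [Subgroup.map_sup]
      refine sup_le ?_ ?_
      · rintro _ ⟨o, ho, rfl⟩
        exact Subgroup.mem_sup_left (hOn.conj_mem o ho g)
      · rintro _ ⟨h, hh, rfl⟩
        exact Subgroup.mem_sup_right (CfsgLib.Coprime.mem_normalizer_conj hg hh)
    exact h1 (Subgroup.mem_map_of_mem _ hx)
  refine ⟨hON, hOH, fun hG => ⟨inferInstance, fun K _ hK => ?_⟩, fun ⟨hOs, hno⟩ => ?_⟩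
  · obtain ⟨e⟩ := hK
    exact CfsgLib.RegLinear.not_isSolvable_sl25 (Group.isSolvable_of_surjective (f := e.toMonoidHom) e.surjective)
  have hONn : ¬ O ≤ N := by
    intro h
    have htop : N = ⊤ := by rw [← hON, sup_of_le_right h]
    exact hnn (Subgroup.normalizer_eq_top_iff.1 htop)
  obtain ⟨B, hBn, W, act, hW1, hfpf⟩ := exists_fpf H O hTI hOc hOs hONn
  haveI := hBn
  haveI : Nontrivial W := (Subgroup.nontrivial_iff_ne_bot W).2 hW1
  haveI hHs : Group.IsSolvable H := CfsgLib.Structure80.ComplementAut.isSolvable_of_no_sl25 hfpf fun K ⟨e⟩ =>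
    hno (K.map H.subtype) (Subgroup.map_subtype_le K)
      ⟨(K.equivMapOfInjective H.subtype H.subtype_injective).symm.trans e⟩
  set π := QuotientGroup.mk' O with hπ
  have hπs := QuotientGroup.mk'_surjective O
  set Hb := H.map π with hHb
  haveI hHbn : Hb.Normal := by
    have := hOH.map π hπs
    rwa [Subgroup.map_sup, QuotientGroup.map_mk'_self, bot_sup_eq] at this
  have hdis : O ⊓ H = ⊥ := CfsgLib.Coprime.inf_eq_bot_of_coprime_dvd dvd_rfl dvd_rfl hOc
  have hHbc : Nat.card Hb = Nat.card H :=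
    CfsgLib.Coprime.card_map_of_disjoint π (by rw [hπ, QuotientGroup.ker_mk']; exact hdis)
  have hcop : (Nat.card Hb).Coprime Hb.index := by
    rw [hHbc]
    exact Nat.Coprime.coprime_dvd_right (Subgroup.index_map_dvd H hπs) hH
  obtain ⟨K, hK⟩ := Subgroup.exists_right_complement'_of_coprime hcop
  have hKc : (Nat.card K).Coprime (Nat.card H) := by
    rw [← hHbc, ← hK.symm.index_eq_card]
    exact hcop.symm
  let eH : H ≃* Hb := MulEquiv.ofBijective (π.subgroupMap H) ⟨(MonoidHom.ker_eq_bot_iff _).1 (by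
      rw [eq_bot_iff]
      intro x hx
      have h1 : (x : G) ∈ O := (QuotientGroup.eq_one_iff _).1 (congrArg Subtype.val (MonoidHom.mem_ker.1 hx))
      exact Subtype.ext (Subgroup.mem_bot.1 (hdis ▸ ⟨h1, x.2⟩))), π.subgroupMap_surjective H⟩
  let φ : K →* MulAut H := ((MulAut.congr eH.symm).toMonoidHom.comp (MulAut.conjNormal : (G ⧸ O) →* MulAut Hb)).comp K.subtype
  have hφ : Function.Injective φ := by
    rw [← MonoidHom.ker_eq_bot_iff, eq_bot_iff]
    intro k hk
    rw [Subgroup.mem_bot]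
    have hk1 : MulAut.conjNormal (k : G ⧸ O) = (1 : MulAut Hb) := by
      apply (MulAut.congr eH.symm).injective
      rw [map_one]
      exact hk
    set C := Subgroup.centralizer (Hb : Set (G ⧸ O))
    haveI : C.Normal := inferInstance
    have hkC : (k : G ⧸ O) ∈ C := by
      rw [Subgroup.mem_centralizer_iff]
      intro x hx
      have h1 : (k : G ⧸ O) * x * (k : G ⧸ O)⁻¹ = x := by
        have := congrArg Subtype.val (DFunLike.congr_fun hk1 ⟨x, hx⟩)
        rwa [MulAut.conjNormal_apply, MulAut.one_apply] at this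
      exact (mul_inv_eq_iff_eq_mul.1 h1).symm
    set L := K ⊓ C
    have hLn : L.Normal := by
      rw [← Subgroup.normalizer_eq_top_iff, eq_top_iff, ← hK.sup_eq_top]
      refine sup_le ?_ ?_
      · refine fun x hx => CfsgLib.Coprime.mem_normalizer_of_forall_conj fun l hl => ?_
        have h1 := Subgroup.mem_centralizer_iff.1 hl.2 x hx
        rw [h1, mul_inv_cancel_right]
        exact hl
      · refine fun x hx => CfsgLib.Coprime.mem_normalizer_of_forall_conj fun l hl => ?_
        exact ⟨K.mul_mem (K.mul_mem hx hl.1) (K.inv_mem hx), (inferInstance : C.Normal).conj_mem l hl.2 x⟩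
    have hLc : (Nat.card (L.comap π)).Coprime (Nat.card H) := by
      rw [← CfsgLib.Coprime.card_map_mul_inf_ker π (L.comap π), Subgroup.map_comap_eq_self_of_surjective hπs L]
      refine Nat.Coprime.mul_left (Nat.Coprime.coprime_dvd_left (Subgroup.card_dvd_of_le inf_le_left) hKc)
        (Nat.Coprime.coprime_dvd_left ?_ hOc)
      rw [hπ, QuotientGroup.ker_mk']
      exact Subgroup.card_dvd_of_le inf_le_left
    have h2 := hOmax _ (hLn.comap π) hLc
    obtain ⟨g, hg⟩ := hπs (k : G ⧸ O)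
    have h3 : g ∈ L.comap π := Subgroup.mem_comap.2 (hg ▸ ⟨k.2, hkC⟩)
    exact Subtype.ext (hg.symm.trans ((QuotientGroup.eq_one_iff g).2 (h2 h3)))
  haveI hKs : Group.IsSolvable K :=
    CfsgLib.Structure80.ComplementAut.isSolvable_of_coprime_mulAut hfpf φ hφ hKc
  haveI : Group.IsSolvable Hb := Group.isSolvable_of_surjective (f := eH.toMonoidHom) eH.surjective
  haveI : Group.IsSolvable ((G ⧸ O) ⧸ Hb) := by
    refine Group.isSolvable_of_surjective (f := (QuotientGroup.mk' Hb).comp K.subtype) ?_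
    intro x
    obtain ⟨y, rfl⟩ := QuotientGroup.mk'_surjective Hb x
    obtain ⟨⟨a, b⟩, rfl⟩ := hK.2 y
    exact ⟨b, by simp [(QuotientGroup.eq_one_iff (a : G ⧸ O)).2 a.2]⟩
  haveI : Group.IsSolvable (G ⧸ O) := Group.isSolvable_of_ker_le_range Hb.subtype (QuotientGroup.mk' Hb) (by simp)
  haveI := hOs
  exact Group.isSolvable_of_ker_le_range O.subtype (QuotientGroup.mk' O) (by simp)

end Cfsg.Agent.S4118
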