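import Cfsg.Statements.S4120
import Cfsg.Agent.Lib.FrobAut20.Nilpotent
import Cfsg.Agent.Lib.FrobAut20.Complement

set_option autoImplicit false
open Cfsg

namespace Cfsg.Agent.S4120

/-- Let the finite group A act faithfully on the finite group G by automorphisms, and suppose A is a Frobenius group with kernel F and complement H such that F fixes only the identity of G. If the fixed-point subgroup C_G(H) is nilpotent, then G is nilpotent. -/
theorem result {G A : Type*} [Group G] [Finite G] [Group A] [Finite A] [MulDistribMulAction A G] [FaithfulSMul A G]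
    (Fk Hc : Subgroup A) [Fk.Normal] (hHc : Cfsg.IsFrobeniusComplement Hc) (hker : Cfsg.frobeniusKernel Hc = (Fk : Set A))
    (hCF : ∀ g : G, (∀ f ∈ Fk, f • g = g) → g = 1) (hnil : Group.IsNilpotent (Subgroup.closure {g : G | ∀ h ∈ Hc, h • g = g})) : Group.IsNilpotent G := by
  have hclosure : Subgroup.closure {g : G | ∀ h ∈ Hc, h • g = g} = CfsgLib.FrobAut20.fixSub Hc G :=
    Subgroup.closure_eq (CfsgLib.FrobAut20.fixSub Hc G)
  rw [hclosure] at hnil
  exact CfsgLib.FrobAut20.isNilpotent_of_fixSub
    (CfsgLib.FrobAut20.opData_of_frobenius hHc hker) hCF hnil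

end Cfsg.Agent.S4120
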