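import Cfsg.Statements.S4125
import Mathlib
import Cfsg.Agent.Lib.Structure80.OrbitPrimePower
import Cfsg.Agent.Lib.PCore.PSolvable
import Cfsg.Agent.Lib.PCore.Basic
import Cfsg.Agent.Lib.Characters.Burnside
import Cfsg.Agent.Lib.ClassSize.SquarefreeStructure
import Cfsg.Agent.Lib.Structure80.Basic
import Cfsg.Agent.Lib.Coprime.Action
import Cfsg.Agent.Lib.Coprime.Commutator

set_option autoImplicit false
open Cfsg

namespace Cfsg.Agent.S4125

open scoped Pointwise

universe u

/-- Every element of `q`-power order has prime power class. -/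
def QClass (q : ℕ) (G : Type u) [Group G] : Prop :=
  ∀ x : G, (∃ k : ℕ, orderOf x = q ^ k) →
    ∃ (r : ℕ) (a : ℕ), r.Prime ∧ (Subgroup.centralizer ({x} : Set G)).index = r ^ a

section
variable {G : Type u} [Group G] [Finite G]

omit [Finite G] in
lemma qelem_of_mem {q : ℕ} [Fact q.Prime] {P : Subgroup G} (hP : IsPGroup q P) {x : G} (hx : x ∈ P) :
    ∃ k, orderOf x = q ^ k := by
  obtain ⟨k, hk⟩ := IsPGroup.iff_orderOf.1 hP ⟨x, hx⟩
  exact ⟨k, by rwa [Subgroup.orderOf_mk] at hk⟩

omit [Finite G] in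
lemma exists_conj_mem {q : ℕ} [Fact q.Prime] [Finite (Sylow q G)] (Q : Sylow q G) {x : G}
    (hx : ∃ k, orderOf x = q ^ k) : ∃ g : G, g * x * g⁻¹ ∈ (Q : Subgroup G) := by
  obtain ⟨k, hk⟩ := hx
  obtain ⟨Q', hQ'⟩ := (IsPGroup.of_card (n := k) (by rw [Nat.card_zpowers, hk]) :
    IsPGroup q (Subgroup.zpowers x)).exists_le_sylow
  obtain ⟨g, hg⟩ := MulAction.exists_smul_eq G Q' Q
  refine ⟨g, ?_⟩
  rw [← hg, Sylow.coe_subgroup_smul]
  exact Subgroup.mem_map_of_mem _ (hQ' (Subgroup.mem_zpowers x))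

lemma centralizer_conj_index (g x : G) : (Subgroup.centralizer ({g * x * g⁻¹} : Set G)).index =
    (Subgroup.centralizer ({x} : Set G)).index := by
  have h : Subgroup.centralizer ({g * x * g⁻¹} : Set G) =
      (Subgroup.centralizer ({x} : Set G)).map (MulAut.conj g).toMonoidHom := by
    ext c
    rw [Subgroup.mem_centralizer_singleton_iff]
    constructor
    · intro hc
      refine ⟨g⁻¹ * c * g, ?_, by simp [mul_assoc]⟩
      rw [SetLike.mem_coe, Subgroup.mem_centralizer_singleton_iff]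
      calc g⁻¹ * c * g * x = g⁻¹ * (c * (g * x * g⁻¹)) * g := by group
        _ = g⁻¹ * (g * x * g⁻¹ * c) * g := by rw [hc]
        _ = x * (g⁻¹ * c * g) := by group
    · rintro ⟨d, hd, rfl⟩
      rw [SetLike.mem_coe, Subgroup.mem_centralizer_singleton_iff] at hd
      simp only [MulEquiv.coe_toMonoidHom, MulAut.conj_apply]
      calc g * d * g⁻¹ * (g * x * g⁻¹) = g * (d * x) * g⁻¹ := by group
        _ = g * (x * d) * g⁻¹ := by rw [hd]
        _ = g * x * g⁻¹ * (g * d * g⁻¹) := by group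
  rw [h]
  exact Subgroup.index_map_of_bijective (MulAut.conj g).bijective _

lemma qclass_normal {q : ℕ} (h : QClass q G) (N : Subgroup G) [N.Normal] : QClass q N := by
  intro x hx
  obtain ⟨r, a, hr, ha⟩ := h x (by simpa [Subgroup.orderOf_coe] using hx)
  have h1 : (Subgroup.centralizer ({x} : Set N)).index ∣ r ^ a := by
    refine ha ▸ Dvd.dvd.trans (Subgroup.index_dvd_of_le ?_)
      (CfsgLib.SquarefreeClass.index_centralizer_dvd_of_normal N (x : G))
    intro c hc
    exact Subgroup.mem_centralizer_singleton_iff.2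
      (Subtype.ext (Subgroup.mem_centralizer_singleton_iff.1 (Subgroup.mem_subgroupOf.1 hc)))
  obtain ⟨i, -, hi⟩ := (Nat.dvd_prime_pow hr).1 h1
  exact ⟨r, i, hr, hi⟩

lemma qclass_quotient {q : ℕ} [hq : Fact q.Prime] (h : QClass q G) (N : Subgroup G) [N.Normal] :
    QClass q (G ⧸ N) := by
  intro x hx
  obtain ⟨Q⟩ := (inferInstance : Nonempty (Sylow q G))
  set Q1 := Q.mapSurjective (QuotientGroup.mk'_surjective N)
  obtain ⟨g, hg⟩ := exists_conj_mem Q1 hx
  rw [Sylow.coe_mapSurjective] at hg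
  obtain ⟨y, hy, hyx⟩ := hg
  obtain ⟨g', rfl⟩ := QuotientGroup.mk'_surjective N g
  have hxy : x = QuotientGroup.mk' N (g'⁻¹ * y * g'⁻¹⁻¹) := by
    rw [map_mul, map_mul, map_inv, hyx, map_inv, map_inv]; group
  obtain ⟨r, a, hr, ha⟩ := h (g'⁻¹ * y * g'⁻¹⁻¹) (by
    obtain ⟨k, hk⟩ := qelem_of_mem Q.isPGroup' hy
    exact ⟨k, by rw [← hk]; exact MulEquiv.orderOf_eq (MulAut.conj g'⁻¹) y⟩)
  have h1 : (Subgroup.centralizer ({x} : Set (G ⧸ N))).index ∣ r ^ a := by
    refine ha ▸ Dvd.dvd.trans (Subgroup.index_dvd_of_le ?_)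
      (Subgroup.index_map_dvd _ (QuotientGroup.mk'_surjective N))
    rintro _ ⟨c, hc, rfl⟩
    rw [hxy, Subgroup.mem_centralizer_singleton_iff, ← map_mul, ← map_mul,
      Subgroup.mem_centralizer_singleton_iff.1 hc]
  obtain ⟨i, -, hi⟩ := (Nat.dvd_prime_pow hr).1 h1
  exact ⟨r, i, hr, hi⟩

end

/-- Points of the conjugation action. -/
structure ConjPt (G : Type u) : Type u where
  /-- the underlying element -/
  val : G

instance conjPtAction (G : Type u) [Group G] : MulAction G (ConjPt G) where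
  smul g y := ⟨g * y.val * g⁻¹⟩
  one_smul y := show (⟨1 * y.val * 1⁻¹⟩ : ConjPt G) = y by simp
  mul_smul a b y := show (⟨(a * b) * y.val * (a * b)⁻¹⟩ : ConjPt G) = ⟨a * (b * y.val * b⁻¹) * a⁻¹⟩ by
    congr 1; group

lemma qSolvable {q : ℕ} [hq : Fact q.Prime] : ∀ (n : ℕ) {G : Type u} [Group G] [Finite G],
    Nat.card G = n → QClass q G → Cfsg.IsPSolvable q G := by
  intro n
  induction n using Nat.strong_induction_on with
  | _ n ih =>
  intro G _ _ hn h
  subst hn
  by_cases hqd : q ∣ Nat.card G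
  swap
  · exact CfsgLib.PCore.isPSolvable_of_coprime (hq.out.coprime_iff_not_dvd.2 hqd).symm
  by_cases hN : ∃ N : Subgroup G, N.Normal ∧ N ≠ ⊥ ∧ N ≠ ⊤
  · obtain ⟨N, hNn, hN1, hN2⟩ := hN
    haveI := hNn
    have h1 : Nat.card N < Nat.card G :=
      lt_of_le_of_ne (Subgroup.card_le_card_group N) fun e => hN2 (Subgroup.eq_top_of_card_eq N e)
    have h2 : Nat.card (G ⧸ N) < Nat.card G := by
      have h3 := Subgroup.card_eq_card_quotient_mul_card_subgroup N
      have h4 : 1 < Nat.card N := Finite.one_lt_card_iff_nontrivial.2 ((Subgroup.nontrivial_iff_ne_bot N).2 hN1)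
      have h5 : 0 < Nat.card (G ⧸ N) := Nat.card_pos
      rw [h3]; nlinarith
    exact CfsgLib.PCore.isPSolvable_extension N (ih _ h1 rfl (qclass_normal h N))
      (ih _ h2 rfl (qclass_quotient h N))
  push Not at hN
  obtain ⟨x, hx⟩ := exists_prime_orderOf_dvd_card' q hqd
  have hx1 : x ≠ 1 := by rintro rfl; simp at hx; exact hq.out.ne_one hx.symm
  haveI : Nontrivial G := ⟨⟨x, 1, hx1⟩⟩
  haveI : IsSimpleGroup G := ⟨fun N hNn => by
    by_cases h1 : N = ⊥
    · exact Or.inl h1
    · exact Or.inr (hN N hNn h1)⟩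
  obtain ⟨r, a, hr, ha⟩ := h x ⟨1, by rw [hx, pow_one]⟩
  have hp := CfsgLib.Burnside.prime_card_of_prime_power_class hr hx1 ha
  have hcard : Nat.card G = q := ((Nat.prime_dvd_prime_iff_eq hq.out hp).1 hqd).symm
  exact CfsgLib.PCore.isPSolvable_of_isPGroup (IsPGroup.of_card (n := 1) (by rw [hcard, pow_one]))

section
variable {G : Type u} [Group G] [Finite G]

/-- Factorisation through a Sylow subgroup. -/
lemma exists_mul_of_index {r a : ℕ} [hr : Fact r.Prime] (C : Subgroup G) (hC : C.index = r ^ a)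
    (S : Sylow r G) (g : G) : ∃ s ∈ (S : Subgroup G), ∃ c ∈ C, g = s * c := by
  let f : (S : Subgroup G) ⧸ (C.subgroupOf (S : Subgroup G)) → G ⧸ C :=
    Quotient.map' (fun x => (x : G)) fun x y h => by
      rw [QuotientGroup.leftRel_apply] at h ⊢
      exact h
  have hfi : Function.Injective f := by
    intro x y
    induction x using QuotientGroup.induction_on with
    | _ x =>
    induction y using QuotientGroup.induction_on with
    | _ y =>
    intro h
    exact QuotientGroup.eq.2 (QuotientGroup.eq.1 h : (x : G)⁻¹ * (y : G) ∈ C)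
  have hcard : Nat.card (G ⧸ C) ≤ Nat.card ((S : Subgroup G) ⧸ (C.subgroupOf (S : Subgroup G))) := by
    change C.index ≤ (C.subgroupOf (S : Subgroup G)).index
    rw [hC]
    have h1 := (C.subgroupOf (S : Subgroup G)).card_mul_index
    obtain ⟨j, hj⟩ := IsPGroup.iff_card.1 (S.isPGroup'.to_subgroup (C.subgroupOf (S : Subgroup G)))
    have h3 : r ^ j ∣ Nat.card C := by
      rw [← hj]
      refine Subgroup.card_dvd_of_injective
        ({ toFun := fun x => ⟨((x : (S : Subgroup G)) : G), x.2⟩, map_one' := rfl, map_mul' := fun _ _ => rfl } :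
          C.subgroupOf (S : Subgroup G) →* C) fun x y h => ?_
      exact Subtype.ext (Subtype.ext (congrArg (fun z : C => (z : G)) h))
    have h4 : j + a ≤ (Nat.card G).factorization r := by
      rw [← hr.out.pow_dvd_iff_le_factorization Nat.card_pos.ne', pow_add, ← C.card_mul_index, hC]
      exact Nat.mul_dvd_mul_right h3 _
    rw [hj, S.card_eq_multiplicity] at h1
    have h6 : r ^ (j + a) ≤ r ^ j * (C.subgroupOf (S : Subgroup G)).index := by
      rw [h1]
      exact Nat.pow_le_pow_right hr.out.pos h4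
    rw [pow_add] at h6
    exact Nat.le_of_mul_le_mul_left h6 (pow_pos hr.out.pos j)
  obtain ⟨x, hx⟩ := (Function.Injective.bijective_of_nat_card_le hfi hcard).2 (QuotientGroup.mk g)
  induction x using QuotientGroup.induction_on with
  | _ s => exact ⟨s, s.2, (s : G)⁻¹ * g, QuotientGroup.eq.1 hx, (mul_inv_cancel_left _ _).symm⟩

/-- A `q`-element with class of `q`-power size lies in `O_q`. -/
lemma mem_pCore_of_index {q a : ℕ} [Fact q.Prime] {x : G} (hx : ∃ k, orderOf x = q ^ k)
    (hidx : (Subgroup.centralizer ({x} : Set G)).index = q ^ a) : x ∈ Cfsg.pCore q G := by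
  obtain ⟨k, hk⟩ := hx
  obtain ⟨Q', hQ'⟩ := (IsPGroup.of_card (n := k) (by rw [Nat.card_zpowers, hk]) :
    IsPGroup q (Subgroup.zpowers x)).exists_le_sylow
  have hle : Subgroup.normalClosure ({x} : Set G) ≤ (Q' : Subgroup G) := by
    rw [Subgroup.normalClosure, Subgroup.closure_le]
    intro y hy
    obtain ⟨z, hz, hzy⟩ := Group.mem_conjugatesOfSet_iff.1 hy
    rw [Set.mem_singleton_iff] at hz
    subst hz
    obtain ⟨g, rfl⟩ := isConj_iff.1 hzy
    obtain ⟨s, hs, c, hc, rfl⟩ := exists_mul_of_index _ hidx Q' g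
    rw [show s * c * z * (s * c)⁻¹ = s * (c * z * c⁻¹) * s⁻¹ by group,
      Subgroup.mem_centralizer_singleton_iff.1 hc, mul_inv_cancel_right]
    exact mul_mem (mul_mem hs (hQ' (Subgroup.mem_zpowers z))) (inv_mem hs)
  exact CfsgLib.PCore.le_pCore inferInstance (Q'.isPGroup'.to_le hle)
    (Subgroup.subset_normalClosure (Set.mem_singleton x))

/-- All `q`-elements lie in `O_{q',q}`, which is `O_{q'} Q`. -/
lemma map_sylow_eq {q : ℕ} [hq : Fact q.Prime] (h : QClass q G) (Q : Sylow q G) :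
    (Q : Subgroup G).map (QuotientGroup.mk' (Cfsg.pPrimeCore q G)) =
      Cfsg.pCore q (G ⧸ Cfsg.pPrimeCore q G) := by
  set π := QuotientGroup.mk' (Cfsg.pPrimeCore q G)
  have hπ := QuotientGroup.mk'_surjective (Cfsg.pPrimeCore q G)
  refine le_antisymm ?_ ((CfsgLib.PCore.pCore_le_sylow (Q.mapSurjective hπ)).trans (Sylow.coe_mapSurjective hπ Q).le)
  rintro _ ⟨x, hx, rfl⟩
  obtain ⟨r, a, hr, ha⟩ := h x (qelem_of_mem Q.isPGroup' hx)
  by_cases hrq : r = q
  · subst hrq
    exact CfsgLib.PCore.map_pCore_le π hπ (Subgroup.mem_map_of_mem π (mem_pCore_of_index (qelem_of_mem Q.isPGroup' hx) ha))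
  -- `x` centralises a full Sylow subgroup
  obtain ⟨S⟩ := (inferInstance : Nonempty (Sylow q (Subgroup.centralizer ({x} : Set G))))
  have hidx : ¬ q ∣ ((S : Subgroup _).map (Subgroup.centralizer ({x} : Set G)).subtype).index := by
    rw [Subgroup.index_map_subtype, ha]
    intro hd
    rcases hq.out.dvd_mul.1 hd with hd | hd
    · exact S.not_dvd_index hd
    · exact hrq ((Nat.prime_dvd_prime_iff_eq hq.out hr).1 (hq.out.dvd_of_dvd_pow hd)).symm
  set Q1 : Sylow q G := (S.isPGroup'.map _).toSylow hidx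
  refine CfsgLib.PCore.centralizer_pCore_le
    (CfsgLib.PCore.isPSolvable_quotient (qSolvable _ rfl h) _) CfsgLib.PCore.pPrimeCore_quotient_pPrimeCore ?_
  rw [Subgroup.mem_centralizer_iff]
  intro w hw
  have h1 := CfsgLib.PCore.pCore_le_sylow (Q1.mapSurjective hπ) hw
  rw [Sylow.coe_mapSurjective] at h1
  obtain ⟨c, hc, rfl⟩ := h1
  obtain ⟨c', hc', rfl⟩ := hc
  change π (c' : G) * π x = π x * π (c' : G)
  rw [← map_mul, ← map_mul, Subgroup.mem_centralizer_singleton_iff.1 c'.2]

/-- The fibre lemma: commuting `q`-elements with classes of coprime prime power sizes, the second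
non-trivial, have a product whose class size does not divide the first one's. -/
lemma not_dvd_of_product {q p r a b : ℕ} [hq : Fact q.Prime] (hp : p.Prime) (hr : r.Prime) (hpr : p ≠ r)
    (hpq : p ≠ q) {x y : G} (hxq : ∃ k, orderOf x = q ^ k) (hyq : ∃ k, orderOf y = q ^ k)
    (hxy : x * y = y * x) (ha : (Subgroup.centralizer ({x} : Set G)).index = p ^ a)
    (hb : (Subgroup.centralizer ({y} : Set G)).index = r ^ b) (hb0 : b ≠ 0) :
    ¬ (Subgroup.centralizer ({x * y} : Set G)).index ∣ p ^ a := by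
  classical
  intro hd
  set Cx := Subgroup.centralizer ({x} : Set G) with hCx
  set Cy := Subgroup.centralizer ({y} : Set G) with hCy
  set Cz := Subgroup.centralizer ({x * y} : Set G) with hCz
  have hcop : (p ^ a).Coprime (r ^ b) := Nat.Coprime.pow a b ((Nat.coprime_primes hp hr).2 hpr)
  -- independent conjugation
  have hrel : Cx.relIndex Cy = p ^ a := by
    have h1 : (Cx ⊓ Cy).relIndex Cy * Cy.index = (Cx ⊓ Cy).index := Subgroup.relIndex_mul_index inf_le_right
    have h2 : (Cx ⊓ Cy).relIndex Cx * Cx.index = (Cx ⊓ Cy).index := Subgroup.relIndex_mul_index inf_le_left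
    rw [Subgroup.inf_relIndex_right, hb] at h1
    rw [ha] at h2
    refine Nat.dvd_antisymm ?_ (hcop.dvd_of_dvd_mul_right ⟨(Cx ⊓ Cy).relIndex Cx, by rw [h1, ← h2, mul_comm]⟩)
    have hle : Cx.relIndex Cy ≤ p ^ a := by
      rw [← ha, ← Subgroup.relIndex_top_right]
      exact Subgroup.relIndex_le_of_le_right le_top (by rw [Subgroup.relIndex_top_right]; exact Subgroup.FiniteIndex.index_ne_zero)
    have hdd : p ^ a ∣ Cx.relIndex Cy := hcop.dvd_of_dvd_mul_right ⟨(Cx ⊓ Cy).relIndex Cx, by rw [h1, ← h2, mul_comm]⟩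
    exact (le_antisymm hle (Nat.le_of_dvd (Nat.pos_of_ne_zero Subgroup.FiniteIndex.index_ne_zero) hdd)).dvd
  have hprod : ∀ g : G, ∃ c ∈ Cy, ∃ d ∈ Cx, g = c * d := by
    let f : Cy ⧸ (Cx.subgroupOf Cy) → G ⧸ Cx :=
      Quotient.map' (fun x => (x : G)) fun x y h => by
        rw [QuotientGroup.leftRel_apply] at h ⊢
        exact h
    have hfi : Function.Injective f := by
      intro u v
      induction u using QuotientGroup.induction_on with
      | _ u =>
      induction v using QuotientGroup.induction_on with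
      | _ v =>
      intro h
      exact QuotientGroup.eq.2 (QuotientGroup.eq.1 h : (u : G)⁻¹ * (v : G) ∈ Cx)
    have hbij := hfi.bijective_of_nat_card_le (le_of_eq (ha.trans hrel.symm))
    intro g
    obtain ⟨u, hu⟩ := hbij.2 (QuotientGroup.mk g)
    induction u using QuotientGroup.induction_on with
    | _ u => exact ⟨u, u.2, (u : G)⁻¹ * g, QuotientGroup.eq.1 hu, (mul_inv_cancel_left _ _).symm⟩
  have hsim : ∀ g h : G, ∃ t : G, t * x * t⁻¹ = g * x * g⁻¹ ∧ t * y * t⁻¹ = h * y * h⁻¹ := by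
    intro g h
    obtain ⟨c, hc, d, hd, hcd⟩ := hprod (h⁻¹ * g)
    refine ⟨h * c, ?_, ?_⟩
    · have : h * c = g * d⁻¹ := by
        rw [show g = h * (h⁻¹ * g) by group, hcd]; group
      rw [this, show g * d⁻¹ * x * (g * d⁻¹)⁻¹ = g * (d⁻¹ * (x * d)) * g⁻¹ by group,
        ← Subgroup.mem_centralizer_singleton_iff.1 hd, inv_mul_cancel_left]
    · rw [show h * c * y * (h * c)⁻¹ = h * (c * y * c⁻¹) * h⁻¹ by group,
        Subgroup.mem_centralizer_singleton_iff.1 hc, mul_inv_cancel_right]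
  -- `C(xy)` is transitive on the conjugates of `y`
  have hD : Cy ⊓ Cz = Cy ⊓ Cx := by
    ext c
    simp only [Subgroup.mem_inf, hCx, hCy, hCz, Subgroup.mem_centralizer_singleton_iff]
    refine and_congr_right fun hc => ⟨fun h => ?_, fun h => ?_⟩
    · refine mul_right_cancel (b := y) ?_
      calc c * x * y = x * y * c := by rw [mul_assoc, h]
        _ = x * c * y := by rw [mul_assoc, ← hc, mul_assoc]
    · calc c * (x * y) = x * (c * y) := by rw [← mul_assoc, h, mul_assoc]
        _ = x * y * c := by rw [hc, mul_assoc]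
  have hrelz : r ^ b ∣ Cy.relIndex Cz := by
    have h1 : (Cy ⊓ Cz).relIndex Cz * Cz.index = (Cy ⊓ Cz).index := Subgroup.relIndex_mul_index inf_le_right
    have h2 : (Cy ⊓ Cx).relIndex Cy * Cy.index = (Cy ⊓ Cx).index := Subgroup.relIndex_mul_index inf_le_left
    rw [Subgroup.inf_relIndex_right] at h1
    rw [Subgroup.inf_relIndex_left, hrel, hb] at h2
    rw [hD, ← h2] at h1
    exact (Nat.Coprime.coprime_dvd_right hd hcop.symm).dvd_of_dvd_mul_right (h1 ▸ dvd_mul_left _ _)
  have htrans : ∀ h : G, ∃ c ∈ Cz, c * y * c⁻¹ = h * y * h⁻¹ := by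
    let f : Cz ⧸ (Cy.subgroupOf Cz) → G ⧸ Cy :=
      Quotient.map' (fun x => (x : G)) fun x y h => by
        rw [QuotientGroup.leftRel_apply] at h ⊢
        exact h
    have hfi : Function.Injective f := by
      intro u v
      induction u using QuotientGroup.induction_on with
      | _ u =>
      induction v using QuotientGroup.induction_on with
      | _ v =>
      intro h
      exact QuotientGroup.eq.2 (QuotientGroup.eq.1 h : (u : G)⁻¹ * (v : G) ∈ Cy)
    have hbij := hfi.bijective_of_nat_card_le (hb.le.trans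
      (Nat.le_of_dvd (Nat.pos_of_ne_zero Subgroup.FiniteIndex.index_ne_zero) hrelz))
    intro h
    obtain ⟨u, hu⟩ := hbij.2 (QuotientGroup.mk h)
    induction u using QuotientGroup.induction_on with
    | _ u =>
    refine ⟨u, u.2, ?_⟩
    have hm : (u : G)⁻¹ * h ∈ Cy := QuotientGroup.eq.1 hu
    rw [show h * y * h⁻¹ = (u : G) * (((u : G)⁻¹ * h) * y * ((u : G)⁻¹ * h)⁻¹) * (u : G)⁻¹ by group,
      Subgroup.mem_centralizer_singleton_iff.1 hm, mul_inv_cancel_right]
  -- translations of the class of `x`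
  let X : Set G := Set.range fun g : G => g * x * g⁻¹
  let Y : Set G := Set.range fun g : G => g * y * g⁻¹
  have hkey : ∀ u ∈ X, ∀ v ∈ Y, ∀ w ∈ Y, u * (v * w⁻¹) ∈ X := by
    rintro _ ⟨g, rfl⟩ _ ⟨h, rfl⟩ _ ⟨h', rfl⟩
    obtain ⟨t, ht1, ht2⟩ := hsim g h
    obtain ⟨c, hc, hc'⟩ := htrans (t⁻¹ * h')
    refine ⟨t * c, ?_⟩
    dsimp only
    have hcx : c * x * c⁻¹ = x * y * (c * y * c⁻¹)⁻¹ := by
      have h1 : c * (x * y) * c⁻¹ = x * y := by
        rw [Subgroup.mem_centralizer_singleton_iff.1 hc, mul_inv_cancel_right]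
      calc c * x * c⁻¹ = c * (x * y) * c⁻¹ * (c * y * c⁻¹)⁻¹ := by group
        _ = _ := by rw [h1]
    rw [← ht1, ← ht2, show h' * y * h'⁻¹ = t * ((t⁻¹ * h') * y * (t⁻¹ * h')⁻¹) * t⁻¹ by group, ← hc',
      show t * c * x * (t * c)⁻¹ = t * (c * x * c⁻¹) * t⁻¹ by group, hcx]
    group
  set M := Subgroup.closure {m : G | ∃ v ∈ Y, ∃ w ∈ Y, m = v * w⁻¹} with hM
  have hMX : ∀ m ∈ M, ∀ u ∈ X, u * m ∈ X ∧ u * m⁻¹ ∈ X := by
    intro m hm
    induction hm using Subgroup.closure_induction with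
    | mem m hm =>
      obtain ⟨v, hv, w, hw, rfl⟩ := hm
      intro u hu
      exact ⟨hkey u hu v hv w hw, by rw [mul_inv_rev, inv_inv]; exact hkey u hu w hw v hv⟩
    | one => intro u hu; simpa using hu
    | mul m m' _ _ h1 h2 =>
      intro u hu
      rw [mul_inv_rev, ← mul_assoc, ← mul_assoc]
      exact ⟨(h2 _ (h1 u hu).1).1, (h1 _ (h2 u hu).2).2⟩
    | inv m _ h1 =>
      intro u hu
      rw [inv_inv]
      exact (h1 u hu).symm
  have hXcard : Nat.card X = p ^ a := by
    rw [← ha]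
    refine (Nat.card_congr (Equiv.ofBijective (fun u : G ⧸ Cx => (⟨Quotient.liftOn' u (fun g => g * x * g⁻¹) ?_, ?_⟩ : X))
      ⟨?_, ?_⟩)).symm
    · intro g h hgh
      rw [QuotientGroup.leftRel_apply] at hgh
      calc g * x * g⁻¹ = g * (x * (g⁻¹ * h)) * h⁻¹ := by group
        _ = g * ((g⁻¹ * h) * x) * h⁻¹ := by rw [Subgroup.mem_centralizer_singleton_iff.1 hgh]
        _ = h * x * h⁻¹ := by group
    · induction u using QuotientGroup.induction_on with
      | _ g => exact ⟨g, rfl⟩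
    · intro u v huv
      induction u using QuotientGroup.induction_on with
      | _ g =>
      induction v using QuotientGroup.induction_on with
      | _ h =>
      have h1 : g * x * g⁻¹ = h * x * h⁻¹ := congrArg Subtype.val huv
      refine QuotientGroup.eq.2 (Subgroup.mem_centralizer_singleton_iff.2 ?_)
      calc g⁻¹ * h * x = g⁻¹ * (h * x * h⁻¹) * h := by group
        _ = g⁻¹ * (g * x * g⁻¹) * h := by rw [h1]
        _ = x * (g⁻¹ * h) := by group
    · rintro ⟨_, g, rfl⟩
      exact ⟨QuotientGroup.mk g, rfl⟩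
  have hMdvd : Nat.card M ∣ p ^ a := by
    rw [← hXcard]
    have hpre : (QuotientGroup.mk : G → G ⧸ M) ⁻¹' ((QuotientGroup.mk : G → G ⧸ M) '' X) = X := by
      refine Set.Subset.antisymm ?_ (Set.subset_preimage_image _ _)
      rintro v ⟨u, hu, huv⟩
      have hm : u⁻¹ * v ∈ M := QuotientGroup.eq.1 huv
      simpa using (hMX _ hm u hu).1
    rw [← hpre, Nat.card_congr (QuotientGroup.preimageMkEquivSubgroupProdSet M _), Nat.card_prod]
    exact dvd_mul_right _ _
  apply hb0
  have hall : ∀ h : G, h * y * h⁻¹ = y := by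
    intro h
    set m := h * y * h⁻¹ * y⁻¹ with hm
    have hmM : m ∈ M := Subgroup.subset_closure ⟨_, ⟨h, rfl⟩, y, ⟨1, by simp⟩, rfl⟩
    have hcm : Commute x m := by
      obtain ⟨t, ht1, ht2⟩ := hsim 1 h
      have h1 : Commute x (h * y * h⁻¹) := by
        rw [← show t * x * t⁻¹ = x by simpa using ht1, ← ht2]
        exact (show Commute x y from hxy).map (MulAut.conj t)
      exact h1.mul_right (show Commute x y from hxy).inv_right
    obtain ⟨g, hg⟩ := (hMX m hmM x ⟨1, by simp⟩).1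
    obtain ⟨k, hk⟩ := hxq
    have h1 : (x * m) ^ q ^ k = 1 := by
      rw [← hg, conj_pow, ← hk, pow_orderOf_eq_one, mul_one, mul_inv_cancel]
    rw [hcm.mul_pow, show x ^ q ^ k = 1 by rw [← hk, pow_orderOf_eq_one], one_mul] at h1
    obtain ⟨i, -, hi⟩ := (Nat.dvd_prime_pow hp).1 ((Subgroup.orderOf_dvd_natCard M hmM).trans hMdvd)
    have h2 : m = 1 := orderOf_eq_one_iff.1 (Nat.eq_one_of_dvd_coprimes
      (Nat.Coprime.pow i k ((Nat.coprime_primes hp hq.out).2 hpq)) hi.dvd (orderOf_dvd_of_pow_eq_one h1))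
    exact mul_inv_eq_one.1 h2
  have htop : Cy = ⊤ := by
    rw [eq_top_iff]
    intro h _
    rw [hCy, Subgroup.mem_centralizer_singleton_iff]
    exact mul_inv_eq_iff_eq_mul.1 (hall h)
  rw [htop, Subgroup.index_top] at hb
  exact ((Nat.pow_eq_one.1 hb.symm).resolve_left hr.ne_one)

end

section
variable {G : Type u} [Group G] [Finite G] {q : ℕ} [hq : Fact q.Prime]

lemma inf_core_eq_bot (Q : Sylow q G) : (Q : Subgroup G) ⊓ Cfsg.pPrimeCore q G = ⊥ :=
  CfsgLib.PCore.inf_eq_bot_of_isPGroup_coprime Q.isPGroup' CfsgLib.PCore.pPrimeCore_coprime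

/-- An element of `Q` of index prime to `q` is central in `Q`. -/
lemma central_of_index (h : QClass q G) (Q : Sylow q G) {x : G} (hx : x ∈ (Q : Subgroup G)) {r a : ℕ}
    (hr : r.Prime) (hrq : r ≠ q) (ha : (Subgroup.centralizer ({x} : Set G)).index = r ^ a) :
    ∀ w ∈ (Q : Subgroup G), x * w = w * x := by
  intro w hw
  set π := QuotientGroup.mk' (Cfsg.pPrimeCore q G)
  obtain ⟨S⟩ := (inferInstance : Nonempty (Sylow q (Subgroup.centralizer ({x} : Set G))))
  have hidx : ¬ q ∣ ((S : Subgroup _).map (Subgroup.centralizer ({x} : Set G)).subtype).index := by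
    rw [Subgroup.index_map_subtype, ha]
    intro hd
    rcases hq.out.dvd_mul.1 hd with hd | hd
    · exact S.not_dvd_index hd
    · exact hrq ((Nat.prime_dvd_prime_iff_eq hq.out hr).1 (hq.out.dvd_of_dvd_pow hd)).symm
  set Q1 : Sylow q G := (S.isPGroup'.map _).toSylow hidx
  have h1 : π w ∈ (Q1 : Subgroup G).map π := by
    rw [map_sylow_eq h Q1, ← map_sylow_eq h Q]
    exact Subgroup.mem_map_of_mem π hw
  obtain ⟨c, hc, hcw⟩ := h1
  obtain ⟨c', -, rfl⟩ := hc
  have h2 : π (x * w * x⁻¹ * w⁻¹) = 1 := by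
    rw [map_mul, map_mul, map_mul, map_inv, map_inv, ← hcw]
    change π x * π (c' : G) * (π x)⁻¹ * (π (c' : G))⁻¹ = 1
    rw [← map_mul, ← Subgroup.mem_centralizer_singleton_iff.1 c'.2, map_mul, mul_inv_cancel_right, mul_inv_cancel]
  have h3 : x * w * x⁻¹ * w⁻¹ ∈ (Q : Subgroup G) ⊓ Cfsg.pPrimeCore q G :=
    ⟨Subgroup.mul_mem _ (Subgroup.mul_mem _ (Subgroup.mul_mem _ hx hw) (Subgroup.inv_mem _ hx)) (Subgroup.inv_mem _ hw), (QuotientGroup.eq_one_iff _).1 h2⟩
  rw [inf_core_eq_bot, Subgroup.mem_bot, mul_inv_eq_one, mul_inv_eq_iff_eq_mul] at h3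
  exact h3

/-- Non-abelian Sylow subgroup: a direct factor and all classes `q`-powers. -/
lemma nonabelian_case (h : QClass q G) (Q : Sylow q G) (hQ : ¬ IsMulCommutative (Q : Subgroup G)) :
    (∀ x : G, (∃ k, orderOf x = q ^ k) → ∃ a, (Subgroup.centralizer ({x} : Set G)).index = q ^ a) ∧
    (Q : Subgroup G).Normal ∧ ∃ N : Subgroup G, N.Normal ∧ N.IsComplement' (Q : Subgroup G) := by
  classical
  obtain ⟨x0, hx0, y0, hy0, hxy0⟩ : ∃ x ∈ (Q : Subgroup G), ∃ y ∈ (Q : Subgroup G), x * y ≠ y * x := by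
    by_contra hcon
    push Not at hcon
    exact hQ (.of_setLike_mul_comm fun a ha b hb => hcon a ha b hb)
  let Cen : G → Prop := fun z => ∀ w ∈ (Q : Subgroup G), z * w = w * z
  have hx0n : ¬ Cen x0 := fun h' => hxy0 (h' y0 hy0)
  have hnc : ∀ x ∈ (Q : Subgroup G), ¬ Cen x → x ∈ Cfsg.pCore q G := by
    intro x hx hxZ
    obtain ⟨r, a, hr, ha⟩ := h x (qelem_of_mem Q.isPGroup' hx)
    by_cases hrq : r = q
    · subst hrq; exact mem_pCore_of_index (qelem_of_mem Q.isPGroup' hx) ha
    exact absurd (central_of_index h Q hx hr hrq ha) hxZ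
  have hQcore : (Q : Subgroup G) = Cfsg.pCore q G := by
    refine le_antisymm (fun x hx => ?_) (CfsgLib.PCore.pCore_le_sylow Q)
    by_cases hxZ : Cen x
    · have h1 : ¬ Cen (x0 * x) := fun h' => hx0n fun w hw => by
        have e1 := h' w hw
        have e2 : x * w = w * x := hxZ w hw
        rw [mul_assoc, e2, ← mul_assoc, ← mul_assoc] at e1
        exact mul_right_cancel e1
      have h2 := Subgroup.mul_mem _ (Subgroup.inv_mem _ (hnc x0 hx0 hx0n)) (hnc _ (mul_mem hx0 hx) h1)
      rwa [inv_mul_cancel_left] at h2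
    · exact hnc x hx hxZ
  haveI hQn : (Q : Subgroup G).Normal := by rw [hQcore]; exact (CfsgLib.Fitting.pCore_normal q)
  have hcop : (Nat.card (Q : Subgroup G)).Coprime (Q : Subgroup G).index := Q.card_coprime_index
  obtain ⟨H, hH⟩ := Subgroup.exists_right_complement'_of_coprime hcop
  have hHc : (Nat.card H).Coprime (Nat.card (Q : Subgroup G)) := by
    rw [← hH.symm.index_eq_card]; exact hcop.symm
  have hHN : H ≤ Subgroup.normalizer ((Q : Subgroup G) : Set G) := by
    rw [Subgroup.normalizer_eq_top]; exact le_top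
  haveI : Group.IsSolvable (Q : Subgroup G) := by
    haveI := Q.isPGroup'.isNilpotent
    infer_instance
  set C := (Q : Subgroup G) ⊓ Subgroup.centralizer (H : Set G) with hC
  have hrep : ∀ x ∈ (Q : Subgroup G), ¬ Cen x → ∃ k ∈ (Q : Subgroup G), k * x * k⁻¹ ∈ C := by
    intro x hx hxZ
    obtain ⟨r, a, hr, ha⟩ := h x (qelem_of_mem Q.isPGroup' hx)
    have hrq : r = q := by
      by_contra hrq
      exact hxZ (central_of_index h Q hx hr hrq ha)
    subst hrq
    have hsm : ∀ (g : G) (y : ConjPt G), g • y = ⟨g * y.val * g⁻¹⟩ := fun g y => rfl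
    obtain ⟨k, hk, hfix⟩ := CfsgLib.Coprime.exists_fixed_point (Ω := ConjPt G) H (Q : Subgroup G) hHN hHc (Or.inr inferInstance) ⟨x⟩ (by
      intro b _
      obtain ⟨s, hs, c, hc, rfl⟩ := exists_mul_of_index _ ha Q b
      refine ⟨s, hs, ?_⟩
      rw [hsm, hsm, ConjPt.mk.injEq, show s * c * x * (s * c)⁻¹ = s * (c * x * c⁻¹) * s⁻¹ by group,
        Subgroup.mem_centralizer_singleton_iff.1 hc, mul_inv_cancel_right])
    refine ⟨k, hk, Subgroup.mul_mem _ (Subgroup.mul_mem _ hk hx) (Subgroup.inv_mem _ hk), Subgroup.mem_centralizer_iff.2 fun b hb => ?_⟩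
    have h1 := hfix b hb
    rw [hsm, hsm, ConjPt.mk.injEq] at h1
    exact mul_inv_eq_iff_eq_mul.1 h1
  let ZQ : Subgroup G := (Q : Subgroup G) ⊓ Subgroup.centralizer ((Q : Subgroup G) : Set G)
  have hZmem : ∀ {z : G}, z ∈ (Q : Subgroup G) → Cen z → z ∈ ZQ := fun hz hc =>
    ⟨hz, Subgroup.mem_centralizer_iff.2 fun w hw => (hc w hw).symm⟩
  have hCZ : C ⊔ ZQ = (Q : Subgroup G) := by
    refine le_antisymm (sup_le inf_le_left inf_le_left) ?_
    by_contra hne
    set M := (C ⊔ ZQ).subgroupOf (Q : Subgroup G) with hM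
    have hMne : M ≠ ⊤ := fun e => hne (Subgroup.subgroupOf_eq_top.1 e)
    obtain ⟨M', hM', hle⟩ := (eq_top_or_exists_le_coatom M).resolve_left hMne
    haveI := Q.isPGroup'.isNilpotent
    have hM'n : M'.Normal := Subgroup.NormalizerCondition.normal_of_coatom M' (Group.normalizerCondition_of_isNilpotent) hM'
    apply hM'.1
    rw [eq_top_iff]
    rintro ⟨w, hw⟩ -
    by_cases hwZ : Cen w
    · exact hle (Subgroup.mem_subgroupOf.2 (Subgroup.mem_sup_right (hZmem hw hwZ)))
    obtain ⟨k, hk, hkw⟩ := hrep w hw hwZ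
    have h1 : (⟨k, hk⟩ : (Q : Subgroup G)) * ⟨w, hw⟩ * (⟨k, hk⟩ : (Q : Subgroup G))⁻¹ ∈ M' :=
      hle (Subgroup.mem_subgroupOf.2 (Subgroup.mem_sup_left hkw))
    have h2 := hM'n.conj_mem _ h1 (⟨k, hk⟩ : (Q : Subgroup G))⁻¹
    rw [inv_inv] at h2
    convert h2 using 1
    group
  have hCn : ∀ k ∈ (Q : Subgroup G), ∀ c ∈ C, k * c * k⁻¹ ∈ C := by
    intro k hk c hc
    have hkn : k ∈ Subgroup.normalizer (C : Set G) := by
      have hle : C ⊔ ZQ ≤ Subgroup.normalizer (C : Set G) := sup_le Subgroup.le_normalizer fun z hz => by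
        refine CfsgLib.Coprime.mem_normalizer_of_forall_conj fun y hy => ?_
        rw [← (Subgroup.mem_centralizer_iff.1 hz.2) y hy.1, mul_inv_cancel_right]
        exact hy
      exact hle (hCZ.symm ▸ hk)
    exact CfsgLib.Coprime.mem_normalizer_conj hkn hc
  have hQC : (Q : Subgroup G) ≤ C := by
    have hcz : C ⊔ ZQ ≤ C := by
      refine sup_le le_rfl fun z hz => ?_
      have hzc : Cen z := fun w hw => ((Subgroup.mem_centralizer_iff.1 hz.2) w hw).symm
      obtain ⟨k0, hk0, hc0⟩ := hrep x0 hx0 hx0n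
      have h1 : ¬ Cen (x0 * z) := fun h' => hx0n fun w hw => by
        have e1 := h' w hw
        rw [mul_assoc, hzc w hw, ← mul_assoc, ← mul_assoc] at e1
        exact mul_right_cancel e1
      obtain ⟨k, hk, hc⟩ := hrep (x0 * z) (mul_mem hx0 hz.1) h1
      have h2 : k * x0 * k⁻¹ ∈ C := by
        have h3 := hCn (k * k0⁻¹) (mul_mem hk (inv_mem hk0)) _ hc0
        convert h3 using 1
        group
      have h4 := Subgroup.mul_mem _ (Subgroup.inv_mem _ h2) hc
      rwa [show (k * x0 * k⁻¹)⁻¹ * (k * (x0 * z) * k⁻¹) = k * z * k⁻¹ by group, ← hzc k hk, mul_inv_cancel_right] at h4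
    exact hCZ ▸ hcz
  have hHQ : ∀ b ∈ H, ∀ w ∈ (Q : Subgroup G), b * w = w * b := fun b hb w hw =>
    Subgroup.mem_centralizer_iff.1 (hQC hw).2 b hb
  have hHn : H.Normal := by
    rw [← Subgroup.normalizer_eq_top_iff, eq_top_iff, ← hH.sup_eq_top]
    refine sup_le (fun w hw => CfsgLib.Coprime.mem_normalizer_of_forall_conj fun b hb => ?_) Subgroup.le_normalizer
    rw [← hHQ b hb w hw, mul_inv_cancel_right]
    exact hb
  refine ⟨fun x hx => ?_, hQn, H, hHn, hH.symm⟩
  obtain ⟨g, hg⟩ := exists_conj_mem Q hx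
  obtain ⟨i, -, hi⟩ : ∃ i ≤ (Nat.card G).factorization q,
      (Subgroup.centralizer ({g * x * g⁻¹} : Set G)).index = q ^ i := by
    refine (Nat.dvd_prime_pow hq.out).1 ?_
    rw [← Q.card_eq_multiplicity, ← hH.index_eq_card]
    exact Subgroup.index_dvd_of_le fun b hb => Subgroup.mem_centralizer_singleton_iff.2 (hHQ b hb _ hg)
  exact ⟨i, by rw [← centralizer_conj_index g x, hi]⟩

/-- All `q`-elements have class sizes powers of one prime. -/
lemma one_prime (h : QClass q G) (Q : Sylow q G) (hQ : IsMulCommutative (Q : Subgroup G)) :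
    (∀ x ∈ (Q : Subgroup G), Subgroup.centralizer ({x} : Set G) = ⊤) ∨
    ∃ p : ℕ, p.Prime ∧ p ≠ q ∧ ∀ x ∈ (Q : Subgroup G), ∃ a, (Subgroup.centralizer ({x} : Set G)).index = p ^ a := by
  have hcomm : ∀ x ∈ (Q : Subgroup G), ∀ w ∈ (Q : Subgroup G), x * w = w * x := fun x hx w hw =>
    congrArg Subtype.val (mul_comm' (⟨x, hx⟩ : (Q : Subgroup G)) ⟨w, hw⟩)
  have hne : ∀ x ∈ (Q : Subgroup G), ∀ r a : ℕ, r.Prime →
      (Subgroup.centralizer ({x} : Set G)).index = r ^ a → a ≠ 0 → r ≠ q := by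
    intro x hx r a hr ha ha0 hrq
    subst hrq
    have h1 : (Subgroup.centralizer ({x} : Set G)).index ∣ (Q : Subgroup G).index :=
      Subgroup.index_dvd_of_le fun w hw => Subgroup.mem_centralizer_singleton_iff.2 (hcomm w hw x hx)
    exact Q.not_dvd_index ((dvd_pow_self _ ha0).trans (ha ▸ h1))
  by_cases hall : ∀ x ∈ (Q : Subgroup G), Subgroup.centralizer ({x} : Set G) = ⊤
  · exact Or.inl hall
  push Not at hall
  obtain ⟨x, hx, hxc⟩ := hall
  obtain ⟨p, a, hp, ha⟩ := h x (qelem_of_mem Q.isPGroup' hx)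
  have ha0 : a ≠ 0 := by
    rintro rfl
    exact hxc (Subgroup.index_eq_one.1 (by rw [ha, pow_zero]))
  refine Or.inr ⟨p, hp, hne x hx p a hp ha ha0, fun y hy => ?_⟩
  obtain ⟨r, b, hr, hb⟩ := h y (qelem_of_mem Q.isPGroup' hy)
  rcases Nat.eq_zero_or_pos b with rfl | hb0
  · exact ⟨0, by rw [hb, pow_zero, pow_zero]⟩
  by_cases hrp : r = p
  · exact ⟨b, by rw [hb, hrp]⟩
  exfalso
  obtain ⟨s, c, hs, hc⟩ := h (x * y) (qelem_of_mem Q.isPGroup' (mul_mem hx hy))
  have hdvd : s ^ c ∣ p ^ a * r ^ b := by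
    rw [← hc, ← ha, ← hb]
    have h1 : Subgroup.centralizer ({x} : Set G) ⊓ Subgroup.centralizer ({y} : Set G) ≤
        Subgroup.centralizer ({x * y} : Set G) := fun t ht => by
      have e1 := Subgroup.mem_centralizer_singleton_iff.1 ht.1
      have e2 := Subgroup.mem_centralizer_singleton_iff.1 ht.2
      rw [Subgroup.mem_centralizer_singleton_iff, ← mul_assoc, e1, mul_assoc, e2, ← mul_assoc]
    refine (Subgroup.index_dvd_of_le h1).trans ?_
    set Cx := Subgroup.centralizer ({x} : Set G)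
    set Cy := Subgroup.centralizer ({y} : Set G)
    have e1 : (Cx ⊓ Cy).relIndex Cy * Cy.index = (Cx ⊓ Cy).index := Subgroup.relIndex_mul_index inf_le_right
    have e2 : (Cx ⊓ Cy).relIndex Cx * Cx.index = (Cx ⊓ Cy).index := Subgroup.relIndex_mul_index inf_le_left
    rw [Subgroup.inf_relIndex_right, hb] at e1
    rw [ha] at e2
    have hle : Cx.relIndex Cy ≤ p ^ a := by
      rw [← ha, ← Subgroup.relIndex_top_right]
      exact Subgroup.relIndex_le_of_le_right le_top (by rw [Subgroup.relIndex_top_right]; exact Subgroup.FiniteIndex.index_ne_zero)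
    have hdd : p ^ a ∣ Cx.relIndex Cy := ((Nat.coprime_primes hp hr).2 (Ne.symm hrp)).pow a b |>.dvd_of_dvd_mul_right
      ⟨(Cx ⊓ Cy).relIndex Cx, by rw [e1, ← e2, mul_comm]⟩
    rw [← e1, ha, hb, le_antisymm hle (Nat.le_of_dvd (Nat.pos_of_ne_zero Subgroup.FiniteIndex.index_ne_zero) hdd)]
  by_cases hsr : s = r
  · subst hsr
    refine not_dvd_of_product (q := q) (b := a) (a := b) hs hp hrp (hne y hy s b hs hb hb0.ne')
      (qelem_of_mem Q.isPGroup' hy) (qelem_of_mem Q.isPGroup' hx) (hcomm y hy x hx) hb ha ha0 ?_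
    rw [← hcomm x hx y hy, hc]
    exact (Nat.Coprime.pow c a ((Nat.coprime_primes hs hp).2 hrp)).dvd_of_dvd_mul_left hdvd
  · refine not_dvd_of_product (q := q) hp hr (Ne.symm hrp) (hne x hx p a hp ha ha0)
      (qelem_of_mem Q.isPGroup' hx) (qelem_of_mem Q.isPGroup' hy) (hcomm x hx y hy) ha hb hb0.ne' ?_
    rw [hc]
    exact (Nat.Coprime.pow c b ((Nat.coprime_primes hs hr).2 hsr)).dvd_of_dvd_mul_right hdvd

set_option maxHeartbeats 2000000 in
/-- `O_p Q` is normal. -/
lemma sup_normal_of_one_prime (h : QClass q G) (Q : Sylow q G) {p : ℕ} [hp : Fact p.Prime]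
    (hP : ∀ x ∈ (Q : Subgroup G), ∃ a, (Subgroup.centralizer ({x} : Set G)).index = p ^ a) :
    (Cfsg.pCore p G ⊔ (Q : Subgroup G)).Normal := by
  classical
  set K := Cfsg.pPrimeCore q G with hK
  set π := QuotientGroup.mk' K
  haveI hKn : K.Normal := inferInstance
  have hKc : (Nat.card (Q : Subgroup G)).Coprime (Nat.card K) := by
    obtain ⟨k, hk⟩ := IsPGroup.iff_card.1 Q.isPGroup'
    rw [hk]; exact CfsgLib.PCore.pPrimeCore_coprime.symm.pow_left k
  have hQK : (Q : Subgroup G) ≤ Subgroup.normalizer (K : Set G) := by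
    rw [Subgroup.normalizer_eq_top]; exact le_top
  haveI : Group.IsSolvable (Q : Subgroup G) := by
    haveI := Q.isPGroup'.isNilpotent
    infer_instance
  obtain ⟨Kp, hKp⟩ := CfsgLib.Coprime.exists_invariant_sylow (Q : Subgroup G) K hQK hKc (Or.inl inferInstance) p
  set Kp' := (Kp : Subgroup K).map K.subtype with hKp'
  set U := Kp' ⊔ (Q : Subgroup G) with hU
  have hdis : (Q : Subgroup G) ⊓ K = ⊥ := inf_core_eq_bot Q
  have hUK : U ⊓ K ≤ Kp' := by
    rintro u ⟨hu, huK⟩
    have hu' : u ∈ (Q : Subgroup G) ⊔ Kp' := sup_comm Kp' (Q : Subgroup G) ▸ hu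
    obtain ⟨w, hw, v, hv, rfl⟩ := CfsgLib.Coprime.exists_mul_of_mem_sup hKp hu'
    have hvK : v ∈ K := Subgroup.map_subtype_le _ hv
    have : w ∈ (Q : Subgroup G) ⊓ K := ⟨hw, by simpa using K.mul_mem huK (K.inv_mem hvK)⟩
    rw [hdis, Subgroup.mem_bot] at this
    rw [this, one_mul]; exact hv
  -- normaliser of `U` supplements `K`
  have hsupp : ∀ g : G, ∃ k ∈ K, k⁻¹ * g ∈ Subgroup.normalizer (U : Set G) := by
    intro g
    have hQbar : ((Q : Subgroup G).map π).Normal := by
      rw [map_sylow_eq h Q]; exact CfsgLib.Fitting.pCore_normal q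
    have hLn : ((Q : Subgroup G) ⊔ K).Normal := by
      have h1 := hQbar.comap π
      rwa [Subgroup.comap_map_eq, QuotientGroup.ker_mk'] at h1
    set L := (Q : Subgroup G) ⊔ K
    have hQL : (Q : Subgroup G) ≤ L := le_sup_left
    obtain ⟨l, hl⟩ := MulAction.exists_smul_eq L (Q.subtype hQL) ((g • Q).subtype (by
      rintro _ ⟨w, hw, rfl⟩
      exact hLn.conj_mem w (hQL hw) g))
    obtain ⟨w, hw, v, hv, hwv⟩ := CfsgLib.Coprime.exists_mul_of_mem_sup hQK l.2
    have hconj : ∀ y ∈ (Q : Subgroup G), (l : G) * y * (l : G)⁻¹ ∈ ((g • Q : Sylow q G) : Subgroup G) := by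
      intro y hy
      have h1 : l * ⟨y, hQL hy⟩ * l⁻¹ ∈ ((l • Q.subtype hQL : Sylow q L) : Subgroup L) :=
        Subgroup.mem_map_of_mem _ (show (⟨y, hQL hy⟩ : L) ∈ ((Q.subtype hQL : Sylow q L) : Subgroup L) from hy)
      rw [hl] at h1
      exact h1
    set n := g⁻¹ * (l : G)
    have hn : n ∈ Subgroup.normalizer ((Q : Subgroup G) : Set G) := by
      refine CfsgLib.Coprime.mem_normalizer_of_forall_conj fun y hy => ?_
      have h1 := hconj y hy
      rw [CfsgLib.Structure80.mem_smul_sylow] at h1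
      convert h1 using 1
      simp only [n]; group
    -- move the invariant Sylow subgroup of `K` back
    set m := n⁻¹ with hm
    have hmn : m ∈ Subgroup.normalizer ((Q : Subgroup G) : Set G) := inv_mem hn
    have hmem : m ∈ Subgroup.normalizer (K : Set G) := by rw [Subgroup.normalizer_eq_top]; trivial
    obtain ⟨k1, hk1⟩ := CfsgLib.Coprime.exists_conj_sylow Kp hmem
    have hinv : (Q : Subgroup G) ≤ Subgroup.normalizer (((k1 • Kp : Sylow p K) : Subgroup K).map K.subtype : Set G) := by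
      intro y hy
      refine CfsgLib.Coprime.mem_normalizer_of_forall_conj fun z hz => ?_
      rw [CfsgLib.Coprime.mem_map_subtype_smul] at hz ⊢
      have hz' : z ∈ MulAut.conj (k1 : G) • Kp' := CfsgLib.Coprime.mem_conj_smul.2 hz
      rw [← hk1, CfsgLib.Coprime.mem_conj_smul] at hz'
      rw [← CfsgLib.Coprime.mem_conj_smul, ← hk1, CfsgLib.Coprime.mem_conj_smul]
      have hy' : m⁻¹ * y * m ∈ (Q : Subgroup G) := CfsgLib.Coprime.mem_normalizer_conj' hmn hy
      have h2 := CfsgLib.Coprime.mem_normalizer_conj (hKp hy') hz'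
      convert h2 using 1
      group
    obtain ⟨c, hc, hck⟩ := CfsgLib.Coprime.invariant_sylow_conj (Q : Subgroup G) K hQK hKc (Or.inl inferInstance) p Kp (k1 • Kp) hKp hinv
    have hcm : (c : G)⁻¹ * m ∈ Subgroup.normalizer (U : Set G) := by
      have hcQ : ∀ y ∈ (Q : Subgroup G), y * (c : G) = (c : G) * y := fun y hy =>
        Subgroup.mem_centralizer_iff.1 hc y hy
      refine CfsgLib.Coprime.mem_normalizer_of_forall_conj fun u hu => ?_
      have hle : U ≤ U.comap (MulAut.conj ((c : G)⁻¹ * m)).toMonoidHom := by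
        refine sup_le (fun y hy => ?_) (fun y hy => ?_)
        · refine Subgroup.mem_sup_left ?_
          have h1 : m * y * m⁻¹ ∈ MulAut.conj (k1 : G) • Kp' := by
            rw [← hk1, CfsgLib.Coprime.mem_conj_smul]
            convert hy using 1
            group
          rw [CfsgLib.Coprime.mem_conj_smul, ← CfsgLib.Coprime.mem_map_subtype_smul, ← hck,
            CfsgLib.Coprime.mem_map_subtype_smul] at h1
          change (c : G)⁻¹ * m * y * ((c : G)⁻¹ * m)⁻¹ ∈ Kp'
          convert h1 using 1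
          group
        · refine Subgroup.mem_sup_right ?_
          have h1 : m * y * m⁻¹ ∈ (Q : Subgroup G) := CfsgLib.Coprime.mem_normalizer_conj hmn hy
          change (c : G)⁻¹ * m * y * ((c : G)⁻¹ * m)⁻¹ ∈ (Q : Subgroup G)
          rw [show (c : G)⁻¹ * m * y * ((c : G)⁻¹ * m)⁻¹ = (c : G)⁻¹ * ((m * y * m⁻¹) * c) by group, hcQ _ h1,
            inv_mul_cancel_left]
          exact h1
      exact hle hu
    have hwU : w ∈ Subgroup.normalizer (U : Set G) := Subgroup.le_normalizer (Subgroup.mem_sup_right hw)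
    -- `g = (w v) m`
    have hgm : g = (l : G) * m := by simp only [hm, n]; group
    refine ⟨w * (v * c) * w⁻¹, hKn.conj_mem _ (mul_mem hv c.2) w, ?_⟩
    rw [hgm, hwv, show (w * (v * (c : G)) * w⁻¹)⁻¹ * (w * v * m) = w * ((c : G)⁻¹ * m) by group]
    exact mul_mem hwU hcm
  set NU := Subgroup.normalizer (U : Set G) with hNU
  have hNidx : ¬ p ∣ NU.index := by
    have htop : NU ⊔ K = ⊤ := by
      rw [eq_top_iff]
      intro g _
      obtain ⟨k, hk, hkg⟩ := hsupp g
      rw [← mul_inv_cancel_left k g]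
      exact mul_mem (Subgroup.mem_sup_right hk) (Subgroup.mem_sup_left hkg)
    have h2 : NU.index = NU.relIndex K := by
      have h1 := CfsgLib.Coprime.card_sup_mul_card_inf (H := NU) (N := K)
        (by rw [Subgroup.normalizer_eq_top]; exact le_top)
      rw [htop, Subgroup.card_top, ← NU.card_mul_index, ← Subgroup.relIndex_bot_left K,
        ← Subgroup.relIndex_mul_relIndex ⊥ _ _ bot_le (inf_le_left : K ⊓ NU ≤ K), Subgroup.relIndex_bot_left,
        Subgroup.inf_relIndex_left] at h1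
      refine Nat.eq_of_mul_eq_mul_left (n := Nat.card NU * Nat.card (K ⊓ NU : Subgroup G)) (Nat.mul_pos Nat.card_pos Nat.card_pos) ?_
      linarith
    rw [h2]
    intro hd
    have h3 : NU.relIndex K ∣ Kp'.relIndex K :=
      Subgroup.relIndex_dvd_of_le_left _ ((le_sup_left : Kp' ≤ U).trans Subgroup.le_normalizer)
    apply Kp.not_dvd_index
    have h4 : Kp'.relIndex K = (Kp : Subgroup K).index := by
      rw [hKp', Subgroup.relIndex, Subgroup.subgroupOf, Subgroup.comap_map_eq_self_of_injective K.subtype_injective]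
    exact h4 ▸ hd.trans h3
  obtain ⟨P0⟩ := (inferInstance : Nonempty (Sylow p NU))
  have hP0 : ¬ p ∣ ((P0 : Subgroup NU).map NU.subtype).index := by
    rw [Subgroup.index_map_subtype]
    intro hd
    rcases hp.out.dvd_mul.1 hd with hd | hd
    · exact P0.not_dvd_index hd
    · exact hNidx hd
  set P : Sylow p G := (P0.isPGroup'.map _).toSylow hP0
  have hPU : ∀ s ∈ (P : Subgroup G), s ∈ NU := fun s hs => Subgroup.map_subtype_le _ hs
  -- the final step
  have hkey : ∀ g : G, ∀ x ∈ (Q : Subgroup G), g * x * g⁻¹ ∈ Cfsg.pCore p G ⊔ (Q : Subgroup G) := by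
    intro g x hx
    obtain ⟨a, ha⟩ := hP x hx
    set M := Subgroup.normalClosure ({x} : Set G) with hM
    have hxU : ∀ y : G, y * x * y⁻¹ ∈ U := by
      intro y
      obtain ⟨s, hs, c, hc, rfl⟩ := exists_mul_of_index _ ha P y
      rw [show s * c * x * (s * c)⁻¹ = s * (c * x * c⁻¹) * s⁻¹ by group,
        Subgroup.mem_centralizer_singleton_iff.1 hc, mul_inv_cancel_right]
      exact CfsgLib.Coprime.mem_normalizer_conj (hPU s hs) (Subgroup.mem_sup_right hx)
    have hMU : M ≤ U := by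
      rw [hM, Subgroup.normalClosure, Subgroup.closure_le]
      intro y hy
      obtain ⟨z, hz, hzy⟩ := Group.mem_conjugatesOfSet_iff.1 hy
      rw [Set.mem_singleton_iff] at hz
      subst hz
      obtain ⟨g', rfl⟩ := isConj_iff.1 hzy
      exact hxU g'
    have hMK : M ⊓ K ≤ Cfsg.pCore p G :=
      CfsgLib.PCore.le_pCore inferInstance ((Kp.isPGroup'.map K.subtype).to_le
        ((inf_le_inf_right K hMU).trans hUK))
    set Hm := M ⊓ K ⊔ (Q : Subgroup G) ⊓ M with hHm
    have hrel : Hm.relIndex M = 1 := by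
      refine Nat.eq_one_of_dvd_coprimes (a := (M ⊓ K).relIndex M) (b := ((Q : Subgroup G) ⊓ M).relIndex M) ?_
        (Subgroup.relIndex_dvd_of_le_left M (le_sup_left : M ⊓ K ≤ Hm))
        (Subgroup.relIndex_dvd_of_le_left M (le_sup_right : (Q : Subgroup G) ⊓ M ≤ Hm))
      rw [Subgroup.inf_relIndex_left, Subgroup.inf_relIndex_right]
      have h1 := CfsgLib.Structure80.OrbitPrimePower.relIndex_dvd_index (Q : Subgroup G) M
      have h2 : ∃ j, K.relIndex M = q ^ j := by
        have h3 := Subgroup.relIndex_ker (K := M) π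
        rw [QuotientGroup.ker_mk'] at h3
        rw [h3]
        refine IsPGroup.iff_card.1 ((Q.isPGroup'.map π).to_le ?_)
        haveI : ((Q : Subgroup G).map π).Normal := by
          rw [map_sylow_eq h Q]; exact CfsgLib.Fitting.pCore_normal q
        refine Subgroup.map_le_iff_le_comap.2 (Subgroup.normalClosure_le_normal ?_)
        rw [Set.singleton_subset_iff]
        exact Subgroup.mem_map_of_mem π hx
      obtain ⟨j, hj⟩ := h2
      rw [hj]
      exact (Nat.Coprime.coprime_dvd_right h1 (hq.out.coprime_iff_not_dvd.2 Q.not_dvd_index)).pow_left j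
    have hMle : M ≤ Cfsg.pCore p G ⊔ (Q : Subgroup G) :=
      (Subgroup.relIndex_eq_one.1 hrel).trans (sup_le (hMK.trans le_sup_left) (inf_le_left.trans le_sup_right))
    exact hMle ((inferInstance : M.Normal).conj_mem x (Subgroup.subset_normalClosure (Set.mem_singleton x)) g)
  have hOn : (Cfsg.pCore p G).Normal := CfsgLib.Fitting.pCore_normal p
  refine ⟨fun y hy g => ?_⟩
  have hle : Cfsg.pCore p G ⊔ (Q : Subgroup G) ≤
      (Cfsg.pCore p G ⊔ (Q : Subgroup G)).comap (MulAut.conj g).toMonoidHom :=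
    sup_le (fun z hz => Subgroup.mem_sup_left (hOn.conj_mem z hz g)) (fun z hz => hkey g z hz)
  exact hle hy

set_option maxHeartbeats 1000000 in
/-- The quotient by `O_{q'}` is solvable. -/
lemma solvable_quotient (h : QClass q G) (Q : Sylow q G) (hQ : IsMulCommutative (Q : Subgroup G))
    {p : ℕ} [hp : Fact p.Prime] (hpq : p ≠ q)
    (hP : ∀ x ∈ (Q : Subgroup G), ∃ a, (Subgroup.centralizer ({x} : Set G)).index = p ^ a) :
    Group.IsSolvable (G ⧸ Cfsg.pPrimeCore q G) := by
  classical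
  set K := Cfsg.pPrimeCore q G with hK
  set π := QuotientGroup.mk' K with hπ
  set R := (Q : Subgroup G).map π with hR
  have hRn : R.Normal := by rw [hR, map_sylow_eq h Q]; exact CfsgLib.Fitting.pCore_normal q
  haveI := hRn
  have hRab : ∀ u ∈ R, ∀ w ∈ R, u * w = w * u := by
    rintro _ ⟨u, hu, rfl⟩ _ ⟨w, hw, rfl⟩
    rw [← map_mul, ← map_mul, show u * w = w * u from congrArg Subtype.val (mul_comm' (⟨u, hu⟩ : (Q : Subgroup G)) ⟨w, hw⟩)]
  have hRp : IsPGroup q R := Q.isPGroup'.map π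
  have hRidx : ¬ q ∣ R.index := fun hd =>
    Q.not_dvd_index (hd.trans (Subgroup.index_map_dvd _ (QuotientGroup.mk'_surjective K)))
  have hCR : Subgroup.centralizer (R : Set (G ⧸ K)) ≤ R := by
    have h1 := CfsgLib.PCore.centralizer_pCore_le
      (CfsgLib.PCore.isPSolvable_quotient (qSolvable _ rfl h) K) CfsgLib.PCore.pPrimeCore_quotient_pPrimeCore
    rwa [← map_sylow_eq h Q] at h1
  -- elements of order dividing `q`
  let V : Subgroup (G ⧸ K) :=
    { carrier := {u | u ∈ R ∧ u ^ q = 1}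
      one_mem' := ⟨R.one_mem, one_pow q⟩
      mul_mem' := fun {u w} hu hw => ⟨R.mul_mem hu.1 hw.1, by
        rw [(show Commute u w from hRab u hu.1 w hw.1).mul_pow, hu.2, hw.2, one_mul]⟩
      inv_mem' := fun {u} hu => ⟨R.inv_mem hu.1, by rw [inv_pow, hu.2, inv_one]⟩ }
  haveI : IsMulCommutative V := .of_setLike_mul_comm fun u hu w hw => hRab u hu.1 w hw.1
  letI : CommGroup V := { (inferInstance : Group V) with mul_comm := fun u w => mul_comm' u w }
  haveI : Module (ZMod q) (Additive V) := AddCommGroup.zmodModule fun u => by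
    induction u using Additive.rec with
    | _ u =>
      rw [← ofMul_pow]
      exact congrArg Additive.ofMul (Subtype.ext (by rw [SubgroupClass.coe_pow]; exact u.2.2))
  haveI hVn : V.Normal := ⟨fun u hu g => ⟨hRn.conj_mem u hu.1 g, by rw [conj_pow, hu.2, mul_one, mul_inv_cancel]⟩⟩
  let ρ0 : Representation (ZMod q) (G ⧸ K) (Additive V) :=
    { toFun := fun g => (MonoidHom.toAdditive (MulAut.conjNormal g : MulAut V).toMonoidHom).toZModLinearMap q
      map_one' := LinearMap.ext fun u => congrArg Additive.ofMul (by rw [map_one]; rfl)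
      map_mul' := fun a b => LinearMap.ext fun u => congrArg Additive.ofMul (by rw [map_mul]; rfl) }
  have hρ0 : ∀ (g : G ⧸ K) (u : V), ((Additive.toMul (ρ0 g (Additive.ofMul u)) : V) : G ⧸ K) = g * u * g⁻¹ :=
    fun g u => MulAut.conjNormal_apply g u
  have hker : R ≤ MonoidHom.ker ρ0 := by
    intro w hw
    refine MonoidHom.mem_ker.2 (LinearMap.ext fun u => ?_)
    induction u using Additive.rec with
    | _ u =>
      apply Additive.toMul.injective
      apply Subtype.ext
      rw [hρ0, hRab w hw _ u.2.1, mul_inv_cancel_right]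
      rfl
  let ρ : Representation (ZMod q) ((G ⧸ K) ⧸ R) (Additive V) := QuotientGroup.lift R ρ0 hker
  have hqB : ¬ q ∣ Nat.card ((G ⧸ K) ⧸ R) := by rwa [← Subgroup.index_eq_card]
  have horb : CfsgLib.Structure80.OrbitPrimePower.OrbPow p ρ := by
    intro u
    induction u using Additive.rec with
    | _ u =>
    obtain ⟨w, hw, hwu⟩ := u.2.1
    obtain ⟨a, ha⟩ := hP w hw
    have h1 : Subgroup.map π (Subgroup.centralizer ({w} : Set G)) ≤
        (CfsgLib.Structure80.OrbitPrimePower.stab ρ (Additive.ofMul u)).comap (QuotientGroup.mk' R) := by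
      rintro _ ⟨c, hc, rfl⟩
      rw [Subgroup.mem_comap, CfsgLib.Structure80.OrbitPrimePower.mem_stab]
      change ρ0 (π c) (Additive.ofMul u) = Additive.ofMul u
      apply Additive.toMul.injective
      apply Subtype.ext
      rw [hρ0, ← hwu, ← map_mul, ← map_inv, ← map_mul, Subgroup.mem_centralizer_singleton_iff.1 hc, mul_inv_cancel_right]
      exact hwu
    have h2 := (Subgroup.index_dvd_of_le h1).trans
      (Subgroup.index_map_dvd (Subgroup.centralizer ({w} : Set G)) (QuotientGroup.mk'_surjective K))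
    rw [Subgroup.index_comap_of_surjective _ (QuotientGroup.mk'_surjective R), ha] at h2
    obtain ⟨i, -, hi⟩ := (Nat.dvd_prime_pow hp.out).1 h2
    exact ⟨i, hi⟩
  have hinj : Function.Injective ρ := by
    rw [← MonoidHom.ker_eq_bot_iff, eq_bot_iff]
    intro b hb
    obtain ⟨g, rfl⟩ := QuotientGroup.mk'_surjective R b
    rw [Subgroup.mem_bot, QuotientGroup.mk'_apply, QuotientGroup.eq_one_iff]
    have hg : ∀ u ∈ V, g * u * g⁻¹ = u := by
      intro u hu
      have h1 := LinearMap.congr_fun (MonoidHom.mem_ker.1 hb) (Additive.ofMul ⟨u, hu⟩)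
      have h2 := congrArg (fun z : Additive V => ((Additive.toMul z : V) : G ⧸ K)) h1
      rw [show ρ ((QuotientGroup.mk' R) g) = ρ0 g from rfl, hρ0] at h2
      exact h2
    -- pass to the `q'`-part
    obtain ⟨k, hk⟩ := IsPGroup.iff_card.1 hRp
    have hcop : (q ^ k).Coprime R.index := (hq.out.coprime_iff_not_dvd.2 hRidx).pow_left k
    set m := (Nat.chineseRemainder hcop 0 1 : ℕ) with hm
    have hm0 : m ≡ 0 [MOD q ^ k] := (Nat.chineseRemainder hcop 0 1).2.1
    have hm1 : m ≡ 1 [MOD R.index] := (Nat.chineseRemainder hcop 0 1).2.2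
    have hgm : QuotientGroup.mk' R (g ^ m) = QuotientGroup.mk' R g := by
      rw [map_pow]
      conv_rhs => rw [← pow_one (QuotientGroup.mk' R g)]
      rw [pow_eq_pow_iff_modEq]
      exact hm1.of_dvd (by rw [Subgroup.index_eq_card]; exact orderOf_dvd_natCard _)
    have hord : (orderOf (g ^ m)).Coprime q := by
      refine Nat.Coprime.coprime_dvd_left ?_ (hq.out.coprime_iff_not_dvd.2 hRidx).symm
      refine orderOf_dvd_of_pow_eq_one ?_
      rw [← pow_mul]
      obtain ⟨c, hc⟩ := Nat.modEq_zero_iff_dvd.1 hm0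
      refine orderOf_dvd_iff_pow_eq_one.1 ((orderOf_dvd_natCard g).trans ?_)
      rw [hc, ← R.card_mul_index, hk]
      exact ⟨c, by ring⟩
    set g' := g ^ m with hg'
    have hfix : ∀ (n : ℕ) (w : G ⧸ K), w ∈ R → w ^ q ^ n = 1 → g' * w * g'⁻¹ = w := by
      intro n
      induction n with
      | zero => intro w _ hw1; rw [pow_zero, pow_one] at hw1; subst hw1; simp
      | succ n ih =>
        intro w hwR hwn
        set d := w⁻¹ * (g' * w * g'⁻¹) with hd
        have hdR : d ∈ R := R.mul_mem (R.inv_mem hwR) (hRn.conj_mem w hwR g')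
        have hwq := ih (w ^ q) (R.pow_mem hwR q) (by rw [← pow_mul, ← pow_succ']; exact hwn)
        have hdq : d ^ q = 1 := by
          rw [hd, (show Commute w⁻¹ (g' * w * g'⁻¹) from
            hRab _ (R.inv_mem hwR) _ (hRn.conj_mem w hwR g')).mul_pow, conj_pow, hwq, inv_pow, inv_mul_cancel]
        have hgd : g' * d * g'⁻¹ = d := by
          have h1 := hg d ⟨hdR, hdq⟩
          have h2 : Commute g d := mul_inv_eq_iff_eq_mul.1 h1
          rw [(h2.pow_left m).eq, mul_inv_cancel_right]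
        have hiter : ∀ i : ℕ, g' ^ i * w * (g' ^ i)⁻¹ = w * d ^ i := by
          intro i
          induction i with
          | zero => simp
          | succ i ihi =>
            calc g' ^ (i + 1) * w * (g' ^ (i + 1))⁻¹ = g' * (g' ^ i * w * (g' ^ i)⁻¹) * g'⁻¹ := by rw [pow_succ']; group
              _ = (g' * w * g'⁻¹) * (g' * d * g'⁻¹) ^ i := by rw [ihi, conj_pow]; group
              _ = w * d ^ (i + 1) := by rw [hgd, pow_succ', ← mul_assoc, hd]; group
        have h3 := hiter (orderOf g')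
        rw [pow_orderOf_eq_one, one_mul, inv_one, mul_one, left_eq_mul] at h3
        have hd1 : d = 1 := orderOf_eq_one_iff.1 (Nat.eq_one_of_dvd_coprimes hord
          (orderOf_dvd_of_pow_eq_one h3) (orderOf_dvd_of_pow_eq_one hdq))
        rw [hd, inv_mul_eq_one] at hd1
        exact hd1.symm
    have hgR : g' ∈ R := hCR (Subgroup.mem_centralizer_iff.2 fun w hw => by
      obtain ⟨n, hn⟩ := hRp ⟨w, hw⟩
      exact (mul_inv_eq_iff_eq_mul.1 (hfix n w hw (congrArg Subtype.val hn))).symm)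
    rw [← QuotientGroup.eq_one_iff (N := R), ← QuotientGroup.mk'_apply, ← hgm, QuotientGroup.mk'_apply,
      QuotientGroup.eq_one_iff]
    exact hgR
  haveI : Finite (Additive V) := inferInstanceAs (Finite V)
  haveI := CfsgLib.Structure80.OrbitPrimePower.isSolvable_of_orbPow hpq ρ hinj horb hqB
  haveI : Group.IsSolvable R := Group.isSolvable_of_comm fun u w => Subtype.ext (hRab u u.2 w w.2)
  exact Group.isSolvable_of_ker_le_range R.subtype (QuotientGroup.mk' R) (by simp)

end

/-- Let G be a finite group and q a prime dividing its order such that every element of q-power order has a conjugacy class of prime-power size. Then G is q-solvable of q-length 1: there are normal subgroups K ≤ L of G with K of order prime to q, L/K a q-group and L of index prime to q. Moreover there is a prime p such that every element of q-power order has a class of p-power size (one prime serving for all of them), and for a Sylow q-subgroup Q: if p = q then Q is normal with a normal complement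 (a direct factor), while if p ≠ q then Q is abelian, the product of Q with the largest normal p-subgroup O_p(G) is normal in G, and G/O_{q'}(G) is solvable, where O_{q'}(G) is the largest normal subgroup of order prime to q. -/
theorem result {G : Type*} [Group G] [Finite G] (q : ℕ) [Fact q.Prime] (hq : q ∣ Nat.card G)
    (hBaer : ∀ x : G, (∃ k : ℕ, orderOf x = q ^ k) → ∃ (r : ℕ) (a : ℕ), r.Prime ∧ (Subgroup.centralizer ({x} : Set G)).index = r ^ a) (Q : Sylow q G) :
    (∃ K L : Subgroup G, K.Normal ∧ L.Normal ∧ K ≤ L ∧ (Nat.card K).Coprime q ∧ (∃ m : ℕ, K.relIndex L = q ^ m) ∧ L.index.Coprime q) ∧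
    ∃ p : ℕ, p.Prime ∧ (∀ x : G, (∃ k : ℕ, orderOf x = q ^ k) → ∃ a : ℕ, (Subgroup.centralizer ({x} : Set G)).index = p ^ a) ∧
      (p = q → (Q : Subgroup G).Normal ∧ ∃ N : Subgroup G, N.Normal ∧ N.IsComplement' (Q : Subgroup G)) ∧
      (p ≠ q → IsMulCommutative (Q : Subgroup G) ∧ (Cfsg.pCore p G ⊔ (Q : Subgroup G)).Normal ∧
        ∀ _h : (Cfsg.pPrimeCore q G).Normal, Group.IsSolvable (G ⧸ Cfsg.pPrimeCore q G)) := by
  have h : QClass q G := hBaer
  have hlen : ∃ K L : Subgroup G, K.Normal ∧ L.Normal ∧ K ≤ L ∧ (Nat.card K).Coprime q ∧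
      (∃ m : ℕ, K.relIndex L = q ^ m) ∧ L.index.Coprime q := by
    have hRn : ((Q : Subgroup G).map (QuotientGroup.mk' (Cfsg.pPrimeCore q G))).Normal := by
      rw [map_sylow_eq h Q]; exact CfsgLib.Fitting.pCore_normal q
    refine ⟨Cfsg.pPrimeCore q G, ((Q : Subgroup G).map (QuotientGroup.mk' (Cfsg.pPrimeCore q G))).comap (QuotientGroup.mk' (Cfsg.pPrimeCore q G)), inferInstance, hRn.comap _, ?_, CfsgLib.PCore.pPrimeCore_coprime, ?_, ?_⟩
    · conv_lhs => rw [← QuotientGroup.ker_mk' (Cfsg.pPrimeCore q G)]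
      exact Subgroup.ker_le_comap _ _
    · have h3 := Subgroup.relIndex_ker (f := QuotientGroup.mk' (Cfsg.pPrimeCore q G)) (K := ((Q : Subgroup G).map (QuotientGroup.mk' (Cfsg.pPrimeCore q G))).comap (QuotientGroup.mk' (Cfsg.pPrimeCore q G)))
      rw [QuotientGroup.ker_mk', Subgroup.map_comap_eq_self_of_surjective (QuotientGroup.mk'_surjective _)] at h3
      rw [h3]
      exact IsPGroup.iff_card.1 (Q.isPGroup'.map _)
    · rw [Subgroup.index_comap_of_surjective _ (QuotientGroup.mk'_surjective _)]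
      exact Nat.Coprime.coprime_dvd_left (Subgroup.index_map_dvd _ (QuotientGroup.mk'_surjective _))
        ((Fact.out : q.Prime).coprime_iff_not_dvd.2 Q.not_dvd_index).symm
  refine ⟨hlen, ?_⟩
  by_cases hab : IsMulCommutative (Q : Subgroup G)
  swap
  · obtain ⟨h1, h2⟩ := nonabelian_case h Q hab
    exact ⟨q, Fact.out, h1, fun _ => h2, fun hne => absurd rfl hne⟩
  rcases one_prime h Q hab with hall | ⟨p, hp, hpq, hP⟩
  · refine ⟨q, Fact.out, fun x hx => ?_, fun _ => ?_, fun hne => absurd rfl hne⟩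
    · obtain ⟨g, hg⟩ := exists_conj_mem Q hx
      exact ⟨0, by rw [← centralizer_conj_index g x, hall _ hg, Subgroup.index_top, pow_zero]⟩
    have hc : ∀ w ∈ (Q : Subgroup G), ∀ g : G, g * w = w * g := fun w hw g =>
      Subgroup.mem_centralizer_singleton_iff.1 (hall w hw ▸ Subgroup.mem_top g)
    haveI hQn : (Q : Subgroup G).Normal := ⟨fun w hw g => by rw [hc w hw g, mul_inv_cancel_right]; exact hw⟩
    obtain ⟨H, hH⟩ := Subgroup.exists_right_complement'_of_coprime Q.card_coprime_index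
    refine ⟨hQn, H, ?_, hH.symm⟩
    rw [← Subgroup.normalizer_eq_top_iff, eq_top_iff, ← hH.sup_eq_top]
    refine sup_le (fun w hw => CfsgLib.Coprime.mem_normalizer_of_forall_conj fun b hb => ?_) Subgroup.le_normalizer
    rw [← hc w hw b, mul_inv_cancel_right]
    exact hb
  haveI := Fact.mk hp
  refine ⟨p, hp, fun x hx => ?_, fun e => absurd e hpq, fun _ => ⟨hab, sup_normal_of_one_prime h Q hP,
    fun _ => solvable_quotient h Q hab hpq hP⟩⟩
  obtain ⟨g, hg⟩ := exists_conj_mem Q hx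
  obtain ⟨a, ha⟩ := hP _ hg
  exact ⟨a, by rw [← centralizer_conj_index g x, ha]⟩

end Cfsg.Agent.S4125
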