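import Cfsg.Statements.S4126
import Cfsg.Agent.Lib.LocalEvenSix.FixSmall
import Cfsg.Agent.Lib.Transfer.NormalComplement

set_option autoImplicit false
open Cfsg

namespace Cfsg.Agent.S4126

lemma conj_eq_conj_sylow {G : Type*} [Group G] [Finite G] {p : ℕ} [hp : Fact p.Prime] (P : Sylow p G) (x : G)
    {a : ℕ} (ha : (Subgroup.centralizer ({x} : Set G)).index = p ^ a) (u : G) :
    ∃ v ∈ (P : Subgroup G), u * x * u⁻¹ = v * x * v⁻¹ := by
  classical
  set C := Subgroup.centralizer ({x} : Set G) with hC
  let Q := C ⊓ (P : Subgroup G)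
  obtain ⟨i, hi⟩ := IsPGroup.iff_card.1 (P.isPGroup'.to_le (inf_le_right : Q ≤ (P : Subgroup G)))
  obtain ⟨j, hj⟩ := IsPGroup.iff_card.1 P.isPGroup'
  have hd : p ^ (i + a) ∣ Nat.card G := by
    rw [pow_add, ← hi, ← ha, ← Subgroup.card_mul_index C]
    exact Nat.mul_dvd_mul (Subgroup.card_dvd_of_le inf_le_left) dvd_rfl
  have hij : i + a ≤ j := by
    have h1 := (hp.out.pow_dvd_iff_le_factorization Nat.card_pos.ne').1 hd
    have h2 := P.card_eq_multiplicity
    rw [hj] at h2
    rwa [Nat.pow_right_injective hp.out.two_le h2]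
  have hrel : C.index ≤ Nat.card ((P : Subgroup G) ⧸ C.subgroupOf (P : Subgroup G)) := by
    rw [← Subgroup.index_eq_card, ha]
    have h1 : Nat.card (C.subgroupOf (P : Subgroup G)) = Nat.card Q := by
      rw [← Subgroup.card_map_of_injective (P : Subgroup G).subtype_injective, Subgroup.subgroupOf_map_subtype]
    have h2 := Subgroup.card_mul_index (C.subgroupOf (P : Subgroup G))
    rw [h1, hi, hj] at h2
    refine Nat.le_of_mul_le_mul_left ?_ (pow_pos hp.out.pos i)
    rw [h2, ← pow_add]
    exact Nat.pow_le_pow_right hp.out.pos hij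
  let f : (P : Subgroup G) ⧸ C.subgroupOf (P : Subgroup G) → G ⧸ C :=
    Quotient.map' (fun v => (v : G)) fun v w h => by
      rw [QuotientGroup.leftRel_apply] at h ⊢
      exact h
  have hinj : Function.Injective f := by
    intro v w
    induction v using QuotientGroup.induction_on with
    | H v => induction w using QuotientGroup.induction_on with
      | H w =>
        intro h
        exact QuotientGroup.eq.2 (QuotientGroup.eq.1 h : (v : G)⁻¹ * w ∈ C)
  have hbij : Function.Bijective f := hinj.bijective_of_nat_card_le (by rwa [← Subgroup.index_eq_card])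
  obtain ⟨v, hv⟩ := hbij.2 (u : G ⧸ C)
  induction v using QuotientGroup.induction_on with
  | H v =>
    refine ⟨v, v.2, ?_⟩
    have hc : (v : G)⁻¹ * u ∈ C := QuotientGroup.eq.1 hv
    have h1 := Subgroup.mem_centralizer_singleton_iff.1 hc
    calc u * x * u⁻¹ = (v : G) * (((v : G)⁻¹ * u) * x) * u⁻¹ := by group
      _ = _ := by rw [h1]; group

lemma commute_small {G : Type*} [Group G] [Finite G] (p : ℕ) [Fact p.Prime]
    (h : ∀ x : G, (orderOf x = p ∨ (p = 2 ∧ orderOf x = 4)) →
      ∃ a : ℕ, (Subgroup.centralizer ({x} : Set G)).index = p ^ a) {g : G} (hg : (orderOf g).Coprime p) :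
    ∀ (n : ℕ) (x : G), Nat.card (Subgroup.closure (Set.range fun u : G => u * x * u⁻¹)) = n →
      (orderOf x = p ∨ (p = 2 ∧ orderOf x = 4)) → g * x = x * g := by
  intro n
  induction n using Nat.strong_induction_on with
  | _ n ih =>
    intro x hn hx
    obtain ⟨a, ha⟩ := h x hx
    have hpx : IsPGroup p (Subgroup.zpowers x) := by
      rcases hx with hx | ⟨rfl, hx⟩
      · exact IsPGroup.of_card (n := 1) (by rw [Nat.card_zpowers, hx, pow_one])
      · exact IsPGroup.of_card (n := 2) (by rw [Nat.card_zpowers, hx]; rfl)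
    obtain ⟨P, hP⟩ := hpx.exists_le_sylow
    have hxP : x ∈ (P : Subgroup G) := hP (Subgroup.mem_zpowers x)
    set X := Subgroup.closure (Set.range fun u : G => u * x * u⁻¹) with hX
    set M := Subgroup.closure (Set.range fun u : G => u * x * u⁻¹ * x⁻¹) with hM
    have hxX : x ∈ X := Subgroup.subset_closure ⟨1, by simp⟩
    have hMX : M ≤ X := by
      rw [hM, Subgroup.closure_le]
      rintro _ ⟨u, rfl⟩
      exact X.mul_mem (Subgroup.subset_closure ⟨u, rfl⟩) (X.inv_mem hxX)
    have hXP : X ≤ (P : Subgroup G) := by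
      rw [hX, Subgroup.closure_le]
      rintro _ ⟨u, rfl⟩
      obtain ⟨v, hv, hvu⟩ := conj_eq_conj_sylow P x ha u
      simp only [hvu]
      exact mul_mem (mul_mem hv hxP) (inv_mem hv)
    have hMP : M ≤ (P : Subgroup G) := hMX.trans hXP
    have hMn : ∀ w : G, ∀ m ∈ M, w * m * w⁻¹ ∈ M := by
      intro w m hm
      induction hm using Subgroup.closure_induction with
      | mem m hm =>
        obtain ⟨u, rfl⟩ := hm
        have : w * (u * x * u⁻¹ * x⁻¹) * w⁻¹ =
            (w * u * x * (w * u)⁻¹ * x⁻¹) * (w * x * w⁻¹ * x⁻¹)⁻¹ := by group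
        rw [this]
        exact M.mul_mem (Subgroup.subset_closure ⟨w * u, rfl⟩) (M.inv_mem (Subgroup.subset_closure ⟨w, rfl⟩))
      | one => simp
      | mul m m' _ _ hm hm' =>
        rw [show w * (m * m') * w⁻¹ = w * m * w⁻¹ * (w * m' * w⁻¹) by group]
        exact M.mul_mem hm hm'
      | inv m _ hm =>
        rw [show w * m⁻¹ * w⁻¹ = (w * m * w⁻¹)⁻¹ by group]
        exact M.inv_mem hm
    have hxM : x ∉ M := by
      intro hxM
      have hall : ∀ k, x ∈ Subgroup.lowerCentralSeries (P : Subgroup G) k := by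
        intro k
        induction k with
        | zero => exact hxP
        | succ k ihk =>
          refine (?_ : M ≤ _) hxM
          rw [hM, Subgroup.closure_le]
          rintro _ ⟨u, rfl⟩
          obtain ⟨v, hv, hvu⟩ := conj_eq_conj_sylow P x ha u
          simp only [hvu]
          rw [Subgroup.lowerCentralSeries_succ, Subgroup.commutator_comm]
          exact Subgroup.commutator_mem_commutator hv ihk
      obtain ⟨k, hk⟩ := (Subgroup.isNilpotent_iff_lowerCentralSeries (P : Subgroup G)).1 P.isPGroup'.isNilpotent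
      have := hk ▸ hall k
      rw [Subgroup.mem_bot.1 this, orderOf_one] at hx
      rcases hx with h1 | ⟨-, h1⟩
      · exact (Fact.out : p.Prime).ne_one h1.symm
      · omega
    have hlt : Nat.card M < n := by
      rw [← hn]
      exact lt_of_le_of_ne (Subgroup.card_le_of_le hMX)
        (fun he => hxM (Subgroup.eq_of_le_of_card_ge hMX he.ge ▸ hxX))
    have hfix : ∀ m ∈ M, g * m = m * g := by
      refine CfsgLib.LocalEvenSix.fixes_of_fixes_small g hg _ M rfl (P.isPGroup'.to_le hMP)
        (hMn g) ?_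
      intro m hm hsmall
      rcases eq_or_ne m 1 with rfl | hm1
      · simp
      refine ih _ (lt_of_le_of_lt ?_ hlt) m rfl ?_
      · apply Subgroup.card_le_of_le
        rw [Subgroup.closure_le]
        rintro _ ⟨u, rfl⟩
        exact hMn u m hm
      · rcases hsmall with h1 | ⟨h2, h1⟩
        · exact Or.inl (orderOf_eq_prime h1 hm1)
        · subst h2
          have hd : orderOf m ∣ 2 ^ 2 := orderOf_dvd_of_pow_eq_one h1
          obtain ⟨i, hi, hi'⟩ := (Nat.dvd_prime_pow Nat.prime_two).1 hd
          interval_cases i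
          · exact absurd (orderOf_eq_one_iff.1 hi') hm1
          · exact Or.inl hi'
          · exact Or.inr ⟨rfl, hi'⟩
    have hmem : g * x * g⁻¹ * x⁻¹ ∈ M := Subgroup.subset_closure ⟨g, rfl⟩
    have hy : x⁻¹ * (g * x * g⁻¹) ∈ M := by
      have := hMn x⁻¹ _ hmem
      rwa [show x⁻¹ * (g * x * g⁻¹ * x⁻¹) * x⁻¹⁻¹ = x⁻¹ * (g * x * g⁻¹) by group] at this
    refine CfsgLib.OddOrder41.fixes_of_step_fixed (H := M) ?_ hy (by group) ?_
    · obtain ⟨k, hk⟩ := IsPGroup.iff_card.1 (P.isPGroup'.to_le hMP)
      rw [hk]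
      exact hg.pow_right k
    · rw [hfix _ hy, mul_inv_cancel_right]

/-- Let G be a finite group and p a prime. Suppose every element of order p, and when p = 2 also every element of order 4, has a conjugacy class of p-power size. Then G has a normal p-complement. -/
theorem result {G : Type*} [Group G] [Finite G] (p : ℕ) [Fact p.Prime]
    (h : ∀ x : G, (orderOf x = p ∨ (p = 2 ∧ orderOf x = 4)) → ∃ a : ℕ, (Subgroup.centralizer ({x} : Set G)).index = p ^ a) :
    Cfsg.HasNormalPComplement p G := by
  apply CfsgLib.Transfer.hasNormalPComplement_of_frobeniusCond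
  intro Q hQ g hg hc
  rw [Subgroup.mem_centralizer_iff]
  intro q hq
  refine (CfsgLib.LocalEvenSix.fixes_of_fixes_small g hc _ Q rfl hQ
    (fun y hy => ((Subgroup.mem_normalizer_iff.1 hg) y).1 hy) ?_ q hq).symm
  intro y hy hsmall
  rcases eq_or_ne y 1 with rfl | hy1
  · simp
  refine commute_small p h hc _ y rfl ?_
  rcases hsmall with h1 | ⟨h2, h1⟩
  · exact Or.inl (orderOf_eq_prime h1 hy1)
  · subst h2
    have hd : orderOf y ∣ 2 ^ 2 := orderOf_dvd_of_pow_eq_one h1
    obtain ⟨i, hi, hi'⟩ := (Nat.dvd_prime_pow Nat.prime_two).1 hd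
    interval_cases i
    · exact absurd (orderOf_eq_one_iff.1 hi') hy1
    · exact Or.inl hi'
    · exact Or.inr ⟨rfl, hi'⟩

end Cfsg.Agent.S4126
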