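import Cfsg.Statements.S4130
import Cfsg.Agent.Lib.ClassSize.SquarefreeStructure
import Cfsg.Agent.Lib.Solvable.SupersolvableCriteria
import Cfsg.Agent.Lib.Solvable.Fitting

set_option autoImplicit false
set_option linter.style.haveILetI false
open Cfsg

namespace Cfsg.Agent.S4130

open Subgroup
open scoped commutatorElement

theorem isCyclic_of_comm_squarefree {A : Type*} [Group A] [Finite A]
    (hc : ∀ a b : A, a * b = b * a) (hsq : Squarefree (Nat.card A)) : IsCyclic A := by
  let _ : CommGroup A := { (inferInstance : Group A) with mul_comm := hc }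
  refine IsCyclic.of_exponent_eq_card (Nat.dvd_antisymm Group.exponent_dvd_nat_card ?_)
  rw [Nat.dvd_iff_prime_pow_dvd_dvd]
  intro r k hr hk
  rcases Nat.eq_zero_or_pos k with rfl | hk0
  · simp
  have hk1 : k = 1 := ((Nat.squarefree_pow_iff hr.ne_one hk0.ne').1 (hsq.squarefree_of_dvd hk)).2
  subst hk1
  haveI := Fact.mk hr
  rw [pow_one] at hk ⊢
  obtain ⟨a, ha⟩ := exists_prime_orderOf_dvd_card' r hk
  exact ha ▸ Monoid.order_dvd_exponent a

universe u

theorem isSupersolvable_of_comm : ∀ (n : ℕ) {A : Type u} [Group A] [Finite A],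
    Nat.card A = n → (∀ a b : A, a * b = b * a) → Cfsg.IsSupersolvable A := by
  intro n
  induction n using Nat.strong_induction_on with
  | _ n ih => ?_
  intro A _ _ hn hc
  subst hn
  rcases subsingleton_or_nontrivial A with h' | h'
  · exact CfsgLib.Supersolvable.of_subsingleton
  obtain ⟨a, ha⟩ := exists_ne (1 : A)
  have hN : zpowers a ≠ ⊥ := fun h0 => ha (zpowers_eq_bot.1 h0)
  haveI : (zpowers a).Normal := ⟨fun x hx g => by rwa [hc g x, mul_inv_cancel_right]⟩
  refine CfsgLib.Supersolvable.of_cyclic_normal_quotient (zpowers a)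
    (ih _ (CfsgLib.Supersolvable.card_quotient_lt hN) rfl fun x y => ?_)
  induction x using QuotientGroup.induction_on with | _ x => ?_
  induction y using QuotientGroup.induction_on with | _ y => ?_
  rw [← QuotientGroup.mk_mul, ← QuotientGroup.mk_mul, hc]

/-- The derived subgroup is cyclic of square-free order and `G` is solvable. -/
theorem commutator_cyclic : ∀ (n : ℕ) {G : Type u} [Group G] [Finite G], Nat.card G = n →
    CfsgLib.SquarefreeClass.SF G →
    (∀ a ∈ commutator G, ∀ b ∈ commutator G, a * b = b * a) ∧
      Squarefree (Nat.card (commutator G)) := by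
  intro n
  induction n using Nat.strong_induction_on with
  | _ n ih => ?_
  intro G _ _ hn h
  subst hn
  by_cases h1 : Nat.card G = 1
  · haveI : Subsingleton G := (Nat.card_eq_one_iff_unique.1 h1).1
    refine ⟨fun a _ b _ => Subsingleton.elim _ _, ?_⟩
    rw [Nat.card_of_subsingleton (1 : commutator G)]
    exact squarefree_one
  have hne : (Nat.card G).primeFactors.Nonempty :=
    Nat.nonempty_primeFactors.2 (by have := Nat.card_pos (α := G); omega)
  set p := (Nat.card G).primeFactors.max' hne with hpdef
  obtain ⟨hp, hpd, -⟩ := Nat.mem_primeFactors.1 (Finset.max'_mem _ hne)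
  rw [← hpdef] at hp hpd
  haveI := Fact.mk hp
  obtain ⟨P⟩ := (inferInstance : Nonempty (Sylow p G))
  haveI hPn : (P : Subgroup G).Normal := CfsgLib.SquarefreeClass.SF.sylow_normal_largest _ rfl h
    (fun r hr hrd => Finset.le_max' _ r (Nat.mem_primeFactors.2 ⟨hr, hrd, Nat.card_pos.ne'⟩)) P
  have hN : Nat.card ((P : Subgroup G) ⊓ commutator G : Subgroup G) ∣ p := h.card_inf_commutator P
  have hlt : Nat.card (G ⧸ (P : Subgroup G)) < Nat.card G :=
    CfsgLib.Supersolvable.card_quotient_lt (P.ne_bot_of_dvd_card hpd)
  obtain ⟨ih1, ih2⟩ := ih _ hlt rfl (h.quotient _)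
  set f := QuotientGroup.mk' (P : Subgroup G) with hf
  have hmap : (commutator G).map f = commutator (G ⧸ (P : Subgroup G)) := by
    rw [_root_.commutator_def, map_commutator,
      map_top_of_surjective _ (QuotientGroup.mk'_surjective _), ← _root_.commutator_def]
  set N := (P : Subgroup G) ⊓ commutator G with hNdef
  haveI : N.Normal := Subgroup.normal_inf_normal _ _
  haveI : IsCyclic N := isCyclic_of_card_dvd_prime (p := p) hN
  have hcen := CfsgLib.Supersolvable.commutator_le_centralizer_of_cyclic N
  constructor
  · have hker : (f.comp (commutator G).subtype).ker ≤ center (commutator G) := by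
      intro x hx
      have hxN : (x : G) ∈ N := ⟨(QuotientGroup.eq_one_iff _).1 (MonoidHom.mem_ker.1 hx), x.2⟩
      rw [mem_center_iff]
      exact fun y => Subtype.ext (mem_centralizer_iff.1 (hcen y.2) x hxN).symm
    haveI : IsCyclic (f.comp (commutator G).subtype).range := by
      rw [MonoidHom.range_comp, range_subtype, hmap]
      exact isCyclic_of_comm_squarefree (fun a b => Subtype.ext (ih1 a a.2 b b.2)) ih2
    have key := commutative_of_cyclic_center_quotient (f.comp (commutator G).subtype).rangeRestrict
      (by rw [MonoidHom.ker_rangeRestrict]; exact hker)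
    exact fun a ha b hb => congrArg Subtype.val (key ⟨a, ha⟩ ⟨b, hb⟩)
  · have hc := CfsgLib.Coprime.card_map_mul_inf_ker f (commutator G)
    rw [hmap, hf, QuotientGroup.ker_mk'] at hc
    rw [← hc]
    refine Nat.squarefree_mul_iff.2 ⟨?_, ih2, hp.prime.squarefree.squarefree_of_dvd hN⟩
    refine Nat.Coprime.coprime_dvd_right hN (Nat.Coprime.coprime_dvd_left
      (card_subgroup_dvd_card _) ?_)
    rw [← index_eq_card]
    exact (hp.coprime_iff_not_dvd.2 P.not_dvd_index).symm

/-- In a nilpotent group, an element spanning a normal subgroup of prime order is central. -/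
theorem central_of_normal_prime {F : Type*} [Group F] [Group.IsNilpotent F] {x : F} {r : ℕ}
    (hr : r.Prime) (hx : orderOf x = r) (hn : ∀ y : F, y * x * y⁻¹ ∈ zpowers x) (y : F) :
    x * y = y * x := by
  have key : ∀ k, x ∈ Subgroup.upperCentralSeries F k → ∀ y, x * y = y * x := by
    intro k
    induction k with
    | zero =>
      intro hk y
      rw [Subgroup.upperCentralSeries_zero, mem_bot] at hk
      rw [hk, one_mul, mul_one]
    | succ k ih =>
      intro hk y
      by_contra hne
      refine hne (ih ?_ y)
      have h1 : ⁅x, y⁆ ∈ Subgroup.upperCentralSeries F k :=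
        Subgroup.mem_upperCentralSeries_succ_iff.1 hk y
      have h2 : ⁅x, y⁆ ∈ zpowers x := by
        rw [commutatorElement_def]
        have := mul_mem (mem_zpowers x) (inv_mem (hn y))
        simpa [mul_assoc] using this
      obtain ⟨i, hi⟩ := mem_zpowers_iff.1 h2
      have h3 : ¬ r ∣ i.natAbs := fun hd => hne (by
        rw [← commutatorElement_eq_one_iff_mul_comm, ← hi, ← orderOf_dvd_iff_zpow_eq_one, hx]
        exact Int.natCast_dvd.2 hd)
      have h4 : x ^ i.natAbs ∈ Subgroup.upperCentralSeries F k := by
        rcases Int.natAbs_eq i with e | e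
        · rw [← zpow_natCast, ← e, hi]; exact h1
        · rw [← zpow_natCast, ← inv_inv (x ^ (i.natAbs : ℤ)), ← zpow_neg, ← e, hi]
          exact inv_mem h1
      obtain ⟨t, ht⟩ := exists_pow_eq_self_of_coprime (x := x) (n := i.natAbs)
        (hx ▸ (hr.coprime_iff_not_dvd.2 h3).symm)
      rw [← ht]
      exact pow_mem h4 t
  obtain ⟨k, hk⟩ := Group.IsNilpotent.nilpotent' (G := F)
  exact key k (hk ▸ mem_top x) y


/-- Let G be a finite group all of whose conjugacy class sizes are square-free. Then G is supersolvable, G/F(G) and the derived subgroup G′ are cyclic of square-free order (F(G) the Fitting subgroup, which is normal), F(G) has nilpotency class at most 2, and G is metabelian. -/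
theorem result {G : Type*} [Group G] [Finite G]
    (h : ∀ x : G, Squarefree (Subgroup.centralizer ({x} : Set G)).index) :
    Cfsg.IsSupersolvable G ∧ (Cfsg.fittingSubgroup G).Normal ∧
    (∀ _h : (Cfsg.fittingSubgroup G).Normal, IsCyclic (G ⧸ Cfsg.fittingSubgroup G) ∧ Squarefree (Cfsg.fittingSubgroup G).index) ∧
    IsCyclic (commutator G) ∧ Squarefree (Nat.card (commutator G)) ∧
    Subgroup.upperCentralSeries ↥(Cfsg.fittingSubgroup G) 2 = ⊤ ∧ commutator ↥(commutator G) = ⊥ := by
  classical
  have hSF : CfsgLib.SquarefreeClass.SF G := h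
  obtain ⟨hab, hsq⟩ := commutator_cyclic _ rfl hSF
  haveI hcyc : IsCyclic (commutator G) :=
    isCyclic_of_comm_squarefree (fun a b => Subtype.ext (hab a a.2 b b.2)) hsq
  have hcomm_mem : ∀ a b : G, ⁅a, b⁆ ∈ commutator G := fun a b => by
    rw [_root_.commutator_def]
    exact commutator_mem_commutator (mem_top a) (mem_top b)
  have hquot : ∀ (N : Subgroup G) [N.Normal], commutator G ≤ N →
      ∀ a b : G ⧸ N, a * b = b * a := by
    intro N _ hle a b
    induction a using QuotientGroup.induction_on with | _ a => ?_
    induction b using QuotientGroup.induction_on with | _ b => ?_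
    rw [← commutatorElement_eq_one_iff_mul_comm, ← QuotientGroup.mk'_apply, ← QuotientGroup.mk'_apply,
      ← map_commutatorElement, QuotientGroup.mk'_apply, QuotientGroup.eq_one_iff]
    exact hle (hcomm_mem a b)
  haveI hFn : (Cfsg.fittingSubgroup G).Normal := CfsgLib.Fitting.fitting_normal
  refine ⟨?_, hFn, ?_, hcyc, hsq, ?_, ?_⟩
  · exact CfsgLib.Supersolvable.of_cyclic_normal_quotient (commutator G)
      (isSupersolvable_of_comm _ rfl (hquot _ le_rfl))
  · intro _
    set W := centralizer ((commutator G : Subgroup G) : Set G) with hW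
    haveI : W.Normal := inferInstance
    have hGW : commutator G ≤ W :=
      CfsgLib.Supersolvable.commutator_le_centralizer_of_cyclic (commutator G)
    have hWnil : Group.IsNilpotent W := by
      refine ⟨2, (Subgroup.eq_top_iff' _).2 fun a => ?_⟩
      rw [Subgroup.mem_upperCentralSeries_succ_iff]
      intro b
      rw [Subgroup.upperCentralSeries_one, mem_center_iff]
      intro c
      exact Subtype.ext ((mem_centralizer_iff.1 c.2 _ (hcomm_mem (a : G) (b : G))).symm)
    have hWF : W ≤ Cfsg.fittingSubgroup G := CfsgLib.Fitting.le_fitting inferInstance hWnil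
    obtain ⟨v, hv⟩ := (Subgroup.isCyclic_iff_exists_zpowers_eq_top (commutator G)).1 hcyc
    have hWv : W = centralizer ({v} : Set G) := by
      refine le_antisymm (centralizer_le (Set.singleton_subset_iff.2 (hv ▸ mem_zpowers v))) ?_
      intro g hg
      rw [hW, mem_centralizer_iff]
      intro m hm
      rw [SetLike.mem_coe, ← hv, mem_zpowers_iff] at hm
      obtain ⟨i, rfl⟩ := hm
      exact ((show Commute g v from mem_centralizer_singleton_iff.1 hg).zpow_right i).eq.symm
    have hidx : Squarefree (Cfsg.fittingSubgroup G).index :=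
      (hWv ▸ h v : Squarefree W.index).squarefree_of_dvd (index_dvd_of_le hWF)
    refine ⟨?_, hidx⟩
    exact isCyclic_of_comm_squarefree (hquot _ (hGW.trans hWF)) (by rw [← index_eq_card]; exact hidx)
  · haveI := CfsgLib.Fitting.fitting_isNilpotent (G := G)
    refine (Subgroup.eq_top_iff' _).2 fun a => ?_
    rw [Subgroup.mem_upperCentralSeries_succ_iff]
    intro b
    rw [Subgroup.upperCentralSeries_one, mem_center_iff]
    intro c
    -- every element of `G' ∩ F` of prime order is central in `F`
    suffices hall : ∀ x : Cfsg.fittingSubgroup G, (x : G) ∈ commutator G → c * x = x * c from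
      hall ⁅a, b⁆ (hcomm_mem (a : G) (b : G))
    intro x hx
    -- induction on the order
    induction hn : orderOf x using Nat.strong_induction_on generalizing x with
    | _ n ih => ?_
    subst hn
    by_cases h1 : orderOf x = 1
    · rw [orderOf_eq_one_iff.1 h1, mul_one, one_mul]
    obtain ⟨r, hr, hrd⟩ := Nat.exists_prime_and_dvd h1
    set m := orderOf x / r with hm
    have hmr : r * m = orderOf x := Nat.mul_div_cancel' hrd
    have hxm : orderOf (x ^ m) = r := orderOf_pow_orderOf_div (orderOf_pos x).ne' hrd
    have hcop : r.Coprime m := by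
      rw [hr.coprime_iff_not_dvd]
      intro hd
      refine hr.ne_one (Nat.isUnit_iff.1 (hsq r ?_))
      calc r * r ∣ r * m := mul_dvd_mul_left r hd
        _ = orderOf x := hmr
        _ = orderOf (⟨(x : G), hx⟩ : commutator G) :=
          (Subgroup.orderOf_coe x).symm.trans (Subgroup.orderOf_mk (x : G) hx).symm
        _ ∣ _ := _root_.orderOf_dvd_natCard _
    have hc1 : c * x ^ m = x ^ m * c := by
      refine (central_of_normal_prime hr hxm (fun y => ?_) c).symm
      have hmem : (x : G) ^ m ∈ commutator G := pow_mem hx m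
      obtain ⟨v, hv⟩ := (Subgroup.isCyclic_iff_exists_zpowers_eq_top (commutator G)).1 hcyc
      obtain ⟨i, hi⟩ := mem_zpowers_iff.1 (hv.symm ▸ hmem : (x : G) ^ m ∈ zpowers v)
      obtain ⟨t, ht⟩ := mem_zpowers_iff.1 (hv.symm ▸ (inferInstance : (commutator G).Normal).conj_mem v
        (hv ▸ mem_zpowers v) (y : G) : (y : G) * v * (y : G)⁻¹ ∈ zpowers v)
      refine mem_zpowers_iff.2 ⟨t, Subtype.ext ?_⟩
      push_cast
      rw [← hi, ← zpow_mul, mul_comm, zpow_mul, ht, conj_zpow]
    have hc2 : c * x ^ r = x ^ r * c := by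
      refine ih _ ?_ (x ^ r) (by simpa using pow_mem hx r) rfl
      rw [orderOf_pow_of_dvd hr.ne_zero hrd]
      exact Nat.div_lt_self (orderOf_pos x) hr.one_lt
    have : x ∈ centralizer ({c} : Set (Cfsg.fittingSubgroup G)) :=
      CfsgLib.SquarefreeClass.SF.card_inf_commutator.mem_of_coprime_pow hcop
        (mem_centralizer_singleton_iff.2 hc2.symm) (mem_centralizer_singleton_iff.2 hc1.symm)
    exact (mem_centralizer_singleton_iff.1 this).symm
  · rw [eq_bot_iff, _root_.commutator_def (commutator G), commutator_le]
    intro a _ b _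
    rw [mem_bot, commutatorElement_eq_one_iff_mul_comm]
    exact Subtype.ext (hab a a.2 b b.2)

end Cfsg.Agent.S4130
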