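import Cfsg.Statements.S4137
import Cfsg.Agent.Lib.InvChar.CaminaChain
import Cfsg.Agent.S2202
import Cfsg.Agent.Lib.BrauerArtin.Main
import Cfsg.Agent.Lib.PF.OddOrder
import Cfsg.Agent.Lib.Transfer.NormalComplement

set_option autoImplicit false
set_option linter.style.haveILetI false
open Cfsg

namespace Cfsg.Agent.S4137

open CfsgLib.InvChar
open CfsgLib.Recog.ClassSizesPSLTwo (cs mem_center_iff_cs)

universe u

variable {G : Type u} [Group G] [Finite G]

theorem solvable_of_normal_of_odd (N : Subgroup G) [N.Normal] (hN : Group.IsSolvable N)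
    (hodd : Odd (Nat.card (G ⧸ N))) : Group.IsSolvable G := by
  haveI := CfsgLib.PF.oddSolvable (G ⧸ N) hodd
  exact Group.isSolvable_of_ker_le_range N.subtype (QuotientGroup.mk' N)
    (by rw [QuotientGroup.ker_mk', Subgroup.range_subtype])

/-- A proper inclusion of centralizers gives solvability. -/
theorem solvable_of_not_noInclusion (hZ : Subgroup.center G = ⊥)
    (h : Nat.card {n : ℕ | 1 < n ∧ ∃ x : G, (Subgroup.centralizer ({x} : Set G)).index = n} ≤ 3)
    (hni : ¬ RankThree.NoInclusion G) : Group.IsSolvable G := by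
  simp only [RankThree.NoInclusion, not_forall] at hni
  obtain ⟨w, x, hw1, hx1, hle, hne⟩ := hni
  set V : Set ℕ := {n : ℕ | 1 < n ∧ ∃ x : G, (Subgroup.centralizer ({x} : Set G)).index = n} with hV
  have hone : ∀ g : G, g ≠ 1 → 1 < cs g := fun g hg => by
    have h0 : cs g ≠ 0 := Subgroup.index_ne_zero_of_finite
    have h1 : cs g ≠ 1 := fun e => hg (Subgroup.mem_bot.1 (hZ ▸ mem_center_iff_cs.1 e))
    omega
  have hmem : ∀ g : G, g ≠ 1 → cs g ∈ V := fun g hg => ⟨hone g hg, g, rfl⟩
  have hfin : V.Finite := (Set.finite_range fun g : G => cs g).subset fun n ⟨_, g, hg⟩ => ⟨g, hg⟩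
  have hac : cs x ∣ cs w := Subgroup.index_dvd_of_le hle
  have hnac : cs x ≠ cs w := fun e => hne (RankThree.eq_of_le_of_cs hle e.symm)
  -- every prime misses a class size
  have hmiss : ∀ p : ℕ, p.Prime → p ∣ cs x → ∃ g : G, g ≠ 1 ∧ ¬ p ∣ cs g := fun p hp hpd => by
    haveI := Fact.mk hp
    obtain ⟨z, hz, -, hzp⟩ := CaminaChain.exists_sylow_central (G := G)
      (hpd.trans (Subgroup.index_dvd_card _))
    exact ⟨z, hz, hzp⟩
  obtain ⟨y, hy1, hya, hyc⟩ : ∃ y : G, y ≠ 1 ∧ cs y ≠ cs x ∧ cs y ≠ cs w := by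
    by_contra! hall
    obtain ⟨p, hp, hpd⟩ := Nat.exists_prime_and_dvd (hone x hx1).ne'
    obtain ⟨g, hg, hgp⟩ := hmiss p hp hpd
    by_cases he : cs g = cs x
    · exact hgp (he ▸ hpd)
    · exact hgp (hall g hg he ▸ hpd.trans hac)
  have hV3 : V = {cs x, cs y, cs w} := by
    refine (Set.eq_of_subset_of_ncard_le ?_ ?_ hfin).symm
    · rintro n (rfl | rfl | rfl) <;> apply hmem <;> assumption
    · rw [Set.ncard_eq_three.2 ⟨cs x, cs y, cs w, hya.symm, hnac, hyc, rfl⟩,
        ← Nat.card_coe_set_eq]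
      exact h
  have hval : ∀ g : G, g ≠ 1 → cs g = cs x ∨ cs g = cs y ∨ cs g = cs w := fun g hg => by
    simpa [hV3] using hmem g hg
  have hcop : Nat.Coprime (cs x) (cs y) := Nat.coprime_of_dvd fun p hp hpa hpb => by
    obtain ⟨g, hg, hgp⟩ := hmiss p hp hpa
    rcases hval g hg with e | e | e <;> rw [e] at hgp
    · exact hgp hpa
    · exact hgp hpb
    · exact hgp (hpa.trans hac)
  exact CaminaChain.isSolvable_of_inclusion
    ⟨hval, hone x hx1, hone y hy1, hcop, hac, hnac⟩ hx1 hy1 rfl rfl rfl hle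

/-- Without proper inclusions the centralizers of involutions are abelian. -/
theorem involution_centralizer (hmin : RankThree.NoInclusion G) (t : G) (ht : orderOf t = 2) :
    IsMulCommutative ↥(Subgroup.centralizer ({t} : Set G)) := by
  have ht1 : t ≠ 1 := fun e => by rw [e, orderOf_one] at ht; omega
  by_contra hna
  have hna' : ¬ ∀ a ∈ Subgroup.centralizer ({t} : Set G),
      ∀ b ∈ Subgroup.centralizer ({t} : Set G), a * b = b * a := fun hc =>
    hna ⟨⟨fun a b => Subtype.ext (hc a a.2 b b.2)⟩⟩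
  obtain ⟨p, hp, P, hP⟩ := RankThree.exists_sylow_of_noncomm hmin ht1 hna'
  refine RankThree.odd_of_noncomm hmin ht1 P hP (hP ▸ hna') ?_
  obtain ⟨n, hn⟩ := P.isPGroup'.exists_card_eq
  have h2 : 2 ∣ p ^ n := ht ▸ hn ▸
    Subgroup.orderOf_dvd_natCard _ (hP ▸ Subgroup.mem_centralizer_singleton_iff.2 rfl)
  exact ((Nat.prime_dvd_prime_iff_eq Nat.prime_two hp.out).1 (Nat.prime_two.dvd_of_dvd_pow h2)).symm

/-- Let G be a finite group with trivial centre and at most three distinct sizes of conjugacy classes other than 1. Then G is solvable or G is isomorphic to PSL₂(2^a) for some a ≥ 1. -/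
theorem result {G : Type*} [Group G] [Finite G]
    (hZ : Subgroup.center G = ⊥) (h : Nat.card {n : ℕ | 1 < n ∧ ∃ x : G, (Subgroup.centralizer ({x} : Set G)).index = n} ≤ 3) :
    Group.IsSolvable G ∨ ∃ a : ℕ, 0 < a ∧ Nonempty (G ≃* Matrix.ProjectiveSpecialLinearGroup (Fin 2) (GaloisField 2 a)) := by
  classical
  by_cases hmin : RankThree.NoInclusion G
  swap
  · exact Or.inl (solvable_of_not_noInclusion hZ h hmin)
  rcases Nat.even_or_odd (Nat.card G) with heven | hodd
  swap
  · exact Or.inl (CfsgLib.PF.oddSolvable G hodd)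
  haveI : Fact (Nat.Prime 2) := ⟨Nat.prime_two⟩
  obtain ⟨P⟩ : Nonempty (Sylow 2 G) := inferInstance
  rcases Cfsg.Agent.S2202.result heven (involution_centralizer hmin) with hcyc | hnorm |
    ⟨F, iF, iF', A, iA, iA', hF, -, ⟨e⟩⟩
  · left
    haveI := hcyc P
    have hmf : (Nat.card G).minFac = 2 := (Nat.minFac_eq_two_iff _).mpr (even_iff_two_dvd.1 heven)
    have hle := IsCyclic.normalizer_le_centralizer hmf (hcyc P)
    set N := (MonoidHom.transferSylow P hle).ker
    have hN := MonoidHom.ker_transferSylow_isComplement' P hle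
    have hNodd : Odd (Nat.card N) := by
      rw [← hN.index_eq_card]
      exact Nat.not_even_iff_odd.1 fun hd => P.not_dvd_index (even_iff_two_dvd.1 hd)
    haveI := CfsgLib.PF.oddSolvable N hNodd
    have hidx : Nat.card (G ⧸ N) = Nat.card (P : Subgroup G) := hN.symm.index_eq_card
    haveI : Group.IsNilpotent (G ⧸ N) := by
      obtain ⟨n, hn⟩ := P.isPGroup'.exists_card_eq
      exact (IsPGroup.of_card (p := 2) (hidx.trans hn)).isNilpotent
    exact Group.isSolvable_of_ker_le_range N.subtype (QuotientGroup.mk' N)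
      (by rw [QuotientGroup.ker_mk', Subgroup.range_subtype])
  · left
    haveI := hnorm P
    haveI := P.isPGroup'.isNilpotent
    exact solvable_of_normal_of_odd (P : Subgroup G) inferInstance
      (Nat.not_even_iff_odd.1 fun hd => P.not_dvd_index (even_iff_two_dvd.1 hd))
  · right
    haveI : Subsingleton A := by
      refine ⟨fun a b => ?_⟩
      have key : ∀ a : A, a = 1 := fun a => by
        have hc : e.symm (1, a) ∈ Subgroup.center G := Subgroup.mem_center_iff.2 fun g => e.injective (by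
          rw [map_mul, map_mul, e.apply_symm_apply]
          exact Prod.ext (by simp) (mul_comm _ _))
        rw [hZ, Subgroup.mem_bot, map_eq_one_iff e.symm e.symm.injective] at hc
        exact congrArg Prod.snd hc
      rw [key a, key b]
    haveI := hF
    obtain ⟨k, -, hk⟩ := FiniteField.card F 2
    haveI : Fintype (GaloisField 2 k) := Fintype.ofFinite _
    have hK : Fintype.card (GaloisField 2 k) = 2 ^ (k : ℕ) := by
      rw [← Nat.card_eq_fintype_card]; exact GaloisField.card 2 k k.pos.ne'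
    let φ : F ≃+* GaloisField 2 k := FiniteField.ringEquivOfCardEq (hk.trans hK.symm)
    obtain ⟨ψ⟩ := CfsgLib.BrauerArtin.exists_psl_equiv_sl (GaloisField 2 k) k.pos hK
    let e1 : G ≃* Matrix.SpecialLinearGroup (Fin 2) F :=
      MulEquiv.ofBijective ((MonoidHom.fst _ A).comp e.toMonoidHom)
        ⟨fun a b hab => e.injective (Prod.ext hab (Subsingleton.elim _ _)),
          fun s => ⟨e.symm (s, 1), by simp⟩⟩
    let e2 : Matrix.SpecialLinearGroup (Fin 2) F ≃* Matrix.SpecialLinearGroup (Fin 2) (GaloisField 2 k) :=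
      MonoidHom.toMulEquiv (Matrix.SpecialLinearGroup.map φ.toRingHom)
        (Matrix.SpecialLinearGroup.map φ.symm.toRingHom)
        (MonoidHom.ext fun M => Subtype.ext (Matrix.ext fun i j => by simp))
        (MonoidHom.ext fun M => Subtype.ext (Matrix.ext fun i j => by simp))
    exact ⟨k, k.pos, ⟨(e1.trans e2).trans ψ.symm⟩⟩

end Cfsg.Agent.S4137
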