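import Cfsg.Statements.S4139
import Cfsg.Agent.Lib.ClassSize.SquarefreeTools
import Cfsg.Agent.Lib.Structure81.TIHall
import Cfsg.Agent.Lib.PCore.Basic
import Cfsg.Agent.Lib.Solvable.NilpotentSubgroups
import Cfsg.Agent.Lib.ClassSize.MinClass

/-!
A group with the class sizes of a nilpotent group is nilpotent (Cossey–Hawkes–Mann).

Counting elements with class size prime to `p` gives `Z(P) ≤ Z(G)`; then every element with class
size a power of `p` lies in `O_p(G) Z(G)`, and counting those gives `O_p(G) = P`.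
-/

set_option autoImplicit false
set_option linter.style.haveILetI false
open Cfsg

namespace Cfsg.Agent.S4139

open Subgroup MulAction
open scoped Pointwise
open scoped commutatorElement

universe u v

/-- The class size of `x`. -/
noncomputable def idx {G : Type*} [Group G] (x : G) : ℕ :=
  (centralizer ({x} : Set G)).index

variable {G : Type*} [Group G] [Finite G]

omit [Finite G] in
theorem card_conjugatesOf (x : G) : Nat.card (conjugatesOf x) = idx x := by
  rw [idx, centralizer_eq_comap_stabilizer]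
  refine Eq.trans ?_ (index_comap_of_surjective (f := (ConjAct.toConjAct (G := G)).toMonoidHom) _
    (MulEquiv.surjective ConjAct.toConjAct)).symm
  rw [index_stabilizer, ConjAct.orbit_eq_carrier_conjClasses, ← Nat.card_coe_set_eq]
  rfl

theorem card_carrier (x : G) : Nat.card (ConjClasses.mk x).carrier = idx x :=
  card_conjugatesOf x

theorem card_fiber {K : Type*} [Group K] (C : ConjClasses K) :
    Nat.card {x : K // ConjClasses.mk x = C} = Nat.card C.carrier :=
  Nat.card_congr (Equiv.subtypeEquivRight fun _ => ConjClasses.mem_carrier_iff_mk_eq.symm)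

/-- Groups with equally many classes of each size admit a bijection respecting class sizes. -/
theorem exists_equiv {H : Type*} [Group H] [Finite H]
    (h : ∀ k : ℕ, Nat.card {C : ConjClasses G // Nat.card C.carrier = k} =
      Nat.card {C : ConjClasses H // Nat.card C.carrier = k}) :
    ∃ ψ : G ≃ H, ∀ x : G, idx (ψ x) = idx x := by
  let e : ConjClasses G ≃ ConjClasses H :=
    Equiv.ofFiberEquiv (f := fun C : ConjClasses G => Nat.card C.carrier)
      (g := fun C : ConjClasses H => Nat.card C.carrier)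
      (fun k => (Finite.card_eq.mp (h k)).some)
  have he : ∀ C, Nat.card (e C).carrier = Nat.card C.carrier :=
    fun C => Equiv.ofFiberEquiv_map (f := fun C : ConjClasses G => Nat.card C.carrier)
      (g := fun C : ConjClasses H => Nat.card C.carrier) (fun k => (Finite.card_eq.mp (h k)).some) C
  let fe : ∀ C, {x : G // ConjClasses.mk x = C} ≃ {y : H // ConjClasses.mk y = e C} := fun C =>
    (Finite.card_eq.mp ((card_fiber C).trans ((he C).symm.trans (card_fiber (e C)).symm))).some
  let ψ : G ≃ H := (Equiv.sigmaFiberEquiv (ConjClasses.mk (α := G))).symm.trans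
    ((Equiv.sigmaCongr e fe).trans (Equiv.sigmaFiberEquiv (ConjClasses.mk (α := H))))
  refine ⟨ψ, fun x => ?_⟩
  have hmk : ConjClasses.mk (ψ x) = e (ConjClasses.mk x) := (fe _ ⟨x, rfl⟩).2
  rw [← card_carrier, ← card_carrier, hmk, he]

/-- The counting form: class-size predicates select equally many elements. -/
theorem card_eq_of_equiv {H : Type*} [Group H] {ψ : G ≃ H} (hψ : ∀ x : G, idx (ψ x) = idx x)
    (F : ℕ → Prop) : Nat.card {x : G // F (idx x)} = Nat.card {y : H // F (idx y)} :=
  Nat.card_congr (ψ.subtypeEquiv fun x => by rw [hψ])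

theorem pow_factorization_card_center_le {p : ℕ} [Fact p.Prime] (P : Sylow p G) :
    Nat.card (center G ⊓ (P : Subgroup G) : Subgroup G) =
      p ^ (Nat.card (center G)).factorization p := by
  have hcard : Nat.card (center G ⊓ (P : Subgroup G) : Subgroup G) *
      (P : Subgroup G).relIndex (center G) = Nat.card (center G) := by
    have h3 := relIndex_mul_relIndex (⊥ : Subgroup G) (center G ⊓ (P : Subgroup G)) (center G)
      bot_le inf_le_left
    simp only [relIndex_bot_left, inf_relIndex_left] at h3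
    exact h3
  obtain ⟨k, hk⟩ := IsPGroup.iff_card.mp
    (P.2.to_le (inf_le_right : center G ⊓ (P : Subgroup G) ≤ (P : Subgroup G)))
  have hnd : ¬ p ∣ (P : Subgroup G).relIndex (center G) := fun h =>
    P.not_dvd_index (h.trans (CfsgLib.TIHall.relIndex_dvd_index _ _))
  rw [hk] at hcard ⊢
  congr 1
  rw [← hcard, Nat.factorization_mul (pow_ne_zero _ (Fact.out (p := p.Prime)).ne_zero)
    (by rw [relIndex]; exact index_ne_zero_of_finite), Finsupp.add_apply, Nat.Prime.factorization_pow Fact.out,
    Finsupp.single_eq_same, Nat.factorization_eq_zero_of_not_dvd hnd, add_zero]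

/-- In a nilpotent group the elements with class size prime to `p`, resp. a power of `p`. -/
theorem nilpotent_counts {H : Type*} [Group H] [Finite H] (hH : Group.IsNilpotent H) (p : ℕ)
    [hp : Fact p.Prime] :
    Nat.card {x : H // ¬ p ∣ idx x} * p ^ (Nat.card H).factorization p =
        Nat.card H * p ^ (Nat.card (center H)).factorization p ∧
      Nat.card {x : H // ∃ a, idx x = p ^ a} * p ^ (Nat.card (center H)).factorization p =
        Nat.card (center H) * p ^ (Nat.card H).factorization p := by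
  obtain ⟨P⟩ : Nonempty (Sylow p H) := inferInstance
  haveI hPn : (P : Subgroup H).Normal :=
    Sylow.normal_of_normalizerCondition normalizerCondition_of_isNilpotent P
  obtain ⟨C, hC⟩ := exists_left_complement'_of_coprime (N := (P : Subgroup H)) P.card_coprime_index
    |>.imp fun C hC => hC
  have hCcard : Nat.card C = (P : Subgroup H).index := (hC.index_eq_card).symm
  have hCp : ¬ p ∣ Nat.card C := hCcard ▸ P.not_dvd_index
  -- elements of order prime to `p` lie in `C`, and `C` is centralised by `P`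
  have hcomm : ∀ a ∈ (P : Subgroup H), ∀ c ∈ C, a * c = c * a := by
    intro a ha c hc
    refine (CfsgLib.NilpotentSubgroups.commute_of_orderOf_coprime (hN := hH) ?_).eq
    obtain ⟨k, hk⟩ := P.2 ⟨a, ha⟩
    refine Nat.Coprime.coprime_dvd_left (orderOf_dvd_of_pow_eq_one (n := p ^ k)
      (by simpa using congrArg Subtype.val hk)) ?_
    exact Nat.Coprime.coprime_dvd_right (C.orderOf_dvd_natCard hc)
      ((hp.out.coprime_iff_not_dvd.mpr hCp).pow_left k)
  have hsplit : ∀ x : H, ∃ a ∈ (P : Subgroup H), ∃ c ∈ C, a * c = x := by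
    intro x
    have h1 : x ∈ ((C : Set H) * ((P : Subgroup H) : Set H)) := by
      rw [hC.mul_eq]; trivial
    obtain ⟨c, hc, a, ha, rfl⟩ := h1
    exact ⟨a, ha, c, hc, hcomm a ha c hc⟩
  have hcen : ∀ a ∈ (P : Subgroup H), ∀ c ∈ C, ∀ w, a * c * w = w * (a * c) →
      (w ∈ (P : Subgroup H) → w * a = a * w) ∧ (w ∈ C → w * c = c * w) := by
    intro a ha c hc w hw
    refine ⟨fun hwP => ?_, fun hwC => ?_⟩
    · rw [mul_assoc, ← hcomm w hwP c hc, ← mul_assoc, ← mul_assoc] at hw
      exact (mul_right_cancel hw).symm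
    · rw [← mul_assoc, ← hcomm a ha w hwC, mul_assoc, mul_assoc] at hw
      exact (mul_left_cancel hw).symm
  have hzen : ∀ a : H, (∀ b ∈ (P : Subgroup H), b * a = a * b) →
      (∀ c ∈ C, c * a = a * c) → a ∈ center H := by
    intro a h1 h2
    rw [mem_center_iff]
    intro g
    obtain ⟨b, hb, c, hc, rfl⟩ := hsplit g
    rw [mul_assoc, h2 c hc, ← mul_assoc, h1 b hb, mul_assoc]
  obtain ⟨Zp, hZp⟩ : ∃ Zp : Subgroup H, Zp = center H ⊓ (P : Subgroup H) := ⟨_, rfl⟩
  have hZpc : Nat.card Zp = p ^ (Nat.card (center H)).factorization p :=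
    hZp ▸ pow_factorization_card_center_le P
  have hmulP : ∀ A B : Subgroup H, A ≤ (P : Subgroup H) → B ≤ C →
      A ⊓ B = ⊥ ∧ Nat.card (B ⊔ A : Subgroup H) = Nat.card B * Nat.card A := by
    intro A B hA hB
    have hd : A ⊓ B = ⊥ := by
      refine inf_eq_bot_of_coprime ?_
      obtain ⟨k, hk⟩ := IsPGroup.iff_card.mp (P.2.to_le hA)
      rw [hk]
      exact ((hp.out.coprime_iff_not_dvd.mpr hCp).pow_left k).coprime_dvd_right (card_dvd_of_le hB)
    refine ⟨hd, CfsgLib.Coprime.card_sup_of_disjoint (fun b hb => ?_) hd⟩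
    rw [mem_normalizer_iff]
    intro a
    constructor
    · intro ha
      rwa [← hcomm a (hA ha) b (hB hb), mul_inv_cancel_right]
    · intro ha
      have h1 := hcomm _ (hA ha) b (hB hb)
      rw [inv_mul_cancel_right] at h1
      exact (mul_left_cancel h1).symm ▸ ha
  have hPc : Nat.card (P : Subgroup H) = p ^ (Nat.card H).factorization p := P.card_eq_multiplicity
  have hHc : Nat.card C * Nat.card (P : Subgroup H) = Nat.card H := hC.card_mul
  refine ⟨?_, ?_⟩
  · -- class size prime to `p`: `Z_p C`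
    have hset : ∀ x, ¬ p ∣ idx x ↔ x ∈ C ⊔ Zp := by
      intro x
      constructor
      · intro hx
        obtain ⟨a, ha, c, hc, rfl⟩ := hsplit x
        have hPC : (P : Subgroup H) ≤ centralizer ({a * c} : Set H) := by
          rw [← relIndex_eq_one]
          obtain ⟨k, hk⟩ := IsPGroup.iff_card.mp P.2
          refine Nat.eq_one_of_dvd_coprimes (a := p ^ k)
            ((hp.out.coprime_iff_not_dvd.mpr hx).pow_left k) (hk ▸ relIndex_dvd_card _ _)
            (CfsgLib.TIHall.relIndex_dvd_index _ _)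
        refine mul_mem (mem_sup_right (hZp.ge ⟨?_, ha⟩)) (mem_sup_left hc)
        refine hzen a (fun b hb => ?_) (fun d hd => (hcomm a ha d hd).symm)
        exact (hcen a ha c hc b (mem_centralizer_singleton_iff.mp (hPC hb)).symm).1 hb
      · intro hx hd
        have hle : C ⊔ Zp ≤ centralizer ((P : Subgroup H) : Set H) := by
          refine sup_le (fun c hc => ?_) (fun z hz => ?_)
          · exact mem_centralizer_iff.mpr fun b hb => hcomm b hb c hc
          · exact mem_centralizer_iff.mpr fun b _ => mem_center_iff.mp (hZp.le hz).1 b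
        have hPC : (P : Subgroup H) ≤ centralizer ({x} : Set H) := fun b hb =>
          mem_centralizer_singleton_iff.mpr (mem_centralizer_iff.mp (hle hx) b hb)
        exact P.not_dvd_index (hd.trans (index_dvd_of_le hPC))
    have hcard := (hmulP Zp C (hZp.le.trans inf_le_right) le_rfl).2
    rw [Nat.card_congr (Equiv.subtypeEquivRight hset), hcard, hZpc, ← hPc]
    generalize p ^ (Nat.card (center H)).factorization p = z
    rw [← hHc]
    ring
  · -- class size a power of `p`: `P (C ∩ Z)`
    have hset : ∀ x, (∃ a, idx x = p ^ a) ↔ x ∈ (C ⊓ center H) ⊔ (P : Subgroup H) := by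
      intro x
      constructor
      · rintro ⟨e, he⟩
        obtain ⟨a, ha, c, hc, rfl⟩ := hsplit x
        have hCC : C ≤ centralizer ({a * c} : Set H) := by
          rw [← relIndex_eq_one]
          haveI : C.Normal := ⟨fun d hd g => by
            obtain ⟨b, hb, c', hc', rfl⟩ := hsplit g
            have : b * c' * d * (b * c')⁻¹ = c' * d * c'⁻¹ := by
              have h1 : b * (c' * d * c'⁻¹) = c' * d * c'⁻¹ * b :=
                hcomm b hb _ (mul_mem (mul_mem hc' hd) (inv_mem hc'))
              calc b * c' * d * (b * c')⁻¹ = b * (c' * d * c'⁻¹) * b⁻¹ := by group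
                _ = _ := by rw [h1, mul_inv_cancel_right]
            exact this ▸ mul_mem (mul_mem hc' hd) (inv_mem hc')⟩
          refine Nat.eq_one_of_dvd_coprimes (a := Nat.card C)
            ((hp.out.coprime_iff_not_dvd.mpr hCp).pow_left e).symm (relIndex_dvd_card _ _)
            (he ▸ CfsgLib.TIHall.relIndex_dvd_index _ _)
        refine mul_mem (mem_sup_right ha) (mem_sup_left ⟨hc, ?_⟩)
        refine hzen c (fun b hb => hcomm b hb c hc) fun d hd => ?_
        exact (hcen a ha c hc d (mem_centralizer_singleton_iff.mp (hCC hd)).symm).2 hd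
      · intro hx
        have hle : (C ⊓ center H) ⊔ (P : Subgroup H) ≤ centralizer (C : Set H) := by
          refine sup_le (fun z hz => ?_) (fun b hb => ?_)
          · exact mem_centralizer_iff.mpr fun c _ => mem_center_iff.mp hz.2 c
          · exact mem_centralizer_iff.mpr fun c hc => (hcomm b hb c hc).symm
        have hCC : C ≤ centralizer ({x} : Set H) := fun b hb =>
          mem_centralizer_singleton_iff.mpr (mem_centralizer_iff.mp (hle hx) b hb)
        have hd := index_dvd_of_le hCC
        have hCi : C.index = Nat.card (P : Subgroup H) := hC.symm.index_eq_card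
        rw [hCi, hPc] at hd
        obtain ⟨a, -, ha⟩ := (Nat.dvd_prime_pow hp.out).mp hd
        exact ⟨a, ha⟩
    have hcard := (hmulP (P : Subgroup H) (C ⊓ center H) le_rfl inf_le_left).2
    -- `Z = Z_p × (C ∩ Z)`
    have hZ : (C ⊓ center H) ⊔ Zp = center H := by
      refine le_antisymm (sup_le inf_le_right (hZp.le.trans inf_le_left)) fun z hz => ?_
      obtain ⟨a, ha, c, hc, rfl⟩ := hsplit z
      have hz' := mem_center_iff.mp hz
      have haZ : a ∈ center H := hzen a
        (fun b hb => (hcen a ha c hc b (hz' b).symm).1 hb) fun d hd => (hcomm a ha d hd).symm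
      have hcZ : c ∈ center H := by simpa using mul_mem (inv_mem haZ) hz
      exact mul_mem (mem_sup_right (hZp.ge ⟨haZ, ha⟩)) (mem_sup_left ⟨hc, hcZ⟩)
    have hcardZ := (hmulP Zp (C ⊓ center H) (hZp.le.trans inf_le_right) inf_le_left).2
    rw [hZ, hZpc] at hcardZ
    rw [Nat.card_congr (Equiv.subtypeEquivRight hset), hcard, ← hPc]
    generalize p ^ (Nat.card (center H)).factorization p = z at hcardZ ⊢
    rw [hcardZ]
    ring

/-- An element of class size prime to `p` moved only by central `p`-elements is fixed. -/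
theorem commute_of_commutator_central {p : ℕ} [hp : Fact p.Prime] {x u : G} (hx : ¬ p ∣ idx x)
    (hz : u * x * u⁻¹ * x⁻¹ ∈ center G) (hzp : ∃ k, (u * x * u⁻¹ * x⁻¹) ^ p ^ k = 1) :
    u * x = x * u := by
  obtain ⟨z, hzdef⟩ : ∃ z, z = u * x * u⁻¹ * x⁻¹ := ⟨_, rfl⟩
  rw [← hzdef] at hz hzp
  by_contra hne
  have hz1 : z ≠ 1 := fun h => hne (by
    rw [hzdef, mul_inv_eq_one, mul_inv_eq_iff_eq_mul] at h
    exact h)
  have hzc := mem_center_iff.mp hz
  have hux : IsConj x (z * x) := isConj_iff.mpr ⟨u, by rw [hzdef]; group⟩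
  have hmem : ∀ (g : zpowers z) (y : conjugatesOf x), (g : G) * y.1 ∈ conjugatesOf x := by
    rintro ⟨g, hg⟩ ⟨y, hy⟩
    obtain ⟨j, rfl⟩ := mem_zpowers_iff.mp hg
    change IsConj x (z ^ j * y)
    have hcomm : ∀ (w : G) (a b : G), IsConj a b → w ∈ center G → IsConj (w * a) (w * b) := by
      intro w a b hab hw
      obtain ⟨c, rfl⟩ := isConj_iff.mp hab
      exact isConj_iff.mpr ⟨c, by rw [← mul_assoc c, mem_center_iff.mp hw c]; group⟩
    have hj : IsConj x (z ^ j * x) := by
      clear hg
      induction j with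
      | zero => simpa using IsConj.refl x
      | succ n ih =>
        refine ih.trans ?_
        have h1 := hcomm (z ^ (n : ℤ)) _ _ hux (zpow_mem hz _)
        rwa [← mul_assoc, ← zpow_add_one] at h1
      | pred n ih =>
        refine ih.trans ?_
        have h1 := (hcomm (z ^ (-(n : ℤ) - 1)) _ _ hux (zpow_mem hz _)).symm
        rwa [← mul_assoc, ← zpow_add_one, sub_add_cancel] at h1
    exact hj.trans (hcomm _ _ _ hy (zpow_mem hz _))
  letI : MulAction (zpowers z) (conjugatesOf x) :=
    { smul := fun g y => ⟨(g : G) * y.1, hmem g y⟩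
      one_smul := fun y => Subtype.ext (show (1 : G) * y.1 = y.1 from one_mul _)
      mul_smul := fun g g' y => Subtype.ext (mul_assoc (g : G) (g' : G) y.1) }
  obtain ⟨k, hk⟩ := hzp
  obtain ⟨i, -, hi⟩ := (Nat.dvd_prime_pow hp.out).mp (orderOf_dvd_of_pow_eq_one hk)
  have hpz : IsPGroup p (zpowers z) := IsPGroup.of_card (n := i) (by rw [Nat.card_zpowers, hi])
  have h1 := hpz.card_modEq_card_fixedPoints (conjugatesOf x)
  have h2 : IsEmpty (fixedPoints (zpowers z) (conjugatesOf x)) := ⟨fun y => by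
    have h3 : z * (y.1 : conjugatesOf x).1 = (y.1 : conjugatesOf x).1 :=
      congrArg Subtype.val (y.2 ⟨z, mem_zpowers z⟩)
    exact hz1 (mul_eq_right.mp h3)⟩
  rw [Nat.card_of_isEmpty (α := fixedPoints (zpowers z) (conjugatesOf x)), card_conjugatesOf] at h1
  exact hx (Nat.modEq_zero_iff_dvd.mp h1)

/-- If elements with class size prime to `p` are counted as in a nilpotent group, `Z(P)` is
central. -/
theorem center_sylow_le (p : ℕ) [hp : Fact p.Prime] (P : Sylow p G)
    (hcnt : Nat.card {x : G // ¬ p ∣ idx x} * p ^ (Nat.card G).factorization p =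
        Nat.card G * p ^ (Nat.card (center G)).factorization p) :
    (P : Subgroup G) ⊓ centralizer ((P : Subgroup G) : Set G) ≤ center G := by
  obtain ⟨Zp, hZp⟩ : ∃ Zp : Subgroup G, Zp = center G ⊓ (P : Subgroup G) := ⟨_, rfl⟩
  have hZc : Zp ≤ center G := hZp.le.trans inf_le_left
  haveI : Zp.Normal := ⟨fun z hz g => by
    rw [mem_center_iff.mp (hZc hz) g, mul_inv_cancel_right]; exact hz⟩
  have hidxmul : ∀ (x z : G), z ∈ Zp → idx (x * z) = idx x := by
    intro x z hz
    have hzc := mem_center_iff.mp (hZc hz)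
    rw [idx, idx]
    congr 1
    ext w
    rw [mem_centralizer_singleton_iff, mem_centralizer_singleton_iff, ← mul_assoc, mul_assoc x z w,
      ← hzc w, ← mul_assoc, mul_left_inj]
  let X' : Set (G ⧸ Zp) := QuotientGroup.mk '' {x : G | ¬ p ∣ idx x}
  have hpre : QuotientGroup.mk ⁻¹' X' = {x : G | ¬ p ∣ idx x} := by
    ext x
    constructor
    · rintro ⟨y, hy, e⟩
      have h1 := QuotientGroup.eq.mp e
      have : y * (y⁻¹ * x) = x := mul_inv_cancel_left y x
      rw [Set.mem_setOf_eq] at hy ⊢
      rwa [← this, hidxmul y _ h1]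
    · exact fun hx => ⟨x, hx, rfl⟩
  have hX'c : Nat.card {x : G // ¬ p ∣ idx x} = Nat.card Zp * Nat.card X' := by
    rw [← Nat.card_prod, ← Nat.card_congr (QuotientGroup.preimageMkEquivSubgroupProdSet Zp X'), hpre]
    rfl
  -- `|X'|` is the `p'`-part of `|G|`
  have hX'p : ¬ p ∣ Nat.card X' := by
    rw [hX'c, show Nat.card Zp = p ^ (Nat.card (center G)).factorization p from
      hZp ▸ pow_factorization_card_center_le P] at hcnt
    have h2 : Nat.card X' * p ^ (Nat.card G).factorization p = Nat.card G :=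
      Nat.eq_of_mul_eq_mul_left (pow_pos hp.out.pos ((Nat.card (center G)).factorization p))
        (by linear_combination hcnt)
    intro hd
    apply Nat.pow_succ_factorization_not_dvd Nat.card_pos.ne' hp.out (n := Nat.card G)
    rw [pow_succ']
    exact (Nat.mul_dvd_mul_right hd _).trans (dvd_of_eq h2)
  -- conjugation action of `P` on `X'`
  have hidxconj : ∀ (u x : G), idx (u * x * u⁻¹) = idx x := by
    intro u x
    rw [← card_conjugatesOf, ← card_conjugatesOf]
    congr 1
    exact congrArg _ (IsConj.conjugatesOf_eq (isConj_iff.mpr ⟨u, rfl⟩)).symm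
  have hmem : ∀ (u : (P : Subgroup G)) (q : X'),
      ((u : G) : G ⧸ Zp) * q.1 * ((u : G) : G ⧸ Zp)⁻¹ ∈ X' := by
    rintro u ⟨q, y, hy, rfl⟩
    refine ⟨(u : G) * y * (u : G)⁻¹, ?_, rfl⟩
    rw [Set.mem_setOf_eq] at hy ⊢
    rwa [hidxconj]
  letI : MulAction (P : Subgroup G) X' :=
    { smul := fun u q => ⟨_, hmem u q⟩
      one_smul := fun q => Subtype.ext (show ((1 : G) : G ⧸ Zp) * q.1 * ((1 : G) : G ⧸ Zp)⁻¹ = q.1 by
        simp)
      mul_smul := fun u w q => Subtype.ext (show ((u * w : G) : G ⧸ Zp) * q.1 *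
          ((u * w : G) : G ⧸ Zp)⁻¹ = (u : G) * ((w : G) * q.1 * ((w : G) : G ⧸ Zp)⁻¹) *
          ((u : G) : G ⧸ Zp)⁻¹ by
        rw [QuotientGroup.mk_mul, mul_inv_rev]; group) }
  obtain ⟨L, hL⟩ : ∃ L : Subgroup G, L = centralizer ((P : Subgroup G) : Set G) := ⟨_, rfl⟩
  have hfix : ∀ q : G ⧸ Zp, (∃ h : q ∈ X', ⟨q, h⟩ ∈ fixedPoints (P : Subgroup G) X') ↔
      q ∈ L.map (QuotientGroup.mk' Zp) := by
    intro q
    constructor
    · rintro ⟨⟨x, hx, rfl⟩, hf⟩
      refine ⟨x, hL.ge (mem_centralizer_iff.mpr fun u hu => ?_), rfl⟩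
      have h1 : ((u : G) : G ⧸ Zp) * (x : G ⧸ Zp) * ((u : G) : G ⧸ Zp)⁻¹ = (x : G ⧸ Zp) :=
        congrArg Subtype.val (hf ⟨u, hu⟩)
      have h2 : u * x * u⁻¹ * x⁻¹ ∈ Zp := by
        rw [← QuotientGroup.eq_one_iff, QuotientGroup.mk_mul, QuotientGroup.mk_mul,
          QuotientGroup.mk_mul, QuotientGroup.mk_inv, QuotientGroup.mk_inv, h1, mul_inv_cancel]
      obtain ⟨k, hk⟩ := P.2 ⟨_, (hZp.le h2).2⟩
      exact commute_of_commutator_central hx (hZc h2)
        ⟨k, by simpa using congrArg Subtype.val hk⟩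
    · rintro ⟨x, hx, rfl⟩
      have hx' : ∀ u ∈ (P : Subgroup G), u * x = x * u := fun u hu =>
        mem_centralizer_iff.mp (hL.le hx) u hu
      have hxX : ¬ p ∣ idx x := fun hd => P.not_dvd_index (hd.trans (index_dvd_of_le fun u hu =>
        mem_centralizer_singleton_iff.mpr (hx' u hu)))
      refine ⟨⟨x, hxX, rfl⟩, fun u => Subtype.ext ?_⟩
      change ((u : G) : G ⧸ Zp) * (x : G ⧸ Zp) * ((u : G) : G ⧸ Zp)⁻¹ = (x : G ⧸ Zp)
      rw [← QuotientGroup.mk_mul, hx' _ u.2, QuotientGroup.mk_mul, mul_inv_cancel_right]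
  have hmod := P.2.card_modEq_card_fixedPoints X'
  have hcongr : Nat.card (fixedPoints (P : Subgroup G) X') = Nat.card (L.map (QuotientGroup.mk' Zp)) :=
    Nat.card_congr
      { toFun := fun q => ⟨q.1.1, (hfix _).mp ⟨q.1.2, q.2⟩⟩
        invFun := fun q => ⟨⟨q.1, ((hfix _).mpr q.2).1⟩, ((hfix _).mpr q.2).2⟩
        left_inv := fun q => rfl
        right_inv := fun q => rfl }
  have hLp : ¬ p ∣ Nat.card (L.map (QuotientGroup.mk' Zp)) := by
    intro hd
    apply hX'p
    rw [← hcongr, ← Nat.modEq_zero_iff_dvd] at hd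
    exact Nat.modEq_zero_iff_dvd.mp (hmod.trans hd)
  -- a `p`-element of `L` is trivial modulo `Zp`
  intro z hz
  obtain ⟨k, hk⟩ := P.2 ⟨z, hz.1⟩
  refine hZc ((QuotientGroup.eq_one_iff z).mp (orderOf_eq_one_iff.mp ?_))
  refine Nat.eq_one_of_dvd_coprimes ((hp.out.coprime_iff_not_dvd.mpr hLp).pow_left k)
    (orderOf_dvd_of_pow_eq_one ?_) ((L.map (QuotientGroup.mk' Zp)).orderOf_dvd_natCard ?_)
  · rw [← QuotientGroup.mk_pow, show z ^ p ^ k = 1 by simpa using congrArg Subtype.val hk,
      QuotientGroup.mk_one]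
  · exact mem_map_of_mem _ (hL.ge hz.2)

omit [Finite G] in
theorem centralizer_le_of_mem_zpowers {x y : G} (hy : y ∈ zpowers x) :
    centralizer ({x} : Set G) ≤ centralizer ({y} : Set G) := by
  intro c hc
  rw [mem_centralizer_singleton_iff] at hc ⊢
  obtain ⟨i, rfl⟩ := mem_zpowers_iff.mp hy
  exact ((show Commute c x from hc).zpow_right i).eq

/-- A `p`-element with class size a power of `p` lies in `O_p(G)`. -/
theorem mem_pCore_of_index {p : ℕ} [hp : Fact p.Prime] {u : G} (hu : ∃ k, u ^ p ^ k = 1)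
    {a : ℕ} (ha : idx u = p ^ a) : u ∈ Cfsg.pCore p G := by
  obtain ⟨k, hk⟩ := hu
  obtain ⟨i, -, hi⟩ := (Nat.dvd_prime_pow hp.out).mp (orderOf_dvd_of_pow_eq_one hk)
  obtain ⟨P, hP⟩ := (IsPGroup.of_card (n := i) (by rw [Nat.card_zpowers, hi]) :
    IsPGroup p (zpowers u)).exists_le_sylow
  obtain ⟨C, hC⟩ : ∃ C : Subgroup G, C = centralizer ({u} : Set G) := ⟨_, rfl⟩
  rw [idx, ← hC] at ha
  -- `P` is transitive on `G/C`
  have hle : C.index ≤ C.relIndex (P : Subgroup G) := by
    have h1 := relIndex_mul_relIndex (⊥ : Subgroup G) (C ⊓ (P : Subgroup G)) (P : Subgroup G)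
      bot_le inf_le_right
    simp only [relIndex_bot_left, inf_relIndex_right] at h1
    obtain ⟨j, hj⟩ := IsPGroup.iff_card.mp
      (P.2.to_le (inf_le_right : C ⊓ (P : Subgroup G) ≤ (P : Subgroup G)))
    have h3 : p ^ (j + a) ∣ Nat.card G := by
      rw [← C.card_mul_index, ha, pow_add]
      exact Nat.mul_dvd_mul_right (hj ▸ card_dvd_of_le inf_le_left) _
    have h4 : j + a ≤ (Nat.card G).factorization p :=
      (hp.out.pow_dvd_iff_le_factorization Nat.card_pos.ne').mp h3
    rw [hj, P.card_eq_multiplicity] at h1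
    refine Nat.le_of_mul_le_mul_left ?_ (pow_pos hp.out.pos j)
    rw [h1, ha, ← pow_add]
    exact Nat.pow_le_pow_right hp.out.pos h4
  have horb : orbit (P : Subgroup G) ((1 : G) : G ⧸ C) = Set.univ := by
    refine Set.eq_of_subset_of_ncard_le (Set.subset_univ _) ?_ Set.finite_univ
    rw [Set.ncard_univ, ← index_stabilizer]
    refine hle.trans (le_of_eq ?_)
    rw [relIndex]
    congr 1
    ext v
    rw [mem_subgroupOf, mem_stabilizer_iff]
    change (v : G) ∈ C ↔ (((v : G) * 1 : G) : G ⧸ C) = ((1 : G) : G ⧸ C)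
    rw [mul_one, QuotientGroup.eq, mul_one, inv_mem_iff]
  have hconj : ∀ g : G, g * u * g⁻¹ ∈ (P : Subgroup G) := by
    intro g
    obtain ⟨v, hv⟩ := (horb ▸ Set.mem_univ _ : (g : G ⧸ C) ∈ orbit (P : Subgroup G) ((1 : G) : G ⧸ C))
    have h2 : (v : G)⁻¹ * g ∈ C := by
      have h3 : ((((v : G) * 1 : G)) : G ⧸ C) = (g : G ⧸ C) := hv
      rw [mul_one, QuotientGroup.eq] at h3
      exact h3
    rw [hC, mem_centralizer_singleton_iff] at h2
    have : g * u * g⁻¹ = (v : G) * u * (v : G)⁻¹ := by
      calc g * u * g⁻¹ = (v : G) * (((v : G)⁻¹ * g) * u) * g⁻¹ := by group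
        _ = (v : G) * (u * ((v : G)⁻¹ * g)) * g⁻¹ := by rw [h2]
        _ = _ := by group
    rw [this]
    exact mul_mem (mul_mem v.2 (hP (mem_zpowers u))) (inv_mem v.2)
  have hN : normalClosure ({u} : Set G) ≤ (P : Subgroup G) := by
    refine (closure_le _).mpr fun y hy => ?_
    obtain ⟨b, rfl, hb⟩ := Group.mem_conjugatesOfSet_iff.mp hy
    obtain ⟨g, rfl⟩ := isConj_iff.mp hb
    exact hconj g
  exact CfsgLib.PCore.le_pCore normalClosure_normal (P.2.to_le hN)
    (subset_normalClosure (Set.mem_singleton u))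

/-- The core of the proof: all Sylow subgroups are normal. -/
theorem sylow_normal
    (h1 : ∀ (p : ℕ), p.Prime → Nat.card {x : G // ¬ p ∣ idx x} * p ^ (Nat.card G).factorization p =
        Nat.card G * p ^ (Nat.card (center G)).factorization p)
    (h2 : ∀ (p : ℕ), p.Prime → Nat.card {x : G // ∃ a, idx x = p ^ a} *
        p ^ (Nat.card (center G)).factorization p =
        Nat.card (center G) * p ^ (Nat.card G).factorization p)
    (p : ℕ) [hp : Fact p.Prime] (P : Sylow p G) : (P : Subgroup G).Normal := by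
  haveI := Cfsg.pCore_normal p G
  obtain ⟨S, hS⟩ : ∃ S : Subgroup G, S = Cfsg.pCore p G ⊔ center G := ⟨_, rfl⟩
  have hmem : ∀ x : G, (∃ a, idx x = p ^ a) → x ∈ S := by
    rintro x ⟨a, ha⟩
    obtain ⟨u, v, hu, hv, rfl, -, hup, hvp⟩ := CfsgLib.SquarefreeClass.exists_parts (p := p) x
    have hidx : ∀ y, y ∈ zpowers (u * v) → ∃ b, idx y = p ^ b := by
      intro y hy
      have hd : idx y ∣ p ^ a := ha ▸ index_dvd_of_le (centralizer_le_of_mem_zpowers hy)
      obtain ⟨b, -, hb⟩ := (Nat.dvd_prime_pow hp.out).mp hd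
      exact ⟨b, hb⟩
    obtain ⟨b, hb⟩ := hidx u hu
    refine hS.ge (mul_mem (mem_sup_left (mem_pCore_of_index hup hb)) (mem_sup_right ?_))
    -- every `q`-part of `v` is central
    haveI := (inferInstance : (center G).Normal)
    rw [← QuotientGroup.eq_one_iff]
    by_contra hne
    obtain ⟨q, hq, hqd⟩ := Nat.exists_prime_and_dvd (n := orderOf (v : G ⧸ center G))
      (by rwa [ne_eq, orderOf_eq_one_iff])
    have hqv : q ∣ orderOf v := hqd.trans (orderOf_map_dvd (QuotientGroup.mk' (center G)) v)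
    haveI := Fact.mk hq
    have hqp : q ≠ p := fun h => hvp (h ▸ hqv)
    obtain ⟨n, hn⟩ : ∃ n, n = orderOf v / q ^ (orderOf v).factorization q := ⟨_, rfl⟩
    have hnq : ¬ q ∣ n := hn ▸ Nat.not_dvd_ordCompl hq (orderOf_pos v).ne'
    have hwq : (v ^ n) ^ q ^ (orderOf v).factorization q = 1 := by
      rw [← pow_mul, hn, Nat.div_mul_cancel (Nat.ordProj_dvd _ _), pow_orderOf_eq_one]
    obtain ⟨c, hc⟩ := hidx (v ^ n) (pow_mem hv n)
    -- `v ^ n` centralizes a Sylow `q`-subgroup, so it is central
    obtain ⟨R, hR⟩ : ∃ R : Sylow q G, (R : Subgroup G) ≤ centralizer ({v ^ n} : Set G) := by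
      obtain ⟨R₀⟩ : Nonempty (Sylow q (centralizer ({v ^ n} : Set G))) := inferInstance
      have hidx2 : ¬ q ∣ ((R₀ : Subgroup _).map (centralizer ({v ^ n} : Set G)).subtype).index := by
        rw [index_map_subtype]
        intro hd
        refine (hq.dvd_mul.mp hd).elim R₀.not_dvd_index fun h => ?_
        rw [show (centralizer ({v ^ n} : Set G)).index = p ^ c from hc] at h
        exact hqp ((Nat.prime_dvd_prime_iff_eq hq hp.out).mp (hq.dvd_of_dvd_pow h))
      exact ⟨(R₀.2.map _).toSylow hidx2, map_subtype_le _⟩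
    have hvR : v ^ n ∈ centralizer ((R : Subgroup G) : Set G) := mem_centralizer_iff.mpr fun r hr =>
      mem_centralizer_singleton_iff.mp (hR hr)
    have hvmem : v ^ n ∈ (R : Subgroup G) := by
      -- `R⟨v^n⟩` is a `q`-group
      obtain ⟨i, -, hi⟩ := (Nat.dvd_prime_pow hq).mp (orderOf_dvd_of_pow_eq_one hwq)
      have hp' : IsPGroup q (zpowers (v ^ n)) :=
        IsPGroup.of_card (n := i) (by rw [Nat.card_zpowers, hi])
      have hsup := IsPGroup.to_sup_of_normal_right' hp' R.2 (K := (R : Subgroup G)) (fun y hy => by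
        obtain ⟨j, rfl⟩ := mem_zpowers_iff.mp hy
        rw [mem_normalizer_iff]
        intro r
        have hc2 : ∀ r ∈ (R : Subgroup G), Commute ((v ^ n) ^ j) r := fun r hr =>
          ((mem_centralizer_iff.mp (zpow_mem hvR j) r hr)).symm
        constructor
        · intro hr
          rwa [(hc2 r hr).eq, mul_inv_cancel_right]
        · intro hr
          have h3 := (hc2 _ hr).eq
          rw [inv_mul_cancel_right] at h3
          exact (mul_left_cancel h3).symm ▸ hr)
      exact (R.3 hsup le_sup_right).le (mem_sup_left (mem_zpowers _))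
    have hvZ : v ^ n ∈ center G := center_sylow_le q R (h1 q hq) ⟨hvmem, hvR⟩
    have h3 : orderOf (v : G ⧸ center G) ∣ n := orderOf_dvd_of_pow_eq_one (by
      rw [← QuotientGroup.mk_pow, QuotientGroup.eq_one_iff]
      exact hvZ)
    exact hnq (hqd.trans h3)
  -- counting
  have hcount : Nat.card {x : G // ∃ a, idx x = p ^ a} ≤ Nat.card S :=
    Nat.card_le_card_of_injective (fun x => (⟨x.1, hmem x.1 x.2⟩ : S))
      fun a b hab => Subtype.ext (congrArg (fun y : S => (y : G)) hab)
  have hZpX : center G ⊓ (P : Subgroup G) ≤ Cfsg.pCore p G ⊓ center G := by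
    refine le_inf (CfsgLib.PCore.le_pCore ⟨fun z hz g => ?_⟩ (P.2.to_le inf_le_right)) inf_le_left
    rw [mem_center_iff.mp hz.1 g, mul_inv_cancel_right]
    exact hz
  have hsupc := CfsgLib.Coprime.card_sup_mul_card_inf (H := center G) (N := Cfsg.pCore p G)
    le_normalizer_of_normal
  rw [sup_comm, ← hS] at hsupc
  have h3 : p ^ (Nat.card (center G)).factorization p ≤
      Nat.card (Cfsg.pCore p G ⊓ center G : Subgroup G) := by
    rw [← pow_factorization_card_center_le P]
    exact Nat.le_of_dvd Nat.card_pos (card_dvd_of_le hZpX)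
  have h4 : Nat.card (center G) * p ^ (Nat.card G).factorization p ≤
      Nat.card (center G) * Nat.card (Cfsg.pCore p G) := by
    rw [← h2 p hp.out, ← hsupc]
    exact Nat.mul_le_mul hcount h3
  have hXP : Cfsg.pCore p G = (P : Subgroup G) := by
    refine Subgroup.eq_of_le_of_card_ge (CfsgLib.PCore.pCore_le_sylow P) ?_
    rw [P.card_eq_multiplicity]
    exact Nat.le_of_mul_le_mul_left h4 Nat.card_pos
  exact hXP ▸ inferInstance

/-- Let G and H be finite groups such that for every natural number k, G and H have the same number of conjugacy classes of size k. If H is nilpotent then G is nilpotent. -/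
theorem result {G H : Type*} [Group G] [Finite G] [Group H] [Finite H]
    (hH : Group.IsNilpotent H)
    (h : ∀ k : ℕ, Nat.card {C : ConjClasses G // Nat.card C.carrier = k} = Nat.card {C : ConjClasses H // Nat.card C.carrier = k}) :
    Group.IsNilpotent G := by
  obtain ⟨ψ, hψ⟩ := exists_equiv h
  have hG : Nat.card G = Nat.card H := Nat.card_congr ψ
  have hZ : Nat.card (center G) = Nat.card (center H) := by
    have h1 := card_eq_of_equiv hψ (fun k => k = 1)
    have e1 : Nat.card {x : G // idx x = 1} = Nat.card (center G) := Nat.card_congr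
      (Equiv.subtypeEquivRight fun x => CfsgLib.ClassSize.index_centralizer_eq_one_iff x)
    have e2 : Nat.card {x : H // idx x = 1} = Nat.card (center H) := Nat.card_congr
      (Equiv.subtypeEquivRight fun x => CfsgLib.ClassSize.index_centralizer_eq_one_iff x)
    rw [← e1, ← e2, h1]
  refine ((Group.isNilpotent_of_finite_tfae (G := G)).out 0 3).mpr fun p hp P => ?_
  haveI := hp
  refine sylow_normal (fun q hq => ?_) (fun q hq => ?_) p P
  · haveI := Fact.mk hq
    rw [card_eq_of_equiv hψ (fun k => ¬ q ∣ k), hG, hZ]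
    exact (nilpotent_counts hH q).1
  · haveI := Fact.mk hq
    rw [card_eq_of_equiv hψ (fun k => ∃ a, k = q ^ a), hG, hZ]
    exact (nilpotent_counts hH q).2

end Cfsg.Agent.S4139
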