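import Cfsg.Statements.S4140
import Cfsg.Agent.Lib.Structure81.CaminaPair

set_option autoImplicit false
open Cfsg

namespace Cfsg.Agent.S4140

/-- Let G be a finite group and N a proper non-trivial normal subgroup such that for every g outside N the conjugacy class of g is a union of cosets of N (equivalently gn is conjugate to g for every n ∈ N). Then either every element of G outside N acts fixed-point-freely on N (C_G(x) ≤ N for all x ∈ N, x ≠ 1, so G is a Frobenius group with kernel N), or N has prime-power order, or G/N has prime-power order. -/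
theorem result {G : Type*} [Group G] [Finite G] (N : Subgroup G) [N.Normal] (hN1 : N ≠ ⊥) (hN2 : N ≠ ⊤)
    (hcam : ∀ g : G, g ∉ N → ∀ n ∈ N, ∃ x : G, x * g * x⁻¹ = g * n) :
    (∀ x ∈ N, x ≠ 1 → Subgroup.centralizer ({x} : Set G) ≤ N) ∨ IsPrimePow (Nat.card N) ∨ IsPrimePow N.index := by
  by_contra hcon
  push Not at hcon
  obtain ⟨⟨x, hx, hx1, hle⟩, hN, hI⟩ := hcon
  rw [SetLike.not_le_iff_exists] at hle
  obtain ⟨g, hg, hgN⟩ := hle
  obtain ⟨p, hp, hpN, hpi⟩ := CfsgLib.Structure81.Camina.exists_common_prime (N := N) hcam hx hx1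
    hgN (Subgroup.mem_centralizer_singleton_iff.1 hg)
  have hother : ∀ c : ℕ, c ≠ 0 → p ∣ c → ¬ IsPrimePow c → ∃ q, q.Prime ∧ q ≠ p ∧ q ∣ c := by
    intro c hc hpc hc'
    by_contra hno
    push Not at hno
    exact hc' (isPrimePow_iff_unique_prime_dvd.2 ⟨p, ⟨hp, hpc⟩, fun q hq =>
      by_contra fun hne => hno q hq.1 hne hq.2⟩)
  obtain ⟨r, hr, hrp, hrN⟩ := hother _ Nat.card_pos.ne' hpN hN
  obtain ⟨q, hq, hqp, hqi⟩ := hother _ N.index_ne_zero_of_finite hpi hI
  haveI := Fact.mk hp
  haveI := Fact.mk hq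
  haveI := Fact.mk hr
  exact CfsgLib.Structure81.Camina.false_of_primes hcam hqp hrp hpN hpi hqi hrN

end Cfsg.Agent.S4140
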