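import Cfsg.Statements.S4141
import Cfsg.Agent.Lib.Structure81.CaminaFPF
import Cfsg.Agent.Lib.Structure81.CaminaPair
import Cfsg.Agent.Lib.PF.OddOrder
import Cfsg.Agent.S4140

set_option autoImplicit false
open Cfsg

namespace Cfsg.Agent.S4141

open CfsgLib.Structure81

section aux

variable {G : Type*} [Group G] [Finite G] {N : Subgroup G} [N.Normal]

/-- In the Frobenius case the kernel is nilpotent. -/
theorem solvable_of_frobenius (h : Camina.IsPair N) (hN2 : N ≠ ⊤)
    (hF : ∀ x ∈ N, x ≠ 1 → Subgroup.centralizer ({x} : Set G) ≤ N) : Group.IsSolvable N := by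
  obtain ⟨p, hp, hpi⟩ := Nat.exists_prime_and_dvd (n := N.index)
    (fun e => hN2 (Subgroup.index_eq_one.1 e))
  haveI := Fact.mk hp
  obtain ⟨P⟩ := (inferInstance : Nonempty (Sylow p G))
  have hPN : ¬ (P : Subgroup G) ≤ N := fun hle =>
    P.not_dvd_index (hpi.trans (Subgroup.index_dvd_of_le hle))
  have hpN : ¬ p ∣ Nat.card N := by
    intro hpN
    obtain ⟨g, hgP, hgN⟩ := SetLike.not_le_iff_exists.1 hPN
    obtain ⟨j, hj⟩ := P.isPGroup' ⟨g, hgP⟩
    obtain ⟨z, hzN, hz1, -, hgz⟩ := Camina.exists_fixed h hpN hgN (j := j)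
      (by simpa using congrArg Subtype.val hj)
    exact hgN (hF z hzN hz1 (Subgroup.mem_centralizer_singleton_iff.2 hgz.eq))
  obtain ⟨x, hx⟩ := exists_prime_orderOf_dvd_card' (G := G) p (hpi.trans N.index_dvd_card)
  have hxN : x ∉ N := fun hxN => hpN (hx ▸ (Subgroup.orderOf_mk x hxN) ▸
    orderOf_dvd_natCard (⟨x, hxN⟩ : N))
  haveI : Group.IsNilpotent N := CfsgLib.Frobenius.Thompson.isNilpotent_of_element N
    (Subgroup.normalizer_eq_top (H := N) ▸ Subgroup.mem_top x) hp (hx ▸ pow_orderOf_eq_one x)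
    fun k hk hxk => by
      by_contra hk1
      exact hxN (hF k hk hk1 (Subgroup.mem_centralizer_singleton_iff.2 hxk))
  infer_instance

/-- When the quotient is a `p`-group, the normal `p`-complement is solvable. -/
theorem solvable_of_pGroup_quotient (h : Camina.IsPair N) (hN2 : N ≠ ⊤) {p : ℕ}
    [hp : Fact p.Prime] (hQ : IsPGroup p (G ⧸ N)) : Group.IsSolvable N := by
  have hpi : p ∣ N.index := by
    obtain ⟨k, hk⟩ := IsPGroup.iff_card.1 hQ
    rw [← Subgroup.index_eq_card] at hk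
    rw [hk]
    exact dvd_pow_self p fun e => hN2 (Subgroup.index_eq_one.1 (by rw [hk, e, pow_zero]))
  obtain ⟨K, hKn, hKN, hKp, hKall⟩ := Camina.exists_complement h hpi
  have hGK : IsPGroup p (G ⧸ K) := by
    intro x
    obtain ⟨g, rfl⟩ := QuotientGroup.mk'_surjective K x
    obtain ⟨i, hi⟩ := hQ (QuotientGroup.mk' N g)
    rw [← map_pow] at hi
    have hgN : g ^ p ^ i ∈ N := (QuotientGroup.eq_one_iff _).1 hi
    set n := g ^ p ^ i with hn
    obtain ⟨c, m, hm, hnm⟩ : ∃ c m : ℕ, ¬ p ∣ m ∧ orderOf n = p ^ c * m :=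
      ⟨(orderOf n).factorization p, orderOf n / p ^ (orderOf n).factorization p,
        Nat.not_dvd_ordCompl hp.out (orderOf_pos n).ne',
        (Nat.ordProj_mul_ordCompl_eq_self (orderOf n) p).symm⟩
    have hmem : n ^ p ^ c ∈ K := hKall _ (pow_mem hgN _) (by
      rw [orderOf_pow_of_dvd (pow_pos hp.out.pos c).ne' ⟨m, hnm⟩, hnm,
        Nat.mul_div_cancel_left _ (pow_pos hp.out.pos c)]
      exact hm)
    refine ⟨i + c, ?_⟩
    rw [← map_pow, pow_add, pow_mul]
    exact (QuotientGroup.eq_one_iff _).2 hmem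
  have hNK : Group.IsSolvable K → Group.IsSolvable N := by
    intro hKs
    haveI : Group.IsNilpotent (G ⧸ K) := hGK.isNilpotent
    haveI := hKs
    haveI : Group.IsSolvable (K : Subgroup G) := hKs
    haveI : Group.IsSolvable G := Group.isSolvable_of_ker_le_range K.subtype (QuotientGroup.mk' K)
      (by rw [QuotientGroup.ker_mk', Subgroup.range_subtype])
    infer_instance
  apply hNK
  by_cases hK1 : K = ⊥
  · subst hK1; infer_instance
  by_cases hp2 : p = 2
  · subst hp2
    refine CfsgLib.PF.oddSolvable K ?_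
    rw [← Nat.not_even_iff_odd, even_iff_two_dvd]
    exact hKp
  obtain ⟨P⟩ := (inferInstance : Nonempty (Sylow p G))
  have hPN : ¬ (P : Subgroup G) ≤ N := fun hle =>
    P.not_dvd_index (hpi.trans (Subgroup.index_dvd_of_le hle))
  have hKP : ∀ k ∈ K, k ∈ (P : Subgroup G) → k = 1 := by
    intro k hk hkP
    obtain ⟨j, hj⟩ := P.isPGroup' ⟨k, hkP⟩
    obtain ⟨l, -, hl⟩ := (Nat.dvd_prime_pow hp.out).1 (orderOf_dvd_of_pow_eq_one
      (show k ^ p ^ j = 1 by simpa using congrArg Subtype.val hj))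
    rw [← orderOf_eq_one_iff, hl]
    by_contra hl1
    refine hKp ((dvd_pow_self p (n := l) fun e => hl1 (by rw [e, pow_zero])).trans ?_)
    rw [← hl]
    exact Subgroup.orderOf_mk _ hk ▸ orderOf_dvd_natCard (⟨k, hk⟩ : K)
  have hfpf : ∀ g ∈ (P : Subgroup G), g ∉ N → ∀ k ∈ K, Commute g k → k = 1 := by
    intro g hgP hgN k hk hgk
    obtain ⟨j, hj⟩ := P.isPGroup' ⟨g, hgP⟩
    exact Camina.eq_one_of_commute_pElement h hp.out hgN (j := j)
      (by simpa using congrArg Subtype.val hj) (hKN hk) hgk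
      fun hd => hKp (hd.trans (Subgroup.orderOf_mk _ hk ▸ orderOf_dvd_natCard (⟨k, hk⟩ : K)))
  set R := N.subgroupOf (P : Subgroup G) with hR
  by_cases hR1 : R = ⊥
  · -- an element of order `p` outside `N`
    haveI : Nontrivial (P : Subgroup G) :=
      (Subgroup.nontrivial_iff_ne_bot _).2 fun e => hPN (e ▸ bot_le)
    obtain ⟨x, hx⟩ := exists_prime_orderOf_dvd_card' (G := (P : Subgroup G)) p
      ((P.isPGroup'.nontrivial_iff_card.1 inferInstance).elim
        fun n hn => hn.2 ▸ dvd_pow_self p hn.1.ne')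
    have hxN : (x : G) ∉ N := fun hxN => by
      have : x ∈ R := hxN
      rw [hR1, Subgroup.mem_bot] at this
      rw [this, orderOf_one] at hx
      exact hp.out.ne_one hx.symm
    haveI : Group.IsNilpotent K := CfsgLib.Frobenius.Thompson.isNilpotent_of_element K
      (Subgroup.normalizer_eq_top (H := K) ▸ Subgroup.mem_top (x : G)) hp.out
      (by rw [← SubgroupClass.coe_pow, orderOf_dvd_iff_pow_eq_one.1 (dvd_of_eq hx)]; rfl)
      fun k hk hxk => hfpf _ x.2 hxN k hk hxk
    infer_instance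
  exfalso
  have hRtop : R ≠ ⊤ := fun e => hPN (Subgroup.subgroupOf_eq_top.1 e)
  have hsurj : ∀ x : G, ∃ y ∈ (P : Subgroup G), x⁻¹ * y ∈ K := by
    intro x
    let Q : Sylow p (G ⧸ K) := P.mapSurjective (QuotientGroup.mk'_surjective K)
    have htop : (Q : Subgroup (G ⧸ K)) = ⊤ :=
      (Q.is_maximal' (hGK.to_subgroup ⊤) le_top).symm
    have hx : QuotientGroup.mk' K x ∈ (Q : Subgroup (G ⧸ K)) := htop ▸ Subgroup.mem_top _
    obtain ⟨y, hy, hyx⟩ := Subgroup.mem_map.1 hx
    exact ⟨y, hy, QuotientGroup.eq.1 hyx.symm⟩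
  have hconj : ∀ g : (P : Subgroup G), g ∉ R → ∀ r ∈ R,
      ∃ x : (P : Subgroup G), x * g * x⁻¹ = g * r := by
    intro g hg r hr
    obtain ⟨x, hx⟩ := h g hg r hr
    obtain ⟨y, hy, hyx⟩ := hsurj x
    refine ⟨⟨y, hy⟩, ?_⟩
    have h1 : QuotientGroup.mk' K y = QuotientGroup.mk' K x := (QuotientGroup.eq.2 hyx).symm
    have h2 : QuotientGroup.mk' K (y * g * y⁻¹) = QuotientGroup.mk' K ((g : G) * r) := by
      rw [← hx, map_mul, map_mul, map_inv, map_mul, map_mul, map_inv, h1]
    have h3 : ((g : G) * r)⁻¹ * (y * g * y⁻¹) ∈ K := QuotientGroup.eq.1 h2.symm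
    have h4 := hKP _ h3 (mul_mem (inv_mem (mul_mem g.2 r.2))
      (mul_mem (mul_mem hy g.2) (inv_mem hy)))
    exact Subtype.ext (inv_mul_eq_one.1 h4).symm
  haveI : Nontrivial K := (Subgroup.nontrivial_iff_ne_bot K).2 hK1
  letI : MulDistribMulAction (P : Subgroup G) K :=
    MulDistribMulAction.compHom K ((MulAut.conjNormal (H := K)).comp (P : Subgroup G).subtype)
  refine CaminaFPF.false_of_act (p := p) (S := (P : Subgroup G)) (R := R) hp2 P.isPGroup' hR1
    hRtop hconj (K := K) hKp fun g hg k hk => ?_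
  refine Subtype.ext (hfpf g g.2 hg k k.2 ?_)
  have h1 := congrArg Subtype.val hk
  change ((MulAut.conjNormal (g : G) k : K) : G) = k at h1
  rw [MulAut.conjNormal_apply, mul_inv_eq_iff_eq_mul] at h1
  exact h1

end aux

/-- Let G be a finite group and N a proper non-trivial normal subgroup such that for every g outside N the conjugacy class of g is a union of cosets of N. Then N is solvable, and if G/N is solvable then G is solvable. -/
theorem result {G : Type*} [Group G] [Finite G] (N : Subgroup G) [N.Normal] (hN1 : N ≠ ⊥) (hN2 : N ≠ ⊤)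
    (hcam : ∀ g : G, g ∉ N → ∀ n ∈ N, ∃ x : G, x * g * x⁻¹ = g * n) :
    (Group.IsSolvable (G ⧸ N) → Group.IsSolvable G) ∧ Group.IsSolvable N := by
  have hN : Group.IsSolvable N := by
    rcases Cfsg.Agent.S4140.result N hN1 hN2 hcam with hF | hF | hF
    · exact solvable_of_frobenius hcam hN2 hF
    · obtain ⟨p, k, hp, -, hk⟩ := hF
      haveI := Fact.mk (Nat.prime_iff.2 hp)
      haveI : Group.IsNilpotent N := (IsPGroup.of_card hk.symm).isNilpotent
      infer_instance
    · obtain ⟨p, k, hp, -, hk⟩ := hF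
      haveI := Fact.mk (Nat.prime_iff.2 hp)
      refine solvable_of_pGroup_quotient hcam hN2 (p := p) (IsPGroup.of_card (n := k) ?_)
      rw [← Subgroup.index_eq_card, hk]
  refine ⟨fun hQ => ?_, hN⟩
  haveI := hN
  haveI := hQ
  exact Group.isSolvable_of_ker_le_range N.subtype (QuotientGroup.mk' N)
    (by rw [QuotientGroup.ker_mk', Subgroup.range_subtype])

end Cfsg.Agent.S4141
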