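import Cfsg.Statements.S4142
-- import your own Cfsg.Agent.* helpers here

set_option autoImplicit false
open Cfsg

namespace Cfsg.Agent.S4142

/-- Let G be a finite group and N a normal subgroup. Then the conjugacy class of every element g outside N is a union of cosets of N (gn is conjugate to g for all n ∈ N) if and only if for every g outside N the centralizer of g in G has the same order as the centralizer of gN in G/N. -/
theorem result {G : Type*} [Group G] [Finite G] (N : Subgroup G) [N.Normal] :
    (∀ g : G, g ∉ N → ∀ n ∈ N, ∃ x : G, x * g * x⁻¹ = g * n) ↔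
      ∀ g : G, g ∉ N → Nat.card (Subgroup.centralizer ({g} : Set G)) =
        Nat.card (Subgroup.centralizer ({(QuotientGroup.mk g : G ⧸ N)} : Set (G ⧸ N))) := by
  classical
  -- the preimage of the centralizer in the quotient
  have key : ∀ g : G, ((∀ n ∈ N, ∃ x : G, x * g * x⁻¹ = g * n) ↔
      Nat.card (Subgroup.centralizer ({g} : Set G)) =
        Nat.card (Subgroup.centralizer ({(QuotientGroup.mk g : G ⧸ N)} : Set (G ⧸ N)))) := by
    intro g
    set C := Subgroup.centralizer ({g} : Set G) with hC
    set T := (Subgroup.centralizer ({(QuotientGroup.mk g : G ⧸ N)} : Set (G ⧸ N))).comap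
      (QuotientGroup.mk' N) with hT
    have hmemT : ∀ x : G, x ∈ T ↔ g⁻¹ * (x * g * x⁻¹) ∈ N := by
      intro x
      rw [hT, Subgroup.mem_comap, Subgroup.mem_centralizer_singleton_iff, QuotientGroup.mk'_apply,
        ← QuotientGroup.mk_mul, ← QuotientGroup.mk_mul, QuotientGroup.eq]
      constructor
      · intro h
        have h3 := (‹N.Normal›).conj_mem _ (N.inv_mem h) x
        convert h3 using 1
        group
      · intro h
        have h3 := N.inv_mem ((‹N.Normal›).conj_mem _ h x⁻¹)
        convert h3 using 1
        group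
    have hmemC : ∀ x : G, x ∈ C ↔ x * g = g * x := fun x => Subgroup.mem_centralizer_singleton_iff
    have hCT : C ≤ T := by
      intro x hx
      rw [hmemT, (hmemC x).1 hx]
      simp
    have hfib : ∀ a b : T, (C.subgroupOf T).carrier.Nonempty →
        ((a : T)⁻¹ * b ∈ C.subgroupOf T ↔
          g⁻¹ * ((a : G) * g * (a : G)⁻¹) = g⁻¹ * ((b : G) * g * (b : G)⁻¹)) := by
      intro a b _
      rw [Subgroup.mem_subgroupOf, hmemC, mul_right_inj]
      push_cast
      constructor
      · intro h
        calc (a : G) * g * (a : G)⁻¹ = (a : G) * (g * ((a : G)⁻¹ * b)) * (b : G)⁻¹ := by group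
          _ = (b : G) * g * (b : G)⁻¹ := by rw [← h]; group
      · intro h
        calc (a : G)⁻¹ * b * g = (a : G)⁻¹ * ((b : G) * g * (b : G)⁻¹) * b := by group
          _ = g * ((a : G)⁻¹ * b) := by rw [← h]; group
    have hne : (C.subgroupOf T).carrier.Nonempty := ⟨1, (C.subgroupOf T).one_mem⟩
    let f : T ⧸ C.subgroupOf T → N := Quotient.lift
      (fun x : T => (⟨g⁻¹ * ((x : G) * g * (x : G)⁻¹), (hmemT x).1 x.2⟩ : N))
      (fun a b hab => Subtype.ext ((hfib a b hne).1 (QuotientGroup.leftRel_apply.1 hab)))
    have hinj : Function.Injective f := by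
      intro a b
      refine Quotient.inductionOn₂' a b fun a b hab => ?_
      exact Quotient.sound' (QuotientGroup.leftRel_apply.2
        ((hfib a b hne).2 (congrArg Subtype.val hab)))
    have hT1 : Nat.card (T ⧸ C.subgroupOf T) * Nat.card C = Nat.card T := by
      rw [Subgroup.card_eq_card_quotient_mul_card_subgroup (C.subgroupOf T),
        Nat.card_congr (Subgroup.subgroupOfEquivOfLe hCT).toEquiv]
    have hT2 : Nat.card T = Nat.card N *
        Nat.card (Subgroup.centralizer ({(QuotientGroup.mk g : G ⧸ N)} : Set (G ⧸ N))) := by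
      have h1 := T.card_mul_index
      rw [hT, Subgroup.index_comap_of_surjective _ (QuotientGroup.mk'_surjective N), ← hT] at h1
      have h2 := (Subgroup.centralizer ({(QuotientGroup.mk g : G ⧸ N)} : Set (G ⧸ N))).card_mul_index
      have h3 := Subgroup.card_eq_card_quotient_mul_card_subgroup N
      rw [← h1, ← h2] at h3
      exact Nat.eq_of_mul_eq_mul_right (Nat.pos_of_ne_zero Subgroup.index_ne_zero_of_finite)
        (h3.trans (by ring))
    rw [hT2] at hT1
    constructor
    · intro h
      have hsurj : Function.Surjective f := by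
        rintro ⟨n, hn⟩
        obtain ⟨x, hx⟩ := h n hn
        have hxT : x ∈ T := by rw [hmemT, hx]; simpa using hn
        refine ⟨QuotientGroup.mk ⟨x, hxT⟩, Subtype.ext ?_⟩
        change g⁻¹ * (x * g * x⁻¹) = n
        rw [hx]; group
      rw [Nat.card_congr (Equiv.ofBijective f ⟨hinj, hsurj⟩)] at hT1
      exact Nat.eq_of_mul_eq_mul_left Nat.card_pos hT1
    · intro h n hn
      rw [← h] at hT1
      have hcard := Nat.eq_of_mul_eq_mul_right Nat.card_pos hT1
      obtain ⟨q, hq⟩ := (hinj.bijective_of_nat_card_le hcard.ge).2 ⟨n, hn⟩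
      obtain ⟨x, rfl⟩ := QuotientGroup.mk_surjective q
      refine ⟨x, ?_⟩
      have hx : g⁻¹ * ((x : G) * g * (x : G)⁻¹) = n := congrArg Subtype.val hq
      rw [← hx]; group
  constructor
  · intro h g hg
    exact (key g).1 (h g hg)
  · intro h g hg
    exact (key g).2 (h g hg)

end Cfsg.Agent.S4142
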