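import Cfsg.Statements.S4145
import Cfsg.Agent.Lib.Transfer.NormalComplement
import Cfsg.Agent.Lib.PCore.PSolvable
-- import your own Cfsg.Agent.* helpers here

set_option autoImplicit false
open Cfsg

namespace Cfsg.Agent.S4145

/-- A cyclic Sylow subgroup is centralized by an element normalizing it and acting trivially on
some element of order at least `p`. -/
theorem centralizes_of_pow_congr {G : Type*} [Group G] [Finite G] {p : ℕ} [Fact p.Prime]
    (P : Sylow p G) (hP : IsCyclic (P : Subgroup G)) {x : G}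
    (hx : x ∈ Subgroup.normalizer ((P : Subgroup G) : Set G))
    (h : (∃ y ∈ (P : Subgroup G), y ≠ 1 ∧ x * y * x⁻¹ = y) ∨
      (∃ P0 : Subgroup G, P0 < (P : Subgroup G) ∧
        ∀ y ∈ (P : Subgroup G), x * y * x⁻¹ * y⁻¹ ∈ P0)) :
    ∀ y ∈ (P : Subgroup G), x * y * x⁻¹ = y := by
  have hp : p.Prime := Fact.out
  obtain ⟨⟨g, hg⟩, hgen⟩ := hP.exists_generator
  have hgen' : ∀ y ∈ (P : Subgroup G), ∃ j : ℤ, g ^ j = y := fun y hy => by
    obtain ⟨j, hj⟩ := Subgroup.mem_zpowers_iff.1 (hgen ⟨y, hy⟩)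
    exact ⟨j, congrArg Subtype.val hj⟩
  obtain ⟨k, hk⟩ := hgen' _ ((Subgroup.mem_normalizer_iff.1 hx g).1 hg)
  obtain ⟨n, hn⟩ := IsPGroup.iff_orderOf.1 P.isPGroup' ⟨g, hg⟩
  rw [Subgroup.orderOf_mk] at hn
  have hconj : ∀ j : ℤ, x * g ^ j * x⁻¹ = g ^ (k * j) := fun j => by
    rw [zpow_mul, hk, conj_zpow]
  have hiter : ∀ m : ℕ, x ^ m * g * (x ^ m)⁻¹ = g ^ (k ^ m) := by
    intro m
    induction m with
    | zero => simp
    | succ m ih =>
      calc x ^ (m + 1) * g * (x ^ (m + 1))⁻¹ = x * (x ^ m * g * (x ^ m)⁻¹) * x⁻¹ := by group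
        _ = g ^ (k ^ (m + 1)) := by rw [ih, hconj]; ring_nf
  -- `k ≡ 1 (mod p)`
  have hk1 : (p : ℤ) ∣ k - 1 := by
    rcases h with ⟨y, hy, hy1, hxy⟩ | ⟨P0, hP0, hP0'⟩
    · obtain ⟨j, rfl⟩ := hgen' y hy
      rw [hconj] at hxy
      have h1 : g ^ (j * (k - 1)) = 1 := by
        rw [mul_sub, mul_one, mul_comm, zpow_sub, hxy, mul_inv_cancel]
      rw [← orderOf_dvd_iff_zpow_eq_one, hn, Nat.cast_pow] at h1
      by_contra hc
      have hco : IsCoprime ((p : ℤ) ^ n) (k - 1) :=
        ((Nat.prime_iff_prime_int.1 hp).coprime_iff_not_dvd.2 hc).pow_left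
      refine hy1 (orderOf_dvd_iff_zpow_eq_one.1 ?_)
      rw [hn, Nat.cast_pow]
      exact hco.dvd_of_dvd_mul_right h1
    · have h1 : g ^ (k - 1) ∈ P0 := by
        rw [zpow_sub_one, hk]
        exact hP0' g hg
      by_contra hc
      have hco : IsCoprime ((p : ℤ) ^ n) (k - 1) :=
        ((Nat.prime_iff_prime_int.1 hp).coprime_iff_not_dvd.2 hc).pow_left
      obtain ⟨a, b, hab⟩ := hco
      refine hP0.not_ge fun y hy => ?_
      obtain ⟨j, rfl⟩ := hgen' y hy
      refine zpow_mem ?_ j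
      have hg' : g = (g ^ (k - 1)) ^ b := by
        rw [← zpow_mul]
        conv_lhs => rw [← zpow_one g, ← hab, zpow_add, mul_comm a, zpow_mul, ← Nat.cast_pow,
          ← hn, zpow_natCast, pow_orderOf_eq_one, one_zpow, one_mul, mul_comm b]
      exact hg' ▸ zpow_mem h1 b
  -- a `p'`-power of the action is already the action
  obtain ⟨a, m, hm, hxm⟩ := Nat.exists_eq_pow_mul_and_not_dvd (orderOf_pos x).ne' p hp.ne_one
  have hxP : x ^ m ∈ (P : Subgroup G) :=
    CfsgLib.Transfer.isPGroup_mem_of_mem_normalizer P (pow_mem hx m) a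
      (by rw [← pow_mul, mul_comm, ← hxm, pow_orderOf_eq_one])
  obtain ⟨j, hj⟩ := hgen' _ hxP
  have h2 := hiter m
  rw [← hj, ((Commute.refl g).zpow_left j).eq, mul_inv_cancel_right] at h2
  have h3 : ((p : ℤ) ^ n) ∣ k ^ m - 1 := by
    rw [← Nat.cast_pow, ← hn, orderOf_dvd_iff_zpow_eq_one, zpow_sub_one, ← h2, mul_inv_cancel]
  have h4 : ((p : ℤ) ^ n) ∣ k ^ p ^ n - 1 := by
    have := dvd_sub_pow_of_dvd_sub hk1 n
    rw [one_pow] at this
    exact (pow_dvd_pow (p : ℤ) n.le_succ).trans this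
  have hcast : ∀ e : ℕ, ((p : ℤ) ^ n) ∣ k ^ e - 1 ↔ ((k : ZMod (p ^ n)) ^ e = 1) := fun e => by
    rw [← Nat.cast_pow, ← ZMod.intCast_zmod_eq_zero_iff_dvd]
    push_cast
    rw [sub_eq_zero]
  have h5 : (p : ℤ) ^ n ∣ k - 1 := by
    have h34 := Nat.dvd_gcd (orderOf_dvd_of_pow_eq_one ((hcast _).1 h3))
      (orderOf_dvd_of_pow_eq_one ((hcast _).1 h4))
    rw [Nat.Coprime.gcd_eq_one (Nat.Coprime.pow_right n ((hp.coprime_iff_not_dvd.2 hm).symm)),
      Nat.dvd_one, orderOf_eq_one_iff] at h34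
    simpa using (hcast 1).2 (by rw [pow_one, h34])
  rw [← Nat.cast_pow, ← hn, orderOf_dvd_iff_zpow_eq_one, zpow_sub_one, mul_inv_eq_one] at h5
  intro y hy
  obtain ⟨i, rfl⟩ := hgen' y hy
  rw [hconj, zpow_mul, h5]

/-- A group with cyclic Sylow `p`-subgroup and a nontrivial normal `p`-subgroup is `p`-solvable. -/
theorem isPSolvable_of_cyclic_sylow {G : Type*} [Group G] [Finite G] {p : ℕ} [Fact p.Prime]
    (P : Sylow p G) (hP : IsCyclic (P : Subgroup G)) (R : Subgroup G) [R.Normal] (hR : R ≠ ⊥)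
    (hRp : IsPGroup p R) : Cfsg.IsPSolvable p G := by
  set C := Subgroup.centralizer (R : Set G) with hC
  have hRP : R ≤ (P : Subgroup G) := by
    obtain ⟨Q, hQ⟩ := hRp.exists_le_sylow
    obtain ⟨g, rfl⟩ := MulAction.exists_smul_eq G Q P
    intro r hr
    exact ⟨g⁻¹ * r * g, hQ (by simpa using (‹R.Normal›).conj_mem r hr g⁻¹),
      show g * (g⁻¹ * r * g) * g⁻¹ = r by group⟩
  have hPC : (P : Subgroup G) ≤ C := by
    intro y hy
    rw [hC, Subgroup.mem_centralizer_iff]
    intro r hr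
    letI := hP.commGroup
    exact congrArg Subtype.val (mul_comm (⟨r, hRP hr⟩ : (P : Subgroup G)) ⟨y, hy⟩)
  let PC : Sylow p C := P.subtype hPC
  have hPC' : IsCyclic (PC : Subgroup C) := by
    haveI := hP
    exact isCyclic_of_surjective (Subgroup.subgroupOfEquivOfLe hPC).symm
      (Subgroup.subgroupOfEquivOfLe hPC).symm.surjective
  have hnc : Cfsg.HasNormalPComplement p C := by
    refine CfsgLib.Transfer.hasNormalPComplement_of_normalizer_le PC fun x hx => ?_
    obtain ⟨r, hr, hr1⟩ := R.ne_bot_iff_exists_ne_one.1 hR |> fun ⟨r, h⟩ =>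
      (⟨r, r.2, fun e => h (Subtype.ext e)⟩ : ∃ r : G, r ∈ R ∧ r ≠ 1)
    have hfix : (x : G) * r * (x : G)⁻¹ = r :=
      mul_inv_eq_iff_eq_mul.2 (Subgroup.mem_centralizer_iff.1 x.2 r hr).symm
    have := centralizes_of_pow_congr PC hPC' hx
      (Or.inl ⟨⟨r, hPC (hRP hr)⟩, hRP hr, fun e => hr1 (congrArg Subtype.val e), Subtype.ext hfix⟩)
    rw [Subgroup.mem_centralizer_iff]
    intro y hy
    exact (mul_inv_eq_iff_eq_mul.1 (this y hy)).symm
  rw [CfsgLib.Transfer.hasNormalPComplement_iff] at hnc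
  haveI := CfsgLib.Transfer.pResidual_normal (G := C) (p := p)
  have hCs : Cfsg.IsPSolvable p C := CfsgLib.PCore.isPSolvable_extension (Cfsg.pResidual p C)
    (CfsgLib.PCore.isPSolvable_of_coprime (CfsgLib.PCore.coprime_of_not_dvd_card hnc))
    (CfsgLib.PCore.isPSolvable_of_isPGroup
      (CfsgLib.Transfer.isPGroup_quotient_of_pResidual_le _ le_rfl))
  refine CfsgLib.PCore.isPSolvable_extension C hCs (CfsgLib.PCore.isPSolvable_of_coprime ?_)
  refine CfsgLib.PCore.coprime_of_not_dvd_card fun hd => P.not_dvd_index ?_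
  exact (Subgroup.index_eq_card C ▸ hd).trans (Subgroup.index_dvd_of_le hPC)

/-- Let G be a finite group with a cyclic Sylow p-subgroup and H a normal subgroup such that p divides both the order of H and the index of H. Then H has a normal p-complement and G is p-solvable. -/
theorem result {G : Type*} [Group G] [Finite G] (p : ℕ) [Fact p.Prime]
    (P : Sylow p G) (hP : IsCyclic (P : Subgroup G)) (H : Subgroup G) [H.Normal] (h1 : p ∣ Nat.card H) (h2 : p ∣ H.index) :
    Cfsg.HasNormalPComplement p H ∧ Cfsg.IsPSolvable p G := by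
  classical
  have hp : p.Prime := Fact.out
  obtain ⟨PH⟩ : Nonempty (Sylow p H) := inferInstance
  obtain ⟨Q, hQ⟩ := (PH.isPGroup'.map H.subtype).exists_le_sylow
  have hQc : IsCyclic (Q : Subgroup G) := by
    obtain ⟨g, rfl⟩ := MulAction.exists_smul_eq G P Q
    haveI := hP
    exact isCyclic_of_surjective (P.equiv _) (P.equiv _).surjective
  clear hP P
  obtain ⟨P, hP⟩ : ∃ P : Sylow p G, P = Q := ⟨Q, rfl⟩
  subst hP
  have hP := hQc
  have hPH : (PH : Subgroup H) = (P : Subgroup G).subgroupOf H :=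
    (PH.is_maximal' (P.isPGroup'.comap_of_injective _ H.subtype_injective)
      (fun x hx => hQ ⟨x, hx, rfl⟩)).symm
  have hPH' : ∀ y : H, y ∈ (PH : Subgroup H) ↔ (y : G) ∈ (P : Subgroup G) := fun y => by
    rw [hPH, Subgroup.mem_subgroupOf]
  have hlt : (P : Subgroup G) ⊓ H < (P : Subgroup G) := by
    refine lt_of_le_of_ne inf_le_left fun e => P.not_dvd_index ?_
    exact h2.trans (Subgroup.index_dvd_of_le (inf_eq_left.1 e))
  have hnc : Cfsg.HasNormalPComplement p H := by
    refine CfsgLib.Transfer.hasNormalPComplement_of_normalizer_le PH fun h hh => ?_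
    rw [Subgroup.mem_centralizer_iff]
    intro y hy
    set R := (P : Subgroup G) ⊓ H with hR
    set C := Subgroup.centralizer (R : Set G) with hC
    have hhR : ∀ z, z ∈ R ↔ (h : G) * z * (h : G)⁻¹ ∈ R := by
      intro z
      by_cases hz : z ∈ H
      · have h1 := Subgroup.mem_normalizer_iff.1 hh ⟨z, hz⟩
        rw [hPH', hPH'] at h1
        exact ⟨fun hzR => ⟨h1.1 hzR.1, H.mul_mem (H.mul_mem h.2 hz) (H.inv_mem h.2)⟩,
          fun hzR => ⟨h1.2 hzR.1, hz⟩⟩
      · refine ⟨fun hzR => absurd hzR.2 hz, fun hzR => absurd ?_ hz⟩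
        have := (‹H.Normal›).conj_mem _ hzR.2 (h : G)⁻¹
        simpa [mul_assoc] using this
    have hPC : (P : Subgroup G) ≤ C := by
      intro a ha
      rw [hC, Subgroup.mem_centralizer_iff]
      intro r hr
      letI := hP.commGroup
      exact congrArg Subtype.val (mul_comm (⟨r, hr.1⟩ : (P : Subgroup G)) ⟨a, ha⟩)
    let K := C ⊓ ((P : Subgroup G) ⊔ H)
    have hPK : (P : Subgroup G) ≤ K := le_inf hPC le_sup_left
    have hQK : ((MulAut.conj (h : G)) • P : Sylow p G) ≤ (K : Subgroup G) := by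
      rintro _ ⟨a, ha, rfl⟩
      refine ⟨?_, ?_⟩
      · change (h : G) * a * (h : G)⁻¹ ∈ C
        rw [hC, Subgroup.mem_centralizer_iff]
        intro r hr
        have hr' : (h : G)⁻¹ * r * h ∈ R := (hhR _).2 (by simpa [mul_assoc] using hr)
        calc r * ((h : G) * a * (h : G)⁻¹)
            = (h : G) * (((h : G)⁻¹ * r * h) * a) * (h : G)⁻¹ := by group
          _ = (h : G) * (a * ((h : G)⁻¹ * r * h)) * (h : G)⁻¹ := by
            rw [Subgroup.mem_centralizer_iff.1 (hPC ha) _ hr']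
          _ = _ := by group
      · change (h : G) * a * (h : G)⁻¹ ∈ (P : Subgroup G) ⊔ H
        exact mul_mem (mul_mem (Subgroup.mem_sup_right h.2) (Subgroup.mem_sup_left ha))
          (Subgroup.mem_sup_right (H.inv_mem h.2))
    obtain ⟨⟨c, hcK⟩, hc⟩ := MulAction.exists_smul_eq K
      (((MulAut.conj (h : G)) • P : Sylow p G).subtype hQK) (P.subtype hPK)
    obtain ⟨π, hπ, h'', hh'', rfl⟩ := Subgroup.mem_sup_of_normal_right.1 hcK.2
    have hn : ∀ z ∈ (P : Subgroup G),
        (π * h'') * ((h : G) * z * (h : G)⁻¹) * (π * h'')⁻¹ ∈ (P : Subgroup G) := by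
      intro z hz
      have hmem : (⟨(h : G) * z * (h : G)⁻¹, hQK ⟨z, hz, rfl⟩⟩ : K) ∈
          ((((MulAut.conj (h : G)) • P : Sylow p G).subtype hQK : Sylow p K) : Subgroup K) :=
        ⟨z, hz, rfl⟩
      have := Subgroup.smul_mem_pointwise_smul _ (MulAut.conj (⟨π * h'', hcK⟩ : K)) _ hmem
      rw [← Sylow.pointwise_smul_def, ← Sylow.smul_def, hc] at this
      exact this
    have hg : h'' * (h : G) ∈ Subgroup.normalizer ((P : Subgroup G) : Set G) := by
      rw [Subgroup.mem_normalizer_iff_map_conj_eq]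
      refine Subgroup.eq_of_le_of_card_ge ?_ (le_of_eq (Subgroup.card_map_of_injective
        (MulEquiv.injective _)).symm)
      rintro _ ⟨z, hz, rfl⟩
      have h1 := mul_mem (mul_mem ((P : Subgroup G).inv_mem hπ) (hn z hz)) hπ
      change h'' * (h : G) * z * (h'' * (h : G))⁻¹ ∈ (P : Subgroup G)
      convert h1 using 1
      group
    have hcomm : ∀ z ∈ (P : Subgroup G),
        h'' * (h : G) * z * (h'' * (h : G))⁻¹ * z⁻¹ ∈ R := by
      intro z hz
      refine ⟨mul_mem ((Subgroup.mem_normalizer_iff.1 hg z).1 hz) ((P : Subgroup G).inv_mem hz), ?_⟩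
      have hgH : h'' * (h : G) ∈ H := mul_mem hh'' h.2
      have := mul_mem hgH ((‹H.Normal›).conj_mem _ (inv_mem hgH) z)
      simpa [mul_assoc] using this
    have hcent := centralizes_of_pow_congr P hP hg (Or.inr ⟨R, hlt, hcomm⟩)
    have hyR : (y : G) ∈ R := ⟨(hPH' y).1 hy, y.2⟩
    refine Subtype.ext ?_
    change (y : G) * h = h * y
    -- `π * h''` and `h'' * h` centralize `y`
    have e1 : π * h'' * (y : G) = (y : G) * (π * h'') :=
      (Subgroup.mem_centralizer_iff.1 hcK.1 y hyR).symm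
    have e2 : h'' * (h : G) * y = y * (h'' * (h : G)) :=
      mul_inv_eq_iff_eq_mul.1 (hcent y hyR.1)
    have e3 : π * (y : G) = y * π := (Subgroup.mem_centralizer_iff.1 (hPC hπ) y hyR).symm
    have e4 : h'' * (y : G) = y * h'' := by
      refine mul_left_cancel (a := π) ?_
      rw [← mul_assoc, e1, ← mul_assoc π y, e3, mul_assoc]
    refine mul_left_cancel (a := h'') ?_
    rw [← mul_assoc, e4, mul_assoc, ← e2, mul_assoc]
  refine ⟨hnc, ?_⟩
  rw [CfsgLib.Transfer.hasNormalPComplement_iff] at hnc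
  haveI := CfsgLib.Transfer.pResidual_characteristic (G := H) (p := p)
  set O := (Cfsg.pResidual p H).map H.subtype with hO
  haveI : O.Normal := inferInstance
  have hOs : Cfsg.IsPSolvable p O := CfsgLib.PCore.isPSolvable_of_coprime
    (CfsgLib.PCore.coprime_of_not_dvd_card (by
      rwa [hO, Subgroup.card_map_of_injective H.subtype_injective]))
  refine CfsgLib.PCore.isPSolvable_extension O hOs ?_
  have hsurj := QuotientGroup.mk'_surjective O
  haveI : (H.map (QuotientGroup.mk' O)).Normal := Subgroup.Normal.map inferInstance _ hsurj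
  refine isPSolvable_of_cyclic_sylow (P.mapSurjective hsurj) ?_ (H.map (QuotientGroup.mk' O)) ?_ ?_
  · haveI := hP
    exact isCyclic_of_surjective ((QuotientGroup.mk' O).subgroupMap P) (MonoidHom.subgroupMap_surjective _ _)
  · rw [Ne, Subgroup.map_eq_bot_iff, QuotientGroup.ker_mk']
    intro hle
    have hc := Subgroup.card_dvd_of_le hle
    rw [hO, Subgroup.card_map_of_injective H.subtype_injective] at hc
    exact hnc (h1.trans hc)
  · rintro ⟨_, x, hx, rfl⟩
    obtain ⟨k, hk⟩ := CfsgLib.Transfer.exists_pow_mem_pResidual (p := p) (⟨x, hx⟩ : H)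
    refine ⟨k, Subtype.ext ?_⟩
    change ((x : G) : G ⧸ O) ^ p ^ k = 1
    rw [← QuotientGroup.mk_pow, QuotientGroup.eq_one_iff]
    exact ⟨_, hk, rfl⟩

end Cfsg.Agent.S4145
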