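import Cfsg.Statements.S4149
import Cfsg.Agent.Lib.ClassPrimes.Basic

set_option autoImplicit false
open Cfsg

namespace Cfsg.Agent.S4149

/-- Let G be a finite group that has a normal p-complement for at most one prime p dividing its order, and let σ be a natural number such that every conjugacy class size of G has at most σ distinct prime divisors. Then the number of primes dividing at least one conjugacy class size of G is at most 2σ. -/
theorem result {G : Type*} [Group G] [Finite G] (σ : ℕ)
    (hσ : ∀ x : G, ((Subgroup.centralizer ({x} : Set G)).index).primeFactors.card ≤ σ)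
    (hnil : ∀ p q : ℕ, p.Prime → q.Prime → p ∣ Nat.card G → q ∣ Nat.card G →
      Cfsg.HasNormalPComplement p G → Cfsg.HasNormalPComplement q G → p = q) :
    Nat.card {p : ℕ | p.Prime ∧ ∃ x : G, p ∣ (Subgroup.centralizer ({x} : Set G)).index} ≤ 2 * σ := by
  classical
  haveI := Fintype.ofFinite G
  by_contra hlt
  push Not at hlt
  set V := {p : ℕ | p.Prime ∧ ∃ x : G, p ∣ (Subgroup.centralizer ({x} : Set G)).index} with hV
  have hfin : V.Finite := (Nat.card G).primeFactors.finite_toSet.subset fun p hp =>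
    Nat.mem_primeFactors.mpr ⟨hp.1, hp.2.choose_spec.trans (Subgroup.index_dvd_card _), Nat.card_pos.ne'⟩
  set W := hfin.toFinset with hW
  rw [Nat.card_coe_set_eq, Set.ncard_eq_toFinset_card V hfin, ← hW] at hlt
  have hWmem : ∀ {p : ℕ}, p ∈ W → p.Prime ∧ CfsgLib.ClassPrimes.Vert G p := fun hp => hfin.mem_toFinset.mp hp
  let c : ℕ → Finset G := fun p => Finset.univ.filter fun x => x ≠ 1 ∧ ¬ p ∣ CfsgLib.ClassGraph.idx x
  -- lower bound: each non-identity element is counted at least `#V - σ` times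
  have hlow : (Finset.univ.erase (1 : G)).card * (W.card - σ) ≤ ∑ p ∈ W, (c p).card := by
    simp only [c, Finset.card_filter]
    rw [Finset.sum_comm, ← smul_eq_mul, ← Finset.sum_const]
    refine le_trans (Finset.sum_le_sum fun x hx => ?_) (Finset.sum_le_sum_of_subset (Finset.subset_univ _))
    rw [← Finset.card_filter]
    have h1 := (Finset.card_le_card (show W.filter (fun p => p ∣ CfsgLib.ClassGraph.idx x) ⊆
        ((Subgroup.centralizer ({x} : Set G)).index).primeFactors from fun p hp => by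
      rw [Finset.mem_filter] at hp
      exact Nat.mem_primeFactors.mpr ⟨(hWmem hp.1).1, hp.2, Subgroup.index_ne_zero_of_finite⟩)).trans (hσ x)
    have h2 := W.card_filter_add_card_filter_not (fun p => p ∣ CfsgLib.ClassGraph.idx x)
    have h3 : W.filter (fun p => ¬ p ∣ CfsgLib.ClassGraph.idx x) =
        W.filter (fun p => x ≠ 1 ∧ ¬ p ∣ CfsgLib.ClassGraph.idx x) :=
      Finset.filter_congr fun p _ => by simp [(Finset.mem_erase.mp hx).1]
    rw [← h3]
    omega
  -- upper bounds
  have hcov : ∀ p ∈ W, (2 * (c p).card + 2 ≤ Nat.card G) ∨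
      (CfsgLib.ClassPrimes.Good G p ∧ (c p).card + 2 ≤ Nat.card G) := by
    intro p hp
    obtain ⟨hpp, hv⟩ := hWmem hp
    haveI := Fact.mk hpp
    by_cases hg : CfsgLib.ClassPrimes.Good G p
    · refine Or.inr ⟨hg, ?_⟩
      obtain ⟨x, hx⟩ := hv
      have hx1 : x ≠ 1 := by
        rintro rfl
        exact hpp.not_dvd_one (by rwa [CfsgLib.ClassGraph.idx_eq_one_iff.mpr (one_mem _)] at hx)
      have h1 : c p ⊆ (Finset.univ.erase (1 : G)).erase x := fun a ha => by
        rw [Finset.mem_filter] at ha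
        exact Finset.mem_erase.mpr ⟨fun e => ha.2.2 (e ▸ hx), Finset.mem_erase.mpr ⟨ha.2.1, Finset.mem_univ _⟩⟩
      have h2 := Finset.card_le_card h1
      have hx' : x ∈ Finset.univ.erase (1 : G) := Finset.mem_erase.mpr ⟨hx1, Finset.mem_univ _⟩
      have h3 := Finset.card_pos.mpr ⟨x, hx'⟩
      rw [Finset.card_erase_of_mem hx'] at h2
      rw [Finset.card_erase_of_mem (Finset.mem_univ _)] at h2 h3
      rw [Nat.card_eq_fintype_card, ← Finset.card_univ]
      omega
    · refine Or.inl ?_
      let P : Sylow p G := default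
      have h1 := CfsgLib.ClassPrimes.two_mul_ncard_covered (P : Subgroup G) fun hle => hg ⟨P, hle⟩
      have h2 : ((c p : Finset G) : Set G) ⊆ CfsgLib.ClassPrimes.covered (P : Subgroup G) \ {1} := by
        intro a ha
        rw [Finset.mem_coe, Finset.mem_filter] at ha
        exact ⟨CfsgLib.ClassPrimes.exists_conj_mem_cent P ha.2.2, ha.2.1⟩
      have h3 := Set.ncard_le_ncard h2
      rw [Set.ncard_coe_finset] at h3
      omega
  set B := W.filter fun p => CfsgLib.ClassPrimes.Good G p with hB
  have hBone : B.card ≤ 1 := Finset.card_le_one.mpr fun p hp q hq => by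
    rw [hB, Finset.mem_filter] at hp hq
    obtain ⟨hpp, hvp⟩ := hWmem hp.1
    obtain ⟨hqp, hvq⟩ := hWmem hq.1
    haveI := Fact.mk hpp
    haveI := Fact.mk hqp
    obtain ⟨P, hP⟩ := hp.2
    obtain ⟨Q, hQ⟩ := hq.2
    exact hnil p q hpp hqp (hvp.choose_spec.trans (Subgroup.index_dvd_card _))
      (hvq.choose_spec.trans (Subgroup.index_dvd_card _))
      (CfsgLib.Transfer.hasNormalPComplement_of_normalizer_le P hP)
      (CfsgLib.Transfer.hasNormalPComplement_of_normalizer_le Q hQ)
  have hup : 2 * (∑ p ∈ W, (c p).card) ≤ (W.card + B.card) * (Nat.card G - 2) := by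
    rw [Finset.mul_sum, ← Finset.sum_filter_add_sum_filter_not W (fun p => CfsgLib.ClassPrimes.Good G p), ← hB]
    have h1 : ∀ p ∈ B, 2 * (c p).card ≤ 2 * (Nat.card G - 2) := fun p hp => by
      rcases hcov p (Finset.mem_filter.mp hp).1 with h | ⟨-, h⟩ <;> omega
    have h2 : ∀ p ∈ W.filter (fun p => ¬ CfsgLib.ClassPrimes.Good G p), 2 * (c p).card ≤ Nat.card G - 2 := fun p hp => by
      rw [Finset.mem_filter] at hp
      rcases hcov p hp.1 with h | ⟨h, -⟩
      · omega
      · exact absurd h hp.2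
    refine (Nat.add_le_add (Finset.sum_le_card_nsmul _ _ _ h1) (Finset.sum_le_card_nsmul _ _ _ h2)).trans (le_of_eq ?_)
    have h3 := W.card_filter_add_card_filter_not (fun p => CfsgLib.ClassPrimes.Good G p)
    rw [← hB] at h3
    rw [smul_eq_mul, smul_eq_mul, ← h3]
    ring
  rw [Finset.card_erase_of_mem (Finset.mem_univ _), Finset.card_univ, ← Nat.card_eq_fintype_card] at hlow
  obtain ⟨p₀, hp₀⟩ := Finset.card_pos.mp (by omega : 0 < W.card)
  have hG2 : 2 ≤ Nat.card G := by rcases hcov p₀ hp₀ with h | ⟨-, h⟩ <;> omega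
  have h4 : W.card + 1 ≤ 2 * (W.card - σ) := by omega
  have h5 : (W.card + 1) * (Nat.card G - 1) ≤ (W.card + 1) * (Nat.card G - 2) :=
    calc (W.card + 1) * (Nat.card G - 1) ≤ 2 * (W.card - σ) * (Nat.card G - 1) := Nat.mul_le_mul_right _ h4
      _ = 2 * ((Nat.card G - 1) * (W.card - σ)) := by ring
      _ ≤ 2 * (∑ p ∈ W, (c p).card) := Nat.mul_le_mul_left _ hlow
      _ ≤ (W.card + B.card) * (Nat.card G - 2) := hup
      _ ≤ (W.card + 1) * (Nat.card G - 2) := Nat.mul_le_mul_right _ (by omega)
  have := Nat.le_of_mul_le_mul_left h5 (Nat.succ_pos _)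
  omega

end Cfsg.Agent.S4149
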