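import Cfsg.Statements.S4150
import Cfsg.Agent.Lib.PermGroup.PrimeCycleGen
import Cfsg.Agent.Lib.NumberTheory.PrimesInInterval
-- import your own Cfsg.Agent.* helpers here

set_option autoImplicit false
open Cfsg

namespace Cfsg.Agent.S4150

/-- Let m ≥ 5. Then there are primes p < q with m/2 ≤ p and q ≤ m such that any two elements x, y of the alternating group of degree m with x of order p and y of order q generate a subgroup isomorphic to an alternating group of some degree d ≥ 5. -/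
theorem result (m : ℕ) (hm : 5 ≤ m) :
    ∃ p q : ℕ, p.Prime ∧ q.Prime ∧ m ≤ 2 * p ∧ p < q ∧ q ≤ m ∧
      ∀ x y : alternatingGroup (Fin m), orderOf x = p → orderOf y = q →
        ∃ d : ℕ, 5 ≤ d ∧ Nonempty (Subgroup.closure ({x, y} : Set (alternatingGroup (Fin m))) ≃* alternatingGroup (Fin d)) := by
  by_cases h18 : 18 ≤ m
  · obtain ⟨p, r, q, hp, hr, hq, h1, h2, h3, h4⟩ :=
      CfsgLib.NumberTheory.three_primes (m / 2) (by omega)
    have hr2 : r ≠ 2 := by omega
    have hq2 : q ≠ 2 := by omega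
    have hp2 : p ≠ 2 := by omega
    have := Nat.odd_iff.1 (hp.odd_of_ne_two hp2)
    have := Nat.odd_iff.1 (hr.odd_of_ne_two hr2)
    have := Nat.odd_iff.1 (hq.odd_of_ne_two hq2)
    exact ⟨p, q, hp, hq, by omega, by omega, by omega, fun x y ox oy =>
      CfsgLib.PrimeCycleGen.gen_alternating_fin hp hq (by omega) (by omega) (by omega)
        (Or.inl ⟨by omega, fun h => by omega⟩) x y ox oy⟩
  push Not at h18
  have key : ∀ p q : ℕ, p.Prime → q.Prime → 3 ≤ p → p < q → q ≤ m → m ≤ 2 * p →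
      ((p + 4 ≤ q ∧ (m = 2 * p → q + 3 ≤ 2 * p)) ∨ (p = 3 ∧ q = 5) ∨ (p = 5 ∧ q = 7) ∨
        (p = 11 ∧ q = 13 ∧ m < 22)) →
      ∃ p q : ℕ, p.Prime ∧ q.Prime ∧ m ≤ 2 * p ∧ p < q ∧ q ≤ m ∧
        ∀ x y : alternatingGroup (Fin m), orderOf x = p → orderOf y = q →
          ∃ d : ℕ, 5 ≤ d ∧
            Nonempty (Subgroup.closure ({x, y} : Set (alternatingGroup (Fin m))) ≃* alternatingGroup (Fin d)) :=
    fun p q hp hq hp3 hpq hqm hmp hcase => ⟨p, q, hp, hq, hmp, hpq, hqm, fun x y ox oy =>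
      CfsgLib.PrimeCycleGen.gen_alternating_fin hp hq hp3 hpq hmp hcase x y ox oy⟩
  rcases le_or_gt m 6 with h | h
  · exact key 3 5 Nat.prime_three Nat.prime_five le_rfl (by norm_num) hm (by omega) (Or.inr (Or.inl ⟨rfl, rfl⟩))
  rcases le_or_gt m 10 with h' | h'
  · exact key 5 7 Nat.prime_five (by norm_num) (by norm_num) (by norm_num) h (by omega)
      (Or.inr (Or.inr (Or.inl ⟨rfl, rfl⟩)))
  rcases le_or_gt m 14 with h'' | h''
  · exact key 7 11 (by norm_num) (by norm_num) (by norm_num) (by norm_num) (by omega) (by omega)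
      (Or.inl ⟨by norm_num, fun h => by omega⟩)
  rcases le_or_gt m 16 with h3 | h3
  · exact key 11 13 (by norm_num) (by norm_num) (by norm_num) (by norm_num) (by omega) (by omega)
      (Or.inr (Or.inr (Or.inr ⟨rfl, rfl, by omega⟩)))
  exact key 11 17 (by norm_num) (by norm_num) (by norm_num) (by norm_num) (by omega) (by omega)
    (Or.inl ⟨by norm_num, fun h => by omega⟩)

end Cfsg.Agent.S4150
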