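import Cfsg.Statements.S4151
import Cfsg.Agent.Lib.Structure81.TIHall
import Cfsg.Agent.Lib.Structure81.ZGroupCoprime

set_option autoImplicit false
open Cfsg
open scoped commutatorElement

namespace Cfsg.Agent.S4151

/-- Let G be a finite group and H a non-normal subgroup meeting each of its conjugates by elements outside N_G(H) trivially, with the order of H coprime to its index in N_G(H), such that G is π-separable for π the set of primes dividing the order of H (G has a chain of normal subgroups from 1 to G each of whose factors has order divisible only by primes dividing the order of H or coprime to it). Suppose a Sylow 2-subgroup of H is abelian and Q is a complement of H in N_G(H). Then C_H(Q), the subgroup of elements of H commuting with Q, has order coprime to its index in G and has a normal complement in G. -/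
theorem result {G : Type*} [Group G] [Finite G] (H : Subgroup G)
    (hTI : Cfsg.IsTISubset (H : Set G)) (hnn : ¬ H.Normal)
    (hHall : (Nat.card H).Coprime (H.subgroupOf (Subgroup.normalizer (H : Set G))).index)
    (hsep : ∃ (n : ℕ) (M : Fin (n + 1) → Subgroup G), M 0 = ⊥ ∧ M (Fin.last n) = ⊤ ∧ Monotone M ∧ (∀ i, (M i).Normal) ∧
      ∀ i : Fin n, (∀ q : ℕ, q.Prime → q ∣ (M i.castSucc).relIndex (M i.succ) → q ∣ Nat.card H) ∨
        ((M i.castSucc).relIndex (M i.succ)).Coprime (Nat.card H))
    (h2 : ∀ P : Sylow 2 H, IsMulCommutative (P : Subgroup H))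
    (Q : Subgroup G) (hQ : Q ≤ Subgroup.normalizer (H : Set G)) (hQH : Q ⊓ H = ⊥) (hQH' : Q ⊔ H = Subgroup.normalizer (H : Set G)) :
    (Nat.card ↥(H ⊓ Subgroup.centralizer (Q : Set G))).Coprime (H ⊓ Subgroup.centralizer (Q : Set G)).index ∧
    ∃ N : Subgroup G, N.Normal ∧ N.IsComplement' (H ⊓ Subgroup.centralizer (Q : Set G)) := by
  open Subgroup in
  classical
  have hcop := CfsgLib.TIHall.coprime_index hTI hHall
  obtain ⟨K, hKn, hKc, hKtop⟩ := CfsgLib.TIHall.exists_supplement hTI hnn hcop hsep
  haveI := hKn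
  have hKH : ¬ K ≤ centralizer (H : Set G) := fun h => hnn <| by
    rw [← normalizer_eq_top_iff, ← top_le_iff, ← hKtop]
    exact sup_le (h.trans fun k hk => mem_normalizer_iff.mpr fun y => by
      constructor
      · intro hy
        rw [← mem_centralizer_iff.mp hk y hy, mul_inv_cancel_right]
        exact hy
      · intro hy
        have h1 := mem_centralizer_iff.mp hk _ hy
        rw [inv_mul_cancel_right] at h1
        exact (mul_left_cancel h1).symm ▸ hy) le_rfl
  haveI : IsZGroup H := CfsgLib.TIHall.isZGroup hTI hKc hKH h2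
  -- orders
  have hQc : (Nat.card Q).Coprime (Nat.card H) := by
    have h1 := CfsgLib.Coprime.card_sup_of_disjoint hQ (inf_comm Q H ▸ hQH)
    rw [hQH', ← (H.subgroupOf (normalizer (H : Set G))).card_mul_index,
      Nat.card_congr (subgroupOfEquivOfLe le_normalizer).toEquiv, mul_comm (Nat.card Q)] at h1
    rw [← Nat.eq_of_mul_eq_mul_left Nat.card_pos h1]
    exact hHall.symm
  set C := H ⊓ centralizer (Q : Set G) with hCdef
  obtain ⟨D, hD⟩ : ∃ D : Subgroup G, D = ⁅H, Q⁆ := ⟨_, rfl⟩
  have hDC : (Nat.card D).Coprime (Nat.card C) :=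
    hD ▸ CfsgLib.ZGroupCoprime.coprime_commutator_centralizer Q H hQ hQc
  have hDH : D ≤ H := hD ▸ CfsgLib.Coprime.commutator_le_of_normalizes hQ
  have hDCH : D ⊔ C = H := hD ▸
    CfsgLib.Coprime.commutator_sup_centralizer Q H hQ hQc (Or.inr inferInstance)
  have hHn : H ≤ normalizer (D : Set G) := hD ▸ CfsgLib.Coprime.le_normalizer_commutator_left H Q
  have hQn : Q ≤ normalizer (D : Set G) := hD ▸ CfsgLib.Coprime.le_normalizer_commutator_right H Q
  have hCn : C ≤ normalizer (D : Set G) := le_trans inf_le_left hHn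
  have hcardH : Nat.card H = Nat.card C * Nat.card D := by
    rw [← hDCH, sup_comm]
    exact CfsgLib.Coprime.card_sup_of_disjoint hCn (inf_eq_bot_of_coprime hDC)
  have hCH : C ≤ H := inf_le_left
  refine ⟨?_, ?_⟩
  · have h1 := relIndex_mul_relIndex (⊥ : Subgroup G) C H bot_le hCH
    simp only [relIndex_bot_left] at h1
    rw [← relIndex_mul_index hCH, Nat.eq_of_mul_eq_mul_left Nat.card_pos (h1.trans hcardH)]
    exact Nat.Coprime.mul_right hDC.symm (hcop.coprime_dvd_left (card_dvd_of_le hCH))
  -- the normal complement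
  obtain ⟨N, hN⟩ : ∃ N : Subgroup G, N = K ⊔ (Q ⊔ D) := ⟨_, rfl⟩
  have hHN : H ≤ normalizer (N : Set G) := by
    rw [le_normalizer_iff]
    intro h hh n hn
    have h1 : N ≤ N.comap (MulAut.conj h).toMonoidHom := by
      conv_lhs => rw [hN]
      refine sup_le ?_ (sup_le ?_ ?_)
      · intro k hk
        exact hN.ge (mem_sup_left (hKn.conj_mem k hk h))
      · intro q hq
        refine hN.ge (mem_sup_right ?_)
        have e : h * q * h⁻¹ = ⁅h, q⁆ * q := by
          simp [commutatorElement_def, mul_assoc]
        change h * q * h⁻¹ ∈ Q ⊔ D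
        rw [e]
        exact mul_mem (mem_sup_right (hD ▸ commutator_mem_commutator hh hq)) (mem_sup_left hq)
      · intro d hd
        exact hN.ge (mem_sup_right (mem_sup_right ((mem_normalizer_iff.mp (hHn hh) d).mp hd)))
    exact h1 hn
  have htop : ∀ S : Subgroup G, K ≤ S → Q ≤ S → H ≤ S → S = ⊤ := by
    intro S h1 h2 h3
    rw [← top_le_iff, ← hKtop, ← hQH']
    exact sup_le h1 (sup_le h2 h3)
  have hNn : N.Normal := by
    rw [← normalizer_eq_top_iff]
    exact htop _ ((hN ▸ le_sup_left : K ≤ N).trans le_normalizer)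
      ((hN ▸ le_sup_left.trans le_sup_right : Q ≤ N).trans le_normalizer) hHN
  refine ⟨N, hNn, ?_⟩
  haveI := hNn
  have hNC : (Nat.card N).Coprime (Nat.card C) := by
    rw [hN, sup_comm]
    refine Nat.Coprime.coprime_dvd_left (CfsgLib.Coprime.card_sup_dvd le_normalizer_of_normal) ?_
    refine Nat.Coprime.mul_left ?_ (hKc.coprime_dvd_right (card_dvd_of_le hCH))
    refine Nat.Coprime.coprime_dvd_left (CfsgLib.Coprime.card_sup_dvd hQn) ?_
    exact Nat.Coprime.mul_left (hQc.coprime_dvd_right (card_dvd_of_le hCH)) hDC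
  refine isComplement'_of_disjoint_and_mul_eq_univ
    (disjoint_iff.mpr (inf_eq_bot_of_coprime hNC)) ?_
  rw [← normal_mul, htop (N ⊔ C) ((hN ▸ le_sup_left : K ≤ N).trans le_sup_left)
    ((hN ▸ le_sup_left.trans le_sup_right : Q ≤ N).trans le_sup_left), coe_top]
  rw [← hDCH]
  exact sup_le_sup_right (hN ▸ le_sup_right.trans le_sup_right) _

end Cfsg.Agent.S4151
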