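import Cfsg.Statements.S4152
-- import your own Cfsg.Agent.* helpers here

set_option autoImplicit false
open Cfsg

namespace Cfsg.Agent.S4152

/-- `x` has order divisible only by primes in `π`. -/
def PiOrd {G : Type*} [Monoid G] (π : Set ℕ) (x : G) : Prop :=
  ∀ q : ℕ, q.Prime → q ∣ orderOf x → q ∈ π

lemma nat_split (π : Set ℕ) : ∀ n : ℕ, n ≠ 0 → ∃ A B : ℕ, A * B = n ∧ Nat.Coprime A B ∧
    (∀ q : ℕ, q.Prime → q ∣ A → q ∈ π) ∧ (∀ q : ℕ, q.Prime → q ∣ B → q ∉ π) := by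
  intro n
  induction n using Nat.recOnPrimeCoprime with
  | zero => intro h; exact absurd rfl h
  | prime_pow p k hp =>
    intro _
    by_cases hpi : p ∈ π
    · refine ⟨p ^ k, 1, mul_one _, Nat.coprime_one_right _, fun q hq hd => ?_, fun q hq hd => ?_⟩
      · rwa [(Nat.prime_dvd_prime_iff_eq hq hp).mp (hq.dvd_of_dvd_pow hd)]
      · exact absurd hd hq.not_dvd_one
    · refine ⟨1, p ^ k, one_mul _, Nat.coprime_one_left _, fun q hq hd => ?_, fun q hq hd => ?_⟩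
      · exact absurd hd hq.not_dvd_one
      · rwa [(Nat.prime_dvd_prime_iff_eq hq hp).mp (hq.dvd_of_dvd_pow hd)]
  | coprime a b ha hb hab iha ihb =>
    intro _
    obtain ⟨A, B, rfl, h1, h2, h3⟩ := iha (by omega)
    obtain ⟨C, D, rfl, k1, k2, k3⟩ := ihb (by omega)
    refine ⟨A * C, B * D, by ring, ?_, fun q hq hd => ?_, fun q hq hd => ?_⟩
    · apply Nat.coprime_of_dvd
      intro q hq hd1 hd2
      have hin : q ∈ π := (hq.dvd_mul.mp hd1).elim (h2 q hq) (k2 q hq)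
      exact (hq.dvd_mul.mp hd2).elim (fun h => h3 q hq h hin) (fun h => k3 q hq h hin)
    · exact (hq.dvd_mul.mp hd).elim (h2 q hq) (k2 q hq)
    · exact (hq.dvd_mul.mp hd).elim (h3 q hq) (k3 q hq)

lemma exists_pi_decomp {G : Type*} [Group G] [Finite G] (π : Set ℕ) (x : G) :
    ∃ a b : G, x = a * b ∧ a ∈ Subgroup.zpowers x ∧ b ∈ Subgroup.zpowers x ∧
      PiOrd π a ∧ PiOrd πᶜ b := by
  obtain ⟨A, B, hAB, hco, hA, hB⟩ := nat_split π (orderOf x) (orderOf_pos x).ne'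
  have hbez : (1 : ℤ) = (A : ℤ) * Nat.gcdA A B + (B : ℤ) * Nat.gcdB A B := by
    rw [← Nat.gcd_eq_gcd_ab, hco]; rfl
  refine ⟨x ^ ((B : ℤ) * Nat.gcdB A B), x ^ ((A : ℤ) * Nat.gcdA A B), ?_, ⟨_, rfl⟩, ⟨_, rfl⟩,
    ?_, ?_⟩
  · rw [← zpow_add, add_comm, ← hbez, zpow_one]
  · intro q hq hd
    refine hA q hq (hd.trans (orderOf_dvd_of_pow_eq_one ?_))
    rw [← zpow_natCast, ← zpow_mul,
      show (B : ℤ) * Nat.gcdB A B * (A : ℕ) = ((A * B : ℕ) : ℤ) * Nat.gcdB A B by push_cast; ring,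
      zpow_mul, zpow_natCast, hAB, pow_orderOf_eq_one, one_zpow]
  · intro q hq hd
    refine hB q hq (hd.trans (orderOf_dvd_of_pow_eq_one ?_))
    rw [← zpow_natCast, ← zpow_mul,
      show (A : ℤ) * Nat.gcdA A B * (B : ℕ) = ((A * B : ℕ) : ℤ) * Nat.gcdA A B by push_cast; ring,
      zpow_mul, zpow_natCast, hAB, pow_orderOf_eq_one, one_zpow]

lemma mem_zpowers_mul {G : Type*} [Group G] [Finite G] {π : Set ℕ} {a b : G} (hc : Commute a b)
    (ha : PiOrd π a) (hb : PiOrd πᶜ b) : a ∈ Subgroup.zpowers (a * b) := by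
  have hco : Nat.Coprime (orderOf b) (orderOf a) :=
    Nat.coprime_of_dvd fun q hq h1 h2 => hb q hq h1 (ha q hq h2)
  have hbez : (1 : ℤ) = (orderOf b : ℤ) * Nat.gcdA (orderOf b) (orderOf a) +
      (orderOf a : ℤ) * Nat.gcdB (orderOf b) (orderOf a) := by
    rw [← Nat.gcd_eq_gcd_ab, hco]; rfl
  have h : (a * b) ^ orderOf b = a ^ orderOf b := by
    rw [hc.mul_pow, pow_orderOf_eq_one, mul_one]
  refine ⟨(orderOf b : ℤ) * Nat.gcdA (orderOf b) (orderOf a), ?_⟩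
  show (a * b) ^ _ = a
  conv_rhs => rw [← zpow_one a, hbez, zpow_add, zpow_mul, zpow_mul, zpow_natCast, zpow_natCast,
    pow_orderOf_eq_one, one_zpow, mul_one]
  rw [zpow_mul, zpow_natCast, h]

lemma PiOrd.mul {G : Type*} [Group G] {π : Set ℕ} {a b : G} (ha : PiOrd π a)
    (hb : PiOrd π b) (hc : Commute a b) : PiOrd π (a * b) := fun q hq hd => by
  have h : q ∣ orderOf a * orderOf b :=
    hd.trans (hc.orderOf_mul_dvd_lcm.trans (Nat.lcm_dvd_mul _ _))
  exact (hq.dvd_mul.mp h).elim (ha q hq) (hb q hq)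

lemma PiOrd.inv {G : Type*} [Group G] {π : Set ℕ} {a : G} (ha : PiOrd π a) :
    PiOrd π a⁻¹ := fun q hq hd => ha q hq (by rwa [orderOf_inv] at hd)

lemma pi_decomp_unique {G : Type*} [Group G] [Finite G] {π : Set ℕ} {a b a₁ b₁ : G}
    (hc : Commute a b) (hc₁ : Commute a₁ b₁) (ha : PiOrd π a) (hb : PiOrd πᶜ b)
    (ha₁ : PiOrd π a₁) (hb₁ : PiOrd πᶜ b₁) (h : a * b = a₁ * b₁) : a = a₁ ∧ b = b₁ := by
  obtain ⟨i, hi⟩ := mem_zpowers_mul hc ha hb
  obtain ⟨j, hj⟩ := mem_zpowers_mul hc₁ ha₁ hb₁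
  simp only at hi hj
  have hb' : b = a⁻¹ * (a * b) := by group
  have hb₁' : b₁ = a₁⁻¹ * (a * b) := by rw [h]; group
  rw [← h] at hj
  have hpow : ∀ k l : ℤ, Commute ((a * b) ^ k) ((a * b) ^ l) := fun k l =>
    Commute.zpow_zpow_self _ k l
  have hbp : b = (a * b) ^ (-i + 1) := by rw [zpow_add, zpow_neg, hi, zpow_one, ← hb']
  have hb₁p : b₁ = (a * b) ^ (-j + 1) := by rw [zpow_add, zpow_neg, hj, zpow_one, ← hb₁']
  have h1 : PiOrd π (a₁⁻¹ * a) := ha₁.inv.mul ha (by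
    refine Commute.inv_left ?_
    rw [← hi, ← hj]; exact hpow _ _)
  have h2 : PiOrd πᶜ (b₁ * b⁻¹) := hb₁.mul hb.inv (by
    refine Commute.inv_right ?_
    rw [hbp, hb₁p]; exact hpow _ _)
  have he : a₁⁻¹ * a = b₁ * b⁻¹ := by
    rw [eq_mul_inv_iff_mul_eq, mul_assoc, h]; group
  have hone : orderOf (a₁⁻¹ * a) = 1 := by
    by_contra hne
    obtain ⟨q, hq, hd⟩ := Nat.exists_prime_and_dvd hne
    exact h2 q hq (he ▸ hd) (h1 q hq hd)
  have haa : a₁ = a := inv_mul_eq_one.mp (orderOf_eq_one_iff.mp hone)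
  exact ⟨haa.symm, mul_left_cancel (h.trans (by rw [haa]))⟩

lemma orderOf_conj' {G : Type*} [Group G] (g x : G) : orderOf (g * x * g⁻¹) = orderOf x := by
  simpa [MulAut.conj_apply] using
    orderOf_injective (MulAut.conj g).toMonoidHom (MulAut.conj g).injective x

lemma pred_mk_iff {G : Type*} [Group G] (π : Set ℕ) (x : G) :
    (∀ q : ℕ, q.Prime → (∃ g : G, ConjClasses.mk g = ConjClasses.mk x ∧ q ∣ orderOf g) → q ∈ π)
      ↔ PiOrd π x := by
  refine ⟨fun h q hq hd => h q hq ⟨x, rfl, hd⟩, fun h q hq hg => ?_⟩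
  obtain ⟨g, hg, hd⟩ := hg
  obtain ⟨t, ht⟩ := isConj_iff.mp (ConjClasses.mk_eq_mk_iff_isConj.mp hg)
  exact h q hq (by rwa [← ht, orderOf_conj'])

/-- Conjugation of `H` (through `φ`) on an invariant subset of `G`. -/
@[reducible] def conjActionOn {H G : Type*} [Group H] [Group G] (φ : H →* G) (P : G → Prop)
    (hP : ∀ h x, P x → P (φ h * x * (φ h)⁻¹)) : MulAction H {x : G // P x} where
  smul h x := ⟨φ h * x.1 * (φ h)⁻¹, hP h x.1 x.2⟩
  one_smul x := Subtype.ext (show φ 1 * x.1 * (φ 1)⁻¹ = x.1 by simp)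
  mul_smul h k x := Subtype.ext
    (show φ (h * k) * x.1 * (φ (h * k))⁻¹ = φ h * (φ k * x.1 * (φ k)⁻¹) * (φ h)⁻¹ by
      rw [map_mul]; group)

/-- The classes of `G` in a given coset (as a class of `G ⧸ N`) have at most `k_π(N)` members. -/
lemma coset_pairs_le {G : Type*} [Group G] [Finite G] (N : Subgroup G) [N.Normal] (π : Set ℕ)
    (c : G ⧸ N) :
    Nat.card {z : N × {y : G // (y : G ⧸ N) = c ∧ PiOrd π y} //
        (z.1 : G) * z.2.1 * (z.1 : G)⁻¹ = z.2.1} ≤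
      Nat.card {w : N × {m : N // PiOrd π m} // w.1 * w.2.1 * w.1⁻¹ = w.2.1} := by
  classical
  let M := {v : {m : N // PiOrd π m} × G // (v.2 : G ⧸ N) = c ∧ Commute ((v.1.1 : N) : G) v.2}
  have dec : ∀ n : N, ∃ a b : N, n = a * b ∧ a ∈ Subgroup.zpowers n ∧ b ∈ Subgroup.zpowers n ∧
      PiOrd π a ∧ PiOrd πᶜ b := fun n => exists_pi_decomp π n
  choose A B hn hA hB hpA hpB using dec
  have hcomm : ∀ (n : N) (y : G), (n : G) * y * (n : G)⁻¹ = y →
      ∀ a ∈ Subgroup.zpowers n, Commute (a : G) y := by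
    intro n y h a ha
    obtain ⟨k, rfl⟩ := ha
    have : Commute (n : G) y := mul_inv_eq_iff_eq_mul.mp h
    simpa using this.zpow_left k
  refine le_trans (Nat.card_le_card_of_injective (β := M) (fun z => ⟨(⟨A z.1.1, hpA _⟩,
    z.1.2.1 * (B z.1.1 : G)), ?_, ?_⟩) ?_) ?_
  · rw [QuotientGroup.mk_mul, z.1.2.2.1, (QuotientGroup.eq_one_iff _).mpr (B z.1.1).2, mul_one]
  · refine (hcomm _ _ z.2 _ (hA _)).mul_right ?_
    obtain ⟨i, hi⟩ := hA z.1.1
    obtain ⟨j, hj⟩ := hB z.1.1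
    rw [← hi, ← hj]
    simpa using Commute.zpow_zpow_self (z.1.1 : G) i j
  · intro z z' h
    simp only [M, Subtype.mk.injEq, Prod.mk.injEq] at h
    obtain ⟨hAA, hyy⟩ := h
    have key : ∀ w : N, PiOrd πᶜ (B w : G) := fun w q hq hd => hpB w q hq
      (by rwa [Subgroup.orderOf_coe] at hd)
    obtain ⟨hy, hb⟩ := pi_decomp_unique (hcomm _ _ z.2 _ (hB _)).symm
      (hcomm _ _ z'.2 _ (hB _)).symm z.1.2.2.2 (key _) z'.1.2.2.2 (key _) hyy
    have hnn : z.1.1 = z'.1.1 := by rw [hn z.1.1, hn z'.1.1, hAA, Subtype.ext hb]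
    exact Subtype.ext (Prod.ext hnn (Subtype.ext hy))
  · let S : {m : N // PiOrd π m} → Prop := fun m => ∃ y : G, (y : G ⧸ N) = c ∧ Commute (m.1 : G) y
    have hS : ∀ v : M, S v.1.1 := fun v => ⟨v.1.2, v.2.1, v.2.2⟩
    choose y₀ hy₀ hc₀ using fun (m : {m // S m}) => m.2
    refine Nat.card_le_card_of_injective (fun v => ⟨(⟨(y₀ ⟨v.1.1, hS v⟩)⁻¹ * v.1.2, ?_⟩, v.1.1),
      ?_⟩) ?_
    · rw [← QuotientGroup.eq_one_iff, QuotientGroup.mk_mul, QuotientGroup.mk_inv, v.2.1,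
        hy₀, inv_mul_cancel]
    · apply Subtype.ext
      push_cast
      exact mul_inv_eq_iff_eq_mul.mpr ((hc₀ ⟨v.1.1, hS v⟩).inv_right.mul_right v.2.2).symm
    · intro v v' h
      simp only [Subtype.mk.injEq, Prod.mk.injEq] at h
      obtain ⟨h1, h2⟩ := h
      obtain ⟨⟨m, x⟩, hv⟩ := v
      obtain ⟨⟨m', x'⟩, hv'⟩ := v'
      subst h2
      exact Subtype.ext (Prod.ext rfl (mul_left_cancel h1))

/-- Let G be a finite group, N a normal subgroup and π a set of primes. Then the number of conjugacy classes of π-elements of G (elements whose order is divisible only by primes in π) is at most the number of conjugacy classes of π-elements of N (under conjugation by N) times the number of conjugacy classes of π-elements of G/N. -/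
theorem result {G : Type*} [Group G] [Finite G] (N : Subgroup G) [N.Normal] (π : Set ℕ) :
    Nat.card {C : ConjClasses G // ∀ q : ℕ, q.Prime → (∃ g : G, ConjClasses.mk g = C ∧ q ∣ orderOf g) → q ∈ π} ≤ Nat.card {C : ConjClasses N // ∀ q : ℕ, q.Prime → (∃ g : N, ConjClasses.mk g = C ∧ q ∣ orderOf g) → q ∈ π} * Nat.card {C : ConjClasses (G ⧸ N) // ∀ q : ℕ, q.Prime → (∃ g : (G ⧸ N), ConjClasses.mk g = C ∧ q ∣ orderOf g) → q ∈ π} := by
  classical
  let IN := {C : ConjClasses N //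
    ∀ q : ℕ, q.Prime → (∃ g : N, ConjClasses.mk g = C ∧ q ∣ orderOf g) → q ∈ π}
  let IQ := {C : ConjClasses (G ⧸ N) //
    ∀ q : ℕ, q.Prime → (∃ g : (G ⧸ N), ConjClasses.mk g = C ∧ q ∣ orderOf g) → q ∈ π}
  let rep : IQ → G ⧸ N := fun C => (ConjClasses.mk_surjective C.1).choose
  have hrep : ∀ C : IQ, ConjClasses.mk (rep C) = C.1 := fun C =>
    (ConjClasses.mk_surjective C.1).choose_spec
  let X : IQ → Type _ := fun C => {y : G // (y : G ⧸ N) = rep C ∧ PiOrd π y}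
  have hinv : ∀ (C : IQ) (h : N) (x : G), ((x : G ⧸ N) = rep C ∧ PiOrd π x) →
      ((((h : G) * x * (h : G)⁻¹ : G) : G ⧸ N) = rep C ∧ PiOrd π ((h : G) * x * (h : G)⁻¹)) := by
    intro C h x hx
    refine ⟨?_, fun q hq hd => hx.2 q hq (by rwa [orderOf_conj'] at hd)⟩
    rw [QuotientGroup.mk_mul, QuotientGroup.mk_mul, QuotientGroup.mk_inv,
      (QuotientGroup.eq_one_iff (h : G)).mpr h.2, one_mul, inv_one, mul_one, hx.1]
  letI act : ∀ C, MulAction N (X C) := fun C => conjActionOn N.subtype _ (hinv C)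
  letI actN : MulAction N {m : N // PiOrd π m} := conjActionOn (MonoidHom.id N) _
    (fun h x hx q hq hd => hx q hq (by rwa [orderOf_conj'] at hd))
  let O : IQ → Type _ := fun C => Quotient (MulAction.orbitRel N (X C))
  have hO : ∀ C, Nat.card (O C) ≤ Nat.card IN := by
    intro C
    refine le_trans ?_ (Nat.card_le_card_of_injective
      (α := Quotient (MulAction.orbitRel N {m : N // PiOrd π m}))
      (fun o => (⟨Quotient.liftOn o (fun m => ConjClasses.mk m.1) (fun m m' h => by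
        obtain ⟨n, hn⟩ := h
        exact (ConjClasses.mk_eq_mk_iff_isConj.mpr
          (isConj_iff.mpr ⟨n, congrArg Subtype.val hn⟩)).symm),
        Quotient.inductionOn o fun m => (pred_mk_iff π m.1).mpr m.2⟩ : IN)) ?_)
    · have e1 := Nat.card_congr (MulAction.sigmaFixedByEquivOrbitsProdGroup N (X C))
      have e2 := Nat.card_congr
        (MulAction.sigmaFixedByEquivOrbitsProdGroup N {m : N // PiOrd π m})
      rw [Nat.card_prod] at e1 e2
      refine Nat.le_of_mul_le_mul_right (c := Nat.card N) ?_ Nat.card_pos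
      rw [← e1, ← e2]
      refine le_trans (le_of_eq ?_) ((coset_pairs_le N π (rep C)).trans (le_of_eq ?_))
      · refine Nat.card_congr ⟨fun z => ⟨(z.1, z.2.1), congrArg Subtype.val z.2.2⟩,
          fun z => ⟨z.1.1, z.1.2, Subtype.ext z.2⟩, fun z => rfl, fun z => rfl⟩
      · refine Nat.card_congr ⟨fun z => ⟨z.1.1, z.1.2, Subtype.ext z.2⟩,
          fun z => ⟨(z.1, z.2.1), congrArg Subtype.val z.2.2⟩, fun z => rfl, fun z => rfl⟩
    · intro o o'
      refine Quotient.inductionOn₂ o o' fun m m' h => ?_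
      obtain ⟨t, ht⟩ := isConj_iff.mp
        (ConjClasses.mk_eq_mk_iff_isConj.mp (congrArg Subtype.val h).symm)
      exact Quotient.sound ⟨t, Subtype.ext ht⟩
  have := Fintype.ofFinite IQ
  calc _ ≤ Nat.card (Σ C : IQ, O C) := ?_
    _ = ∑ C : IQ, Nat.card (O C) := Nat.card_sigma
    _ ≤ ∑ _C : IQ, Nat.card IN := Finset.sum_le_sum fun C _ => hO C
    _ = _ := by
      rw [Finset.sum_const, Finset.card_univ, smul_eq_mul, ← Nat.card_eq_fintype_card, mul_comm]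
  refine Nat.card_le_card_of_surjective (fun z : Σ C : IQ, O C =>
    ⟨Quotient.liftOn z.2 (fun y => ConjClasses.mk y.1) (fun y y' h => by
      obtain ⟨n, hn⟩ := h
      exact (ConjClasses.mk_eq_mk_iff_isConj.mpr
        (isConj_iff.mpr ⟨(n : G), congrArg Subtype.val hn⟩)).symm),
      Quotient.inductionOn z.2 fun y => (pred_mk_iff π y.1).mpr y.2.2⟩) ?_
  rintro ⟨D, hD⟩
  obtain ⟨x, rfl⟩ := ConjClasses.mk_surjective D
  have hx : PiOrd π x := (pred_mk_iff π x).mp hD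
  let C : IQ := ⟨ConjClasses.mk (x : G ⧸ N), (pred_mk_iff π _).mpr fun q hq hd =>
    hx q hq (hd.trans (orderOf_map_dvd (QuotientGroup.mk' N) x))⟩
  obtain ⟨t, ht⟩ := isConj_iff.mp (ConjClasses.mk_eq_mk_iff_isConj.mp (hrep C).symm)
  obtain ⟨t, rfl⟩ := QuotientGroup.mk_surjective t
  refine ⟨⟨C, Quotient.mk _ ⟨t * x * t⁻¹, ?_, ?_⟩⟩, Subtype.ext ?_⟩
  · rw [QuotientGroup.mk_mul, QuotientGroup.mk_mul, QuotientGroup.mk_inv, ht]
  · intro q hq hd
    exact hx q hq (by rwa [orderOf_conj'] at hd)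
  · exact ConjClasses.mk_eq_mk_iff_isConj.mpr (isConj_iff.mpr ⟨t⁻¹, by group⟩)

end Cfsg.Agent.S4152
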