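import Cfsg.Statements.S4153
-- import your own Cfsg.Agent.* helpers here

set_option autoImplicit false
open Cfsg

namespace Cfsg.Agent.S4153

/-- Let G be a finite group, p a prime, N a normal subgroup, P a Sylow p-subgroup of G and P̄ a Sylow p-subgroup of G/N. Count the elements of p-power order, the identity included. Then (number of such elements of G/N)/#P̄ ≤ (number of such elements of G)/#P, stated as a cross-multiplied inequality, with equality when N is central. -/
theorem result {G : Type*} [Group G] [Finite G] (p : ℕ) [Fact p.Prime] (N : Subgroup G) [N.Normal]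
    (P : Sylow p G) (Pbar : Sylow p (G ⧸ N)) :
    Nat.card {g : (G ⧸ N) // ∃ k : ℕ, orderOf g = p ^ k} * Nat.card (P : Subgroup G) ≤ Nat.card {g : G // ∃ k : ℕ, orderOf g = p ^ k} * Nat.card (Pbar : Subgroup (G ⧸ N)) ∧
    (N ≤ Subgroup.center G → Nat.card {g : (G ⧸ N) // ∃ k : ℕ, orderOf g = p ^ k} * Nat.card (P : Subgroup G) = Nat.card {g : G // ∃ k : ℕ, orderOf g = p ^ k} * Nat.card (Pbar : Subgroup (G ⧸ N))) := by
  classical
  have : Fintype {g : (G ⧸ N) // ∃ k : ℕ, orderOf g = p ^ k} := Fintype.ofFinite _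
  have hmem : ∀ {X : Type _} [Group X] (Q : Sylow p X) (x : X), x ∈ (Q : Subgroup X) →
      ∃ k : ℕ, orderOf x = p ^ k := fun {X} _ Q x hx => by
    obtain ⟨k, hk⟩ := IsPGroup.iff_orderOf.1 Q.isPGroup' ⟨x, hx⟩
    exact ⟨k, by rwa [Subgroup.orderOf_mk] at hk⟩
  have hsurj := QuotientGroup.mk'_surjective N
  -- `|Q| = |Q̄| * |Q ∩ N|` for every Sylow subgroup `Q`
  have hQ : ∀ Q : Sylow p G, Nat.card (P : Subgroup G) =
      Nat.card (Pbar : Subgroup (G ⧸ N)) * Nat.card ↥(N ⊓ (Q : Subgroup G)) := by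
    intro Q
    have h1 : Nat.card ((Q : Subgroup G).map (QuotientGroup.mk' N)) = N.relIndex Q := by
      rw [← Subgroup.relIndex_ker, QuotientGroup.ker_mk']
    have h2 : Nat.card (Pbar : Subgroup (G ⧸ N)) =
        Nat.card ((Q : Subgroup G).map (QuotientGroup.mk' N)) := by
      rw [Pbar.card_eq_multiplicity, ← (Q.mapSurjective hsurj).card_eq_multiplicity]
      rfl
    have h3 := (N.subgroupOf Q).index_mul_card
    rw [P.card_eq_multiplicity, ← Q.card_eq_multiplicity, h2, h1, ← h3]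
    congr 1
    rw [← Subgroup.inf_subgroupOf_right]
    exact Nat.card_congr (Subgroup.subgroupOfEquivOfLe inf_le_right).toEquiv
  let f : {g : G // ∃ k : ℕ, orderOf g = p ^ k} → {g : (G ⧸ N) // ∃ k : ℕ, orderOf g = p ^ k} :=
    fun g => ⟨((g : G) : G ⧸ N), by
      obtain ⟨k, hk⟩ := g.2
      obtain ⟨j, -, hj⟩ := (Nat.dvd_prime_pow Fact.out).1
        (hk ▸ orderOf_map_dvd (QuotientGroup.mk' N) (g : G))
      exact ⟨j, hj⟩⟩
  set d := Nat.card ↥(N ⊓ (P : Subgroup G)) with hd
  have hlift : ∀ q : {g : (G ⧸ N) // ∃ k : ℕ, orderOf g = p ^ k}, ∃ (Q : Sylow p G) (g : G),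
      g ∈ (Q : Subgroup G) ∧ (g : G ⧸ N) = q := by
    rintro ⟨q, k, hk⟩
    have hz : IsPGroup p (Subgroup.zpowers q) :=
      IsPGroup.of_card (n := k) (by rw [Nat.card_zpowers, hk])
    obtain ⟨Q', hQ'⟩ := hz.exists_le_sylow
    obtain ⟨Q, hQQ⟩ := Sylow.mapSurjective_surjective hsurj p Q'
    have : q ∈ (Q : Subgroup G).map (QuotientGroup.mk' N) := by
      have h := hQ' (Subgroup.mem_zpowers q)
      rw [← hQQ] at h
      exact h
    obtain ⟨g, hg, hgq⟩ := this
    exact ⟨Q, g, hg, hgq⟩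
  have hd' : ∀ Q : Sylow p G, Nat.card ↥(N ⊓ (Q : Subgroup G)) = d := fun Q =>
    Nat.eq_of_mul_eq_mul_left Nat.card_pos ((hQ Q).symm.trans (hQ P))
  have hsum : Nat.card {g : G // ∃ k : ℕ, orderOf g = p ^ k} =
      ∑ q, Nat.card {g // f g = q} := by
    rw [← Nat.card_congr (Equiv.sigmaFiberEquiv f), Nat.card_sigma]
  have hmain : ∀ q, d ≤ Nat.card {g // f g = q} ∧
      (N ≤ Subgroup.center G → Nat.card {g // f g = q} = d) := by
    intro q
    obtain ⟨Q, g, hg, hgq⟩ := hlift q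
    let φ : ↥(N ⊓ (Q : Subgroup G)) → {x // f x = q} := fun n =>
      ⟨⟨g * (n : G), hmem Q _ (mul_mem hg n.2.2)⟩, by
        refine Subtype.ext ?_
        change ((g * (n : G) : G) : G ⧸ N) = (q : G ⧸ N)
        rw [QuotientGroup.mk_mul, (QuotientGroup.eq_one_iff (n : G)).2 n.2.1, mul_one, hgq]⟩
    have hinj : Function.Injective φ := fun a b hab => Subtype.ext
      (mul_left_cancel (show g * (a : G) = g * (b : G) from congrArg (fun x => x.1.1) hab))
    refine ⟨hd' Q ▸ Nat.card_le_card_of_injective φ hinj, fun hcen => ?_⟩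
    rw [← hd' Q]
    refine (Nat.card_congr (Equiv.ofBijective φ ⟨hinj, ?_⟩)).symm
    rintro ⟨⟨x, hxp⟩, hx⟩
    have hxN : g⁻¹ * x ∈ N := by
      rw [← QuotientGroup.eq, hgq]
      exact (congrArg Subtype.val hx).symm
    have hxQ : g⁻¹ * x ∈ (Q : Subgroup G) := by
      have hc : ∀ y : G, Commute y (g⁻¹ * x) := fun y => Subgroup.mem_center_iff.1 (hcen hxN) y
      obtain ⟨i, hi⟩ := hmem Q g hg
      obtain ⟨j, hj⟩ := hxp
      have hcgx : Commute g⁻¹ x := by
        refine Commute.inv_left ?_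
        have h := (hc g).eq
        rw [mul_inv_cancel_left] at h
        change g * x = x * g
        calc g * x = g * (g * (g⁻¹ * x)) := by group
          _ = g * ((g⁻¹ * x) * g) := by rw [(hc g).eq]
          _ = x * g := by group
      have hpow : (g⁻¹ * x) ^ p ^ (i + j) = 1 := by
        rw [hcgx.mul_pow, inv_pow]
        rw [orderOf_dvd_iff_pow_eq_one.1 (hi ▸ pow_dvd_pow p (Nat.le_add_right i j)),
          orderOf_dvd_iff_pow_eq_one.1 (hj ▸ pow_dvd_pow p (Nat.le_add_left j i))]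
        simp
      obtain ⟨l, -, hl⟩ := (Nat.dvd_prime_pow Fact.out).1 (orderOf_dvd_of_pow_eq_one hpow)
      have hz : IsPGroup p (Subgroup.zpowers (g⁻¹ * x)) :=
        IsPGroup.of_card (n := l) (by rw [Nat.card_zpowers, hl])
      haveI : (Subgroup.zpowers (g⁻¹ * x)).Normal := ⟨fun a ha y => by
        obtain ⟨z, rfl⟩ := Subgroup.mem_zpowers_iff.1 ha
        rw [((hc y).zpow_right z).eq, mul_inv_cancel_right]
        exact zpow_mem (Subgroup.mem_zpowers _) z⟩
      have := Q.is_maximal' (hz.to_sup_of_normal_left Q.isPGroup') le_sup_right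
      exact this ▸ Subgroup.mem_sup_left (Subgroup.mem_zpowers _)
    exact ⟨⟨g⁻¹ * x, hxN, hxQ⟩, Subtype.ext (Subtype.ext (mul_inv_cancel_left g x))⟩
  rw [hQ P, ← hd, hsum]
  constructor
  · calc _ = (∑ _q : {g : (G ⧸ N) // ∃ k : ℕ, orderOf g = p ^ k}, d) *
          Nat.card (Pbar : Subgroup (G ⧸ N)) := by
          rw [Finset.sum_const, Finset.card_univ, smul_eq_mul, ← Nat.card_eq_fintype_card]; ring
      _ ≤ _ := Nat.mul_le_mul_right _ (Finset.sum_le_sum fun q _ => (hmain q).1)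
  · intro hcen
    rw [Finset.sum_congr rfl (fun q _ => (hmain q).2 hcen), Finset.sum_const, Finset.card_univ,
      smul_eq_mul, ← Nat.card_eq_fintype_card]
    ring

end Cfsg.Agent.S4153
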