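import Cfsg.Statements.S4154
-- import your own Cfsg.Agent.* helpers here

set_option autoImplicit false
open Cfsg

namespace Cfsg.Agent.S4154

/-- Let G be a finite group and α an automorphism of G such that every element of G is the product of an element fixed by α and an element of the form g⁻¹α(g). If N is a normal α-invariant subgroup, then the automorphism ᾱ induced on G/N has the same property, and every coset fixed by ᾱ contains an element fixed by α (so the fixed points of ᾱ are the images of the fixed points of α). -/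
theorem result {G : Type*} [Group G] [Finite G] (α : MulAut G)
    (hccp : ∀ x : G, ∃ c g : G, α c = c ∧ x = c * (g⁻¹ * α g))
    (N : Subgroup G) [N.Normal] (hN : ∀ n ∈ N, α n ∈ N) :
    (∀ x : G, ∃ c g : G, c⁻¹ * α c ∈ N ∧ x⁻¹ * (c * (g⁻¹ * α g)) ∈ N) ∧
    (∀ x : G, x⁻¹ * α x ∈ N → ∃ c : G, α c = c ∧ c⁻¹ * x ∈ N) := by
  classical
  refine ⟨fun x => ?_, ?_⟩
  · obtain ⟨c, g, hc, hx⟩ := hccp x
    exact ⟨c, g, by simp [hc], by simp [← hx]⟩
  -- the fixed points and the elements fixed modulo `N`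
  let C : Subgroup G := MonoidHom.eqLocus α.toMonoidHom (MonoidHom.id G)
  have hC : ∀ x : G, x ∈ C ↔ α x = x := fun x => Iff.rfl
  let T : Subgroup G := MonoidHom.eqLocus
    ((QuotientGroup.mk' N).comp α.toMonoidHom) (QuotientGroup.mk' N)
  have hT : ∀ x : G, x ∈ T ↔ x⁻¹ * α x ∈ N := by
    intro x
    change ((α x : G) : G ⧸ N) = (x : G ⧸ N) ↔ _
    rw [eq_comm, QuotientGroup.eq]
  have hCT : C ⊔ N ≤ T := by
    refine sup_le (fun x hx => ?_) (fun x hx => ?_)
    · rw [hT, (hC x).1 hx]; simp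
    · rw [hT]; exact N.mul_mem (N.inv_mem hx) (hN x hx)
  -- counting: `G ⧸ (C ⊔ N)` is covered by the classes of `g⁻¹ * α g`
  have hconst : ∀ a b : G, a⁻¹ * b ∈ T →
      ((b * (α b)⁻¹ : G) : G ⧸ N) = (a * (α a)⁻¹ : G) := by
    intro a b hab
    obtain ⟨t, rfl⟩ : ∃ t, b = a * t := ⟨a⁻¹ * b, by group⟩
    rw [inv_mul_cancel_left] at hab
    have h1 : ((α t : G) : G ⧸ N) = (t : G ⧸ N) := hab
    simp only [map_mul, QuotientGroup.mk_mul, QuotientGroup.mk_inv, h1]
    group
  let Cbar : Subgroup (G ⧸ N) := C.map (QuotientGroup.mk' N)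
  let F' : (Cbar × (G ⧸ T)) → G ⧸ N := fun p => ((p.1 : G ⧸ N)) *
    Quotient.lift (fun a : G => ((a * (α a)⁻¹ : G) : G ⧸ N))
      (fun a b hab => (hconst a b (QuotientGroup.leftRel_apply.1 hab)).symm) p.2
  have hsurj : Function.Surjective F' := by
    intro q
    obtain ⟨y, rfl⟩ := QuotientGroup.mk_surjective q
    obtain ⟨c, g, hc, hy⟩ := hccp y
    refine ⟨(⟨(c : G ⧸ N), ⟨c, hc, rfl⟩⟩, QuotientGroup.mk g⁻¹), ?_⟩
    change (c : G ⧸ N) * ((g⁻¹ * (α g⁻¹)⁻¹ : G) : G ⧸ N) = (y : G ⧸ N)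
    rw [map_inv, inv_inv, ← QuotientGroup.mk_mul, hy]
  have hle := Nat.card_le_card_of_surjective F' hsurj
  rw [Nat.card_prod, ← Subgroup.index_eq_card, ← Subgroup.index_eq_card] at hle
  have h1 : Cbar.index = (C ⊔ N).index := by
    rw [Subgroup.index_map, QuotientGroup.ker_mk',
      MonoidHom.range_eq_top.2 (QuotientGroup.mk'_surjective N), Subgroup.index_top, mul_one]
  have h2 : Nat.card Cbar * Cbar.index = N.index := by
    rw [Cbar.card_mul_index, Subgroup.index_eq_card]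
  have h3 : (C ⊔ N).index ≤ T.index := by
    have h5 : Nat.card Cbar * (C ⊔ N).index ≤ Nat.card Cbar * T.index := by
      rw [← h1, h2]; exact hle
    exact Nat.le_of_mul_le_mul_left h5 (Nat.card_pos (α := Cbar))
  have h4 : T = C ⊔ N :=
    ((hCT.lt_or_eq.resolve_left fun hlt => absurd (Subgroup.index_strictAnti hlt) h3.not_gt)).symm
  intro x hx
  have hxm : x ∈ C ⊔ N := h4 ▸ (hT x).2 hx
  obtain ⟨c, hc, n, hn, rfl⟩ := Subgroup.mem_sup_of_normal_right.1 hxm
  exact ⟨c, (hC c).1 hc, by simpa using hn⟩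

end Cfsg.Agent.S4154
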