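import Cfsg.Statements.S4155
import Cfsg.Agent.Lib.Structure81.FPFPGroup
import Cfsg.Agent.Lib.Solvable.Fitting
import Cfsg.Agent.Lib.Struct77.Engel

set_option autoImplicit false
open Cfsg

set_option linter.style.haveILetI false

namespace Cfsg.Agent.S4155

/-- Let G be a finite group and N a proper non-trivial normal nilpotent subgroup whose order is not a prime power, such that for every x outside N all elements of the coset xN have the same order as x. Then N is the Fitting subgroup of G, and for every prime q every Sylow q-subgroup of G/N is cyclic or generalized quaternion. -/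
theorem result {G : Type*} [Group G] [Finite G] (N : Subgroup G) [N.Normal] (hN1 : N ≠ ⊥) (hN2 : N ≠ ⊤)
    (heq : ∀ x : G, x ∉ N → ∀ n ∈ N, orderOf (x * n) = orderOf x)
    (hnil : Group.IsNilpotent N) (hnpp : ¬ IsPrimePow (Nat.card N)) :
    N = Cfsg.fittingSubgroup G ∧
    ∀ (q : ℕ) [Fact q.Prime] (Q : Sylow q (G ⧸ N)), IsCyclic (Q : Subgroup (G ⧸ N)) ∨ ∃ n : ℕ, Nonempty ((Q : Subgroup (G ⧸ N)) ≃* QuaternionGroup (2 ^ n)) := by
  classical
  -- an element of prime power order outside `N` centralises no element of coprime prime order of `N`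
  have key : ∀ (q r : ℕ), q.Prime → r.Prime → r ≠ q → ∀ x : G, x ∉ N → (∃ k, orderOf x = q ^ k) →
      ∀ m ∈ N, (∃ k, orderOf m = r ^ k) → Commute x m → m = 1 := by
    intro q r hq hr hrq x hx hxq m hm hmr hxm
    obtain ⟨i, hi⟩ := hxq
    obtain ⟨j, hj⟩ := hmr
    have hcop : (orderOf x).Coprime (orderOf m) := by
      rw [hi, hj]
      exact Nat.Coprime.pow _ _ ((Nat.coprime_primes hq hr).2 hrq.symm)
    have h1 := hxm.orderOf_mul_eq_mul_orderOf_of_coprime hcop
    rw [heq x hx m hm] at h1
    exact orderOf_eq_one_iff.1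
      ((Nat.mul_eq_left (orderOf_pos x).ne').1 h1.symm)
  -- for every prime, `N` has an element of another prime order
  have hother : ∀ q : ℕ, ∃ r, r.Prime ∧ r ≠ q ∧ r ∣ Nat.card N := by
    intro q
    by_contra hcon
    push Not at hcon
    have h1 : 1 < Nat.card N := (Subgroup.one_lt_card_iff_ne_bot N).2 hN1
    obtain ⟨s, hs, hsd⟩ := Nat.exists_prime_and_dvd h1.ne'
    have hsq : s = q := by
      by_contra hne
      exact hcon s hs hne hsd
    subst hsq
    apply hnpp
    refine ⟨s, (Nat.card N).primeFactorsList.length, hs.prime, ?_, ?_⟩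
    · exact List.length_pos_of_mem ((Nat.mem_primeFactorsList h1.ne_bot).2 ⟨hs, hsd⟩)
    · exact (Nat.eq_prime_pow_of_unique_prime_dvd (by omega) fun {t} ht htd => by
        by_contra hne
        exact hcon t ht hne htd).symm
  constructor
  · refine le_antisymm (CfsgLib.Fitting.le_fitting inferInstance hnil) ?_
    haveI hFn := CfsgLib.Fitting.fitting_isNilpotent (G := G)
    set F := Cfsg.fittingSubgroup G
    have hNF : N ≤ F := CfsgLib.Fitting.le_fitting inferInstance hnil
    refine Subgroup.subgroupOf_eq_top.1 (CfsgLib.Fitting.eq_top_of_forall_sylow_le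
      fun q hq _ => ?_)
    have := Fact.mk hq
    obtain ⟨P⟩ := (inferInstance : Nonempty (Sylow q F))
    refine ⟨P, fun x hxP => ?_⟩
    rw [Subgroup.mem_subgroupOf]
    by_contra hxN
    obtain ⟨r, hr, hrq, hrd⟩ := hother q
    have := Fact.mk hr
    obtain ⟨m, hm⟩ := exists_prime_orderOf_dvd_card' (G := N) r hrd
    rw [← Subgroup.orderOf_coe] at hm
    obtain ⟨k, hk⟩ := IsPGroup.iff_orderOf.1 P.isPGroup' ⟨x, hxP⟩
    rw [Subgroup.orderOf_mk] at hk
    have hcomm : Commute x (⟨(m : G), hNF m.2⟩ : F) := by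
      apply CfsgLib.Engel.commute_of_coprime_nilpotent
      rw [hk, Subgroup.orderOf_mk, hm]
      exact Nat.Coprime.pow_left _ ((Nat.coprime_primes hq hr).2 hrq.symm)
    have hm1 := key q r hq hr hrq x hxN ⟨k, by rw [Subgroup.orderOf_coe]; exact hk⟩ m m.2
      ⟨1, by rw [hm, pow_one]⟩ (congrArg Subtype.val hcomm.eq)
    rw [hm1, orderOf_one] at hm
    exact hr.ne_one hm.symm
  · intro q hqF Q
    have hq : q.Prime := hqF.out
    obtain ⟨r, hr, hrq, hrd⟩ := hother q
    have := Fact.mk hr
    obtain ⟨S⟩ := (inferInstance : Nonempty (Sylow r N))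
    haveI : ((S : Subgroup N)).Characteristic := S.characteristic_of_normal inferInstance
    set R : Subgroup G := (S : Subgroup N).map N.subtype with hR
    haveI : R.Normal := inferInstance
    have hRN : R ≤ N := Subgroup.map_subtype_le _
    have hRp : IsPGroup r R := S.isPGroup'.map _
    haveI : Nontrivial R := (Subgroup.nontrivial_iff_ne_bot _).2 (fun h =>
      S.ne_bot_of_dvd_card hrd ((Subgroup.map_eq_bot_iff_of_injective _ N.subtype_injective).1 h))
    obtain ⟨P⟩ := (inferInstance : Nonempty (Sylow q G))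
    let φ : (P : Subgroup G) →* MulAut R := (MulAut.conjNormal (H := R)).comp (P : Subgroup G).subtype
    let ψ : (P : Subgroup G) →* G ⧸ N := (QuotientGroup.mk' N).comp (P : Subgroup G).subtype
    have hordP : ∀ x : (P : Subgroup G), ∃ k, orderOf (x : G) = q ^ k := fun x => by
      obtain ⟨k, hk⟩ := IsPGroup.iff_orderOf.1 P.isPGroup' x
      exact ⟨k, (Subgroup.orderOf_coe x).trans hk⟩
    have hordR : ∀ m : R, ∃ k, orderOf (m : G) = r ^ k := fun m => by
      obtain ⟨k, hk⟩ := IsPGroup.iff_orderOf.1 hRp m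
      exact ⟨k, (Subgroup.orderOf_coe m).trans hk⟩
    have hfix : ∀ (x : (P : Subgroup G)) (m : R), φ x m = m → (x : G) ∉ N → m = 1 := by
      intro x m hxm hxN
      have h1 : (x : G) * m * (x : G)⁻¹ = m := congrArg Subtype.val hxm
      exact Subtype.ext (key q r hq hr hrq x hxN (hordP x) m (hRN m.2) (hordR m)
        (mul_inv_eq_iff_eq_mul.1 h1))
    have hker : ψ.ker = φ.ker := by
      ext x
      rw [MonoidHom.mem_ker, MonoidHom.mem_ker]
      change ((x : G) : G ⧸ N) = 1 ↔ _
      rw [QuotientGroup.eq_one_iff]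
      constructor
      · intro hxN
        refine MulEquiv.ext fun m => Subtype.ext ?_
        change (x : G) * m * (x : G)⁻¹ = m
        obtain ⟨k, hk⟩ := hordP x
        obtain ⟨l, hl⟩ := hordR m
        have hc : Commute (⟨x, hxN⟩ : N) ⟨m, hRN m.2⟩ := by
          apply CfsgLib.Engel.commute_of_coprime_nilpotent
          rw [Subgroup.orderOf_mk, Subgroup.orderOf_mk, hk, hl]
          exact Nat.Coprime.pow _ _ ((Nat.coprime_primes hq hr).2 hrq.symm)
        exact mul_inv_eq_iff_eq_mul.2 (congrArg Subtype.val hc.eq)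
      · intro hxφ
        by_contra hxN
        obtain ⟨m, hm⟩ := exists_ne (1 : R)
        exact hm (hfix x m (by rw [hxφ]; rfl) hxN)
    have hfpf : CfsgLib.Frobenius.IsFPF φ.range R := by
      rintro ⟨_, x, rfl⟩ ha m hm
      refine hfix x m hm fun hxN => ha (Subtype.ext ?_)
      have hx : x ∈ ψ.ker := (QuotientGroup.eq_one_iff (x : G)).2 hxN
      rw [hker] at hx
      exact hx
    have e : (Q : Subgroup (G ⧸ N)) ≃* φ.range := by
      let e1 : ψ.range ≃* φ.range :=
        ((QuotientGroup.quotientKerEquivRange ψ).symm.trans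
          (QuotientGroup.quotientMulEquivOfEq hker)).trans (QuotientGroup.quotientKerEquivRange φ)
      have h2 : ψ.range =
          (P.mapSurjective (QuotientGroup.mk'_surjective N) : Subgroup (G ⧸ N)) := by
        rw [Sylow.coe_mapSurjective, MonoidHom.range_comp, Subgroup.range_subtype]
      exact (Q.equiv (P.mapSurjective (QuotientGroup.mk'_surjective N))).trans
        ((MulEquiv.subgroupCongr h2).symm.trans e1)
    have hA : IsPGroup q φ.range :=
      P.isPGroup'.of_surjective φ.rangeRestrict φ.rangeRestrict_surjective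
    rcases CfsgLib.Structure81.isCyclic_or_quaternion_of_fpf hA hfpf with hc | ⟨n, ⟨f⟩⟩
    · exact Or.inl (e.isCyclic.2 hc)
    · exact Or.inr ⟨n, ⟨e.trans f⟩⟩

end Cfsg.Agent.S4155
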