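import Cfsg.Statements.S4156
-- import your own Cfsg.Agent.* helpers here

set_option autoImplicit false
open Cfsg

namespace Cfsg.Agent.S4156

/-- Let n ≥ 5 and F a finite field. Then the projective special linear group PSL_n(F) contains a subgroup isomorphic to the alternating group of degree n + 1. -/
theorem result (n : ℕ) (hn : 5 ≤ n) (F : Type*) [Field F] [Finite F] :
    ∃ f : alternatingGroup (Fin (n + 1)) →* Matrix.ProjectiveSpecialLinearGroup (Fin n) F, Function.Injective f := by
  classical
  have h5 : 5 ≤ Nat.card (Fin (n + 1)) := by simp; omega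
  haveI := alternatingGroup.isSimpleGroup h5
  have hperf := _root_.commutator_alternatingGroup_eq_top h5
  -- the sum-zero module
  let φ : (Fin (n + 1) → F) →ₗ[F] F := ∑ i, LinearMap.proj i
  have hφ : ∀ f, φ f = ∑ i, f i := fun f => by simp [φ]
  let W := LinearMap.ker φ
  have hrank : Module.finrank F W = n := by
    have hsurj : LinearMap.range φ = ⊤ := LinearMap.range_eq_top.2 fun c =>
      ⟨Pi.single 0 c, by simp [hφ, Finset.sum_pi_single']⟩
    have h1 := φ.finrank_range_add_finrank_ker
    rw [hsurj, finrank_top, Module.finrank_self, Module.finrank_pi, Fintype.card_fin] at h1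
    change Module.finrank F (LinearMap.ker φ) = n
    omega
  let T : Equiv.Perm (Fin (n + 1)) →* Module.End F W :=
    { toFun := fun σ => LinearMap.restrict (LinearMap.funLeft F F (σ⁻¹ : Equiv.Perm (Fin (n + 1))))
        (p := W) (q := W) (fun f hf => by
          simp only [W, LinearMap.mem_ker, hφ, LinearMap.funLeft_apply] at hf ⊢
          rw [Equiv.sum_comp σ⁻¹ f]
          exact hf)
      map_one' := by ext; rfl
      map_mul' := fun σ τ => by ext; rfl }
  let b := Module.finBasisOfFinrankEq F W hrank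
  let M : alternatingGroup (Fin (n + 1)) →* Matrix (Fin n) (Fin n) F :=
    (LinearMap.toMatrixAlgEquiv b).toMonoidHom.comp (T.comp (alternatingGroup _).subtype)
  have hdet : ∀ x, (M x).det = 1 := by
    intro x
    have h : x ∈ (Matrix.detMonoidHom.comp M).toHomUnits.ker :=
      Abelianization.commutator_subset_ker _ (hperf ▸ Subgroup.mem_top x)
    have := congrArg (Units.val) (MonoidHom.mem_ker.1 h)
    simpa using this
  let g : alternatingGroup (Fin (n + 1)) →* Matrix.SpecialLinearGroup (Fin n) F :=
    { toFun := fun x => ⟨M x, hdet x⟩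
      map_one' := Subtype.ext (map_one M)
      map_mul' := fun x y => Subtype.ext (map_mul M x y) }
  refine ⟨(QuotientGroup.mk' _).comp g, ?_⟩
  rw [← MonoidHom.ker_eq_bot_iff]
  refine (IsSimpleGroup.eq_bot_or_eq_top_of_normal _ (MonoidHom.normal_ker _)).resolve_right
    fun htop => ?_
  -- otherwise the image of `g` is abelian, so `g` is trivial
  have hcen : ∀ x, g x ∈ Subgroup.center (Matrix.SpecialLinearGroup (Fin n) F) := fun x =>
    (QuotientGroup.eq_one_iff (g x)).1 (MonoidHom.mem_ker.1 (htop ▸ Subgroup.mem_top x :))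
  have hg1 : ∀ x, g x = 1 := by
    intro x
    refine MonoidHom.mem_ker.1 ?_
    have hle : commutator (alternatingGroup (Fin (n + 1))) ≤ g.ker := by
      rw [commutator_def, Subgroup.commutator_le]
      intro a _ c _
      rw [MonoidHom.mem_ker, map_commutatorElement, commutatorElement_eq_one_iff_commute]
      exact (Subgroup.mem_center_iff.1 (hcen c) (g a))
    exact hle (hperf ▸ Subgroup.mem_top x)
  -- but a 3-cycle acts nontrivially
  let i0 : Fin (n + 1) := ⟨0, by omega⟩
  let i1 : Fin (n + 1) := ⟨1, by omega⟩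
  let i2 : Fin (n + 1) := ⟨2, by omega⟩
  have h01 : i0 ≠ i1 := by simp [i0, i1, Fin.ext_iff]
  have h02 : i0 ≠ i2 := by simp [i0, i2, Fin.ext_iff]
  have h12 : i1 ≠ i2 := by simp [i1, i2, Fin.ext_iff]
  let σ : Equiv.Perm (Fin (n + 1)) := Equiv.swap i0 i1 * Equiv.swap i0 i2
  have hσ : σ ∈ alternatingGroup (Fin (n + 1)) := by
    simp [σ, Equiv.Perm.mem_alternatingGroup, Equiv.Perm.sign_swap h01, Equiv.Perm.sign_swap h02]
  let w : Fin (n + 1) → F := Pi.single i0 1 - Pi.single i1 1
  have hw : w ∈ W := by simp [W, hφ, w, Finset.sum_sub_distrib]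
  have hT : T σ = 1 := by
    have h := congrArg Subtype.val (hg1 ⟨σ, hσ⟩)
    exact (LinearMap.toMatrixAlgEquiv b).injective (h.trans (map_one _).symm)
  have h2 : w (σ⁻¹ i2) = w i2 :=
    congrFun (congrArg Subtype.val (LinearMap.congr_fun hT ⟨w, hw⟩)) i2
  have hσ2 : σ⁻¹ i2 = i0 := by
    rw [Equiv.Perm.inv_eq_iff_eq]
    simp [σ, Equiv.Perm.mul_apply, Equiv.swap_apply_of_ne_of_ne h02.symm h12.symm]
  rw [hσ2] at h2
  simp [w, h01, h02.symm, h12.symm] at h2

end Cfsg.Agent.S4156
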