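import Cfsg.Statements.S4168
-- import your own Cfsg.Agent.* helpers here

set_option autoImplicit false
open Cfsg

namespace Cfsg.Agent.S4168

/-- Let L be a finite quasisimple group (perfect with L/Z(L) simple). Then every prime dividing the order of the centre Z(L) also divides the order of L/Z(L). -/
theorem result {L : Type*} [Group L] [Finite L] (hL : Cfsg.IsQuasisimple L)
    (p : ℕ) (hp : p.Prime) (hdiv : p ∣ Nat.card (Subgroup.center L)) : p ∣ (Subgroup.center L).index := by
  classical
  haveI : Fact p.Prime := ⟨hp⟩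
  set Z := Subgroup.center L with hZ
  by_contra hnd
  obtain ⟨P⟩ : Nonempty (Sylow p Z) := inferInstance
  -- the Sylow subgroup of the centre is a Sylow subgroup of the whole group
  have hcop : (Nat.card (P : Subgroup Z)).Coprime Z.index := by
    obtain ⟨k, hk⟩ := IsPGroup.iff_card.1 P.isPGroup'
    rw [hk]
    exact Nat.Coprime.pow_left k (hp.coprime_iff_not_dvd.2 hnd)
  let Q : Subgroup L := (P : Subgroup Z).map Z.subtype
  have hQ : IsPGroup p Q := P.isPGroup'.map _
  have hQi : ¬ p ∣ Q.index := by
    rw [Subgroup.index_map_subtype]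
    exact fun h => (hp.dvd_mul.1 h).elim P.not_dvd_index hnd
  let S : Sylow p L := hQ.toSylow hQi
  have hSZ : (S : Subgroup L) ≤ Z := Subgroup.map_subtype_le _
  have hS : Subgroup.normalizer ((S : Subgroup L) : Set L) ≤ Subgroup.centralizer (S : Set L) := by
    intro x _
    rw [Subgroup.mem_centralizer_iff]
    exact fun y hy => (Subgroup.mem_center_iff.1 (hSZ hy) x).symm
  have hc := MonoidHom.ker_transferSylow_isComplement' S hS
  have hker : (MonoidHom.transferSylow S hS).ker = ⊤ := by
    haveI : IsMulCommutative (S : Subgroup L) := ⟨⟨fun a b => Subtype.ext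
      (Subgroup.mem_center_iff.1 (hSZ b.2) a)⟩⟩
    rw [eq_top_iff, ← Group.isPerfect_def.1 hL.1, commutator_def, Subgroup.commutator_le]
    intro a _ b _
    rw [MonoidHom.mem_ker, map_commutatorElement, commutatorElement_eq_one_iff_commute]
    exact Subtype.ext (Subgroup.mem_center_iff.1 (hSZ (MonoidHom.transferSylow S hS b).2) _)
  have hcard := hc.card_mul_card
  rw [hker, Subgroup.card_top] at hcard
  have hS1 : Nat.card (S : Subgroup L) = 1 := by
    nlinarith [Nat.card_pos (α := L)]
  have hpP : p ∣ Nat.card (P : Subgroup Z) := P.dvd_card_of_dvd_card hdiv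
  have : Nat.card (S : Subgroup L) = Nat.card (P : Subgroup Z) :=
    (Nat.card_congr (Subgroup.equivMapOfInjective (P : Subgroup Z) _ Z.subtype_injective).toEquiv).symm
  rw [← this, hS1] at hpP
  exact hp.not_dvd_one hpP

end Cfsg.Agent.S4168
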