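import Cfsg.Statements.S4170
import Mathlib.GroupTheory.Sylow
import Mathlib.Tactic

/-!
If `O` is a non-trivial orbit of a Sylow `p`-subgroup `P` and `a ∈ O`, then no Sylow `p`-subgroup
stabilises both `{a}` and `O \ {a}`: it would be conjugate to `P` in the stabiliser of `O`, but it
fixes a point of `O` and `P` does not.
-/

set_option autoImplicit false
open Cfsg

namespace Cfsg.Agent.S4170

open MulAction
open scoped Pointwise

/-- Let p be an odd prime and G a nontrivial group of permutations of a finite set Ω that is generated by its elements of p-power order. Then Ω has two disjoint nonempty subsets Δ₁ and Δ₂ such that the index in G of the subgroup of elements mapping Δ₁ onto Δ₁ and Δ₂ onto Δ₂ (and hence also the complement of their union onto itself) is divisible by p. -/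
theorem result {Ω : Type*} [Fintype Ω] (p : ℕ) [Fact p.Prime] (hp : p ≠ 2) (G : Subgroup (Equiv.Perm Ω)) (hG : G ≠ ⊥) (hgen : Subgroup.closure {g : G | ∃ k : ℕ, orderOf g = p ^ k} = ⊤) :
    ∃ Δ₁ Δ₂ : Set Ω, Δ₁.Nonempty ∧ Δ₂.Nonempty ∧ Disjoint Δ₁ Δ₂ ∧ p ∣ (MulAction.stabilizer G Δ₁ ⊓ MulAction.stabilizer G Δ₂).index := by
  classical
  haveI : Nontrivial G := (Subgroup.nontrivial_iff_ne_bot G).mpr hG
  obtain ⟨g, ⟨k, hk⟩, hg⟩ : ∃ g ∈ {g : G | ∃ k : ℕ, orderOf g = p ^ k}, g ≠ 1 := by
    by_contra! h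
    have h1 : (⊤ : Subgroup G) ≤ ⊥ := by
      rw [← hgen, Subgroup.closure_le]
      exact fun x hx => h x hx
    exact top_ne_bot (le_bot_iff.mp h1)
  obtain ⟨P, hP⟩ := IsPGroup.exists_le_sylow (P := Subgroup.zpowers g)
    (IsPGroup.of_card (n := k) (by rw [Nat.card_zpowers, hk]))
  obtain ⟨a, ha⟩ : ∃ a : Ω, g • a ≠ a := by
    by_contra! h
    exact hg (Subtype.ext (Equiv.ext fun x => h x))
  let O : Set Ω := orbit (P : Subgroup G) a
  have hgO : g • a ∈ O := ⟨⟨g, hP (Subgroup.mem_zpowers g)⟩, rfl⟩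
  have haO : a ∈ O := mem_orbit_self a
  have hPO : (P : Subgroup G) ≤ stabilizer G O := fun u hu => by
    rw [mem_stabilizer_iff]
    exact smul_orbit (⟨u, hu⟩ : (P : Subgroup G)) a
  refine ⟨{a}, O \ {a}, Set.singleton_nonempty a, ⟨g • a, hgO, ha⟩, Set.disjoint_sdiff_right, ?_⟩
  by_contra hdvd
  set H := stabilizer G ({a} : Set Ω) ⊓ stabilizer G (O \ {a} : Set Ω) with hH
  have hHO : H ≤ stabilizer G O := by
    intro x hx
    rw [mem_stabilizer_iff]
    conv_rhs => rw [← Set.union_sdiff_cancel (Set.singleton_subset_iff.mpr haO)]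
    conv_lhs => rw [← Set.union_sdiff_cancel (Set.singleton_subset_iff.mpr haO)]
    rw [Set.smul_set_union, mem_stabilizer_iff.mp hx.1, mem_stabilizer_iff.mp hx.2]
  obtain ⟨R⟩ : Nonempty (Sylow p H) := inferInstance
  have hR' : ¬ p ∣ ((R : Subgroup H).map H.subtype).index := by
    rw [Subgroup.index_map_subtype]
    exact fun hd => (Fact.out (p := p.Prime)).dvd_mul.mp hd |>.elim R.not_dvd_index hdvd
  let R' : Sylow p G := (R.2.map H.subtype).toSylow hR'
  have hR'H : (R' : Subgroup G) ≤ H := Subgroup.map_subtype_le _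
  obtain ⟨s, hs⟩ := exists_smul_eq (stabilizer G O) (R'.subtype (hR'H.trans hHO))
    (P.subtype hPO)
  -- `s a` lies in `O` and is fixed by `P`
  have hsa : (s : G) • a ∈ O := by
    have := mem_stabilizer_iff.mp s.2
    exact (Set.ext_iff.mp this _).mp (Set.smul_mem_smul_set haO)
  have hfix : ∀ u ∈ (P : Subgroup G), u • ((s : G) • a) = (s : G) • a := by
    intro u hu
    have h1 : (⟨u, hPO hu⟩ : stabilizer G O) ∈
        ((s • R'.subtype (hR'H.trans hHO) : Sylow p (stabilizer G O)) :
          Subgroup (stabilizer G O)) := by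
      rw [hs]
      exact hu
    rw [Sylow.coe_subgroup_smul, Subgroup.mem_pointwise_smul_iff_inv_smul_mem] at h1
    have h2 : (s : G)⁻¹ * u * (s : G) ∈ (R' : Subgroup G) := by
      simpa [Subgroup.mem_subgroupOf, MulAut.smul_def] using h1
    have h3 : ((s : G)⁻¹ * u * (s : G)) • a = a := by
      have h4 := mem_stabilizer_iff.mp (hR'H h2).1
      rw [Set.smul_set_singleton] at h4
      exact Set.singleton_eq_singleton_iff.mp h4
    calc u • ((s : G) • a) = (s : G) • (((s : G)⁻¹ * u * (s : G)) • a) := by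
          simp [smul_smul, mul_assoc]
      _ = (s : G) • a := by rw [h3]
  obtain ⟨u, hu⟩ := hsa
  have h5 : ∀ v : (P : Subgroup G), v • a = a := by
    intro v
    have hua : (s : G) • a = (u : G) • a := hu.symm
    have h6 : ((u : G) * (v : G)) • a = (u : G) • a := by
      have h7 := hfix ((u : G) * v * (u : G)⁻¹) (mul_mem (mul_mem u.2 v.2) (inv_mem u.2))
      rw [hua] at h7
      simpa [Subgroup.smul_def, smul_smul, mul_assoc] using h7
    rw [← smul_smul] at h6
    exact smul_left_cancel (u : G) h6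
  exact ha (h5 ⟨g, hP (Subgroup.mem_zpowers g)⟩)

end Cfsg.Agent.S4170
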