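import Cfsg.Statements.S4172
import Cfsg.Agent.Lib.Transfer.Tate
import Cfsg.Agent.Lib.Transfer.Central
import Cfsg.Agent.Lib.Components.ComponentAction
import Cfsg.Agent.Lib.Components.FStar
import Cfsg.Agent.Lib.Structure.Subnormal
import Cfsg.Agent.Lib.PGroup.Frattini
import Cfsg.Agent.Lib.Techniques.Basic

/-!
Two-generated non-abelian Sylow subgroup, trivial `p'`-core, core-free Frattini subgroup of it:
structure of the generalized Fitting subgroup.
-/

set_option autoImplicit false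
open Cfsg

namespace Cfsg.Agent.S4172

open Subgroup
open scoped commutatorElement

section PGroupLemma

variable {p : ℕ} [Fact p.Prime] {R : Type*} [Group R] [Finite R]

theorem exists_sup_zpowers_eq_top (hR : (frattini R).index = p ^ 2) (A : Subgroup R)
    (hA : ¬ A ≤ frattini R) : ∃ w : R, A ⊔ zpowers w = ⊤ := by
  obtain ⟨B, hB⟩ : ∃ B : Subgroup R, B = A ⊔ frattini R := ⟨_, rfl⟩
  have hFB : frattini R ≤ B := hB ▸ le_sup_right
  have hmul := relIndex_mul_index hFB
  rw [hR] at hmul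
  obtain ⟨i, hi, hBi⟩ := (Nat.dvd_prime_pow (Fact.out (p := p.Prime))).mp (Dvd.intro_left _ hmul)
  have hi2 : i ≠ 2 := by
    rintro rfl
    have h1 : (frattini R).relIndex B = 1 := by
      rw [hBi] at hmul
      exact Nat.eq_of_mul_eq_mul_right (pow_pos (Fact.out (p := p.Prime)).pos 2)
        (hmul.trans (one_mul _).symm)
    exact hA ((hB ▸ le_sup_left : A ≤ B).trans (relIndex_eq_one.mp h1))
  by_cases hBt : B = ⊤
  · refine ⟨1, ?_⟩
    rw [zpowers_one_eq_bot, sup_bot_eq]
    exact frattini_nongenerating (hB ▸ hBt)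
  have hi0 : i ≠ 0 := by
    rintro rfl
    exact hBt (index_eq_one.mp (by rw [hBi, pow_zero]))
  have hBp : B.index = p := by
    rw [hBi, show i = 1 by omega, pow_one]
  obtain ⟨w, hw⟩ : ∃ w, w ∉ B := by
    by_contra! h
    exact hBt (eq_top_iff' B |>.mpr h)
  refine ⟨w, frattini_nongenerating ?_⟩
  have hle : B ≤ B ⊔ zpowers w := le_sup_left
  have hmul2 := relIndex_mul_index hle
  rw [hBp] at hmul2
  rcases (Nat.dvd_prime (Fact.out (p := p.Prime))).mp (Dvd.intro_left _ hmul2) with h | h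
  · rw [← index_eq_one.mp h, hB, sup_right_comm]
  · rw [h] at hmul2
    have h1 : B.relIndex (B ⊔ zpowers w) = 1 :=
      Nat.eq_of_mul_eq_mul_right (Fact.out (p := p.Prime)).pos (hmul2.trans (one_mul _).symm)
    exact absurd (relIndex_eq_one.mp h1 ((le_sup_right : zpowers w ≤ B ⊔ zpowers w)
      (mem_zpowers w))) hw

theorem commutator_le_of_sup_zpowers_eq_top (A : Subgroup R) [A.Normal] {w : R}
    (hw : A ⊔ zpowers w = ⊤) : _root_.commutator R ≤ A := by
  have h1 : zpowers (QuotientGroup.mk' A w) = ⊤ := by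
    have h2 := congrArg (Subgroup.map (QuotientGroup.mk' A)) hw
    rw [Subgroup.map_sup, map_top_of_surjective _ (QuotientGroup.mk'_surjective A),
      MonoidHom.map_zpowers, QuotientGroup.map_mk'_self, bot_sup_eq] at h2
    exact h2
  haveI : IsCyclic (R ⧸ A) :=
    ⟨⟨QuotientGroup.mk' A w, fun x => (h1 ▸ mem_top x : x ∈ zpowers (QuotientGroup.mk' A w))⟩⟩
  rw [← Subgroup.Normal.quotient_commutative_iff_commutator_le]
  exact IsCyclic.isMulCommutative

end PGroupLemma

variable {G : Type*} [Group G] [Finite G] {p : ℕ} [Fact p.Prime] (P : Sylow p G)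

theorem phi_le : (frattini ↥(P : Subgroup G)).map (P : Subgroup G).subtype ≤ (P : Subgroup G) :=
  map_subtype_le _

theorem exists_gen (hgen : (frattini ↥(P : Subgroup G)).index = p ^ 2) (A : Subgroup G)
    (hA : ¬ A ⊓ (P : Subgroup G) ≤ (frattini ↥(P : Subgroup G)).map (P : Subgroup G).subtype) :
    ∃ w ∈ (P : Subgroup G), (P : Subgroup G) ≤ A ⊓ (P : Subgroup G) ⊔ zpowers w := by
  obtain ⟨w, hw⟩ := exists_sup_zpowers_eq_top hgen (A.subgroupOf (P : Subgroup G)) (by
    intro h
    apply hA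
    rw [← subgroupOf_map_subtype]
    exact Subgroup.map_mono h)
  refine ⟨w, w.2, ?_⟩
  have h2 := congrArg (Subgroup.map (P : Subgroup G).subtype) hw
  rw [Subgroup.map_sup, subgroupOf_map_subtype, MonoidHom.map_zpowers,
    ← MonoidHom.range_eq_map, range_subtype] at h2
  exact h2.ge

/-- Two subgroups normalized by `P`, meeting trivially, cannot both leave `Φ(P)`. -/
theorem false_of_disjoint (hna : ¬ IsMulCommutative (P : Subgroup G))
    (hgen : (frattini ↥(P : Subgroup G)).index = p ^ 2) (A B : Subgroup G)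
    (hAn : (P : Subgroup G) ≤ normalizer (A : Set G)) (hBn : (P : Subgroup G) ≤ normalizer (B : Set G))
    (hAB : A ⊓ B = ⊥)
    (hA : ¬ A ⊓ (P : Subgroup G) ≤ (frattini ↥(P : Subgroup G)).map (P : Subgroup G).subtype)
    (hB : ¬ B ⊓ (P : Subgroup G) ≤ (frattini ↥(P : Subgroup G)).map (P : Subgroup G).subtype) :
    False := by
  have key : ∀ C : Subgroup G, (P : Subgroup G) ≤ normalizer (C : Set G) →
      ¬ C ⊓ (P : Subgroup G) ≤ (frattini ↥(P : Subgroup G)).map (P : Subgroup G).subtype →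
      _root_.commutator ↥(P : Subgroup G) ≤ C.subgroupOf (P : Subgroup G) := by
    intro C hCn hC
    haveI : (C.subgroupOf (P : Subgroup G)).Normal := by
      refine ⟨fun x hx g => ?_⟩
      rw [mem_subgroupOf] at hx ⊢
      exact (mem_normalizer_iff.mp (hCn g.2) _).mp hx
    obtain ⟨w, hw⟩ := exists_sup_zpowers_eq_top hgen (C.subgroupOf (P : Subgroup G)) (by
      intro h
      apply hC
      rw [← subgroupOf_map_subtype]
      exact Subgroup.map_mono h)
    exact commutator_le_of_sup_zpowers_eq_top _ hw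
  refine hna ⟨⟨fun x y => ?_⟩⟩
  have h1 : ⁅x, y⁆ ∈ _root_.commutator ↥(P : Subgroup G) :=
    commutator_mem_commutator (mem_top x) (mem_top y)
  have hxA := mem_subgroupOf.mp (key A hAn hA h1)
  have hxB := mem_subgroupOf.mp (key B hBn hB h1)
  have h2 : ((⁅x, y⁆ : ↥(P : Subgroup G)) : G) = 1 := by
    rw [← mem_bot, ← hAB]
    exact ⟨hxA, hxB⟩
  exact commutatorElement_eq_one_iff_mul_comm.mp (Subtype.ext h2)

/-- A subnormal subgroup normalized by `P` and meeting it inside `Φ(P)` is a `p`-group. -/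
theorem isPGroup_of_inf_le (hcore : Cfsg.pPrimeCore p G = ⊥) {A : Subgroup G} (hAs : A.IsSubnormal)
    (hAn : (P : Subgroup G) ≤ normalizer (A : Set G))
    (hA : A ⊓ (P : Subgroup G) ≤ (frattini ↥(P : Subgroup G)).map (P : Subgroup G).subtype) :
    IsPGroup p A := by
  let X : Subgroup G := normalizer (A : Set G)
  let PX : Sylow p X := P.subtype hAn
  haveI : (A.subgroupOf X).Normal := normal_in_normalizer
  have hh : A.subgroupOf X ⊓ (PX : Subgroup X) ≤
      (frattini ↥(PX : Subgroup X)).map (PX : Subgroup X).subtype := by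
    intro x hx
    obtain ⟨y, hy, e⟩ := hA ⟨mem_subgroupOf.mp hx.1,
      (show (x : G) ∈ (P : Subgroup G) from mem_subgroupOf.mp hx.2)⟩
    let eqv : (P : Subgroup G) ≃* (PX : Subgroup X) := (subgroupOfEquivOfLe hAn).symm
    refine ⟨eqv y, ?_, Subtype.ext e⟩
    have hsurj : Function.Surjective eqv.toMonoidHom := eqv.surjective
    exact frattini_le_comap_frattini_of_surjective hsurj hy
  obtain ⟨Q, C, hC, hcompl⟩ := CfsgLib.Transfer.hasNormalPComplement_normal PX _ hh
  have hcard : ¬ p ∣ Nat.card C := hcompl.index_eq_card ▸ Q.not_dvd_index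
  have hNbot : Cfsg.pPrimeCore p (A.subgroupOf X) = ⊥ := by
    refine CfsgLib.PCore.pPrimeCore_eq_bot_of_equiv (subgroupOfEquivOfLe le_normalizer).symm ?_
    rw [← Subgroup.map_eq_bot_iff_of_injective _ A.subtype_injective, eq_bot_iff, ← hcore]
    exact CfsgLib.PCore.map_pPrimeCore_subtype_of_isSubnormal hAs
  have hCbot : C = ⊥ := le_bot_iff.mp
    ((CfsgLib.PCore.le_pPrimeCore_of_not_dvd hC hcard).trans hNbot.le)
  have hQtop : (Q : Subgroup (A.subgroupOf X)) = ⊤ := by
    rw [← index_eq_one, hcompl.index_eq_card, hCbot, Nat.card_eq_one_iff_unique]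
    exact ⟨inferInstance, inferInstance⟩
  have h1 : IsPGroup p (A.subgroupOf X) := by
    have h2 := Q.2
    rw [hQtop] at h2
    exact h2.of_equiv topEquiv
  exact h1.of_equiv (subgroupOfEquivOfLe le_normalizer)

theorem not_le_of_normal (hcore : Cfsg.pPrimeCore p G = ⊥)
    (hfrat : ((frattini ↥(P : Subgroup G)).map (P : Subgroup G).subtype).normalCore = ⊥)
    {N : Subgroup G} (hN : N.Normal) (hne : N ≠ ⊥) :
    ¬ N ⊓ (P : Subgroup G) ≤ (frattini ↥(P : Subgroup G)).map (P : Subgroup G).subtype := by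
  intro h
  apply hne
  haveI := hN
  have hp := isPGroup_of_inf_le P hcore hN.isSubnormal le_normalizer_of_normal h
  have hNP : N ≤ (P : Subgroup G) :=
    (CfsgLib.PCore.le_pCore hN hp).trans (CfsgLib.PCore.pCore_le_sylow P)
  rw [inf_eq_left.mpr hNP] at h
  exact le_bot_iff.mp ((normal_le_normalCore.mpr h).trans hfrat.le)

theorem inf_ne_bot (hna : ¬ IsMulCommutative (P : Subgroup G))
    (hgen : (frattini ↥(P : Subgroup G)).index = p ^ 2) (hcore : Cfsg.pPrimeCore p G = ⊥)
    (hfrat : ((frattini ↥(P : Subgroup G)).map (P : Subgroup G).subtype).normalCore = ⊥)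
    {M N : Subgroup G} (hM : M.Normal) (hN : N.Normal) (hM0 : M ≠ ⊥) (hN0 : N ≠ ⊥) :
    M ⊓ N ≠ ⊥ := fun h => by
  haveI := hM
  haveI := hN
  exact false_of_disjoint P hna hgen M N le_normalizer_of_normal le_normalizer_of_normal h
    (not_le_of_normal P hcore hfrat hM hM0) (not_le_of_normal P hcore hfrat hN hN0)

/-- The `p`-core, if nontrivial, is elementary abelian. -/
theorem pCore_elementary
    (hfrat : ((frattini ↥(P : Subgroup G)).map (P : Subgroup G).subtype).normalCore = ⊥) :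
    (∀ x ∈ Cfsg.pCore p G, ∀ y ∈ Cfsg.pCore p G, x * y = y * x) ∧
      ∀ x ∈ Cfsg.pCore p G, x ^ p = 1 := by
  have hXn : (Cfsg.pCore p G).Normal := Cfsg.pCore_normal p G
  have hXP := CfsgLib.PCore.pCore_le_sylow P
  refine ⟨fun x hx y hy => ?_, fun x hx => ?_⟩
  · apply commutatorElement_eq_one_iff_mul_comm.mp
    rw [← mem_bot, ← hfrat]
    intro b
    refine ⟨⁅⟨b * x * b⁻¹, hXP (hXn.conj_mem x hx b)⟩, ⟨b * y * b⁻¹, hXP (hXn.conj_mem y hy b)⟩⁆,
      CfsgLib.PGroup.commutator_le_frattini P.2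
        (commutator_mem_commutator (mem_top _) (mem_top _)), ?_⟩
    simp [commutatorElement_def, mul_assoc]
  · rw [← mem_bot, ← hfrat]
    intro b
    refine ⟨⟨b * x * b⁻¹, hXP (hXn.conj_mem x hx b)⟩ ^ p,
      CfsgLib.PGroup.pow_mem_frattini P.2 _, ?_⟩
    simp

theorem zpow_eq_one_of_mem {M : Subgroup G} {z : G} (hz : z ∉ M) (hzp : z ^ p = 1) {d : ℤ}
    (hd : z ^ d ∈ M) : z ^ d = 1 := by
  obtain ⟨k, rfl⟩ : (p : ℤ) ∣ d := by
    by_contra h
    have hco : IsCoprime (p : ℤ) d :=
      (Nat.prime_iff_prime_int.mp (Fact.out (p := p.Prime))).coprime_iff_not_dvd.mpr h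
    obtain ⟨a, b, hab⟩ := hco
    apply hz
    rw [← zpow_one z, ← hab, zpow_add, mul_comm a, zpow_mul, zpow_natCast, hzp, one_zpow, one_mul,
      mul_comm b, zpow_mul]
    exact zpow_mem hd b
  rw [zpow_mul, zpow_natCast, hzp, one_zpow]

/-- Averaging over cosets of `P`: if `M` is normal, `z` is central in `P`, of order `p`, generates
the `p`-core over `M`, then some nontrivial normal subgroup meets `M` trivially. -/
theorem exists_normal_disjoint {X M : Subgroup G} [hXn : X.Normal] [hMn : M.Normal]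
    (hXc : ∀ x ∈ X, ∀ y ∈ X, x * y = y * x) (hXe : ∀ x ∈ X, x ^ p = 1) {z : G} (hzX : z ∈ X)
    (hzM : z ∉ M) (hzP : ∀ u ∈ (P : Subgroup G), u * z = z * u)
    (hspan : ∀ x ∈ X, ∃ m ∈ M, ∃ k : ℤ, x = m * z ^ k) :
    ∃ N : Subgroup G, N.Normal ∧ N ≠ ⊥ ∧ N ⊓ M = ⊥ := by
  classical
  haveI : IsMulCommutative X := ⟨⟨fun a b => Subtype.ext (hXc _ a.2 _ b.2)⟩⟩
  letI : CommGroup X := { (inferInstance : Group X) with
    mul_comm := fun a b => Subtype.ext (hXc _ a.2 _ b.2) }
  haveI := Fintype.ofFinite (G ⧸ (P : Subgroup G))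
  let π : G →* G ⧸ M := QuotientGroup.mk' M
  have hπ1 : ∀ m ∈ M, π m = 1 := fun m hm => (QuotientGroup.eq_one_iff m).mpr hm
  have hc : ∀ h : G, ∃ c : ℤ, π (h * z * h⁻¹) = π z ^ c := by
    intro h
    obtain ⟨m, hm, k, e⟩ := hspan _ (hXn.conj_mem z hzX h)
    exact ⟨k, by rw [e, map_mul, hπ1 m hm, one_mul, map_zpow]⟩
  have he : ∀ g : G, ∃ e : ℤ, π (g * z ^ e * g⁻¹) = π z := by
    intro g
    obtain ⟨m, hm, k, e⟩ := hspan _ (hXn.conj_mem z hzX g⁻¹)
    refine ⟨k, ?_⟩
    have e2 : z = g * m * g⁻¹ * (g * z ^ k * g⁻¹) := by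
      calc z = g * (g⁻¹ * z * g⁻¹⁻¹) * g⁻¹ := by group
        _ = g * (m * z ^ k) * g⁻¹ := by rw [e]
        _ = g * m * g⁻¹ * (g * z ^ k * g⁻¹) := by group
    conv_rhs => rw [e2]
    rw [map_mul π (g * m * g⁻¹), hπ1 _ (hMn.conj_mem m hm g), one_mul]
  choose e he using he
  let f : G ⧸ (P : Subgroup G) → X := fun q =>
    ⟨q.out * z ^ e q.out * q.out⁻¹, hXn.conj_mem _ (zpow_mem hzX _) _⟩
  have key : ∀ (h : G) (c : ℤ), π (h * z * h⁻¹) = π z ^ c → ∀ q : G ⧸ (P : Subgroup G),
      MulAut.conjNormal h (f q) = f (h • q) ^ c := by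
    intro h c hc q
    apply Subtype.ext
    obtain ⟨u, hu⟩ := QuotientGroup.mk_out_eq_mul (P : Subgroup G) (h * q.out)
    have hq : (h • q).out = h * q.out * u := by
      rw [← hu]
      congr 1
      conv_lhs => rw [← QuotientGroup.out_eq' q]
      rfl
    have hzu : ∀ k : ℤ, (u : G) * z ^ k * (u : G)⁻¹ = z ^ k := fun k => by
      rw [((show Commute (u : G) z from hzP _ u.2).zpow_right k).eq, mul_inv_cancel_right]
    simp only [f, MulAut.conjNormal_apply, SubgroupClass.coe_zpow, conj_zpow, ← zpow_mul]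
    set k₁ := e q.out with hk₁
    set k₂ := e (h • q).out with hk₂
    have hr : ∀ k : ℤ, (h • q).out * z ^ k * (h • q).out⁻¹ = h * q.out * z ^ k * q.out⁻¹ * h⁻¹ := by
      intro k
      rw [hq]
      calc h * q.out * u * z ^ k * (h * q.out * u)⁻¹
          = h * q.out * ((u : G) * z ^ k * (u : G)⁻¹) * q.out⁻¹ * h⁻¹ := by group
        _ = _ := by rw [hzu]
    have hL : h * (q.out * z ^ k₁ * q.out⁻¹) * h⁻¹ =
        (h • q).out * z ^ k₁ * (h • q).out⁻¹ := by rw [hr]; group
    rw [hL]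
    have h1 : π ((h • q).out * z ^ k₁ * (h • q).out⁻¹) = π z ^ c := by
      rw [← hL, map_mul π, map_mul π h, he q.out, ← map_mul, ← map_mul, hc]
    have h2 : π ((h • q).out * z ^ (k₂ * c) * (h • q).out⁻¹) = π z ^ c := by
      rw [zpow_mul, ← conj_zpow, map_zpow, he]
    have h3 : π ((h • q).out * z ^ (k₁ - k₂ * c) * (h • q).out⁻¹) = 1 := by
      rw [zpow_sub, show (h • q).out * (z ^ k₁ * (z ^ (k₂ * c))⁻¹) * (h • q).out⁻¹ =
        ((h • q).out * z ^ k₁ * (h • q).out⁻¹) *
          ((h • q).out * z ^ (k₂ * c) * (h • q).out⁻¹)⁻¹ by group, map_mul π, map_inv, h1, h2,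
        mul_inv_cancel]
    have h4 : z ^ (k₁ - k₂ * c) ∈ M := by
      have h5 := hMn.conj_mem _ ((QuotientGroup.eq_one_iff _).mp h3) (h • q).out⁻¹
      rwa [inv_inv, ← mul_assoc, ← mul_assoc, inv_mul_cancel, one_mul, inv_mul_cancel_right] at h5
    have h6 := zpow_eq_one_of_mem hzM (hXe z hzX) h4
    rw [zpow_sub, mul_inv_eq_one] at h6
    rw [h6]
  let y : X := ∏ q, f q
  let ρ : X →* X ⧸ M.subgroupOf X := QuotientGroup.mk' _
  have hρf : ∀ q, ρ (f q) = ρ ⟨z, hzX⟩ := by
    intro q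
    refine QuotientGroup.eq_iff_div_mem.mpr (mem_subgroupOf.mpr ?_)
    have := QuotientGroup.eq_iff_div_mem.mp (he q.out)
    simpa [f] using this
  have hyM : (y : G) ∉ M := by
    intro hy
    have h1 : ρ y = 1 := (QuotientGroup.eq_one_iff _).mpr (mem_subgroupOf.mpr hy)
    rw [show ρ y = ∏ q, ρ (f q) from map_prod ρ _ _, Finset.prod_congr rfl (fun q _ => hρf q),
      Finset.prod_const, Finset.card_univ, ← Nat.card_eq_fintype_card, ← map_pow] at h1
    have h2 : z ^ (((P : Subgroup G).index : ℕ) : ℤ) ∈ M := by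
      rw [zpow_natCast]
      simpa [mem_subgroupOf, Subgroup.index] using (QuotientGroup.eq_one_iff _).mp h1
    have h3 := zpow_eq_one_of_mem hzM (hXe z hzX) h2
    rw [zpow_natCast, ← orderOf_dvd_iff_pow_eq_one,
      orderOf_eq_prime (hXe z hzX) (fun h => hzM (h ▸ M.one_mem))] at h3
    exact P.not_dvd_index h3
  refine ⟨zpowers (y : G), ⟨fun x hx h => ?_⟩, fun h => hyM ?_, ?_⟩
  · obtain ⟨j, rfl⟩ := mem_zpowers_iff.mp hx
    obtain ⟨c, hcc⟩ := hc h
    have h1 : MulAut.conjNormal h y = y ^ c := by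
      calc MulAut.conjNormal h y = ∏ q, MulAut.conjNormal h (f q) :=
            map_prod (MulAut.conjNormal h : MulAut X) _ _
        _ = ∏ q, f (h • q) ^ c := Finset.prod_congr rfl fun q _ => key h c hcc q
        _ = (∏ q, f (h • q)) ^ c := Finset.prod_zpow _ _ _
        _ = y ^ c := by
            congr 1
            exact Equiv.prod_comp (MulAction.toPerm h) f
    rw [← conj_zpow]
    refine zpow_mem ?_ j
    have h2 := congrArg Subtype.val h1
    rw [MulAut.conjNormal_apply, SubgroupClass.coe_zpow] at h2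
    exact h2 ▸ zpow_mem (mem_zpowers _) c
  · rw [mem_bot.mp (h.le (mem_zpowers (y : G)))]
    exact M.one_mem
  · rw [eq_bot_iff]
    intro x hx
    obtain ⟨hx1, hx2⟩ := hx
    obtain ⟨j, rfl⟩ := mem_zpowers_iff.mp hx1
    exact mem_bot.mpr (zpow_eq_one_of_mem hyM (hXe _ y.2) hx2)

/-- The `p`-core is inside every nontrivial normal subgroup. -/
theorem pCore_le_of_normal (hna : ¬ IsMulCommutative (P : Subgroup G))
    (hgen : (frattini ↥(P : Subgroup G)).index = p ^ 2) (hcore : Cfsg.pPrimeCore p G = ⊥)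
    (hfrat : ((frattini ↥(P : Subgroup G)).map (P : Subgroup G).subtype).normalCore = ⊥)
    (hX0 : Cfsg.pCore p G ≠ ⊥) {K : Subgroup G} (hK : K.Normal) (hK0 : K ≠ ⊥) :
    Cfsg.pCore p G ≤ K := by
  obtain ⟨X, hX⟩ : ∃ X : Subgroup G, X = Cfsg.pCore p G := ⟨_, rfl⟩
  haveI hXn : X.Normal := hX ▸ Cfsg.pCore_normal p G
  have hXP : X ≤ (P : Subgroup G) := hX ▸ CfsgLib.PCore.pCore_le_sylow P
  obtain ⟨hXc, hXe⟩ := pCore_elementary P hfrat
  rw [← hX] at hX0 hXc hXe ⊢
  haveI := hK
  have hM0 := inf_ne_bot P hna hgen hcore hfrat hK hXn hK0 hX0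
  obtain ⟨M, hM⟩ : ∃ M : Subgroup G, M = K ⊓ X := ⟨_, rfl⟩
  haveI hMn : M.Normal := hM ▸ inferInstance
  rw [← hM] at hM0
  have hMX : M ≤ X := hM ▸ inf_le_right
  by_contra hXK
  have hMX' : ¬ X ≤ M := fun h => hXK (h.trans (hM ▸ inf_le_left))
  obtain ⟨w, -, hw⟩ := exists_gen P hgen M (not_le_of_normal P hcore hfrat hMn hM0)
  rw [inf_eq_left.mpr (hMX.trans hXP)] at hw
  haveI : IsCyclic ↥(X ⊓ zpowers w : Subgroup G) :=
    isCyclic_of_injective (inclusion inf_le_right) (inclusion_injective inf_le_right)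
  obtain ⟨⟨z, hz⟩, hzgen⟩ := IsCyclic.exists_generator (α := ↥(X ⊓ zpowers w : Subgroup G))
  have hspan : ∀ x ∈ X, ∃ m ∈ M, ∃ k : ℤ, x = m * z ^ k := by
    intro x hx
    have h1 := hw (hXP hx)
    rw [← SetLike.mem_coe, normal_mul] at h1
    obtain ⟨m, hm, t, ht, rfl⟩ := h1
    have htX : t ∈ X := by simpa using mul_mem (inv_mem (hMX hm)) hx
    obtain ⟨k, hk⟩ := mem_zpowers_iff.mp (hzgen ⟨t, htX, ht⟩)
    have hk' : z ^ k = t := by simpa using congrArg Subtype.val hk
    exact ⟨m, hm, k, by rw [hk']⟩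
  have hzM : z ∉ M := by
    intro h
    apply hMX'
    intro x hx
    obtain ⟨m, hm, k, rfl⟩ := hspan x hx
    exact mul_mem hm (zpow_mem h k)
  have hzP : ∀ u ∈ (P : Subgroup G), u * z = z * u := by
    intro u hu
    have h1 := hw hu
    rw [← SetLike.mem_coe, normal_mul] at h1
    obtain ⟨m, hm, t, ht, rfl⟩ := h1
    obtain ⟨j, rfl⟩ := mem_zpowers_iff.mp ht
    obtain ⟨i, rfl⟩ := mem_zpowers_iff.mp hz.2
    exact ((show Commute m (w ^ i) from hXc m (hMX hm) _ hz.1).mul_left
      ((Commute.refl w).zpow_zpow j i)).eq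
  obtain ⟨N, hN, hN0, hNM⟩ := exists_normal_disjoint P hXc hXe hz.1 hzM hzP hspan
  exact inf_ne_bot P hna hgen hcore hfrat hN hMn hN0 hM0 hNM

/-- In the presence of components the `p`-core is trivial. -/
theorem pCore_eq_bot_of_layer (hna : ¬ IsMulCommutative (P : Subgroup G))
    (hgen : (frattini ↥(P : Subgroup G)).index = p ^ 2) (hcore : Cfsg.pPrimeCore p G = ⊥)
    (hfrat : ((frattini ↥(P : Subgroup G)).map (P : Subgroup G).subtype).normalCore = ⊥)
    (hE : Cfsg.layer G ≠ ⊥) : Cfsg.pCore p G = ⊥ := by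
  by_contra hX0
  obtain ⟨E, hEdef⟩ : ∃ E : Subgroup G, E = Cfsg.layer G := ⟨_, rfl⟩
  rw [← hEdef] at hE
  haveI hXn : (Cfsg.pCore p G).Normal := Cfsg.pCore_normal p G
  haveI hEn : E.Normal := hEdef ▸ inferInstance
  have hne := inf_ne_bot P hna hgen hcore hfrat hEn hXn hE hX0
  apply not_le_of_normal P hcore hfrat (inferInstance : (E ⊓ Cfsg.pCore p G).Normal) hne
  rintro z ⟨⟨hzE, hzX⟩, hzP⟩
  have hFX := CfsgLib.Components.fitting_eq_pCore_of_pPrimeCore_eq_bot hcore
  have hcen : (⟨z, hzE⟩ : E) ∈ center E := by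
    rw [mem_center_iff]
    intro g
    apply Subtype.ext
    have h1 := CfsgLib.Components.layer_le_centralizer_fitting (G := G) (hEdef.le g.2)
    exact (mem_centralizer_iff.mp h1 z (hFX ▸ hzX)).symm
  have hd : (⟨z, hzE⟩ : E) ∈ _root_.commutator E := by
    have h1 : ⁅E, E⁆ = E := hEdef ▸ CfsgLib.Components.commutator_layer_self
    have h2 : z ∈ ⁅E, E⁆ := h1.symm ▸ hzE
    rw [← map_subtype_commutator] at h2
    obtain ⟨b, hb, e⟩ := h2
    exact (Subtype.ext e : b = ⟨z, hzE⟩) ▸ hb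
  let H : Subgroup E := (P : Subgroup G).subgroupOf E
  have hHi : ¬ p ∣ H.index := by
    have := CfsgLib.Techniques.not_dvd_relIndex_inf_normal P E
    rwa [inf_relIndex_right] at this
  have h1 := CfsgLib.Transfer.apply_pow_index_eq_one (Abelianization.of (G := H)) hcen
    (mem_subgroupOf.mpr hzP) hd
  have hz1 : Abelianization.of (⟨⟨z, hzE⟩, mem_subgroupOf.mpr hzP⟩ : H) = 1 := by
    obtain ⟨k, hk⟩ := P.2 ⟨z, hzP⟩
    have h2 : Abelianization.of (⟨⟨z, hzE⟩, mem_subgroupOf.mpr hzP⟩ : H) ^ p ^ k = 1 := by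
      rw [← map_pow]
      refine (congrArg _ (Subtype.ext (Subtype.ext ?_))).trans (map_one _)
      simpa using congrArg Subtype.val hk
    rw [← orderOf_dvd_iff_pow_eq_one] at h1 h2
    exact orderOf_eq_one_iff.mp (Nat.eq_one_of_dvd_coprimes
      (((Fact.out (p := p.Prime)).coprime_iff_not_dvd.mpr hHi).pow_left k) h2 h1)
  have hz2 : (⟨⟨z, hzE⟩, mem_subgroupOf.mpr hzP⟩ : H) ∈ _root_.commutator H := by
    rw [← Abelianization.ker_of]
    exact hz1
  have hle : ((_root_.commutator H).map H.subtype).map E.subtype ≤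
      (frattini ↥(P : Subgroup G)).map (P : Subgroup G).subtype := by
    rw [map_subtype_commutator, map_commutator]
    refine le_trans (commutator_mono ?_ ?_)
      ((map_subtype_commutator (P : Subgroup G)).ge.trans
        (Subgroup.map_mono (CfsgLib.PGroup.commutator_le_frattini P.2)))
    all_goals
      rw [subgroupOf_map_subtype]
      exact inf_le_left
  exact hle ⟨_, ⟨_, hz2, rfl⟩, rfl⟩

/-- The structure in the case with components. -/
theorem layer_case (hna : ¬ IsMulCommutative (P : Subgroup G))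
    (hgen : (frattini ↥(P : Subgroup G)).index = p ^ 2) (hcore : Cfsg.pPrimeCore p G = ⊥)
    (hfrat : ((frattini ↥(P : Subgroup G)).map (P : Subgroup G).subtype).normalCore = ⊥)
    (hE : Cfsg.layer G ≠ ⊥) :
    (∀ K : Subgroup G, K.Normal → K ≠ ⊥ → Cfsg.layer G ≤ K) ∧
      ∀ K L : Subgroup G, Cfsg.IsComponent K → Cfsg.IsComponent L →
        ∃ x ∈ (P : Subgroup G), L = K.map (MulAut.conj x).toMonoidHom := by
  have hX := pCore_eq_bot_of_layer P hna hgen hcore hfrat hE
  have hF : Cfsg.fittingSubgroup G = ⊥ := by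
    rw [CfsgLib.Components.fitting_eq_pCore_of_pPrimeCore_eq_bot hcore, hX]
  refine ⟨fun K hK hK0 => sSup_le fun L hL => ?_, fun K L hK hL => ?_⟩
  · haveI := hK
    rcases CfsgLib.Components.le_or_commutator_eq_bot hL hK.isSubnormal with h | h
    · exact h
    exfalso
    have hLC : L ≤ centralizer (K : Set G) := CfsgLib.Components.le_centralizer_of_commutator_eq_bot h
    have hC0 : centralizer (K : Set G) ≠ ⊥ := fun h0 =>
      CfsgLib.Components.component_ne_bot hL (le_bot_iff.mp (h0 ▸ hLC))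
    apply inf_ne_bot P hna hgen hcore hfrat (inferInstance : (centralizer (K : Set G)).Normal) hK
      hC0 hK0
    refine le_bot_iff.mp (le_trans ?_ hF.le)
    haveI : IsMulCommutative ↥(centralizer (K : Set G) ⊓ K) :=
      ⟨⟨fun a b => Subtype.ext ((mem_centralizer_iff.mp a.2.1 b b.2.2).symm)⟩⟩
    open scoped IsMulCommutative in
    exact CfsgLib.Fitting.le_fitting inferInstance inferInstance
  · by_contra hne
    obtain ⟨Ω, hΩdef⟩ : ∃ Ω : Set (Subgroup G),
        Ω = {M | ∃ x ∈ (P : Subgroup G), M = K.map (MulAut.conj x).toMonoidHom} := ⟨_, rfl⟩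
    have hΩ : ∀ M, M ∈ Ω ↔ ∃ x ∈ (P : Subgroup G), M = K.map (MulAut.conj x).toMonoidHom :=
      fun M => by rw [hΩdef]; rfl
    have hKΩ : K ∈ Ω := (hΩ K).mpr
      ⟨1, one_mem _, (CfsgLib.Components.map_conj_one K).symm⟩
    have hLΩ : L ∉ Ω := fun h => hne ((hΩ L).mp h)
    obtain ⟨R, hR⟩ : ∃ R : Set (Subgroup G), R = {M | Cfsg.IsComponent M ∧ M ∉ Ω} := ⟨_, rfl⟩
    have hΩc : ∀ M ∈ Ω, Cfsg.IsComponent M := fun M hM => by
      obtain ⟨x, -, rfl⟩ := (hΩ M).mp hM
      exact CfsgLib.Components.isComponent_conj x hK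
    have hRc : ∀ M ∈ R, Cfsg.IsComponent M := fun M hM => by
      rw [hR] at hM
      exact hM.1
    have hΩP : ∀ g ∈ (P : Subgroup G), ∀ M ∈ Ω, M.map (MulAut.conj g).toMonoidHom ∈ Ω := by
      intro g hg M hM
      obtain ⟨x, hx, rfl⟩ := (hΩ M).mp hM
      exact (hΩ _).mpr ⟨g * x, mul_mem hg hx, CfsgLib.Components.map_conj_map_conj K g x⟩
    have hRP : ∀ g ∈ (P : Subgroup G), ∀ M ∈ R, M.map (MulAut.conj g).toMonoidHom ∈ R := by
      intro g hg M hM
      rw [hR] at hM ⊢
      refine ⟨CfsgLib.Components.isComponent_conj g hM.1, fun h => hM.2 ?_⟩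
      have := hΩP g⁻¹ (inv_mem hg) _ h
      rwa [CfsgLib.Components.map_conj_map_conj, inv_mul_cancel,
        CfsgLib.Components.map_conj_one] at this
    have hsub : ∀ S : Set (Subgroup G), (∀ M ∈ S, Cfsg.IsComponent M) →
        (sSup S).IsSubnormal := by
      intro S hS
      have hWE : sSup S ≤ Cfsg.layer G :=
        sSup_le fun M hM => CfsgLib.Components.component_le_layer (hS M hM)
      refine IsSubnormal.step _ _ hWE (inferInstance : (Cfsg.layer G).Normal).isSubnormal
        ((normal_subgroupOf_iff_le_normalizer hWE).mpr ?_)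
      refine CfsgLib.Structure.le_normalizer_sSup fun g hg M hM => ?_
      rwa [show M.map (MulAut.conj g).toMonoidHom = M from mem_normalizer_iff_map_conj_eq.mp
        (CfsgLib.Components.layer_le_normalizer_component (hS M hM) hg)]
    have hbad : ∀ S : Set (Subgroup G), (∀ M ∈ S, Cfsg.IsComponent M) →
        (∀ g ∈ (P : Subgroup G), ∀ M ∈ S, M.map (MulAut.conj g).toMonoidHom ∈ S) → ∀ M ∈ S,
        ¬ sSup S ⊓ (P : Subgroup G) ≤
          (frattini ↥(P : Subgroup G)).map (P : Subgroup G).subtype := by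
      intro S hS hSP M hM h
      have hp := isPGroup_of_inf_le P hcore (hsub S hS)
        (CfsgLib.Structure.le_normalizer_sSup hSP) h
      haveI := (hp.to_le (le_sSup hM)).isNilpotent
      exact CfsgLib.Components.component_not_isSolvable (hS M hM) inferInstance
    refine false_of_disjoint P hna hgen (sSup Ω) (sSup R)
      (CfsgLib.Structure.le_normalizer_sSup hΩP) (CfsgLib.Structure.le_normalizer_sSup hRP) ?_
      (hbad Ω hΩc hΩP K hKΩ) (hbad R hRc hRP L (by rw [hR]; exact ⟨hL, hLΩ⟩))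
    have hAB : ⁅sSup Ω, sSup R⁆ = ⊥ :=
      CfsgLib.Components.commutator_sSup_eq_bot fun M hM => by
        rw [commutator_comm]
        refine CfsgLib.Components.commutator_sSup_eq_bot fun N hN => ?_
        refine CfsgLib.Components.commutator_components_eq_bot (hRc N hN) (hΩc M hM) ?_
        rintro rfl
        rw [hR] at hN
        exact hN.2 hM
    have hE2 : Cfsg.layer G ≤ sSup Ω ⊔ sSup R := sSup_le fun M hM => by
      by_cases h : M ∈ Ω
      · exact (le_sSup h).trans le_sup_left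
      · exact (le_sSup (show M ∈ R by rw [hR]; exact ⟨hM, h⟩)).trans le_sup_right
    refine le_bot_iff.mp (le_trans ?_
      ((CfsgLib.Components.center_layer_le_pCore hcore).trans hX.le))
    refine le_inf (inf_le_left.trans (sSup_le fun M hM =>
      CfsgLib.Components.component_le_layer (hΩc M hM))) ?_
    rw [le_centralizer_iff]
    refine hE2.trans (sup_le ?_ ?_)
    · rw [le_centralizer_iff]
      exact inf_le_right.trans (CfsgLib.Components.le_centralizer_of_commutator_eq_bot
        (by rw [commutator_comm]; exact hAB))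
    · rw [le_centralizer_iff]
      exact inf_le_left.trans (CfsgLib.Components.le_centralizer_of_commutator_eq_bot hAB)

/-- Let p be a prime and G a finite group with a non-commutative Sylow p-subgroup P whose Frattini subgroup has index p² in P (P is generated by two elements). Suppose G has no nontrivial normal subgroup of order prime to p and the Frattini subgroup of P contains no nontrivial normal subgroup of G. Then the generalized Fitting subgroup F*(G) is the unique minimal normal subgroup of G, the image of P in G/F*(G) is cyclic, and if F*(G) is not commutative then P permutes the components of G transitively by conjugation. -/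
theorem result {G : Type*} [Group G] [Finite G] (p : ℕ) [Fact p.Prime] (P : Sylow p G) (hna : ¬ IsMulCommutative (P : Subgroup G)) (hgen : (frattini ↥(P : Subgroup G)).index = p ^ 2) (hcore : Cfsg.pPrimeCore p G = ⊥) (hfrat : ((frattini ↥(P : Subgroup G)).map (P : Subgroup G).subtype).normalCore = ⊥) [hFn : (Cfsg.generalizedFittingSubgroup G).Normal] :
    (Cfsg.generalizedFittingSubgroup G ≠ ⊥ ∧ ∀ K : Subgroup G, K.Normal → K ≠ ⊥ → Cfsg.generalizedFittingSubgroup G ≤ K) ∧
      IsCyclic ↥((P : Subgroup G).map (QuotientGroup.mk' (Cfsg.generalizedFittingSubgroup G))) ∧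
      (¬ IsMulCommutative (Cfsg.generalizedFittingSubgroup G) → ∀ K L : Subgroup G, Cfsg.IsComponent K → Cfsg.IsComponent L → ∃ x ∈ (P : Subgroup G), L = K.map (MulAut.conj x).toMonoidHom) := by
  have hne : Cfsg.generalizedFittingSubgroup G ≠ ⊥ := by
    intro h
    have h1 := CfsgLib.Components.centralizer_generalizedFitting_le (G := G)
    rw [h] at h1
    apply hna
    refine ⟨⟨fun x y => ?_⟩⟩
    have hx : (x : G) ∈ centralizer ((⊥ : Subgroup G) : Set G) :=
      mem_centralizer_iff.mpr fun g hg => by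
        rw [mem_bot.mp hg]
        simp
    exact Subtype.ext (by simp [mem_bot.mp (h1 hx)])
  refine ⟨⟨hne, ?_⟩, ?_, ?_⟩
  · intro K hK hK0
    by_cases hE : Cfsg.layer G = ⊥
    · have h1 : Cfsg.generalizedFittingSubgroup G = Cfsg.pCore p G := by
        rw [Cfsg.generalizedFittingSubgroup, hE, bot_sup_eq,
          CfsgLib.Components.fitting_eq_pCore_of_pPrimeCore_eq_bot hcore]
      rw [h1] at hne ⊢
      exact pCore_le_of_normal P hna hgen hcore hfrat hne hK hK0
    · refine sup_le ((layer_case P hna hgen hcore hfrat hE).1 K hK hK0) ?_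
      rw [CfsgLib.Components.fitting_eq_pCore_of_pPrimeCore_eq_bot hcore,
        pCore_eq_bot_of_layer P hna hgen hcore hfrat hE]
      exact bot_le
  · obtain ⟨w, hwP, hw⟩ := exists_gen P hgen _ (not_le_of_normal P hcore hfrat hFn hne)
    have h1 : (P : Subgroup G).map (QuotientGroup.mk' (Cfsg.generalizedFittingSubgroup G)) =
        zpowers (QuotientGroup.mk' (Cfsg.generalizedFittingSubgroup G) w) := by
      refine le_antisymm ?_ (zpowers_le.mpr (mem_map_of_mem _ hwP))
      refine (Subgroup.map_mono (hw.trans (sup_le_sup_right inf_le_left _))).trans ?_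
      rw [Subgroup.map_sup, QuotientGroup.map_mk'_self, bot_sup_eq, MonoidHom.map_zpowers]
    rw [h1]
    infer_instance
  · intro hnc K L hK hL
    refine (layer_case P hna hgen hcore hfrat ?_).2 K L hK hL
    exact fun h => CfsgLib.Components.component_ne_bot hK
      (le_bot_iff.mp (h ▸ CfsgLib.Components.component_le_layer hK))

end Cfsg.Agent.S4172
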