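import Cfsg.Statements.S4177
-- import your own Cfsg.Agent.* helpers here

set_option autoImplicit false
open Cfsg

namespace Cfsg.Agent.S4177

/-- Let k be a field whose characteristic does not divide the order of the finite group H (for instance a field of characteristic zero), and ρ a k-linear representation of H on V. Let a be a vector whose H-orbit spans V. Then the space of H-fixed vectors has dimension at most 1, and every vector b whose H-orbit has size coprime to the size of the orbit of a is fixed by H. -/
theorem result {k V H : Type*} [Field k] [AddCommGroup V] [Module k V] [Group H] [Finite H]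
    (hchar : ¬ ringChar k ∣ Nat.card H) (ρ : Representation k H V) (a : V)
    (hspan : Submodule.span k {u : V | ∃ h : H, ρ h a = u} = ⊤) :
    Module.finrank k ρ.invariants ≤ 1 ∧
    ∀ b : V, (Nat.card {u : V | ∃ h : H, ρ h a = u}).Coprime (Nat.card {u : V | ∃ h : H, ρ h b = u}) → ∀ h : H, ρ h b = b := by
  classical
  have : Fintype H := Fintype.ofFinite H
  have hne : ∀ n : ℕ, n ∣ Nat.card H → (n : k) ≠ 0 := fun n hn h =>
    hchar ((ringChar.spec k n).1 h |>.trans hn)
  have hinv : Invertible (Fintype.card H : k) :=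
    invertibleOfNonzero (Nat.card_eq_fintype_card (α := H) ▸ hne _ dvd_rfl)
  refine ⟨?_, ?_⟩
  · have hle : ρ.invariants ≤ Submodule.span k {Representation.averageMap ρ a} := by
      intro v hv
      have hv' : v ∈ Submodule.span k {u : V | ∃ h : H, ρ h a = u} := hspan ▸ Submodule.mem_top
      rw [← Representation.averageMap_id ρ v hv]
      clear hv
      induction hv' using Submodule.span_induction with
      | mem x hx =>
        obtain ⟨h, rfl⟩ := hx
        have : Representation.averageMap ρ (ρ h a) = Representation.averageMap ρ a := by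
          simp only [Representation.averageMap, GroupAlgebra.average, map_smul, map_sum,
            LinearMap.smul_apply, LinearMap.sum_apply, Representation.asAlgebraHom_of]
          congr 1
          refine (Equiv.sum_comp (Equiv.mulRight h) (fun g => ρ g a)).symm.trans ?_ |>.symm
          exact Finset.sum_congr rfl fun g _ => by simp
        rw [this]
        exact Submodule.mem_span_singleton_self _
      | zero => simp
      | add x y _ _ hx hy => rw [map_add]; exact add_mem hx hy
      | smul c x _ hx => rw [map_smul]; exact Submodule.smul_mem _ c hx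
    exact (Submodule.finrank_mono hle).trans (finrank_span_le_card ({Representation.averageMap ρ a} : Set V) |>.trans (by rw [Set.toFinset_singleton, Finset.card_singleton]))
  intro b hcop
  let A : Subgroup H :=
    { carrier := {h | ρ h a = a}
      one_mem' := by simp
      mul_mem' := fun {x y} (hx : ρ x a = a) (hy : ρ y a = a) => by
        change ρ (x * y) a = a
        rw [map_mul, Module.End.mul_apply, hy, hx]
      inv_mem' := fun {x} (hx : ρ x a = a) => by
        change ρ x⁻¹ a = a
        conv_lhs => rw [← hx]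
        rw [← Module.End.mul_apply, ← map_mul, inv_mul_cancel, map_one, Module.End.one_apply] }
  let B : Subgroup H :=
    { carrier := {h | ρ h b = b}
      one_mem' := by simp
      mul_mem' := fun {x y} (hx : ρ x b = b) (hy : ρ y b = b) => by
        change ρ (x * y) b = b
        rw [map_mul, Module.End.mul_apply, hy, hx]
      inv_mem' := fun {x} (hx : ρ x b = b) => by
        change ρ x⁻¹ b = b
        conv_lhs => rw [← hx]
        rw [← Module.End.mul_apply, ← map_mul, inv_mul_cancel, map_one, Module.End.one_apply] }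
  have horb : ∀ (c : V) (C : Subgroup H), (∀ h, h ∈ C ↔ ρ h c = c) →
      C.index = Nat.card {u : V | ∃ h : H, ρ h c = u} := by
    intro c C hC
    rw [Subgroup.index_eq_card]
    refine Nat.card_congr (Equiv.ofBijective (Quotient.lift
      (fun h => (⟨ρ h c, h, rfl⟩ : {u : V | ∃ h : H, ρ h c = u})) ?_) ⟨?_, ?_⟩)
    · intro x y hxy
      refine Subtype.ext ?_
      have := (hC _).1 (QuotientGroup.leftRel_apply.1 hxy)
      change ρ x c = ρ y c
      conv_lhs => rw [← this]
      rw [← Module.End.mul_apply, ← map_mul, mul_inv_cancel_left]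
    · intro x y
      refine Quotient.inductionOn₂' x y fun x y hxy => ?_
      refine Quotient.sound' (QuotientGroup.leftRel_apply.2 ((hC _).2 ?_))
      have h : ρ x c = ρ y c := congrArg Subtype.val hxy
      rw [map_mul, Module.End.mul_apply, ← h, ← Module.End.mul_apply, ← map_mul, inv_mul_cancel,
        map_one, Module.End.one_apply]
    · rintro ⟨u, h, rfl⟩
      exact ⟨QuotientGroup.mk h, rfl⟩
  rw [← horb a A fun _ => Iff.rfl, ← horb b B fun _ => Iff.rfl] at hcop
  -- `A` is transitive on the orbit of `b`
  have htrans : ∀ h : H, ∃ x ∈ A, ρ h b = ρ x b := by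
    have h1 : B.relIndex A = B.index := by
      refine le_antisymm ?_ ?_
      · rw [← Subgroup.relIndex_top_right]
        exact Subgroup.relIndex_le_of_le_right le_top
          (by rw [Subgroup.relIndex_top_right]; exact Subgroup.index_ne_zero_of_finite)
      · have hpos : 0 < B.relIndex A := Nat.pos_of_ne_zero fun h =>
          Subgroup.index_ne_zero_of_finite (H := B.subgroupOf A) h
        refine Nat.le_of_dvd hpos (hcop.symm.dvd_of_dvd_mul_right ?_)
        rw [← Subgroup.inf_relIndex_right, Subgroup.relIndex_mul_index inf_le_right]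
        exact Subgroup.index_dvd_of_le inf_le_left
    intro h
    let j : A ⧸ B.subgroupOf A → H ⧸ B := Quotient.lift (fun x : A => ((x : H) : H ⧸ B))
      (fun x y hxy => QuotientGroup.eq.2 (QuotientGroup.leftRel_apply.1 hxy :))
    have hj : Function.Injective j := by
      intro x y
      refine Quotient.inductionOn₂' x y fun x y hxy => ?_
      exact Quotient.sound' (QuotientGroup.leftRel_apply.2 (QuotientGroup.eq.1 hxy :))
    obtain ⟨q, hq⟩ := (hj.bijective_of_nat_card_le
      (le_of_eq (by rw [← Subgroup.index_eq_card, ← Subgroup.index_eq_card]; exact h1.symm))).2 (h : H ⧸ B)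
    obtain ⟨x, rfl⟩ := QuotientGroup.mk_surjective q
    refine ⟨x, x.2, ?_⟩
    have hB : ρ ((x : H)⁻¹ * h) b = b := QuotientGroup.eq.1 hq
    conv_rhs => rw [← hB]
    rw [← Module.End.mul_apply, ← map_mul, mul_inv_cancel_left]
  -- the span `W` of the differences is invariant
  let W : Submodule k V := Submodule.span k (Set.range fun h : H => ρ h b - b)
  have hWinv : ∀ g : H, ∀ w ∈ W, ρ g w ∈ W := by
    intro g w hw
    induction hw using Submodule.span_induction with
    | mem x hx =>
      obtain ⟨h, rfl⟩ := hx
      have : ρ g (ρ h b - b) = (ρ (g * h) b - b) - (ρ g b - b) := by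
        rw [map_sub, map_mul, Module.End.mul_apply]; abel
      rw [this]
      exact sub_mem (Submodule.subset_span ⟨_, rfl⟩) (Submodule.subset_span ⟨_, rfl⟩)
    | zero => simp
    | add x y _ _ hx hy => rw [map_add]; exact add_mem hx hy
    | smul c x _ hx => rw [map_smul]; exact W.smul_mem c hx
  suffices hW : W = ⊥ by
    intro h
    have : ρ h b - b ∈ W := Submodule.subset_span ⟨h, rfl⟩
    rwa [hW, Submodule.mem_bot, sub_eq_zero] at this
  by_contra hW
  obtain ⟨w, hwW, hw⟩ := W.exists_mem_ne_zero_of_ne_bot hW
  -- an equivariant projection onto `W`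
  obtain ⟨W₀, hW₀⟩ := Submodule.exists_isCompl W
  let π₀ : V →ₗ[k] V := W.subtype ∘ₗ W.projectionOnto W₀ hW₀
  have hπ₀ : ∀ v, π₀ v ∈ W := fun v => (W.projectionOnto W₀ hW₀ v).2
  have hπ₀' : ∀ v ∈ W, π₀ v = v := fun v hv =>
    congrArg Subtype.val (Submodule.projectionOnto_apply_left hW₀ ⟨v, hv⟩)
  let π : V →ₗ[k] V := (Fintype.card H : k)⁻¹ • ∑ g : H, ρ g ∘ₗ π₀ ∘ₗ ρ g⁻¹
  have hπW : ∀ v, π v ∈ W := fun v => by
    simp only [π, LinearMap.smul_apply, LinearMap.sum_apply, LinearMap.comp_apply]
    exact W.smul_mem _ (W.sum_mem fun g _ => hWinv g _ (hπ₀ _))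
  have hπeq : ∀ g v, π (ρ g v) = ρ g (π v) := by
    intro g v
    simp only [π, LinearMap.smul_apply, LinearMap.sum_apply, LinearMap.comp_apply, map_smul, map_sum]
    congr 1
    refine (Equiv.sum_comp (Equiv.mulLeft g) _).symm.trans (Finset.sum_congr rfl fun x _ => ?_)
    simp only [Equiv.coe_mulLeft, map_mul, Module.End.mul_apply, mul_inv_rev]
    congr 3
    rw [← Module.End.mul_apply (ρ g⁻¹), ← map_mul, inv_mul_cancel, map_one, Module.End.one_apply]
  have hπfix : ∀ v ∈ W, π v = v := by
    intro v hv
    simp only [π, LinearMap.smul_apply, LinearMap.sum_apply, LinearMap.comp_apply]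
    rw [Finset.sum_congr rfl (fun g _ => show ρ g (π₀ (ρ g⁻¹ v)) = v by
      rw [hπ₀' _ (hWinv _ _ hv), ← Module.End.mul_apply, ← map_mul, mul_inv_cancel, map_one,
        Module.End.one_apply]), Finset.sum_const, Finset.card_univ, ← Nat.cast_smul_eq_nsmul k,
      inv_smul_smul₀]
    exact Nat.card_eq_fintype_card (α := H) ▸ hne _ dvd_rfl
  have hπa : π a ≠ 0 := by
    intro h0
    apply hw
    rw [← hπfix w hwW]
    have hker : Submodule.span k {u : V | ∃ h : H, ρ h a = u} ≤ LinearMap.ker π :=
      Submodule.span_le.2 (by rintro _ ⟨h, rfl⟩; simp [hπeq, h0])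
    exact LinearMap.mem_ker.1 (hker (hspan ▸ Submodule.mem_top))
  obtain ⟨μ₀, hμ₀⟩ : ∃ μ₀ : V →ₗ[k] k, μ₀ (π a) ≠ 0 := by
    by_contra hall
    push Not at hall
    exact hπa ((Module.forall_dual_apply_eq_zero_iff k (π a)).1 hall)
  have : Fintype A := Fintype.ofFinite A
  let μ : V →ₗ[k] k := ∑ x : A, μ₀ ∘ₗ ρ (x : H)
  have hμinv : ∀ x ∈ A, ∀ v, μ (ρ x v) = μ v := by
    intro x hx v
    simp only [μ, LinearMap.sum_apply, LinearMap.comp_apply, ← Module.End.mul_apply, ← map_mul]
    exact Equiv.sum_comp (Equiv.mulRight ⟨x, hx⟩) (fun y : A => μ₀ (ρ (y : H) v))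
  have hμW : ∀ v ∈ W, μ v = 0 := by
    intro v hv
    have : W ≤ LinearMap.ker μ := Submodule.span_le.2 (by
      rintro _ ⟨h, rfl⟩
      obtain ⟨x, hx, hxb⟩ := htrans h
      simp only [SetLike.mem_coe, LinearMap.mem_ker, map_sub, hxb, hμinv x hx, sub_self])
    exact this hv
  have hμa : μ (π a) = (Nat.card A : k) * μ₀ (π a) := by
    simp only [μ, LinearMap.sum_apply, LinearMap.comp_apply, ← hπeq]
    rw [Finset.sum_congr rfl (fun (x : A) _ => show μ₀ (π (ρ (x : H) a)) = μ₀ (π a) by
      rw [(x.2 : ρ (x : H) a = a)]), Finset.sum_const, Finset.card_univ,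
      ← Nat.card_eq_fintype_card, nsmul_eq_mul]
  rw [hμW _ (hπW a)] at hμa
  exact mul_ne_zero (hne _ A.card_subgroup_dvd_card) hμ₀ hμa.symm

end Cfsg.Agent.S4177
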