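import Cfsg.Statements.S4176
import Cfsg.Agent.S4177
import Cfsg.Agent.Lib.Structure.PComplement
-- import your own Cfsg.Agent.* helpers here

set_option autoImplicit false
set_option linter.style.haveILetI false
open scoped Pointwise
open Cfsg

namespace Cfsg.Agent.S4176

/-- Let k be a field of prime characteristic p, H a finite p-soluble group and ρ a k-linear representation of H on V. Let a be a vector that is fixed by some Sylow p-subgroup of H and whose H-orbit spans V. Then the space of H-fixed vectors has dimension at most 1, and every vector b whose H-orbit has size coprime to the size of the orbit of a is fixed by H. -/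
theorem result {k V H : Type*} [Field k] (p : ℕ) [Fact p.Prime] [CharP k p] [AddCommGroup V] [Module k V]
    [Group H] [Finite H] (hsol : Cfsg.IsPSolvable p H) (ρ : Representation k H V) (a : V)
    (hfix : ∃ P : Sylow p H, ∀ x : H, x ∈ (P : Subgroup H) → ρ x a = a)
    (hspan : Submodule.span k {u : V | ∃ h : H, ρ h a = u} = ⊤) :
    Module.finrank k ρ.invariants ≤ 1 ∧
    ∀ b : V, (Nat.card {u : V | ∃ h : H, ρ h a = u}).Coprime (Nat.card {u : V | ∃ h : H, ρ h b = u}) → ∀ h : H, ρ h b = b := by
  classical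
  have hp : p.Prime := Fact.out
  obtain ⟨P, hP⟩ := hfix
  obtain ⟨Q₀, hQ₀, hdom⟩ := CfsgLib.Structure.pComplement_dominating hsol
  -- facts about an arbitrary `p`-complement
  have hQP : ∀ Q : Subgroup H, CfsgLib.Structure.IsPComplementIn p Q →
      ∀ h : H, ∃ q ∈ Q, ∃ x ∈ (P : Subgroup H), h = q * x := by
    intro Q hQ h
    have hcop : (Nat.card Q).Coprime (Nat.card (P : Subgroup H)) := by
      obtain ⟨k, hk⟩ := IsPGroup.iff_card.1 P.isPGroup'
      rw [hk]; exact hQ.1.pow_right k
    have hinj : Function.Injective fun z : Q × (P : Subgroup H) => (z.1 : H) * z.2 := by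
      rintro ⟨q, x⟩ ⟨q', x'⟩ hz
      have hz' : (q : H) * x = q' * x' := hz
      have e : (q' : H)⁻¹ * q = x' * (x : H)⁻¹ := by
        calc (q' : H)⁻¹ * q = (q' : H)⁻¹ * (q * x) * (x : H)⁻¹ := by group
          _ = x' * (x : H)⁻¹ := by rw [hz']; group
      have h1 : (q' : H)⁻¹ * q ∈ Q ⊓ (P : Subgroup H) :=
        ⟨Q.mul_mem (Q.inv_mem q'.2) q.2, e ▸ (P : Subgroup H).mul_mem x'.2 ((P : Subgroup H).inv_mem x.2)⟩
      rw [Subgroup.inf_eq_bot_of_coprime hcop, Subgroup.mem_bot] at h1
      have hq : q' = q := Subtype.ext (inv_mul_eq_one.1 h1)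
      subst hq
      have hx : (x : H) = x' := mul_left_cancel hz'
      exact Prod.ext rfl (Subtype.ext hx)
    have hle : Nat.card H ≤ Nat.card (Q × (P : Subgroup H)) := by
      rw [Nat.card_prod]
      obtain ⟨n, hn⟩ := hQ.2
      have h1 := Q.card_mul_index
      rw [hn] at h1
      rw [← h1]
      refine Nat.mul_le_mul_left _ ?_
      obtain ⟨k, hk⟩ := IsPGroup.iff_card.1 P.isPGroup'
      have h2 : p ^ n ∣ Nat.card (P : Subgroup H) :=
        P.pow_dvd_card_of_pow_dvd_card (n := n) (h1 ▸ dvd_mul_left _ _)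
      exact Nat.le_of_dvd Nat.card_pos h2
    obtain ⟨⟨q, x⟩, hqx⟩ := (hinj.bijective_of_nat_card_le hle).2 h
    exact ⟨q, q.2, x, x.2, hqx.symm⟩
  have horb : ∀ Q : Subgroup H, CfsgLib.Structure.IsPComplementIn p Q →
      {u : V | ∃ q : Q, ρ (q : H) a = u} = {u : V | ∃ h : H, ρ h a = u} := by
    intro Q hQ
    ext u
    constructor
    · rintro ⟨q, rfl⟩; exact ⟨q, rfl⟩
    · rintro ⟨h, rfl⟩
      obtain ⟨q, hq, x, hx, rfl⟩ := hQP Q hQ h
      exact ⟨⟨q, hq⟩, by rw [map_mul, Module.End.mul_apply, hP x hx]⟩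
  have hchar : ∀ Q : Subgroup H, CfsgLib.Structure.IsPComplementIn p Q → ¬ ringChar k ∣ Nat.card Q := by
    intro Q hQ
    rw [ringChar.eq k p]
    exact hp.coprime_iff_not_dvd.1 hQ.1.symm
  have hspanQ : ∀ Q : Subgroup H, CfsgLib.Structure.IsPComplementIn p Q →
      Submodule.span k {u : V | ∃ h : Q, (ρ.comp Q.subtype) h a = u} = ⊤ := fun Q hQ => by
    rw [← hspan, ← horb Q hQ]; rfl
  -- the sum over a complement spans its fixed points and is fixed by everything
  have hfixed : ∀ Q : Subgroup H, CfsgLib.Structure.IsPComplementIn p Q → ∀ [Fintype Q],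
      (∀ v : V, (∀ q : Q, ρ (q : H) v = v) → v ∈ Submodule.span k {∑ q : Q, ρ (q : H) a}) ∧
      (∀ h : H, ρ h (∑ q : Q, ρ (q : H) a) = ∑ q : Q, ρ (q : H) a) := by
    intro Q hQ _
    refine ⟨fun v hv => ?_, fun h => ?_⟩
    · let S : V →ₗ[k] V := ∑ q : Q, ρ (q : H)
      have hmem : ∀ w : V, S w ∈ Submodule.span k {∑ q : Q, ρ (q : H) a} := by
        intro w
        have hw : w ∈ Submodule.span k {u : V | ∃ h : Q, (ρ.comp Q.subtype) h a = u} :=
          (hspanQ Q hQ).symm ▸ Submodule.mem_top
        induction hw using Submodule.span_induction with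
        | mem u hu =>
          obtain ⟨q₀, rfl⟩ := hu
          have : S ((ρ.comp Q.subtype) q₀ a) = ∑ q : Q, ρ (q : H) a := by
            simp only [S, LinearMap.sum_apply]
            refine Fintype.sum_equiv (Equiv.mulRight q₀) _ _ fun q => ?_
            simp [map_mul]
          rw [this]
          exact Submodule.mem_span_singleton_self _
        | zero => simp
        | add x y _ _ hx hy => rw [map_add]; exact add_mem hx hy
        | smul c x _ hx => rw [map_smul]; exact Submodule.smul_mem _ c hx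
      have hSv : S v = (Nat.card Q : k) • v := by
        simp only [S, LinearMap.sum_apply]
        rw [Finset.sum_congr rfl (fun q _ => hv q), Finset.sum_const, Finset.card_univ,
          ← Nat.card_eq_fintype_card, Nat.cast_smul_eq_nsmul]
      have hne : (Nat.card Q : k) ≠ 0 := fun h0 => hchar Q hQ ((ringChar.spec k _).1 h0)
      have : v = (Nat.card Q : k)⁻¹ • S v := by rw [hSv, inv_smul_smul₀ hne]
      rw [this]
      exact Submodule.smul_mem _ _ (hmem v)
    · choose qf hqf xf hxf hprod using hQP Q hQ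
      let σ : Q → Q := fun q => ⟨qf (h * q), hqf _⟩
      have hσ : Function.Injective σ := by
        intro q₁ q₂ he
        have he' : qf (h * q₁) = qf (h * q₂) := congrArg Subtype.val he
        have e : (q₁ : H)⁻¹ * q₂ = (xf (h * q₁))⁻¹ * xf (h * q₂) := by
          calc (q₁ : H)⁻¹ * q₂ = (h * q₁)⁻¹ * (h * q₂) := by group
            _ = (qf (h * q₁) * xf (h * q₁))⁻¹ * (qf (h * q₂) * xf (h * q₂)) := by rw [← hprod, ← hprod]
            _ = _ := by rw [he']; group
        have hcop : (Nat.card Q).Coprime (Nat.card (P : Subgroup H)) := by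
          obtain ⟨k', hk⟩ := IsPGroup.iff_card.1 P.isPGroup'
          rw [hk]; exact hQ.1.pow_right k'
        have h1 : (q₁ : H)⁻¹ * q₂ ∈ Q ⊓ (P : Subgroup H) :=
          ⟨Q.mul_mem (Q.inv_mem q₁.2) q₂.2,
            e ▸ (P : Subgroup H).mul_mem ((P : Subgroup H).inv_mem (hxf _)) (hxf _)⟩
        rw [Subgroup.inf_eq_bot_of_coprime hcop, Subgroup.mem_bot] at h1
        exact Subtype.ext (inv_mul_eq_one.1 h1)
      rw [map_sum]
      refine Fintype.sum_equiv (Equiv.ofBijective σ ⟨hσ, Finite.injective_iff_surjective.1 hσ⟩) _ _ fun q => ?_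
      rw [← Module.End.mul_apply, ← map_mul, hprod (h * q), map_mul, Module.End.mul_apply,
        hP _ (hxf _)]
      rfl
  refine ⟨?_, fun b hcop => ?_⟩
  · have : Fintype Q₀ := Fintype.ofFinite _
    obtain ⟨h1, -⟩ := hfixed Q₀ hQ₀
    exact (Submodule.finrank_mono fun v hv => h1 v fun q => (Representation.mem_invariants _ _).1 hv (q : H)).trans
      ((finrank_span_le_card _).trans (by rw [Set.toFinset_singleton, Finset.card_singleton]))
  let B : Subgroup H :=
    { carrier := {h | ρ h b = b}
      one_mem' := by simp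
      mul_mem' := fun {x y} (hx : ρ x b = b) (hy : ρ y b = b) => by
        change ρ (x * y) b = b
        rw [map_mul, Module.End.mul_apply, hy, hx]
      inv_mem' := fun {x} (hx : ρ x b = b) => by
        change ρ x⁻¹ b = b
        conv_lhs => rw [← hx]
        rw [← Module.End.mul_apply, ← map_mul, inv_mul_cancel, map_one, Module.End.one_apply] }
  obtain ⟨B₀, hB₀, -⟩ := CfsgLib.Structure.pComplement_dominating
    (CfsgLib.PCore.isPSolvable_subgroup hsol B)
  obtain ⟨g, hg⟩ := hdom (B₀.map B.subtype) (by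
    rw [Subgroup.card_map_of_injective B.subtype_injective]; exact hB₀.1)
  set Q : Subgroup H := MulAut.conj g⁻¹ • Q₀ with hQdef
  have hQ : CfsgLib.Structure.IsPComplementIn p Q := by
    have hc : Nat.card Q = Nat.card Q₀ := Subgroup.card_map_of_injective (MulEquiv.injective _)
    refine ⟨hc ▸ hQ₀.1, ?_⟩
    obtain ⟨n, hn⟩ := hQ₀.2
    refine ⟨n, ?_⟩
    have e1 := Q.card_mul_index
    rw [← Q₀.card_mul_index, hc, hn] at e1
    exact Nat.eq_of_mul_eq_mul_left Nat.card_pos e1
  have hB₀Q : B₀.map B.subtype ≤ Q := by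
    rw [hQdef, map_inv, ← Subgroup.pointwise_smul_subset_iff]
    exact hg
  -- the complement has coprime orbit lengths on `a` and `b`
  have hstab : ∀ (K : Subgroup H) (c : V), Nat.card {u : V | ∃ h : K, ρ (h : H) c = u} =
      Nat.card K / Nat.card {h : K // ρ (h : H) c = c} ∧
      Nat.card {h : K // ρ (h : H) c = c} * Nat.card {u : V | ∃ h : K, ρ (h : H) c = u} = Nat.card K := by
    intro K c
    letI : MulAction K V :=
      { smul := fun h v => ρ (h : H) v
        one_smul := fun v => show ρ ((1 : K) : H) v = v by simp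
        mul_smul := fun x y v => show ρ ((x * y : K) : H) v = ρ (x : H) (ρ (y : H) v) by simp }
    have h1 : Nat.card (MulAction.stabilizer K c) * (MulAction.stabilizer K c).index = Nat.card K :=
      Subgroup.card_mul_index _
    rw [MulAction.index_stabilizer] at h1
    have h2 : (MulAction.orbit K c).ncard = Nat.card {u : V | ∃ h : K, ρ (h : H) c = u} := rfl
    rw [h2] at h1
    refine ⟨?_, h1⟩
    have : Nat.card {h : K // ρ (h : H) c = c} = Nat.card (MulAction.stabilizer K c) := rfl
    rw [this, ← h1, Nat.mul_div_cancel_left _ Nat.card_pos]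
  have hdvd : Nat.card {u : V | ∃ q : Q, ρ (q : H) b = u} ∣
      Nat.card {u : V | ∃ h : H, ρ h b = u} := by
    have hH : Nat.card {u : V | ∃ h : H, ρ h b = u} = B.index := by
      have h1 := (hstab ⊤ b).2
      have h2 : {u : V | ∃ h : (⊤ : Subgroup H), ρ (h : H) b = u} = {u : V | ∃ h : H, ρ h b = u} :=
        Set.ext fun u => ⟨fun ⟨h, hh⟩ => ⟨h, hh⟩, fun ⟨h, hh⟩ => ⟨⟨h, Subgroup.mem_top h⟩, hh⟩⟩
      have h3 : Nat.card {h : (⊤ : Subgroup H) // ρ (h : H) b = b} = Nat.card B :=
        Nat.card_congr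
          { toFun := fun h => ⟨((h : (⊤ : Subgroup H)) : H), h.2⟩
            invFun := fun h => ⟨⟨(h : H), Subgroup.mem_top _⟩, h.2⟩
            left_inv := fun h => rfl
            right_inv := fun h => rfl }
      rw [h2, h3, Subgroup.card_top, ← B.card_mul_index] at h1
      exact Nat.eq_of_mul_eq_mul_left Nat.card_pos h1
    have hQ' : Nat.card {h : Q // ρ (h : H) b = b} = Nat.card B₀ := by
      have e : Nat.card {h : Q // ρ (h : H) b = b} = Nat.card (Q.subgroupOf B) :=
        Nat.card_congr
          { toFun := fun h => ⟨⟨((h : Q) : H), h.2⟩, (h : Q).2⟩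
            invFun := fun h => ⟨⟨((h : B) : H), h.2⟩, (h : B).2⟩
            left_inv := fun h => rfl
            right_inv := fun h => rfl }
      rw [e]
      have hle : B₀ ≤ Q.subgroupOf B := fun x hx => hB₀Q ⟨x, hx, rfl⟩
      refine Nat.dvd_antisymm ?_ (Subgroup.card_dvd_of_le hle)
      have hc : (Nat.card (Q.subgroupOf B)).Coprime p := by
        refine Nat.Coprime.coprime_dvd_left ?_ hQ.1
        rw [← Subgroup.card_map_of_injective (K := Q.subgroupOf B) B.subtype_injective]
        exact Subgroup.card_dvd_of_le (by rintro _ ⟨x, hx, rfl⟩; exact hx)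
      obtain ⟨n, hn⟩ := hB₀.2
      refine (hc.pow_right n).dvd_of_dvd_mul_right ?_
      rw [← hn, B₀.card_mul_index]
      exact Subgroup.card_subgroup_dvd_card _
    have h1 := (hstab Q b).2
    rw [hQ'] at h1
    rw [hH]
    have hc : (Nat.card {u : V | ∃ q : Q, ρ (q : H) b = u}).Coprime p :=
      Nat.Coprime.coprime_dvd_left (Dvd.intro_left _ h1) hQ.1
    obtain ⟨n, hn⟩ := hB₀.2
    refine (hc.pow_right n).dvd_of_dvd_mul_left ?_
    refine (Nat.mul_dvd_mul_iff_left (Nat.card_pos (α := B₀))).1 ?_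
    rw [h1, ← mul_assoc, ← hn, B₀.card_mul_index, B.card_mul_index]
    exact Q.card_subgroup_dvd_card
  have hQb : ∀ q : Q, ρ (q : H) b = b := fun q => by
    refine (Cfsg.Agent.S4177.result (hchar Q hQ) (ρ.comp Q.subtype) a (hspanQ Q hQ)).2 b ?_ q
    refine Nat.Coprime.coprime_dvd_right hdvd ?_
    change Nat.Coprime (Nat.card {u : V | ∃ q : Q, ρ (q : H) a = u}) _
    rw [horb Q hQ]
    exact hcop
  have : Fintype Q := Fintype.ofFinite _
  obtain ⟨h1, h2⟩ := hfixed Q hQ
  obtain ⟨c, hc⟩ := Submodule.mem_span_singleton.1 (h1 b hQb)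
  intro h
  rw [← hc, map_smul, h2]

end Cfsg.Agent.S4176
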