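import Cfsg.Statements.S4178
-- import your own Cfsg.Agent.* helpers here

set_option autoImplicit false
open Cfsg

namespace Cfsg.Agent.S4178

/-- Let F be a finite field with q elements, V a non-zero finite-dimensional F-space of dimension d, H a group of invertible linear maps of V, and R the subgroup of H generated by the elements of H that fix some non-zero vector (have eigenvalue 1). Then the index of R in H is at most q^d − 1; and if H leaves invariant some proper non-zero subspace, the index is at most q^(d/2) − 1. -/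
theorem result {F V : Type*} [Field F] [Fintype F] [AddCommGroup V] [Module F V] [FiniteDimensional F V] [Nontrivial V]
    (H : Subgroup (V ≃ₗ[F] V)) :
    (Subgroup.closure {h : ↥H | ∃ v : V, v ≠ 0 ∧ (h : V ≃ₗ[F] V) v = v}).index ≤ Fintype.card F ^ Module.finrank F V - 1 ∧
    ((∃ W : Submodule F V, W ≠ ⊥ ∧ W ≠ ⊤ ∧ ∀ h ∈ H, ∀ w ∈ W, h w ∈ W) →
      ((Subgroup.closure {h : ↥H | ∃ v : V, v ≠ 0 ∧ (h : V ≃ₗ[F] V) v = v}).index : ℝ) ≤ Real.sqrt ((Fintype.card F : ℝ) ^ Module.finrank F V) - 1) := by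
  classical
  have hfin : Finite V := Module.finite_of_finite F
  have hfinL : Finite (V ≃ₗ[F] V) := Finite.of_injective _ DFunLike.coe_injective
  have hfinH : Finite H := inferInstance
  have hfinQ : ∀ W : Submodule F V, Finite (V ⧸ W) := fun W =>
    Finite.of_surjective _ W.mkQ_surjective
  set R : Subgroup H := Subgroup.closure {h : ↥H | ∃ v : V, v ≠ 0 ∧ (h : V ≃ₗ[F] V) v = v} with hR
  have hmem : ∀ h : H, (∃ v : V, v ≠ 0 ∧ (h : V ≃ₗ[F] V) v = v) → h ∈ R :=
    fun h hh => Subgroup.subset_closure hh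
  -- a map to a module whose nonzero vector has stabilizer inside `R`
  have key : ∀ {M : Type _} [Finite M] [Zero M] (act : H → M → M) (w : M), w ≠ 0 →
      (∀ h, act h w ≠ 0) → (∀ a b, act a w = act b w → a⁻¹ * b ∈ R) →
      R.index ≤ Nat.card M - 1 := by
    intro M _ _ act w hw h0 hfib
    have hq : ∀ q : H ⧸ R, act q.out w ∈ ({0} : Set M)ᶜ := fun q => h0 _
    have hinj : Function.Injective fun q : H ⧸ R => (⟨act q.out w, hq q⟩ : ({0} : Set M)ᶜ.Elem) := by
      intro q q' hqq
      have := QuotientGroup.eq.2 (hfib _ _ (congrArg Subtype.val hqq))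
      rwa [QuotientGroup.out_eq', QuotientGroup.out_eq'] at this
    have := Nat.card_le_card_of_injective _ hinj
    rw [Subgroup.index_eq_card]
    refine this.trans (le_of_eq ?_)
    rw [Nat.card_coe_set_eq, Set.ncard_compl, Set.ncard_singleton]
  have hcardV : Nat.card V = Fintype.card F ^ Module.finrank F V := by
    rw [Module.natCard_eq_pow_finrank (K := F), Nat.card_eq_fintype_card]
  obtain ⟨v, hv⟩ := exists_ne (0 : V)
  refine ⟨?_, ?_⟩
  · rw [← hcardV]
    refine key (fun h x => (h : V ≃ₗ[F] V) x) v hv (fun h => by simpa using hv) fun a b hab => ?_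
    refine hmem _ ⟨v, hv, ?_⟩
    simp [← hab]
  rintro ⟨W, hW0, hW1, hWinv⟩
  obtain ⟨w, hwW, hw⟩ := W.exists_mem_ne_zero_of_ne_bot hW0
  have hb1 : R.index ≤ Nat.card W - 1 := by
    refine key (fun h x => (⟨(h : V ≃ₗ[F] V) x, hWinv _ h.2 _ x.2⟩ : W)) ⟨w, hwW⟩
      (by simpa using hw) (fun h => by simpa [Subtype.ext_iff] using hw) fun a b hab => ?_
    refine hmem _ ⟨w, hw, ?_⟩
    have hab' : (a : V ≃ₗ[F] V) w = (b : V ≃ₗ[F] V) w := congrArg Subtype.val hab
    simp [← hab']
  let g : H → ((V ⧸ W) →ₗ[F] (V ⧸ W)) := fun h =>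
    W.mapQ W ((h : V ≃ₗ[F] V) : V →ₗ[F] V) fun x hx => hWinv _ h.2 x hx
  have hg : ∀ (h : H) (x : V), g h (Submodule.Quotient.mk x) =
      Submodule.Quotient.mk ((h : V ≃ₗ[F] V) x) := fun h x => rfl
  obtain ⟨u, -, hu⟩ := SetLike.exists_of_lt (lt_top_iff_ne_top.2 hW1)
  have hmemW : ∀ (h : H) (x : V), (h : V ≃ₗ[F] V) x ∈ W ↔ x ∈ W := by
    intro h x
    refine ⟨fun hx => ?_, hWinv _ h.2 x⟩
    have := hWinv _ (h⁻¹).2 _ hx
    simpa using this
  have hb2 : R.index ≤ Nat.card (V ⧸ W) - 1 := by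
    refine key (fun h x => g h x) (Submodule.Quotient.mk u)
      (by simpa [Submodule.Quotient.mk_eq_zero] using hu)
      (fun h => by simpa [hg, Submodule.Quotient.mk_eq_zero, hmemW] using hu) fun a b hab => ?_
    simp only [hg, Submodule.Quotient.eq] at hab
    -- `a⁻¹ * b - 1` maps into `W` on `W + F u`, so it is not injective
    by_contra hc
    apply hc
    refine hmem _ ?_
    by_contra hno
    push Not at hno
    let D : V →ₗ[F] V := (((a⁻¹ * b : H) : V ≃ₗ[F] V) : V →ₗ[F] V) - LinearMap.id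
    have hDW : ∀ x ∈ W, D x ∈ W := fun x hx => W.sub_mem ((hmemW _ x).2 hx) hx
    have hDinj : Function.Injective D := by
      rw [injective_iff_map_eq_zero]
      intro x hx
      by_contra hx0
      exact hno x hx0 (sub_eq_zero.1 hx)
    have hDu : D u ∈ W := by
      have h1 : (((a⁻¹ * b : H) : V ≃ₗ[F] V)) u - u ∈ W := by
        rw [← hmemW a, map_sub]
        have h2 := W.neg_mem hab
        simpa using h2
      exact h1
    obtain ⟨⟨x, hx⟩, hxu⟩ := (Finite.injective_iff_surjective.1
      (show Function.Injective (D.restrict hDW) from fun x y hxy =>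
        Subtype.ext (hDinj (congrArg Subtype.val hxy)))) ⟨D u, hDu⟩
    exact hu (hDinj (congrArg Subtype.val hxu) ▸ hx)
  have hprod : Nat.card W * Nat.card (V ⧸ W) = Nat.card V := (Submodule.card_eq_card_quotient_mul_card W).symm.trans (by ring)
  have hsq : (R.index + 1) * (R.index + 1) ≤ Nat.card V := by
    rw [← hprod]
    exact Nat.mul_le_mul (by have := Nat.card_pos (α := W); omega)
      (by have := Nat.card_pos (α := V ⧸ W); omega)
  rw [le_sub_iff_add_le]
  refine Real.le_sqrt_of_sq_le ?_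
  rw [← Nat.cast_pow (Fintype.card F), ← hcardV]
  have : (((R.index + 1) * (R.index + 1) : ℕ) : ℝ) ≤ (Nat.card V : ℝ) := by exact_mod_cast hsq
  push_cast at this ⊢
  nlinarith

end Cfsg.Agent.S4178
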