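import Cfsg.Statements.S4181
import Mathlib.GroupTheory.GroupAction.Quotient
import Cfsg.Agent.Lib.SylowFix.Induction

set_option autoImplicit false
open Cfsg
open scoped Pointwise
open MulAction CfsgLib.SylowFix

namespace Cfsg.Agent.S4181

/-- Let p be a prime and G a finite group generated by its elements of p-power order, and let H be a proper subgroup of G containing a Sylow p-subgroup of G. Then 2p − 1 times the number of Sylow p-subgroups of H is at most p − 1 times the number of Sylow p-subgroups of G. -/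
theorem result {G : Type*} [Group G] [Finite G] (p : ℕ) [Fact p.Prime] (hgen : Subgroup.closure {g : G | ∃ k : ℕ, orderOf g = p ^ k} = ⊤)
    (H : Subgroup G) (hH : H ≠ ⊤) (P : Sylow p G) (hP : (P : Subgroup G) ≤ H) :
    (2 * p - 1) * Nat.card (Sylow p ↥H) ≤ (p - 1) * Nat.card (Sylow p G) := by
  have hp : p.Prime := Fact.out
  have hS : SylGen p G := by
    rw [SylGen, eq_top_iff, ← hgen, Subgroup.closure_le]
    rintro g ⟨k, hk⟩
    have hz : IsPGroup p (Subgroup.zpowers g) :=
      IsPGroup.of_card (n := k) (by rw [Nat.card_zpowers, hk])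
    obtain ⟨Q, hQ⟩ := hz.exists_le_sylow
    exact le_gen (Set.mem_univ Q) (hQ (Subgroup.mem_zpowers g))
  have hn : 2 ≤ Nat.card (G ⧸ H) := by
    have h1 : H.index ≠ 1 := fun h => hH (Subgroup.index_eq_one.1 h)
    have h2 : 0 < Nat.card (G ⧸ H) := Nat.card_pos
    rw [Subgroup.index_eq_card] at h1
    omega
  have hbd := fixed_bound (α := G ⧸ H) inferInstance hS hn P
  have hd := double_count (A := (Set.univ : Set (Sylow p G))) (B := (Set.univ : Set (G ⧸ H)))
    (r := fun Q x => Q ∈ sylFix p x)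
    (k := (CfsgLib.SylowFix.Fix (α := G ⧸ H) (P : Subgroup G)).ncard)
    (l := (sylFix p ((1 : G) : G ⧸ H) : Set (Sylow p G)).ncard) (fun Q _ => by
      refine Eq.trans ?_ (ncard_Fix_eq P Q)
      congr 1
      ext x
      exact ⟨And.right, fun h => ⟨trivial, h⟩⟩) (fun x _ => by
      obtain ⟨g, rfl⟩ := MulAction.exists_smul_eq G ((1 : G) : G ⧸ H) x
      rw [← ncard_sylFix_smul g]
      congr 1
      ext Q
      exact ⟨And.right, fun h => ⟨trivial, h⟩⟩)
  have hH' : (sylFix p ((1 : G) : G ⧸ H) : Set (Sylow p G)).ncard = Nat.card (Sylow p H) := by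
    have hst : stabilizer G ((1 : G) : G ⧸ H) = H := MulAction.stabilizer_quotient H
    rw [← Set.ncard_univ, ← Set.ncard_image_of_injective _ (upSylow_injective hP)]
    congr 1
    ext Q
    rw [sylFix, hst]
    constructor
    · intro hQ
      exact ⟨Q.subtype hQ, trivial, upSylow_subtype hQ⟩
    · rintro ⟨Q', -, rfl⟩
      exact (map_subtype_eq hP Q').1
  rw [Set.ncard_univ, Set.ncard_univ, hH'] at hd
  refine le_of_mul_le_mul_left ?_ (show 0 < Nat.card (G ⧸ H) by omega)
  calc Nat.card (G ⧸ H) * ((2 * p - 1) * Nat.card (Sylow p H))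
      = (2 * p - 1) * (Nat.card (G ⧸ H) * Nat.card (Sylow p H)) := by ring
    _ = Nat.card (Sylow p G) * ((2 * p - 1) * (CfsgLib.SylowFix.Fix (α := G ⧸ H) (P : Subgroup G)).ncard) := by
        rw [← hd]; ring
    _ ≤ Nat.card (Sylow p G) * ((p - 1) * Nat.card (G ⧸ H)) := Nat.mul_le_mul_left _ hbd
    _ = Nat.card (G ⧸ H) * ((p - 1) * Nat.card (Sylow p G)) := by ring

end Cfsg.Agent.S4181
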