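import Cfsg.Statements.S4182

/-!
Covering the `p`-elements of a group generated by them needs at least `p + 1` proper subgroups.

Take a minimal covering family of maximal members among proper subgroups generated by their
`p`-elements. An element `x` private to `M` generates the group with any `p`-element outside `M`
(induction), so `M` is the only such maximal subgroup containing `x`. Hence all conjugates of `M`
are in the family, so, having at most `p` members, the family consists of normal subgroups of
`p`-power index, and a counting argument finishes the proof.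
-/

set_option autoImplicit false
open Cfsg

namespace Cfsg.Agent.S4182

open Subgroup

/-- The elements of `p`-power order. -/
def pElts (p : ℕ) (G : Type*) [Group G] : Set G := {g : G | ∃ k : ℕ, orderOf g = p ^ k}

theorem mem_pElts_of_pow {p : ℕ} [Fact p.Prime] {G : Type*} [Group G] {g : G} {k : ℕ}
    (h : g ^ p ^ k = 1) : g ∈ pElts p G := by
  obtain ⟨i, -, hi⟩ :=
    (Nat.dvd_prime_pow (Fact.out (p := p.Prime))).mp (orderOf_dvd_of_pow_eq_one h)
  exact ⟨i, hi⟩

/-- A proper subgroup generated by `p`-elements. -/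
def Cand (p : ℕ) {G : Type*} [Group G] (M : Subgroup G) : Prop :=
  M ≠ ⊤ ∧ closure ((M : Set G) ∩ pElts p G) = M

theorem cand_map {p : ℕ} {G : Type*} [Group G] (e : G ≃* G) {M : Subgroup G} (hM : Cand p M) :
    Cand p (M.map e.toMonoidHom) := by
  refine ⟨fun h => hM.1 ?_, ?_⟩
  · exact map_injective e.injective (h.trans (map_top_of_surjective _ e.surjective).symm)
  · conv_rhs => rw [← hM.2, MonoidHom.map_closure]
    congr 1
    ext x
    simp only [Set.mem_inter_iff, SetLike.mem_coe, mem_map, Set.mem_image, pElts, Set.mem_setOf_eq]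
    constructor
    · rintro ⟨⟨y, hy, rfl⟩, k, hk⟩
      exact ⟨y, ⟨hy, k, by rw [← hk]; exact (e.orderOf_eq y).symm⟩, rfl⟩
    · rintro ⟨y, ⟨hy, k, hk⟩, rfl⟩
      exact ⟨⟨y, hy, rfl⟩, k, by rw [← hk]; exact e.orderOf_eq y⟩

theorem maximal_cand_map {p : ℕ} {G : Type*} [Group G] (e : G ≃* G) {M : Subgroup G}
    (hM : Maximal (Cand p) M) : Maximal (Cand p) (M.map e.toMonoidHom) := by
  refine ⟨cand_map e hM.prop, fun N hN hle => ?_⟩
  have h1 : M ≤ N.map e.symm.toMonoidHom := by
    intro x hx
    exact ⟨e x, hle ⟨x, hx, rfl⟩, e.symm_apply_apply x⟩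
  intro y hy
  have h2 := hM.le_of_ge (cand_map e.symm hN) h1 ⟨y, hy, rfl⟩
  exact ⟨e.symm y, h2, e.apply_symm_apply y⟩

/-- A family of at most `p` subgroups covering the `p`-elements of a group they generate contains
the whole group. -/
theorem key.{u} (p : ℕ) [hp : Fact p.Prime] : ∀ (n : ℕ) {G : Type u} [Group G] [Finite G],
    Nat.card G ≤ n → closure (pElts p G) = ⊤ → ∀ S : Finset (Subgroup G), S.card ≤ p →
    (∀ g ∈ pElts p G, ∃ K ∈ S, g ∈ K) → ⊤ ∈ S := by
  intro n
  induction n with
  | zero =>
    intro G _ _ hn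
    exact absurd hn (by simp [Nat.pos_iff_ne_zero.mp (Nat.card_pos (α := G))])
  | succ n ih =>
    intro G _ _ hn hgen S hS hcov
    classical
    by_contra htop
    -- a family of maximal candidates
    have hex : ∀ K ∈ S, ∃ M : Subgroup G, Maximal (Cand p) M ∧
        ∀ g ∈ pElts p G, g ∈ K → g ∈ M := by
      intro K hK
      have h1 : closure ((K : Set G) ∩ pElts p G) ≤ K :=
        closure_le _ |>.mpr Set.inter_subset_left
      have h2 : Cand p (closure ((K : Set G) ∩ pElts p G)) := by
        refine ⟨fun h => htop ?_, le_antisymm (closure_le _ |>.mpr Set.inter_subset_left)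
          (closure_mono fun g hg => ⟨subset_closure hg, hg.2⟩)⟩
        rw [show (⊤ : Subgroup G) = K from le_antisymm (h ▸ h1) le_top]
        exact hK
      obtain ⟨M, hle, hM⟩ := Finite.exists_le_maximal h2
      exact ⟨M, hM, fun g hg hgK => hle (subset_closure ⟨hgK, hg⟩)⟩
    choose f hf1 hf2 using hex
    have hex' : ∃ m, ∃ F : Finset (Subgroup G), F.card = m ∧ F.card ≤ p ∧
        (∀ M ∈ F, Maximal (Cand p) M) ∧ ∀ g ∈ pElts p G, ∃ M ∈ F, g ∈ M := by
      refine ⟨_, S.attach.image (fun K => f K.1 K.2), rfl,
        Finset.card_image_le.trans (by rwa [Finset.card_attach]), fun M hM => ?_, fun g hg => ?_⟩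
      · obtain ⟨K, -, rfl⟩ := Finset.mem_image.mp hM
        exact hf1 _ _
      · obtain ⟨K, hK, hgK⟩ := hcov g hg
        exact ⟨_, Finset.mem_image.mpr ⟨⟨K, hK⟩, Finset.mem_attach _ _, rfl⟩, hf2 K hK g hg hgK⟩
    obtain ⟨F, hFc, hFp, hFmax, hFcov⟩ := Nat.find_spec hex'
    have hpriv : ∀ M ∈ F, ∃ x ∈ pElts p G, x ∈ M ∧ ∀ N ∈ F, x ∈ N → N = M := by
      intro M hM
      by_contra! h
      refine Nat.find_min hex' (m := (F.erase M).card) ?_ ⟨F.erase M, rfl,
        (Finset.card_erase_le).trans hFp, fun N hN => hFmax N (Finset.mem_of_mem_erase hN),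
        fun g hg => ?_⟩
      · rw [← hFc]
        exact Finset.card_erase_lt_of_mem hM
      · obtain ⟨N, hN, hgN⟩ := hFcov g hg
        by_cases hNM : N = M
        · subst hNM
          obtain ⟨N', hN', hgN', hne⟩ := h g hg hgN
          exact ⟨N', Finset.mem_erase.mpr ⟨hne, hN'⟩, hgN'⟩
        · exact ⟨N, Finset.mem_erase.mpr ⟨hNM, hN⟩, hgN⟩
    choose x hxp hxM hxu using hpriv
    -- a private element generates with any p-element outside
    have hpair : ∀ M (hM : M ∈ F), ∀ y ∈ pElts p G, y ∉ M →
        closure ({x M hM, y} : Set G) = ⊤ := by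
      intro M hM y hy hyM
      by_contra hL
      obtain ⟨L, hLdef⟩ : ∃ L : Subgroup G, L = closure ({x M hM, y} : Set G) := ⟨_, rfl⟩
      have hlt : Nat.card L < Nat.card G := by
        refine lt_of_le_of_ne (Nat.le_of_dvd Nat.card_pos L.card_subgroup_dvd_card) fun h => hL ?_
        rw [← hLdef]
        exact card_eq_iff_eq_top L |>.mp h
      have hgenL : closure (pElts p L) = ⊤ := by
        rw [eq_top_iff]
        subst hLdef
        refine (closure_closure_coe_preimage (k := ({x M hM, y} : Set G))).ge.trans ?_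
        refine closure_mono fun z hz => ?_
        have hz' : (z : G) ∈ pElts p G := by
          rcases hz with e | e
          · rw [show (z : G) = x M hM from e]
            exact hxp M hM
          · rw [show (z : G) = y from e]
            exact hy
        obtain ⟨k, hk⟩ := hz'
        exact ⟨k, by rw [← hk, Subgroup.orderOf_coe]⟩
      have hmem := ih (G := L) (by omega) hgenL (F.image fun N => N.subgroupOf L)
        (Finset.card_image_le.trans hFp) fun z hz => by
          obtain ⟨k, hk⟩ := hz
          obtain ⟨N, hN, hzN⟩ := hFcov (z : G) ⟨k, by rw [← hk, Subgroup.orderOf_coe]⟩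
          exact ⟨_, Finset.mem_image.mpr ⟨N, hN, rfl⟩, mem_subgroupOf.mpr hzN⟩
      obtain ⟨N, hN, hNtop⟩ := Finset.mem_image.mp hmem
      have hLN : L ≤ N := subgroupOf_eq_top.mp hNtop
      rw [hLdef] at hLN
      have hNM := hxu M hM N hN (hLN (subset_closure (Set.mem_insert _ _)))
      exact hyM (hNM ▸ hLN (subset_closure (Set.mem_insert_of_mem _ rfl)))
    have huniq : ∀ M (hM : M ∈ F) (N : Subgroup G), Maximal (Cand p) N → x M hM ∈ N → N = M := by
      intro M hM N hN hxN
      refine le_antisymm ?_ (hN.le_of_ge (hFmax M hM).prop ?_) <;>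
      · have hNM : N ≤ M := by
          rw [← hN.prop.2, closure_le]
          rintro y ⟨hyN, hyp⟩
          by_contra hyM
          refine hN.prop.1 (top_le_iff.mp ?_)
          rw [← hpair M hM y hyp hyM, closure_le]
          rintro z (rfl | rfl)
          exacts [hxN, hyN]
        exact hNM
    -- conjugates stay in the family
    have hconj : ∀ M ∈ F, ∀ g : G, M.map (MulAut.conj g).toMonoidHom ∈ F := by
      intro M hM g
      obtain ⟨k, hk⟩ := hxp M hM
      obtain ⟨N, hN, hxN⟩ := hFcov (MulAut.conj g (x M hM))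
        ⟨k, by rw [MulEquiv.orderOf_eq, hk]⟩
      have h1 : N.map (MulAut.conj g).symm.toMonoidHom = M :=
        huniq M hM _ (maximal_cand_map _ (hFmax N hN))
          ⟨_, hxN, (MulAut.conj g).symm_apply_apply _⟩
      have h2 : M.map (MulAut.conj g).toMonoidHom = N := by
        rw [← h1, map_map]
        convert map_id N
        ext z
        simp
      exact h2 ▸ hN
    -- every member is normal
    have hnormal : ∀ M ∈ F, M.Normal := by
      intro M hM
      rw [← normalizer_eq_top_iff, ← top_le_iff, ← hgen, closure_le]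
      intro h hh
      obtain ⟨M₀, hM₀, hh₀⟩ := hFcov h hh
      obtain ⟨k, hk⟩ := hh
      by_contra hnot
      let O : ℕ → Subgroup G := fun i => M.map (MulAut.conj (h ^ i)).toMonoidHom
      have hfix : ∀ i j, i < j → j < p → O i ≠ O j := by
        intro i j hij hj he
        apply hnot
        have h1 : h ^ (j - i) ∈ normalizer (M : Set G) := by
          rw [mem_normalizer_iff]
          intro z
          have e1 : ∀ w, h ^ i * (h ^ (j - i) * w * (h ^ (j - i))⁻¹) * (h ^ i)⁻¹ =
              h ^ j * w * (h ^ j)⁻¹ := by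
            intro w
            have : h ^ j = h ^ i * h ^ (j - i) := by rw [← pow_add]; congr 1; omega
            rw [this]
            group
          constructor
          · intro hz
            have h2 : h ^ j * z * (h ^ j)⁻¹ ∈ O j := ⟨z, hz, rfl⟩
            rw [← he, ← e1] at h2
            obtain ⟨w, hw, e⟩ := h2
            have e' : h ^ i * w * (h ^ i)⁻¹ =
                h ^ i * (h ^ (j - i) * z * (h ^ (j - i))⁻¹) * (h ^ i)⁻¹ := e
            have : w = h ^ (j - i) * z * (h ^ (j - i))⁻¹ := mul_left_cancel (mul_right_cancel e')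
            exact this ▸ hw
          · intro hz
            have h2 : h ^ i * (h ^ (j - i) * z * (h ^ (j - i))⁻¹) * (h ^ i)⁻¹ ∈ O i :=
              ⟨_, hz, rfl⟩
            rw [he, e1] at h2
            obtain ⟨w, hw, e⟩ := h2
            have e' : h ^ j * w * (h ^ j)⁻¹ = h ^ j * z * (h ^ j)⁻¹ := e
            have : w = z := mul_left_cancel (mul_right_cancel e')
            exact this ▸ hw
        have hco : (orderOf h).Coprime (j - i) := by
          rw [hk]
          refine Nat.Coprime.pow_left k ((hp.out.coprime_iff_not_dvd).mpr fun hd => ?_)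
          exact absurd (Nat.le_of_dvd (by omega) hd) (by omega)
        obtain ⟨m, hm⟩ := exists_pow_eq_self_of_coprime hco.symm
        exact hm ▸ pow_mem h1 m
      have hne₀ : ∀ i, O i ≠ M₀ := by
        intro i he
        apply hnot
        rw [SetLike.mem_coe]
        suffices hMM : M = M₀ from hMM ▸ le_normalizer hh₀
        ext z
        have h1 := pow_mem hh₀ i
        constructor
        · intro hz
          have h2 : h ^ i * z * (h ^ i)⁻¹ ∈ M₀ := he ▸ ⟨z, hz, rfl⟩
          have := mul_mem (mul_mem (inv_mem h1) h2) h1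
          simpa [mul_assoc] using this
        · intro hz
          have h2 : h ^ i * z * (h ^ i)⁻¹ ∈ O i := he ▸ mul_mem (mul_mem h1 hz) (inv_mem h1)
          obtain ⟨w, hw, e⟩ := h2
          have e' : h ^ i * w * (h ^ i)⁻¹ = h ^ i * z * (h ^ i)⁻¹ := e
          have : w = z := mul_left_cancel (mul_right_cancel e')
          exact this ▸ hw
      have hcard : p + 1 ≤ F.card := by
        have hsub : insert M₀ ((Finset.range p).image O) ⊆ F := by
          rw [Finset.insert_subset_iff]
          refine ⟨hM₀, fun N hN => ?_⟩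
          obtain ⟨i, -, rfl⟩ := Finset.mem_image.mp hN
          exact hconj M hM _
        refine le_trans ?_ (Finset.card_le_card hsub)
        rw [Finset.card_insert_of_notMem (by simpa using fun i _ => hne₀ i),
          Finset.card_image_of_injOn, Finset.card_range]
        intro i hi j hj he
        rw [Finset.coe_range, Set.mem_Iio] at hi hj
        rcases lt_trichotomy i j with hij | hij | hij
        · exact absurd he (hfix i j hij hj)
        · exact hij
        · exact absurd he.symm (hfix j i hij hi)
      omega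
    -- every member has index a power of `p`, divisible by `p`
    have hpow : ∀ M ∈ F, p * Nat.card M ≤ Nat.card G ∧ ∀ g : G, ∃ k, g ^ p ^ k ∈ M := by
      intro M hM
      haveI := hnormal M hM
      obtain ⟨y, hy, hyM⟩ : ∃ y ∈ pElts p G, y ∉ M := by
        by_contra! h
        exact (hFmax M hM).prop.1 (top_le_iff.mp (hgen ▸ (closure_le _).mpr h))
      obtain ⟨k, hk⟩ := hy
      have htop' : zpowers (QuotientGroup.mk' M y) = ⊤ := by
        have h1 := congrArg (Subgroup.map (QuotientGroup.mk' M)) (hpair M hM y ⟨k, hk⟩ hyM)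
        rw [map_top_of_surjective _ (QuotientGroup.mk'_surjective M)] at h1
        rw [← top_le_iff, ← h1, MonoidHom.map_closure, closure_le]
        rintro _ ⟨z, rfl | rfl, rfl⟩
        · rw [show QuotientGroup.mk' M (x M hM) = 1 from
            (QuotientGroup.eq_one_iff _).mpr (hxM M hM)]
          exact one_mem _
        · exact mem_zpowers _
      refine ⟨?_, fun g => ⟨k, ?_⟩⟩
      · have hidx : M.index = orderOf (QuotientGroup.mk' M y) := by
          rw [← Nat.card_zpowers, htop', card_top]
          rfl
        obtain ⟨i, -, hi⟩ := (Nat.dvd_prime_pow hp.out).mp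
          (hk ▸ orderOf_map_dvd (QuotientGroup.mk' M) y)
        have hi0 : i ≠ 0 := by
          rintro rfl
          rw [pow_zero, orderOf_eq_one_iff] at hi
          exact hyM ((QuotientGroup.eq_one_iff _).mp hi)
        rw [← M.index_mul_card, hidx, hi]
        exact Nat.mul_le_mul_right _ (Nat.le_self_pow hi0 p)
      · rw [← QuotientGroup.eq_one_iff, QuotientGroup.mk_pow]
        obtain ⟨j, hj⟩ := mem_zpowers_iff.mp
          (htop' ▸ mem_top (g : G ⧸ M) : (g : G ⧸ M) ∈ zpowers (QuotientGroup.mk' M y))
        rw [← hj, ← zpow_natCast, zpow_comm, zpow_natCast, ← map_pow,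
          show y ^ p ^ k = 1 from hk ▸ pow_orderOf_eq_one y, map_one, one_zpow]
    -- the members cover the whole group
    have hall : ∀ g : G, ∃ M ∈ F, g ∈ M := by
      intro g
      choose k hk using fun M : {M // M ∈ F} => (hpow M.1 M.2).2 g
      obtain ⟨a, m, hm, hgm⟩ := Nat.exists_eq_pow_mul_and_not_dvd (orderOf_pos g).ne' p hp.out.ne_one
      obtain ⟨K, hK⟩ : ∃ K, ∀ M : {M // M ∈ F}, k M ≤ K :=
        ⟨F.attach.sup k, fun M => Finset.le_sup (Finset.mem_attach _ M)⟩
      have hco : IsCoprime (p ^ K : ℤ) (m : ℤ) :=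
        ((Nat.prime_iff_prime_int.mp hp.out).coprime_iff_not_dvd.mpr
          (by exact_mod_cast hm)).pow_left
      obtain ⟨u, v, huv⟩ := hco
      have ht : g ^ ((m : ℤ) * v) ∈ pElts p G := by
        refine mem_pElts_of_pow (k := a) ?_
        rw [← zpow_natCast, ← zpow_mul, show (m : ℤ) * v * ((p ^ a : ℕ) : ℤ) =
          ((p ^ a * m : ℕ) : ℤ) * v by push_cast; ring, zpow_mul, zpow_natCast, ← hgm,
          pow_orderOf_eq_one, one_zpow]
      obtain ⟨M, hM, htM⟩ := hFcov _ ht
      refine ⟨M, hM, ?_⟩
      have h1 : g ^ (u * (p ^ K : ℤ)) ∈ M := by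
        rw [mul_comm, zpow_mul]
        refine zpow_mem ?_ u
        rw [← Nat.cast_pow, zpow_natCast]
        obtain ⟨d, hd⟩ := Nat.pow_dvd_pow p (hK ⟨M, hM⟩)
        rw [hd, pow_mul]
        exact pow_mem (hk ⟨M, hM⟩) d
      have h2 := mul_mem h1 htM
      rwa [← zpow_add, mul_comm (m : ℤ), huv, zpow_one] at h2
    -- counting
    haveI := Fintype.ofFinite G
    have hcov' : (Finset.univ.erase (1 : G)) ⊆
        F.biUnion (fun M => (Finset.univ.filter (· ∈ M)).erase 1) := by
      intro g hg
      obtain ⟨M, hM, hgM⟩ := hall g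
      simp only [Finset.mem_biUnion, Finset.mem_erase, Finset.mem_filter, Finset.mem_univ, true_and]
      exact ⟨M, hM, (Finset.mem_erase.mp hg).1, hgM⟩
    have h1 := (Finset.card_le_card hcov').trans Finset.card_biUnion_le
    rw [Finset.card_erase_of_mem (Finset.mem_univ _), Finset.card_univ,
      ← Nat.card_eq_fintype_card] at h1
    have h2 : ∀ M ∈ F, p * ((Finset.univ.filter (· ∈ M)).erase 1).card + p ≤ Nat.card G := by
      intro M hM
      rw [Finset.card_erase_of_mem (by simp), ← Fintype.card_subtype, ← Nat.card_eq_fintype_card]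
      have h3 : 1 ≤ Nat.card M := Nat.card_pos
      have h4 := (hpow M hM).1
      change p * (Nat.card M - 1) + p ≤ _
      calc p * (Nat.card M - 1) + p = p * (Nat.card M - 1 + 1) := by ring
        _ = p * Nat.card M := by rw [Nat.sub_add_cancel h3]
        _ ≤ _ := h4
    have h3 := Finset.sum_le_sum h2
    rw [Finset.sum_add_distrib, ← Finset.mul_sum, Finset.sum_const, Finset.sum_const, smul_eq_mul,
      smul_eq_mul] at h3
    have h5 : p * (Nat.card G - 1) + F.card * p ≤ F.card * Nat.card G :=
      le_trans (Nat.add_le_add_right (Nat.mul_le_mul_left p h1) _) h3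
    obtain ⟨c, hc⟩ := Nat.exists_eq_add_of_le (Nat.one_le_iff_ne_zero.mpr
      (Nat.card_pos (α := G)).ne')
    rw [hc, Nat.add_sub_cancel_left] at h5
    have hp2 := hp.out.two_le
    obtain ⟨d, hd⟩ := Nat.exists_eq_add_of_le hFp
    have hc0 : c = 0 ∨ 1 ≤ c := by omega
    rcases hc0 with rfl | hc1
    · -- trivial group
      obtain ⟨M, hM, -⟩ := hall 1
      haveI : Subsingleton G := (Nat.card_eq_one_iff_unique.mp (by omega)).1
      exact (hFmax M hM).prop.1 (Subsingleton.elim _ _)
    · -- `p c + s p ≤ s (1 + c)` is impossible for `1 ≤ s ≤ p`, `1 ≤ c`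
      obtain ⟨M, hM, -⟩ := hall 1
      have hs : 1 ≤ F.card := Finset.card_pos.mpr ⟨M, hM⟩
      nlinarith [Nat.mul_le_mul_right c hFp]

/-- Let p be a prime and G a finite group generated by its p-elements. If a finite family of proper subgroups of G covers the set of p-elements of G (every element of p-power order lies in one of them), then the family has at least p + 1 members. -/
theorem result {G : Type*} [Group G] [Finite G] (p : ℕ) [Fact p.Prime] (hgen : Subgroup.closure {g : G | ∃ k : ℕ, orderOf g = p ^ k} = ⊤)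
    {ι : Type*} [Fintype ι] (K : ι → Subgroup G) (hK : ∀ i, K i ≠ ⊤)
    (hcov : ∀ g : G, (∃ k : ℕ, orderOf g = p ^ k) → ∃ i, g ∈ K i) :
    p + 1 ≤ Fintype.card ι := by
  classical
  by_contra h
  have h1 : ⊤ ∈ Finset.univ.image K :=
    key p (Nat.card G) le_rfl hgen _
      (Finset.card_image_le.trans (by rw [Finset.card_univ]; omega)) fun g hg => by
        obtain ⟨i, hi⟩ := hcov g hg
        exact ⟨K i, Finset.mem_image.mpr ⟨i, Finset.mem_univ _, rfl⟩, hi⟩
  obtain ⟨i, -, hi⟩ := Finset.mem_image.mp h1
  exact hK i hi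

end Cfsg.Agent.S4182
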