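import Cfsg.Statements.S4184
import Cfsg.Agent.Lib.Structure81.ConjCover
-- import your own Cfsg.Agent.* helpers here

set_option autoImplicit false
set_option linter.style.haveILetI false
open Cfsg

namespace Cfsg.Agent.S4184

open Subgroup

/-- `k` contains the full `a`-part of `N` for every prime `a` of `X` dividing `N`. -/
def FullOn (X : Set ℕ) (N k : ℕ) : Prop :=
  ∀ a ∈ X, a.Prime → a ∣ N → a ^ N.factorization a ∣ k

theorem index_dvd_of_le' {G : Type*} [Group G] {x : G} {H : Subgroup G}
    (h : centralizer ({x} : Set G) ≤ H) : H.index ∣ (centralizer ({x} : Set G)).index :=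
  index_dvd_of_le h

theorem dvd_index_mul {G : Type*} [Group G] {u w : G} (hc : Commute u w)
    (hcop : (orderOf u).Coprime (orderOf w)) :
    (centralizer ({u} : Set G)).index ∣ (centralizer ({u * w} : Set G)).index ∧
      (centralizer ({w} : Set G)).index ∣ (centralizer ({u * w} : Set G)).index := by
  have key : ∀ u w : G, Commute u w → (orderOf u).Coprime (orderOf w) →
      centralizer ({u * w} : Set G) ≤ centralizer ({u} : Set G) := by
    intro u w hc hcop c hc'
    rw [mem_centralizer_singleton_iff] at hc' ⊢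
    have hcu : Commute c ((u * w) ^ orderOf w) := (show Commute c (u * w) from hc').pow_right _
    rw [hc.mul_pow, pow_orderOf_eq_one, mul_one] at hcu
    obtain ⟨e, he⟩ := exists_pow_eq_self_of_coprime hcop.symm
    rw [← he]
    exact (hcu.pow_right e).eq
  refine ⟨index_dvd_of_le (key u w hc hcop), index_dvd_of_le ?_⟩
  have := key w u hc.symm hcop.symm
  rwa [hc.symm.eq] at this

theorem main {G M : Type*} [Group G] [Finite G] [Group M] [Finite M]
    (hZG : Subgroup.center G = ⊥)
    (h : Set.range (fun g : G => (centralizer ({g} : Set G)).index) =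
      Set.range (fun g : M => (centralizer ({g} : Set M)).index))
    (A B : Set ℕ) (b : ℕ) (hb : b ∈ B) (hbp : b.Prime) (hbM : b ∣ Nat.card M)
    (hbG : b ∣ Nat.card G)
    (hcov : ∀ r : ℕ, r ∈ A ∨ r ∈ B) (hdis : ∀ r, r ∈ A → r ∈ B → False)
    (hno : ∀ a ∈ A, ∀ c ∈ B, a.Prime → c.Prime → a ∣ Nat.card M → c ∣ Nat.card M →
      ¬ ∃ x : M, orderOf x = a * c)
    (p : ℕ) (hpA : p ∈ A) [Fact p.Prime] (hpM : p ∣ Nat.card M)
    (hlt : (Nat.card M).factorization p < (Nat.card G).factorization p) : False := by
  classical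
  have hp : p.Prime := Fact.out
  haveI := Fact.mk hbp
  set N := Nat.card M with hN
  -- class sizes of `M`
  have hM : ∀ y : M, 1 < (centralizer ({y} : Set M)).index →
      (FullOn A N (centralizer ({y} : Set M)).index ∨ FullOn B N (centralizer ({y} : Set M)).index) ∧
      ¬ (FullOn A N (centralizer ({y} : Set M)).index ∧ FullOn B N (centralizer ({y} : Set M)).index) ∧
      (centralizer ({y} : Set M)).index ∣ N := by
    intro y hy
    have hy1 : y ≠ 1 := by
      rintro rfl
      have : centralizer ({(1 : M)} : Set M) = ⊤ := centralizer_eq_top_iff_subset.2 (by simp)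
      rw [this, index_top] at hy
      exact lt_irrefl 1 hy
    refine ⟨?_, ?_, index_dvd_card _⟩
    · by_contra hcon
      simp only [FullOn, not_or, not_forall] at hcon
      obtain ⟨⟨a, haA, hap, haN, hna⟩, ⟨c, hcB, hcp, hcN, hnc⟩⟩ := hcon
      haveI := Fact.mk hap
      haveI := Fact.mk hcp
      have key : ∀ r : ℕ, r.Prime → ¬ r ^ N.factorization r ∣ (centralizer ({y} : Set M)).index →
          r ∣ Nat.card (centralizer ({y} : Set M)) := by
        intro r hr hnr
        by_contra hnd
        apply hnr
        refine (Nat.Coprime.pow_left _ (hr.coprime_iff_not_dvd.2 hnd)).dvd_of_dvd_mul_left ?_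
        rw [card_mul_index]
        exact Nat.ordProj_dvd N r
      obtain ⟨r, hr, hrd⟩ := Nat.exists_prime_and_dvd (fun h1 => hy1 (orderOf_eq_one_iff.1 h1))
      haveI := Fact.mk hr
      set y' := y ^ (orderOf y / r) with hy'
      have hy'o : orderOf y' = r := orderOf_pow_orderOf_div (orderOf_pos y).ne' hrd
      have hcomm : ∀ c ∈ centralizer ({y} : Set M), Commute y' c := fun c hc =>
        ((show Commute c y from mem_centralizer_singleton_iff.1 hc).pow_right _).symm
      have hrN : r ∣ N := hy'o ▸ orderOf_dvd_natCard y'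
      rcases hcov r with hrA | hrB
      · obtain ⟨⟨w, hw⟩, hwo⟩ := exists_prime_orderOf_dvd_card' c (key c hcp hnc)
        rw [Subgroup.orderOf_mk] at hwo
        refine hno r hrA c hcB hr hcp hrN hcN ⟨y' * w, ?_⟩
        rw [(hcomm w hw).orderOf_mul_eq_mul_orderOf_of_coprime, hy'o, hwo]
        rw [hy'o, hwo]
        exact (Nat.coprime_primes hr hcp).2 (fun e => hdis r hrA (e ▸ hcB))
      · obtain ⟨⟨w, hw⟩, hwo⟩ := exists_prime_orderOf_dvd_card' a (key a hap hna)
        rw [Subgroup.orderOf_mk] at hwo
        refine hno a haA r hrB hap hr haN hrN ⟨w * y', ?_⟩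
        rw [(hcomm w hw).symm.orderOf_mul_eq_mul_orderOf_of_coprime, hy'o, hwo]
        rw [hy'o, hwo]
        exact (Nat.coprime_primes hap hr).2 (fun e => hdis a haA (e ▸ hrB))
    · rintro ⟨hA', hB'⟩
      have hd : N ∣ (centralizer ({y} : Set M)).index := by
        rw [Nat.dvd_iff_prime_pow_dvd_dvd]
        intro r k hr hk
        rcases Nat.eq_zero_or_pos k with rfl | hk0
        · simp
        have hrN : r ∣ N := (dvd_pow_self r hk0.ne').trans hk
        refine (pow_dvd_pow r ((hr.pow_dvd_iff_le_factorization Nat.card_pos.ne').1 hk)).trans ?_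
        rcases hcov r with h' | h'
        · exact hA' r h' hr hrN
        · exact hB' r h' hr hrN
      have h1 : N ≤ (centralizer ({y} : Set M)).index := Nat.le_of_dvd (by omega) hd
      have h2 := (centralizer ({y} : Set M)).card_mul_index
      rw [← hN] at h2
      have h4 : 1 < Nat.card (centralizer ({y} : Set M)) := by
        refine Finite.one_lt_card_iff_nontrivial.2
          ⟨⟨y, mem_centralizer_singleton_iff.2 rfl⟩, 1, fun e => hy1 (congrArg Subtype.val e)⟩
      nlinarith
  -- class sizes of `G`
  have hG : ∀ g : G, g ≠ 1 →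
      (FullOn A N (centralizer ({g} : Set G)).index ∨ FullOn B N (centralizer ({g} : Set G)).index) ∧
      ¬ (FullOn A N (centralizer ({g} : Set G)).index ∧ FullOn B N (centralizer ({g} : Set G)).index) ∧
      (centralizer ({g} : Set G)).index ∣ N := by
    intro g hg
    have h1 : 1 < (centralizer ({g} : Set G)).index := by
      refine one_lt_index_of_ne_top fun htop => hg ?_
      rw [centralizer_eq_top_iff_subset, Set.singleton_subset_iff, hZG] at htop
      exact mem_bot.1 htop
    obtain ⟨y, hy⟩ : (centralizer ({g} : Set G)).index ∈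
        Set.range (fun g : M => (centralizer ({g} : Set M)).index) := h ▸ ⟨g, rfl⟩
    have h2 := hM y (by
      have : (centralizer ({y} : Set M)).index = (centralizer ({g} : Set G)).index := hy
      omega)
    rw [show (centralizer ({y} : Set M)).index = (centralizer ({g} : Set G)).index from hy] at h2
    exact h2
  -- an element central in a Sylow subgroup cannot have full part there
  have hcentral : ∀ (r : ℕ) [Fact r.Prime] (P : Sylow r G) (g : G),
      g ∈ (P : Subgroup G) → (∀ x ∈ (P : Subgroup G), x * g = g * x) → r ∣ N →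
      ∀ X : Set ℕ, r ∈ X → ¬ FullOn X N (centralizer ({g} : Set G)).index := by
    intro r hr P g _ hg hrN X hrX hfull
    have h1 : (centralizer ({g} : Set G)).index ∣ (P : Subgroup G).index :=
      index_dvd_of_le fun x hx => mem_centralizer_singleton_iff.2 (hg x hx)
    have h2 : r ∣ r ^ N.factorization r :=
      dvd_pow_self r (hr.out.factorization_pos_of_dvd Nat.card_pos.ne' hrN).ne'
    exact P.not_dvd_index (h2.trans ((hfull r hrX hr.out hrN).trans h1))
  have hcentralElem : ∀ (r : ℕ) [Fact r.Prime] (H : Subgroup G), r ∣ Nat.card H → IsPGroup r H →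
      ∃ g ∈ H, g ≠ 1 ∧ ∀ x ∈ H, x * g = g * x := by
    intro r hr H hrH hH
    haveI : Nontrivial H := Finite.one_lt_card_iff_nontrivial.1
      (lt_of_lt_of_le hr.out.one_lt (Nat.le_of_dvd Nat.card_pos hrH))
    haveI := hH.center_nontrivial
    obtain ⟨g, hg⟩ := exists_ne (1 : center H)
    exact ⟨((g : H) : G), (g : H).2, fun e => hg (Subtype.ext (Subtype.ext e)), fun x hx =>
      congrArg Subtype.val (Subgroup.mem_center_iff.1 g.2 ⟨x, hx⟩)⟩
  -- `u`
  obtain ⟨Sb⟩ := (inferInstance : Nonempty (Sylow b G))
  obtain ⟨u, huS, hu1, hu⟩ :=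
    hcentralElem b (Sb : Subgroup G) (Sb.dvd_card_of_dvd_card hbG) Sb.isPGroup'
  have huA : FullOn A N (centralizer ({u} : Set G)).index :=
    (hG u hu1).1.resolve_right (hcentral b Sb u huS hu hbM B hb)
  obtain ⟨i, hi⟩ := IsPGroup.iff_orderOf.1 Sb.isPGroup' ⟨u, huS⟩
  rw [Subgroup.orderOf_mk] at hi
  have hcardC : ∀ g : G, g ≠ 1 → FullOn A N (centralizer ({g} : Set G)).index →
      (Nat.card (centralizer ({g} : Set G))).factorization p + N.factorization p =
        (Nat.card G).factorization p := by
    intro g hg hfull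
    have h1 := (centralizer ({g} : Set G)).card_mul_index
    have h2 : (centralizer ({g} : Set G)).index.factorization p = N.factorization p := by
      refine le_antisymm ?_ ((hp.pow_dvd_iff_le_factorization index_ne_zero_of_finite).1
        (hfull p hpA hp hpM))
      exact (Nat.factorization_le_iff_dvd index_ne_zero_of_finite Nat.card_pos.ne').2
        (hG g hg).2.2 p
    rw [← h1, Nat.factorization_mul Nat.card_pos.ne' index_ne_zero_of_finite, Finsupp.add_apply, h2]
  obtain ⟨P₀⟩ := (inferInstance : Nonempty (Sylow p (centralizer ({u} : Set G))))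
  set P₁ : Subgroup G := (P₀ : Subgroup (centralizer ({u} : Set G))).map (centralizer ({u} : Set G)).subtype
    with hP₁
  have hP₁p : IsPGroup p P₁ := P₀.isPGroup'.map _
  have hP₁c : Nat.card P₁ = p ^ (Nat.card (centralizer ({u} : Set G))).factorization p := by
    rw [hP₁, Subgroup.card_map_of_injective (Subgroup.subtype_injective _)]
    exact P₀.card_eq_multiplicity
  obtain ⟨P, hP⟩ := hP₁p.exists_le_sylow
  have hpG : p ∣ Nat.card G := Nat.dvd_of_factorization_pos (by omega)
  obtain ⟨z, hzP, hz1, hz⟩ :=
    hcentralElem p (P : Subgroup G) (P.dvd_card_of_dvd_card hpG) P.isPGroup'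
  have hzB : FullOn B N (centralizer ({z} : Set G)).index :=
    (hG z hz1).1.resolve_left (hcentral p P z hzP hz hpM A hpA)
  have hpP₁ : p ∣ Nat.card P₁ := by
    rw [hP₁c]
    refine dvd_pow_self p ?_
    have := hcardC u hu1 huA
    omega
  obtain ⟨w, hwP, hw1, hw⟩ := hcentralElem p P₁ hpP₁ hP₁p
  have hne : p ≠ b := fun e => hdis p hpA (e ▸ hb)
  have hclash : ∀ g ∈ P₁, g ≠ 1 → ¬ FullOn B N (centralizer ({g} : Set G)).index := by
    intro g hg hg1 hgB
    obtain ⟨j, hj⟩ := IsPGroup.iff_orderOf.1 hP₁p ⟨g, hg⟩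
    rw [Subgroup.orderOf_mk] at hj
    have hgu : Commute u g := by
      obtain ⟨x, -, rfl⟩ := hg
      exact (mem_centralizer_singleton_iff.1 x.2).symm
    have hcop : (orderOf u).Coprime (orderOf g) := by
      rw [hi, hj]
      exact Nat.Coprime.pow _ _ ((Nat.coprime_primes hbp hp).2 hne.symm)
    obtain ⟨h1, h2⟩ := dvd_index_mul hgu hcop
    have hne1 : u * g ≠ 1 := by
      intro e
      have := hgu.orderOf_mul_eq_mul_orderOf_of_coprime hcop
      rw [e, orderOf_one] at this
      exact hu1 (orderOf_eq_one_iff.1 (Nat.eq_one_of_mul_eq_one_right this.symm))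
    exact (hG _ hne1).2.1 ⟨fun a ha hap haN => (huA a ha hap haN).trans h1,
      fun a ha hap haN => (hgB a ha hap haN).trans h2⟩
  have hwA : FullOn A N (centralizer ({w} : Set G)).index :=
    (hG w hw1).1.resolve_right (hclash w hwP hw1)
  -- `z` lies in `P₁`
  set K : Subgroup G := (P : Subgroup G) ⊓ centralizer ({w} : Set G) with hK
  have hKle : P₁ ≤ K := le_inf hP fun x hx => mem_centralizer_singleton_iff.2 (hw x hx)
  have hKp : IsPGroup p K := P.isPGroup'.to_le inf_le_left
  obtain ⟨k, hk⟩ := IsPGroup.iff_card.1 hKp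
  have hkle : k ≤ (Nat.card (centralizer ({w} : Set G))).factorization p :=
    (hp.pow_dvd_iff_le_factorization Nat.card_pos.ne').1 (hk ▸ Subgroup.card_dvd_of_le inf_le_right)
  have heq : K = P₁ := (Subgroup.eq_of_le_of_card_ge hKle (by
    rw [hk, hP₁c]
    refine Nat.pow_le_pow_right hp.pos ?_
    have := hcardC u hu1 huA
    have := hcardC w hw1 hwA
    omega)).symm
  have hzK : z ∈ K := ⟨hzP, mem_centralizer_singleton_iff.2 (hz w (hP hwP)).symm⟩
  rw [heq] at hzK
  exact hclash z hzK hz1 hzB


/-- Let G and M be finite groups with trivial centres and the same set of conjugacy class sizes, and suppose the prime graph of M is disconnected: the prime divisors of #M split into two non-empty parts such that M has no element of order pq with p in one part and q in the other. Then #G = #M. -/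
theorem result {G M : Type*}
    [Group G] [Finite G] [Group M] [Finite M] (hZG : Subgroup.center G = ⊥) (hZM : Subgroup.center M = ⊥)
    (h : Set.range (fun g : G => (Subgroup.centralizer ({g} : Set G)).index) = Set.range (fun g : M => (Subgroup.centralizer ({g} : Set M)).index))
    (hdisc : ∃ A : Set ℕ, (∃ a ∈ A, a.Prime ∧ a ∣ Nat.card M) ∧ (∃ b ∉ A, b.Prime ∧ b ∣ Nat.card M) ∧
      ∀ a ∈ A, ∀ b ∉ A, a.Prime → b.Prime → a ∣ Nat.card M → b ∣ Nat.card M → ¬ ∃ x : M, orderOf x = a * b) :
    Nat.card G = Nat.card M := by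
  classical
  obtain ⟨A, ⟨a, haA, hap, haM⟩, ⟨b, hbA, hbp, hbM⟩, hno⟩ := hdisc
  -- the order of `M` divides the order of `G`
  have hfull : ∀ p : ℕ, p.Prime → p ∣ Nat.card M → ∃ y : M,
      p ^ (Nat.card M).factorization p ∣ (Subgroup.centralizer ({y} : Set M)).index := by
    intro p hp hpM
    haveI := Fact.mk hp
    -- an element of a prime order in the other part
    have key : ∀ c : ℕ, c.Prime → c ∣ Nat.card M → c ≠ p → (¬ ∃ x : M, orderOf x = p * c) →
        ∃ y : M, p ^ (Nat.card M).factorization p ∣ (Subgroup.centralizer ({y} : Set M)).index := by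
      intro c hc hcM hcp hnone
      haveI := Fact.mk hc
      obtain ⟨y, hy⟩ := exists_prime_orderOf_dvd_card' c hcM
      refine ⟨y, ?_⟩
      have hnd : ¬ p ∣ Nat.card (Subgroup.centralizer ({y} : Set M)) := by
        intro hd
        obtain ⟨⟨w, hw⟩, hwo⟩ := exists_prime_orderOf_dvd_card' p hd
        rw [Subgroup.orderOf_mk] at hwo
        refine hnone ⟨w * y, ?_⟩
        have hc' : Commute w y := Subgroup.mem_centralizer_singleton_iff.1 hw
        rw [hc'.orderOf_mul_eq_mul_orderOf_of_coprime, hwo, hy]
        rw [hwo, hy]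
        exact (Nat.coprime_primes hp hc).2 hcp.symm
      refine (Nat.Coprime.pow_left _ (hp.coprime_iff_not_dvd.2 hnd)).dvd_of_dvd_mul_left ?_
      rw [Subgroup.card_mul_index]
      exact Nat.ordProj_dvd _ p
    by_cases hpA : p ∈ A
    · exact key b hbp hbM (fun e => hbA (e ▸ hpA)) (hno p hpA b hbA hp hbp hpM hbM)
    · refine key a hap haM (fun e => hpA (e ▸ haA)) (fun ⟨x, hx⟩ => ?_)
      exact hno a haA p hpA hap hp haM hpM ⟨x, by rw [hx, mul_comm]⟩
  have hle : ∀ p : ℕ, (Nat.card M).factorization p ≤ (Nat.card G).factorization p := by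
    intro p
    by_cases hp : p.Prime ∧ p ∣ Nat.card M
    · obtain ⟨y, hy⟩ := hfull p hp.1 hp.2
      obtain ⟨g, hg⟩ : (Subgroup.centralizer ({y} : Set M)).index ∈
          Set.range (fun g : G => (Subgroup.centralizer ({g} : Set G)).index) := h ▸ ⟨y, rfl⟩
      refine (hp.1.pow_dvd_iff_le_factorization Nat.card_pos.ne').1 (hy.trans ?_)
      exact hg ▸ Subgroup.index_dvd_card _
    · rcases not_and_or.1 hp with h1 | h1
      · simp [Nat.factorization_eq_zero_of_not_prime _ h1]
      · simp [Nat.factorization_eq_zero_of_not_dvd h1]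
  refine Nat.factorization_inj Nat.card_pos.ne' Nat.card_pos.ne' (Finsupp.ext fun p => ?_)
  by_contra hne
  have hlt : (Nat.card M).factorization p < (Nat.card G).factorization p :=
    lt_of_le_of_ne (hle p) (Ne.symm hne)
  have hp : p.Prime := by
    by_contra h1
    simp [Nat.factorization_eq_zero_of_not_prime _ h1] at hlt
  haveI := Fact.mk hp
  by_cases hpM : p ∣ Nat.card M
  · have hdvd : ∀ c : ℕ, c.Prime → c ∣ Nat.card M → c ∣ Nat.card G := fun c hc hcM =>
      Nat.dvd_of_factorization_pos (Nat.lt_of_lt_of_le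
        (hc.factorization_pos_of_dvd Nat.card_pos.ne' hcM) (hle c)).ne'
    by_cases hpA : p ∈ A
    · exact main hZG h A Aᶜ b hbA hbp hbM (hdvd b hbp hbM) (fun r => em (r ∈ A))
        (fun r h1 h2 => h2 h1) hno p hpA hpM hlt
    · exact main hZG h Aᶜ A a haA hap haM (hdvd a hap haM) (fun r => (em (r ∈ A)).symm)
        (fun r h1 h2 => h1 h2)
        (fun c hc d hd hcp hdp hcM hdM ⟨x, hx⟩ =>
          hno d hd c hc hdp hcp hdM hcM ⟨x, by rw [hx, mul_comm]⟩) p hpA hpM hlt
  · -- every element is centralised by a Sylow `p`-subgroup, which is then central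
    obtain ⟨P⟩ := (inferInstance : Nonempty (Sylow p G))
    have hC : Subgroup.centralizer ((P : Subgroup G) : Set G) = ⊤ := by
      by_contra hne'
      obtain ⟨g, hg⟩ : ∃ g : G, ∀ x : G,
          x * g * x⁻¹ ∉ Subgroup.centralizer ((P : Subgroup G) : Set G) := by
        by_contra hcon
        push Not at hcon
        exact hne' (CfsgLib.ConjCover.eq_top_of_conj_cover _ hcon)
      set C := Subgroup.centralizer ({g} : Set G) with hCdef
      obtain ⟨Q⟩ := (inferInstance : Nonempty (Sylow p C))
      have hidx : ¬ p ∣ C.index := by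
        intro hd
        obtain ⟨y, hy⟩ : C.index ∈
            Set.range (fun g : M => (Subgroup.centralizer ({g} : Set M)).index) := h ▸ ⟨g, rfl⟩
        exact hpM (hd.trans (hy ▸ Subgroup.index_dvd_card _))
      have hcard : Nat.card ((Q : Subgroup C).map C.subtype) = p ^ (Nat.card G).factorization p := by
        rw [Subgroup.card_map_of_injective C.subtype_injective]
        refine Q.card_eq_multiplicity.trans ?_
        congr 1
        rw [← C.card_mul_index, Nat.factorization_mul Nat.card_pos.ne'
          Subgroup.index_ne_zero_of_finite, Finsupp.add_apply,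
          Nat.factorization_eq_zero_of_not_dvd hidx, add_zero]
      obtain ⟨x, hx⟩ := MulAction.exists_smul_eq G (Sylow.ofCard _ hcard) P
      apply hg x
      rw [Subgroup.mem_centralizer_iff]
      intro q hq
      rw [← hx] at hq
      obtain ⟨y, hy, rfl⟩ := hq
      obtain ⟨y', -, rfl⟩ := hy
      have hyg : (y' : G) * g = g * y' := Subgroup.mem_centralizer_singleton_iff.1 y'.2
      show x * (y' : G) * x⁻¹ * (x * g * x⁻¹) = x * g * x⁻¹ * (x * y' * x⁻¹)
      calc x * (y' : G) * x⁻¹ * (x * g * x⁻¹) = x * ((y' : G) * g) * x⁻¹ := by group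
        _ = x * (g * y') * x⁻¹ := by rw [hyg]
        _ = _ := by group
    have hbot : (P : Subgroup G) = ⊥ := by
      rw [eq_bot_iff]
      intro q hq
      rw [← hZG, Subgroup.mem_center_iff]
      intro y
      exact ((Subgroup.mem_centralizer_iff.1 (show y ∈ Subgroup.centralizer ((P : Subgroup G) : Set G)
        by rw [hC]; exact Subgroup.mem_top y)) q hq).symm
    exact P.ne_bot_of_dvd_card (Nat.dvd_of_factorization_pos (by omega)) hbot

end Cfsg.Agent.S4184
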