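import Cfsg.Statements.S4186
-- import your own Cfsg.Agent.* helpers here

set_option autoImplicit false
open Cfsg

namespace Cfsg.Agent.S4186

/-- Let T and X be subgroups of a group with T a finite 2-group normalizing X but not centralizing it. Then some element of T inverts some non-identity element of X under conjugation. -/
theorem result {G : Type*} [Group G] (T X : Subgroup G) [Finite ↥T] (hT : IsPGroup 2 ↥T) (hTN : T ≤ Subgroup.normalizer (X : Set G)) (hTC : ¬ T ≤ Subgroup.centralizer (X : Set G)) : ∃ t ∈ T, ∃ x ∈ X, x ≠ 1 ∧ t * x * t⁻¹ = x⁻¹ := by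
  classical
  obtain ⟨t, htT, htX⟩ := SetLike.not_le_iff_exists.1 hTC
  -- replace `t` by a power whose square centralizes `X`
  obtain ⟨k, hk⟩ := hT ⟨t, htT⟩
  have hk' : t ^ 2 ^ k = 1 := congrArg Subtype.val hk
  have hex : ∃ j : ℕ, t ^ 2 ^ j ∈ Subgroup.centralizer (X : Set G) := ⟨k, by rw [hk']; exact one_mem _⟩
  obtain ⟨j, hj⟩ : ∃ j, Nat.find hex = j + 1 := by
    refine Nat.exists_eq_succ_of_ne_zero fun h0 => htX ?_
    have := Nat.find_spec hex
    rwa [h0, pow_zero, pow_one] at this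
  have hsq := Nat.find_spec hex
  have hmin : t ^ 2 ^ j ∉ Subgroup.centralizer (X : Set G) := Nat.find_min hex (by omega)
  rw [hj, pow_succ, pow_mul] at hsq
  have hsT : t ^ 2 ^ j ∈ T := pow_mem htT _
  generalize t ^ 2 ^ j = s at hsq hmin hsT
  rw [Subgroup.mem_centralizer_iff] at hmin
  push Not at hmin
  obtain ⟨x, hxX, hx⟩ := hmin
  have hn := Subgroup.mem_normalizer_iff.1 (hTN hsT)
  refine ⟨s, hsT, x⁻¹ * (s * x * s⁻¹), X.mul_mem (X.inv_mem hxX) ((hn x).1 hxX), ?_, ?_⟩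
  · intro h
    apply hx
    rw [inv_mul_eq_one] at h
    conv_lhs => rw [h]
    group
  · have h2 : s ^ 2 * x * (s ^ 2)⁻¹ = x := by
      rw [← (Subgroup.mem_centralizer_iff.1 hsq x hxX)]; group
    calc s * (x⁻¹ * (s * x * s⁻¹)) * s⁻¹
        = (s * x * s⁻¹)⁻¹ * (s ^ 2 * x * (s ^ 2)⁻¹) := by group
      _ = (x⁻¹ * (s * x * s⁻¹))⁻¹ := by rw [h2]; group

end Cfsg.Agent.S4186
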