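import Cfsg.Statements.S4188
import Cfsg.Agent.Lib.Structure81.TwoGroupRank

set_option autoImplicit false
set_option linter.style.haveILetI false
open Cfsg

namespace Cfsg.Agent.S4188

/-- Let G be a finite group that is the semidirect product of a normal abelian subgroup N of odd order by a 2-subgroup P, and suppose N is the unique minimal normal subgroup of G. Then the index of the Frattini subgroup of P in P is at most #N − 1. -/
theorem result {G : Type*} [Group G] [Finite G] (N P : Subgroup G) (hN : N.Normal) (hNab : IsMulCommutative ↥N) (hNodd : Odd (Nat.card ↥N)) (hP : IsPGroup 2 ↥P) (hdisj : N ⊓ P = ⊥) (hprod : N ⊔ P = ⊤) (hmin : N ≠ ⊥ ∧ ∀ M : Subgroup G, M.Normal → M ≠ ⊥ → N ≤ M) : (frattini ↥P).index ≤ Nat.card ↥N - 1 := by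
  haveI := hN
  haveI : Fact (Nat.Prime 2) := ⟨Nat.prime_two⟩
  let _ : CommGroup N := { (inferInstance : Group N) with mul_comm := fun a b => mul_comm' a b }
  let φ : P →* MulAut N := MulAut.conjNormal.comp P.subtype
  have hinj : Function.Injective φ := by
    rw [← MonoidHom.ker_eq_bot_iff]
    by_contra hne
    have hKmem : ∀ k ∈ φ.ker.map P.subtype, ∀ x ∈ N, k * x = x * k := by
      rintro _ ⟨k, hk, rfl⟩ x hx
      have h1 := MulEquiv.congr_fun (MonoidHom.mem_ker.1 hk) ⟨x, hx⟩
      exact mul_inv_eq_iff_eq_mul.1 (congrArg Subtype.val h1)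
    have hKn : (φ.ker.map P.subtype).Normal := by
      rw [← Subgroup.normalizer_eq_top_iff, eq_top_iff, ← hprod, sup_le_iff]
      constructor
      · intro x hx
        rw [Subgroup.mem_normalizer_iff]
        intro k
        constructor
        · intro hk
          rwa [← hKmem k hk x hx, mul_inv_cancel_right]
        · intro hk
          have h1 := hKmem _ hk x hx
          have h2 : k = x * k * x⁻¹ := by
            calc k = x⁻¹ * (x * k * x⁻¹ * x) := by group
              _ = x⁻¹ * (x * (x * k * x⁻¹)) := by rw [h1]
              _ = x * k * x⁻¹ := by group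
          rw [h2]; exact hk
      · exact (Subgroup.le_normalizer_map (H := φ.ker) P.subtype).trans' (by
          rw [Subgroup.normalizer_eq_top, ← MonoidHom.range_eq_map, Subgroup.range_subtype])
    have hle := hmin.2 _ hKn (fun h => hne
      ((Subgroup.map_eq_bot_iff_of_injective _ P.subtype_injective).1 h))
    have : N ≤ P := hle.trans (Subgroup.map_subtype_le _)
    exact hmin.1 (by rw [← hdisj]; exact (inf_eq_left.2 this).symm)
  have h1 : 1 < Nat.card N := (Subgroup.one_lt_card_iff_ne_bot N).2 hmin.1
  have hlt := CfsgLib.TwoGroupRank.idx_lt_card φ hNodd h1 hP hinj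
  have hsq : CfsgLib.TwoGroupRank.sqSub P ≤ frattini P := by
    rw [CfsgLib.TwoGroupRank.sqSub, Subgroup.closure_le]
    rintro _ ⟨x, rfl⟩
    refine (Subgroup.mem_iInf).2 fun M => (Subgroup.mem_iInf).2 fun hM => ?_
    haveI : Group.IsNilpotent P := hP.isNilpotent
    haveI hMn : M.Normal := ((Group.isNilpotent_of_finite_tfae (G := ↥P)).out 0 2 rfl rfl).mp (by assumption) M hM
    have hq : M.index = 2 := by
      obtain ⟨k, hk⟩ := IsPGroup.iff_card.1 (hP.to_quotient M)
      rw [← Subgroup.index_eq_card] at hk
      rcases k with _ | k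
      · exact absurd (Subgroup.index_eq_one.1 (by rw [hk, pow_zero])) hM.1
      obtain ⟨y, hy⟩ := exists_prime_orderOf_dvd_card' (G := P ⧸ M) 2
        (by rw [← Subgroup.index_eq_card, hk]; exact dvd_pow_self 2 k.succ_ne_zero)
      have hlt : M < (Subgroup.zpowers y).comap (QuotientGroup.mk' M) := by
        refine lt_of_le_of_ne (fun m hm => by
          rw [Subgroup.mem_comap, QuotientGroup.mk'_apply, (QuotientGroup.eq_one_iff m).2 hm]
          exact one_mem _) (fun h => ?_)
        obtain ⟨w, rfl⟩ := QuotientGroup.mk'_surjective M y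
        have : w ∈ M := by rw [h]; exact Subgroup.mem_zpowers _
        rw [QuotientGroup.mk'_apply, (QuotientGroup.eq_one_iff w).2 this, orderOf_one] at hy
        norm_num at hy
      have htop := hM.2 _ hlt
      have hz : Subgroup.zpowers y = ⊤ := by
        apply Subgroup.comap_injective (QuotientGroup.mk'_surjective M)
        rw [htop, Subgroup.comap_top]
      rw [Subgroup.index_eq_card, ← Subgroup.card_top, ← hz, Nat.card_zpowers, hy]
    exact Subgroup.sq_mem_of_index_two hq x
  have h2 : (frattini P).index ≤ CfsgLib.TwoGroupRank.idx P :=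
    Nat.le_of_dvd (Nat.pos_of_ne_zero Subgroup.index_ne_zero_of_finite)
      (Subgroup.index_dvd_of_le hsq)
  omega

end Cfsg.Agent.S4188
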