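import Cfsg.Statements.S4189
import Cfsg.Agent.Lib.TwoGroups.OneInvolution
import Cfsg.Agent.Lib.PGroup.Frattini
import Cfsg.Agent.Lib.H82.AutFrattini
-- import your own Cfsg.Agent.* helpers here

set_option autoImplicit false
open Cfsg
open scoped commutatorElement

namespace Cfsg.Agent.S4189

/-- Let P be a finite non-abelian 2-group whose commutator subgroup has index 4 and whose automorphism group is not a 2-group (some automorphism has order that is not a power of 2). Then P is isomorphic to the quaternion group of order 8. -/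
theorem result {P : Type*} [Group P] [Finite P] (hP : IsPGroup 2 P) (hna : ¬ IsMulCommutative P) (h4 : (commutator P).index = 4) (haut : ¬ IsPGroup 2 (MulAut P)) : Nonempty (P ≃* QuaternionGroup 2) := by
  classical
  haveI : Fact (Nat.Prime 2) := ⟨Nat.prime_two⟩
  haveI := hP.isNilpotent
  haveI : Nontrivial P := not_subsingleton_iff_nontrivial.1 fun h => hna ⟨⟨fun a b => Subsingleton.elim _ _⟩⟩
  obtain ⟨n, hn⟩ := IsPGroup.iff_card.1 hP
  set F := frattini P with hF
  have hcF : commutator P ≤ F := CfsgLib.PGroup.commutator_le_frattini hP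
  have hFi : F.index = 4 := by
    have h1 : F.index ∣ 4 := h4 ▸ Subgroup.index_dvd_of_le hcF
    have h2 : F.index ≠ 1 := fun h => CfsgLib.PGroup.frattini_ne_top (P := P) (Subgroup.index_eq_one.1 h)
    have h3 : F.index ≠ 2 := by
      intro h
      obtain ⟨a, ha⟩ : ∃ a, a ∉ F := by
        by_contra hh; push Not at hh
        exact h2 (Subgroup.index_eq_one.2 (eq_top_iff.2 fun x _ => hh x))
      have htop : Subgroup.zpowers a ⊔ F = ⊤ := by
        refine eq_top_iff.2 fun x _ => ?_
        by_cases hx : x ∈ F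
        · exact Subgroup.mem_sup_right hx
        · have hm : a⁻¹ * x ∈ F := (Subgroup.mul_mem_iff_of_index_two h).2 (iff_of_false (by simpa using ha) hx)
          simpa using Subgroup.mul_mem _ (Subgroup.mem_sup_left (Subgroup.mem_zpowers a)) (Subgroup.mem_sup_right (S := Subgroup.zpowers a) hm)
      have hz := frattini_nongenerating htop
      refine hna ⟨⟨fun x y => ?_⟩⟩
      obtain ⟨i, rfl⟩ := Subgroup.mem_zpowers_iff.1 (hz ▸ Subgroup.mem_top x : x ∈ Subgroup.zpowers a)
      obtain ⟨j, rfl⟩ := Subgroup.mem_zpowers_iff.1 (hz ▸ Subgroup.mem_top y : y ∈ Subgroup.zpowers a)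
      exact (Commute.zpow_zpow_self a i j).eq
    have := Nat.le_of_dvd (by norm_num) h1
    have : F.index ≠ 3 := fun h => by rw [h] at h1; norm_num at h1
    have : F.index ≠ 0 := Subgroup.index_ne_zero_of_finite
    omega
  have hFc : F = commutator P := by
    refine (Subgroup.eq_of_le_of_card_ge hcF ?_).symm
    have e1 := F.card_mul_index
    have e2 := (commutator P).card_mul_index
    rw [hFi] at e1; rw [h4] at e2
    omega
  have hFn : F.Normal := inferInstance
  have hq : Nat.card (P ⧸ F) = 4 := by rw [← Subgroup.index_eq_card, hFi]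
  -- an automorphism of odd prime order
  obtain ⟨q, τ, hq2, hqp, hτ⟩ : ∃ (q : ℕ) (τ : MulAut P), q ≠ 2 ∧ q.Prime ∧ orderOf τ = q := by
    by_contra hno
    push Not at hno
    refine haut (IsPGroup.of_card (n := (Nat.card (MulAut P)).primeFactorsList.length) ?_)
    refine Nat.eq_prime_pow_of_unique_prime_dvd Nat.card_pos.ne' ?_
    intro d hd hdd
    by_contra hne
    haveI := Fact.mk hd
    obtain ⟨τ, hτ⟩ := exists_prime_orderOf_dvd_card' d hdd
    exact hno d τ hne hd hτ
  have hodd : Odd q := hqp.odd_of_ne_two hq2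
  have hFchar : F.Characteristic := inferInstance
  have hmapF : ∀ (σ : MulAut P) (x : P), σ x ∈ F ↔ x ∈ F := fun σ x => by
    have := Subgroup.characteristic_iff_comap_eq.1 hFchar σ
    exact (SetLike.ext_iff.1 this x)
  -- nothing of odd order acts trivially on the Frattini quotient
  have hfaith : ∀ σ : MulAut P, (∀ x : P, (σ x : P ⧸ F) = (x : P ⧸ F)) → Odd (orderOf σ) → σ = 1 := by
    intro σ hσ ho
    have hA : ∀ α ∈ Subgroup.zpowers σ, ∀ x : P, α x * x⁻¹ ∈ F := by
      intro α hα
      obtain ⟨i, rfl⟩ := (isOfFinOrder_of_finite σ).mem_powers_iff_mem_zpowers.2 hα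
      intro x
      rw [← QuotientGroup.eq_one_iff, QuotientGroup.mk_mul, QuotientGroup.mk_inv, mul_inv_eq_one]
      induction i generalizing x with
      | zero => rfl
      | succ i ih =>
        have : (σ ^ (i + 1)) x = (σ ^ i) (σ x) := by rw [pow_succ]; rfl
        change ((σ ^ (i + 1)) x : P ⧸ F) = x
        rw [this]
        exact (ih ⟨i, rfl⟩ _).trans (hσ x)
    have h := CfsgLib.AutFrattini82.card_aut_trivial_dvd (p := 2) (r := 2) hn (by rw [← hF, hFi]; norm_num)
      (Subgroup.zpowers σ) hA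
    rw [Nat.card_zpowers] at h
    obtain ⟨k, -, hk⟩ := (Nat.dvd_prime_pow Nat.prime_two).1 h
    rw [← orderOf_eq_one_iff, hk]
    rcases k with _ | k
    · rfl
    · rw [hk, pow_succ'] at ho
      exact absurd ho (Nat.not_odd_iff_even.2 (even_two_mul _))
  have hτne : τ ≠ 1 := by
    intro h; rw [h, orderOf_one] at hτ; exact hqp.one_lt.ne' hτ.symm
  have hτodd : Odd (orderOf τ) := hτ ▸ hodd
  have hτ2 : orderOf (τ ^ 2) = q := by
    rw [orderOf_pow' τ two_ne_zero, hτ, Nat.Coprime.gcd_eq_one (hodd.coprime_two_right), Nat.div_one]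
  have hτ2ne : τ ^ 2 ≠ 1 := fun h => by rw [h, orderOf_one] at hτ2; exact hqp.one_lt.ne' hτ2.symm
  -- `τ` moves every nontrivial element of `P ⧸ F`
  have hmove : ∀ σ : MulAut P, Odd (orderOf σ) → σ ^ 2 ≠ 1 → ∀ x ∉ F, (σ x : P ⧸ F) ≠ (x : P ⧸ F) := by
    intro σ ho h2 x hx hfix
    apply h2
    refine hfaith (σ ^ 2) (fun y => ?_) (Odd.of_dvd_nat ho (orderOf_pow_dvd 2))
    change ((σ (σ y) : P) : P ⧸ F) = y
    let σb : P ⧸ F →* P ⧸ F := QuotientGroup.map F F σ.toMonoidHom (fun z hz => (hmapF σ z).2 hz)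
    have hσb : ∀ z : P, σb (z : P ⧸ F) = (σ z : P ⧸ F) := fun z => rfl
    rw [← hσb, ← hσb]
    have hinj : Function.Injective σb := by
      rw [injective_iff_map_eq_one]
      intro z
      induction z using QuotientGroup.induction_on with
      | H z =>
        intro hz
        rw [hσb, QuotientGroup.eq_one_iff, hmapF] at hz
        exact (QuotientGroup.eq_one_iff z).2 hz
    have hx1 : (x : P ⧸ F) ≠ 1 := fun h => hx ((QuotientGroup.eq_one_iff x).1 h)
    have hσx : σb x = x := by rw [hσb, hfix]
    by_cases hy1 : (y : P ⧸ F) = 1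
    · rw [hy1, map_one, map_one]
    by_cases hyx : (y : P ⧸ F) = x
    · rw [hyx, hσx, hσx]
    by_cases hyfix : σb y = y
    · rw [hyfix, hyfix]
    -- there is only one element left for `σ y`, and `σ` swaps it with `y`
    haveI : Fintype (P ⧸ F) := Fintype.ofFinite _
    have huniq : ∀ u v : P ⧸ F, u ≠ 1 → u ≠ x → u ≠ y → v ≠ 1 → v ≠ x → v ≠ y → u = v := by
      intro u v u1 u2 u3 v1 v2 v3
      by_contra huv
      have hle := Finset.card_le_univ ({1, (x : P ⧸ F), (y : P ⧸ F), u, v} : Finset (P ⧸ F))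
      rw [Finset.card_insert_of_notMem (by simp [hx1.symm, Ne.symm hy1, Ne.symm u1, Ne.symm v1]),
        Finset.card_insert_of_notMem (by simp [Ne.symm hyx, Ne.symm u2, Ne.symm v2]),
        Finset.card_insert_of_notMem (by simp [Ne.symm u3, Ne.symm v3]),
        Finset.card_insert_of_notMem (by simp [huv]), Finset.card_singleton,
        ← Nat.card_eq_fintype_card, hq] at hle
      omega
    have hs : ∀ w : P ⧸ F, w ≠ 1 → w ≠ x → σb w ≠ 1 ∧ σb w ≠ x :=
      fun w hw1 hwx => ⟨fun h => hw1 (hinj (h.trans (map_one σb).symm)), fun h => hwx (hinj (h.trans hσx.symm))⟩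
    obtain ⟨hz1, hzx⟩ := hs y hy1 hyx
    obtain ⟨hw1, hwx⟩ := hs _ hz1 hzx
    by_contra hne
    have := huniq _ _ hw1 hwx hne hz1 hzx hyfix
    exact hyfix (hinj this)
  have hτmove := hmove τ hτodd hτ2ne
  have hτ2move : ∀ x ∉ F, ((τ (τ x) : P) : P ⧸ F) ≠ (x : P ⧸ F) := by
    refine hmove (τ ^ 2) (hτ2 ▸ hodd) ?_
    intro h
    have := orderOf_dvd_of_pow_eq_one h
    rw [hτ2] at this
    exact hq2 ((Nat.prime_dvd_prime_iff_eq hqp Nat.prime_two).1 this)
  have hmc : ∀ (M : Subgroup P) [M.Normal] (a b : P),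
      ⁅(a : P ⧸ M), (b : P ⧸ M)⁆ = ((⁅a, b⁆ : P) : P ⧸ M) := fun M _ a b =>
    (map_commutatorElement (QuotientGroup.mk' M) a b).symm
  -- the lower central series
  set L2 := (⊤ : Subgroup P).lowerCentralSeries 2 with hL2
  set L3 := (⊤ : Subgroup P).lowerCentralSeries 3 with hL3
  have hF1 : F = (⊤ : Subgroup P).lowerCentralSeries 1 := by
    rw [hFc, Subgroup.top_lowerCentralSeries_one]
  have hcomm : ∀ f ∈ F, ∀ y : P, ⁅f, y⁆ ∈ L2 := by
    intro f hf y
    rw [hL2, Subgroup.lowerCentralSeries_succ, ← hF1]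
    exact Subgroup.commutator_mem_commutator hf (Subgroup.mem_top y)
  have hnil : ∀ k, (⊤ : Subgroup P).lowerCentralSeries k ≤ (⊤ : Subgroup P).lowerCentralSeries (k + 1) →
      (⊤ : Subgroup P).lowerCentralSeries k = ⊥ := by
    intro k hk
    obtain ⟨N, hN⟩ := (Subgroup.isNilpotent_iff_lowerCentralSeries (S := (⊤ : Subgroup P))).1
      inferInstance
    have h : ∀ j, (⊤ : Subgroup P).lowerCentralSeries k ≤ (⊤ : Subgroup P).lowerCentralSeries (k + j) := by
      intro j
      induction j with
      | zero => exact le_rfl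
      | succ j ih =>
        refine hk.trans ?_
        rw [← add_assoc, Subgroup.lowerCentralSeries_succ, Subgroup.lowerCentralSeries_succ]
        exact Subgroup.commutator_mono ih le_rfl
    have h2 := (h N).trans ((Subgroup.lowerCentralSeries_antitone (⊤ : Subgroup P)) (Nat.le_add_left N k))
    rwa [hN, le_bot_iff] at h2
  have hL2F : L2 ≤ F := hF1 ▸ (Subgroup.lowerCentralSeries_antitone (⊤ : Subgroup P)) (by norm_num)
  have hL2lt : ¬ F ≤ L2 := by
    intro h
    apply hna
    have h1 := hnil 1 (hF1 ▸ h)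
    rw [← hF1, hFc, commutator_def, Subgroup.commutator_eq_bot_iff_le_centralizer] at h1
    exact ⟨⟨fun a b => (Subgroup.mem_centralizer_iff.1 (h1 (Subgroup.mem_top a)) b (Subgroup.mem_top b)).symm⟩⟩
  haveI : L2.Normal := inferInstance
  haveI : L3.Normal := inferInstance
  -- squares outside `F` are outside `L2`
  have hsq : ∀ x ∉ F, x ^ 2 ∉ L2 := by
    intro x hx h0
    have hinv : ∀ σ : MulAut P, ∀ z : P, z ∈ L2 → σ z ∈ L2 := by
      intro σ z hz
      have hc : L2.Characteristic := inferInstance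
      exact (SetLike.ext_iff.1 (Subgroup.characteristic_iff_comap_eq.1 hc σ) z).2 hz
    -- the three nontrivial cosets
    have hFexp : ∀ f ∈ F, ((f : P ⧸ L2)) ^ 2 = 1 := by
      intro f hf
      -- the commutator subgroup is elementary abelian modulo `L2`
      rw [hFc, commutator_eq_closure] at hf
      induction hf using Subgroup.closure_induction with
      | mem z hz =>
        obtain ⟨u, v, rfl⟩ := mem_commutatorSet_iff.1 hz
        have hu2 : Commute ((u : P ⧸ L2) ^ 2) (v : P ⧸ L2) := by
          refine commutatorElement_eq_one_iff_commute.1 ?_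
          rw [← QuotientGroup.mk_pow, hmc L2]
          exact (QuotientGroup.eq_one_iff _).2 (hcomm _ (CfsgLib.PGroup.pow_mem_frattini hP u) v)
        have hcv : Commute (u : P ⧸ L2) ⁅(u : P ⧸ L2), (v : P ⧸ L2)⁆ := by
          refine (commutatorElement_eq_one_iff_commute.1 ?_).symm
          rw [hmc L2, hmc L2]
          exact (QuotientGroup.eq_one_iff _).2 (hcomm _ (hFc ▸ Subgroup.commutator_mem_commutator
            (Subgroup.mem_top u) (Subgroup.mem_top v)) u)
        rw [← QuotientGroup.mk'_apply, map_commutatorElement, QuotientGroup.mk'_apply, QuotientGroup.mk'_apply]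
        generalize (u : P ⧸ L2) = U at hu2 hcv ⊢
        generalize (v : P ⧸ L2) = V at hu2 hcv ⊢
        have e : ⁅U ^ 2, V⁆ = (U * ⁅U, V⁆ * U⁻¹) * ⁅U, V⁆ := by
          simp only [commutatorElement_def, pow_two]; group
        rw [commutatorElement_eq_one_iff_commute.2 hu2, hcv.eq, mul_inv_cancel_right, ← pow_two] at e
        exact e.symm
      | one => simp
      | mul a b ha hb iha ihb =>
        have hcab : Commute (a : P ⧸ L2) (b : P ⧸ L2) := by
          refine commutatorElement_eq_one_iff_commute.1 ?_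
          rw [hmc L2]
          refine (QuotientGroup.eq_one_iff _).2 (hcomm _ ?_ b)
          rwa [hFc, commutator_eq_closure]
        rw [QuotientGroup.mk_mul, hcab.mul_pow, iha, ihb, one_mul]
      | inv a ha iha => rw [QuotientGroup.mk_inv, inv_pow, iha, inv_one]
    have hall : ∀ y : P, y ∉ F → y ^ 2 ∈ L2 := by
      intro y hy
      have key : ∀ w : P, w ^ 2 ∈ L2 → (w : P ⧸ F) = y → y ^ 2 ∈ L2 := by
        intro w hw hwy
        obtain ⟨f, hf, rfl⟩ : ∃ f ∈ F, y = w * f := ⟨w⁻¹ * y, QuotientGroup.eq.1 hwy, by group⟩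
        rw [← QuotientGroup.eq_one_iff] at hw ⊢
        have hcf : Commute (w : P ⧸ L2) (f : P ⧸ L2) := by
          refine (commutatorElement_eq_one_iff_commute.1 ?_).symm
          rw [hmc L2]
          exact (QuotientGroup.eq_one_iff _).2 (hcomm f hf w)
        have hf2 : ((f : P ⧸ L2)) ^ 2 = 1 := hFexp f hf
        rw [QuotientGroup.mk_pow] at hw ⊢
        rw [QuotientGroup.mk_mul, hcf.mul_pow, hw, hf2, one_mul]
      by_cases h1 : (x : P ⧸ F) = y
      · exact key x h0 h1
      by_cases h2 : (τ x : P ⧸ F) = y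
      · exact key _ (by rw [show τ x ^ 2 = τ (x ^ 2) from (map_pow τ x 2).symm]; exact hinv τ _ h0) h2
      refine key _ (by rw [show τ (τ x) ^ 2 = τ (τ (x ^ 2)) by simp only [map_pow]]; exact hinv τ _ (hinv τ _ h0)) ?_
      have hx1 : (x : P ⧸ F) ≠ 1 := fun h => hx ((QuotientGroup.eq_one_iff x).1 h)
      have ht1 : (τ x : P ⧸ F) ≠ 1 := fun h => hx ((hmapF τ x).1 ((QuotientGroup.eq_one_iff _).1 h))
      have ht2 : ((τ (τ x) : P) : P ⧸ F) ≠ 1 := fun h =>
        hx ((hmapF τ x).1 ((hmapF τ _).1 ((QuotientGroup.eq_one_iff _).1 h)))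
      have hy1 : (y : P ⧸ F) ≠ 1 := fun h => hy ((QuotientGroup.eq_one_iff y).1 h)
      by_contra h3
      have e1 := hτmove x hx
      have e2 := hτmove (τ x) (fun h => hx ((hmapF τ x).1 h))
      have e3 := hτ2move x hx
      haveI : Fintype (P ⧸ F) := Fintype.ofFinite _
      have hle := Finset.card_le_univ
        ({1, (x : P ⧸ F), (τ x : P ⧸ F), ((τ (τ x) : P) : P ⧸ F), (y : P ⧸ F)} : Finset (P ⧸ F))
      rw [Finset.card_insert_of_notMem (by simp [hx1.symm, ht1.symm, ht2.symm, hy1.symm]),
        Finset.card_insert_of_notMem (by simp [Ne.symm e1, Ne.symm e3, h1]),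
        Finset.card_insert_of_notMem (by simp [Ne.symm e2, h2]),
        Finset.card_insert_of_notMem (by simp [h3]), Finset.card_singleton,
        ← Nat.card_eq_fintype_card, hq] at hle
      omega
    -- then `P ⧸ L2` is abelian
    have hexp : ∀ y : P, (y : P ⧸ L2) ^ 2 = 1 := by
      intro y
      rw [← QuotientGroup.mk_pow, QuotientGroup.eq_one_iff]
      by_cases hy : y ∈ F
      · have h1 := hall x hx
        have h2 := hall (x * y) (fun h => hx (by simpa using F.mul_mem h (F.inv_mem hy)))
        have hcxy : Commute (x : P ⧸ L2) (y : P ⧸ L2) := by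
          refine (commutatorElement_eq_one_iff_commute.1 ?_).symm
          rw [hmc L2]
          exact (QuotientGroup.eq_one_iff _).2 (hcomm y hy x)
        rw [← QuotientGroup.eq_one_iff, QuotientGroup.mk_pow] at h1 h2 ⊢
        rw [QuotientGroup.mk_mul, hcxy.mul_pow, h1, one_mul] at h2
        exact h2
      · exact hall y hy
    refine hL2lt ?_
    rw [hFc, commutator_def, Subgroup.commutator_le]
    intro u _ v _
    rw [← QuotientGroup.eq_one_iff, ← QuotientGroup.mk'_apply, map_commutatorElement,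
      commutatorElement_eq_one_iff_commute]
    exact Commute.of_orderOf_dvd_two (fun z => by
      induction z using QuotientGroup.induction_on with
      | H z => exact orderOf_dvd_of_pow_eq_one (hexp z)) _ _
  -- `F = L2 ⊔ ⟨x²⟩`, of index two over `L2`
  have hFL : ∀ x ∉ F, ∀ f ∈ F, f ∈ L2 ∨ (x ^ 2)⁻¹ * f ∈ L2 := by
    intro x hx f hf
    have hcard2 : Nat.card (F.map (QuotientGroup.mk' L2)) ≤ 2 := by
      -- generated by one commutator of order two
      obtain ⟨y, hy⟩ : ∃ y : P, y ∉ Subgroup.zpowers x ⊔ F := by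
        by_contra hh
        push Not at hh
        have hz := frattini_nongenerating (K := Subgroup.zpowers x) (eq_top_iff.2 fun y _ => hh y)
        refine hna ⟨⟨fun a b => ?_⟩⟩
        obtain ⟨i, rfl⟩ := Subgroup.mem_zpowers_iff.1 (hz ▸ Subgroup.mem_top a : a ∈ Subgroup.zpowers x)
        obtain ⟨j, rfl⟩ := Subgroup.mem_zpowers_iff.1 (hz ▸ Subgroup.mem_top b : b ∈ Subgroup.zpowers x)
        exact (Commute.zpow_zpow_self x i j).eq
      have htop : Subgroup.closure ({x, y} : Set P) = ⊤ := by
        apply frattini_nongenerating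
        set M := Subgroup.closure ({x, y} : Set P) ⊔ F
        have hlt : Subgroup.zpowers x ⊔ F < M := by
          refine lt_of_le_of_ne (sup_le_sup_right (Subgroup.zpowers_le.2
            (Subgroup.subset_closure (Set.mem_insert x {y}))) _) fun h => hy ?_
          rw [h]
          exact Subgroup.mem_sup_left (Subgroup.subset_closure (Set.mem_insert_of_mem x rfl))
        have hlt0 : F < Subgroup.zpowers x ⊔ F := lt_of_le_of_ne le_sup_right fun h =>
          hx (h ▸ Subgroup.mem_sup_left (Subgroup.mem_zpowers x))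
        have d1 := Subgroup.index_strictAnti hlt
        have d2 := Subgroup.index_strictAnti hlt0
        have d3 := Subgroup.index_dvd_of_le hlt.le
        have d4 := Subgroup.index_dvd_of_le hlt0.le
        rw [hFi] at d2 d4
        rw [← Subgroup.index_eq_one]
        have hne0 : M.index ≠ 0 := Subgroup.index_ne_zero_of_finite
        interval_cases hh : (Subgroup.zpowers x ⊔ F).index <;> omega
      set c := (⁅x, y⁆ : P) with hc
      have hcF' : c ∈ F := hFc ▸ Subgroup.commutator_mem_commutator (Subgroup.mem_top x) (Subgroup.mem_top y)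
      have hcent : ∀ z : P ⧸ L2, Commute (c : P ⧸ L2) z := by
        intro z
        induction z using QuotientGroup.induction_on with
        | H z =>
          refine commutatorElement_eq_one_iff_commute.1 ?_
          rw [hmc L2]
          exact (QuotientGroup.eq_one_iff _).2 (hcomm c hcF' z)
      haveI hCn : (Subgroup.zpowers (c : P ⧸ L2)).Normal := ⟨fun a ha g => by
        obtain ⟨i, rfl⟩ := Subgroup.mem_zpowers_iff.1 ha
        rw [← ((hcent g).zpow_left i).eq, mul_inv_cancel_right]
        exact Subgroup.zpow_mem_zpowers _ i⟩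
      have hle : F.map (QuotientGroup.mk' L2) ≤ Subgroup.zpowers (c : P ⧸ L2) := by
        rw [Subgroup.map_le_iff_le_comap, hFc]
        haveI : ((Subgroup.zpowers (c : P ⧸ L2)).comap (QuotientGroup.mk' L2)).Normal := inferInstance
        refine Subgroup.Normal.quotient_commutative_iff_commutator_le.1 ⟨⟨fun a b => ?_⟩⟩
        have hgens : Subgroup.closure ((QuotientGroup.mk' ((Subgroup.zpowers (c : P ⧸ L2)).comap
            (QuotientGroup.mk' L2))) '' {x, y}) = ⊤ := by
          rw [← MonoidHom.map_closure, htop, Subgroup.map_top_of_surjective _ (QuotientGroup.mk'_surjective _)]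
        have hab : Commute (QuotientGroup.mk' ((Subgroup.zpowers (c : P ⧸ L2)).comap (QuotientGroup.mk' L2)) x)
            (QuotientGroup.mk' ((Subgroup.zpowers (c : P ⧸ L2)).comap (QuotientGroup.mk' L2)) y) := by
          rw [← commutatorElement_eq_one_iff_commute, ← map_commutatorElement]
          exact (QuotientGroup.eq_one_iff _).2 (Subgroup.mem_zpowers _)
        letI := Subgroup.closureCommGroupOfComm (k := ((QuotientGroup.mk' ((Subgroup.zpowers (c : P ⧸ L2)).comap
            (QuotientGroup.mk' L2))) '' {x, y})) (by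
          rintro _ ⟨u, (rfl | rfl), rfl⟩ _ ⟨v, (rfl | rfl), rfl⟩
          · rfl
          · exact hab.eq
          · exact hab.eq.symm
          · rfl)
        exact congrArg Subtype.val (mul_comm
          (⟨a, hgens.symm ▸ Subgroup.mem_top a⟩ : Subgroup.closure _) ⟨b, hgens.symm ▸ Subgroup.mem_top b⟩)
      refine (Subgroup.card_le_of_le hle).trans ?_
      rw [Nat.card_zpowers]
      refine Nat.le_of_dvd two_pos (orderOf_dvd_of_pow_eq_one ?_)
      have hu2 : Commute ((x : P ⧸ L2) ^ 2) (y : P ⧸ L2) := by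
        refine commutatorElement_eq_one_iff_commute.1 ?_
        rw [← QuotientGroup.mk_pow, hmc L2]
        exact (QuotientGroup.eq_one_iff _).2 (hcomm _ (CfsgLib.PGroup.pow_mem_frattini hP x) y)
      have e : ⁅(x : P ⧸ L2) ^ 2, (y : P ⧸ L2)⁆ =
          ((x : P ⧸ L2) * ⁅(x : P ⧸ L2), (y : P ⧸ L2)⁆ * (x : P ⧸ L2)⁻¹) * ⁅(x : P ⧸ L2), (y : P ⧸ L2)⁆ := by
        simp only [commutatorElement_def, pow_two]; group
      have hcq : (c : P ⧸ L2) = ⁅(x : P ⧸ L2), (y : P ⧸ L2)⁆ := map_commutatorElement (QuotientGroup.mk' L2) x y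
      rw [commutatorElement_eq_one_iff_commute.2 hu2, ← hcq, ← (hcent (x : P ⧸ L2)).eq, mul_inv_cancel_right, ← pow_two] at e
      exact e.symm
    by_contra hh
    push Not at hh
    have hm : ∀ g ∈ F, (g : P ⧸ L2) ∈ F.map (QuotientGroup.mk' L2) := fun g hg => ⟨g, hg, rfl⟩
    haveI : Fintype (F.map (QuotientGroup.mk' L2)) := Fintype.ofFinite _
    have h3 : Finset.card ({⟨1, one_mem _⟩, ⟨_, hm _ (CfsgLib.PGroup.pow_mem_frattini hP x)⟩, ⟨_, hm f hf⟩} :
        Finset (F.map (QuotientGroup.mk' L2))) = 3 := by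
      rw [Finset.card_eq_three]
      refine ⟨_, _, _, ?_, ?_, ?_, rfl⟩
      · exact fun h => hsq x hx ((QuotientGroup.eq_one_iff _).1 (congrArg Subtype.val h).symm)
      · exact fun h => hh.1 ((QuotientGroup.eq_one_iff _).1 (congrArg Subtype.val h).symm)
      · exact fun h => hh.2 (QuotientGroup.eq.1 (congrArg Subtype.val h))
    have := Finset.card_le_univ ({⟨1, one_mem _⟩, ⟨_, hm _ (CfsgLib.PGroup.pow_mem_frattini hP x)⟩, ⟨_, hm f hf⟩} :
        Finset (F.map (QuotientGroup.mk' L2)))
    rw [h3, ← Nat.card_eq_fintype_card] at this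
    omega
  -- hence `L2 = L3`, so trivial
  have hL2bot : L2 = ⊥ := by
    refine hnil 2 ?_
    change L2 ≤ L3
    rw [hL2, Subgroup.lowerCentralSeries_succ, ← hF1, Subgroup.commutator_le]
    intro f hf y _
    have hL2c : ∀ g ∈ L2, ∀ z : P, Commute (g : P ⧸ L3) (z : P ⧸ L3) := by
      intro g hg z
      refine commutatorElement_eq_one_iff_commute.1 ?_
      rw [hmc L3]
      refine (QuotientGroup.eq_one_iff _).2 ?_
      rw [hL3, Subgroup.lowerCentralSeries_succ]
      exact Subgroup.commutator_mem_commutator hg (Subgroup.mem_top z)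
    -- `F` is central modulo `L3`
    rw [← QuotientGroup.eq_one_iff, ← QuotientGroup.mk'_apply, map_commutatorElement,
      commutatorElement_eq_one_iff_commute]
    change Commute (f : P ⧸ L3) (y : P ⧸ L3)
    have key : ∀ u ∉ F, Commute (f : P ⧸ L3) (u : P ⧸ L3) := by
      intro u hu
      rcases hFL u hu f hf with h | h
      · exact hL2c f h u
      · have e : (f : P ⧸ L3) = (u : P ⧸ L3) ^ 2 * (((u ^ 2)⁻¹ * f : P) : P ⧸ L3) := by
          rw [← QuotientGroup.mk_pow, ← QuotientGroup.mk_mul, mul_inv_cancel_left]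
        rw [e]
        exact ((Commute.refl _).pow_left 2).mul_left (hL2c _ h u)
    by_cases hy : y ∈ F
    · obtain ⟨u, hu⟩ : ∃ u, u ∉ F := by
        by_contra hh; push Not at hh
        exact CfsgLib.PGroup.frattini_ne_top (P := P) (eq_top_iff.2 fun z _ => hh z)
      have h1 := key u hu
      have h2 := key (u * y) (fun h => hu (by simpa using F.mul_mem h (F.inv_mem hy)))
      have h3 := h1.inv_right.mul_right h2
      rwa [QuotientGroup.mk_mul, inv_mul_cancel_left] at h3
    · exact key y hy
  -- so `P` has order eight and a unique involution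
  obtain ⟨x0, hx0⟩ : ∃ u, u ∉ F := by
    by_contra hh; push Not at hh
    exact CfsgLib.PGroup.frattini_ne_top (P := P) (eq_top_iff.2 fun z _ => hh z)
  have hF2 : ∀ f ∈ F, f = 1 ∨ f = x0 ^ 2 := fun f hf => by
    rcases hFL x0 hx0 f hf with h | h <;> rw [hL2bot, Subgroup.mem_bot] at h
    · exact Or.inl h
    · exact Or.inr (inv_mul_eq_one.1 h).symm
  have hFcard : Nat.card F = 2 := by
    haveI : Fintype F := Fintype.ofFinite _
    rw [Nat.card_eq_two_iff' (1 : F)]
    refine ⟨⟨x0 ^ 2, CfsgLib.PGroup.pow_mem_frattini hP x0⟩, ?_, ?_⟩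
    · intro h
      have h' : x0 ^ 2 = 1 := congrArg Subtype.val h
      exact hsq x0 hx0 (hL2bot ▸ (Subgroup.mem_bot.2 h'))
    · intro g hg
      exact Subtype.ext ((hF2 g g.2).resolve_left fun h => hg (Subtype.ext h))
  have h8 : Nat.card P = 8 := by rw [← F.card_mul_index, hFcard, hFi]
  have huniq : ∀ a b : P, orderOf a = 2 → orderOf b = 2 → a = b := by
    have key : ∀ a : P, orderOf a = 2 → a = x0 ^ 2 := by
      intro a ha
      have ha2 : a ^ 2 = 1 := ha ▸ pow_orderOf_eq_one a
      by_cases haF : a ∈ F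
      · exact (hF2 a haF).resolve_left fun h => by simp [h] at ha
      · exact absurd (by rw [ha2]; exact one_mem _) (hsq a haF)
    exact fun a b ha hb => (key a ha).trans (key b hb).symm
  rcases CfsgLib.TwoGroups.OneInvolution.isCyclic_or_quaternion hP huniq with hc | ⟨m, hm, ⟨e⟩⟩
  · exact absurd ⟨⟨fun a b => hc.commGroup.mul_comm a b⟩⟩ hna
  · have hcard := Nat.card_congr e.toEquiv
    have hm1 : m = 1 := by
      haveI : NeZero (2 ^ m) := ⟨pow_ne_zero _ two_ne_zero⟩
      rw [h8, Nat.card_eq_fintype_card, QuaternionGroup.card] at hcard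
      have : 2 ^ m = 2 ^ 1 := by omega
      exact Nat.pow_right_injective le_rfl this
    subst hm1
    exact ⟨e⟩

end Cfsg.Agent.S4189
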