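import Cfsg.Statements.S4190
import Cfsg.Agent.Lib.ClassLog81.Main
-- import your own Cfsg.Agent.* helpers here

set_option autoImplicit false
set_option linter.style.haveILetI false
open Cfsg

namespace Cfsg.Agent.S4190

/-- Let G be a finite solvable group and p a prime dividing the index of the Fitting subgroup of G. Then the number of conjugacy classes of G is at least p/(3·log₂ p). -/
theorem result {G : Type*} [Group G] [Finite G] (hG : Group.IsSolvable G) (p : ℕ) [Fact p.Prime] (hp : p ∣ (Cfsg.fittingSubgroup G).index) : (p : ℝ) / (3 * Real.logb 2 p) ≤ Nat.card (ConjClasses G) := by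
  haveI := hG
  have hpp : p.Prime := Fact.out
  obtain ⟨H, _, _, ⟨e⟩⟩ := Finite.exists_type_univ_nonempty_mulEquiv.{_, 0} G
  haveI : Finite H := Finite.of_equiv _ e.toEquiv
  haveI : Group.IsSolvable H := Group.isSolvable_of_surjective (f := e.toMonoidHom) e.surjective
  have hidx : (Cfsg.fittingSubgroup H).index = (Cfsg.fittingSubgroup G).index := by
    rw [← CfsgLib.Fitting.fitting_map_mulEquiv e]
    exact Subgroup.index_map_equiv _ e
  have hk : p ≤ 3 * Nat.log 2 p * Nat.card (ConjClasses G) :=
    (CfsgLib.ClassLog81.index_bound hpp _ H rfl (hidx.symm ▸ hp)).trans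
      (Nat.mul_le_mul_left _ (CfsgLib.ClassBound.card_conjClasses_le_of_surjective e.toMonoidHom e.surjective))
  have hl : (Nat.log 2 p : ℝ) ≤ Real.logb 2 p := by exact_mod_cast Real.natLog_le_logb p 2
  have hpos : (0 : ℝ) < 3 * Real.logb 2 p :=
    mul_pos three_pos (Real.logb_pos (by norm_num) (by exact_mod_cast hpp.one_lt))
  rw [div_le_iff₀ hpos]
  have hk' : (p : ℝ) ≤ 3 * (Nat.log 2 p : ℝ) * (Nat.card (ConjClasses G) : ℝ) := by exact_mod_cast hk
  nlinarith [Nat.cast_nonneg (α := ℝ) (Nat.card (ConjClasses G))]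

end Cfsg.Agent.S4190
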