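import Cfsg.Statements.S4192
import Cfsg.Agent.Lib.RealGraph81.Residual
import Cfsg.Agent.Lib.PF.OddOrder

set_option autoImplicit false
open Cfsg

namespace Cfsg.Agent.S4192

/-- Let G be a finite group; call an element real when it is conjugate to its inverse, and say that the real-class-size graph of a group is disconnected when the primes dividing its real class sizes split into two non-empty disjoint parts with no real class size divisible by a prime from each part. If the real-class-size graph of G is disconnected, then some real class size of G is even, and either the Sylow 2-subgroups of G are normal, or the subgroup K generated by the 2-elements of G (the smallest normal subgroup of odd index) again has a disconnected real-class-size graph and every real class size of K is odd or a power of 2. -/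
theorem result {G : Type*} [Group G] [Finite G] (h : (∃ π₁ π₂ : Set ℕ, π₁.Nonempty ∧ π₂.Nonempty ∧ Disjoint π₁ π₂ ∧ (∀ q ∈ π₁ ∪ π₂, q.Prime ∧ ∃ n ∈ {n : ℕ | ∃ x : G, IsConj x x⁻¹ ∧ (Subgroup.centralizer ({x} : Set G)).index = n}, q ∣ n) ∧ (∀ q : ℕ, q.Prime → (∃ n ∈ {n : ℕ | ∃ x : G, IsConj x x⁻¹ ∧ (Subgroup.centralizer ({x} : Set G)).index = n}, q ∣ n) → q ∈ π₁ ∨ q ∈ π₂) ∧ ∀ a ∈ π₁, ∀ b ∈ π₂, ∀ n ∈ {n : ℕ | ∃ x : G, IsConj x x⁻¹ ∧ (Subgroup.centralizer ({x} : Set G)).index = n}, ¬ (a ∣ n ∧ b ∣ n))) : (∃ n ∈ {n : ℕ | ∃ x : G, IsConj x x⁻¹ ∧ (Subgroup.centralizer ({x} : Set G)).index = n}, 2 ∣ n) ∧ ((∀ P : Sylow 2 G, (P : Subgroup G).Normal) ∨ ((∃ π₁ π₂ : Set ℕ, π₁.Nonempty ∧ π₂.Nonempty ∧ Disjoint π₁ π₂ ∧ (∀ q ∈ π₁ ∪ π₂, q.Prime ∧ ∃ n ∈ {n : ℕ | ∃ x : ↥(Subgroup.closure {g : G | ∃ k : ℕ, orderOf g = 2 ^ k}), IsConj x x⁻¹ ∧ (Subgroup.centralizer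 ({x} : Set ↥(Subgroup.closure {g : G | ∃ k : ℕ, orderOf g = 2 ^ k}))).index = n}, q ∣ n) ∧ (∀ q : ℕ, q.Prime → (∃ n ∈ {n : ℕ | ∃ x : ↥(Subgroup.closure {g : G | ∃ k : ℕ, orderOf g = 2 ^ k}), IsConj x x⁻¹ ∧ (Subgroup.centralizer ({x} : Set ↥(Subgroup.closure {g : G | ∃ k : ℕ, orderOf g = 2 ^ k}))).index = n}, q ∣ n) → q ∈ π₁ ∨ q ∈ π₂) ∧ ∀ a ∈ π₁, ∀ b ∈ π₂, ∀ n ∈ {n : ℕ | ∃ x : ↥(Subgroup.closure {g : G | ∃ k : ℕ, orderOf g = 2 ^ k}), IsConj x x⁻¹ ∧ (Subgroup.centralizer ({x} : Set ↥(Subgroup.closure {g : G | ∃ k : ℕ, orderOf g = 2 ^ k}))).index = n}, ¬ (a ∣ n ∧ b ∣ n)) ∧ ∀ n ∈ {n : ℕ | ∃ x : ↥(Subgroup.closure {g : G | ∃ k : ℕ, orderOf g = 2 ^ k}), IsConj x x⁻¹ ∧ (Subgroup.centralizer ({x} : Set ↥(Subgroup.closure {g : G | ∃ k : ℕ, orderOf g = 2 ^ k}))).index = n}, Odd n ∨ ∃ j : ℕ, n = 2 ^ j)) := by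
  obtain ⟨π₁, π₂, h₁, h₂, hdisj, hsub, hcover, hnoedge⟩ := h
  open CfsgLib.RealGraph81 in
  have hS : Split G π₁ π₂ := by
    refine ⟨?_, ?_, fun x q hx hq hd => hcover q hq ⟨_, ⟨x, isConj_iff.2 hx, rfl⟩, hd⟩, hdisj,
      fun a ha b hb x hx h1 h2 => hnoedge a ha b hb _ ⟨x, isConj_iff.2 hx, rfl⟩ ⟨h1, h2⟩⟩
    · obtain ⟨q, hq⟩ := h₁
      obtain ⟨hp, n, ⟨x, hx, rfl⟩, hd⟩ := hsub q (Or.inl hq)
      exact ⟨q, hq, hp, x, isConj_iff.1 hx, hd⟩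
    · obtain ⟨q, hq⟩ := h₂
      obtain ⟨hp, n, ⟨x, hx, rfl⟩, hd⟩ := hsub q (Or.inr hq)
      exact ⟨q, hq, hp, x, isConj_iff.1 hx, hd⟩
  obtain ⟨x, hx, hx2⟩ := hS.exists_two_dvd
  refine ⟨⟨_, ⟨x, isConj_iff.2 hx, rfl⟩, hx2⟩, ?_⟩
  by_cases hP : ∀ P : Sylow 2 G, (P : Subgroup G).Normal
  · exact Or.inl hP
  right
  push Not at hP
  obtain ⟨P, hP⟩ := hP
  classical
  have hres := if h2 : 2 ∈ π₁ then hS.residual CfsgLib.PF.oddSolvable h2 hP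
    else hS.symm.residual CfsgLib.PF.oddSolvable ((hS.cover x 2 hx Nat.prime_two hx2).resolve_left h2) hP
  obtain ⟨⟨a, ha, ha2⟩, ⟨b, hb, hbo, hb1⟩, hall⟩ := hres
  have hall' : ∀ n ∈ {n : ℕ | ∃ x : ↥(CfsgLib.RealGraph81.twoGen G), IsConj x x⁻¹ ∧
      (Subgroup.centralizer ({x} : Set ↥(CfsgLib.RealGraph81.twoGen G))).index = n},
      Odd n ∨ ∃ j : ℕ, n = 2 ^ j := by
    rintro n ⟨z, hz, rfl⟩
    exact hall z (isConj_iff.1 hz)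
  obtain ⟨r, hr, hrd⟩ := Nat.exists_prime_and_dvd hb1
  have hr2 : r ≠ 2 := fun e => (Nat.not_even_iff_odd.2 hbo) (even_iff_two_dvd.2 (e ▸ hrd))
  refine ⟨⟨{2}, {q | q.Prime ∧ q ≠ 2 ∧ ∃ n ∈ {n : ℕ | ∃ x : ↥(CfsgLib.RealGraph81.twoGen G), IsConj x x⁻¹ ∧
      (Subgroup.centralizer ({x} : Set ↥(CfsgLib.RealGraph81.twoGen G))).index = n}, q ∣ n},
    ⟨2, rfl⟩, ⟨r, hr, hr2, _, ⟨b, isConj_iff.2 hb, rfl⟩, hrd⟩,
    Set.disjoint_singleton_left.2 fun e => e.2.1 rfl, ?_, ?_, ?_⟩, hall'⟩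
  · rintro q (rfl | ⟨hq, -, hd⟩)
    · exact ⟨Nat.prime_two, _, ⟨a, isConj_iff.2 ha, rfl⟩, ha2⟩
    · exact ⟨hq, hd⟩
  · intro q hq hd
    by_cases h : q = 2
    · exact Or.inl h
    · exact Or.inr ⟨hq, h, hd⟩
  · rintro c rfl d ⟨hd, hd2, -⟩ n hn ⟨h1, h2⟩
    rcases hall' n hn with ho | ⟨j, rfl⟩
    · exact (Nat.not_even_iff_odd.2 ho) (even_iff_two_dvd.2 h1)
    · exact hd2 ((Nat.prime_dvd_prime_iff_eq hd Nat.prime_two).1 (hd.dvd_of_dvd_pow h2))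

end Cfsg.Agent.S4192
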