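import Cfsg.Statements.S4195


set_option autoImplicit false
open Cfsg

namespace Cfsg.Agent.S4195

/-- Let x be a non-identity element of a finite group G whose centralizer contains a Sylow 2-subgroup of G. If x is conjugate to its inverse, then x has order 2. -/
theorem result {G : Type*} [Group G] [Finite G] (x : G) (hx : x ≠ 1) (P : Sylow 2 G) (hP : (P : Subgroup G) ≤ Subgroup.centralizer ({x} : Set G)) (hreal : IsConj x x⁻¹) : orderOf x = 2 := by
  classical
  obtain ⟨g, hg⟩ := isConj_iff.1 hreal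
  have hg' : g * x⁻¹ * g⁻¹ = x := by
    have := congrArg (·⁻¹) hg
    simpa [mul_assoc] using this
  rw [orderOf_eq_prime_iff]
  refine ⟨?_, hx⟩
  by_contra h2
  have hne : x⁻¹ ≠ x := fun h => h2 (by rw [sq]; nth_rewrite 1 [← h]; exact inv_mul_cancel x)
  let M : Subgroup G :=
    { carrier := {h | h * x * h⁻¹ = x ∨ h * x * h⁻¹ = x⁻¹}
      one_mem' := Or.inl (by simp)
      mul_mem' := by
        intro a b ha hb
        simp only [Set.mem_setOf_eq] at *
        rw [show a * b * x * (a * b)⁻¹ = a * (b * x * b⁻¹) * a⁻¹ by group]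
        rcases hb with hb | hb <;> rw [hb]
        · exact ha
        · rcases ha with ha | ha
          · right; rw [show a * x⁻¹ * a⁻¹ = (a * x * a⁻¹)⁻¹ by group, ha]
          · left; rw [show a * x⁻¹ * a⁻¹ = (a * x * a⁻¹)⁻¹ by group, ha, inv_inv]
      inv_mem' := by
        intro a ha
        simp only [Set.mem_setOf_eq] at *
        rcases ha with ha | ha
        · left; nth_rewrite 1 [← ha]; group
        · right; rw [show a⁻¹ * x * a⁻¹⁻¹ = (a⁻¹ * x⁻¹ * a⁻¹⁻¹)⁻¹ by group]; congr 1; nth_rewrite 1 [← ha]; group }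
  set C := Subgroup.centralizer ({x} : Set G) with hC
  have hmem : ∀ b : G, b ∈ C ↔ b * x * b⁻¹ = x := fun b => by
    rw [hC, Subgroup.mem_centralizer_singleton_iff, mul_inv_eq_iff_eq_mul]
  have hCM : C ≤ M := fun b hb => Or.inl ((hmem b).1 hb)
  have hrel : C.relIndex M = 2 := by
    rw [Subgroup.relIndex_eq_two_iff]
    refine ⟨g, Or.inr hg, fun b hb => ?_⟩
    rw [hmem, hmem, show b * g * x * (b * g)⁻¹ = b * (g * x * g⁻¹) * b⁻¹ by group, hg,
      show b * x⁻¹ * b⁻¹ = (b * x * b⁻¹)⁻¹ by group]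
    rcases hb with hb | hb <;> rw [hb]
    · exact Or.inr ⟨rfl, hne⟩
    · exact Or.inl ⟨inv_inv x, hne⟩
  haveI : Fact (Nat.Prime 2) := ⟨Nat.prime_two⟩
  exact P.not_dvd_index ((hrel ▸ Subgroup.relIndex_dvd_index_of_le hCM : 2 ∣ C.index).trans
    (Subgroup.index_dvd_of_le hP))

end Cfsg.Agent.S4195
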