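import Cfsg.Statements.S4196
import Cfsg.Agent.S4195

set_option autoImplicit false
open Cfsg

namespace Cfsg.Agent.S4196

/-- A finite group G has elementary abelian Sylow 2-subgroups (commutative with every element squaring to the identity) if and only if every 2-element of G has a Sylow 2-subgroup in its centralizer and is conjugate to its inverse. -/
theorem result {G : Type*} [Group G] [Finite G] (P : Sylow 2 G) :
    (IsMulCommutative (P : Subgroup G) ∧ ∀ x ∈ (P : Subgroup G), x ^ 2 = 1) ↔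
      ∀ x : G, (∃ k : ℕ, orderOf x = 2 ^ k) → (∃ Q : Sylow 2 G, (Q : Subgroup G) ≤ Subgroup.centralizer ({x} : Set G)) ∧ IsConj x x⁻¹ := by
  classical
  haveI : Fact (Nat.Prime 2) := ⟨Nat.prime_two⟩
  constructor
  · rintro ⟨hc, hsq⟩ x ⟨k, hk⟩
    have hpg : IsPGroup 2 (Subgroup.zpowers x) :=
      IsPGroup.of_card (n := k) (by rw [Nat.card_zpowers, hk])
    obtain ⟨Q, hQ⟩ := hpg.exists_le_sylow
    have hxQ : x ∈ (Q : Subgroup G) := hQ (Subgroup.mem_zpowers x)
    obtain ⟨e⟩ : Nonempty ((Q : Subgroup G) ≃* (P : Subgroup G)) := ⟨Sylow.equiv Q P⟩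
    constructor
    · refine ⟨Q, fun y hy => Subgroup.mem_centralizer_singleton_iff.2 ?_⟩
      have h1 : (⟨y, hy⟩ : (Q : Subgroup G)) * ⟨x, hxQ⟩ = ⟨x, hxQ⟩ * ⟨y, hy⟩ := by
        apply e.injective
        simp only [map_mul]
        exact hc.is_comm.comm _ _
      simpa using congrArg Subtype.val h1
    · have h1 : (⟨x, hxQ⟩ : (Q : Subgroup G)) ^ 2 = 1 := by
        apply e.injective
        rw [map_pow, map_one]
        exact Subtype.ext (by simpa using hsq _ (e ⟨x, hxQ⟩).2)
      have h2 : x ^ 2 = 1 := by simpa using congrArg Subtype.val h1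
      have h3 : x⁻¹ = x := inv_eq_of_mul_eq_one_right (by rw [← sq]; exact h2)
      rw [h3]
  · intro h
    have hsq : ∀ x ∈ (P : Subgroup G), x ^ 2 = 1 := by
      intro x hx
      obtain ⟨k, hk⟩ := P.isPGroup' ⟨x, hx⟩
      have hxk : x ^ 2 ^ k = 1 := by simpa using congrArg Subtype.val hk
      obtain ⟨j, _, hj⟩ := (Nat.dvd_prime_pow Nat.prime_two).1 (orderOf_dvd_of_pow_eq_one hxk)
      obtain ⟨⟨Q, hQ⟩, hr⟩ := h x ⟨j, hj⟩
      by_cases h1 : x = 1
      · simp [h1]
      · have h2 := Cfsg.Agent.S4195.result x h1 Q hQ hr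
        rw [← h2]; exact pow_orderOf_eq_one x
    refine ⟨⟨⟨fun a b => Subtype.ext ?_⟩⟩, hsq⟩
    have ha := hsq _ a.2
    have hb := hsq _ b.2
    have hab := hsq _ (a * b).2
    rw [sq] at ha hb hab
    simp only [Subgroup.coe_mul] at hab ⊢
    calc (a : G) * b = ((a : G) * b)⁻¹ := (inv_eq_of_mul_eq_one_right hab).symm
      _ = (b : G) * a := by
        rw [mul_inv_rev, inv_eq_of_mul_eq_one_right ha, inv_eq_of_mul_eq_one_right hb]

end Cfsg.Agent.S4196
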