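import Cfsg.Statements.S4198
import Mathlib

set_option autoImplicit false
open Cfsg
open scoped commutatorElement Pointwise

namespace Cfsg.Agent.S4198

open Equiv in
/-- Replace some part `l` by `l - 1`. -/
private noncomputable def shiftType (m : Multiset ℕ) : Multiset ℕ :=
  if h : m = 0 then 0 else
    ((Classical.choose (Multiset.exists_mem_of_ne_zero h)) - 1) ::ₘ
      m.erase (Classical.choose (Multiset.exists_mem_of_ne_zero h))

/-- All parts odd and at least 3, pairwise distinct, covering all but at most one point. -/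
private def IsSplitType (n : ℕ) (m : Multiset ℕ) : Prop :=
  (∀ c ∈ m, Odd c) ∧ (∀ c ∈ m, 2 ≤ c) ∧ n ≤ m.sum + 1 ∧ m.sum ≤ n ∧ ∀ i, m.count i ≤ 1

private theorem shiftType_spec {n : ℕ} (hn : 5 ≤ n) {m : Multiset ℕ} (hm : IsSplitType n m) :
    ∃ l ∈ m, 3 ≤ l ∧ shiftType m = (l - 1) ::ₘ m.erase l ∧
      (shiftType m).sum + 1 = m.sum ∧ Multiset.card (shiftType m) = Multiset.card m ∧
      (∀ c ∈ shiftType m, 2 ≤ c) ∧ shiftType m ≠ {2} := by
  obtain ⟨hodd, h2, hlo, hhi, hc⟩ := hm
  have h0 : m ≠ 0 := by
    rintro rfl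
    simp at hlo
    omega
  set l := Classical.choose (Multiset.exists_mem_of_ne_zero h0) with hl
  have hlm : l ∈ m := Classical.choose_spec (Multiset.exists_mem_of_ne_zero h0)
  have hl3 : 3 ≤ l := by
    have := h2 l hlm
    rcases (hodd l hlm) with ⟨k, hk⟩
    omega
  have heq : shiftType m = (l - 1) ::ₘ m.erase l := by
    rw [shiftType, dif_neg h0]
  have hs : m.sum = l + (m.erase l).sum := by
    conv_lhs => rw [← Multiset.cons_erase hlm]
    rw [Multiset.sum_cons]
  have hcard : Multiset.card m = Multiset.card (m.erase l) + 1 := by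
    conv_lhs => rw [← Multiset.cons_erase hlm]
    rw [Multiset.card_cons]
  refine ⟨l, hlm, hl3, heq, ?_, ?_, ?_, ?_⟩
  · rw [heq, Multiset.sum_cons]; omega
  · rw [heq, Multiset.card_cons]; omega
  · intro c hc'
    rw [heq, Multiset.mem_cons] at hc'
    rcases hc' with rfl | hc'
    · omega
    · exact h2 c (Multiset.mem_of_mem_erase hc')
  · intro h
    have h1 : (shiftType m).sum = 2 := by rw [h]; simp
    rw [heq, Multiset.sum_cons] at h1
    omega

private theorem shiftType_inj {n : ℕ} (hn : 5 ≤ n) {m₁ m₂ : Multiset ℕ}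
    (h₁ : IsSplitType n m₁) (h₂ : IsSplitType n m₂) (h : shiftType m₁ = shiftType m₂) :
    m₁ = m₂ := by
  obtain ⟨a, ha, ha3, hea, -⟩ := shiftType_spec hn h₁
  obtain ⟨b, hb, hb3, heb, -⟩ := shiftType_spec hn h₂
  rw [hea, heb] at h
  have hmem : a - 1 ∈ (b - 1) ::ₘ m₂.erase b := h ▸ Multiset.mem_cons_self _ _
  have hab : a = b := by
    rcases Multiset.mem_cons.mp hmem with h' | h'
    · omega
    · exfalso
      obtain ⟨k, hk⟩ := h₂.1 _ (Multiset.mem_of_mem_erase h')
      obtain ⟨k', hk'⟩ := h₁.1 _ ha
      omega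
  subst hab
  rw [Multiset.cons_inj_right] at h
  rw [← Multiset.cons_erase ha, ← Multiset.cons_erase hb, h]

private theorem classes_alternating_lt (n : ℕ) (hn : 5 ≤ n) :
    Nat.card (ConjClasses (alternatingGroup (Fin n))) <
      Nat.card (ConjClasses (Equiv.Perm (Fin n))) := by
  classical
  -- data attached to a class of the alternating group
  set rep : ConjClasses (alternatingGroup (Fin n)) → alternatingGroup (Fin n) :=
    fun c => Classical.choose (ConjClasses.exists_rep c) with hrepdef
  have hrep : ∀ c, ConjClasses.mk (rep c) = c := fun c =>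
    Classical.choose_spec (ConjClasses.exists_rep c)
  set r : ConjClasses (alternatingGroup (Fin n)) → Equiv.Perm (Fin n) :=
    fun c => Classical.choose (ConjClasses.exists_rep
      (ConjClasses.mk (rep c : Equiv.Perm (Fin n)))) with hrdef
  have hr : ∀ c, IsConj (r c) (rep c : Equiv.Perm (Fin n)) := fun c =>
    ConjClasses.mk_eq_mk_iff_isConj.mp (Classical.choose_spec (ConjClasses.exists_rep
      (ConjClasses.mk (rep c : Equiv.Perm (Fin n)))))
  let Main : ConjClasses (alternatingGroup (Fin n)) → Prop := fun c =>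
    ∃ u ∈ alternatingGroup (Fin n), u * r c * u⁻¹ = (rep c : Equiv.Perm (Fin n))
  have key : ∀ c, ¬ Main c → IsSplitType n (rep c : Equiv.Perm (Fin n)).cycleType := by
    intro c hc
    obtain ⟨v, hv⟩ := isConj_iff.mp (hr c)
    have hle : Subgroup.centralizer {r c} ≤ alternatingGroup (Fin n) := by
      intro w hw
      by_contra hwA
      apply hc
      refine ⟨v * w, ?_, ?_⟩
      · have hvA : v ∉ alternatingGroup (Fin n) := fun h => hc ⟨v, h, hv⟩
        rw [Equiv.Perm.mem_alternatingGroup] at hvA hwA ⊢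
        rw [map_mul]
        rcases Int.units_eq_one_or (Equiv.Perm.sign v) with h1 | h1
        · exact absurd h1 hvA
        rcases Int.units_eq_one_or (Equiv.Perm.sign w) with h2 | h2
        · exact absurd h2 hwA
        rw [h1, h2]; decide
      · have hcomm : w * r c = r c * w := by
          have h3 := Subgroup.mem_centralizer_iff.mp hw (r c) (Set.mem_singleton _)
          exact h3.symm
        have h4 : w * r c * w⁻¹ = r c := by rw [hcomm, mul_inv_cancel_right]
        calc v * w * r c * (v * w)⁻¹ = v * (w * r c * w⁻¹) * v⁻¹ := by group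
          _ = _ := by rw [h4, hv]
    rw [Equiv.Perm.centralizer_le_alternating_iff] at hle
    have hct : (rep c : Equiv.Perm (Fin n)).cycleType = (r c).cycleType :=
      (Equiv.Perm.isConj_iff_cycleType_eq.mp (hr c)).symm
    refine ⟨?_, fun a ha => Equiv.Perm.two_le_of_mem_cycleType ha, ?_, ?_, ?_⟩
    · rw [hct]; exact hle.1
    · rw [hct]; simpa using hle.2.1
    · simpa using Equiv.Perm.sum_cycleType_le (rep c : Equiv.Perm (Fin n))
    · rw [hct]; exact hle.2.2
  have hex : ∀ c, ∃ σ : Equiv.Perm (Fin n),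
      (Main c → σ.cycleType = (rep c : Equiv.Perm (Fin n)).cycleType) ∧
      (¬ Main c → σ.cycleType = shiftType (rep c : Equiv.Perm (Fin n)).cycleType) := by
    intro c
    by_cases hc : Main c
    · exact ⟨rep c, fun _ => rfl, fun h => absurd hc h⟩
    · obtain ⟨l, -, -, -, hsum, -, h2, -⟩ := shiftType_spec hn (key c hc)
      have hle := (key c hc).2.2.2.1
      obtain ⟨σ, hσ⟩ := (Equiv.Perm.exists_with_cycleType_iff (Fin n)
        (m := shiftType (rep c : Equiv.Perm (Fin n)).cycleType)).mpr
        ⟨by rw [Fintype.card_fin]; omega, h2⟩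
      exact ⟨σ, fun h => absurd h hc, fun _ => hσ⟩
  choose σ hσ1 hσ2 using hex
  have hsign1 : ∀ c, Main c → Equiv.Perm.sign (σ c) = 1 := by
    intro c hc
    rw [Equiv.Perm.sign_of_cycleType, hσ1 c hc, ← Equiv.Perm.sign_of_cycleType]
    exact Equiv.Perm.mem_alternatingGroup.mp (rep c).2
  have hsign2 : ∀ c, ¬ Main c → Equiv.Perm.sign (σ c) ≠ 1 := by
    intro c hc hs
    obtain ⟨l, -, -, -, hsum, hcard, -, -⟩ := shiftType_spec hn (key c hc)
    rw [Equiv.Perm.sign_of_cycleType, hσ2 c hc, hcard] at hs
    have he := Equiv.Perm.mem_alternatingGroup.mp (rep c).2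
    rw [Equiv.Perm.sign_of_cycleType, ← hsum] at he
    rw [show (shiftType (rep c : Equiv.Perm (Fin n)).cycleType).sum + 1 +
      Multiset.card (rep c : Equiv.Perm (Fin n)).cycleType =
      ((shiftType (rep c : Equiv.Perm (Fin n)).cycleType).sum +
      Multiset.card (rep c : Equiv.Perm (Fin n)).cycleType) + 1 by ring, pow_succ, hs] at he
    exact absurd he (by decide)
  have hinj : Function.Injective (fun c => ConjClasses.mk (σ c)) := by
    intro c d hcd
    have ht : (σ c).cycleType = (σ d).cycleType :=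
      Equiv.Perm.isConj_iff_cycleType_eq.mp (ConjClasses.mk_eq_mk_iff_isConj.mp hcd)
    have hs : Equiv.Perm.sign (σ c) = Equiv.Perm.sign (σ d) := by
      rw [Equiv.Perm.sign_of_cycleType, Equiv.Perm.sign_of_cycleType, ht]
    have hmain : Main c ↔ Main d := by
      constructor
      · intro h
        by_contra h'
        exact hsign2 d h' (hs ▸ hsign1 c h)
      · intro h
        by_contra h'
        exact hsign2 c h' (hs.symm ▸ hsign1 d h)
    have hteq : (rep c : Equiv.Perm (Fin n)).cycleType =
        (rep d : Equiv.Perm (Fin n)).cycleType := by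
      by_cases h : Main c
      · rw [← hσ1 c h, ← hσ1 d (hmain.mp h), ht]
      · refine shiftType_inj hn (key c h) (key d fun h' => h (hmain.mpr h')) ?_
        rw [← hσ2 c h, ← hσ2 d (fun h' => h (hmain.mpr h')), ht]
    have hreq : r c = r d := by
      have haux : ∀ C D : ConjClasses (Equiv.Perm (Fin n)), C = D →
          Classical.choose (ConjClasses.exists_rep C) =
            Classical.choose (ConjClasses.exists_rep D) := by
        rintro C D rfl
        rfl
      exact haux _ _
        (ConjClasses.mk_eq_mk_iff_isConj.mpr (Equiv.Perm.isConj_iff_cycleType_eq.mpr hteq))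
    rw [← hrep c, ← hrep d, ConjClasses.mk_eq_mk_iff_isConj, isConj_iff]
    obtain ⟨u, hu⟩ := isConj_iff.mp (hr c)
    obtain ⟨v, hv⟩ := isConj_iff.mp (hr d)
    by_cases h : Main c
    · obtain ⟨u', hu'A, hu'⟩ := h
      obtain ⟨v', hv'A, hv'⟩ := hmain.mp ⟨u', hu'A, hu'⟩
      refine ⟨⟨v' * u'⁻¹, mul_mem hv'A (inv_mem hu'A)⟩, Subtype.ext ?_⟩
      show v' * u'⁻¹ * (rep c : Equiv.Perm (Fin n)) * (v' * u'⁻¹)⁻¹ = _
      rw [← hu', ← hv', hreq]; group
    · have huA : u ∉ alternatingGroup (Fin n) := fun hA => h ⟨u, hA, hu⟩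
      have hvA : v ∉ alternatingGroup (Fin n) := fun hA => h (hmain.mpr ⟨v, hA, hv⟩)
      have hA : v * u⁻¹ ∈ alternatingGroup (Fin n) := by
        rw [Equiv.Perm.mem_alternatingGroup] at huA hvA ⊢
        rw [map_mul, map_inv]
        rcases Int.units_eq_one_or (Equiv.Perm.sign v) with h1 | h1
        · exact absurd h1 hvA
        rcases Int.units_eq_one_or (Equiv.Perm.sign u) with h2 | h2
        · exact absurd h2 huA
        rw [h1, h2]; decide
      refine ⟨⟨v * u⁻¹, hA⟩, Subtype.ext ?_⟩
      show v * u⁻¹ * (rep c : Equiv.Perm (Fin n)) * (v * u⁻¹)⁻¹ = _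
      rw [← hu, ← hv, hreq]; group
  obtain ⟨τ, hτ⟩ := (Equiv.Perm.exists_with_cycleType_iff (Fin n)
    (m := ({2} : Multiset ℕ))).mpr ⟨by simp; omega, by simp⟩
  rw [Nat.card_eq_fintype_card, Nat.card_eq_fintype_card]
  refine Fintype.card_lt_of_injective_of_notMem _ hinj (b := ConjClasses.mk τ) ?_
  rintro ⟨c, hc⟩
  have ht : (σ c).cycleType = {2} := by
    rw [Equiv.Perm.isConj_iff_cycleType_eq.mp (ConjClasses.mk_eq_mk_iff_isConj.mp hc), hτ]
  by_cases h : Main c
  · have := hsign1 c h
    rw [Equiv.Perm.sign_of_cycleType, ht] at this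
    exact absurd this (by decide)
  · obtain ⟨l, -, -, -, -, -, -, hne⟩ := shiftType_spec hn (key c h)
    exact hne (by rw [← hσ2 c h, ht])

private theorem card_partition_succ_le (n : ℕ) :
    Fintype.card (Nat.Partition (n + 1)) ≤ 2 * Fintype.card (Nat.Partition n) := by
  classical
  have hm : ∀ p : Nat.Partition (n + 1), 1 ∉ p.parts →
      ∃ m ∈ p.parts, 2 ≤ m ∧ ∀ a ∈ p.parts, m ≤ a := by
    intro p hp
    have h0 : p.parts.toFinset.Nonempty := by
      rw [Finset.nonempty_iff_ne_empty, Ne, Multiset.toFinset_eq_empty]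
      intro h
      have := p.parts_sum
      rw [h] at this
      simp at this
    refine ⟨p.parts.toFinset.min' h0, Multiset.mem_toFinset.mp (Finset.min'_mem _ h0), ?_,
      fun a ha => Finset.min'_le _ a (Multiset.mem_toFinset.mpr ha)⟩
    have hmem := Multiset.mem_toFinset.mp (Finset.min'_mem _ h0)
    have hpos := p.parts_pos hmem
    rcases Nat.lt_or_ge (p.parts.toFinset.min' h0) 2 with h | h
    · exfalso
      have h1 : p.parts.toFinset.min' h0 = 1 := by omega
      rw [h1] at hmem; exact hp hmem
    · exact h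
  have hex : ∀ p : Nat.Partition (n + 1), ∃ q : Bool × Nat.Partition n,
      (1 ∈ p.parts ∧ q.1 = true ∧ q.2.parts = p.parts.erase 1) ∨
      (1 ∉ p.parts ∧ q.1 = false ∧ ∃ m ∈ p.parts, 2 ≤ m ∧ (∀ a ∈ p.parts, m ≤ a) ∧
        q.2.parts = (m - 1) ::ₘ p.parts.erase m) := by
    intro p
    by_cases hp : 1 ∈ p.parts
    · refine ⟨(true, ⟨p.parts.erase 1, fun h => p.parts_pos (Multiset.mem_of_mem_erase h), ?_⟩),
        Or.inl ⟨hp, rfl, rfl⟩⟩
      have := p.parts_sum
      rw [← Multiset.cons_erase hp, Multiset.sum_cons] at this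
      omega
    · obtain ⟨m, hmem, h2, hmin⟩ := hm p hp
      refine ⟨(false, ⟨(m - 1) ::ₘ p.parts.erase m, fun h => ?_, ?_⟩),
        Or.inr ⟨hp, rfl, m, hmem, h2, hmin, rfl⟩⟩
      · rcases Multiset.mem_cons.mp h with h | h
        · omega
        · exact p.parts_pos (Multiset.mem_of_mem_erase h)
      · have := p.parts_sum
        rw [← Multiset.cons_erase hmem, Multiset.sum_cons] at this
        rw [Multiset.sum_cons]
        omega
  choose q hq using hex
  have hinj : Function.Injective q := by
    intro p p' he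
    apply Nat.Partition.ext
    rcases hq p with ⟨h1, hb, hp⟩ | ⟨h1, hb, m, hmem, h2, hmin, hp⟩ <;>
      rcases hq p' with ⟨h1', hb', hp'⟩ | ⟨h1', hb', m', hmem', h2', hmin', hp'⟩
    · rw [← Multiset.cons_erase h1, ← Multiset.cons_erase h1', ← hp, ← hp', he]
    · rw [he, hb'] at hb; simp at hb
    · rw [he, hb'] at hb; simp at hb
    · rw [he, hp'] at hp
      have hmm : m = m' := by
        have e1 : m - 1 ∈ (m' - 1) ::ₘ p'.parts.erase m' := by
          rw [hp]; exact Multiset.mem_cons_self _ _
        have e2 : m' - 1 ∈ (m - 1) ::ₘ p.parts.erase m := by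
          rw [← hp]; exact Multiset.mem_cons_self _ _
        rcases Multiset.mem_cons.mp e1 with e1 | e1
        · omega
        rcases Multiset.mem_cons.mp e2 with e2 | e2
        · omega
        have := hmin' _ (Multiset.mem_of_mem_erase e1)
        have := hmin _ (Multiset.mem_of_mem_erase e2)
        omega
      subst hmm
      rw [Multiset.cons_inj_right] at hp
      rw [← Multiset.cons_erase hmem, ← Multiset.cons_erase hmem', hp]
  have := Fintype.card_le_of_injective q hinj
  simpa [Fintype.card_prod] using this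

/-- Multiplicities of 2, 3, 4, 5 in a partition of 5. -/
private theorem card_partition_five : Fintype.card (Nat.Partition 5) ≤ 8 := by
  classical
  have hsum : ∀ p : Nat.Partition 5, p.parts.count 1 + p.parts.count 2 * 2 + p.parts.count 3 * 3 +
      p.parts.count 4 * 4 + p.parts.count 5 * 5 = 5 := by
    intro p
    have h := Finset.sum_multiset_count_of_subset p.parts ({1, 2, 3, 4, 5} : Finset ℕ) (by
      intro a ha
      have ha' := Multiset.mem_toFinset.mp ha
      have h1 := p.parts_pos ha'
      have h2 := Multiset.le_sum_of_mem ha'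
      rw [p.parts_sum] at h2
      simp only [Finset.mem_insert, Finset.mem_singleton]
      omega)
    rw [p.parts_sum] at h
    simp [Finset.sum_insert] at h
    omega
  let g : Nat.Partition 5 → Fin 3 × Fin 2 × Fin 2 × Fin 2 := fun p =>
    (⟨p.parts.count 2, by have := hsum p; omega⟩, ⟨p.parts.count 3, by have := hsum p; omega⟩,
      ⟨p.parts.count 4, by have := hsum p; omega⟩, ⟨p.parts.count 5, by have := hsum p; omega⟩)
  have hg : Set.MapsTo g (Finset.univ : Finset (Nat.Partition 5))
      ((Finset.univ : Finset (Fin 3 × Fin 2 × Fin 2 × Fin 2)).filter fun x =>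
        x.1.val * 2 + x.2.1.val * 3 + x.2.2.1.val * 4 + x.2.2.2.val * 5 ≤ 5) := by
    intro p _
    have := hsum p
    simp [g]
    omega
  have hinj : Set.InjOn g (Finset.univ : Finset (Nat.Partition 5)) := by
    intro p _ q _ h
    simp only [g, Prod.mk.injEq, Fin.mk.injEq] at h
    obtain ⟨e2, e3, e4, e5⟩ := h
    have hp := hsum p
    have hq := hsum q
    apply Nat.Partition.ext
    refine Multiset.ext.mpr fun a => ?_
    have hz : ∀ r : Nat.Partition 5, (a = 0 ∨ 5 < a) → r.parts.count a = 0 := by
      intro r ha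
      rw [Multiset.count_eq_zero]
      intro hmem
      have h1 := r.parts_pos hmem
      have h2 := Multiset.le_sum_of_mem hmem
      rw [r.parts_sum] at h2
      omega
    rcases (by omega : a = 1 ∨ a = 2 ∨ a = 3 ∨ a = 4 ∨ a = 5 ∨ (a = 0 ∨ 5 < a)) with
      rfl | rfl | rfl | rfl | rfl | ha
    · omega
    · exact e2
    · exact e3
    · exact e4
    · exact e5
    · rw [hz p ha, hz q ha]
  refine le_trans (Finset.card_le_card_of_injOn g hg hinj) ?_
  decide

private theorem card_partition_le (n : ℕ) :
    Fintype.card (Nat.Partition (n + 5)) ≤ 2 ^ (n + 3) := by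
  induction n with
  | zero => exact card_partition_five
  | succ k ih =>
    refine (card_partition_succ_le (k + 5)).trans ?_
    rw [show k + 1 + 3 = (k + 3) + 1 by ring, pow_succ, mul_comm _ 2]
    exact Nat.mul_le_mul_left 2 ih

private theorem classes_perm_le (n : ℕ) (hn : 5 ≤ n) :
    Nat.card (ConjClasses (Equiv.Perm (Fin n))) ≤ 2 ^ (n - 2) := by
  classical
  obtain ⟨k, rfl⟩ : ∃ k, n = k + 5 := ⟨n - 5, by omega⟩
  rw [show k + 5 - 2 = k + 3 by omega]
  refine le_trans ?_ (card_partition_le k)
  rw [Nat.card_eq_fintype_card]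
  let f : ConjClasses (Equiv.Perm (Fin (k + 5))) →
      Nat.Partition (Fintype.card (Fin (k + 5))) := fun c =>
    (Classical.choose (ConjClasses.exists_rep c)).partition
  have hf : Function.Injective f := by
    intro c d h
    rw [← Classical.choose_spec (ConjClasses.exists_rep c),
      ← Classical.choose_spec (ConjClasses.exists_rep d)]
    exact ConjClasses.mk_eq_mk_iff_isConj.mpr (Equiv.Perm.partition_eq_of_isConj.mpr h)
  refine (Fintype.card_le_of_injective f hf).trans (le_of_eq ?_)
  simp only [Fintype.card_fin]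

/-- For n ≥ 5 the alternating group of degree n has strictly fewer conjugacy classes than the symmetric group of degree n, and the symmetric group of degree n (whose classes correspond to the partitions of n) has at most 2^(n−2) conjugacy classes. -/
theorem result (n : ℕ) (hn : 5 ≤ n) : Nat.card (ConjClasses (alternatingGroup (Fin n))) < Nat.card (ConjClasses (Equiv.Perm (Fin n))) ∧ Nat.card (ConjClasses (Equiv.Perm (Fin n))) ≤ 2 ^ (n - 2) := by
  exact ⟨classes_alternating_lt n hn, classes_perm_le n hn⟩

end Cfsg.Agent.S4198
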