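import Cfsg.Statements.S4200
import Cfsg.Agent.Lib.H82.CommCount
open CfsgLib.CommCount82

set_option autoImplicit false
open Cfsg

namespace Cfsg.Agent.S4200

/-- Let Y be a subgroup of the finite group X, of index m. Then the numbers of conjugacy classes satisfy k(Y) ≤ m·k(X) and k(X) ≤ m·k(Y), and the second inequality is strict unless Y is normal in X. -/
theorem result {X : Type*} [Group X] [Finite X] (Y : Subgroup X) : Nat.card (ConjClasses Y) ≤ Y.index * Nat.card (ConjClasses X) ∧ Nat.card (ConjClasses X) ≤ Y.index * Nat.card (ConjClasses Y) ∧ (¬ Y.Normal → Nat.card (ConjClasses X) < Y.index * Nat.card (ConjClasses Y)) := by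
  classical
  haveI := Fintype.ofFinite X
  have hY : 0 < Nat.card Y := Nat.card_pos
  have hX : 0 < Nat.card X := Nat.card_pos
  have hm : 0 < Y.index := Nat.pos_of_ne_zero Subgroup.index_ne_zero_of_finite
  have hmY : Y.index * Nat.card Y = Nat.card X := by rw [mul_comm, Subgroup.card_mul_index]
  have hsX := card_comm X
  have hsY := card_comm Y
  rw [Finset.sum_congr rfl fun y _ => card_centralizer_subgroup Y y] at hsY
  have hmid := sum_inf_centralizer Y
  refine ⟨?_, ?_, ?_⟩
  · have h1 : Nat.card (ConjClasses Y) * Nat.card Y ≤ Nat.card (ConjClasses X) * Nat.card X := by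
      rw [← card_comm_eq_card_conjClasses_mul_card, ← card_comm_eq_card_conjClasses_mul_card]
      refine Nat.card_le_card_of_injective
        (fun q => ⟨(q.1.1.1, q.1.2.1), congrArg Subtype.val q.2⟩) fun a b hab => ?_
      obtain ⟨⟨⟨a1, ha1⟩, ⟨a2, ha2⟩⟩, ha3⟩ := a
      obtain ⟨⟨⟨b1, hb1⟩, ⟨b2, hb2⟩⟩, hb3⟩ := b
      have h0 := congrArg Subtype.val hab
      simp only [Prod.mk.injEq] at h0
      simp [h0]
    refine Nat.le_of_mul_le_mul_right (h1.trans_eq ?_) hY
    rw [← hmY]; ring
  · have h1 : ∑ y : Y, Nat.card (Subgroup.centralizer ({(y : X)} : Set X)) ≤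
        Y.index * ∑ y : Y, Nat.card (Y ⊓ Subgroup.centralizer ({(y : X)} : Set X) : Subgroup X) := by
      rw [Finset.mul_sum]
      exact Finset.sum_le_sum fun y _ => card_le_index_mul _ _
    have h2 : Nat.card (ConjClasses X) * Nat.card X ≤
        Y.index * ∑ y : Y, Nat.card (Subgroup.centralizer ({(y : X)} : Set X)) := by
      rw [hsX, ← hmid, Finset.mul_sum]
      exact Finset.sum_le_sum fun y _ => card_le_index_mul _ _
    refine Nat.le_of_mul_le_mul_right ((h2.trans (Nat.mul_le_mul_left _ h1)).trans_eq ?_) hX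
    rw [← hsY, ← hmY]; ring
  · intro hn
    obtain ⟨y0, hy0, g, hg⟩ : ∃ y ∈ Y, ∃ g : X, g * y * g⁻¹ ∉ Y := by
      by_contra h
      push Not at h
      exact hn ⟨fun y hy g => h y hy g⟩
    have h1 : ∑ y : Y, Nat.card (Subgroup.centralizer ({(y : X)} : Set X)) <
        Y.index * ∑ y : Y, Nat.card (Y ⊓ Subgroup.centralizer ({(y : X)} : Set X) : Subgroup X) := by
      rw [Finset.mul_sum]
      refine Finset.sum_lt_sum (fun y _ => card_le_index_mul _ _)
        ⟨⟨y0, hy0⟩, Finset.mem_univ _, ?_⟩
      set C := Subgroup.centralizer ({y0} : Set X) with hC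
      have hr : Y.relIndex C * Nat.card (Y ⊓ C : Subgroup X) = Nat.card C := by
        have h1 := Subgroup.relIndex_mul_relIndex ⊥ (Y ⊓ C) C bot_le inf_le_right
        rw [Subgroup.relIndex_bot_left, Subgroup.relIndex_bot_left, Subgroup.inf_relIndex_right] at h1
        rw [mul_comm]; exact h1
      have hlt : Y.relIndex C < Y.index := by
        let f : (C ⧸ Y.subgroupOf C) → X ⧸ Y :=
          Quotient.map' (fun c : C => (c : X)) (fun a b hab => by
            rw [QuotientGroup.leftRel_apply] at hab ⊢
            simpa [Subgroup.mem_subgroupOf] using hab)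
        have hinj : Function.Injective f := by
          intro a b
          refine Quotient.inductionOn₂' a b (fun a b hab => ?_)
          simp only [f, Quotient.map'_mk''] at hab
          rw [Quotient.eq'', QuotientGroup.leftRel_apply] at hab
          rw [Quotient.eq'', QuotientGroup.leftRel_apply, Subgroup.mem_subgroupOf]
          simpa using hab
        refine (Nat.card_le_card_of_injective f hinj).lt_of_ne fun he => ?_
        have hs := ((Nat.bijective_iff_injective_and_card f).2 ⟨hinj, he⟩).2
        obtain ⟨q, hq⟩ := hs (QuotientGroup.mk g⁻¹)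
        revert hq
        refine Quotient.inductionOn' q fun c hc => ?_
        have hz : (c : X)⁻¹ * g⁻¹ ∈ Y := QuotientGroup.eq.1 hc
        apply hg
        have hcc : (c : X) * y0 = y0 * c := Subgroup.mem_centralizer_singleton_iff.1 c.2
        have he : (c : X) * y0 * (c : X)⁻¹ = y0 := by rw [hcc, mul_inv_cancel_right]
        have : g * y0 * g⁻¹ = ((c : X)⁻¹ * g⁻¹)⁻¹ * y0 * ((c : X)⁻¹ * g⁻¹) := by
          nth_rewrite 1 [← he]
          group
        rw [this]
        exact Y.mul_mem (Y.mul_mem (Y.inv_mem hz) hy0) hz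
      calc Nat.card C = Y.relIndex C * Nat.card (Y ⊓ C : Subgroup X) := hr.symm
        _ < Y.index * Nat.card (Y ⊓ C : Subgroup X) := Nat.mul_lt_mul_of_pos_right hlt Nat.card_pos
    have h2 : Nat.card (ConjClasses X) * Nat.card X ≤
        Y.index * ∑ y : Y, Nat.card (Subgroup.centralizer ({(y : X)} : Set X)) := by
      rw [hsX, ← hmid, Finset.mul_sum]
      exact Finset.sum_le_sum fun y _ => card_le_index_mul _ _
    refine Nat.lt_of_mul_lt_mul_right
      ((h2.trans_lt ((Nat.mul_lt_mul_left hm).2 h1)).trans_eq (?_ :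
        _ = (Y.index * Nat.card (ConjClasses Y)) * Nat.card X))
    rw [← hsY, ← hmY]; ring

end Cfsg.Agent.S4200
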