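import Cfsg.Statements.S4203
import Cfsg.Agent.Lib.FewOrders.Prime

set_option autoImplicit false
open Cfsg
open scoped commutatorElement Pointwise

namespace Cfsg.Agent.S4203

universe u

private theorem solvable_aux : ∀ (n : ℕ) (G : Type u) [Group G] [Finite G], Nat.card G = n →
    (∀ M : Subgroup G, IsCoatom M → ∃ p : ℕ, p.Prime ∧ (M.index = p ∨ M.index = p ^ 2)) →
    Group.IsSolvable G := by
  intro n
  induction n using Nat.strong_induction_on with
  | _ n ih =>
  intro G _ _ hn h
  subst hn
  rcases subsingleton_or_nontrivial G with hG | hG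
  · infer_instance
  have hne : (Nat.card G).primeFactors.Nonempty := by
    rw [Nat.nonempty_primeFactors]
    exact Finite.one_lt_card
  set p := (Nat.card G).primeFactors.max' hne with hpdef
  have hpmem : p ∈ (Nat.card G).primeFactors := Finset.max'_mem _ hne
  have hp : p.Prime := Nat.prime_of_mem_primeFactors hpmem
  haveI := Fact.mk hp
  have hpd : p ∣ Nat.card G := Nat.dvd_of_mem_primeFactors hpmem
  have hmax : ∀ t : ℕ, t.Prime → t ∣ Nat.card G → t ≤ p := fun t ht htd =>
    Finset.le_max' _ t (Nat.mem_primeFactors.mpr ⟨ht, htd, Nat.card_pos.ne'⟩)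
  obtain ⟨P⟩ := (inferInstance : Nonempty (Sylow p G))
  by_cases hPn : (P : Subgroup G).Normal
  · have h1 : 1 < Nat.card (P : Subgroup G) :=
      (Subgroup.one_lt_card_iff_ne_bot _).mpr (P.ne_bot_of_dvd_card hpd)
    have hmul := (P : Subgroup G).card_mul_index
    have hpos : 0 < (P : Subgroup G).index := Nat.pos_of_ne_zero Subgroup.index_ne_zero_of_finite
    have hlt : Nat.card (G ⧸ (P : Subgroup G)) < Nat.card G := by
      rw [← Subgroup.index_eq_card]; nlinarith
    haveI : Group.IsSolvable (G ⧸ (P : Subgroup G)) := ih _ hlt _ rfl (fun M hM => by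
      obtain ⟨q, hq, hqi⟩ := h (M.comap (QuotientGroup.mk' (P : Subgroup G)))
        (Subgroup.isCoatom_comap_of_surjective (QuotientGroup.mk'_surjective _) hM)
      exact ⟨q, hq, by
        rwa [Subgroup.index_comap_of_surjective M (QuotientGroup.mk'_surjective _)] at hqi⟩)
    haveI : Group.IsNilpotent (P : Subgroup G) := P.isPGroup'.isNilpotent
    exact Group.isSolvable_of_ker_le_range (P : Subgroup G).subtype
      (QuotientGroup.mk' (P : Subgroup G)) (by
        rw [QuotientGroup.ker_mk', Subgroup.range_subtype])
  · set N := Subgroup.normalizer ((P : Subgroup G) : Set G) with hNdef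
    obtain hN | ⟨M, hM, hNM⟩ := eq_top_or_exists_le_coatom N
    · exact absurd (Subgroup.normalizer_eq_top_iff.mp hN) hPn
    obtain ⟨q, hq, hqi⟩ := h M hM
    have hPM : (P : Subgroup G) ≤ M := Subgroup.le_normalizer.trans hNM
    have e1 : N.index ≡ 1 [MOD p] := by
      have h5 : Nat.card (Sylow p G) = N.index := P.card_eq_index_normalizer
      rw [← h5]
      exact card_sylow_modEq_one p G
    have e2 : N.relIndex M ≡ 1 [MOD p] := by
      have : Nat.card (Sylow p M) =
          (Subgroup.normalizer (((P : Subgroup G).subgroupOf M) : Set M)).index :=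
        (P.subtype hPM).card_eq_index_normalizer
      rw [← Subgroup.subgroupOf_normalizer_eq hPM] at this
      rw [Subgroup.relIndex, hNdef, ← this]
      exact card_sylow_modEq_one p M
    have e3 : M.index ≡ 1 [MOD p] := by
      have := Subgroup.relIndex_mul_index hNM
      have e4 := e2.mul_right M.index
      rw [this, one_mul] at e4
      exact e4.symm.trans e1
    have hqd : q ∣ Nat.card G := by
      refine Dvd.dvd.trans ?_ M.index_dvd_card
      rcases hqi with h' | h' <;> rw [h']
      exact dvd_pow_self q two_ne_zero
    have hqp : q < p := by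
      rcases (hmax q hq hqd).lt_or_eq with h' | h'
      · exact h'
      · exfalso
        rw [← h'] at e3
        have h0 : M.index % q = 0 := by
          rcases hqi with h'' | h'' <;> rw [h'']
          · exact Nat.mod_self q
          · exact Nat.mod_eq_zero_of_dvd (dvd_pow_self q two_ne_zero)
        have h1 : M.index % q = 1 := by
          have e5 : M.index % q = 1 % q := e3
          rwa [Nat.mod_eq_of_lt hq.one_lt] at e5
        omega
    rcases hqi with h' | h'
    · exfalso
      rw [h'] at e3
      have h1 : q = 1 := by
        have e5 : q % p = 1 % p := e3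
        rwa [Nat.mod_eq_of_lt hqp, Nat.mod_eq_of_lt hp.one_lt] at e5
      exact hq.ne_one h1
    · rw [h'] at e3
      have h2 := hq.two_le
      have hd : p ∣ (q - 1) * (q + 1) := by
        have hz : (q - 1) * (q + 1) = q ^ 2 - 1 := by
          rw [mul_comm, ← Nat.sq_sub_sq, one_pow]
        rw [hz]
        exact (Nat.modEq_iff_dvd' (Nat.one_le_pow 2 q hq.pos)).mp e3.symm
      have hpq : p = q + 1 := by
        rcases hp.dvd_mul.mp hd with h1 | h1
        · exact absurd (Nat.le_of_dvd (by omega) h1) (by omega)
        · have := Nat.le_of_dvd (by omega) h1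
          omega
      have hq2 : q = 2 := by
        rcases hq.eq_two_or_odd with h1 | h1
        · exact h1
        · exfalso
          rcases hp.eq_two_or_odd with h3 | h3 <;> omega
      subst hq2
      refine CfsgLib.FewOrders.isSolvable_of_two_primes (p := 2) (q := 3)
        Nat.prime_two Nat.prime_three fun t ht htd => ?_
      have hle := hmax t ht htd
      have := ht.two_le
      omega

/-- A finite group in which every maximal subgroup has index a prime or the square of a prime is solvable. -/
theorem result {G : Type*} [Group G] [Finite G] (h : ∀ M : Subgroup G, IsCoatom M → ∃ p : ℕ, p.Prime ∧ (M.index = p ∨ M.index = p ^ 2)) : Group.IsSolvable G := by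
  exact solvable_aux _ G rfl h

end Cfsg.Agent.S4203
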