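import Cfsg.Statements.S4204


set_option autoImplicit false
open Cfsg

namespace Cfsg.Agent.S4204

/-- If `H` and `K` are normal subgroups of a finite group with `H` nilpotent of class at most `c` and `K` nilpotent of class at most `d` (the terms with index `c`, respectively `d`, of their lower central series are trivial, indices starting at `0`), then `HK` is nilpotent of class at most `c + d`. -/
theorem result {G : Type*} [Group G] [Finite G] (H K : Subgroup G) [H.Normal] [K.Normal] (c d : ℕ) (hH : H.lowerCentralSeries c = ⊥) (hK : K.lowerCentralSeries d = ⊥) : (H ⊔ K).lowerCentralSeries (c + d) = ⊥ := by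
  -- `Hs i` is the group itself for `i = 0` and the `i`-th term (counted from 1) afterwards
  let Hs : ℕ → Subgroup G := fun i => match i with
    | 0 => ⊤
    | i + 1 => H.lowerCentralSeries i
  let Ks : ℕ → Subgroup G := fun i => match i with
    | 0 => ⊤
    | i + 1 => K.lowerCentralSeries i
  have nH : ∀ (L : Subgroup G) [L.Normal] (i : ℕ), (L.lowerCentralSeries i).Normal := by
    intro L _ i
    induction i with
    | zero => simpa
    | succ i ih => rw [Subgroup.lowerCentralSeries_succ]; infer_instance
  have hHn : ∀ i, (Hs i).Normal := fun i => by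
    cases i with
    | zero => exact inferInstanceAs (⊤ : Subgroup G).Normal
    | succ i => exact nH H i
  have hKn : ∀ i, (Ks i).Normal := fun i => by
    cases i with
    | zero => exact inferInstanceAs (⊤ : Subgroup G).Normal
    | succ i => exact nH K i
  have hH1 : ∀ i, ⁅Hs i, H⁆ ≤ Hs (i + 1) := fun i => by
    cases i with
    | zero => exact Subgroup.commutator_le_right _ _
    | succ i => exact le_rfl
  have hK1 : ∀ i, ⁅Ks i, K⁆ ≤ Ks (i + 1) := fun i => by
    cases i with
    | zero => exact Subgroup.commutator_le_right _ _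
    | succ i => exact le_rfl
  let T : ℕ → Subgroup G := fun n => ⨆ (i : ℕ) (j : ℕ) (_ : i + j = n), Hs i ⊓ Ks j
  have hle : ∀ i j, Hs i ⊓ Ks j ≤ T (i + j) := fun i j =>
    le_iSup_of_le i (le_iSup_of_le j (le_iSup_of_le rfl le_rfl))
  have hTn : ∀ n, (T n).Normal := fun n => by
    haveI := hHn
    haveI := hKn
    exact inferInstance
  have hstep : ∀ i j, ⁅Hs i ⊓ Ks j, H⁆ ≤ T (i + j + 1) ∧ ⁅Hs i ⊓ Ks j, K⁆ ≤ T (i + j + 1) := by
    intro i j
    haveI := hHn i
    haveI := hKn j
    constructor
    · refine le_trans (le_inf ((Subgroup.commutator_mono inf_le_left le_rfl).trans (hH1 i))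
        ((Subgroup.commutator_le_left _ _).trans inf_le_right)) ((hle (i + 1) j).trans (le_of_eq ?_))
      congr 1; omega
    · refine le_trans (le_inf ((Subgroup.commutator_le_left _ _).trans inf_le_left)
        ((Subgroup.commutator_mono inf_le_right le_rfl).trans (hK1 j))) ((hle i (j + 1)).trans
          (le_of_eq ?_))
      congr 1
  -- commutation with the join
  have hjoin : ∀ n, ⁅T n, H ⊔ K⁆ ≤ T (n + 1) := by
    intro n
    haveI := hTn (n + 1)
    rw [← QuotientGroup.ker_mk' (T (n + 1)), ← Subgroup.map_eq_bot_iff, Subgroup.map_commutator,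
      Subgroup.map_sup, Subgroup.commutator_eq_bot_iff_le_centralizer, Subgroup.map_iSup, iSup_le_iff]
    intro i
    rw [Subgroup.map_iSup, iSup_le_iff]
    intro j
    rw [Subgroup.map_iSup, iSup_le_iff]
    rintro rfl
    have key : ∀ L : Subgroup G, ⁅Hs i ⊓ Ks j, L⁆ ≤ T (i + j + 1) →
        (Hs i ⊓ Ks j).map (QuotientGroup.mk' (T (i + j + 1))) ≤
          Subgroup.centralizer ((L.map (QuotientGroup.mk' (T (i + j + 1))) : Subgroup _) : Set _) := by
      intro L hL
      rwa [← Subgroup.commutator_eq_bot_iff_le_centralizer, ← Subgroup.map_commutator,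
        Subgroup.map_eq_bot_iff, QuotientGroup.ker_mk']
    rw [Subgroup.le_centralizer_iff, sup_le_iff]
    exact ⟨Subgroup.le_centralizer_iff.1 (key H (hstep i j).1),
      Subgroup.le_centralizer_iff.1 (key K (hstep i j).2)⟩
  have hmain : ∀ n, (H ⊔ K).lowerCentralSeries n ≤ T (n + 1) := by
    intro n
    induction n with
    | zero =>
      refine sup_le ?_ ?_
      · exact le_trans (le_inf le_rfl le_top) (hle 1 0)
      · exact le_trans (le_inf le_top le_rfl) (hle 0 1)
    | succ n ih =>
      rw [Subgroup.lowerCentralSeries_succ]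
      exact (Subgroup.commutator_mono ih le_rfl).trans (hjoin (n + 1))
  refine le_bot_iff.1 ((hmain (c + d)).trans ?_)
  refine iSup_le fun i => iSup_le fun j => iSup_le fun hij => ?_
  rcases Nat.lt_or_ge c i with hi | hi
  · obtain ⟨i', rfl⟩ : ∃ i', i = i' + 1 := ⟨i - 1, by omega⟩
    exact inf_le_left.trans (le_of_le_of_eq (H.lowerCentralSeries_antitone (by omega)) hH)
  · obtain ⟨j', rfl⟩ : ∃ j', j = j' + 1 := ⟨j - 1, by omega⟩
    exact inf_le_right.trans (le_of_le_of_eq (K.lowerCentralSeries_antitone (by omega)) hK)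

end Cfsg.Agent.S4204
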