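import Cfsg.Statements.S4216
import Cfsg.Agent.Lib.H82.TransferFix
open CfsgLib.TransferFix82
open scoped commutatorElement

set_option autoImplicit false
open Cfsg

namespace Cfsg.Agent.S4216

/-- Grün's first Theorem: if `P` is a Sylow `p`-subgroup of the finite group `G`, then `P ∩ G'` is the subgroup generated by `P ∩ N_G(P)'` together with the subgroups `P ∩ z P' z⁻¹` for all `z ∈ G`, where `'` denotes the derived subgroup and `N_G(P)` the normalizer of `P`. -/
theorem result {G : Type*} [Group G] [Finite G] {p : ℕ} [Fact p.Prime] (P : Sylow p G) : (P : Subgroup G) ⊓ commutator G = ((P : Subgroup G) ⊓ ⁅Subgroup.normalizer ((P : Subgroup G) : Set G), Subgroup.normalizer ((P : Subgroup G) : Set G)⁆) ⊔ ⨆ z : G, (P : Subgroup G) ⊓ (⁅(P : Subgroup G), (P : Subgroup G)⁆).map (MulAut.conj z).toMonoidHom := by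
  classical
  have hp : p.Prime := Fact.out
  obtain ⟨T, hT⟩ : ∃ T : Subgroup G, T =
      ((P : Subgroup G) ⊓ ⁅Subgroup.normalizer ((P : Subgroup G) : Set G),
          Subgroup.normalizer ((P : Subgroup G) : Set G)⁆) ⊔
        ⨆ z : G, (P : Subgroup G) ⊓
          (⁅(P : Subgroup G), (P : Subgroup G)⁆).map (MulAut.conj z).toMonoidHom := ⟨_, rfl⟩
  rw [← hT]
  refine le_antisymm ?_ ?_
  swap
  · rw [hT]
    refine sup_le (inf_le_inf_left _ (Subgroup.commutator_mono le_top le_top))
      (iSup_le fun z => inf_le_inf_left _ ?_)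
    refine (Subgroup.map_mono (Subgroup.commutator_mono le_top le_top)).trans ?_
    rw [← commutator_def]
    exact Subgroup.map_le_iff_le_comap.2 fun x hx =>
      Subgroup.Normal.conj_mem inferInstance x hx z
  have hTP : ⁅(P : Subgroup G), (P : Subgroup G)⁆ ≤ T := by
    rw [hT]
    exact le_trans (le_inf (Subgroup.commutator_le_self _)
      (Subgroup.commutator_mono Subgroup.le_normalizer Subgroup.le_normalizer)) le_sup_left
  obtain ⟨T', hT'⟩ : ∃ T' : Subgroup (P : Subgroup G), T' = T.subgroupOf (P : Subgroup G) :=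
    ⟨_, rfl⟩
  have hcomm : commutator (P : Subgroup G) ≤ T' := by
    rw [hT', Subgroup.subgroupOf, ← Subgroup.map_le_iff_le_comap, Subgroup.map_subtype_commutator]
    exact hTP
  haveI hT'n : T'.Normal := ⟨fun n hn g => by
    rw [show g * n * g⁻¹ = ⁅g, n⁆ * n by rw [commutatorElement_def]; group]
    exact T'.mul_mem (hcomm (Subgroup.commutator_mem_commutator (Subgroup.mem_top _)
      (Subgroup.mem_top _))) hn⟩
  letI : CommGroup ((P : Subgroup G) ⧸ T') :=
    { (inferInstance : Group ((P : Subgroup G) ⧸ T')) with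
      mul_comm := fun a b => by
        induction a using QuotientGroup.induction_on with
        | H x =>
          induction b using QuotientGroup.induction_on with
          | H y =>
            refine QuotientGroup.eq.2 (hcomm ?_)
            rw [show (x * y)⁻¹ * (y * x) = ⁅y⁻¹, x⁻¹⁆ by rw [commutatorElement_def]; group]
            exact Subgroup.commutator_mem_commutator (Subgroup.mem_top _) (Subgroup.mem_top _) }
  obtain ⟨φ, hφdef⟩ : ∃ φ : (P : Subgroup G) →* (P : Subgroup G) ⧸ T',
      φ = QuotientGroup.mk' T' := ⟨_, rfl⟩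
  have hφ : ∀ y : (P : Subgroup G), φ y = 1 ↔ (y : G) ∈ T := fun y => by
    rw [hφdef, QuotientGroup.mk'_apply, QuotientGroup.eq_one_iff, hT', Subgroup.mem_subgroupOf]
  by_contra hcon
  have hex : ∃ m, ∃ u ∈ (P : Subgroup G) ⊓ commutator G, u ∉ T ∧ orderOf u = m := by
    obtain ⟨u, hu, hu'⟩ := SetLike.not_le_iff_exists.1 hcon
    exact ⟨_, u, hu, hu', rfl⟩
  obtain ⟨u, ⟨huP, huc⟩, huT, hum⟩ := Nat.find_spec hex
  have hsmall : ∀ y ∈ (P : Subgroup G) ⊓ commutator G, orderOf y < orderOf u → y ∈ T := by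
    intro y hy hlt
    by_contra hyT
    exact Nat.find_min hex (hum ▸ hlt) ⟨y, hy, hyT, rfl⟩
  have hconjc : ∀ g : G, ∀ y ∈ commutator G, g⁻¹ * y * g ∈ commutator G := fun g y hy => by
    simpa using Subgroup.Normal.conj_mem (inferInstance : (commutator G).Normal) y hy g⁻¹
  haveI := Fintype.ofFinite (G ⧸ (P : Subgroup G))
  have hV : MonoidHom.transfer φ u = 1 :=
    MonoidHom.mem_ker.1 (Abelianization.commutator_subset_ker (MonoidHom.transfer φ) huc)
  rw [transfer_eq_prod_fixVal φ u] at hV
  swap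
  · intro r g h hr hdvd
    rw [hφ]
    refine hsmall _ ⟨h, hconjc g _ ((commutator G).pow_mem huc r)⟩ ?_
    have h1 : orderOf (g⁻¹ * u ^ r * g) = orderOf (u ^ r) :=
      orderOf_injective (MulAut.conj g⁻¹).toMonoidHom (MulAut.conj g⁻¹).injective (u ^ r) ▸ by
        simp [MulAut.conj_apply]
    rw [h1, orderOf_pow_of_dvd (by omega) hdvd]
    exact Nat.div_lt_self (orderOf_pos u) hr
  rw [← Finset.prod_filter_mul_prod_filter_not (Finset.univ : Finset (G ⧸ (P : Subgroup G)))
    (fun q => q ∈ MulAction.fixedPoints (P : Subgroup G) (G ⧸ (P : Subgroup G)))] at hV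
  -- cosets fixed by `P`
  have h1 : ∀ q ∈ MulAction.fixedPoints (P : Subgroup G) (G ⧸ (P : Subgroup G)),
      fixVal φ u q = φ ⟨u, huP⟩ := by
    intro q hq
    induction q using QuotientGroup.induction_on with
    | H x =>
      have hxP : ∀ y ∈ (P : Subgroup G), x⁻¹ * y * x ∈ (P : Subgroup G) :=
        fun y hy => conj_mem_of_smul_eq (hq ⟨y, hy⟩)
      have hxN : x⁻¹ ∈ Subgroup.normalizer ((P : Subgroup G) : Set G) := by
        rw [Subgroup.mem_normalizer_iff_map_conj_eq]
        refine Subgroup.eq_of_le_of_card_ge ?_ (le_of_eq ?_)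
        · rintro _ ⟨y, hy, rfl⟩
          simpa [MulAut.conj_apply] using hxP y hy
        · exact Nat.card_congr
            ((P : Subgroup G).equivMapOfInjective _ (MulAut.conj x⁻¹).injective).toEquiv
      rw [fixVal_mk φ u x (hxP u huP), eq_comm, ← inv_mul_eq_one, ← map_inv, ← map_mul, hφ]
      simp only [Subgroup.coe_mul, Subgroup.coe_inv]
      rw [hT]
      refine Subgroup.mem_sup_left ⟨(P : Subgroup G).mul_mem ((P : Subgroup G).inv_mem huP)
        (hxP u huP), ?_⟩
      rw [show u⁻¹ * (x⁻¹ * u * x) = ⁅u⁻¹, x⁻¹⁆ by rw [commutatorElement_def]; group]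
      exact Subgroup.commutator_mem_commutator (Subgroup.inv_mem _ (Subgroup.le_normalizer huP)) hxN
  -- the other orbits of `P`
  have h2 : ∏ q ∈ Finset.univ.filter
      (fun q => q ∉ MulAction.fixedPoints (P : Subgroup G) (G ⧸ (P : Subgroup G))),
      fixVal φ u q = 1 := by
    haveI := Fintype.ofFinite
      (Quotient (MulAction.orbitRel (P : Subgroup G) (G ⧸ (P : Subgroup G))))
    rw [← Finset.prod_fiberwise _ (fun x => (Quotient.mk'' x :
      Quotient (MulAction.orbitRel (P : Subgroup G) (G ⧸ (P : Subgroup G)))))]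
    refine Finset.prod_eq_one fun o _ => ?_
    obtain ⟨S, hS⟩ : ∃ S, S = (Finset.univ.filter
        (fun q => q ∉ MulAction.fixedPoints (P : Subgroup G) (G ⧸ (P : Subgroup G)))).filter
        (fun x => (Quotient.mk'' x :
          Quotient (MulAction.orbitRel (P : Subgroup G) (G ⧸ (P : Subgroup G)))) = o) := ⟨_, rfl⟩
    rw [← hS, ← Finset.prod_filter_mul_prod_filter_not S (fun q => u • q = q),
      Finset.prod_eq_one (s := S.filter fun q => ¬ u • q = q) fun q hq =>
        fixVal_of_not_fixed φ (Finset.mem_filter.1 hq).2, mul_one]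
    rcases (S.filter fun q => u • q = q).eq_empty_or_nonempty with he | ⟨x0, hx0⟩
    · rw [he, Finset.prod_empty]
    obtain ⟨hx0S, hx0u⟩ := Finset.mem_filter.1 hx0
    have hx0' : x0 ∉ MulAction.fixedPoints (P : Subgroup G) (G ⧸ (P : Subgroup G)) ∧
        (Quotient.mk'' x0 : Quotient (MulAction.orbitRel (P : Subgroup G) (G ⧸ (P : Subgroup G))))
          = o := by
      rw [hS] at hx0S; simpa using hx0S
    have hmemS : ∀ y, y ∈ S ↔ y ∈ MulAction.orbit (P : Subgroup G) x0 := by
      intro y
      rw [hS]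
      simp only [Finset.mem_filter, Finset.mem_univ, true_and]
      constructor
      · intro hy
        exact Quotient.exact' (hy.2.trans hx0'.2.symm)
      · intro hy
        refine ⟨fun hyf => hx0'.1 ?_, (Quotient.sound' hy).trans hx0'.2⟩
        obtain ⟨g, hg⟩ := hy
        change g • x0 = y at hg
        rw [inv_smul_smul g x0 |>.symm, hg, hyf g⁻¹]
        exact hyf
    -- all fixed points in the orbit have the same value
    have hval : ∀ y ∈ S.filter (fun q => u • q = q), fixVal φ u y = fixVal φ u x0 := by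
      intro y hy
      obtain ⟨hyS, hyu⟩ := Finset.mem_filter.1 hy
      obtain ⟨g, rfl⟩ := (hmemS y).1 hyS
      induction x0 using QuotientGroup.induction_on with
      | H x =>
        have hux : x⁻¹ * u * x ∈ (P : Subgroup G) := conj_mem_of_smul_eq hx0u
        have hugx : ((g : G) * x)⁻¹ * u * ((g : G) * x) ∈ (P : Subgroup G) :=
          conj_mem_of_smul_eq hyu
        change fixVal φ u (((g : G) * x : G) : G ⧸ (P : Subgroup G)) = _
        rw [fixVal_mk φ u _ hux, fixVal_mk φ u _ hugx, eq_comm, ← inv_mul_eq_one, ← map_inv,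
          ← map_mul, hφ]
        simp only [Subgroup.coe_mul, Subgroup.coe_inv]
        rw [hT]
        refine Subgroup.mem_sup_right (Subgroup.mem_iSup_of_mem x⁻¹
          ⟨(P : Subgroup G).mul_mem ((P : Subgroup G).inv_mem hux) hugx, ?_⟩)
        refine ⟨⁅u⁻¹, (g : G)⁻¹⁆, Subgroup.commutator_mem_commutator
          ((P : Subgroup G).inv_mem huP) ((P : Subgroup G).inv_mem g.2), ?_⟩
        simp only [commutatorElement_def, MulEquiv.toMonoidHom_eq_coe, MonoidHom.coe_coe,
          MulAut.conj_apply, inv_inv, mul_inv_rev]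
        group
    rw [Finset.prod_congr rfl hval, Finset.prod_const]
    -- their number is a multiple of `p`
    have hdvd : p ∣ (S.filter fun q => u • q = q).card := by
      have hpg : IsPGroup p (Subgroup.zpowers (⟨u, huP⟩ : (P : Subgroup G))) := P.isPGroup'.to_subgroup _
      have hmod := hpg.card_modEq_card_fixedPoints (MulAction.orbit (P : Subgroup G) x0)
      have hc : Nat.card (MulAction.fixedPoints (Subgroup.zpowers (⟨u, huP⟩ : (P : Subgroup G)))
          (MulAction.orbit (P : Subgroup G) x0)) = (S.filter fun q => u • q = q).card := by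
        rw [← Nat.card_eq_finsetCard]
        refine Nat.card_congr
          { toFun := fun z => ⟨(z.1 : G ⧸ (P : Subgroup G)),
              Finset.mem_filter.2 ⟨(hmemS _).2 z.1.2, ?_⟩⟩
            invFun := fun z => ⟨⟨z.1, (hmemS _).1 (Finset.mem_filter.1 z.2).1⟩, ?_⟩
            left_inv := fun z => rfl
            right_inv := fun z => rfl }
        · have h3 := congrArg Subtype.val (z.2 ⟨⟨u, huP⟩, Subgroup.mem_zpowers _⟩)
          exact h3
        · rintro ⟨v, k, rfl⟩
          change (⟨u, huP⟩ : (P : Subgroup G)) ^ k •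
            (⟨z.1, (hmemS _).1 (Finset.mem_filter.1 z.2).1⟩ :
              MulAction.orbit (P : Subgroup G) x0) = _
          refine MulAction.mem_stabilizer_iff.1 (Subgroup.zpow_mem
            (MulAction.stabilizer (P : Subgroup G) _) ?_ k)
          refine MulAction.mem_stabilizer_iff.2 (Subtype.ext ?_)
          exact (Finset.mem_filter.1 z.2).2
      rw [← hc]
      obtain ⟨k, hk⟩ := P.isPGroup'.card_orbit x0
      have hk0 : k ≠ 0 := by
        rintro rfl
        rw [pow_zero, Nat.card_eq_one_iff_unique] at hk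
        haveI := hk.1
        apply hx0'.1
        intro g
        exact congrArg Subtype.val (Subsingleton.elim
          (⟨g • x0, MulAction.mem_orbit x0 g⟩ : MulAction.orbit (P : Subgroup G) x0)
          ⟨x0, MulAction.mem_orbit_self x0⟩)
      rw [hk] at hmod
      exact (Nat.modEq_zero_iff_dvd).1 (hmod.symm.trans
        ((Nat.modEq_zero_iff_dvd).2 (dvd_pow_self p hk0)))
    obtain ⟨m, hm⟩ := hdvd
    rw [hm, pow_mul]
    suffices hap : fixVal φ u x0 ^ p = 1 by rw [hap, one_pow]
    induction x0 using QuotientGroup.induction_on with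
    | H x =>
      have hux : x⁻¹ * u * x ∈ (P : Subgroup G) := conj_mem_of_smul_eq hx0u
      rw [fixVal_mk φ u x hux, ← map_pow, hφ, Subgroup.coe_pow]
      refine hsmall _ ⟨(P : Subgroup G).pow_mem hux p,
        (commutator G).pow_mem (hconjc x u huc) p⟩ ?_
      have h3 : orderOf (x⁻¹ * u * x) = orderOf u :=
        orderOf_injective (MulAut.conj x⁻¹).toMonoidHom (MulAut.conj x⁻¹).injective u ▸ by
          simp [MulAut.conj_apply]
      obtain ⟨k, hk⟩ : ∃ k, orderOf u = p ^ k := by
        obtain ⟨k, hk⟩ := IsPGroup.iff_orderOf.1 P.isPGroup' ⟨u, huP⟩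
        exact ⟨k, by rw [← Subgroup.orderOf_mk u huP, hk]⟩
      have hk0 : k ≠ 0 := by
        rintro rfl
        rw [pow_zero, orderOf_eq_one_iff] at hk
        exact huT (hk ▸ T.one_mem)
      rw [orderOf_pow_of_dvd hp.ne_zero (h3 ▸ hk ▸ dvd_pow_self p hk0), h3]
      exact Nat.div_lt_self (orderOf_pos u) hp.one_lt
  rw [h2, mul_one, Finset.prod_congr rfl fun q hq => h1 q (Finset.mem_filter.1 hq).2,
    Finset.prod_const] at hV
  have hcop : Nat.Coprime (Finset.univ.filter (fun q : G ⧸ (P : Subgroup G) =>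
      q ∈ MulAction.fixedPoints (P : Subgroup G) (G ⧸ (P : Subgroup G)))).card p := by
    rw [Nat.coprime_comm, hp.coprime_iff_not_dvd]
    intro hd
    have hmod := P.isPGroup'.card_modEq_card_fixedPoints (G ⧸ (P : Subgroup G))
    rw [← Fintype.card_subtype, ← Nat.card_eq_fintype_card] at hd
    exact P.not_dvd_index (Nat.modEq_zero_iff_dvd.1
      (hmod.trans (Nat.modEq_zero_iff_dvd.2 hd)))
  obtain ⟨k, hk⟩ := IsPGroup.iff_orderOf.1 P.isPGroup' (⟨u, huP⟩ : (P : Subgroup G))
  have h4 : orderOf (φ ⟨u, huP⟩) ∣ p ^ k := hk ▸ orderOf_map_dvd φ _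
  have h5 := orderOf_dvd_of_pow_eq_one hV
  exact huT ((hφ _).1 (orderOf_eq_one_iff.1
    (Nat.eq_one_of_dvd_coprimes (hcop.pow_right k) h5 h4)))

end Cfsg.Agent.S4216
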