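import Cfsg.Statements.S4221
import Cfsg.Agent.Lib.LivWag.HallFour

set_option autoImplicit false
open Cfsg

namespace Cfsg.Agent.S4221

/-- Let `G` be a `4`-fold transitive permutation group on a finite set of `n` points in which the pointwise stabilizer of some four distinct points has odd order. Then `n = 4` or `n = 5` with `G` the full symmetric group, or `n = 6` or `n = 7` with `G` the alternating group, or `n = 11` and `G` has order `7920`. -/
theorem result {α : Type*} [Fintype α] [DecidableEq α] (G : Subgroup (Equiv.Perm α)) (hG : MulAction.IsMultiplyPretransitive G α 4) (x : Fin 4 ↪ α) (hodd : Odd (Nat.card (MulAction.stabilizer G x))) : ((Fintype.card α = 4 ∨ Fintype.card α = 5) ∧ G = ⊤) ∨ ((Fintype.card α = 6 ∨ Fintype.card α = 7) ∧ G = alternatingGroup α) ∨ (Fintype.card α = 11 ∧ Nat.card G = 7920) := by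
  classical
  have hn4 : 4 ≤ Fintype.card α := by simpa using Fintype.card_le_of_embedding x
  have hS₀ : (Finset.univ.map x).card = 4 := by simp
  have hfix : Nat.card (CfsgLib.LivWag.fixer G (Finset.univ.map x)) =
      Nat.card (MulAction.stabilizer G x) :=
    Nat.card_congr
      { toFun := fun g => ⟨⟨g, g.2.1⟩, by
          refine MulAction.mem_stabilizer_iff.mpr (Function.Embedding.ext fun i => ?_)
          exact g.2.2 (x i) (Finset.mem_map_of_mem _ (Finset.mem_univ i))⟩
        invFun := fun g => ⟨(g.1 : Equiv.Perm α), g.1.2, fun y hy => by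
          obtain ⟨i, -, rfl⟩ := Finset.mem_map.mp hy
          have h := DFunLike.congr_fun (MulAction.mem_stabilizer_iff.mp g.2) i
          exact h⟩
        left_inv := fun g => rfl
        right_inv := fun g => rfl }
  have hodd' : Odd (Nat.card (CfsgLib.LivWag.fixer G (Finset.univ.map x))) := by
    rw [hfix]; exact hodd
  have hall := CfsgLib.LivWag.Hall.odd_of_four hG hn4 hS₀ hodd'
  have hcard := CfsgLib.LivWag.card_eq_descFactorial_mul hG hn4 (Finset.univ.map x) hS₀.le
  rw [hS₀] at hcard
  have hidx := G.index_mul_card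
  rw [Nat.card_perm, Nat.card_eq_fintype_card (α := α)] at hidx
  rcases Nat.lt_or_ge (Fintype.card α) 6 with h6 | h6
  · refine Or.inl ⟨by omega, Equiv.Perm.eq_top_of_isMultiplyPretransitive ?_⟩
    rw [Nat.card_eq_fintype_card]
    exact MulAction.isMultiplyPretransitive_of_le (n := 4) (by omega)
      (by rw [Nat.card_eq_fintype_card]; omega)
  rcases Nat.even_or_odd (Fintype.card α) with he | ho
  · have h := CfsgLib.LivWag.Hall.even_degree_le hG hall he
    have hn : Fintype.card α = 6 := by omega
    refine Or.inr (Or.inl ⟨Or.inl hn, Equiv.Perm.eq_alternatingGroup_of_index_eq_two ?_⟩)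
    rw [hn] at hcard hidx
    norm_num [Nat.descFactorial, Nat.factorial, -Nat.card_eq_fintype_card] at hcard hidx
    rw [hcard] at hidx
    obtain ⟨q, hq⟩ := hodd'
    rw [hq] at hidx
    have h2 : G.index * (2 * q + 1) = 2 := Nat.eq_of_mul_eq_mul_left (show 0 < 360 by norm_num)
      (by rw [← mul_assoc, mul_comm 360, mul_assoc]; exact hidx.trans (by norm_num))
    have : 2 * q + 1 ≤ 2 := Nat.le_of_dvd two_pos (Dvd.intro_left _ h2)
    have hq0 : q = 0 := by omega
    simpa [hq0] using h2
  · have hn7 : 7 ≤ Fintype.card α := by rcases ho with ⟨q, hq⟩; omega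
    rcases CfsgLib.LivWag.Hall.odd_degree hG hn7 hall ho with ⟨hn, hc⟩ | ⟨hn, hc⟩
    · refine Or.inr (Or.inl ⟨Or.inr hn, Equiv.Perm.eq_alternatingGroup_of_index_eq_two ?_⟩)
      rw [hn, hc] at hidx
      norm_num [Nat.factorial] at hidx
      omega
    · exact Or.inr (Or.inr ⟨hn, hc⟩)

end Cfsg.Agent.S4221
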