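import Cfsg.Statements.S4222


set_option autoImplicit false
open Cfsg

namespace Cfsg.Agent.S4222

/-- If a normal subgroup `N` of a finite group is complete (its centre is trivial and every automorphism of `N` is inner), then the group is the internal direct product of `N` and the centralizer of `N`: the centralizer is a complement to `N`. -/
theorem result {T : Type*} [Group T] [Finite T] (N : Subgroup T) [N.Normal] (hz : Subgroup.center ↥N = ⊥) (ha : Function.Surjective (MulAut.conj : ↥N →* MulAut ↥N)) : (Subgroup.centralizer (N : Set T)).IsComplement' N := by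
  set C := Subgroup.centralizer (N : Set T) with hC
  have hdisj : Disjoint C N := by
    rw [Subgroup.disjoint_def]
    intro x hxC hxN
    have h1 : (⟨x, hxN⟩ : N) ∈ Subgroup.center ↥N := by
      rw [Subgroup.mem_center_iff]
      intro y
      exact Subtype.ext (Subgroup.mem_centralizer_iff.1 hxC y y.2)
    rw [hz, Subgroup.mem_bot] at h1
    exact congrArg Subtype.val h1
  refine Subgroup.isComplement'_of_disjoint_and_mul_eq_univ hdisj (Set.eq_univ_of_forall fun x => ?_)
  obtain ⟨n, hn⟩ := ha (MulAut.conjNormal x)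
  refine ⟨x * (n : T)⁻¹, ?_, n, n.2, by simp⟩
  show x * (n : T)⁻¹ ∈ C
  rw [hC, Subgroup.mem_centralizer_iff]
  intro y hy
  have h1 : ((MulAut.conjNormal x ((n⁻¹ : N) * ⟨y, hy⟩ * n) : N) : T) = y := by
    rw [← hn]; simp [MulAut.conj_apply, mul_assoc]
  rw [MulAut.conjNormal_apply] at h1
  simp only [Subgroup.coe_mul, Subgroup.coe_inv] at h1
  calc y * (x * (n : T)⁻¹) = (x * ((n : T)⁻¹ * y * n) * x⁻¹) * (x * (n : T)⁻¹) := by rw [h1]
    _ = x * (n : T)⁻¹ * y := by group

end Cfsg.Agent.S4222
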