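import Cfsg.Statements.S4226
import Cfsg.Agent.Lib.H82.HallWielandt
open scoped commutatorElement

set_option autoImplicit false
open Cfsg

namespace Cfsg.Agent.S4226

/-- Let `P` be a Sylow `p`-subgroup of the finite group `G` with nilpotency class less than `p` (the term of index `p - 1` of the lower central series of `P`, indexed from `0`, is trivial), and let `N` be its normalizer. Then `O^p(N) = O^p(G) ∩ N`, where `O^p` denotes the subgroup generated by the elements of order prime to `p`; so the largest `p`-factor groups of `G` and of `N` are isomorphic. -/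
theorem result {G : Type*} [Group G] [Finite G] {p : ℕ} [Fact p.Prime] (P : Sylow p G) (hcl : (P : Subgroup G).lowerCentralSeries (p - 1) = ⊥) : Cfsg.pResidualOf p (Subgroup.normalizer ((P : Subgroup G) : Set G)) = Cfsg.pResidual p G ⊓ Subgroup.normalizer ((P : Subgroup G) : Set G) := by
  have hQ : Cfsg.IsWeaklyClosed (P : Subgroup G) (P : Subgroup G) := by
    refine ⟨le_rfl, fun g hg => Subgroup.eq_of_le_of_card_ge hg (le_of_eq ?_)⟩
    exact Nat.card_congr
      ((P : Subgroup G).equivMapOfInjective _ (MulAut.conj g).injective).toEquiv
  have h : ∀ u ∈ (P : Subgroup G), ∀ z ∈ (P : Subgroup G),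
      (fun y : G => y⁻¹ * z⁻¹ * y * z)^[p - 1] u = 1 := by
    intro u hu z hz
    have h1 : ∀ m, (fun y : G => y⁻¹ * z⁻¹ * y * z)^[m] u ∈
        (P : Subgroup G).lowerCentralSeries m := by
      intro m
      induction m with
      | zero => exact hu
      | succ m ih =>
        rw [Function.iterate_succ_apply', Subgroup.lowerCentralSeries_succ]
        have h2 := Subgroup.commutator_mem_commutator (inv_mem ih) ((P : Subgroup G).inv_mem hz)
        simpa [commutatorElement_def, mul_assoc] using h2
    have h3 := h1 (p - 1)
    rw [hcl, Subgroup.mem_bot] at h3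
    exact h3
  rw [Cfsg.pResidualOf, ← CfsgLib.HallWielandt82.pResidual_normalizer_eq P _ hQ h]
  exact Subgroup.subgroupOf_map_subtype _ _

end Cfsg.Agent.S4226
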