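import Cfsg.Statements.S4230


set_option autoImplicit false
open Cfsg

namespace Cfsg.Agent.S4230

/-- Let p be an odd prime, q a natural number not divisible by p, and e the multiplicative order of q modulo p. For a natural number f, p divides the value at q of the f-th cyclotomic polynomial if and only if f = e·p^j for some j ≥ 0. -/
theorem result (p q f : ℕ) (hp : p.Prime) (hp2 : p ≠ 2) (hpq : ¬ p ∣ q) :
    ((p : ℤ) ∣ (Polynomial.cyclotomic f ℤ).eval (q : ℤ)) ↔ ∃ j : ℕ, f = orderOf (q : ZMod p) * p ^ j := by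
  haveI := Fact.mk hp
  set μ : ZMod p := (q : ZMod p) with hμ
  have hμ0 : μ ≠ 0 := fun h => hpq ((ZMod.natCast_eq_zero_iff q p).1 h)
  have hiff : ((p : ℤ) ∣ (Polynomial.cyclotomic f ℤ).eval (q : ℤ)) ↔
      (Polynomial.cyclotomic f (ZMod p)).IsRoot μ := by
    rw [← ZMod.intCast_zmod_eq_zero_iff_dvd, Polynomial.IsRoot.def,
      ← Polynomial.map_cyclotomic_int f (ZMod p), Polynomial.eval_map,
      show μ = ((q : ℤ) : ZMod p) by simp [hμ], ← eq_intCast (Int.castRingHom (ZMod p)) (q : ℤ),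
      Polynomial.eval₂_hom, eq_intCast]
  have hord : orderOf μ ∣ p - 1 := ZMod.orderOf_dvd_card_sub_one hμ0
  have hpos : 0 < orderOf μ := Nat.pos_of_ne_zero fun h => by
    rw [h, zero_dvd_iff] at hord
    have := hp.two_le
    omega
  have hnd : ¬ p ∣ orderOf μ := fun h => by
    have := Nat.le_of_dvd (by have := hp.two_le; omega) (h.trans hord)
    have := hp.two_le
    omega
  rw [hiff]
  constructor
  · intro h
    rcases Nat.eq_zero_or_pos f with rfl | hf
    · simp [Polynomial.cyclotomic_zero, Polynomial.IsRoot.def] at h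
    obtain ⟨k, m, hm, rfl⟩ := Nat.exists_eq_pow_mul_and_not_dvd hf.ne' p hp.ne_one
    haveI : NeZero (m : ZMod p) := ⟨fun h => hm ((ZMod.natCast_eq_zero_iff _ _).1 h)⟩
    rw [Polynomial.isRoot_cyclotomic_prime_pow_mul_iff_of_charP] at h
    exact ⟨k, by rw [← h.eq_orderOf]; ring⟩
  · rintro ⟨j, rfl⟩
    haveI : NeZero (orderOf μ : ZMod p) :=
      ⟨fun h => hnd ((ZMod.natCast_eq_zero_iff _ _).1 h)⟩
    rw [mul_comm, Polynomial.isRoot_cyclotomic_prime_pow_mul_iff_of_charP]
    exact IsPrimitiveRoot.orderOf μ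

end Cfsg.Agent.S4230
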