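import Cfsg.Statements.S4231
import Cfsg.Agent.Lib.Schur.AutAlternatingSix
import Cfsg.Agent.Lib.FusionAlt.AltBlocks
import Mathlib

set_option autoImplicit false
open Cfsg

namespace Cfsg.Agent.S4231

open Equiv Equiv.Perm

theorem conjNormal_injective {n : ℕ} (hn : 4 ≤ n) :
    Function.Injective
      (MulAut.conjNormal : Perm (Fin n) →* MulAut ↥(alternatingGroup (Fin n))) := by
  classical
  rw [injective_iff_map_eq_one]
  intro σ hσ
  by_contra hne
  obtain ⟨a, ha⟩ : ∃ a, σ a ≠ a := by
    by_contra! hc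
    exact hne (Perm.ext hc)
  obtain ⟨c, hc, d, hd, hcd⟩ : ∃ c ∈ ({a, σ a} : Finset (Fin n))ᶜ,
      ∃ d ∈ ({a, σ a} : Finset (Fin n))ᶜ, c ≠ d :=
    Finset.one_lt_card.mp (by
      rw [Finset.card_compl, Fintype.card_fin]
      have := Finset.card_le_two (a := a) (b := σ a)
      omega)
  simp only [Finset.mem_compl, Finset.mem_insert, Finset.mem_singleton, not_or] at hc hd
  have hac : a ≠ c := Ne.symm hc.1
  have had : a ≠ d := Ne.symm hd.1
  have h3 := CfsgLib.Schur.starCycle_isThreeCycle hac had.symm (Ne.symm hcd)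
  let t : alternatingGroup (Fin n) := ⟨CfsgLib.Schur.starCycle a c d, h3.mem_alternatingGroup⟩
  have h := congrArg Subtype.val (DFunLike.congr_fun hσ t)
  simp only [MulAut.conjNormal_apply, MulAut.one_apply, t] at h
  rw [mul_inv_eq_iff_eq_mul] at h
  have h1 := DFunLike.congr_fun h a
  rw [Perm.mul_apply, Perm.mul_apply, (CfsgLib.Schur.starCycle_apply hac had.symm hcd.symm).1,
    CfsgLib.Schur.starCycle_fix ha (Ne.symm hc.2) (Ne.symm hd.2)] at h1
  exact had (σ.injective h1).symm

/-- Below degree `p²` the Sylow `p`-subgroups of the symmetric group are abelian. -/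
theorem perm_commute_of_lt {n p : ℕ} [hp : Fact p.Prime] (h : n < p ^ 2)
    {X : Subgroup (Perm (Fin n))} (hX : IsPGroup p X) : ∀ x ∈ X, ∀ y ∈ X, x * y = y * x := by
  classical
  haveI : NeZero p := ⟨hp.out.ne_zero⟩
  set k := n / p with hk
  have hcard : Fintype.card (Fin k × ZMod p) ≤ Fintype.card (Fin n) := by
    rw [Fintype.card_prod, Fintype.card_fin, ZMod.card, Fintype.card_fin]
    exact Nat.div_mul_le_self n p
  obtain ⟨e⟩ := Function.Embedding.nonempty_of_card_le hcard
  let f : Multiplicative (Fin k → ZMod p) →* Perm (Fin n) :=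
    (Perm.viaEmbeddingHom e).comp
      { toFun := fun b => CfsgLib.FusionAlt.sh b.toAdd
        map_one' := CfsgLib.FusionAlt.sh_zero
        map_mul' := fun b c => CfsgLib.FusionAlt.sh_add _ _ }
  have hinj : Function.Injective f := by
    refine (Perm.viaEmbeddingHom_injective e).comp fun b c hbc => ?_
    refine Multiplicative.toAdd.injective (funext fun i => ?_)
    have := DFunLike.congr_fun (show CfsgLib.FusionAlt.sh b.toAdd = CfsgLib.FusionAlt.sh c.toAdd
      from hbc) (i, 0)
    simpa using this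
  have hR : Nat.card f.range = p ^ k := by
    rw [← Nat.card_congr (MonoidHom.ofInjective hinj).toEquiv, Nat.card_congr Multiplicative.toAdd,
      Nat.card_fun, Nat.card_fin, Nat.card_zmod]
  have hfac : (Nat.card (Perm (Fin n))).factorization p = k := by
    rw [Nat.card_perm, Nat.card_fin, Nat.factorization_def _ hp.out]
    rcases Nat.eq_zero_or_pos n with rfl | hn
    · simp [hk]
    rw [padicValNat_factorial (b := 2) (Nat.log_lt_of_lt_pow hn.ne' h)]
    simp [hk]
  let P : Sylow p (Perm (Fin n)) := Sylow.ofCard f.range (by rw [hfac]; exact hR)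
  obtain ⟨Q, hQ⟩ := hX.exists_le_sylow
  obtain ⟨g, hg⟩ := MulAction.exists_smul_eq (Perm (Fin n)) P Q
  intro x hx y hy
  have hxQ := hQ hx
  have hyQ := hQ hy
  rw [← hg] at hxQ hyQ
  obtain ⟨u, ⟨bu, rfl⟩, rfl⟩ := hxQ
  obtain ⟨v, ⟨bv, rfl⟩, rfl⟩ := hyQ
  show g * f bu * g⁻¹ * (g * f bv * g⁻¹) = g * f bv * g⁻¹ * (g * f bu * g⁻¹)
  rw [show g * f bu * g⁻¹ * (g * f bv * g⁻¹) = g * (f bu * f bv) * g⁻¹ by group,
    ← map_mul, mul_comm bu bv, map_mul]
  group

/-- An element of order `p * q` with a given cycle type. -/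
theorem exists_orderOf_mul {n : ℕ} {p q : ℕ} (hp : p.Prime) (hq : q.Prime) (hpq : p ≠ q)
    (hp2 : p ≠ 2) (hq2 : q ≠ 2) (h : p + q ≤ n) :
    ∃ x : alternatingGroup (Fin n), orderOf x = p * q := by
  classical
  obtain ⟨g, hg⟩ := (Equiv.Perm.exists_with_cycleType_iff (α := Fin n) (m := {p, q})).2
    ⟨by simpa using h, by simp [hp.two_le, hq.two_le]⟩
  refine ⟨⟨g, ?_⟩, ?_⟩
  · rw [mem_alternatingGroup, sign_of_cycleType', hg]
    simp [(hp.odd_of_ne_two hp2).neg_one_pow, (hq.odd_of_ne_two hq2).neg_one_pow]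
  · rw [Subgroup.orderOf_mk, ← lcm_cycleType, hg]
    simp only [Multiset.insert_eq_cons, Multiset.lcm_cons, Multiset.lcm_singleton, normalize_eq]
    exact ((Nat.coprime_primes hp hq).2 hpq).lcm_eq_mul

theorem exists_orderOf_two_mul {n : ℕ} {q : ℕ} (hq : q.Prime) (hq2 : q ≠ 2) (h : 4 + q ≤ n) :
    ∃ x : alternatingGroup (Fin n), orderOf x = 2 * q := by
  classical
  obtain ⟨g, hg⟩ := (Equiv.Perm.exists_with_cycleType_iff (α := Fin n) (m := {2, 2, q})).2
    ⟨by simp only [Multiset.insert_eq_cons, Multiset.sum_cons, Multiset.sum_singleton,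
          Fintype.card_fin]; omega,
     by simp [hq.two_le]⟩
  refine ⟨⟨g, ?_⟩, ?_⟩
  · rw [mem_alternatingGroup, sign_of_cycleType', hg]
    simp [(hq.odd_of_ne_two hq2).neg_one_pow]
  · rw [Subgroup.orderOf_mk, ← lcm_cycleType, hg]
    simp only [Multiset.insert_eq_cons, Multiset.lcm_cons, Multiset.lcm_singleton, normalize_eq]
    rw [← lcm_assoc, lcm_same, normalize_eq]
    exact ((Nat.coprime_primes Nat.prime_two hq).2 (Ne.symm hq2)).lcm_eq_mul

/-- Let n ≥ 5 and let G be a group of automorphisms of the alternating group of degree n containing all inner automorphisms. If p ≠ q are primes and G has no element of order pq, then every Sylow p-subgroup of G is abelian or every Sylow q-subgroup of G is abelian. -/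
theorem result (n : ℕ) (hn : 5 ≤ n) (G : Subgroup (MulAut (alternatingGroup (Fin n))))
    (hG : (MulAut.conj : alternatingGroup (Fin n) →* MulAut (alternatingGroup (Fin n))).range ≤ G)
    (p q : ℕ) [Fact p.Prime] [Fact q.Prime] (hpq : p ≠ q) (h : ∀ g : G, orderOf g ≠ p * q) :
    (∀ P : Sylow p G, IsMulCommutative (P : Subgroup G)) ∨ (∀ Q : Sylow q G, IsMulCommutative (Q : Subgroup G)) := by
  classical
  have key : ∀ (r : ℕ) [Fact r.Prime], r ≠ 2 → n < r ^ 2 →
      ∀ P : Sylow r G, IsMulCommutative (P : Subgroup G) := by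
    intro r hr hr2 hn2 P
    set P' : Subgroup (MulAut (alternatingGroup (Fin n))) := (P : Subgroup G).map G.subtype with hP'
    have hP'p : IsPGroup r P' := P.isPGroup'.map _
    have hsurj : ∀ φ ∈ P', ∃ σ : Perm (Fin n), MulAut.conjNormal σ = φ := by
      intro φ hφ
      obtain ⟨k, hk⟩ := hP'p ⟨φ, hφ⟩
      have hk' : φ ^ r ^ k = 1 := congrArg Subtype.val hk
      by_cases h6 : n = 6
      · subst h6
        exact CfsgLib.Schur.conjNormal_range_of_odd_six ((hr.out.odd_of_ne_two hr2).pow) hk'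
      · exact (CfsgLib.Schur.conjNormal_bijective (by omega) h6).2 φ
    have hinj := conjNormal_injective (n := n) (by omega)
    have hX : IsPGroup r (P'.comap (MulAut.conjNormal :
        Perm (Fin n) →* MulAut (alternatingGroup (Fin n)))) :=
      hP'p.comap_of_injective _ hinj
    refine ⟨⟨fun x y => Subtype.ext (Subtype.ext ?_)⟩⟩
    obtain ⟨s, hs⟩ := hsurj _ (Subgroup.mem_map_of_mem G.subtype x.2)
    obtain ⟨t, ht⟩ := hsurj _ (Subgroup.mem_map_of_mem G.subtype y.2)
    show G.subtype (x : G) * G.subtype (y : G) = G.subtype (y : G) * G.subtype (x : G)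
    rw [← hs, ← ht, ← map_mul, ← map_mul, perm_commute_of_lt hn2 hX s
      (by rw [Subgroup.mem_comap, hs]; exact Subgroup.mem_map_of_mem G.subtype x.2) t
      (by rw [Subgroup.mem_comap, ht]; exact Subgroup.mem_map_of_mem G.subtype y.2)]
  have hcinj : Function.Injective (MulAut.conjNormal.comp (alternatingGroup (Fin n)).subtype) :=
    (conjNormal_injective (n := n) (by omega)).comp Subtype.val_injective
  have hno : ∀ x : alternatingGroup (Fin n), orderOf x ≠ p * q := fun x hx => by
    refine h ⟨MulAut.conj x, hG ⟨x, rfl⟩⟩ ?_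
    rw [Subgroup.orderOf_mk, ← hx]
    have e : MulAut.conj x = MulAut.conjNormal (x : Perm (Fin n)) := by
      refine MulEquiv.ext fun y => Subtype.ext ?_
      simp [MulAut.conjNormal_apply]
    rw [e]
    exact orderOf_injective _ hcinj x
  have hp := (Fact.out : p.Prime)
  have hq := (Fact.out : q.Prime)
  by_contra hcon
  rw [not_or] at hcon
  obtain ⟨h1, h2⟩ := hcon
  by_cases hp2 : p = 2
  · have hq2 : q ≠ 2 := fun e => hpq (hp2.trans e.symm)
    have hqn : q ^ 2 ≤ n := not_lt.1 fun hlt => h2 (key q hq2 hlt)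
    obtain ⟨x, hx⟩ := exists_orderOf_two_mul (n := n) hq hq2 (by
      have := hq.two_le
      have : 3 ≤ q := by omega
      nlinarith)
    exact hno x (by rw [hx, hp2])
  have hpn : p ^ 2 ≤ n := not_lt.1 fun hlt => h1 (key p hp2 hlt)
  by_cases hq2 : q = 2
  · obtain ⟨x, hx⟩ := exists_orderOf_two_mul (n := n) hp hp2 (by
      have := hp.two_le
      have : 3 ≤ p := by omega
      nlinarith)
    exact hno x (by rw [hx, hq2, mul_comm])
  have hqn : q ^ 2 ≤ n := not_lt.1 fun hlt => h2 (key q hq2 hlt)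
  obtain ⟨x, hx⟩ := exists_orderOf_mul (n := n) hp hq hpq hp2 hq2 (by
    have := hp.two_le
    have := hq.two_le
    nlinarith)
  exact hno x hx

end Cfsg.Agent.S4231
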