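import Cfsg.Statements.S4234
import Cfsg.Agent.Lib.PSL2.ThirteenNormalizers

set_option autoImplicit false
open Cfsg

namespace Cfsg.Agent.S4234

/-- Let K be isomorphic to PSL(2, 13) or to SL(2, 13) and let S be a finite abelian group of order coprime to the order of K. Then in the direct product K × S every subgroup that is not normal has a normalizer that is a maximal subgroup. -/
theorem result {K S : Type*} [Group K] [CommGroup S] [Finite K] [Finite S]
    (hK : Nonempty (K ≃* Matrix.ProjectiveSpecialLinearGroup (Fin 2) (ZMod 13)) ∨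
      Nonempty (K ≃* Matrix.SpecialLinearGroup (Fin 2) (ZMod 13)))
    (hKS : (Nat.card K).Coprime (Nat.card S)) (H : Subgroup (K × S)) (hH : ¬ H.Normal) :
    IsCoatom (Subgroup.normalizer (H : Set (K × S))) := by
  -- the subgroup is a product
  have hsplit : ∀ x : K × S, x ∈ H → (x.1, (1 : S)) ∈ H := by
    rintro ⟨k, s⟩ hx
    have h1 : (orderOf k).Coprime (Nat.card S) := hKS.coprime_dvd_left (orderOf_dvd_natCard k)
    obtain ⟨m, hm⟩ := exists_pow_eq_self_of_coprime h1.symm
    have h2 := H.pow_mem (H.pow_mem hx (Nat.card S)) m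
    rwa [Prod.pow_mk, Prod.pow_mk, pow_card_eq_one', one_pow, hm] at h2
  set H₁ := H.map (MonoidHom.fst K S) with hH₁
  have hin : ∀ k : K, k ∈ H₁ → (k, (1 : S)) ∈ H := by
    rintro _ ⟨x, hx, rfl⟩
    exact hsplit x hx
  have hnorm : Subgroup.normalizer (H : Set (K × S)) =
      (Subgroup.normalizer (H₁ : Set K)).comap (MonoidHom.fst K S) := by
    have hcj : ∀ (g : K × S), g.1 ∈ Subgroup.normalizer (H₁ : Set K) → ∀ x ∈ H,
        g * x * g⁻¹ ∈ H := by
      rintro ⟨g, u⟩ hg ⟨k, s⟩ hx
      have h1 : g * k * g⁻¹ ∈ H₁ := (Subgroup.mem_normalizer_iff.1 hg k).1 ⟨_, hx, rfl⟩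
      have h2 : ((1 : K), s) ∈ H := by
        have := H.mul_mem (H.inv_mem (hsplit _ hx)) hx
        simpa using this
      have h3 := H.mul_mem (hin _ h1) h2
      simpa [mul_comm u s] using h3
    ext g
    constructor
    · intro hg
      refine Subgroup.mem_normalizer_iff.2 fun k => ⟨fun hk => ?_, fun hk => ?_⟩
      · exact ⟨_, (Subgroup.mem_normalizer_iff.1 hg _).1 (hin k hk), by simp⟩
      · have h1 := (Subgroup.mem_normalizer_iff.1 hg (k, 1)).2 (by
          have := hin _ hk
          convert this using 1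
          ext <;> simp)
        exact ⟨_, h1, rfl⟩
    · intro hg
      refine Subgroup.mem_normalizer_iff.2 fun x => ⟨hcj g hg x, fun h => ?_⟩
      have := hcj g⁻¹ (by simpa using inv_mem (show g.1 ∈ Subgroup.normalizer (H₁ : Set K) from hg)) _ h
      simpa [mul_assoc] using this
  rw [hnorm]
  have hH₁n : ¬ H₁.Normal := fun hn => hH (Subgroup.normalizer_eq_top_iff.1 (by
    rw [hnorm, Subgroup.normalizer_eq_top_iff.2 hn, Subgroup.comap_top]))
  refine CfsgLib.PSLThirteen.isCoatom_comap (fun k => ⟨(k, 1), rfl⟩) ?_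
  rcases hK with ⟨⟨e⟩⟩ | ⟨⟨e⟩⟩
  · refine CfsgLib.PSLThirteen.map_equiv_isCoatom e ?_
    rw [Subgroup.map_normalizer_eq_of_bijective _ e.bijective]
    refine CfsgLib.PSLThirteen.psl_isCoatom_normalizer fun hn => hH₁n ?_
    have := hn.comap e.toMonoidHom
    rwa [Subgroup.comap_map_eq_self_of_injective e.injective] at this
  · refine CfsgLib.PSLThirteen.map_equiv_isCoatom e ?_
    rw [Subgroup.map_normalizer_eq_of_bijective _ e.bijective]
    refine CfsgLib.PSLThirteen.sl_isCoatom_normalizer fun hn => hH₁n ?_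
    have := hn.comap e.toMonoidHom
    rwa [Subgroup.comap_map_eq_self_of_injective e.injective] at this

end Cfsg.Agent.S4234
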