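import Cfsg.Statements.S4237
import Cfsg.Agent.Lib.SubgroupCount.Kulakoff
import Cfsg.Agent.Lib.SubgroupCount.SylowReduction

set_option autoImplicit false
open Cfsg

namespace Cfsg.Agent.S4237

/-- Let G be a finite group, p a prime and a a natural number such that p^(a+1) divides the order of G. Then the number of subgroups of G of order p^a is congruent to 1 or to 1 + p modulo p². -/
theorem result {G : Type*} [Group G] [Finite G] (p a : ℕ) (hp : p.Prime) (hdvd : p ^ (a + 1) ∣ Nat.card G) :
    Nat.card {H : Subgroup G // Nat.card H = p ^ a} ≡ 1 [MOD p ^ 2] ∨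
      Nat.card {H : Subgroup G // Nat.card H = p ^ a} ≡ 1 + p [MOD p ^ 2] := by
  have := Fact.mk hp
  have hodd := CfsgLib.SubgroupCount.card_subgroups_modEq_one (G := G) hp
    ((pow_dvd_pow p (Nat.le_succ a)).trans hdvd)
  rcases eq_or_ne p 2 with rfl | hp2
  · unfold Nat.ModEq at hodd ⊢
    omega
  obtain ⟨P⟩ := (inferInstance : Nonempty (Sylow p G))
  have h := CfsgLib.SubgroupCount.card_subgroups_modEq_sylow P hdvd
  obtain ⟨n, hn⟩ := IsPGroup.iff_card.1 P.2
  have han : a + 1 ≤ n := by
    have h' := P.pow_dvd_card_of_pow_dvd_card hdvd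
    rw [hn] at h'
    exact (Nat.pow_dvd_pow_iff_le_right hp.one_lt).1 h'
  rcases Nat.eq_zero_or_pos a with rfl | ha
  · left
    rw [show Nat.card {H : Subgroup G // Nat.card H = p ^ 0} = 1 from
      Nat.card_eq_one_iff_unique.2
        ⟨⟨fun A B => Subtype.ext ((Subgroup.card_eq_one.1 (A.2.trans (pow_zero p))).trans
          (Subgroup.card_eq_one.1 (B.2.trans (pow_zero p))).symm)⟩,
          ⟨⟨⊥, by rw [Subgroup.card_bot, pow_zero]⟩⟩⟩]
  by_cases hc : IsCyclic ↥(P : Subgroup G)
  · left
    rwa [CfsgLib.SubgroupCount.card_subgroups_cyclic (G := ↥(P : Subgroup G))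
      (hn ▸ pow_dvd_pow p (by omega))] at h
  · exact Or.inr (h.trans (CfsgLib.SubgroupCount.kulakoff_odd hp2 n hn hc a ha han))

end Cfsg.Agent.S4237
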