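import Cfsg.Statements.S4245
import Cfsg.Agent.Lib.Characters.Burnside
import Cfsg.Agent.Lib.Structure.IndexPowers
-- import your own Cfsg.Agent.* helpers here

set_option autoImplicit false
set_option linter.style.haveILetI false
open Cfsg

namespace Cfsg.Agent.S4245

/-- Cyclic-by-(cyclic 2-group). -/
def Shape (A : Type*) [Group A] : Prop :=
  ∃ (B : Subgroup A) (_ : B.Normal), IsCyclic B ∧ IsCyclic (A ⧸ B) ∧ IsPGroup 2 (A ⧸ B)

theorem shape_of_injective {A C : Type*} [Group A] [Group C] (f : C →* A)
    (hf : Function.Injective f) (h : Shape A) : Shape C := by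
  obtain ⟨B, hB, hc, hq, hp⟩ := h
  haveI := hB
  haveI := hc
  haveI := hq
  let φ : (C ⧸ B.comap f) →* A ⧸ B := QuotientGroup.map _ _ f le_rfl
  have hφ : Function.Injective φ := by
    rw [← MonoidHom.ker_eq_bot_iff, QuotientGroup.ker_map, QuotientGroup.map_mk'_self]
  refine ⟨B.comap f, inferInstance, ?_, isCyclic_of_injective φ hφ, hp.of_injective φ hφ⟩
  refine isCyclic_of_injective ((f.comp (B.comap f).subtype).codRestrict B (fun x => x.2)) ?_
  intro x y h
  exact Subtype.ext (hf (congrArg Subtype.val h))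

theorem shape_of_surjective {A C : Type*} [Group A] [Group C] (f : A →* C)
    (hf : Function.Surjective f) (h : Shape A) : Shape C := by
  obtain ⟨B, hB, hc, hq, hp⟩ := h
  haveI := hB
  haveI := hc
  haveI := hq
  haveI : (B.map f).Normal := hB.map f hf
  let φ : (A ⧸ B) →* C ⧸ B.map f := QuotientGroup.map _ _ f (Subgroup.le_comap_map f B)
  have hφ : Function.Surjective φ :=
    QuotientGroup.map_surjective_of_surjective _ _ _
      ((QuotientGroup.mk'_surjective _).comp hf) _
  exact ⟨B.map f, inferInstance, isCyclic_of_surjective (f.subgroupMap B) (f.subgroupMap_surjective B),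
    isCyclic_of_surjective φ hφ, hp.of_surjective φ hφ⟩

theorem solvable_of_prime_card {G : Type*} [Group G] (h : (Nat.card G).Prime) :
    Group.IsSolvable G := by
  haveI := Fact.mk h
  haveI : IsCyclic G := isCyclic_of_prime_card (p := Nat.card G) rfl
  exact Group.isSolvable_of_comm fun a b => IsCyclic.commGroup.mul_comm a b

theorem solvable_simple {G : Type*} [Group G] [Finite G] [IsSimpleGroup G] (A : Subgroup G)
    (p s : ℕ) (hp : p.Prime) (hA : A.index = p ^ s) (h : Shape A) : Group.IsSolvable G := by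
  haveI := Fact.mk hp
  by_cases hbot : A = ⊥
  · subst hbot
    rw [Subgroup.index_bot] at hA
    haveI := (IsPGroup.of_card hA).isNilpotent
    infer_instance
  -- a central element of `A` has prime power class size
  have hclass : ∀ x : G, x ≠ 1 → ∀ k : ℕ, ∀ q : ℕ, q.Prime →
      (Subgroup.centralizer ({x} : Set G)).index ∣ q ^ k → Group.IsSolvable G := by
    intro x hx k q hq hdvd
    obtain ⟨j, -, hj⟩ := (Nat.dvd_prime_pow hq).mp hdvd
    exact solvable_of_prime_card (CfsgLib.Burnside.prime_card_of_prime_power_class hq hx hj)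
  by_cases hcen : ∃ x ∈ A, x ≠ 1 ∧ ∀ a ∈ A, a * x = x * a
  · obtain ⟨x, -, hx, hxc⟩ := hcen
    refine hclass x hx s p hp (hA ▸ Subgroup.index_dvd_of_le fun a ha => ?_)
    exact Subgroup.mem_centralizer_singleton_iff.mpr (hxc a ha)
  push Not at hcen
  obtain ⟨B, hBn, hBc, hqc, hqp⟩ := h
  haveI := hBn
  haveI := hqc
  haveI := hBc
  haveI : Fact (Nat.Prime 2) := ⟨Nat.prime_two⟩
  have hBne : B ≠ ⊥ := by
    rintro rfl
    haveI : IsCyclic A := isCyclic_of_surjective (QuotientGroup.quotientBot (G := A)).toMonoidHom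
      (QuotientGroup.quotientBot (G := A)).surjective
    obtain ⟨x, hx, hx1⟩ := (Subgroup.bot_or_exists_ne_one A).resolve_left hbot
    obtain ⟨a, ha, hne⟩ := hcen x hx hx1
    exact hne (congrArg Subtype.val (IsCyclic.commGroup.mul_comm (⟨a, ha⟩ : A) ⟨x, hx⟩) :)
  obtain ⟨r, hr⟩ := IsPGroup.iff_card.mp hqp
  by_cases hp2 : p = 2
  · subst hp2
    obtain ⟨b, hb, hb1⟩ := (Subgroup.bot_or_exists_ne_one B).resolve_left hBne
    refine hclass b (fun h => hb1 (Subtype.ext h)) (r + s) 2 Nat.prime_two ?_
    have hle : B.map A.subtype ≤ Subgroup.centralizer ({(b : G)} : Set G) := by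
      rintro _ ⟨c, hc, rfl⟩
      rw [Subgroup.mem_centralizer_singleton_iff]
      exact congrArg (fun z : B => ((z : A) : G)) (IsCyclic.commGroup.mul_comm (⟨c, hc⟩ : B) ⟨b, hb⟩)
    refine (Subgroup.index_dvd_of_le hle).trans ?_
    rw [Subgroup.index_map_subtype, hA, Subgroup.index_eq_card, hr, ← pow_add]
  -- `B` has odd order
  have hBodd : ¬ 2 ∣ Nat.card B := by
    intro h2
    obtain ⟨z, hz⟩ := exists_prime_orderOf_dvd_card' 2 h2
    have huniq : ∀ w : B, orderOf w = 2 → w = z := by
      intro w hw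
      by_contra hne
      classical
      haveI := Fintype.ofFinite B
      have h3 : ({1, z, w} : Finset B).card ≤ 2 := by
        refine le_trans (Finset.card_le_card ?_)
          (IsCyclic.card_pow_eq_one_le (α := B) (n := 2) two_pos)
        intro y hy
        simp only [Finset.mem_insert, Finset.mem_singleton] at hy
        simp only [Finset.mem_filter, Finset.mem_univ, true_and]
        rcases hy with rfl | rfl | rfl
        · simp
        · exact hz ▸ pow_orderOf_eq_one y
        · exact hw ▸ pow_orderOf_eq_one y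
      have h1z : (1 : B) ≠ z := fun h => by simp [← h] at hz
      have h1w : (1 : B) ≠ w := fun h => by simp [← h] at hw
      simp [h1z, h1w, Ne.symm hne] at h3
    obtain ⟨a, ha, hne⟩ := hcen ((z : A) : G) (z : A).2 (fun h => by
      have : z = 1 := Subtype.ext (Subtype.ext h)
      simp [this] at hz)
    apply hne
    have h4 := huniq ⟨⟨a, ha⟩ * z * ⟨a, ha⟩⁻¹, hBn.conj_mem _ z.2 _⟩ (by
      have : orderOf ((⟨a, ha⟩ : A) * z * (⟨a, ha⟩ : A)⁻¹) = 2 := by
        rw [show (⟨a, ha⟩ : A) * z * (⟨a, ha⟩ : A)⁻¹ = MulAut.conj (⟨a, ha⟩ : A) (z : A) from rfl,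
          MulEquiv.orderOf_eq, Subgroup.orderOf_coe, hz]
      rwa [← Subgroup.orderOf_coe])
    have h5 : a * ((z : A) : G) * a⁻¹ = ((z : A) : G) := congrArg (fun w : B => ((w : A) : G)) h4
    exact mul_inv_eq_iff_eq_mul.mp h5
  -- the Sylow 2-subgroup is cyclic
  let P : Sylow 2 A := default
  have hPB : ∀ x : A, x ∈ P → x ∈ B → x = 1 := by
    intro x hxP hxB
    obtain ⟨k, hk⟩ := P.isPGroup' ⟨x, hxP⟩
    have h1 : orderOf x ∣ 2 ^ k := orderOf_dvd_of_pow_eq_one (congrArg Subtype.val hk)
    have h2 : orderOf x ∣ Nat.card B := Subgroup.orderOf_dvd_natCard B hxB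
    exact orderOf_eq_one_iff.mp (Nat.eq_one_of_dvd_coprimes
      (Nat.Coprime.pow_left k ((Nat.prime_two.coprime_iff_not_dvd).mpr hBodd)) h1 h2)
  haveI hPc : IsCyclic (P : Subgroup A) := by
    refine isCyclic_of_injective ((QuotientGroup.mk' B).comp (P : Subgroup A).subtype) ?_
    rw [← MonoidHom.ker_eq_bot_iff, Subgroup.eq_bot_iff_forall]
    intro x hx
    exact Subtype.ext (hPB x x.2 ((QuotientGroup.eq_one_iff _).mp hx))
  have hnd : ¬ 2 ∣ ((P : Subgroup A).map A.subtype).index := by
    rw [Subgroup.index_map_subtype, hA, Nat.prime_two.dvd_mul, not_or]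
    exact ⟨P.not_dvd_index, fun h => hp2
      ((Nat.prime_dvd_prime_iff_eq Nat.prime_two hp).mp (Nat.prime_two.dvd_of_dvd_pow h)).symm⟩
  let Q : Sylow 2 G := (P.isPGroup'.map A.subtype).toSylow hnd
  have hQ : IsCyclic (Q : Subgroup G) :=
    isCyclic_of_surjective (A.subtype.subgroupMap (P : Subgroup A))
      (A.subtype.subgroupMap_surjective _)
  by_cases h2G : 2 ∣ Nat.card G
  · have hmin : (Nat.card G).minFac = 2 := (Nat.minFac_eq_two_iff _).mpr h2G
    have hcompl := IsCyclic.isComplement' hmin hQ
    rcases Subgroup.Normal.eq_bot_or_eq_top (inferInstance :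
      (MonoidHom.transferSylow Q (hQ.normalizer_le_centralizer hmin)).ker.Normal) with h | h
    · rw [h] at hcompl
      have htop := Subgroup.isComplement'_bot_left.mp hcompl
      haveI : IsCyclic (⊤ : Subgroup G) := htop ▸ hQ
      haveI : IsCyclic G :=
        isCyclic_of_surjective (Subgroup.topEquiv (G := G)).toMonoidHom Subgroup.topEquiv.surjective
      exact Group.isSolvable_of_comm fun a b => IsCyclic.commGroup.mul_comm a b
    · rw [h] at hcompl
      have := Subgroup.isComplement'_top_left.mp hcompl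
      exact absurd this (Q.ne_bot_of_dvd_card h2G)
  · -- then `A = B` is abelian
    exfalso
    have h1 : ¬ 2 ∣ Nat.card (A ⧸ B) := fun h => h2G
      ((h.trans (Subgroup.card_quotient_dvd_card B)).trans (Subgroup.card_subgroup_dvd_card A))
    rw [hr] at h1
    have hr0 : r = 0 := by
      by_contra hr0
      exact h1 (dvd_pow_self 2 hr0)
    subst hr0
    have hBtop : B = ⊤ := Subgroup.index_eq_one.mp (by rw [Subgroup.index_eq_card, hr, pow_zero])
    haveI : IsCyclic A := by
      subst hBtop
      exact isCyclic_of_surjective (Subgroup.topEquiv (G := A)).toMonoidHom Subgroup.topEquiv.surjective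
    obtain ⟨x, hx, hx1⟩ := (Subgroup.bot_or_exists_ne_one A).resolve_left hbot
    obtain ⟨a, ha, hne⟩ := hcen x hx hx1
    exact hne (congrArg Subtype.val (IsCyclic.commGroup.mul_comm (⟨a, ha⟩ : A) ⟨x, hx⟩) :)

theorem solvable_of_shape : ∀ (n : ℕ) (G : Type*) [Group G] [Finite G], Nat.card G ≤ n →
    ∀ (A : Subgroup G) (p s : ℕ), p.Prime → A.index = p ^ s → Shape A → Group.IsSolvable G := by
  intro n
  induction n with
  | zero => intro G _ _ h; exact absurd h (by have := Nat.card_pos (α := G); omega)
  | succ n ih =>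
    intro G _ _ hn A p s hp hA hS
    rcases subsingleton_or_nontrivial G with h | h
    · infer_instance
    by_cases hsimple : IsSimpleGroup G
    · exact solvable_simple A p s hp hA hS
    obtain ⟨N, hN, hbot, htop⟩ : ∃ N : Subgroup G, N.Normal ∧ N ≠ ⊥ ∧ N ≠ ⊤ := by
      by_contra hcon
      push Not at hcon
      exact hsimple ⟨fun N hN => or_iff_not_imp_left.mpr fun hb => hcon N hN hb⟩
    haveI := hN
    have hmul := N.card_mul_index
    have hN1 : 1 < Nat.card N := N.one_lt_card_iff_ne_bot.mpr hbot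
    have hi1 : 1 < N.index := by
      have : N.index ≠ 1 := mt Subgroup.index_eq_one.mp htop
      have := Subgroup.index_ne_zero_of_finite (H := N)
      omega
    have hsN : Group.IsSolvable N := by
      obtain ⟨k, -, hk⟩ := (Nat.dvd_prime_pow hp).mp (show (A.subgroupOf N).index ∣ p ^ s from
        hA ▸ CfsgLib.IndexPowers.relIndex_dvd_index_of_isSubnormal hN.isSubnormal A)
      refine ih N (by nlinarith) (A.subgroupOf N) p k hp hk
        (shape_of_injective ((N.subtype.comp (A.subgroupOf N).subtype).codRestrict A (fun x => x.2)) ?_ hS)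
      intro x y hxy
      exact Subtype.ext (Subtype.ext (congrArg (fun z : A => (z : G)) hxy :))
    have hsQ : Group.IsSolvable (G ⧸ N) := by
      obtain ⟨k, -, hk⟩ := (Nat.dvd_prime_pow hp).mp
        (hA ▸ Subgroup.index_map_dvd A (QuotientGroup.mk'_surjective N))
      exact ih (G ⧸ N) (by rw [← Subgroup.index_eq_card]; nlinarith) _ p k hp hk
        (shape_of_surjective ((QuotientGroup.mk' N).subgroupMap A)
          ((QuotientGroup.mk' N).subgroupMap_surjective A) hS)
    exact Group.isSolvable_of_ker_le_range N.subtype (QuotientGroup.mk' N)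
      (by rw [QuotientGroup.ker_mk', Subgroup.range_subtype])

/-- Let G be a finite group with a subgroup A of prime-power index. Suppose A has a normal cyclic subgroup B such that A/B is cyclic of order a power of 2. Then G is solvable. -/
theorem result {G : Type*} [Group G] [Finite G] (A : Subgroup G) (p s : ℕ) (hp : p.Prime) (hA : A.index = p ^ s)
    (B : Subgroup A) [B.Normal] (hB : IsCyclic B) (hAB : IsCyclic (A ⧸ B)) (r : ℕ) (hr : Nat.card (A ⧸ B) = 2 ^ r) :
    Group.IsSolvable G := by
  refine solvable_of_shape (Nat.card G) G le_rfl A p s hp hA ⟨B, inferInstance, hB, hAB, ?_⟩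
  exact IsPGroup.of_card hr

end Cfsg.Agent.S4245
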