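import Cfsg.Statements.S4249
import Cfsg.Agent.Lib.Structure.HughesThompson
-- import your own Cfsg.Agent.* helpers here

set_option autoImplicit false
set_option linter.style.haveILetI false
open Cfsg

namespace Cfsg.Agent.S4249

open scoped IsMulCommutative

theorem index_eq {G : Type*} [Group G] [Finite G] {p : ℕ} [hp : Fact p.Prime] (H : Subgroup G)
    [H.Normal] (hout : ∀ g : G, g ∉ H → g ^ p = 1) (hH : H ≠ ⊤) (hG : ¬ IsPGroup p G) :
    H.index = p := by
  classical
  -- the quotient is a `p`-group
  have hquot : IsPGroup p (G ⧸ H) := by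
    intro a
    obtain ⟨g, rfl⟩ := QuotientGroup.mk_surjective a
    by_cases hg : g ∈ H
    · exact ⟨0, by rw [(QuotientGroup.eq_one_iff g).mpr hg, one_pow]⟩
    · exact ⟨1, by rw [pow_one, ← QuotientGroup.mk_pow, hout g hg, QuotientGroup.mk_one]⟩
  obtain ⟨a, ha⟩ : ∃ a, H.index = p ^ a := IsPGroup.iff_card.mp hquot
  -- a prime different from `p`
  obtain ⟨q, hq, hqp, hqd⟩ : ∃ q, q.Prime ∧ q ≠ p ∧ q ∣ Nat.card G := by
    by_contra hcon
    push Not at hcon
    refine hG (IsPGroup.of_card (n := (Nat.card G).factorization p) ?_)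
    refine Nat.eq_of_factorization_eq Nat.card_pos.ne' (pow_ne_zero _ hp.out.ne_zero) fun r => ?_
    rw [hp.out.factorization_pow]
    by_cases hr : r = p
    · subst hr; simp
    rw [Finsupp.single_eq_of_ne hr]
    by_contra hne
    by_cases hrp : r.Prime
    · exact hne (Nat.factorization_eq_zero_of_not_dvd (hcon r hrp hr))
    · exact hne (Nat.factorization_eq_zero_of_not_prime _ hrp)
  haveI := Fact.mk hq
  have hqH : q ∣ Nat.card H := by
    obtain ⟨x, hx⟩ := exists_prime_orderOf_dvd_card' q hqd
    have hxH : x ∈ H := by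
      by_contra hxH
      have h := orderOf_dvd_of_pow_eq_one (hout x hxH)
      rw [hx] at h
      exact hqp ((Nat.prime_dvd_prime_iff_eq hq hp.out).mp h)
    exact hx ▸ Subgroup.orderOf_dvd_natCard H hxH
  let Q : Sylow q H := default
  let Q' : Subgroup G := (Q : Subgroup H).map H.subtype
  have hQH : Q' ≤ H := Subgroup.map_subtype_le _
  set N := Subgroup.normalizer (Q' : Set G) with hN
  have htop : N ⊔ H = ⊤ := Sylow.normalizer_sup_eq_top Q
  have hidxN : (H.subgroupOf N).index = H.index := by
    show H.relIndex N = H.index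
    rw [← Subgroup.relIndex_sup_right (H := N), htop, Subgroup.relIndex_top_right]
  let P : Sylow p N := default
  -- the Sylow subgroup covers the quotient
  have hPidx : (H.subgroupOf N).relIndex (P : Subgroup N) = H.index := by
    have hqN : IsPGroup p (N ⧸ H.subgroupOf N) :=
      IsPGroup.of_card (n := a) (by rw [← Subgroup.index_eq_card, hidxN, ha])
    let P' := P.mapSurjective (QuotientGroup.mk'_surjective (H.subgroupOf N))
    have hP' : (P : Subgroup N).map (QuotientGroup.mk' (H.subgroupOf N)) = ⊤ :=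
      (P'.is_maximal' (Q := ⊤) (hqN.of_equiv Subgroup.topEquiv.symm) le_top).symm
    rw [← hidxN, ← Subgroup.relIndex_sup_right (H := (P : Subgroup N))]
    have : (P : Subgroup N) ⊔ H.subgroupOf N = ⊤ := by
      have h := congrArg (Subgroup.comap (QuotientGroup.mk' (H.subgroupOf N))) hP'
      rwa [Subgroup.comap_map_eq, QuotientGroup.ker_mk', Subgroup.comap_top] at h
    rw [this, Subgroup.relIndex_top_right]
  -- the module
  let Q'' : Subgroup N := Q'.subgroupOf N
  haveI : Q''.Normal := Subgroup.normal_in_normalizer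
  let V : Subgroup N := (Subgroup.center Q'').map Q''.subtype
  haveI : V.Normal := ConjAct.normal_of_characteristic_of_normal
  haveI : IsMulCommutative V := ⟨⟨by
    rintro ⟨_, u, hu, rfl⟩ ⟨_, v, hv, rfl⟩
    exact Subtype.ext (congrArg Subtype.val (Subgroup.mem_center_iff.mp hv u) :)⟩⟩
  have hQ''q : IsPGroup q Q'' :=
    (Q.isPGroup'.map H.subtype).of_equiv (Subgroup.subgroupOfEquivOfLe Subgroup.le_normalizer).symm
  haveI : Nontrivial Q'' := by
    rw [(Subgroup.subgroupOfEquivOfLe (show Q' ≤ N from Subgroup.le_normalizer)).toEquiv.nontrivial_congr,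
      Subgroup.nontrivial_iff_ne_bot, ne_eq,
      Subgroup.map_eq_bot_iff_of_injective _ H.subtype_injective]
    exact Q.ne_bot_of_dvd_card hqH
  haveI : Nontrivial V := by
    rw [Subgroup.nontrivial_iff_ne_bot, ne_eq,
      Subgroup.map_eq_bot_iff_of_injective _ Q''.subtype_injective]
    exact ne_of_gt hQ''q.bot_lt_center
  have hVH : V ≤ H.subgroupOf N := fun v hv => hQH ((Subgroup.map_subtype_le _ hv : v ∈ Q'') : (v : G) ∈ Q')
  have hpV : ¬ p ∣ Nat.card V := by
    obtain ⟨i, hi⟩ := IsPGroup.iff_card.mp (hQ''q.to_le (Subgroup.map_subtype_le _ : V ≤ Q''))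
    rw [hi]
    exact fun h => hqp ((Nat.prime_dvd_prime_iff_eq hp.out hq).mp (hp.out.dvd_of_dvd_pow h)).symm
  have hle := CfsgLib.HughesThompson.relIndex_le V hVH (p := p)
    (fun g hg => Subtype.ext (by
      rw [Subgroup.coe_pow, Subgroup.coe_one]
      exact hout (g : G) hg)) hpV P.isPGroup'
  rw [hPidx, ha] at hle
  have h1 : H.index ≠ 1 := mt Subgroup.index_eq_one.mp hH
  rw [ha] at h1
  have ha1 : a ≤ 1 := by
    by_contra h
    have h2 : p * p ≤ p ^ a := by
      rw [← pow_two]; exact Nat.pow_le_pow_right hp.out.pos (by omega)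
    have := hp.out.two_le
    nlinarith
  interval_cases a
  · simp at h1
  · rw [ha, pow_one]

/-- Let G be a finite group and p a prime such that G is not a p-group, and suppose the Hughes subgroup H_p(G), generated by all elements g with g^p ≠ 1, is a proper subgroup. Then H_p(G) is nilpotent and has index p in G. -/
theorem result {G : Type*} [Group G] [Finite G] (p : ℕ) (hp : p.Prime) (hG : ¬ IsPGroup p G)
    (hH : Subgroup.closure {g : G | g ^ p ≠ 1} ≠ ⊤) :
    Group.IsNilpotent (Subgroup.closure {g : G | g ^ p ≠ 1}) ∧ (Subgroup.closure {g : G | g ^ p ≠ 1}).index = p := by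
  classical
  haveI := Fact.mk hp
  set H := Subgroup.closure {g : G | g ^ p ≠ 1} with hHdef
  have hout : ∀ g : G, g ∉ H → g ^ p = 1 := fun g hg =>
    by_contra fun h => hg (Subgroup.subset_closure h)
  haveI hHn : H.Normal := Subgroup.Normal.mk fun n hn g => by
    have hle : H ≤ H.comap (MulAut.conj g).toMonoidHom := by
      refine (Subgroup.closure_le _).mpr fun a ha => Subgroup.subset_closure ?_
      show (g * a * g⁻¹) ^ p ≠ 1
      rw [conj_pow, ne_eq, conj_eq_one_iff]
      exact ha
    exact hle hn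
  have hidx : H.index = p := index_eq H hout hH hG
  exact ⟨CfsgLib.HughesThompson.isNilpotent_of_index_prime (Nat.card G) G le_rfl H hHn hidx hout,
    hidx⟩

end Cfsg.Agent.S4249
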