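import Cfsg.Statements.S4250
import Cfsg.Agent.Lib.Fusion.TameAlperin
open scoped commutatorElement

-- import your own Cfsg.Agent.* helpers here

set_option autoImplicit false
set_option linter.style.haveILetI false
open Cfsg

namespace Cfsg.Agent.S4250

open CfsgLib.TameAlperin in
/-- The factors of a moving list telescope into commutators. -/
theorem tele {G : Type*} [Group G] {p : ℕ} (P : Sylow p G) (R : Subgroup G)
    (h1 : ∀ Q : Sylow p G, IsTame P Q → ∀ a ∈ (P : Subgroup G) ⊓ (Q : Subgroup G), ∀ w : G,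
      w ∈ Subgroup.normalizer (((P : Subgroup G) ⊓ (Q : Subgroup G) : Subgroup G) : Set G) ∧ (∃ k : ℕ, orderOf w = p ^ k) →
      ⁅a⁻¹, w⁻¹⁆ ∈ R)
    (h2 : ∀ a ∈ (P : Subgroup G), ∀ w ∈ Subgroup.normalizer ((P : Subgroup G) : Set G), ⁅a⁻¹, w⁻¹⁆ ∈ R) :
    ∀ (L : List (Sylow p G × G)) (a : G), Moves P {a} L → a⁻¹ * ((val L)⁻¹ * a * val L) ∈ R
  | [], a, _ => by simp [val]
  | s :: L, a, ⟨⟨hn, ht, hs⟩, hsub, hM⟩ => by
    have ha := hsub rfl
    have hc : ⁅a⁻¹, s.2⁻¹⁆ ∈ R := by
      rcases hs with hs | hs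
      · rw [hs, inf_idem] at hn ha
        exact h2 a ha s.2 hn
      · exact h1 s.1 ht a ha s.2 ⟨hn, hs⟩
    have ih := tele P R h1 h2 L (s.2⁻¹ * a * s.2) (by simpa [cj] using hM)
    have := mul_mem hc ih
    rw [val_cons]
    simpa [commutatorElement_def, mul_assoc, mul_inv_rev] using this

/-- Let P be a Sylow p-subgroup of a finite group G. Call an intersection H = P ∩ Q with a Sylow p-subgroup Q tame when N_P(H) and N_Q(H) are Sylow p-subgroups of N_G(H). Then P ∩ G′ is generated by [P, N_G(P)] together with the commutator subgroups [P ∩ Q, ⟨x⟩] for all tame intersections P ∩ Q and all p-elements x of N_G(P ∩ Q). -/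
theorem result {G : Type*} [Group G] [Finite G] (p : ℕ) [Fact p.Prime] (P : Sylow p G) :
    (P : Subgroup G) ⊓ commutator G =
      ⁅(P : Subgroup G), Subgroup.normalizer ((P : Subgroup G) : Set G)⁆ ⊔
        ⨆ (Q : Sylow p G) (_ : (¬ p ∣ ((P : Subgroup G) ⊓ Subgroup.normalizer (((P : Subgroup G) ⊓ (Q : Subgroup G) : Subgroup G) : Set G)).relIndex (Subgroup.normalizer (((P : Subgroup G) ⊓ (Q : Subgroup G) : Subgroup G) : Set G)) ∧ ¬ p ∣ ((Q : Subgroup G) ⊓ Subgroup.normalizer (((P : Subgroup G) ⊓ (Q : Subgroup G) : Subgroup G) : Set G)).relIndex (Subgroup.normalizer (((P : Subgroup G) ⊓ (Q : Subgroup G) : Subgroup G) : Set G))))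
          (x : G) (_ : x ∈ Subgroup.normalizer (((P : Subgroup G) ⊓ (Q : Subgroup G) : Subgroup G) : Set G) ∧ ∃ k : ℕ, orderOf x = p ^ k),
          ⁅(P : Subgroup G) ⊓ (Q : Subgroup G), Subgroup.zpowers x⁆ := by

  set R := ⁅(P : Subgroup G), Subgroup.normalizer ((P : Subgroup G) : Set G)⁆ ⊔
        ⨆ (Q : Sylow p G) (_ : CfsgLib.TameAlperin.IsTame P Q) (x : G)
          (_ : x ∈ Subgroup.normalizer (((P : Subgroup G) ⊓ (Q : Subgroup G) : Subgroup G) : Set G) ∧ ∃ k : ℕ, orderOf x = p ^ k),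
          ⁅(P : Subgroup G) ⊓ (Q : Subgroup G), Subgroup.zpowers x⁆ with hR
  show (P : Subgroup G) ⊓ commutator G = R
  apply le_antisymm
  · rw [inf_comm, Subgroup.commutator_inf_eq_focalSubgroup P, Subgroup.focalSubgroup_def, Subgroup.closure_le]
    rintro g ⟨hgP, x, hx, u, rfl⟩
    have hA : ({x⁻¹} : Set G) ⊆ (P : Set G) := Set.singleton_subset_iff.mpr (inv_mem (show x ∈ (P : Subgroup G) from hx))
    have h2 : u * x⁻¹ * u⁻¹ ∈ (P : Subgroup G) := by
      have := mul_mem (inv_mem hx) hgP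
      simpa [commutatorElement_def, mul_assoc] using this
    obtain ⟨L, hL, hM⟩ := CfsgLib.TameAlperin.exists_factorisation P {x⁻¹} u⁻¹ hA
      (by rw [CfsgLib.TameAlperin.cj, Set.image_singleton, inv_inv]; exact Set.singleton_subset_iff.mpr h2)
    have := tele P R (fun Q hQ a ha w hw => ?_) (fun a ha w hw => ?_) L x⁻¹ hM
    · rw [hL] at this
      simpa [commutatorElement_def, mul_assoc] using this
    · refine Subgroup.mem_sup_right ?_
      refine Subgroup.mem_iSup_of_mem Q (Subgroup.mem_iSup_of_mem hQ (Subgroup.mem_iSup_of_mem w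
        (Subgroup.mem_iSup_of_mem hw ?_)))
      exact Subgroup.commutator_mem_commutator (inv_mem ha) (inv_mem (Subgroup.mem_zpowers w))
    · exact Subgroup.mem_sup_left (Subgroup.commutator_mem_commutator (inv_mem ha) (inv_mem hw))
  · refine sup_le (le_inf ?_ ?_) (iSup_le fun Q => iSup_le fun _ => iSup_le fun x => iSup_le fun hx => le_inf ?_ ?_)
    · exact Subgroup.le_normalizer_iff_commutator_le_left.mp le_rfl
    · exact Subgroup.commutator_mono le_top le_top
    · refine (Subgroup.le_normalizer_iff_commutator_le_left.mp ?_).trans inf_le_left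
      exact Subgroup.zpowers_le.mpr hx.1
    · exact Subgroup.commutator_mono le_top le_top

end Cfsg.Agent.S4250
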