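import Cfsg.Statements.S4251
import Cfsg.Agent.Lib.Fusion.TameAlperin
import Cfsg.Agent.Lib.Transfer.NormalComplement

-- import your own Cfsg.Agent.* helpers here

set_option autoImplicit false
set_option linter.style.haveILetI false
open Cfsg

namespace Cfsg.Agent.S4251

open CfsgLib.TameAlperin in
/-- A moving list acts on each element as some element of `P`. -/
theorem chain {G : Type*} [Group G] {p : ℕ} (P : Sylow p G)
    (h1 : ∀ Q : Sylow p G, IsTame P Q → ∀ a ∈ (P : Subgroup G) ⊓ (Q : Subgroup G),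
      ∀ w ∈ Subgroup.normalizer (((P : Subgroup G) ⊓ (Q : Subgroup G) : Subgroup G) : Set G),
      ∃ k ∈ (P : Subgroup G), w⁻¹ * a * w = k⁻¹ * a * k) :
    ∀ (L : List (Sylow p G × G)) (a : G), Moves P {a} L →
      ∃ k ∈ (P : Subgroup G), (val L)⁻¹ * a * val L = k⁻¹ * a * k
  | [], a, _ => ⟨1, one_mem _, by simp [val]⟩
  | s :: L, a, ⟨⟨hn, ht, _⟩, hsub, hM⟩ => by
    obtain ⟨k, hk, e⟩ := h1 s.1 ht a (hsub rfl) s.2 hn
    obtain ⟨k', hk', e'⟩ := chain P h1 L (s.2⁻¹ * a * s.2) (by simpa [cj] using hM)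
    refine ⟨k * k', mul_mem hk hk', ?_⟩
    rw [val_cons, mul_inv_rev, mul_inv_rev]
    calc (val L)⁻¹ * s.2⁻¹ * a * (s.2 * val L) = (val L)⁻¹ * (s.2⁻¹ * a * s.2) * val L := by group
      _ = k'⁻¹ * (s.2⁻¹ * a * s.2) * k' := e'
      _ = k'⁻¹ * k⁻¹ * a * (k * k') := by rw [e]; group

/-- Let P be a Sylow p-subgroup of a finite group G. Call an intersection H = P ∩ Q with a Sylow p-subgroup Q tame when N_P(H) and N_Q(H) are Sylow p-subgroups of N_G(H). If N_G(H)/C_G(H) is a p-group for every nontrivial tame intersection H = P ∩ Q, then G has a normal p-complement. -/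
theorem result {G : Type*} [Group G] [Finite G] (p : ℕ) [Fact p.Prime] (P : Sylow p G)
    (h : ∀ Q : Sylow p G, (P : Subgroup G) ⊓ (Q : Subgroup G) ≠ ⊥ → (¬ p ∣ ((P : Subgroup G) ⊓ Subgroup.normalizer (((P : Subgroup G) ⊓ (Q : Subgroup G) : Subgroup G) : Set G)).relIndex (Subgroup.normalizer (((P : Subgroup G) ⊓ (Q : Subgroup G) : Subgroup G) : Set G)) ∧ ¬ p ∣ ((Q : Subgroup G) ⊓ Subgroup.normalizer (((P : Subgroup G) ⊓ (Q : Subgroup G) : Subgroup G) : Set G)).relIndex (Subgroup.normalizer (((P : Subgroup G) ⊓ (Q : Subgroup G) : Subgroup G) : Set G))) →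
      IsPGroup p (Subgroup.normalizer (((P : Subgroup G) ⊓ (Q : Subgroup G) : Subgroup G) : Set G) ⧸
        (Subgroup.centralizer (((P : Subgroup G) ⊓ (Q : Subgroup G) : Subgroup G) : Set G)).subgroupOf
          (Subgroup.normalizer (((P : Subgroup G) ⊓ (Q : Subgroup G) : Subgroup G) : Set G)))) :
    Cfsg.HasNormalPComplement p G := by

  have step : ∀ Q : Sylow p G, CfsgLib.TameAlperin.IsTame P Q → ∀ a ∈ (P : Subgroup G) ⊓ (Q : Subgroup G),
      ∀ w ∈ Subgroup.normalizer (((P : Subgroup G) ⊓ (Q : Subgroup G) : Subgroup G) : Set G),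
      ∃ k ∈ (P : Subgroup G), w⁻¹ * a * w = k⁻¹ * a * k := by
    intro Q hQ a ha w hw
    by_cases hbot : (P : Subgroup G) ⊓ (Q : Subgroup G) = ⊥
    · rw [hbot, Subgroup.mem_bot] at ha
      exact ⟨1, one_mem _, by simp [ha]⟩
    have hp := h Q hbot hQ
    set H := (P : Subgroup G) ⊓ (Q : Subgroup G) with hH
    set N := Subgroup.normalizer (H : Set G) with hN
    set C := (Subgroup.centralizer (H : Set G)).subgroupOf N with hC
    set S := ((P : Subgroup G) ⊓ N).subgroupOf N with hS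
    have htop : C ⊔ S = ⊤ := by
      refine Subgroup.index_eq_one.mp ?_
      obtain ⟨n, hn⟩ := IsPGroup.iff_card.mp hp
      have d1 : (C ⊔ S).index ∣ C.index := Subgroup.index_dvd_of_le le_sup_left
      have d2 : (C ⊔ S).index ∣ S.index := Subgroup.index_dvd_of_le le_sup_right
      rw [Subgroup.index_eq_card (H := C), hn] at d1
      have h3 : Nat.Coprime (p ^ n) S.index := (((Fact.out : p.Prime).coprime_iff_not_dvd).mpr hQ.1).pow_left n
      exact Nat.eq_one_of_dvd_coprimes h3 d1 d2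
    obtain ⟨c, hc, s, hs, hcs⟩ := Subgroup.mem_sup_of_normal_left.mp (htop ▸ Subgroup.mem_top (⟨w, hw⟩ : N) : _ ∈ C ⊔ S)
    have hw' : w = (c : G) * (s : G) := by rw [← Subgroup.coe_mul, hcs]
    refine ⟨s, (Subgroup.mem_inf.mp hs).1, ?_⟩
    have hca : a * (c : G) = (c : G) * a := Subgroup.mem_centralizer_iff.mp hc a ha
    rw [hw']
    calc ((c : G) * (s : G))⁻¹ * a * ((c : G) * (s : G)) = (s : G)⁻¹ * (c : G)⁻¹ * (a * (c : G)) * (s : G) := by group
      _ = (s : G)⁻¹ * a * (s : G) := by rw [hca]; group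
  refine CfsgLib.Transfer.hasNormalPComplement_of_frobeniusCond
    (CfsgLib.Transfer.frobeniusCond_of_controls P fun x hx g hg => ?_)
  obtain ⟨L, hL, hM⟩ := CfsgLib.TameAlperin.exists_factorisation P {x} g⁻¹ (Set.singleton_subset_iff.mpr hx)
    (by rw [CfsgLib.TameAlperin.cj, Set.image_singleton, inv_inv]; exact Set.singleton_subset_iff.mpr hg)
  obtain ⟨k, hk, e⟩ := chain P step L x hM
  rw [hL, inv_inv] at e
  exact ⟨k⁻¹, inv_mem hk, by rw [inv_inv]; exact e.symm⟩

end Cfsg.Agent.S4251
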