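import Cfsg.Statements.S4252
-- import your own Cfsg.Agent.* helpers here

set_option autoImplicit false
set_option linter.style.haveILetI false
open Cfsg
open scoped Pointwise

namespace Cfsg.Agent.S4252

/-- Let a finite group G act on a finite set Ω with more than one point, transitively but not regularly, so that no non-identity element of G fixes two distinct points. Then the stabilizer H of any point is a Frobenius complement in G (nontrivial, proper, meeting its other conjugates trivially), and the Frobenius kernel of G with respect to H (the identity together with the elements lying in no conjugate of H) is exactly the set consisting of the identity and the elements fixing no point. -/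
theorem result {G Ω : Type*} [Group G] [Finite G] [Fintype Ω] [MulAction G Ω] (hΩ : 1 < Fintype.card Ω)
    (htrans : ∀ α β : Ω, ∃ g : G, g • α = β) (hnreg : ∃ g : G, g ≠ 1 ∧ ∃ α : Ω, g • α = α)
    (hfix : ∀ g : G, g ≠ 1 → ∀ α β : Ω, g • α = α → g • β = β → α = β) (α : Ω) :
    Cfsg.IsFrobeniusComplement (MulAction.stabilizer G α) ∧
      Cfsg.frobeniusKernel (MulAction.stabilizer G α) = {g : G | g = 1 ∨ ∀ ω : Ω, g • ω ≠ ω} := by
  obtain ⟨g₀, hg₀, β, hβ⟩ := hnreg
  have hconj : ∀ g x : G, x ∈ MulAut.conj g • MulAction.stabilizer G α ↔ x • (g • α) = g • α := by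
    intro g x
    rw [Subgroup.mem_pointwise_smul_iff_inv_smul_mem, MulAut.smul_def, MulAut.conj_inv_apply,
      MulAction.mem_stabilizer_iff, mul_smul, mul_smul, inv_smul_eq_iff]
  refine ⟨⟨?_, ?_, ?_⟩, ?_⟩
  · intro hbot
    obtain ⟨t, ht⟩ := htrans α β
    have h : g₀ ∈ MulAut.conj t • MulAction.stabilizer G α := by rw [hconj, ht]; exact hβ
    rw [hbot, Subgroup.smul_bot, Subgroup.mem_bot] at h
    exact hg₀ h
  · intro htop
    obtain ⟨b, hb⟩ := Fintype.exists_ne_of_one_lt_card hΩ α
    obtain ⟨t, ht⟩ := htrans α b
    have : t ∈ MulAction.stabilizer G α := htop ▸ Subgroup.mem_top t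
    exact hb (ht.symm.trans this)
  · intro g hg
    rw [Subgroup.eq_bot_iff_forall]
    rintro x ⟨h1, h2⟩
    by_contra hx
    exact hg (hfix x hx (g • α) α ((hconj g x).mp h2) h1)
  · ext x
    constructor
    · rintro (rfl | hx)
      · exact Or.inl rfl
      · refine Or.inr fun ω hω => ?_
        obtain ⟨t, rfl⟩ := htrans α ω
        exact hx t ((hconj t x).mpr hω)
    · rintro (rfl | hx)
      · exact Or.inl rfl
      · exact Or.inr fun g h => hx _ ((hconj g x).mp h)

end Cfsg.Agent.S4252
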