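import Cfsg.Statements.S4253
-- import your own Cfsg.Agent.* helpers here

set_option autoImplicit false
set_option linter.style.haveILetI false
open Cfsg
open scoped Pointwise

namespace Cfsg.Agent.S4253

/-- Let H be a Frobenius complement in a finite group G (a nontrivial proper subgroup meeting each conjugate gHg⁻¹ with g outside H trivially). Then in the action of G on the left cosets of H by left multiplication, no non-identity element of G fixes two distinct cosets. -/
theorem result {G : Type*} [Group G] [Finite G] (H : Subgroup G) (hH : Cfsg.IsFrobeniusComplement H)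
    (g : G) (hg : g ≠ 1) (a b : G ⧸ H) (ha : g • a = a) (hb : g • b = b) : a = b := by
  obtain ⟨x, rfl⟩ := QuotientGroup.mk_surjective a
  obtain ⟨y, rfl⟩ := QuotientGroup.mk_surjective b
  rw [MulAction.Quotient.smul_mk, QuotientGroup.eq] at ha hb
  rw [smul_eq_mul] at ha hb
  by_contra hne
  have hz : x⁻¹ * y ∉ H := fun h => hne (QuotientGroup.eq.mpr h)
  have h1 : x⁻¹ * g * x ∈ H := by
    have := H.inv_mem ha; simpa [mul_assoc] using this
  have h2 : y⁻¹ * g * y ∈ H := by
    have := H.inv_mem hb; simpa [mul_assoc] using this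
  have hm : x⁻¹ * g * x ∈ H ⊓ (MulAut.conj (x⁻¹ * y) • H) := by
    refine ⟨h1, ?_⟩
    show x⁻¹ * g * x ∈ MulAut.conj (x⁻¹ * y) • H
    rw [Subgroup.mem_pointwise_smul_iff_inv_smul_mem, MulAut.smul_def, MulAut.conj_inv_apply]
    have : (x⁻¹ * y)⁻¹ * (x⁻¹ * g * x) * (x⁻¹ * y) = y⁻¹ * g * y := by group
    rw [this]
    exact h2
  rw [hH.2.2 _ hz, Subgroup.mem_bot] at hm
  apply hg
  have : g = x * (x⁻¹ * g * x) * x⁻¹ := by group
  rw [this, hm]
  simp

end Cfsg.Agent.S4253
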