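import Cfsg.Statements.S4255
import Cfsg.Agent.Lib.Structure.ClassGraph
-- import your own Cfsg.Agent.* helpers here

set_option autoImplicit false
set_option linter.style.haveILetI false
open Cfsg

namespace Cfsg.Agent.S4255

/-- Let G be a finite group. Call a prime a vertex if it divides some conjugacy class size of G, and two distinct vertices adjacent if their product divides some class size. Suppose this graph is disconnected: the vertices split into two nonempty parts with no vertex of one part adjacent to a vertex of the other. Then G/Z(G) is a Frobenius group with abelian Frobenius complement and with a Frobenius kernel all of whose elements commute. -/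
theorem result {G : Type*} [Group G] [Finite G] (S : Set ℕ) (hS : ∃ p ∈ S, (p.Prime ∧ ∃ g : G, p ∣ (Subgroup.centralizer ({g} : Set G)).index)) (hS' : ∃ q ∉ S, (q.Prime ∧ ∃ g : G, q ∣ (Subgroup.centralizer ({g} : Set G)).index))
    (hdisc : ∀ p q : ℕ, (p.Prime ∧ ∃ g : G, p ∣ (Subgroup.centralizer ({g} : Set G)).index) → (q.Prime ∧ ∃ g : G, q ∣ (Subgroup.centralizer ({g} : Set G)).index) → p ∈ S → q ∉ S → ¬ (∃ g : G, p * q ∣ (Subgroup.centralizer ({g} : Set G)).index)) :
    ∃ H : Subgroup (G ⧸ Subgroup.center G), Cfsg.IsFrobeniusComplement H ∧ IsMulCommutative H ∧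
      ∀ x ∈ Cfsg.frobeniusKernel H, ∀ y ∈ Cfsg.frobeniusKernel H, x * y = y * x := by
  classical
  haveI : Nonempty G := ⟨1⟩
  obtain ⟨y, hmax⟩ := Finite.exists_max (fun g : G => CfsgLib.ClassGraph.idx g)
  have hpure : ∀ g : G, CfsgLib.ClassGraph.TNum S (CfsgLib.ClassGraph.idx g) ∨
      CfsgLib.ClassGraph.TNum Sᶜ (CfsgLib.ClassGraph.idx g) := by
    intro g
    by_contra h
    simp only [CfsgLib.ClassGraph.TNum, not_or, not_forall] at h
    obtain ⟨⟨q, hq, hqd, hqS⟩, ⟨p, hp, hpd, hpS⟩⟩ := h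
    have hpS' : p ∈ S := not_not.mp hpS
    have hne : p ≠ q := fun e => hqS (e ▸ hpS')
    exact hdisc p q ⟨hp, g, hpd⟩ ⟨hq, g, hqd⟩ hpS' hqS
      ⟨g, ((Nat.coprime_primes hp hq).mpr hne).mul_dvd_of_dvd_of_dvd hpd hqd⟩
  have hlt : ∀ {g : G} {p : ℕ}, p.Prime → p ∣ CfsgLib.ClassGraph.idx g → 1 < CfsgLib.ClassGraph.idx g :=
    fun {g _} hp hd => hp.one_lt.trans_le (Nat.le_of_dvd (Nat.pos_of_ne_zero (CfsgLib.ClassGraph.idx_ne_zero g)) hd)
  obtain ⟨p, hpS, hp, g, hpg⟩ := hS
  obtain ⟨q, hqS, hq, g', hqg⟩ := hS'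
  have hy1 := (hlt hp hpg).trans_le (hmax g)
  rcases hpure y with h | h
  · exact CfsgLib.ClassGraph.frobenius_of_pure hpure y h hy1 hmax g'
      ((hpure g').resolve_left fun h' => hqS (h' q hq hqg)) (hlt hq hqg)
  · refine CfsgLib.ClassGraph.frobenius_of_pure (T := Sᶜ) (fun a => ?_) y h hy1 hmax g ?_ (hlt hp hpg)
    · rw [compl_compl]; exact (hpure a).symm
    · rw [compl_compl]
      exact (hpure g).resolve_right fun h' => h' p hp hpg hpS

end Cfsg.Agent.S4255
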