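import Cfsg.Statements.S4257
import Cfsg.Agent.Lib.Structure.ClassDiameter
-- import your own Cfsg.Agent.* helpers here

set_option autoImplicit false
set_option linter.style.haveILetI false
open Cfsg

namespace Cfsg.Agent.S4257

/-- Let G be a finite group. Call a prime a vertex if it divides some conjugacy class size of G, and two distinct vertices adjacent if their product divides some class size. If this graph is connected, then its diameter is at most 3: any two distinct vertices p and q are adjacent, or joined through one or two intermediate vertices. -/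
theorem result {G : Type*} [Group G] [Finite G]
    (hconn : ∀ S : Set ℕ, (∃ p ∈ S, (p.Prime ∧ ∃ g : G, p ∣ (Subgroup.centralizer ({g} : Set G)).index)) → (∃ q ∉ S, (q.Prime ∧ ∃ g : G, q ∣ (Subgroup.centralizer ({g} : Set G)).index)) →
      ∃ p q : ℕ, (p.Prime ∧ ∃ g : G, p ∣ (Subgroup.centralizer ({g} : Set G)).index) ∧ (q.Prime ∧ ∃ g : G, q ∣ (Subgroup.centralizer ({g} : Set G)).index) ∧ p ∈ S ∧ q ∉ S ∧ (∃ g : G, p * q ∣ (Subgroup.centralizer ({g} : Set G)).index))
    (p q : ℕ) (hp : (p.Prime ∧ ∃ g : G, p ∣ (Subgroup.centralizer ({g} : Set G)).index)) (hq : (q.Prime ∧ ∃ g : G, q ∣ (Subgroup.centralizer ({g} : Set G)).index)) (hpq : p ≠ q) :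
    (∃ g : G, p * q ∣ (Subgroup.centralizer ({g} : Set G)).index) ∨ (∃ r : ℕ, (r.Prime ∧ ∃ g : G, r ∣ (Subgroup.centralizer ({g} : Set G)).index) ∧ r ≠ p ∧ r ≠ q ∧ (∃ g : G, p * r ∣ (Subgroup.centralizer ({g} : Set G)).index) ∧ (∃ g : G, r * q ∣ (Subgroup.centralizer ({g} : Set G)).index)) ∨
      (∃ r s : ℕ, (r.Prime ∧ ∃ g : G, r ∣ (Subgroup.centralizer ({g} : Set G)).index) ∧ (s.Prime ∧ ∃ g : G, s ∣ (Subgroup.centralizer ({g} : Set G)).index) ∧ r ≠ p ∧ s ≠ q ∧ r ≠ s ∧ r ≠ q ∧ s ≠ p ∧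
        (∃ g : G, p * r ∣ (Subgroup.centralizer ({g} : Set G)).index) ∧ (∃ g : G, r * s ∣ (Subgroup.centralizer ({g} : Set G)).index) ∧ (∃ g : G, s * q ∣ (Subgroup.centralizer ({g} : Set G)).index)) := by
  exact CfsgLib.ClassDiameter.distance_le_three hconn p q hp hq hpq

end Cfsg.Agent.S4257
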