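import Cfsg.Statements.S4261
import Cfsg.Agent.Lib.Structure.IndexPowers
-- import your own Cfsg.Agent.* helpers here

set_option autoImplicit false
set_option linter.style.haveILetI false
open Cfsg

namespace Cfsg.Agent.S4261

/-- A nontrivial finite solvable group has a nontrivial normal subgroup of prime power order. -/
theorem exists_normal_pgroup_of_solvable {G : Type*} [Group G] [Finite G] [Nontrivial G]
    [Group.IsSolvable G] :
    ∃ (p : ℕ), Fact p.Prime ∧ ∃ N : Subgroup G, N.Normal ∧ IsPGroup p N ∧ N ≠ ⊥ := by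
  classical
  have hex : ∃ n, derivedSeries G n = ⊥ := Group.IsSolvable.solvable
  obtain ⟨k, hk⟩ : ∃ k, Nat.find hex = k + 1 := Nat.exists_eq_succ_of_ne_zero fun h0 => by
    have h := Nat.find_spec hex
    rw [h0, derivedSeries_zero] at h
    exact top_ne_bot h
  have hA : derivedSeries G k ≠ ⊥ := Nat.find_min hex (by omega)
  have hAA : ⁅derivedSeries G k, derivedSeries G k⁆ = ⊥ := by
    rw [← derivedSeries_succ, ← hk]; exact Nat.find_spec hex
  haveI : (derivedSeries G k).Normal := derivedSeries_normal G k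
  haveI : IsMulCommutative (derivedSeries G k) :=
    Subgroup.le_centralizer_iff_isMulCommutative.mp
      (Subgroup.commutator_eq_bot_iff_le_centralizer.mp hAA)
  obtain ⟨p, hp, hpd⟩ := Nat.exists_prime_and_dvd
    (mt (Subgroup.card_eq_one (H := derivedSeries G k)).mp hA)
  haveI : Fact p.Prime := ⟨hp⟩
  let P : Sylow p (derivedSeries G k) := default
  haveI : (P : Subgroup (derivedSeries G k)).Normal := Subgroup.normal_of_isMulCommutative _
  haveI : (P : Subgroup (derivedSeries G k)).Characteristic :=
    Sylow.characteristic_of_normal P inferInstance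
  refine ⟨p, ⟨hp⟩, (P : Subgroup _).map (derivedSeries G k).subtype,
    ConjAct.normal_of_characteristic_of_normal, P.isPGroup'.map _, ?_⟩
  rw [ne_eq, Subgroup.map_eq_bot_iff_of_injective _ (Subgroup.subtype_injective _)]
  exact P.ne_bot_of_dvd_card hpd

/-- Let M be a maximal subgroup of a finite solvable group G such that x^[G : M] lies in M for every x in G. Then M is normal in G. -/
theorem result {G : Type*} [Group G] [Finite G] (hG : Group.IsSolvable G) (M : Subgroup G) (hM : IsCoatom M)
    (hexp : ∀ x : G, x ^ M.index ∈ M) : M.Normal := by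
  classical
  haveI := hG
  let f := QuotientGroup.mk' M.normalCore
  have hf : Function.Surjective f := QuotientGroup.mk'_surjective _
  have hker : f.ker ≤ M := by rw [QuotientGroup.ker_mk']; exact M.normalCore_le
  set M' := M.map f with hM'def
  have hcom : M'.comap f = M := Subgroup.comap_map_eq_self hker
  suffices h : M'.Normal by
    haveI := h
    exact hcom ▸ (h.comap f)
  have hidx : M'.index = M.index := Subgroup.index_map_eq M hf hker
  have hexp' : ∀ y, y ^ M'.index ∈ M' := by
    intro y
    obtain ⟨x, rfl⟩ := hf y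
    rw [hidx, ← map_pow]
    exact Subgroup.mem_map_of_mem _ (hexp x)
  have hM'coatom : IsCoatom M' := by
    refine ⟨fun h => hM.1 (by rw [← hcom, h, Subgroup.comap_top]), fun K hK => ?_⟩
    have h1 : M < K.comap f := by
      exact lt_of_eq_of_lt hcom.symm ((Subgroup.comap_lt_comap_of_surjective hf).mpr hK)
    have h2 := hM.2 _ h1
    rw [← Subgroup.map_comap_eq_self_of_surjective hf K, h2,
      Subgroup.map_top_of_surjective _ hf]
  have hcore : ∀ N : Subgroup (G ⧸ M.normalCore), N.Normal → N ≤ M' → N = ⊥ := by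
    intro N hN hle
    haveI := hN
    have h1 : N.comap f ≤ M.normalCore :=
      Subgroup.normal_le_normalCore.mpr (le_of_le_of_eq (Subgroup.comap_mono hle) hcom)
    rw [← Subgroup.map_comap_eq_self_of_surjective hf N]
    exact le_bot_iff.mp ((Subgroup.map_mono h1).trans (le_of_eq (by
      rw [Subgroup.map_eq_bot_iff, QuotientGroup.ker_mk'])))
  haveI : Nontrivial (G ⧸ M.normalCore) := by
    by_contra hnt
    haveI := not_nontrivial_iff_subsingleton.mp hnt
    exact hM'coatom.1 (Subsingleton.elim _ _)
  obtain ⟨p, hp, N, hN, hNp, hNne⟩ :=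
    exists_normal_pgroup_of_solvable (G := G ⧸ M.normalCore)
  haveI := hN
  have hNM : ¬ N ≤ M' := fun h => hNne (hcore N hN h)
  have hsup : M' ⊔ N = ⊤ := hM'coatom.2 _ (lt_of_le_of_ne le_sup_left fun h =>
    hNM (h ▸ le_sup_right))
  obtain ⟨a, ha⟩ : ∃ a, M'.index = p ^ a := by
    have h1 := CfsgLib.IndexPowers.relIndex_normal_eq M' N
    rw [hsup, Subgroup.relIndex_top_right] at h1
    haveI := hp
    obtain ⟨b, hb⟩ := IsPGroup.iff_card.mp hNp
    obtain ⟨c, -, hc⟩ := (Nat.dvd_prime_pow hp.out).mp
      (hb ▸ (show M'.index ∣ Nat.card N from h1 ▸ Subgroup.index_dvd_card (M'.subgroupOf N)))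
    exact ⟨c, hc⟩
  let S : Set (G ⧸ M.normalCore) := {y | ¬ p ∣ orderOf y}
  have hS : S ⊆ M' := by
    intro y hy
    obtain ⟨m, hm⟩ := exists_pow_eq_self_of_coprime (x := y) (n := M'.index) (by
      rw [ha]; exact Nat.Coprime.pow_left _ (hp.out.coprime_iff_not_dvd.mpr hy))
    rw [← hm]
    exact pow_mem (hexp' y) m
  have hK : Subgroup.normalClosure S = ⊥ := by
    refine hcore _ inferInstance ?_
    rw [Subgroup.normalClosure]
    refine (Subgroup.closure_le _).mpr fun y hy => hS ?_
    obtain ⟨s, hs, hc⟩ := Group.mem_conjugatesOfSet_iff.mp hy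
    obtain ⟨c, rfl⟩ := isConj_iff.mp hc
    show ¬ p ∣ orderOf (c * s * c⁻¹)
    rw [show c * s * c⁻¹ = MulAut.conj c s from rfl, MulEquiv.orderOf_eq]
    exact hs
  haveI := hp
  have hpg : IsPGroup p (G ⧸ M.normalCore) := by
    intro y
    refine ⟨(orderOf y).factorization p, ?_⟩
    have hmem : y ^ p ^ (orderOf y).factorization p ∈ S := by
      show ¬ p ∣ orderOf _
      rw [orderOf_pow_of_dvd (pow_ne_zero _ hp.out.ne_zero) (Nat.ordProj_dvd _ p)]
      exact Nat.not_dvd_ordCompl hp.out (orderOf_pos y).ne'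
    exact Subgroup.mem_bot.mp (hK ▸ Subgroup.subset_normalClosure hmem)
  haveI := hpg.isNilpotent
  exact Subgroup.NormalizerCondition.normal_of_coatom M' Group.normalizerCondition_of_isNilpotent hM'coatom

end Cfsg.Agent.S4261
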