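import Cfsg.Statements.S4262
import Cfsg.Agent.Lib.Structure.NilpotentMaximal
-- import your own Cfsg.Agent.* helpers here

set_option autoImplicit false
set_option linter.style.haveILetI false
open Cfsg
open scoped Pointwise

namespace Cfsg.Agent.S4262

theorem exists_primary_part {G : Type*} [Group G] [Finite G] {g : G}
    (hg : g ∉ Subgroup.center G) :
    ∃ p k : ℕ, p.Prime ∧ ∃ y ∈ Subgroup.zpowers g, y ∉ Subgroup.center G ∧ orderOf y = p ^ k := by
  suffices h : ∀ n : ℕ, ∀ y ∈ Subgroup.zpowers g, orderOf y = n → y ∉ Subgroup.center G →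
      ∃ p k : ℕ, p.Prime ∧ ∃ z ∈ Subgroup.zpowers g, z ∉ Subgroup.center G ∧ orderOf z = p ^ k from
    h _ g (Subgroup.mem_zpowers g) rfl hg
  intro n
  induction n using Nat.recOnPrimeCoprime with
  | zero => exact fun y _ hy => absurd hy (orderOf_pos y).ne'
  | prime_pow p k hp => exact fun y hy ho hc => ⟨p, k, hp, y, hy, hc, ho⟩
  | coprime a b ha hb hab iha ihb =>
    intro y hy ho hc
    by_cases h1 : y ^ b ∈ Subgroup.center G
    · refine ihb (y ^ a) (pow_mem hy a) ?_ fun h2 => hc ?_
      · rw [orderOf_pow, ho, Nat.gcd_eq_right (dvd_mul_right a b),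
          Nat.mul_div_cancel_left b (by omega)]
      · have h3 : y = (y ^ b) ^ (Nat.gcdB a b) * (y ^ a) ^ (Nat.gcdA a b) := by
          have := Nat.gcd_eq_gcd_ab a b
          rw [hab] at this
          calc y = y ^ (1 : ℤ) := (zpow_one y).symm
            _ = _ := by
              rw [← zpow_natCast y b, ← zpow_natCast y a, ← zpow_mul, ← zpow_mul, ← zpow_add]
              congr 1
              push_cast at this
              linarith
        rw [h3]
        exact mul_mem (zpow_mem h1 _) (zpow_mem h2 _)
    · refine iha (y ^ b) (pow_mem hy b) ?_ h1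
      rw [orderOf_pow, ho, Nat.gcd_eq_right (dvd_mul_left b a), Nat.mul_div_cancel a (by omega)]

theorem nilpotent_centralizer {G : Type*} [Group G] [Finite G]
    (h : ∀ g : G, g ∉ Subgroup.center G → IsCoatom (Subgroup.centralizer ({g} : Set G)))
    {g : G} (hg : g ∉ Subgroup.center G) :
    Group.IsNilpotent (Subgroup.centralizer ({g} : Set G)) := by
  obtain ⟨p, k, hp, y, hy, hyc, hyo⟩ := exists_primary_part hg
  haveI := Fact.mk hp
  have key : ∀ a b : G, a ∉ Subgroup.center G → b ∉ Subgroup.center G →
      Subgroup.centralizer ({a} : Set G) ≤ Subgroup.centralizer ({b} : Set G) →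
      Subgroup.centralizer ({a} : Set G) = Subgroup.centralizer ({b} : Set G) := fun a b ha hb hle =>
    by_contra fun hne => (h b hb).1 ((h a ha).2 _ (lt_of_le_of_ne hle hne))
  have heq : Subgroup.centralizer ({g} : Set G) = Subgroup.centralizer ({y} : Set G) := by
    refine key g y hg hyc fun c hc => ?_
    rw [Subgroup.mem_centralizer_singleton_iff] at hc ⊢
    obtain ⟨i, rfl⟩ := Subgroup.mem_zpowers_iff.mp hy
    exact ((show Commute c g from hc).zpow_right i).eq
  rw [heq]
  set M := Subgroup.centralizer ({y} : Set G) with hM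
  have hq : IsPGroup p (M ⧸ Subgroup.center M) := by
    intro q
    obtain ⟨u, rfl⟩ := QuotientGroup.mk_surjective q
    refine ⟨(orderOf u).factorization p, ?_⟩
    rw [← QuotientGroup.mk_pow, QuotientGroup.eq_one_iff]
    set z : M := u ^ p ^ (orderOf u).factorization p with hz
    have hzo : ¬ p ∣ orderOf z := by
      rw [hz, orderOf_pow_of_dvd (pow_ne_zero _ hp.ne_zero) (Nat.ordProj_dvd _ p)]
      exact Nat.not_dvd_ordCompl hp (orderOf_pos u).ne'
    have hcyz : Commute y (z : G) :=
      (Subgroup.mem_centralizer_singleton_iff.mp z.2).symm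
    have hco : (orderOf (z : G)).Coprime (orderOf y) := by
      rw [hyo, Subgroup.orderOf_coe]
      exact Nat.Coprime.pow_right k ((hp.coprime_iff_not_dvd.mpr hzo).symm)
    obtain ⟨m, hm1, hm2⟩ := Nat.chineseRemainder hco 0 1
    have hym : y = (y * (z : G)) ^ m := by
      rw [hcyz.mul_pow, ← pow_mod_orderOf y m, ← pow_mod_orderOf (z : G) m]
      rw [show m % orderOf y = 1 % orderOf y from hm2, show m % orderOf (z : G) = 0 % orderOf (z : G) from hm1,
        pow_mod_orderOf, pow_mod_orderOf, pow_one, pow_zero, mul_one]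
    have hyz : y * (z : G) ∉ Subgroup.center G := fun hc => hyc (hym ▸ pow_mem hc m)
    have heq2 : Subgroup.centralizer ({y * (z : G)} : Set G) = M := by
      refine key _ y hyz hyc fun c hc => ?_
      rw [Subgroup.mem_centralizer_singleton_iff] at hc ⊢
      conv_lhs => rw [hym]
      conv_rhs => rw [hym]
      exact ((show Commute c (y * (z : G)) from hc).pow_right m).eq
    rw [Subgroup.mem_center_iff]
    intro c
    apply Subtype.ext
    have hc1 : (c : G) ∈ Subgroup.centralizer ({y * (z : G)} : Set G) := heq2.symm ▸ c.2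
    rw [Subgroup.mem_centralizer_singleton_iff] at hc1
    have hc2 : (c : G) * y = y * (c : G) := Subgroup.mem_centralizer_singleton_iff.mp c.2
    show (c : G) * (z : G) = (z : G) * (c : G)
    apply mul_left_cancel (a := y)
    calc y * ((c : G) * (z : G)) = (c : G) * (y * (z : G)) := by
          rw [← mul_assoc, ← hc2, mul_assoc]
      _ = y * (z : G) * (c : G) := hc1
      _ = _ := mul_assoc _ _ _
  haveI := hq.isNilpotent
  exact Group.of_quotient_center_nilpotent inferInstance

/-- Let G be a finite group in which the centralizer of every non-central element is a maximal subgroup of G. Then G is solvable. -/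
theorem result {G : Type*} [Group G] [Finite G]
    (h : ∀ g : G, g ∉ Subgroup.center G → IsCoatom (Subgroup.centralizer ({g} : Set G))) :
    Group.IsSolvable G := by
  classical
  by_contra hns
  -- centralizers of noncentral elements are nilpotent
  have hnil : ∀ g : G, g ∉ Subgroup.center G →
      Group.IsNilpotent (Subgroup.centralizer ({g} : Set G)) := fun g hg =>
    nilpotent_centralizer h hg
  -- solvable normal subgroups are central
  have hcentral : ∀ N : Subgroup G, N.Normal → Group.IsSolvable N → N ≤ Subgroup.center G := by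
    intro N hN hsN x hx
    haveI := hN
    haveI := hsN
    rw [Subgroup.mem_center_iff]
    intro g
    by_cases hg : g ∈ Subgroup.center G
    · exact (Subgroup.mem_center_iff.mp hg x).symm
    by_contra hne
    haveI := hnil g hg
    have hnle : ¬ N ≤ Subgroup.centralizer ({g} : Set G) := fun hle =>
      hne (Subgroup.mem_centralizer_singleton_iff.mp (hle hx)).symm
    set M := Subgroup.centralizer ({g} : Set G)
    have htop : M ⊔ N = ⊤ := (h g hg).2 _
      (lt_of_le_of_ne le_sup_left fun he => hnle (le_trans le_sup_right he.ge))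
    haveI : Group.IsSolvable (G ⧸ N) := by
      refine Group.isSolvable_of_surjective (f := (QuotientGroup.mk' N).comp M.subtype) fun q => ?_
      obtain ⟨y, rfl⟩ := QuotientGroup.mk'_surjective N q
      have hy : y ∈ M ⊔ N := htop ▸ Subgroup.mem_top y
      have hy' : y ∈ (M : Set G) * (N : Set G) := by rw [← Subgroup.mul_normal]; exact hy
      obtain ⟨a, ha, b, hb, rfl⟩ := hy'
      exact ⟨⟨a, ha⟩, by simpa using (QuotientGroup.eq_one_iff b).mpr hb⟩
    exact hns ((Group.isSolvable_iff_subgroup_quotient N).mpr ⟨hsN, inferInstance⟩)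
  set Z := Subgroup.center G with hZ
  have hsolZ : Group.IsSolvable Z :=
    Group.isSolvable_of_comm fun a b => Subtype.ext (Subgroup.mem_center_iff.mp b.2 a)
  haveI := hsolZ
  have hrad : ∀ N : Subgroup (G ⧸ Z), N.Normal → Group.IsSolvable N → N = ⊥ := by
    intro N hN hsN
    haveI := hN
    haveI := hsN
    let π := (QuotientGroup.mk' Z).subgroupComap N
    haveI : Group.IsSolvable (N.comap (QuotientGroup.mk' Z)) := by
      refine Group.isSolvable_of_ker_le_range
        (Subgroup.inclusion (show Z ≤ N.comap (QuotientGroup.mk' Z) from fun z hz => by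
          show QuotientGroup.mk' Z z ∈ N
          rw [(QuotientGroup.eq_one_iff z).mpr hz |> fun e => (show QuotientGroup.mk' Z z = 1 from e)]
          exact one_mem N)) π ?_
      intro y hy
      exact ⟨⟨(y : G), (QuotientGroup.eq_one_iff (y : G)).mp (congrArg Subtype.val hy)⟩,
        Subtype.ext rfl⟩
    have hle := hcentral (N.comap (QuotientGroup.mk' Z)) inferInstance inferInstance
    rw [Subgroup.eq_bot_iff_forall]
    intro x hx
    obtain ⟨y, rfl⟩ := QuotientGroup.mk'_surjective Z x
    exact (QuotientGroup.eq_one_iff y).mpr (hle hx)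
  have hcov : ∀ q : G ⧸ Z, q ≠ 1 →
      ∃ M : Subgroup (G ⧸ Z), IsCoatom M ∧ Group.IsNilpotent M ∧ q ∈ M := by
    intro q hq
    obtain ⟨g, rfl⟩ := QuotientGroup.mk'_surjective Z q
    have hg : g ∉ Z := fun hg => hq ((QuotientGroup.eq_one_iff g).mpr hg)
    haveI := hnil g hg
    have hker : (QuotientGroup.mk' Z).ker ≤ Subgroup.centralizer ({g} : Set G) := by
      rw [QuotientGroup.ker_mk']
      exact Subgroup.center_le_centralizer _
    refine ⟨(Subgroup.centralizer ({g} : Set G)).map (QuotientGroup.mk' Z), ⟨?_, ?_⟩,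
      Group.nilpotent_of_surjective ((QuotientGroup.mk' Z).subgroupMap _)
        ((QuotientGroup.mk' Z).subgroupMap_surjective _),
      Subgroup.mem_map_of_mem _ (Subgroup.mem_centralizer_singleton_iff.mpr rfl)⟩
    · intro he
      apply (h g hg).1
      rw [← Subgroup.comap_map_eq_self hker, he, Subgroup.comap_top]
    · intro K hK
      have h1 : Subgroup.centralizer ({g} : Set G) < K.comap (QuotientGroup.mk' Z) :=
        lt_of_eq_of_lt (Subgroup.comap_map_eq_self hker).symm
          ((Subgroup.comap_lt_comap_of_surjective (QuotientGroup.mk'_surjective Z)).mpr hK)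
      rw [← Subgroup.map_comap_eq_self_of_surjective (QuotientGroup.mk'_surjective Z) K,
        (h g hg).2 _ h1, Subgroup.map_top_of_surjective _ (QuotientGroup.mk'_surjective Z)]
  haveI := CfsgLib.NilpotentMaximal.subsingleton_of_covered hrad hcov
  refine hns ((Group.isSolvable_iff_subgroup_quotient Z).mpr ⟨hsolZ, ?_⟩)
  exact Group.isSolvable_of_comm fun a b => Subsingleton.elim _ _

end Cfsg.Agent.S4262
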