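import Cfsg.Statements.S4263
import Cfsg.Agent.Lib.Structure.IndexPowers
-- import your own Cfsg.Agent.* helpers here

set_option autoImplicit false
open Cfsg

namespace Cfsg.Agent.S4263

/-- Let G be a finite group. An element x lies in the Fitting subgroup F(G) if and only if, for every subgroup H of G, the power x^[G : H] lies in H. -/
theorem result {G : Type*} [Group G] [Finite G] (x : G) :
    x ∈ Cfsg.fittingSubgroup G ↔ ∀ H : Subgroup G, x ^ H.index ∈ H := by
  haveI := CfsgLib.IndexPowers.normal_fitting (G := G)
  haveI := CfsgLib.IndexPowers.isNilpotent_fitting (G := G)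
  constructor
  · intro hx H
    have hsub := CfsgLib.IndexPowers.isSubnormal_of_normalizerCondition
      (Group.normalizerCondition_of_isNilpotent (G := Cfsg.fittingSubgroup G))
      (H.subgroupOf (Cfsg.fittingSubgroup G))
    have h1 := CfsgLib.IndexPowers.pow_index_mem_of_isSubnormal hsub ⟨x, hx⟩
    have h2 : x ^ (H.relIndex (Cfsg.fittingSubgroup G)) ∈ H := Subgroup.mem_subgroupOf.mp h1
    obtain ⟨c, hc⟩ := CfsgLib.IndexPowers.relIndex_dvd_index_of_isSubnormal
      (‹(Cfsg.fittingSubgroup G).Normal›.isSubnormal) H
    rw [hc, pow_mul]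
    exact pow_mem h2 c
  · intro hx
    classical
    -- every primary component of `x` lies in all Sylow subgroups for its prime
    suffices h : ∀ n : ℕ, ∀ y : G, orderOf y = n → (∀ H : Subgroup G, y ^ H.index ∈ H) →
        y ∈ Cfsg.fittingSubgroup G from h _ x rfl hx
    intro n
    induction n using Nat.recOnPrimeCoprime with
    | zero => exact fun y hy => absurd hy (orderOf_pos y).ne'
    | prime_pow q k hq =>
      intro y hy hyH
      haveI : Fact q.Prime := ⟨hq⟩
      apply CfsgLib.IndexPowers.pCore_le_fitting q
      have hall : ∀ P : Sylow q G, y ∈ P := by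
        intro P
        obtain ⟨m, hm⟩ := exists_pow_eq_self_of_coprime (x := y)
          (n := (P : Subgroup G).index) (by
            rw [hy]; exact Nat.Coprime.pow_right k (Nat.Coprime.symm
              ((hq.coprime_iff_not_dvd).mpr P.not_dvd_index)))
        rw [← hm]
        exact pow_mem (hyH P) m
      let N : Subgroup G := ⨅ P : Sylow q G, (P : Subgroup G)
      have hyN : y ∈ N := Subgroup.mem_iInf.mpr hall
      have hN : N.Normal := by
        refine Subgroup.Normal.mk fun a ha g => ?_
        rw [Subgroup.mem_iInf] at ha ⊢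
        intro P
        have h := ha (g⁻¹ • P)
        rw [Sylow.coe_subgroup_smul, Subgroup.mem_pointwise_smul_iff_inv_smul_mem] at h
        simpa [MulAut.smul_def, map_inv] using h
      have hNp : IsPGroup q N := (default : Sylow q G).isPGroup'.to_le (iInf_le _ default)
      exact le_sSup (s := {N : Subgroup G | N.Normal ∧ IsPGroup q N}) ⟨hN, hNp⟩ hyN
    | coprime a b ha hb hab iha ihb =>
      intro y hy hyH
      have hpow : ∀ c : ℕ, ∀ H : Subgroup G, (y ^ c) ^ H.index ∈ H := fun c H => by
        rw [← pow_mul, mul_comm, pow_mul]; exact pow_mem (hyH H) c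
      have h1 : y ^ b ∈ Cfsg.fittingSubgroup G := by
        refine iha _ ?_ (hpow b)
        rw [orderOf_pow, hy, Nat.gcd_eq_right (dvd_mul_left b a), Nat.mul_div_cancel a (by omega)]
      have h2 : y ^ a ∈ Cfsg.fittingSubgroup G := by
        refine ihb _ ?_ (hpow a)
        rw [orderOf_pow, hy, Nat.gcd_eq_right (dvd_mul_right a b),
          Nat.mul_div_cancel_left b (by omega)]
      have h3 : y = (y ^ b) ^ (Nat.gcdB a b) * (y ^ a) ^ (Nat.gcdA a b) := by
        have := Nat.gcd_eq_gcd_ab a b
        rw [hab] at this
        calc y = y ^ (1 : ℤ) := (zpow_one y).symm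
          _ = _ := by
            rw [← zpow_natCast y b, ← zpow_natCast y a, ← zpow_mul, ← zpow_mul, ← zpow_add]
            congr 1
            push_cast at this
            linarith
      rw [h3]
      exact mul_mem (zpow_mem h1 _) (zpow_mem h2 _)

end Cfsg.Agent.S4263
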