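import Cfsg.Statements.S4264
import Cfsg.Agent.S4198
import Cfsg.Agent.S4200
import Cfsg.Agent.S3681
import Cfsg.Agent.Lib.ClassBound.Basic

set_option autoImplicit false
set_option linter.style.haveILetI false
set_option linter.unusedVariables false
open Cfsg

namespace Cfsg.Agent.S4264

open MulAction CfsgLib.ClassBound

/-- A primitive group not containing the alternating group has a base of at most half the points. -/
theorem exists_small_base {α : Type*} [Fintype α] [DecidableEq α] (G : Subgroup (Equiv.Perm α))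
    (hprim : IsPreprimitive G α) (hA : ¬ alternatingGroup α ≤ G) :
    ∃ Δ : Finset α, 2 * Δ.card ≤ Fintype.card α ∧ ∀ g ∈ G, (∀ x ∈ Δ, g x = x) → g = 1 := by
  classical
  obtain ⟨Δ, hΔ, hmin⟩ := Set.Finite.exists_minimalFor Finset.card
    {Δ : Finset α | ∀ g ∈ G, (∀ x ∈ Δ, g x = x) → g = 1} (Set.toFinite _)
    ⟨Finset.univ, fun g _ hg => Equiv.ext fun x => hg x (Finset.mem_univ x)⟩
  refine ⟨Δ, ?_, hΔ⟩
  by_contra hcon
  have hCc : Δᶜ ∉ {Δ : Finset α | ∀ g ∈ G, (∀ x ∈ Δ, g x = x) → g = 1} := fun h => by
    have h1 : Δᶜ.card < Δ.card := by rw [Finset.card_compl]; omega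
    have := hmin h h1.le
    omega
  simp only [Set.mem_ofPred_eq, not_forall] at hCc
  obtain ⟨g, hgG, hg, hg1⟩ := hCc
  obtain ⟨a, ha⟩ : ∃ a, g a ≠ a := by
    by_contra h
    push Not at h
    exact hg1 (Equiv.ext h)
  have haΔ : a ∈ Δ := by
    by_contra h
    exact ha (hg a (Finset.mem_compl.2 h))
  have hE : Δ.erase a ∉ {Δ : Finset α | ∀ g ∈ G, (∀ x ∈ Δ, g x = x) → g = 1} := fun h => by
    have h1 := Finset.card_erase_lt_of_mem haΔ
    have := hmin h h1.le
    omega
  simp only [Set.mem_ofPred_eq, not_forall] at hE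
  obtain ⟨k, hkG, hk, hk1⟩ := hE
  have hka : k a ≠ a := fun h => hk1 (hΔ k hkG fun x hx => by
    by_cases e : x = a
    · rw [e]; exact h
    · exact hk x (Finset.mem_erase.2 ⟨e, hx⟩))
  have h3 := Cfsg.Agent.S3681.isThreeCycle_commutator_of_meet g k a ha hka
    (fun x hgx hkx => by
      by_contra hne
      by_cases hxΔ : x ∈ Δ
      · exact hkx (hk x (Finset.mem_erase.2 ⟨hne, hxΔ⟩))
      · exact hgx (hg x (Finset.mem_compl.2 hxΔ)))
  exact hA (Equiv.Perm.alternatingGroup_le_of_isPreprimitive_of_isThreeCycle_mem hprim h3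
    (G.mul_mem (G.mul_mem (G.mul_mem hgG hkG) (G.inv_mem hgG)) (G.inv_mem hkG)))

/-- The bound for a group preserving a partition, from the bound in smaller degrees. -/
theorem partition_bound {n : ℕ} {α : Type} [Fintype α] [DecidableEq α]
    (hα : Fintype.card α = n)
    (ih : ∀ m < n, ∀ (β : Type) [Fintype β] [DecidableEq β], Fintype.card β = m →
      KBound (Equiv.Perm β) (5 ^ (m - 1)))
    (H : Subgroup (Equiv.Perm α)) (r : Setoid α)
    (hr : ∀ g ∈ H, ∀ x y, r.r x y → r.r (g x) (g y))
    (hsmall : ∃ a b, ¬ r.r a b)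
    (hbig : (∃ a b, a ≠ b ∧ r.r a b) ∨ ∀ g ∈ H, ∀ x, r.r x (g x)) :
    Nat.card (ConjClasses H) ≤ 5 ^ (n - 1) := by
  classical
  let ι := Quotient r
  haveI : Fintype ι := Fintype.ofFinite _
  let π : α → ι := Quotient.mk r
  let σ : H →* Equiv.Perm ι :=
    { toFun := fun g =>
        { toFun := Quotient.map (fun x => (g : Equiv.Perm α) x) (fun x y h => hr g g.2 x y h)
          invFun := Quotient.map (fun x => ((g⁻¹ : H) : Equiv.Perm α) x)
            (fun x y h => hr _ (g⁻¹).2 x y h)
          left_inv := fun q => Quotient.inductionOn q fun x => by simp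
          right_inv := fun q => Quotient.inductionOn q fun x => by simp }
      map_one' := Equiv.ext fun q => Quotient.inductionOn q fun x => rfl
      map_mul' := fun g h => Equiv.ext fun q => Quotient.inductionOn q fun x => rfl }
  have hfix : ∀ g : σ.ker, ∀ x, π (((g : H) : Equiv.Perm α) x) = π x := fun g x => by
    have h := congrArg (fun e : Equiv.Perm ι => e (π x)) g.2
    exact h
  let P : ι → Type := fun i => Equiv.Perm {x : α // π x = i}
  let f : ∀ i, σ.ker →* P i := fun i =>
    { toFun := fun g => Equiv.Perm.subtypePerm ((g : H) : Equiv.Perm α) fun x => by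
        rw [hfix g x]
      map_one' := by ext x; rfl
      map_mul' := fun g h => by ext x; rfl }
  obtain ⟨a, b, hab⟩ := hsmall
  have hπab : π a ≠ π b := fun h => hab (Quotient.exact h)
  have hlt : ∀ i : ι, Fintype.card {x : α // π x = i} < n := by
    intro i
    rw [← hα]
    by_cases hi : π a = i
    · exact Fintype.card_subtype_lt (x := b) fun h => hπab (hi.trans h.symm)
    · exact Fintype.card_subtype_lt (x := a) hi
  have hker : KBound σ.ker (∏ i : ι, 5 ^ (Fintype.card {x : α // π x = i} - 1)) := by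
    refine KBound.of_jointly_injective (P := P) Finset.univ f (fun g hg => ?_)
      (fun i => 5 ^ (Fintype.card {x : α // π x = i} - 1)) fun i _ => ih _ (hlt i) _ rfl
    refine Subtype.ext (Subtype.ext (Equiv.ext fun x => ?_))
    exact congrArg (fun e : P (π x) => ((e ⟨x, rfl⟩ : {y : α // π y = π x}) : α))
      (hg (π x) (Finset.mem_univ _))
  have hsum : ∑ i : ι, Fintype.card {x : α // π x = i} = n := by
    rw [← hα, ← Fintype.card_sigma]
    exact Fintype.card_congr (Equiv.sigmaFiberEquiv π)
  have hpos : ∀ i : ι, 1 ≤ Fintype.card {x : α // π x = i} := fun i => by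
    obtain ⟨x, rfl⟩ := Quotient.exists_rep i
    exact Fintype.card_pos_iff.2 ⟨⟨x, rfl⟩⟩
  have hprod : ∏ i : ι, 5 ^ (Fintype.card {x : α // π x = i} - 1) = 5 ^ (n - Fintype.card ι) := by
    rw [Finset.prod_pow_eq_pow_sum]
    congr 1
    rw [Finset.sum_tsub_distrib _ fun i _ => hpos i, hsum, Finset.sum_const, Finset.card_univ,
      smul_eq_mul, mul_one]
  have hι : 1 ≤ Fintype.card ι := Fintype.card_pos_iff.2 ⟨π a⟩
  have hιn : Fintype.card ι ≤ n := hα ▸ Fintype.card_le_of_surjective π Quotient.mk_surjective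
  rw [hprod] at hker
  rcases hbig with ⟨c, d, hcd, hrel⟩ | htriv
  · have hιlt : Fintype.card ι < n := by
      rw [← hα]
      exact Fintype.card_lt_of_surjective_not_injective π Quotient.mk_surjective
        fun h => hcd (h (Quotient.sound hrel))
    refine (KBound.of_hom σ hker (ih _ hιlt ι rfl)).card_le.trans ?_
    rw [← pow_add]
    exact Nat.pow_le_pow_right (by norm_num) (by omega)
  · have hall : σ.ker = ⊤ := by
      refine (Subgroup.eq_top_iff' _).2 fun g => MonoidHom.mem_ker.2 (Equiv.ext fun q => ?_)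
      exact Quotient.inductionOn q fun x => Quotient.sound (r.symm (htriv g g.2 x))
    let e : H →* σ.ker :=
      { toFun := fun g => ⟨g, hall ▸ Subgroup.mem_top g⟩
        map_one' := rfl
        map_mul' := fun _ _ => rfl }
    exact ((hker.of_injective e fun x y h => congrArg Subtype.val h).card_le).trans
      (Nat.pow_le_pow_right (by norm_num) (by omega))

/-- All subgroups of the symmetric group of degree `n` have at most `5 ^ (n - 1)` classes. -/
theorem kbound_perm : ∀ (n : ℕ) (α : Type) [Fintype α] [DecidableEq α], Fintype.card α = n →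
    KBound (Equiv.Perm α) (5 ^ (n - 1)) := by
  intro n
  induction n using Nat.strong_induction_on with
  | _ n ih =>
  intro α _ _ hα
  classical
  by_cases hn : n ≤ 4
  · refine KBound.of_card ?_
    rw [Nat.card_perm, Nat.card_eq_fintype_card, hα]
    interval_cases n <;> decide
  intro H
  by_cases htr : IsPretransitive H α
  swap
  · -- intransitive
    refine partition_bound hα ih H (MulAction.orbitRel H α) ?_ ?_ (Or.inr ?_)
    · rintro g hg x y ⟨h, hh⟩
      refine ⟨(⟨g, hg⟩ : H) * h * (⟨g, hg⟩ : H)⁻¹, ?_⟩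
      show g ((h : Equiv.Perm α) (g⁻¹ (g y))) = g x
      rw [Equiv.Perm.inv_def, Equiv.symm_apply_apply]
      exact congrArg g hh
    · by_contra hcon
      push Not at hcon
      exact htr ⟨fun x y => hcon y x⟩
    · intro g hg x
      exact ⟨(⟨g, hg⟩ : H)⁻¹, by show (g⁻¹ : Equiv.Perm α) (g x) = x; simp⟩
  by_cases hprim : IsPreprimitive H α
  swap
  · -- imprimitive
    obtain ⟨B, hB, hBne⟩ : ∃ B : Set α, IsBlock H B ∧ ¬ IsTrivialBlock B := by
      by_contra hcon
      push Not at hcon
      exact hprim { isTrivialBlock_of_isBlock := fun {B} hB => hcon B hB }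
    have hnot : ¬ B.Subsingleton ∧ B ≠ Set.univ := not_or.1 hBne
    obtain ⟨a, ha, b, hb, hne⟩ := Set.not_subsingleton_iff.1 hnot.1
    obtain ⟨c, hc⟩ := (Set.ne_univ_iff_exists_notMem B).1 hnot.2
    let r : Setoid α :=
      ⟨fun x y => ∀ g : H, (g • x ∈ B ↔ g • y ∈ B),
        ⟨fun x g => Iff.rfl, fun h g => (h g).symm, fun h h' g => (h g).trans (h' g)⟩⟩
    refine partition_bound hα ih H r ?_ ⟨a, c, fun h => hc ?_⟩ (Or.inl ⟨a, b, hne, ?_⟩)
    · intro g hg x y h k
      have h2 := h (k * ⟨g, hg⟩)
      rwa [mul_smul, mul_smul] at h2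
    · simpa using (h 1).1 (by simpa using ha)
    · intro g
      have key : ∀ x ∈ B, ∀ y ∈ B, g • x ∈ B → g • y ∈ B := by
        intro x hx y hy hgx
        have h := (isBlock_iff_smul_eq_of_nonempty.1 hB (g := g)
          ⟨g • x, ⟨x, hx, rfl⟩, hgx⟩)
        rw [← h]
        exact ⟨y, hy, rfl⟩
      exact ⟨key a ha b hb, key b hb a ha⟩
  by_cases hA : alternatingGroup α ≤ H
  · -- giant
    let eα := Fintype.equivFinOfCardEq hα
    have hS := Cfsg.Agent.S4198.result n (by omega)
    have h5 : 2 ^ (n - 2) ≤ 5 ^ (n - 1) :=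
      (Nat.pow_le_pow_right (by norm_num) (by omega)).trans (Nat.pow_le_pow_left (by norm_num) _)
    by_cases htop : ∀ g ∈ H, Equiv.Perm.sign g = 1
    · have he : H = alternatingGroup α :=
        le_antisymm (fun g hg => Equiv.Perm.mem_alternatingGroup.2 (htop g hg)) hA
      subst he
      let e : alternatingGroup α ≃* alternatingGroup (Fin n) :=
        ((eα.permCongrHom).subgroupMap (alternatingGroup α)).trans (MulEquiv.subgroupCongr (by
          ext g
          rw [Subgroup.mem_map, Equiv.Perm.mem_alternatingGroup]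
          constructor
          · rintro ⟨x, hx, rfl⟩
            rw [Equiv.Perm.mem_alternatingGroup] at hx
            simpa using hx
          · intro hg
            refine ⟨eα.permCongrHom.symm g, ?_, eα.permCongrHom.apply_symm_apply g⟩
            rw [Equiv.Perm.mem_alternatingGroup]
            simpa using hg))
      exact (card_conjClasses_le_of_surjective e.symm.toMonoidHom e.symm.surjective).trans
        ((hS.1.le.trans hS.2).trans h5)
    · push Not at htop
      obtain ⟨g, hg, hsg⟩ := htop
      have he : H = ⊤ := by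
        refine (Subgroup.eq_top_iff' H).2 fun x => ?_
        by_cases hx : Equiv.Perm.sign x = 1
        · exact hA (Equiv.Perm.mem_alternatingGroup.2 hx)
        · have h1 : g⁻¹ * x ∈ H := hA (Equiv.Perm.mem_alternatingGroup.2 (by
            rw [map_mul, map_inv, (Int.units_eq_one_or _).resolve_left hx,
              (Int.units_eq_one_or _).resolve_left hsg]
            rfl))
          have h2 := H.mul_mem hg h1
          rwa [mul_inv_cancel_left] at h2
      let e : H ≃* Equiv.Perm (Fin n) :=
        (MulEquiv.subgroupCongr he).trans (Subgroup.topEquiv.trans eα.permCongrHom)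
      exact (card_conjClasses_le_of_surjective e.symm.toMonoidHom e.symm.surjective).trans
        (hS.2.trans h5)
  · -- primitive and small
    obtain ⟨Δ, hΔn, hΔ⟩ := exists_small_base H hprim hA
    rcases Δ.eq_empty_or_nonempty with rfl | hΔne
    · haveI : Subsingleton H :=
        ⟨fun x y => Subtype.ext ((hΔ _ x.2 (by simp)).trans (hΔ _ y.2 (by simp)).symm)⟩
      exact (card_conjClasses_le H).trans (by rw [Nat.card_unique]; exact Nat.one_le_pow _ _ (by norm_num))
    let φ : H → Finset α := fun g => Δ.map (g : Equiv.Perm α).toEmbedding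
    let K : Subgroup H :=
      { carrier := {g | ∀ x ∈ Δ, (g : Equiv.Perm α) x ∈ Δ}
        one_mem' := fun x hx => hx
        mul_mem' := fun hg hh x hx => hg _ (hh x hx)
        inv_mem' := fun {g} hg x hx => by
          have h1 : Δ.map (g : Equiv.Perm α).toEmbedding = Δ := Finset.eq_of_subset_of_card_le
            (fun y hy => by obtain ⟨z, hz, rfl⟩ := Finset.mem_map.1 hy; exact hg z hz)
            (by rw [Finset.card_map])
          rw [← h1] at hx
          obtain ⟨z, hz, rfl⟩ := Finset.mem_map.1 hx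
          simpa using hz }
    have hmemK : ∀ g, g ∈ K ↔ ∀ x ∈ Δ, (g : Equiv.Perm α) x ∈ Δ := fun g => Iff.rfl
    have hidx : K.index ≤ 2 ^ n := by
      have h1 : Function.Injective (Quotient.lift φ (fun g h (e : (QuotientGroup.leftRel K).r g h) => by
          rw [QuotientGroup.leftRel_apply] at e
          refine Finset.eq_of_subset_of_card_le (fun y hy => ?_) (by simp [φ])
          obtain ⟨z, hz, rfl⟩ := Finset.mem_map.1 hy
          refine Finset.mem_map.2 ⟨_, (hmemK _).1 (K.inv_mem e) z hz, ?_⟩
          simp)) := by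
        rintro ⟨g⟩ ⟨h⟩ he
        refine Quotient.sound ?_
        show (QuotientGroup.leftRel K).r g h
        rw [QuotientGroup.leftRel_apply, hmemK]
        intro x hx
        have : (h : Equiv.Perm α) x ∈ φ g := by
          rw [show φ g = φ h from he]
          exact Finset.mem_map_of_mem _ hx
        obtain ⟨z, hz, hzx⟩ := Finset.mem_map.1 this
        have e : (g : Equiv.Perm α)⁻¹ ((h : Equiv.Perm α) x) = z := by
          rw [← hzx, Equiv.Perm.inv_def]; exact Equiv.symm_apply_apply _ _
        show (g : Equiv.Perm α)⁻¹ ((h : Equiv.Perm α) x) ∈ Δ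
        rw [e]; exact hz
      refine (Nat.card_le_card_of_injective _ h1).trans ?_
      rw [Nat.card_eq_fintype_card, Fintype.card_finset, hα]
    let ρ : K →* Equiv.Perm {x : α // x ∈ Δ} :=
      { toFun := fun g => Equiv.Perm.subtypePerm ((g : H) : Equiv.Perm α) fun x => by
          refine ⟨fun hx => ?_, fun hx => (g.2 : ∀ x ∈ Δ, _) x hx⟩
          have h2 := ((g⁻¹ : K).2 : ∀ x ∈ Δ, _) _ hx
          simpa using h2
        map_one' := by ext x; rfl
        map_mul' := fun g h => by ext x; rfl }
    have hρ : Function.Injective ρ := by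
      rw [injective_iff_map_eq_one]
      intro g hg
      refine Subtype.ext (Subtype.ext (hΔ _ (g : H).2 fun x hx => ?_))
      exact congrArg (fun e : Equiv.Perm {x : α // x ∈ Δ} => ((e ⟨x, hx⟩ : {x : α // x ∈ Δ}) : α)) hg
    have hdn : Δ.card < n := by
      have := hΔne.card_pos
      omega
    have hK := ((ih Δ.card hdn {x : α // x ∈ Δ} (Fintype.card_coe Δ)).of_injective ρ hρ).card_le
    refine ((Cfsg.Agent.S4200.result K).2.1).trans ((Nat.mul_le_mul hidx hK).trans ?_)
    have h2 : (2 ^ n * 5 ^ (Δ.card - 1)) ^ 2 ≤ (5 ^ (n - 1)) ^ 2 := by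
      rw [mul_pow, ← pow_mul, ← pow_mul, ← pow_mul, show n * 2 = 2 * n by ring, pow_mul]
      norm_num
      calc 4 ^ n * 5 ^ ((Δ.card - 1) * 2) ≤ 5 ^ n * 5 ^ ((Δ.card - 1) * 2) :=
            Nat.mul_le_mul_right _ (Nat.pow_le_pow_left (by norm_num) n)
        _ ≤ 5 ^ ((n - 1) * 2) := by
            rw [← pow_add]
            exact Nat.pow_le_pow_right (by norm_num) (by have := hΔne.card_pos; omega)
    exact (Nat.pow_le_pow_iff_left (by norm_num)).1 h2

/-- Let G be a subgroup of the symmetric group of degree d ≥ 1. Then G has at most 5^{d−1} conjugacy classes. -/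
theorem result (d : ℕ) (hd : 1 ≤ d) (G : Subgroup (Equiv.Perm (Fin d))) : Nat.card (ConjClasses ↥G) ≤ 5 ^ (d - 1) := by
  exact kbound_perm d (Fin d) (Fintype.card_fin d) G

end Cfsg.Agent.S4264
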