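import Cfsg.Statements.S4265
import Cfsg.Agent.Lib.ClassBound.Complex

set_option autoImplicit false
open Cfsg

namespace Cfsg.Agent.S4265

/-- Let G be a finite solvable subgroup of GL_r(ℂ), r ≥ 1, with Fitting subgroup F(G) normal in G. Then for every subgroup H of G the quotient H/(H ∩ F(G)) has at most 3^{r−1} conjugacy classes. -/
theorem result (r : ℕ) (hr : 1 ≤ r) (G : Subgroup (GL (Fin r) ℂ)) [Finite ↥G] (hsolv : Group.IsSolvable ↥G) [hF : (Cfsg.fittingSubgroup ↥G).Normal] (H : Subgroup ↥G) : Nat.card (ConjClasses (↥H ⧸ (Cfsg.fittingSubgroup ↥G).subgroupOf H)) ≤ 3 ^ (r - 1) := by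
  haveI : Finite ↥H := inferInstance
  let ρ : ↥G →* Module.End ℂ (Fin r → ℂ) :=
    (Matrix.toLinAlgEquiv' (R := ℂ) (n := Fin r)).toAlgHom.toRingHom.toMonoidHom.comp
      ((Units.coeHom (Matrix (Fin r) (Fin r) ℂ)).comp G.subtype)
  have hρ : Function.Injective ρ := fun g h e =>
    Subtype.ext (Units.ext ((Matrix.toLinAlgEquiv' (R := ℂ) (n := Fin r)).injective e))
  have hb := CfsgLib.ClassBound.complexBound r ↥G (Fin r → ℂ) ρ hsolv hρ (Module.finrank_fin_fun ℂ)
  refine (hb.of_injective (QuotientGroup.map ((Cfsg.fittingSubgroup ↥G).subgroupOf H)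
    (Cfsg.fittingSubgroup ↥G) H.subtype fun _ hx => hx) ?_).card_le
  refine (injective_iff_map_eq_one _).2 fun q hq => ?_
  obtain ⟨x, rfl⟩ := QuotientGroup.mk_surjective q
  exact (QuotientGroup.eq_one_iff x).2 ((QuotientGroup.eq_one_iff (x : ↥G)).1 hq)

end Cfsg.Agent.S4265
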