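import Cfsg.Statements.S4269
open scoped commutatorElement

-- import your own Cfsg.Agent.* helpers here

set_option autoImplicit false
set_option linter.style.haveILetI false
open Cfsg

namespace Cfsg.Agent.S4269

theorem map_conj_mul' {G : Type*} [Group G] {H : Subgroup G} (a b : G) :
    H.map (MulAut.conj (a * b)).toMonoidHom =
      (H.map (MulAut.conj b).toMonoidHom).map (MulAut.conj a).toMonoidHom := by
  rw [Subgroup.map_map]; congr 1; ext x; simp [mul_assoc]

theorem map_conj_one' {G : Type*} [Group G] (H : Subgroup G) :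
    H.map (MulAut.conj (1 : G)).toMonoidHom = H := by
  convert H.map_id using 2; ext x; simp

theorem map_conj_eq_self_iff' {G : Type*} [Group G] (H : Subgroup G) (a : G) :
    H.map (MulAut.conj a).toMonoidHom = H ↔ a ∈ Subgroup.normalizer (H : Set G) := by
  rw [Subgroup.mem_normalizer_iff]
  constructor
  · intro h x
    constructor
    · intro hx; rw [← h]; exact ⟨x, hx, rfl⟩
    · intro hx; rw [← h] at hx; obtain ⟨y, hy, e⟩ := hx
      have : y = x := by simpa using e
      rwa [← this]
  · intro h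
    ext x
    constructor
    · rintro ⟨y, hy, rfl⟩; exact (h y).mp hy
    · intro hx
      exact ⟨a⁻¹ * x * a, (h _).mpr (by simpa [mul_assoc] using hx), by simp [mul_assoc]⟩

/-- Let G be a finite group, V an abelian normal subgroup and H a subgroup with HV = G. Then H is pronormal in G (H and gHg⁻¹ are conjugate inside the subgroup they generate, for every g) if and only if every H-invariant subgroup U of V satisfies U = N_U(H)·[H, U], that is, U is the join of U ∩ N_G(H) and the commutator subgroup [H, U]. -/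
theorem result {G : Type*} [Group G] [Finite G]
    (V : Subgroup G) [V.Normal] (hV : IsMulCommutative ↥V) (H : Subgroup G) (hHV : H ⊔ V = ⊤) :
    Cfsg.IsPronormal H ↔
      ∀ U : Subgroup G, U ≤ V → (∀ h ∈ H, U.map (MulAut.conj h).toMonoidHom = U) →
        U = (U ⊓ Subgroup.normalizer (H : Set G)) ⊔ ⁅H, U⁆ := by

  have comm : ∀ a ∈ V, ∀ b ∈ V, a * b = b * a := fun a ha b hb =>
    congrArg Subtype.val (hV.is_comm.comm ⟨a, ha⟩ ⟨b, hb⟩)
  constructor
  · intro hpro U hUV hU
    refine le_antisymm (fun u hu => ?_) (sup_le inf_le_left ?_)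
    swap
    · rw [Subgroup.commutator_le]
      intro h hh u hu
      have : h * u * h⁻¹ ∈ U := by rw [← hU h hh]; exact ⟨u, hu, rfl⟩
      rw [commutatorElement_def]; exact mul_mem this (inv_mem hu)
    have hnorm : H ≤ Subgroup.normalizer ((⁅H, U⁆ : Subgroup G) : Set G) := by
      intro a ha
      rw [← map_conj_eq_self_iff' ⁅H, U⁆ a, Subgroup.map_commutator, hU a ha,
        (map_conj_eq_self_iff' H a).mpr (Subgroup.le_normalizer ha)]
    obtain ⟨x, hx, hxH⟩ := hpro u
    have hxle : H ⊔ H.map (MulAut.conj u).toMonoidHom ≤ ⁅H, U⁆ ⊔ H := by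
      refine sup_le le_sup_right ?_
      rintro _ ⟨a, ha, rfl⟩
      show u * a * u⁻¹ ∈ _
      have e : u * a * u⁻¹ = ⁅a, u⁆⁻¹ * a := by simp only [commutatorElement_def]; group
      rw [e]
      exact mul_mem (Subgroup.mem_sup_left (inv_mem (Subgroup.commutator_mem_commutator ha hu)))
        (Subgroup.mem_sup_right ha)
    have hx' : x ∈ ((⁅H, U⁆ ⊔ H : Subgroup G) : Set G) := hxle hx
    rw [Subgroup.coe_mul_of_right_le_normalizer_left ⁅H, U⁆ H hnorm] at hx'
    obtain ⟨c, hc, a, ha, rfl⟩ := hx'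
    have hcU : c ∈ U := by
      have : ⁅H, U⁆ ≤ U := by
        rw [Subgroup.commutator_le]
        intro h hh w hw
        have : h * w * h⁻¹ ∈ U := by rw [← hU h hh]; exact ⟨w, hw, rfl⟩
        rw [commutatorElement_def]; exact mul_mem this (inv_mem hw)
      exact this hc
    have hn : c⁻¹ * u ∈ U ⊓ Subgroup.normalizer (H : Set G) := by
      refine Subgroup.mem_inf.mpr ⟨mul_mem (inv_mem hcU) hu, (map_conj_eq_self_iff' H _).mp ?_⟩
      rw [map_conj_mul', hxH, map_conj_mul', (map_conj_eq_self_iff' H a).mpr (Subgroup.le_normalizer ha),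
        ← map_conj_mul', inv_mul_cancel]
      exact map_conj_one' H
    have e : u = c * (c⁻¹ * u) := by group
    rw [e]
    exact mul_mem (Subgroup.mem_sup_right hc) (Subgroup.mem_sup_left hn)
  · intro hcond g
    have hg : g ∈ ((V ⊔ H : Subgroup G) : Set G) := by rw [sup_comm, hHV]; trivial
    rw [Subgroup.normal_mul] at hg
    obtain ⟨v, hv, a, ha, rfl⟩ := hg
    rw [map_conj_mul', (map_conj_eq_self_iff' H a).mpr (Subgroup.le_normalizer ha)]
    set L := H ⊔ H.map (MulAut.conj v).toMonoidHom with hL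
    set U := Subgroup.closure {w | ∃ h ∈ H, w = h * v * h⁻¹} with hU
    have hUV : U ≤ V := by
      rw [hU, Subgroup.closure_le]
      rintro _ ⟨h, hh, rfl⟩
      exact ‹V.Normal›.conj_mem v hv h
    have hUinv : ∀ h ∈ H, U.map (MulAut.conj h).toMonoidHom = U := by
      have le : ∀ h ∈ H, U.map (MulAut.conj h).toMonoidHom ≤ U := by
        intro h hh
        rw [hU, MonoidHom.map_closure, Subgroup.closure_le]
        rintro _ ⟨_, ⟨b, hb, rfl⟩, rfl⟩
        exact Subgroup.subset_closure ⟨h * b, mul_mem hh hb, by simp [mul_assoc]⟩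
      intro h hh
      refine le_antisymm (le h hh) ?_
      have := Subgroup.map_mono (f := (MulAut.conj h).toMonoidHom) (le h⁻¹ (inv_mem hh))
      rwa [← map_conj_mul', mul_inv_cancel, map_conj_one'] at this
    let W : Subgroup G :=
      { carrier := {u | u ∈ V ∧ ∀ h ∈ H, ⁅h, u⁆ ∈ L}
        mul_mem' := by
          rintro u w ⟨hu, hu'⟩ ⟨hw, hw'⟩
          refine ⟨mul_mem hu hw, fun h hh => ?_⟩
          have hcV : ⁅h, w⁆ ∈ V := by
            rw [commutatorElement_def]; exact mul_mem (‹V.Normal›.conj_mem w hw h) (inv_mem hw)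
          have e : ⁅h, u * w⁆ = ⁅h, u⁆ * (u * ⁅h, w⁆ * u⁻¹) := by simp only [commutatorElement_def]; group
          rw [e, comm u hu _ hcV, mul_inv_cancel_right]
          exact mul_mem (hu' h hh) (hw' h hh)
        one_mem' := ⟨one_mem V, fun h _ => by simp⟩
        inv_mem' := by
          rintro u ⟨hu, hu'⟩
          refine ⟨inv_mem hu, fun h hh => ?_⟩
          have hcV : ⁅h, u⁆⁻¹ ∈ V := by
            rw [commutatorElement_def]; exact inv_mem (mul_mem (‹V.Normal›.conj_mem u hu h) (inv_mem hu))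
          have e : ⁅h, u⁻¹⁆ = u⁻¹ * ⁅h, u⁆⁻¹ * u := by simp only [commutatorElement_def]; group
          rw [e, mul_assoc, comm _ hcV u hu, inv_mul_cancel_left]
          exact inv_mem (hu' h hh) }
    have hUW : U ≤ W := by
      rw [hU, Subgroup.closure_le]
      rintro _ ⟨b, hb, rfl⟩
      refine ⟨‹V.Normal›.conj_mem v hv b, fun h hh => ?_⟩
      have e : ⁅h, b * v * b⁻¹⁆ = b * ((b⁻¹ * h * b) * (v * (b⁻¹ * h * b)⁻¹ * v⁻¹)) * b⁻¹ := by
        simp only [commutatorElement_def]; group
      rw [e]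
      have hb' : b ∈ L := Subgroup.mem_sup_left hb
      have hc : b⁻¹ * h * b ∈ H := mul_mem (mul_mem (inv_mem hb) hh) hb
      exact mul_mem (mul_mem hb' (mul_mem (Subgroup.mem_sup_left hc)
        (Subgroup.mem_sup_right ⟨_, inv_mem hc, rfl⟩))) (inv_mem hb')
    have hHU : ⁅H, U⁆ ≤ L := Subgroup.commutator_le.mpr fun h hh u hu => (hUW hu).2 h hh
    have hvU : v ∈ ((⁅H, U⁆ ⊔ (U ⊓ Subgroup.normalizer (H : Set G)) : Subgroup G) : Set G) := by
      rw [sup_comm, ← hcond U hUV hUinv]
      exact Subgroup.subset_closure ⟨1, one_mem H, by simp⟩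
    rw [Subgroup.coe_mul_of_right_le_normalizer_left] at hvU
    swap
    · intro n hn
      have hle : ⁅H, U⁆ ≤ V := (Subgroup.commutator_mono le_rfl hUV).trans (Subgroup.commutator_le_right H V)
      rw [← map_conj_eq_self_iff' ⁅H, U⁆ n]
      ext c
      constructor
      · rintro ⟨d, hd, rfl⟩
        show n * d * n⁻¹ ∈ _
        rwa [comm n (hUV hn.1) d (hle hd), mul_inv_cancel_right]
      · intro hc
        exact ⟨c, hc, show n * c * n⁻¹ = c by rw [comm n (hUV hn.1) c (hle hc), mul_inv_cancel_right]⟩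
    obtain ⟨c, hc, n, hn, rfl⟩ := hvU
    refine ⟨c, hHU hc, ?_⟩
    rw [map_conj_mul', (map_conj_eq_self_iff' H n).mpr hn.2]

end Cfsg.Agent.S4269
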