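import Cfsg.Statements.S4274
import Cfsg.Agent.Lib.Structure.OrderJanko
-- import your own Cfsg.Agent.* helpers here

set_option autoImplicit false
set_option linter.style.haveILetI false
open Cfsg

namespace Cfsg.Agent.S4274

/-- A finite group of order 175560 = 2³·3·5·7·11·19 is either simple or has a normal Sylow 19-subgroup. -/
theorem result {G : Type*} [Group G] [Finite G] (hG : Nat.card G = 175560) : IsSimpleGroup G ∨ ∀ P : Sylow 19 G, (P : Subgroup G).Normal := by
  by_cases hs : IsSimpleGroup G
  · exact Or.inl hs
  refine Or.inr fun P => ?_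
  haveI : Fact (Nat.Prime 19) := ⟨by norm_num⟩
  refine CfsgLib.OrderJanko.normal_of_card_dvd _ G hG dvd_rfl (by norm_num) (fun _ => hs) P ?_
  exact (CfsgLib.Small.card_sylow_of_card_eq (p := 19) (k := 1) (m := 9240) (by rw [hG]; norm_num) (by norm_num) P).trans (pow_one 19)

end Cfsg.Agent.S4274
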