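import Cfsg.Statements.S4275
-- import your own Cfsg.Agent.* helpers here

set_option autoImplicit false
set_option linter.style.haveILetI false
open Cfsg

namespace Cfsg.Agent.S4275

/-- An automorphism sending the stabilizer of `o` into that of `ω` is induced by a permutation. -/
theorem exists_perm_of_map_stabilizer_fixes {Ω : Type*} [Fintype Ω] (G : Subgroup (Equiv.Perm Ω))
    [MulAction.IsPretransitive G Ω] (o : Ω) (α : G ≃* G) (ω : Ω)
    (hω : ∀ g ∈ (MulAction.stabilizer G o).map α.toMonoidHom, g • ω = ω) :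
    ∃ σ : Equiv.Perm Ω, σ ∈ Subgroup.normalizer (G : Set (Equiv.Perm Ω)) ∧
      ∀ g : G, ((α g : G) : Equiv.Perm Ω) = σ * (g : Equiv.Perm Ω) * σ⁻¹ := by
  classical
  have hle : (MulAction.stabilizer G o).map α.toMonoidHom ≤ MulAction.stabilizer G ω :=
    fun g hg => hω g hg
  have heq : (MulAction.stabilizer G o).map α.toMonoidHom = MulAction.stabilizer G ω := by
    refine le_antisymm hle (Subgroup.relIndex_eq_one.mp ?_)
    have h := Subgroup.relIndex_mul_index hle
    rw [MulAction.index_stabilizer_of_transitive G ω,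
      show ((MulAction.stabilizer G o).map α.toMonoidHom).index = _ from
        Subgroup.index_map_equiv (MulAction.stabilizer G o) α,
      MulAction.index_stabilizer_of_transitive G o] at h
    haveI : Nonempty Ω := ⟨o⟩
    exact Nat.eq_of_mul_eq_mul_right (Nat.card_pos (α := Ω)) (by rw [h, one_mul])
  choose t ht using fun p : Ω => MulAction.exists_smul_eq G o p
  have key : ∀ (g : G), α (t (g • o)) • ω = α g • ω := by
    intro g
    have : g⁻¹ * t (g • o) ∈ MulAction.stabilizer G o := by
      rw [MulAction.mem_stabilizer_iff, mul_smul, ht, inv_smul_smul]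
    have h := hω _ (Subgroup.mem_map_of_mem α.toMonoidHom this)
    simp only [MulEquiv.coe_toMonoidHom, map_mul, map_inv, mul_smul, inv_smul_eq_iff] at h
    exact h
  have hinj : Function.Injective fun p : Ω => α (t p) • ω := by
    intro p q hpq
    have h : α ((t q)⁻¹ * t p) ∈ MulAction.stabilizer G ω := by
      rw [MulAction.mem_stabilizer_iff, map_mul, map_inv, mul_smul, inv_smul_eq_iff]
      exact hpq
    rw [← heq] at h
    obtain ⟨s, hs, hst⟩ := h
    obtain rfl : s = (t q)⁻¹ * t p := α.injective hst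
    have hs' : ((t q)⁻¹ * t p) • o = o := hs
    rw [mul_smul, inv_smul_eq_iff, ht, ht] at hs'
    exact hs'
  let σ : Equiv.Perm Ω := Equiv.ofBijective _ (Finite.injective_iff_bijective.mp hinj)
  have hσ : ∀ g : G, ((α g : G) : Equiv.Perm Ω) = σ * (g : Equiv.Perm Ω) * σ⁻¹ := by
    intro g
    rw [eq_mul_inv_iff_mul_eq]
    ext p
    show α g • (α (t p) • ω) = α (t (g • p)) • ω
    conv_rhs => rw [← ht p, ← mul_smul, key, map_mul, mul_smul]
  refine ⟨σ, Subgroup.mem_normalizer_iff.mpr fun x => ⟨fun hx => ?_, fun hx => ?_⟩, hσ⟩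
  · have h := hσ ⟨x, hx⟩
    simp only at h
    rw [← h]
    exact SetLike.coe_mem _
  · have h := hσ (α.symm ⟨_, hx⟩)
    rw [MulEquiv.apply_symm_apply] at h
    have : x = ((α.symm ⟨_, hx⟩ : G) : Equiv.Perm Ω) := mul_left_cancel (mul_right_cancel h)
    rw [this]
    exact SetLike.coe_mem _

/-- Let G be a transitive group of permutations of a finite set Ω, let o ∈ Ω, and let α be an automorphism of G. Then α is induced by conjugation by a permutation of Ω normalizing G if and only if the image under α of the stabilizer of o fixes some point of Ω. -/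
theorem result {Ω : Type*} [Fintype Ω] (G : Subgroup (Equiv.Perm Ω)) (htr : MulAction.IsPretransitive G Ω) (o : Ω) (α : G ≃* G) : (∃ σ : Equiv.Perm Ω, σ ∈ Subgroup.normalizer (G : Set (Equiv.Perm Ω)) ∧ ∀ g : G, ((α g : G) : Equiv.Perm Ω) = σ * (g : Equiv.Perm Ω) * σ⁻¹) ↔ ∃ ω : Ω, ∀ g ∈ (MulAction.stabilizer G o).map α.toMonoidHom, g • ω = ω := by
  haveI := htr
  constructor
  · rintro ⟨σ, -, hσ⟩
    refine ⟨σ o, ?_⟩
    rintro _ ⟨g, hg, rfl⟩
    have hg' : (g : Equiv.Perm Ω) o = o := hg
    show ((α g : G) : Equiv.Perm Ω) (σ o) = σ o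
    rw [hσ]
    simp [hg']
  · rintro ⟨ω, hω⟩
    exact exists_perm_of_map_stabilizer_fixes G o α ω hω

end Cfsg.Agent.S4275
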