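import Cfsg.Statements.S4276
import Cfsg.Agent.Lib.Structure.TwoTransAut
import Cfsg.Agent.S4275
-- import your own Cfsg.Agent.* helpers here

set_option autoImplicit false
set_option linter.style.haveILetI false
open Cfsg

namespace Cfsg.Agent.S4276

/-- Orbits are invariant. -/
theorem smul_mem_orbit_iff_aux {M α : Type*} [Group M] [MulAction M α] (m : M) (a b : α) :
    m • b ∈ MulAction.orbit M a ↔ b ∈ MulAction.orbit M a := by
  rw [← MulAction.orbit_eq_iff, ← MulAction.orbit_eq_iff, MulAction.orbit_smul]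


/-- Let G be a doubly transitive group of permutations of a finite set Ω of size n, let o ∈ Ω, and let α be an automorphism of G of odd order. Suppose that the image under α of the stabilizer of o has an orbit on Ω whose length k is coprime to n. Then α is induced by conjugation by a permutation of Ω normalizing G, and k = 1 or k = n − 1. -/
theorem result {Ω : Type*} [Fintype Ω] (G : Subgroup (Equiv.Perm Ω)) (h2 : MulAction.IsMultiplyPretransitive G Ω 2) (o : Ω) (α : MulAut G) (hα : Odd (orderOf α)) (ω : Ω) (hk : (Nat.card (MulAction.orbit ((MulAction.stabilizer G o).map α.toMonoidHom) ω)).Coprime (Fintype.card Ω)) : (∃ σ : Equiv.Perm Ω, σ ∈ Subgroup.normalizer (G : Set (Equiv.Perm Ω)) ∧ ∀ g : G, ((α g : G) : Equiv.Perm Ω) = σ * (g : Equiv.Perm Ω) * σ⁻¹) ∧ (Nat.card (MulAction.orbit ((MulAction.stabilizer G o).map α.toMonoidHom) ω) = 1 ∨ Nat.card (MulAction.orbit ((MulAction.stabilizer G o).map α.toMonoidHom) ω) = Fintype.card Ω - 1) := by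
  classical
  set K := (MulAction.stabilizer G o).map α.toMonoidHom with hK
  set B := MulAction.orbit K ω with hBdef
  have hB : ∀ h : G, h • o = o → ∀ w, α h • w ∈ B ↔ w ∈ B := by
    intro h hh w
    exact smul_mem_orbit_iff_aux (⟨α h, Subgroup.mem_map_of_mem _ hh⟩ : K) ω w
  have hk1 := CfsgLib.TwoTransAut.card_eq_one_or_pred (G := G) h2 o α hα B
    (MulAction.nonempty_orbit ω) hB hk
  haveI := h2
  haveI : MulAction.IsPretransitive G Ω := MulAction.isPretransitive_of_is_two_pretransitive
  refine ⟨?_, hk1⟩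
  rcases hk1 with h | h
  · refine Cfsg.Agent.S4275.exists_perm_of_map_stabilizer_fixes G o α ω fun g hg => ?_
    haveI : Subsingleton B := (Nat.card_eq_one_iff_unique.mp h).1
    exact congrArg Subtype.val (Subsingleton.elim
      (⟨g • ω, MulAction.mem_orbit ω (⟨g, hg⟩ : K)⟩ : B) ⟨ω, MulAction.mem_orbit_self ω⟩)
  · have hc : Nat.card (Bᶜ : Set Ω) = 1 := by
      have h1 := Set.ncard_add_ncard_compl B
      have hpos : 0 < Fintype.card Ω := Fintype.card_pos_iff.mpr ⟨o⟩
      rw [← Nat.card_coe_set_eq, ← Nat.card_coe_set_eq, h, Nat.card_eq_fintype_card (α := Ω)] at h1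
      omega
    obtain ⟨hs, ⟨⟨w, hw⟩⟩⟩ := Nat.card_eq_one_iff_unique.mp hc
    haveI := hs
    refine Cfsg.Agent.S4275.exists_perm_of_map_stabilizer_fixes G o α w fun g hg => ?_
    have hgw : g • w ∈ Bᶜ := fun hin =>
      hw ((smul_mem_orbit_iff_aux (⟨g, hg⟩ : K) ω w).mp hin)
    exact congrArg Subtype.val (Subsingleton.elim (⟨g • w, hgw⟩ : (Bᶜ : Set Ω)) ⟨w, hw⟩)

end Cfsg.Agent.S4276
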