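import Cfsg.Statements.S4277
import Cfsg.Agent.S4276
import Cfsg.Agent.Lib.PermGroup.ThreeTrans
-- import your own Cfsg.Agent.* helpers here

set_option autoImplicit false
set_option linter.style.haveILetI false
open Cfsg
open scoped Pointwise commutatorElement

namespace Cfsg.Agent.S4277

theorem isCyclic_of_solvable_simple {G : Type*} [Group G] [Finite G] [IsSimpleGroup G]
    (h : Group.IsSolvable G) : IsCyclic G := by
  haveI := h
  have hc : ∀ a b : G, a * b = b * a := IsSimpleGroup.comm_iff_isSolvable.mpr h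
  obtain ⟨x, hx⟩ := exists_ne (1 : G)
  haveI : (Subgroup.zpowers x).Normal := Subgroup.Normal.mk fun n hn g => by
    rw [hc g n, mul_inv_cancel_right]; exact hn
  have htop : Subgroup.zpowers x = ⊤ :=
    (IsSimpleGroup.eq_bot_or_eq_top_of_normal (Subgroup.zpowers x) inferInstance).resolve_left
      fun hb => hx (Subgroup.zpowers_eq_bot.mp hb)
  exact ⟨x, fun g => Subgroup.mem_zpowers_iff.mp (htop ▸ Subgroup.mem_top g)⟩

theorem mulAut_mul_comm {G : Type*} [Group G] [IsCyclic G] (a b : MulAut G) : a * b = b * a := by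
  obtain ⟨g, hg⟩ := IsCyclic.exists_zpow_surjective (G := G)
  obtain ⟨i, hi⟩ := hg (a g)
  obtain ⟨j, hj⟩ := hg (b g)
  simp only at hi hj
  refine MulEquiv.ext fun x => ?_
  obtain ⟨k, rfl⟩ := hg x
  simp only [MulAut.mul_apply, map_zpow]
  rw [← hi, ← hj, map_zpow, map_zpow, ← hi, ← hj, ← zpow_mul, ← zpow_mul, ← zpow_mul, ← zpow_mul]
  congr 1
  ring

/-- An odd order automorphism of a doubly transitive group of prime degree fixing an element of
order `p` is induced by a power of that element. -/
theorem inner_of_fixing {Ω : Type*} [Fintype Ω] {p : ℕ} [hp : Fact p.Prime]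
    (G : Subgroup (Equiv.Perm Ω)) (hΩ : Fintype.card Ω = p)
    (h2 : MulAction.IsMultiplyPretransitive G Ω 2) (hpp : ¬ p * p ∣ Nat.card G) (y : G)
    (hy : orderOf y = p) (α : MulAut G) (hα : Odd (orderOf α)) (hαy : α y = y) :
    ∃ g : G, g ∈ Subgroup.zpowers y ∧ ∀ x : G, α x = g * x * g⁻¹ := by
  classical
  obtain ⟨o⟩ : Nonempty Ω := Fintype.card_pos_iff.mp (hΩ ▸ hp.out.pos)
  haveI := h2
  haveI : MulAction.IsPretransitive G Ω := MulAction.isPretransitive_of_is_two_pretransitive
  set K := (MulAction.stabilizer G o).map α.toMonoidHom with hK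
  have hKcard : Nat.card K * p = Nat.card G := by
    have h1 : K.index = p := by
      rw [hK, show ((MulAction.stabilizer G o).map α.toMonoidHom).index = _ from
        Subgroup.index_map_equiv (MulAction.stabilizer G o) α,
        MulAction.index_stabilizer_of_transitive G o, Nat.card_eq_fintype_card, hΩ]
    rw [← h1, Subgroup.card_mul_index]
  obtain ⟨⟨σ, hσ, hσα⟩, -⟩ := Cfsg.Agent.S4276.result G h2 o α hα o (by
    rw [hΩ, Nat.coprime_comm, hp.out.coprime_iff_not_dvd, Nat.card_coe_set_eq,
      ← MulAction.index_stabilizer]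
    intro hd
    have := hd.trans (Subgroup.index_dvd_card _)
    exact hpp (hKcard ▸ mul_dvd_mul this dvd_rfl))
  -- `y` acts as a full cycle
  let π : Equiv.Perm Ω := (y : Equiv.Perm Ω)
  have hπ : orderOf π = p := by rw [Subgroup.orderOf_coe, hy]
  have hcyc : π.IsCycle := Equiv.Perm.isCycle_of_prime_order' (hπ ▸ hp.out)
    (by rw [hπ, hΩ]; linarith [hp.out.pos])
  have hsupp : ∀ x, π x ≠ x := by
    have h : π.support = Finset.univ := Finset.eq_univ_of_card _ (by rw [← hcyc.orderOf, hπ, hΩ])
    intro x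
    exact Equiv.Perm.mem_support.mp (h ▸ Finset.mem_univ x)
  have hcomm : σ * π = π * σ := by
    have h := hσα y
    rw [hαy] at h
    exact (eq_mul_inv_iff_mul_eq.mp h).symm
  obtain ⟨i, hi⟩ := hcyc.exists_zpow_eq (hsupp o) (hsupp (σ o))
  have hσπ : σ = π ^ i := by
    ext x
    obtain ⟨j, rfl⟩ := hcyc.exists_zpow_eq (hsupp o) (hsupp x)
    rw [← Equiv.Perm.mul_apply, ((show Commute σ π from hcomm).zpow_right j).eq,
      Equiv.Perm.mul_apply, ← hi, ← Equiv.Perm.mul_apply, ← Equiv.Perm.mul_apply,
      zpow_mul_comm π j i]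
  refine ⟨y ^ i, zpow_mem (Subgroup.mem_zpowers y) i, fun x => Subtype.ext ?_⟩
  rw [hσα x, hσπ]
  simp [π]

/-- Criterion for solvability of the outer automorphism group. -/
theorem isSolvable_out_of_centralizing {G : Type*} [Group G] [Finite G] {p : ℕ} [Fact p.Prime]
    (P : Sylow p G) [hPc : IsCyclic (P : Subgroup G)]
    (h : ∀ c : MulAut G, Odd (orderOf c) → (∀ y ∈ (P : Subgroup G), c y = y) → c ∈ Cfsg.Inn G) :
    Group.IsSolvable (Cfsg.Out G) := by
  classical
  let C : Subgroup (MulAut G) :=
    { carrier := {c | ∀ y ∈ (P : Subgroup G), c y = y}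
      one_mem' := fun y _ => rfl
      mul_mem' := fun {a b} ha hb y hy => by rw [MulAut.mul_apply, hb y hy, ha y hy]
      inv_mem' := fun {a} ha y hy => by
        conv_lhs => rw [← ha y hy]
        exact a.symm_apply_apply y }
  let C' : Subgroup (Cfsg.Out G) := C.map (QuotientGroup.mk' (Cfsg.Inn G))
  -- every class is represented by an automorphism normalising `P`
  have hN : ∀ q : Cfsg.Out G, ∃ a : MulAut G, (∀ y ∈ (P : Subgroup G), a y ∈ (P : Subgroup G)) ∧
      QuotientGroup.mk' (Cfsg.Inn G) a = q := by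
    intro q
    obtain ⟨a, rfl⟩ := QuotientGroup.mk'_surjective (Cfsg.Inn G) q
    obtain ⟨g, hg⟩ := MulAction.exists_smul_eq G (a • P) P
    refine ⟨MulAut.conj g * a, fun y hy => ?_, ?_⟩
    · rw [← hg]
      show MulAut.conj g • (a • y) ∈ (MulAut.conj g • (a • (P : Subgroup G)))
      exact Subgroup.smul_mem_pointwise_smul _ (MulAut.conj g) _
        (Subgroup.smul_mem_pointwise_smul _ a _ hy)
    · rw [map_mul, (QuotientGroup.eq_one_iff _).mpr ⟨g, rfl⟩ |> fun h => (show
        QuotientGroup.mk' (Cfsg.Inn G) (MulAut.conj g) = 1 from h), one_mul]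
  have hcommC : commutator (Cfsg.Out G) ≤ C' := by
    rw [commutator_def, Subgroup.commutator_le]
    intro q₁ _ q₂ _
    obtain ⟨a, ha, rfl⟩ := hN q₁
    obtain ⟨b, hb, rfl⟩ := hN q₂
    refine ⟨⁅a, b⁆, fun y hy => ?_, by rw [map_commutatorElement]⟩
    let res : ∀ c : MulAut G, (∀ y ∈ (P : Subgroup G), c y ∈ (P : Subgroup G)) →
        MulAut (P : Subgroup G) := fun c hc =>
      MulEquiv.ofBijective ((c.toMonoidHom.comp (P : Subgroup G).subtype).codRestrict _
          (fun y => hc y y.2))
        (Finite.injective_iff_bijective.mp fun u v huv =>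
          Subtype.ext (c.injective (congrArg (fun z : (P : Subgroup G) => (z : G)) huv :)))
    have hab := mulAut_mul_comm (res a ha) (res b hb)
    have hab' : ∀ z ∈ (P : Subgroup G), a (b z) = b (a z) := fun z hz =>
      congrArg (fun f : MulAut (P : Subgroup G) => ((f ⟨z, hz⟩ : (P : Subgroup G)) : G)) hab
    have hinv : ∀ c : MulAut G, (∀ y ∈ (P : Subgroup G), c y ∈ (P : Subgroup G)) →
        ∀ y ∈ (P : Subgroup G), c⁻¹ y ∈ (P : Subgroup G) := by
      intro c hc y hy
      obtain ⟨x, hx⟩ := (res c hc).surjective ⟨y, hy⟩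
      have hcx : c (x : G) = y := congrArg Subtype.val hx
      rw [← hcx]
      show c.symm (c (x : G)) ∈ (P : Subgroup G)
      rw [c.symm_apply_apply]
      exact x.2
    have hz : a⁻¹ (b⁻¹ y) ∈ (P : Subgroup G) := hinv a ha _ (hinv b hb y hy)
    rw [commutatorElement_def]
    simp only [MulAut.mul_apply]
    rw [hab' _ hz]
    show b (a (a.symm (b.symm y))) = y
    rw [a.apply_symm_apply, b.apply_symm_apply]
  have hC' : IsPGroup 2 C' := by
    rintro ⟨_, c, hc, rfl⟩
    obtain ⟨i, m, hm, him⟩ := Nat.exists_eq_two_pow_mul_odd (orderOf_pos c).ne'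
    refine ⟨i, Subtype.ext ?_⟩
    rw [Subgroup.coe_pow, ← map_pow, Subgroup.coe_one]
    refine (QuotientGroup.eq_one_iff _).mpr (h _ ?_ (pow_mem hc _ : c ^ 2 ^ i ∈ C))
    rw [orderOf_pow_of_dvd (pow_ne_zero _ two_ne_zero) (him ▸ dvd_mul_right _ _), him,
      Nat.mul_div_cancel_left _ (pow_pos two_pos _)]
    exact hm
  haveI : Fact (Nat.Prime 2) := ⟨Nat.prime_two⟩
  haveI : Group.IsNilpotent C' := hC'.isNilpotent
  haveI : Group.IsSolvable C' := inferInstance
  haveI : Group.IsSolvable (commutator (Cfsg.Out G)) :=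
    Group.isSolvable_of_isSolvable_injective (f := Subgroup.inclusion hcommC) (Subgroup.inclusion_injective _)
  exact Group.isSolvable_of_ker_le_range (commutator (Cfsg.Out G)).subtype Abelianization.of
    (by rw [Abelianization.ker_of, Subgroup.range_subtype])

/-- A case of the Schreier conjecture: if a finite simple group G has a subgroup of prime index, then the outer automorphism group of G is solvable. -/
theorem result {G : Type*} [Group G] [Finite G] [IsSimpleGroup G] (H : Subgroup G) (hH : H.index.Prime) : Group.IsSolvable (Cfsg.Out G) := by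
  classical
  by_cases hsol : Group.IsSolvable G
  · haveI : IsCyclic G := isCyclic_of_solvable_simple hsol
    haveI : Group.IsSolvable (MulAut G) :=
      Group.isSolvable_of_comm fun a b => mulAut_mul_comm a b
    exact (inferInstance : Group.IsSolvable (MulAut G ⧸ Cfsg.Inn G))
  haveI : Fintype (G ⧸ H) := Fintype.ofFinite _
  have hp : Fact (H.index).Prime := ⟨hH⟩
  have hcardΩ : Fintype.card (G ⧸ H) = H.index := by
    rw [← Nat.card_eq_fintype_card]; exact (Subgroup.index_eq_card H).symm
  -- faithful action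
  let φ : G →* Equiv.Perm (G ⧸ H) := MulAction.toPermHom G (G ⧸ H)
  have hφ : Function.Injective φ := by
    rw [← MonoidHom.ker_eq_bot_iff]
    refine (IsSimpleGroup.eq_bot_or_eq_top_of_normal φ.ker inferInstance).resolve_right fun h => ?_
    have hle : φ.ker ≤ H := by
      intro g hg
      have h1 : g • ((1 : G) : G ⧸ H) = ((1 : G) : G ⧸ H) :=
        congrArg (fun σ : Equiv.Perm (G ⧸ H) => σ ((1 : G) : G ⧸ H)) (MonoidHom.mem_ker.mp hg)
      rw [MulAction.Quotient.smul_mk, QuotientGroup.eq] at h1
      simpa using H.inv_mem h1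
    rw [h, top_le_iff] at hle
    rw [hle, Subgroup.index_top] at hH
    exact Nat.not_prime_one hH
  let G' := φ.range
  let e : G ≃* G' := MonoidHom.ofInjective hφ
  have htr : MulAction.IsPretransitive G' (G ⧸ H) := ⟨fun a b => by
    obtain ⟨g, hg⟩ := MulAction.exists_smul_eq G a b
    exact ⟨e g, hg⟩⟩
  haveI := htr
  have h2 : MulAction.IsMultiplyPretransitive G' (G ⧸ H) 2 :=
    CfsgLib.PermGroup.two_transitive_of_insoluble (p := H.index) hcardΩ G'
      (fun h => hsol (Group.isSolvable_of_isSolvable_injective (f := e.toMonoidHom) e.injective))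
  -- `p²` does not divide the order
  have hdvd : Nat.card G ∣ (H.index).factorial := by
    have h1 := Subgroup.card_subgroup_dvd_card G'
    rw [Nat.card_perm, ← Nat.card_congr e.toEquiv, Nat.card_eq_fintype_card (α := G ⧸ H),
      hcardΩ] at h1
    exact h1
  have hnd : ¬ H.index ∣ Nat.card H := by
    intro hd
    have h1 : H.index * H.index ∣ H.index * (H.index - 1).factorial := by
      rw [Nat.mul_factorial_pred hH.ne_zero]
      refine dvd_trans ?_ hdvd
      rw [← H.card_mul_index, mul_comm (Nat.card H)]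
      exact mul_dvd_mul_left _ hd
    have h2 := Nat.dvd_of_mul_dvd_mul_left hH.pos h1
    rw [hH.dvd_factorial] at h2
    have := hH.one_lt
    omega
  -- odd automorphisms fixing a Sylow subgroup pointwise are inner
  let P : Sylow H.index G := default
  haveI : IsCyclic (P : Subgroup G) := by
    refine isCyclic_of_prime_card (p := H.index) ?_
    rw [P.card_eq_multiplicity, ← H.card_mul_index, Nat.factorization_mul Nat.card_pos.ne' hH.ne_zero,
      Finsupp.add_apply, Nat.factorization_eq_zero_of_not_dvd hnd, hH.factorization_self, zero_add,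
      pow_one]
  refine isSolvable_out_of_centralizing P fun c hcodd hcfix => ?_
  obtain ⟨y, hyord⟩ := exists_prime_orderOf_dvd_card' (G := (P : Subgroup G)) H.index
    (P.dvd_card_of_dvd_card (H.index_dvd_card))
  obtain ⟨g, -, hg⟩ := inner_of_fixing (p := H.index) G' hcardΩ h2 (by
      rw [← Nat.card_congr e.toEquiv, ← H.card_mul_index, mul_comm (Nat.card H)]
      exact fun h => hnd (Nat.dvd_of_mul_dvd_mul_left hH.pos h))
    (e (y : G)) (by rw [MulEquiv.orderOf_eq, Subgroup.orderOf_coe, hyord])
    (MulAut.congr e c) (by rw [MulEquiv.orderOf_eq]; exact hcodd)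
    (by
      show e (c (e.symm (e (y : G)))) = e (y : G)
      rw [e.symm_apply_apply, hcfix y y.2])
  refine ⟨e.symm g, MulEquiv.ext fun x => ?_⟩
  have h3 := hg (e x)
  have h4 : e (c (e.symm (e x))) = g * e x * g⁻¹ := h3
  rw [e.symm_apply_apply] at h4
  apply e.injective
  rw [h4]
  simp

end Cfsg.Agent.S4277
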