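import Cfsg.Statements.S4278
import Cfsg.Agent.Lib.Structure.GTwoInvolution

set_option autoImplicit false
open Cfsg

namespace Cfsg.Agent.S4278

/-- In the Chevalley group of type G₂ over a finite field of odd order, any two involutions are conjugate. -/
theorem result {F : Type*} [Field F] [Fintype F] (hF : Odd (Fintype.card F)) (s t : ↥(Cfsg.Lie.chevG2.group F)) (hs : orderOf s = 2) (ht : orderOf t = 2) : IsConj s t := by
  obtain ⟨k, hk⟩ := CfsgLib.GTwoInv.exists_conj_t0 hF s hs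
  obtain ⟨l, hl⟩ := CfsgLib.GTwoInv.exists_conj_t0 hF t ht
  have h : k * s * k⁻¹ = l * t * l⁻¹ := Subtype.ext (hk.trans hl.symm)
  exact isConj_iff.mpr ⟨l⁻¹ * k, by
    calc l⁻¹ * k * s * (l⁻¹ * k)⁻¹ = l⁻¹ * (k * s * k⁻¹) * l := by group
      _ = t := by rw [h]; group⟩

end Cfsg.Agent.S4278
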