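import Cfsg.Statements.S4280
import Cfsg.Agent.Lib.ExcInvol.Main
import Cfsg.Agent.Lib.ExcInvol.TablesF4
import Cfsg.Agent.Lib.ChevField.Exceptional
import Cfsg.Agent.Lib.ChevStr.InstanceTables

set_option autoImplicit false
open Cfsg

namespace Cfsg.Agent.S4280

/-- In the Chevalley group of type F₄ over a finite field of odd order q there are exactly two conjugacy classes of involutions; the centralizer of an involution in one class has order q¹⁶(q² − 1)(q⁴ − 1)(q⁶ − 1)(q⁸ − 1), and in the other class q¹⁰(q² − 1)²(q⁴ − 1)(q⁶ − 1). -/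
theorem result {F : Type*} [Field F] [Fintype F] (hF : Odd (Fintype.card F)) : ∃ s t : ↥(Cfsg.Lie.chevF4.group F), orderOf s = 2 ∧ orderOf t = 2 ∧ ¬ IsConj s t ∧ (∀ u : ↥(Cfsg.Lie.chevF4.group F), orderOf u = 2 → IsConj u s ∨ IsConj u t) ∧ Nat.card (Subgroup.centralizer ({s} : Set ↥(Cfsg.Lie.chevF4.group F))) = Fintype.card F ^ 16 * (Fintype.card F ^ 2 - 1) * (Fintype.card F ^ 4 - 1) * (Fintype.card F ^ 6 - 1) * (Fintype.card F ^ 8 - 1) ∧ Nat.card (Subgroup.centralizer ({t} : Set ↥(Cfsg.Lie.chevF4.group F))) = Fintype.card F ^ 10 * (Fintype.card F ^ 2 - 1) ^ 2 * (Fintype.card F ^ 4 - 1) * (Fintype.card F ^ 6 - 1) := by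
  open Cfsg.Lie CfsgLib.ChevStr CfsgLib.ExcInvol CfsgLib.ExcInvol.F4 CfsgLib.ChevField CfsgLib.CycTorus in
  exact by
    have := neZero_two_of_odd_card hF
    have hN := mul_cartanMat_eq_one invCartanF4 invCartanF4_spec
    have hcov : ∀ m : Mask chevF4, m ≠ 0 →
        m ∈ orbitSet reflDataF4 maskA ∨ m ∈ orbitSet reflDataF4 maskB := by
      rw [orbit_eqA, orbit_eqB]
      decide +kernel
    have hne : maskB ∉ orbitSet reflDataF4 maskA := by
      rw [orbit_eqA]
      decide +kernel
    have hdiag := card_diagonalF4 F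
    rw [one_mul] at hdiag
    refine ⟨torElt (coreF4 F) (Matrix.of invCartanF4) maskA, torElt (coreF4 F) (Matrix.of invCartanF4) maskB,
      orderOf_torElt (coreF4 F) hN (by decide +kernel), orderOf_torElt (coreF4 F) hN (by decide +kernel),
      not_isConj_torElt (coreF4 F) hN hne,
      fun u hu => involution_classes (coreF4 F) (coreF4 (AlgebraicClosure F)) rfl hN hF
        (by decide) subA subB hcov hu, ?_, ?_⟩
    · refine (card_centralizer (coreF4 F) hN (T := subA) ncard_posA poincareA rfl hdiag).trans ?_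
      simp only [List.map_cons, List.map_nil, List.prod_cons, List.prod_nil]
      ring
    · refine (card_centralizer (coreF4 F) hN (T := subB) ncard_posB poincareB rfl hdiag).trans ?_
      simp only [List.map_cons, List.map_nil, List.prod_cons, List.prod_nil]
      ring

end Cfsg.Agent.S4280
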