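import Cfsg.Statements.S4281
import Cfsg.Agent.Lib.ExcInvol.Main
import Cfsg.Agent.Lib.ExcInvol.TablesE8A
import Cfsg.Agent.Lib.ExcInvol.TablesE8B
import Cfsg.Agent.Lib.ChevField.Exceptional
import Cfsg.Agent.Lib.ChevStr.InstanceTables

set_option autoImplicit false
open scoped BigOperators
open Cfsg

namespace Cfsg.Agent.S4281

/-- In the Chevalley group of type E₈ over a finite field of odd order q there are exactly two conjugacy classes of involutions; the centralizer of an involution in one class has order q⁵⁶(q⁸ − 1)·∏_{i=1}^{7}(q^{2i} − 1), and in the other class q⁶⁴(q² − 1)²(q⁶ − 1)(q⁸ − 1)(q¹⁰ − 1)(q¹² − 1)(q¹⁴ − 1)(q¹⁸ − 1). -/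
theorem result {F : Type*} [Field F] [Fintype F] (hF : Odd (Fintype.card F)) : ∃ s t : ↥(Cfsg.Lie.chevE8.group F), orderOf s = 2 ∧ orderOf t = 2 ∧ ¬ IsConj s t ∧ (∀ u : ↥(Cfsg.Lie.chevE8.group F), orderOf u = 2 → IsConj u s ∨ IsConj u t) ∧ Nat.card (Subgroup.centralizer ({s} : Set ↥(Cfsg.Lie.chevE8.group F))) = Fintype.card F ^ 56 * (Fintype.card F ^ 8 - 1) * ∏ i ∈ Finset.Icc 1 7, (Fintype.card F ^ (2 * i) - 1) ∧ Nat.card (Subgroup.centralizer ({t} : Set ↥(Cfsg.Lie.chevE8.group F))) = Fintype.card F ^ 64 * (Fintype.card F ^ 2 - 1) ^ 2 * (Fintype.card F ^ 6 - 1) * (Fintype.card F ^ 8 - 1) * (Fintype.card F ^ 10 - 1) * (Fintype.card F ^ 12 - 1) * (Fintype.card F ^ 14 - 1) * (Fintype.card F ^ 18 - 1) := by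
  open Cfsg.Lie CfsgLib.ChevStr CfsgLib.ExcInvol CfsgLib.ExcInvol.E8 CfsgLib.ChevField CfsgLib.CycTorus in
  exact by
    have := neZero_two_of_odd_card hF
    have hN := mul_cartanMat_eq_one invCartanE8 invCartanE8_spec
    have hcov : ∀ m : Mask chevE8, m ≠ 0 →
        m ∈ orbitSet reflDataE8 maskB ∨ m ∈ orbitSet reflDataE8 maskA := by
      rw [orbit_eqB, orbit_eqA]
      decide +kernel
    have hne : maskA ∉ orbitSet reflDataE8 maskB := by
      rw [orbit_eqB]
      decide +kernel
    have hdiag := card_diagonalE8 F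
    rw [one_mul] at hdiag
    refine ⟨torElt (coreE8 F) (Matrix.of invCartanE8) maskB, torElt (coreE8 F) (Matrix.of invCartanE8) maskA,
      orderOf_torElt (coreE8 F) hN (by decide +kernel), orderOf_torElt (coreE8 F) hN (by decide +kernel),
      not_isConj_torElt (coreE8 F) hN hne,
      fun u hu => involution_classes (coreE8 F) (coreE8 (AlgebraicClosure F)) rfl hN hF
        (by decide) subB subA hcov hu, ?_, ?_⟩
    · refine (card_centralizer (coreE8 F) hN (T := subB) ncard_posB poincareB rfl hdiag).trans ?_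
      rw [show Finset.Icc 1 7 = ({1, 2, 3, 4, 5, 6, 7} : Finset ℕ) by decide]
      simp only [List.map_cons, List.map_nil, List.prod_cons, List.prod_nil]
      rw [Finset.prod_insert (by decide), Finset.prod_insert (by decide), Finset.prod_insert (by decide),
        Finset.prod_insert (by decide), Finset.prod_insert (by decide), Finset.prod_insert (by decide),
        Finset.prod_singleton]
      simp only [Nat.reduceMul]
      ring
    · refine (card_centralizer (coreE8 F) hN (T := subA) ncard_posA poincareA rfl hdiag).trans ?_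
      simp only [List.map_cons, List.map_nil, List.prod_cons, List.prod_nil]
      ring

end Cfsg.Agent.S4281
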