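import Cfsg.Statements.S4282
import Cfsg.Agent.Lib.HallHigman.FullyRamified
import Cfsg.Agent.Lib.HallHigman.CharSpace
open scoped commutatorElement

-- import your own Cfsg.Agent.* helpers here

set_option autoImplicit false
set_option linter.style.haveILetI false
open Cfsg

namespace Cfsg.Agent.S4282

/-- If abelian invariant normal subgroups are central, the class is at most two. -/
theorem class_two {G : Type*} [Group G] [Finite G] {q : ℕ} [Fact q.Prime] {Q : Subgroup G} [Q.Normal]
    (hQ : IsPGroup q Q) (x : G) (h : ∀ A : Subgroup Q,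
      (∀ a ∈ A, ∀ b ∈ A, a * b = b * a) → (∀ g : Q, ∀ a ∈ A, g * a * g⁻¹ ∈ A) →
      (∀ (i : ℕ), ∀ a ∈ A, (MulAut.conjNormal (x ^ i) : MulAut Q) a ∈ A ∧
        ((MulAut.conjNormal (x ^ i))⁻¹ : MulAut Q) a ∈ A) → A ≤ Subgroup.center Q) :
    ∀ g h : Q, ⁅g, h⁆ ∈ Subgroup.center Q := by
  haveI : Group.IsNilpotent Q := hQ.isNilpotent
  set Z2 := Subgroup.upperCentralSeries Q 2 with hZ2
  have hZ1 : Subgroup.upperCentralSeries Q 1 = Subgroup.center Q := Subgroup.upperCentralSeries_one Q
  have hZ2mem : ∀ a ∈ Z2, ∀ b : Q, ⁅a, b⁆ ∈ Subgroup.center Q := fun a ha b => by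
    rw [← hZ1]; exact Subgroup.mem_upperCentralSeries_succ_iff.mp ha b
  have hcommute : ∀ a ∈ Z2, ∀ b ∈ commutator Q, a * b = b * a := by
    intro a ha
    let φ : Q →* Subgroup.center Q := MonoidHom.mk' (fun b => ⟨⁅a, b⁆, hZ2mem a ha b⟩) fun b c => by
      apply Subtype.ext
      have e : ⁅a, b * c⁆ = ⁅a, b⁆ * (b * ⁅a, c⁆ * b⁻¹) := by simp only [commutatorElement_def]; group
      show ⁅a, b * c⁆ = ⁅a, b⁆ * ⁅a, c⁆
      rw [e, Subgroup.mem_center_iff.mp (hZ2mem a ha c) b, mul_inv_cancel_right]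
    intro b hb
    have : φ b = 1 := by
      have hle : commutator Q ≤ φ.ker := by
        rw [commutator_def, Subgroup.commutator_le]
        intro u _ v _
        rw [MonoidHom.mem_ker, map_commutatorElement, commutatorElement_eq_one_iff_mul_comm]
        exact Subtype.ext (Subgroup.mem_center_iff.mp (φ v).2 _)
      exact hle hb
    exact commutatorElement_eq_one_iff_mul_comm.mp (congrArg Subtype.val this)
  let A := commutator Q ⊓ Z2
  haveI hAc : A.Characteristic := inferInstance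
  have hA : A ≤ Subgroup.center Q := h A (fun a ha b hb => hcommute a ha.2 b hb.1)
    (fun g a ha => (inferInstance : A.Normal).conj_mem a ha g)
    (fun i a ha => ⟨(Subgroup.characteristic_iff_map_le.mp hAc _) ⟨a, ha, rfl⟩,
      (Subgroup.characteristic_iff_map_le.mp hAc _) ⟨a, ha, rfl⟩⟩)
  intro u v
  by_contra huv
  set π := QuotientGroup.mk' (Subgroup.center Q) with hπ
  let N := (commutator Q).map π
  haveI : N.Normal := Subgroup.Normal.map inferInstance π (QuotientGroup.mk'_surjective _)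
  have hN : N ≠ ⊥ := fun e => huv (by
    have : π ⁅u, v⁆ ∈ N := Subgroup.mem_map_of_mem π (Subgroup.commutator_mem_commutator trivial trivial)
    rw [e, Subgroup.mem_bot] at this
    exact (QuotientGroup.eq_one_iff _).mp this)
  haveI : Group.IsNilpotent (Q ⧸ Subgroup.center Q) := inferInstance
  have hne : N ⊓ Subgroup.center (Q ⧸ Subgroup.center Q) ≠ ⊥ :=
    inf_center_ne_bot hN
  obtain ⟨⟨_, ⟨a, ha, rfl⟩, hac⟩, ha1⟩ := Subgroup.ne_bot_iff_exists_ne_one.mp hne
  have haZ2 : a ∈ Z2 := by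
    rw [hZ2, Subgroup.mem_upperCentralSeries_succ_iff]
    intro b
    rw [hZ1, ← QuotientGroup.eq_one_iff, ← QuotientGroup.mk'_apply, map_commutatorElement,
      commutatorElement_eq_one_iff_mul_comm]
    exact (Subgroup.mem_center_iff.mp hac _).symm
  exact ha1 (Subtype.ext ((QuotientGroup.eq_one_iff a).mpr (hA ⟨ha, haZ2⟩)))
where
  inf_center_ne_bot {R : Type _} [Group R] [Finite R] [Group.IsNilpotent R] {N : Subgroup R} [N.Normal]
      (hN : N ≠ ⊥) : N ⊓ Subgroup.center R ≠ ⊥ := by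
    classical
    obtain ⟨⟨w, hw⟩, hw1⟩ := Subgroup.ne_bot_iff_exists_ne_one.mp hN
    have hex : ∃ n, ∃ a ∈ N, a ≠ 1 ∧ a ∈ Subgroup.upperCentralSeries R n :=
      ⟨Group.nilpotencyClass R, w, hw, fun e => hw1 (Subtype.ext e),
        by rw [Subgroup.upperCentralSeries_nilpotencyClass]; trivial⟩
    obtain ⟨a, haN, ha1, han⟩ := Nat.find_spec hex
    rcases hk : Nat.find hex with _ | k
    · rw [hk, Subgroup.upperCentralSeries_zero, Subgroup.mem_bot] at han
      exact absurd han ha1
    · rw [hk] at han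
      have hac : a ∈ Subgroup.center R := by
        rw [Subgroup.mem_center_iff]
        intro b
        by_contra hne
        have h1 : ⁅a, b⁆ ∈ Subgroup.upperCentralSeries R k := Subgroup.mem_upperCentralSeries_succ_iff.mp han b
        refine Nat.find_min hex (m := k) (by omega) ⟨⁅a, b⁆, ?_, fun e => hne (commutatorElement_eq_one_iff_mul_comm.mp e).symm, h1⟩
        rw [commutatorElement_def, mul_assoc, mul_assoc]
        exact N.mul_mem haN (by simpa [mul_assoc] using ‹N.Normal›.conj_mem _ (inv_mem haN) b)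
      exact fun e => ha1 (by
        have : a ∈ N ⊓ Subgroup.center R := ⟨haN, hac⟩
        rwa [e, Subgroup.mem_bot] at this)

/-- Weights: an abelian invariant normal subgroup is centralised by the element of order `p`. -/
theorem abelian_central {G : Type*} [Group G] [Finite G] {Q : Subgroup G} [Q.Normal]
    {K : Type*} [Field K] [IsAlgClosed K] {V : Type*} [AddCommGroup V] [Module K V] [FiniteDimensional K V]
    [Nontrivial V] (ρ : Representation K G V) (hfaith : Function.Injective ρ)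
    (hirr : CfsgLib.HallHigman.IsIrred (ρ.comp Q.subtype)) (p m : ℕ) (hp : p.Prime) (hm0 : 0 < m)
    (x : G) (hxP : x ^ p ^ m = 1) (hnil : (ρ x - 1) ^ (p ^ m - 1) = 0)
    (hgeo : ∑ i ∈ Finset.range (p ^ m), (ρ x) ^ i = (ρ x - 1) ^ (p ^ m - 1))
    (A : Subgroup Q) (hAcomm : ∀ a ∈ A, ∀ b ∈ A, a * b = b * a) (hAnorm : ∀ g : Q, ∀ a ∈ A, g * a * g⁻¹ ∈ A)
    (hAinv : ∀ (i : ℕ), ∀ a ∈ A, (MulAut.conjNormal (x ^ i) : MulAut Q) a ∈ A ∧
        ((MulAut.conjNormal (x ^ i))⁻¹ : MulAut Q) a ∈ A)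
    (hfix : ∀ g : Q, x ^ p ^ (m - 1) * (g : G) = (g : G) * x ^ p ^ (m - 1) → g ∈ Subgroup.center Q) :
    A ≤ Subgroup.center Q := by
  classical
  let op : A → Module.End K V := fun a => ρ ((a : Q) : G)
  let W : (A → K) → Submodule K V := fun χ => ⨅ a, (op a).eigenspace (χ a)
  have hW : ∀ χ v, v ∈ W χ ↔ ∀ a, op a v = χ a • v := fun χ v => by
    simp [W, Submodule.mem_iInf]
  have hcomm : ∀ a b : A, op a * op b = op b * op a := fun a b => by
    simp only [op, ← map_mul, ← Subgroup.coe_mul, hAcomm a a.2 b b.2]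
  -- a common eigenvector
  obtain ⟨χ₀, v₀, hv₀, hv₀χ⟩ : ∃ χ v, v ≠ 0 ∧ v ∈ W χ := by
    obtain ⟨U, ⟨hU0, hUinv⟩, hUmin⟩ := (wellFounded_lt (α := Submodule K V)).has_min
      {U | U ≠ ⊥ ∧ ∀ a, ∀ u ∈ U, op a u ∈ U} ⟨⊤, top_ne_bot, fun _ _ _ => trivial⟩
    have hscal : ∀ a, ∃ c : K, ∀ u ∈ U, op a u = c • u := by
      intro a
      haveI : Nontrivial U := Submodule.nontrivial_iff_ne_bot.mpr hU0
      obtain ⟨c, hc⟩ := Module.End.exists_eigenvalue ((op a).restrict (hUinv a))
      obtain ⟨⟨u, hu⟩, hu', hune⟩ := hc.exists_hasEigenvector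
      have hE : U ⊓ (op a).eigenspace c ≠ ⊥ := by
        intro e
        have : u ∈ U ⊓ (op a).eigenspace c := by
          refine ⟨hu, Module.End.mem_eigenspace_iff.mpr ?_⟩
          exact congrArg Subtype.val (Module.End.mem_eigenspace_iff.mp hu')
        rw [e, Submodule.mem_bot] at this
        exact hune (Subtype.ext this)
      have hEinv : ∀ b, ∀ w ∈ U ⊓ (op a).eigenspace c, op b w ∈ U ⊓ (op a).eigenspace c := by
        rintro b w ⟨hwU, hwE⟩
        refine ⟨hUinv b w hwU, Module.End.mem_eigenspace_iff.mpr ?_⟩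
        rw [← Module.End.mul_apply, hcomm, Module.End.mul_apply, Module.End.mem_eigenspace_iff.mp hwE, map_smul]
      have heq : U ⊓ (op a).eigenspace c = U :=
        eq_of_le_of_not_lt inf_le_left (hUmin _ ⟨hE, hEinv⟩)
      exact ⟨c, fun w hw => Module.End.mem_eigenspace_iff.mp (heq.ge hw).2⟩
    choose c hc using hscal
    obtain ⟨u, hu, hune⟩ := Submodule.exists_mem_ne_zero_of_ne_bot hU0
    exact ⟨c, u, hune, (hW c u).mpr fun a => hc a u hu⟩
  -- weights span
  have hspan : ⨆ χ, W χ = ⊤ := by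
    refine (hirr _ fun g => ?_).resolve_left fun e => hv₀ ?_
    · intro w hw
      induction hw using Submodule.iSup_induction' with
      | mem χ u hu =>
        refine Submodule.mem_iSup_of_mem (fun a => χ ⟨g⁻¹ * a * g, by simpa using hAnorm g⁻¹ a a.2⟩)
          ((hW _ _).mpr fun a => ?_)
        show ρ ((a : Q) : G) (ρ (g : G) u) = _
        have h1 : ρ ((g : G)⁻¹ * ((a : Q) : G) * (g : G)) u = χ ⟨g⁻¹ * a * g, by simpa using hAnorm g⁻¹ a a.2⟩ • u :=
          (hW _ _).mp hu ⟨g⁻¹ * a * g, by simpa using hAnorm g⁻¹ a a.2⟩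
        show _ = _ • ρ (g : G) u
        rw [← map_smul, ← h1, ← Module.End.mul_apply, ← map_mul, ← Module.End.mul_apply, ← map_mul]
        congr 2
        group
      | zero => rw [map_zero]; exact zero_mem _
      | add a b _ _ ha hb => rw [map_add]; exact add_mem ha hb
    · have : v₀ ∈ ⨆ χ, W χ := Submodule.mem_iSup_of_mem χ₀ hv₀χ
      rwa [e, Submodule.mem_bot] at this
  -- every weight is fixed by some nontrivial power, hence by the one of order `p`
  let cA : ℕ → A → A := fun i a => ⟨((MulAut.conjNormal (x ^ i))⁻¹ : MulAut Q) a, (hAinv i a a.2).2⟩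
  have hcA : ∀ i a, (((cA i a : A) : Q) : G) = (x ^ i)⁻¹ * ((a : Q) : G) * x ^ i := fun i a => by
    show (((MulAut.conjNormal (x ^ i))⁻¹ : MulAut Q) (a : Q) : G) = _
    rw [← map_inv, MulAut.conjNormal_apply, inv_inv]
  have hcadd : ∀ i j a, cA i (cA j a) = cA (j + i) a := fun i j a => by
    apply Subtype.ext; apply Subtype.ext
    rw [hcA, hcA, hcA, pow_add]
    group
  set y := x ^ p ^ (m - 1) with hy
  have hweight : ∀ χ : A → K, ∀ v ∈ W χ, v ≠ 0 → ∀ a, χ (cA (p ^ (m - 1)) a) = χ a := by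
    intro χ v hv hv0
    have hex : ∃ i, 0 < i ∧ i < p ^ m ∧ ∀ a, χ (cA i a) = χ a := by
      by_contra hno
      push Not at hno
      have key := CfsgLib.HallHigman.eq_zero_of_sum_eigen_eq_zero op (fun i a => χ (cA i a))
        (fun i => ((ρ x) ^ i) v) (fun i a => ?_) (Finset.range (p ^ m)) ?_ ?_ 0
        (Finset.mem_range.mpr (pow_pos hp.pos m))
      · exact hv0 (by simpa using key)
      · show ρ ((a : Q) : G) (((ρ x) ^ i) v) = _
        have h1 := (hW χ v).mp hv (cA i a)
        simp only [op, hcA] at h1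
        rw [← map_smul, ← h1, ← Module.End.mul_apply, ← map_pow, ← map_mul, ← Module.End.mul_apply, ← map_mul]
        congr 2
        group
      · have sep : ∀ i j, i < j → j < p ^ m → ∃ a, χ (cA i a) ≠ χ (cA j a) := by
          intro i j hij hj
          obtain ⟨a, ha⟩ := hno (j - i) (by omega) (by omega)
          refine ⟨⟨(MulAut.conjNormal (x ^ i) : MulAut Q) a, (hAinv i a a.2).1⟩, fun e => ha ?_⟩
          have e1 : cA i ⟨(MulAut.conjNormal (x ^ i) : MulAut Q) a, (hAinv i a a.2).1⟩ = a := by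
            apply Subtype.ext; simp [cA]
          rw [e1] at e
          rw [e]
          conv_lhs => rw [← e1, hcadd, show i + (j - i) = j by omega]
        intro i hi j hj hij
        rw [Finset.mem_range] at hi hj
        rcases Nat.lt_or_gt_of_ne hij with h | h
        · exact sep i j h hj
        · obtain ⟨a, ha⟩ := sep j i h hi
          exact ⟨a, Ne.symm ha⟩
      · rw [← LinearMap.sum_apply, hgeo, hnil, LinearMap.zero_apply]
    obtain ⟨i, hi0, hi, hfi⟩ := hex
    obtain ⟨e, u, he, -, hu⟩ := CfsgLib.HallHigman.exists_pow_eq_prime_pow hp hxP hi0 hi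
    have hmul : ∀ k a, χ (cA (i * k) a) = χ a := by
      intro k
      induction k with
      | zero => intro a; congr 1; apply Subtype.ext; apply Subtype.ext; rw [hcA]; simp
      | succ k ih => intro a; rw [Nat.mul_succ, add_comm, ← hcadd, ih, hfi]
    intro a
    rw [← hmul (u * p ^ (m - 1 - e)) a]
    congr 1
    apply Subtype.ext; apply Subtype.ext
    have hpow : x ^ p ^ (m - 1) = x ^ (i * (u * p ^ (m - 1 - e))) := by
      rw [← mul_assoc, pow_mul, pow_mul x i u, hu, ← pow_mul, ← pow_add, show e + (m - 1 - e) = m - 1 by omega]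
    rw [hcA, hcA, hpow]
  intro a ha
  refine hfix a ?_
  have heq : ρ (y⁻¹ * ((a : Q) : G) * y) = ρ ((a : Q) : G) := by
    have hle : ⨆ χ, W χ ≤ LinearMap.ker (ρ (y⁻¹ * ((a : Q) : G) * y) - ρ ((a : Q) : G)) := by
      refine iSup_le fun χ v hv => ?_
      rw [LinearMap.mem_ker, LinearMap.sub_apply, sub_eq_zero]
      by_cases hv0 : v = 0
      · simp [hv0]
      have h1 := (hW χ v).mp hv (cA (p ^ (m - 1)) ⟨a, ha⟩)
      simp only [op, hcA] at h1
      rw [h1, hweight χ v hv hv0 ⟨a, ha⟩]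
      exact ((hW χ v).mp hv ⟨a, ha⟩).symm
    rw [hspan] at hle
    exact sub_eq_zero.mp (LinearMap.ext fun v => hle (Submodule.mem_top : v ∈ (⊤ : Submodule K V)))
  calc y * (a : G) = y * (y⁻¹ * (a : G) * y) := by rw [hfaith heq]
    _ = (a : G) * y := by group

/-- A critical case behind the Hall–Higman theorem. Let p ≠ q be primes and G a finite group generated by a normal q-subgroup Q and a cyclic p-subgroup generated by x, such that the centralizer of every non-identity element of that cyclic subgroup is its product with the centre of G. Let K be an algebraically closed field of characteristic p and ρ a faithful representation of G on a nonzero finite-dimensional K-space whose restriction to Q is irreducible. If s is the least exponent with (ρ(x) − 1)^s = 0, then |⟨x⟩| − 1 ≤ s ≤ |⟨x⟩|; and if s = |⟨x⟩| − 1 then |⟨x⟩| − 1 is a power of q and Q is non-abelian. -/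
theorem result {G : Type*} [Group G] [Finite G] (p q : ℕ) [Fact p.Prime] [Fact q.Prime] (hpq : p ≠ q) (Q : Subgroup G) [Q.Normal] (hQ : IsPGroup q Q) (x : G) (hx : IsPGroup p (Subgroup.zpowers x)) (hgen : Q ⊔ Subgroup.zpowers x = ⊤) (hC : ∀ y ∈ Subgroup.zpowers x, y ≠ 1 → Subgroup.centralizer ({y} : Set G) = Subgroup.zpowers x ⊔ Subgroup.center G) {K : Type*} [Field K] [IsAlgClosed K] [CharP K p] {V : Type*} [AddCommGroup V] [Module K V] [FiniteDimensional K V] [Nontrivial V] (ρ : Representation K G V) (hfaith : Function.Injective ρ) (hirr : ∀ W : Submodule K V, (∀ g ∈ Q, Submodule.map (ρ g) W ≤ W) → W = ⊥ ∨ W = ⊤) (s : ℕ) (hs : (ρ x - 1) ^ s = 0) (hmin : ∀ k < s, (ρ x - 1) ^ k ≠ 0) : Nat.card (Subgroup.zpowers x) - 1 ≤ s ∧ s ≤ Nat.card (Subgroup.zpowers x) ∧ (s = Nat.card (Subgroup.zpowers x) - 1 → (∃ b : ℕ, Nat.card (Subgroup.zpowers x) - 1 = q ^ b) ∧ ¬ IsMulCommutative Q) := by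

  classical
  set T := ρ x with hTdef
  obtain ⟨m, hm⟩ := IsPGroup.iff_card.mp hx
  rw [Nat.card_zpowers] at hm
  have hcardP : Nat.card (Subgroup.zpowers x) = p ^ m := by rw [Nat.card_zpowers, hm]
  rw [hcardP]
  set P := p ^ m with hP
  have hp : p.Prime := Fact.out
  have hq : q.Prime := Fact.out
  have hPpos : 0 < P := pow_pos hp.pos m
  have hxP : x ^ P = 1 := by rw [← hm, pow_orderOf_eq_one]
  have hTP : T ^ P = 1 := by rw [hTdef, ← map_pow, hxP, map_one]
  have hp0 : (p : Module.End K V) = 0 := by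
    rw [← map_natCast (algebraMap K (Module.End K V)), CharP.cast_eq_zero, map_zero]
  have hgeo := CfsgLib.HallHigman.geom_sum_eq_sub_one_pow p m hp0 T
  have hupper : (T - 1) ^ P = 0 := by
    rw [show P = P - 1 + 1 by omega, pow_succ, ← hgeo, geom_sum_mul, hTP, sub_self]
  have hsP : s ≤ P := by
    by_contra h
    exact hmin P (by omega) hupper
  rcases Nat.eq_zero_or_pos m with rfl | hm0
  · have hP1 : P = 1 := by simp [hP]
    have hs1 : 0 < s := by
      by_contra h
      rw [show s = 0 by omega, pow_zero] at hs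
      exact one_ne_zero hs
    exact ⟨by omega, hsP, fun h => by omega⟩
  have hP2 : 2 ≤ P := hP ▸ hp.two_le.trans (Nat.le_self_pow hm0.ne' p)
  have hx1 : x ≠ 1 := fun e => by rw [e, orderOf_one] at hm; omega
  let ρQ : Q →* Module.End K V := ρ.comp Q.subtype
  have hirr' : CfsgLib.HallHigman.IsIrred ρQ := fun W hW => hirr W fun g hg => by
    rintro _ ⟨w, hw, rfl⟩; exact hW ⟨g, hg⟩ w hw
  -- `x` is not centralised by `Q`
  have hnc : ¬ ∀ g ∈ Q, x * g = g * x := by
    intro h
    obtain ⟨c, hc⟩ := CfsgLib.HallHigman.exists_eq_smul_one hirr' T fun g => by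
      show ρ x * ρ g = ρ g * ρ x
      rw [← map_mul, ← map_mul, h g g.2]
    have hc1 : c ^ p ^ m = 1 := by
      obtain ⟨u, hu⟩ := exists_ne (0 : V)
      have h1 := hTP
      rw [hc, smul_pow, one_pow] at h1
      have h2 := LinearMap.congr_fun h1 u
      simp only [LinearMap.smul_apply, Module.End.one_apply] at h2
      exact smul_left_injective K hu (by simpa using h2)
    have hc2 : c = 1 := by
      have : (c - 1) ^ p ^ m = 0 := by rw [sub_pow_char_pow, hc1, one_pow, sub_self]
      exact sub_eq_zero.mp (eq_zero_of_pow_eq_zero this)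
    exact hx1 (hfaith (show ρ x = ρ 1 by rw [map_one, ← hTdef, hc, hc2, one_smul]))
  have hinterZ : ∀ y ∈ Subgroup.zpowers x, y ∈ Subgroup.center G → y = 1 := by
    intro y hy hyc
    by_contra hy1
    refine hnc fun g _ => ?_
    have hg : g ∈ Subgroup.centralizer ({y} : Set G) := by
      rw [Subgroup.mem_centralizer_iff]; rintro _ rfl
      exact (Subgroup.mem_center_iff.mp hyc g).symm
    rw [hC y hy hy1, Subgroup.mem_sup_of_normal_right] at hg
    obtain ⟨a, ⟨j, rfl⟩, z, hz, rfl⟩ := hg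
    show x * (x ^ j * z) = x ^ j * z * x
    rw [mul_assoc, ← Subgroup.mem_center_iff.mp hz x, ← mul_assoc, ← mul_assoc, (Commute.self_zpow x j).eq]
  have hZQ : ∀ z ∈ Subgroup.center Q, (z : G) ∈ Subgroup.center G := by
    intro z hz
    obtain ⟨c, -, hc⟩ := CfsgLib.HallHigman.exists_scalar_of_mem_center hirr' hz
    rw [Subgroup.mem_center_iff]
    intro g
    apply hfaith
    have hc' : ρ (z : G) = c • 1 := hc
    rw [map_mul, map_mul, hc', mul_smul_comm, smul_mul_assoc, mul_one, one_mul]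
  have hqn : ∀ g : Q, ∃ n, (g : G) ^ q ^ n = 1 := fun g => by
    obtain ⟨n, hn⟩ := hQ g
    exact ⟨n, by rw [← Subgroup.coe_pow, hn, Subgroup.coe_one]⟩
  -- fixed points
  have hfix : ∀ y ∈ Subgroup.zpowers x, y ≠ 1 → ∀ g : Q, y * (g : G) = (g : G) * y → g ∈ Subgroup.center Q := by
    intro y hy hy1 g hg
    have hmem : (g : G) ∈ Subgroup.centralizer ({y} : Set G) := by
      rw [Subgroup.mem_centralizer_iff]; rintro _ rfl; exact hg
    rw [hC y hy hy1, Subgroup.mem_sup_of_normal_right] at hmem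
    obtain ⟨a, ha, z, hz, haz⟩ := hmem
    obtain ⟨n, hn⟩ := hqn g
    have hcomm : Commute a z := Subgroup.mem_center_iff.mp hz a
    rw [← haz, hcomm.mul_pow] at hn
    have h1 : a ^ q ^ n = 1 := hinterZ _ (pow_mem ha _) (by
      rw [eq_inv_of_mul_eq_one_left hn]; exact inv_mem (pow_mem hz _))
    have h2 : a = 1 := orderOf_eq_one_iff.mp (Nat.eq_one_of_dvd_coprimes
      (((Nat.coprime_primes hp hq).mpr hpq).pow m n) (hP ▸ hm ▸ orderOf_dvd_of_mem_zpowers ha)
      (orderOf_dvd_of_pow_eq_one h1))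
    rw [Subgroup.mem_center_iff]
    intro k
    apply Subtype.ext
    rw [Subgroup.coe_mul, Subgroup.coe_mul, ← haz, h2, one_mul]
    exact Subgroup.mem_center_iff.mp hz k
  -- abelian invariant normal subgroups of `Q` are central
  set y := x ^ p ^ (m - 1) with hy
  have hy1 : y ≠ 1 := fun e => by
    have h1 := orderOf_dvd_of_pow_eq_one e
    rw [hm] at h1
    have := (Nat.pow_dvd_pow_iff_le_right hp.one_lt).mp (hP ▸ h1)
    omega
  have habel : (T - 1) ^ (P - 1) = 0 → ∀ A : Subgroup Q,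
      (∀ a ∈ A, ∀ b ∈ A, a * b = b * a) → (∀ g : Q, ∀ a ∈ A, g * a * g⁻¹ ∈ A) →
      (∀ (i : ℕ), ∀ a ∈ A, (MulAut.conjNormal (x ^ i) : MulAut Q) a ∈ A ∧
        ((MulAut.conjNormal (x ^ i))⁻¹ : MulAut Q) a ∈ A) → A ≤ Subgroup.center Q := by
    intro hnil A hAcomm hAnorm hAinv
    exact abelian_central ρ hfaith hirr' p m hp hm0 x hxP hnil hgeo A hAcomm hAnorm hAinv
      (fun g hg => hfix y (pow_mem (Subgroup.mem_zpowers x) _) hy1 g hg)
  have hnab : ∃ g : Q, g ∉ Subgroup.center Q := by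
    by_contra h
    push Not at h
    exact hnc fun g hg => Subgroup.mem_center_iff.mp (hZQ ⟨g, hg⟩ (h _)) x
  have main : (T - 1) ^ (P - 1) = 0 → (∀ j < P - 1, (T - 1) ^ j ≠ 0) ∧ ∃ b : ℕ, P - 1 = q ^ b := by
    intro hnil
    have hcl : ∀ g h : Q, ⁅g, h⁆ ∈ Subgroup.center Q :=
      class_two hQ x (habel hnil)
    have hram : CfsgLib.HallHigman.IsFullyRamified ρQ := fun g hg => by
      rw [Subgroup.mem_center_iff]
      intro k
      apply Subtype.ext
      apply hfaith
      show ρ ((k : G) * g) = ρ ((g : G) * k)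
      rw [map_mul, map_mul]
      exact (hg k).symm
    let σ : MulAut Q := MulAut.conjNormal x
    have hσi : ∀ i : ℕ, σ ^ i = MulAut.conjNormal (x ^ i) := fun i => (map_pow _ x i).symm
    have hσP : σ ^ P = 1 := by rw [hσi, hxP, map_one]
    have hσfix : ∀ i g, 0 < i → i < P → g⁻¹ * (σ ^ i) g ∈ Subgroup.center Q → g ∈ Subgroup.center Q := by
      intro i g hi0 hiP hw
      set w := g⁻¹ * (σ ^ i) g with hwdef
      have hwc := hZQ w hw
      have hxi : x ^ i ∈ Subgroup.zpowers x := pow_mem (Subgroup.mem_zpowers x) i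
      have hxi1 : x ^ i ≠ 1 := pow_ne_one_of_lt_orderOf hi0.ne' (hm ▸ hiP)
      have hit : ∀ k : ℕ, (x ^ i) ^ k * (g : G) * ((x ^ i) ^ k)⁻¹ = (g : G) * (w : G) ^ k := by
        intro k
        induction k with
        | zero => simp
        | succ k ih =>
          have e1 : (w : G) = (g : G)⁻¹ * (x ^ i * (g : G) * (x ^ i)⁻¹) := by
            have e2 : σ ^ i = MulAut.conjNormal (x ^ i) := hσi i
            rw [hwdef, e2, Subgroup.coe_mul, MulAut.conjNormal_apply, Subgroup.coe_inv]
          calc (x ^ i) ^ (k + 1) * (g : G) * ((x ^ i) ^ (k + 1))⁻¹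
              = x ^ i * ((x ^ i) ^ k * (g : G) * ((x ^ i) ^ k)⁻¹) * (x ^ i)⁻¹ := by rw [pow_succ']; group
            _ = x ^ i * ((g : G) * (w : G) ^ k) * (x ^ i)⁻¹ := by rw [ih]
            _ = (x ^ i * (g : G) * (x ^ i)⁻¹) * (x ^ i * (w : G) ^ k * (x ^ i)⁻¹) := by group
            _ = ((g : G) * (w : G)) * (w : G) ^ k := by
              rw [Subgroup.mem_center_iff.mp (pow_mem hwc k) (x ^ i), mul_inv_cancel_right, e1, mul_inv_cancel_left]
            _ = (g : G) * (w : G) ^ (k + 1) := by rw [mul_assoc, pow_succ']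
      have hwP : (w : G) ^ P = 1 := by
        have := hit P
        rw [← pow_mul, mul_comm i P, pow_mul, hxP, one_pow, inv_one, mul_one, one_mul] at this
        exact mul_eq_left.mp this.symm
      obtain ⟨n, hn⟩ := hqn w
      have hw1 : (w : G) = 1 := orderOf_eq_one_iff.mp (Nat.eq_one_of_dvd_coprimes
        (((Nat.coprime_primes hp hq).mpr hpq).pow m n) (orderOf_dvd_of_pow_eq_one hwP)
        (orderOf_dvd_of_pow_eq_one hn))
      have h1 := hit 1
      rw [hw1, pow_one, one_pow, mul_one] at h1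
      exact hfix _ hxi hxi1 g (mul_inv_eq_iff_eq_mul.mp h1)
    have hTρ : ∀ g : Q, T * ρQ g = ρQ (σ g) * T := fun g => by
      show ρ x * ρ g = ρ (σ g : G) * ρ x
      rw [← map_mul, ← map_mul, MulAut.conjNormal_apply, inv_mul_cancel_right]
    have hrel : ∑ i ∈ Finset.range P, T ^ i = 0 := by rw [hgeo, hnil]
    obtain ⟨hfin, hblock⟩ := CfsgLib.HallHigman.fully_ramified_single_block hirr' hcl hram σ hP2 hσP hσfix
      T hTP hTρ hnab hrel hnil
    refine ⟨hblock, ?_⟩
    have hsq := CfsgLib.HallHigman.finrank_sq hirr' hcl hram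
    obtain ⟨n, hn⟩ := IsPGroup.iff_card.mp (hQ.to_quotient (Subgroup.center Q))
    have hdvd : Module.finrank K V ∣ q ^ n := by rw [← hn, ← hsq, pow_two]; exact dvd_mul_right _ _
    obtain ⟨b, -, hb⟩ := (Nat.dvd_prime_pow hq).mp hdvd
    exact ⟨b, by omega⟩
  refine ⟨?_, hsP, fun hsP1 => ⟨(main (hsP1 ▸ hs)).2, fun hcomm => ?_⟩⟩
  · by_contra h
    exact (main (by rw [show P - 1 = s + (P - 1 - s) by omega, pow_add, hs, zero_mul])).1 s (by omega) hs
  · obtain ⟨g, hg⟩ := hnab
    exact hg (Subgroup.mem_center_iff.mpr fun k => hcomm.is_comm.comm k g)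

end Cfsg.Agent.S4282
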