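import Cfsg.Statements.S4283
import Cfsg.Agent.Lib.Frobenius.Basic
open scoped Pointwise

-- import your own Cfsg.Agent.* helpers here

set_option autoImplicit false
set_option linter.style.haveILetI false
open Cfsg

namespace Cfsg.Agent.S4283

/-- Let G be a finite group with centre Z and let K, H be abelian subgroups of G containing Z such that G/Z is a Frobenius group with complement H/Z and kernel K/Z. Then the conjugacy class sizes of G are exactly 1, [G : K] and [G : H], and these two indices are coprime. (This is the converse half of the characterization of finite groups whose conjugacy class sizes are exactly 1, m and n with m and n coprime.) -/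
theorem result {G : Type*} [Group G] [Finite G] (K H : Subgroup G) (hZK : Subgroup.center G ≤ K) (hZH : Subgroup.center G ≤ H) (hK : IsMulCommutative K) (hH : IsMulCommutative H) (hFrob : Cfsg.IsFrobeniusComplement (H.map (QuotientGroup.mk' (Subgroup.center G)))) (hker : Cfsg.frobeniusKernel (H.map (QuotientGroup.mk' (Subgroup.center G))) = (K.map (QuotientGroup.mk' (Subgroup.center G)) : Set (G ⧸ Subgroup.center G))) : Set.range (fun x : G => (Subgroup.centralizer ({x} : Set G)).index) = ({1, K.index, H.index} : Set ℕ) ∧ K.index.Coprime H.index := by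

  classical
  set f := QuotientGroup.mk' (Subgroup.center G) with hf
  set Hb := H.map f with hHb
  set Kb := K.map f with hKb
  have hsurj : Function.Surjective f := QuotientGroup.mk'_surjective _
  have hkH : f.ker ≤ H := by rw [hf, QuotientGroup.ker_mk']; exact hZH
  have hkK : f.ker ≤ K := by rw [hf, QuotientGroup.ker_mk']; exact hZK
  have preH : ∀ x, f x ∈ Hb → x ∈ H := fun x hx => by
    have : x ∈ Hb.comap f := hx
    rwa [hHb, Subgroup.comap_map_eq_self hkH] at this
  have preK : ∀ x, f x ∈ Kb → x ∈ K := fun x hx => by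
    have : x ∈ Kb.comap f := hx
    rwa [hKb, Subgroup.comap_map_eq_self hkK] at this
  haveI : Kb.Normal := ⟨fun x hx g => by
    have hx' : x ∈ (Kb : Set (G ⧸ Subgroup.center G)) := hx
    show g * x * g⁻¹ ∈ (Kb : Set (G ⧸ Subgroup.center G))
    rw [← hker] at hx' ⊢
    rcases hx' with rfl | hx'
    · exact Or.inl (by group)
    refine Or.inr fun a ha => hx' (g⁻¹ * a) ?_
    rw [CfsgLib.Frobenius.mem_conj_smul_iff] at ha ⊢
    convert ha using 1; group⟩
  have hcardK : Nat.card Kb = Hb.index := by
    rw [← CfsgLib.Frobenius.ncard_frobeniusKernel hFrob, hker, ← Nat.card_coe_set_eq]; rfl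
  have hdis : Disjoint Kb Hb := by
    rw [Subgroup.disjoint_def]
    intro x hxK hxH
    have hx' : x ∈ (Kb : Set (G ⧸ Subgroup.center G)) := hxK
    rw [← hker] at hx'
    rcases hx' with h | h
    · exact h
    · exact absurd (CfsgLib.Frobenius.mem_conj_smul_iff.mpr (by simpa using hxH)) (h 1)
  have hcompl : Kb.IsComplement' Hb :=
    Subgroup.isComplement'_of_card_mul_and_disjoint (by rw [hcardK, mul_comm, Hb.card_mul_index]) hdis
  have hiK : K.index = Nat.card Hb := by
    rw [← Subgroup.index_map_eq K hsurj hkK, ← hKb]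
    exact hcompl.symm.index_eq_card
  have hiH : H.index = Hb.index := (Subgroup.index_map_eq H hsurj hkH).symm
  have hcenter : ∀ x : G, f x = 1 ↔ x ∈ Subgroup.center G := fun x => by
    rw [← MonoidHom.mem_ker, hf, QuotientGroup.ker_mk']
  have commK : ∀ a ∈ K, ∀ b ∈ K, a * b = b * a := fun a ha b hb =>
    congrArg Subtype.val (hK.is_comm.comm ⟨a, ha⟩ ⟨b, hb⟩)
  have commH : ∀ a ∈ H, ∀ b ∈ H, a * b = b * a := fun a ha b hb =>
    congrArg Subtype.val (hH.is_comm.comm ⟨a, ha⟩ ⟨b, hb⟩)
  have up : ∀ {x c : G}, c ∈ Subgroup.centralizer ({x} : Set G) →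
      f c ∈ Subgroup.centralizer ({f x} : Set (G ⧸ Subgroup.center G)) := fun {x c} hc => by
    rw [Subgroup.mem_centralizer_iff]
    rintro _ rfl
    rw [← map_mul, ← map_mul, Subgroup.mem_centralizer_iff.mp hc x rfl]
  have cK : ∀ x ∈ K, f x ≠ 1 → Subgroup.centralizer ({x} : Set G) = K := fun x hx hx1 => by
    refine le_antisymm (fun c hc => preK c (CfsgLib.Frobenius.centralizer_le_of_mem_complement hFrob hcompl
      (Subgroup.mem_map_of_mem f hx) hx1 (up hc))) (fun c hc => Subgroup.mem_centralizer_iff.mpr ?_)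
    rintro _ rfl
    exact commK _ hx c hc
  have cH : ∀ x ∈ H, f x ≠ 1 → Subgroup.centralizer ({x} : Set G) = H := fun x hx hx1 => by
    refine le_antisymm (fun c hc => preH c (CfsgLib.Frobenius.centralizer_le hFrob
      (Subgroup.mem_map_of_mem f hx) hx1 (up hc))) (fun c hc => Subgroup.mem_centralizer_iff.mpr ?_)
    rintro _ rfl
    exact commH _ hx c hc
  refine ⟨?_, by rw [hiK, hiH]; exact CfsgLib.Frobenius.coprime_card_index hFrob⟩
  apply Set.Subset.antisymm
  · rintro _ ⟨x, rfl⟩
    simp only [Set.mem_insert_iff, Set.mem_singleton_iff]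
    by_cases hx1 : f x = 1
    · left
      rw [Subgroup.index_eq_one, Subgroup.centralizer_eq_top_iff_subset]
      exact Set.singleton_subset_iff.mpr ((hcenter x).mp hx1)
    right
    by_cases hxK : x ∈ K
    · left; rw [cK x hxK hx1]
    right
    obtain ⟨g', hg'⟩ : ∃ g', f x ∈ MulAut.conj g' • Hb := by
      by_contra hno
      push Not at hno
      have : f x ∈ (Kb : Set (G ⧸ Subgroup.center G)) := by rw [← hker]; exact Or.inr hno
      exact hxK (preK x this)
    obtain ⟨g, rfl⟩ := hsurj g'
    rw [CfsgLib.Frobenius.mem_conj_smul_iff, ← map_inv, ← map_mul, ← map_mul] at hg'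
    have hy1 : f (g⁻¹ * x * g) ≠ 1 := fun e => hx1 (by
      have e2 : f x = f g * f (g⁻¹ * x * g) * (f g)⁻¹ := by
        rw [← map_inv, ← map_mul, ← map_mul]; congr 1; group
      rw [e2, e]; group)
    have hC := cH _ (preH _ hg') hy1
    have hmap : Subgroup.centralizer ({x} : Set G) =
        (Subgroup.centralizer ({g⁻¹ * x * g} : Set G)).map (MulAut.conj g).toMonoidHom := by
      ext c
      simp only [Subgroup.mem_map_equiv, Subgroup.mem_centralizer_iff, Set.mem_singleton_iff, forall_eq,
        MulAut.conj_symm_apply]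
      constructor
      · intro h
        calc g⁻¹ * x * g * (g⁻¹ * c * g) = g⁻¹ * (x * c) * g := by group
          _ = g⁻¹ * (c * x) * g := by rw [h]
          _ = g⁻¹ * c * g * (g⁻¹ * x * g) := by group
      · intro h
        calc x * c = g * (g⁻¹ * x * g * (g⁻¹ * c * g)) * g⁻¹ := by group
          _ = g * (g⁻¹ * c * g * (g⁻¹ * x * g)) * g⁻¹ := by rw [h]
          _ = c * x := by group
    rw [hmap, hC]; exact Subgroup.index_map_equiv H (MulAut.conj g)
  · intro n hn
    simp only [Set.mem_insert_iff, Set.mem_singleton_iff] at hn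
    have hKne : Kb ≠ ⊥ := fun e => by
      have := CfsgLib.Frobenius.one_lt_index hFrob
      rw [← hcardK, e, Subgroup.card_bot] at this
      omega
    rcases hn with rfl | rfl | rfl
    · exact ⟨1, by rw [Subgroup.index_eq_one, Subgroup.centralizer_eq_top_iff_subset]; simp⟩
    · obtain ⟨⟨_, ⟨x, hx, rfl⟩⟩, hx1⟩ := Subgroup.ne_bot_iff_exists_ne_one.mp hKne
      exact ⟨x, congrArg Subgroup.index (cK x hx (fun e => hx1 (Subtype.ext e)))⟩
    · obtain ⟨⟨_, ⟨x, hx, rfl⟩⟩, hx1⟩ := Subgroup.ne_bot_iff_exists_ne_one.mp hFrob.1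
      exact ⟨x, congrArg Subgroup.index (cH x hx (fun e => hx1 (Subtype.ext e)))⟩

end Cfsg.Agent.S4283
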