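import Cfsg.Statements.S4284
import Cfsg.Agent.Lib.Structure.TypeOneMNStructure

set_option autoImplicit false
open Cfsg

namespace Cfsg.Agent.S4284

/-- Let G be a finite group with no nontrivial abelian direct factor whose conjugacy class sizes are exactly 1, m and m·n with m, n > 1 coprime. Then m is a prime p dividing n − 1; the elements whose class has size 1 or p form an abelian normal subgroup of index p; G has a normal p-complement; and the commutator subgroup of a Sylow p-subgroup of G has order p. -/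
theorem result {G : Type*} [Group G] [Finite G] (hnodf : ∀ A B : Subgroup G, A.Normal → B.Normal → A ⊓ B = ⊥ → A ⊔ B = ⊤ → IsMulCommutative A → A = ⊥) (m n : ℕ) (hm : 1 < m) (hn : 1 < n) (hcop : m.Coprime n) (h : Set.range (fun x : G => (Subgroup.centralizer ({x} : Set G)).index) = ({1, m, m * n} : Set ℕ)) : m.Prime ∧ m ∣ n - 1 ∧ (∃ M : Subgroup G, M.Normal ∧ (M : Set G) = {x : G | (Subgroup.centralizer ({x} : Set G)).index = 1 ∨ (Subgroup.centralizer ({x} : Set G)).index = m} ∧ M.index = m ∧ IsMulCommutative M) ∧ (∃ N : Subgroup G, N.Normal ∧ (Nat.card N).Coprime m ∧ ∃ a : ℕ, N.index = m ^ a) ∧ ∀ P : Sylow m G, Nat.card (commutator (P : Subgroup G)) = m := by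
  have hH : CfsgLib.TypeMN.Hyp G m n :=
    { one_lt_m := hm
      one_lt_n := hn
      cop := hcop
      sizes := fun x => (h ▸ Set.mem_range_self x :
        (Subgroup.centralizer ({x} : Set G)).index ∈ ({1, m, m * n} : Set ℕ))
      exists_m := (h.symm ▸ Or.inr (Or.inl rfl) :
        m ∈ Set.range (fun x : G => (Subgroup.centralizer ({x} : Set G)).index))
      exists_mn := (h.symm ▸ Or.inr (Or.inr rfl) :
        m * n ∈ Set.range (fun x : G => (Subgroup.centralizer ({x} : Set G)).index)) }
  obtain ⟨p, b, hp, hb, hmb⟩ := hH.isPrimePow_m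
  haveI := Fact.mk hp
  obtain ⟨P0, N, hN, hc⟩ := hH.hasNormalPComplement hp hb hmb
  haveI := hN
  have hNc := CfsgLib.Transfer.eq_pResidual_of_isComplement' P0 N hc
  obtain ⟨i, hi⟩ := IsPGroup.iff_card.1 P0.isPGroup'
  have hidx : N.index = p ^ i := by rw [hc.symm.index_eq_card]; exact hi
  have hq : IsPGroup p (G ⧸ N) := IsPGroup.of_card (n := i) (by rw [← Subgroup.index_eq_card, hidx])
  have hS : ∀ P : Sylow p G, CfsgLib.TypeMN.Split G m n p b P N := fun P =>
    ⟨hH, hp, hb, hmb, hN, CfsgLib.Transfer.isComplement'_of_coprime N hNc.2 hq P⟩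
  obtain ⟨hm', hdiv, hM, -⟩ := (hS P0).main
  have hmp : m = p := ((Nat.prime_dvd_prime_iff_eq hp hm').1 (hmb ▸ dvd_pow_self p hb.ne')).symm
  refine ⟨hm', hdiv, hM, ⟨N, hN, ?_, i, by rw [hidx, hmp]⟩, fun P => ?_⟩
  · rw [hmp]
    exact ((hp.coprime_iff_not_dvd).2 hNc.2).symm
  · revert hS
    subst hmp
    intro hS
    exact (hS P).main.2.2.2

end Cfsg.Agent.S4284
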