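import Cfsg.Statements.S4291
import Cfsg.Agent.Lib.Structure.ComplementQuotient
import Cfsg.Agent.Lib.Frobenius.Theorem

-- import your own Cfsg.Agent.* helpers here

set_option autoImplicit false
set_option linter.style.haveILetI false
open Cfsg

namespace Cfsg.Agent.S4291

/-- Let G be a finite group that occurs as a Frobenius complement. Then G has exactly one normal subgroup N such that every Sylow subgroup of N is cyclic and the quotient of G by N is trivial or isomorphic to one of the following five groups: the Klein four-group, the alternating group of degree 4, the symmetric group of degree 4, the alternating group of degree 5, the symmetric group of degree 5. (The quotient is described by a surjective homomorphism with kernel N; the Klein four-group is written as the dihedral group of order 4.) -/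
theorem result {G : Type*} [Group G] [Finite G]
    (hFC : (∃ (L : Type) (_ : Group L) (_ : Finite L) (H : Subgroup L), Cfsg.IsFrobeniusComplement H ∧ Nonempty (G ≃* H))) :
    ∃! N : Subgroup G, N.Normal ∧ (∀ (p : ℕ) [Fact p.Prime] (P : Sylow p N), IsCyclic P) ∧
      (N = ⊤ ∨
        (∃ f : G →* DihedralGroup 2, Function.Surjective f ∧ f.ker = N) ∨
        (∃ f : G →* alternatingGroup (Fin 4), Function.Surjective f ∧ f.ker = N) ∨
        (∃ f : G →* Equiv.Perm (Fin 4), Function.Surjective f ∧ f.ker = N) ∨
        (∃ f : G →* alternatingGroup (Fin 5), Function.Surjective f ∧ f.ker = N) ∨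
        (∃ f : G →* Equiv.Perm (Fin 5), Function.Surjective f ∧ f.ker = N)) := by

  obtain ⟨L, _, _, H, hH, ⟨e⟩⟩ := hFC
  obtain ⟨K, -, hKn, hK⟩ := CfsgLib.Frobenius.exists_normal_kernel hH
  letI : MulDistribMulAction G K := MulDistribMulAction.compHom K
    ((MulAut.conjNormal (H := K)).comp (H.subtype.comp e.toMonoidHom))
  have hval : ∀ (g : G) (k : K), ((g • k : K) : L) = (e g : L) * k * (e g : L)⁻¹ := fun g k => rfl
  have hfpf : CfsgLib.Frobenius.IsFPF G K := by
    intro g hg k hk
    have hc : (e g : L) * k * (e g : L)⁻¹ = k := by rw [← hval, hk]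
    refine Subtype.ext (CfsgLib.Frobenius.eq_one_of_commute hH hK.disjoint k.2 (e g).2 ?_
      (mul_inv_eq_iff_eq_mul.1 hc))
    exact fun h => hg (e.injective (by rw [map_one]; exact Subtype.ext h))
  have : Nontrivial K := by
    rw [← Finite.one_lt_card_iff_nontrivial, ← hK.index_eq_card]
    exact CfsgLib.Frobenius.one_lt_index hH
  exact CfsgLib.ComplementQuotient.existsUnique_core hfpf

end Cfsg.Agent.S4291
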