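import Cfsg.Statements.S4292
import Cfsg.Agent.Lib.Structure.ComplementProduct
import Cfsg.Agent.Lib.Frobenius.Action
-- import your own Cfsg.Agent.* helpers here

set_option autoImplicit false
set_option linter.style.haveILetI false
open Cfsg

namespace Cfsg.Agent.S4292

theorem isAbstractComplement_of_embedding {A G : Type*} [Group A] [Finite A] [Nontrivial A]
    [Group G] (i : A →* G) (hi : Function.Injective i)
    (h : CfsgLib.FrobConstruct.IsAbstractComplement G) :
    CfsgLib.FrobConstruct.IsAbstractComplement A := by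
  obtain ⟨f, hf, hne⟩ := CfsgLib.ComplementProduct.exists_sumZero_of_isAbstractComplement h
  obtain ⟨g₀, hg₀⟩ := Function.ne_iff.mp hne
  refine CfsgLib.ComplementProduct.isAbstractComplement_of_sumZero (fun a => f (i a * g₀)) ?_ ?_
  · intro z hz a
    have ho : orderOf (i z) = orderOf z := orderOf_injective i hi z
    have h1 := hf (i z) (ho.symm ▸ hz) (i a * g₀)
    rw [ho] at h1
    simpa [map_mul, map_pow, mul_assoc] using h1
  · intro h0
    exact hg₀ (by simpa using congrFun h0 1)

theorem coprime_of_complement {A B L : Type*} [Group A] [Finite A] [Group B] [Finite B] [Group L]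
    [Finite L] {C : Subgroup L} (hC : Cfsg.IsFrobeniusComplement C) (e : A × B ≃* C) :
    (Nat.card A).Coprime (Nat.card B) := by
  obtain ⟨K, -, hKn, hKc⟩ := CfsgLib.Frobenius.exists_normal_kernel hC
  haveI := hKn
  refine Nat.coprime_of_dvd fun q hq hqA hqB => ?_
  haveI := Fact.mk hq
  obtain ⟨a, ha⟩ := exists_prime_orderOf_dvd_card' q hqA
  obtain ⟨b, hb⟩ := exists_prime_orderOf_dvd_card' q hqB
  let S : Subgroup (A × B) := (Subgroup.zpowers a).prod (Subgroup.zpowers b)
  let j : S →* L := (C.subtype.comp e.toMonoidHom).comp S.subtype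
  have hj : Function.Injective j := fun x y h =>
    Subtype.ext (e.injective (Subtype.ext h))
  haveI : IsMulCommutative j.range := ⟨⟨by
    rintro ⟨_, x, rfl⟩ ⟨_, y, rfl⟩
    refine Subtype.ext (show j x * j y = j y * j x from ?_)
    rw [← map_mul, ← map_mul]
    congr 1
    obtain ⟨⟨m, hm⟩, n, hn⟩ := (⟨x.2.1, x.2.2⟩ :
      (x : A × B).1 ∈ Subgroup.zpowers a ∧ (x : A × B).2 ∈ Subgroup.zpowers b)
    obtain ⟨⟨m', hm'⟩, n', hn'⟩ := (⟨y.2.1, y.2.2⟩ :
      (y : A × B).1 ∈ Subgroup.zpowers a ∧ (y : A × B).2 ∈ Subgroup.zpowers b)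
    refine Subtype.ext (Prod.ext ?_ ?_)
    · show (x : A × B).1 * (y : A × B).1 = (y : A × B).1 * (x : A × B).1
      rw [← hm, ← hm', zpow_mul_comm]
    · show (x : A × B).2 * (y : A × B).2 = (y : A × B).2 * (x : A × B).2
      rw [← hn, ← hn', zpow_mul_comm]⟩⟩
  haveI := CfsgLib.Frobenius.isCyclic_le_complement_of_commutative hC hKc (L := j.range)
    (by rintro _ ⟨x, rfl⟩; exact (e x).2)
  haveI : IsCyclic S := isCyclic_of_injective j.rangeRestrict
    (fun x y h => hj (congrArg (fun z : j.range => (z : L)) h :))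
  haveI : IsCyclic (Subgroup.zpowers a × Subgroup.zpowers b) :=
    isCyclic_of_surjective (Subgroup.prodEquiv (Subgroup.zpowers a) (Subgroup.zpowers b)).toMonoidHom
      (Subgroup.prodEquiv (Subgroup.zpowers a) (Subgroup.zpowers b)).surjective
  obtain ⟨-, -, hco⟩ := Group.isCyclic_prod_iff.mp this
  rw [Nat.card_zpowers, Nat.card_zpowers, ha, hb, Nat.coprime_self] at hco
  exact hq.one_lt.ne' hco

/-- Let A and B be nontrivial finite groups. Then the direct product A × B occurs as a Frobenius complement if and only if A and B both occur as Frobenius complements and the orders of A and B are coprime. -/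
theorem result {A B : Type*} [Group A] [Finite A] [Nontrivial A] [Group B] [Finite B] [Nontrivial B] :
    (∃ (L : Type) (_ : Group L) (_ : Finite L) (H : Subgroup L), Cfsg.IsFrobeniusComplement H ∧ Nonempty ((A × B) ≃* H)) ↔
    ((∃ (L : Type) (_ : Group L) (_ : Finite L) (H : Subgroup L), Cfsg.IsFrobeniusComplement H ∧ Nonempty (A ≃* H)) ∧
     (∃ (L : Type) (_ : Group L) (_ : Finite L) (H : Subgroup L), Cfsg.IsFrobeniusComplement H ∧ Nonempty (B ≃* H)) ∧
     (Nat.card A).Coprime (Nat.card B)) := by
  constructor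
  · intro h
    refine ⟨isAbstractComplement_of_embedding (MonoidHom.inl A B)
        (fun a b h => (Prod.ext_iff.mp h).1) h,
      isAbstractComplement_of_embedding (MonoidHom.inr A B)
        (fun a b h => (Prod.ext_iff.mp h).2) h, ?_⟩
    obtain ⟨L, i1, i2, C, hC, ⟨e⟩⟩ := h
    exact coprime_of_complement hC e
  · rintro ⟨hA, hB, hcop⟩
    obtain ⟨f, hf, hfne⟩ := CfsgLib.ComplementProduct.exists_sumZero_of_isAbstractComplement hA
    obtain ⟨g, hg, hgne⟩ := CfsgLib.ComplementProduct.exists_sumZero_of_isAbstractComplement hB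
    refine CfsgLib.ComplementProduct.isAbstractComplement_of_sumZero _
      (CfsgLib.ComplementProduct.sumZero_prod hcop hf hg) fun h => ?_
    obtain ⟨a, ha⟩ := Function.ne_iff.mp hfne
    obtain ⟨b, hb⟩ := Function.ne_iff.mp hgne
    exact mul_ne_zero ha hb (congrFun h (a, b))

end Cfsg.Agent.S4292
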