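import Cfsg.Statements.S4296
import Cfsg.Agent.Lib.Structure.AnticommutingSquare
import Cfsg.Agent.Lib.Frobenius.Theorem
import Cfsg.Agent.Lib.Frobenius.Action
import Cfsg.Agent.Lib.ConstStab.Basic
import Cfsg.Agent.Lib.InvChar.UniqueInvolution
-- import your own Cfsg.Agent.* helpers here

set_option autoImplicit false
set_option linter.style.haveILetI false
open Cfsg

namespace Cfsg.Agent.S4296

/-- In a noncyclic `p`-group whose abelian subgroups are cyclic there are `i` of order four and
`y` inverting it. -/
theorem exists_quaternion_pair {P : Type*} [Group P] [Finite P] {p : ℕ} [hp : Fact p.Prime]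
    (hP : IsPGroup p P) (hnc : ¬ IsCyclic P)
    (hab : ∀ A : Subgroup P, IsMulCommutative A → IsCyclic A) :
    ∃ i y : P, orderOf i = 4 ∧ y * i * y⁻¹ = i⁻¹ := by
  classical
  have hnab : ¬ IsMulCommutative P := fun h => by
    haveI := hab ⊤ ⟨⟨fun a b => Subtype.ext (h.is_comm.comm a.1 b.1)⟩⟩
    exact hnc (isCyclic_of_surjective (Subgroup.topEquiv (G := P)).toMonoidHom
      Subgroup.topEquiv.surjective)
  haveI : Nontrivial P := by
    by_contra h
    haveI := not_nontrivial_iff_subsingleton.mp h
    exact hnab ⟨⟨fun a b => Subsingleton.elim _ _⟩⟩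
  haveI := hP.center_nontrivial
  obtain ⟨z, hz⟩ := exists_prime_orderOf_dvd_card' p (G := Subgroup.center P) (by
    obtain ⟨k, hk⟩ := IsPGroup.iff_card.mp (hP.to_subgroup (Subgroup.center P))
    rw [hk]
    refine dvd_pow_self p fun hk0 => ?_
    have := Finite.one_lt_card (α := Subgroup.center P)
    rw [hk, hk0, pow_zero] at this
    exact lt_irrefl 1 this)
  have huniq0 : ∀ x : P, x ^ p = 1 → x ∈ Subgroup.zpowers (z : P) := by
    intro x hx
    let A := Subgroup.closure ({x, (z : P)} : Set P)
    haveI hA : IsMulCommutative A := Subgroup.isMulCommutative_closure (fun a ha b hb => by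
      simp only [Set.mem_insert_iff, Set.mem_singleton_iff] at ha hb
      have hzc := Subgroup.mem_center_iff.mp z.2
      rcases ha with rfl | rfl <;> rcases hb with rfl | rfl
      all_goals first | rfl | exact hzc _ | exact (hzc _).symm)
    haveI := hab A hA
    have hxA : x ∈ A := Subgroup.subset_closure (by simp)
    have hzA : (z : P) ∈ A := Subgroup.subset_closure (by simp)
    haveI := Fintype.ofFinite A
    let S : Finset A := Finset.univ.filter fun a => a ^ p = 1
    have hS : S.card ≤ p := IsCyclic.card_pow_eq_one_le hp.out.pos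
    let T : Finset A := Finset.univ.filter fun a => (a : P) ∈ Subgroup.zpowers (z : P)
    have hT : T.card = p := by
      have h1 : Nat.card ((Subgroup.zpowers (z : P)).subgroupOf A) = p := by
        rw [Nat.card_congr (Subgroup.subgroupOfEquivOfLe (Subgroup.zpowers_le.mpr hzA)).toEquiv,
          Nat.card_zpowers, Subgroup.orderOf_coe, hz]
      rw [← h1, Nat.card_eq_fintype_card, Fintype.card_subtype]
      congr 1
    have hsub : T ⊆ S := by
      intro a ha
      simp only [T, S, Finset.mem_filter, Finset.mem_univ, true_and] at ha ⊢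
      obtain ⟨k, hk⟩ := Subgroup.mem_zpowers_iff.mp ha
      refine Subtype.ext ?_
      rw [Subgroup.coe_pow, ← hk, Subgroup.coe_one, ← zpow_natCast, ← zpow_mul, mul_comm, zpow_mul,
        zpow_natCast]
      have h1 : (z : P) ^ p = 1 := by
        rw [← Subgroup.coe_pow, ← hz, pow_orderOf_eq_one, Subgroup.coe_one]
      rw [h1, one_zpow]
    have hTS := Finset.eq_of_subset_of_card_le hsub (hS.trans hT.ge)
    have hxS : (⟨x, hxA⟩ : A) ∈ S :=
      Finset.mem_filter.mpr ⟨Finset.mem_univ _, Subtype.ext hx⟩
    rw [← hTS] at hxS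
    exact (Finset.mem_filter.mp hxS).2
  have huniq : ∀ x y : P, x ≠ 1 → x ^ p = 1 → y ^ p = 1 → y ∈ Subgroup.zpowers x := by
    intro x y hx hxp hyp
    have h1 : Subgroup.zpowers x = Subgroup.zpowers (z : P) := by
      refine Subgroup.eq_of_le_of_card_ge (Subgroup.zpowers_le.mpr (huniq0 x hxp)) ?_
      rw [Nat.card_zpowers, Nat.card_zpowers, Subgroup.orderOf_coe, hz,
        orderOf_eq_prime hxp hx]
    rw [h1]
    exact huniq0 y hyp
  have hp2 : p = 2 := by
    by_contra h
    exact hnc (CfsgLib.ConstStab.isCyclic_of_unique_prime_subgroup h hP huniq)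
  subst hp2
  have hinv : ∀ u v : P, orderOf u = 2 → orderOf v = 2 → u = v := by
    intro u v hu hv
    obtain ⟨k, hk⟩ := Subgroup.mem_zpowers_iff.mp (huniq u v
      (fun h => by simp [h] at hu) (hu ▸ pow_orderOf_eq_one u) (hv ▸ pow_orderOf_eq_one v))
    rw [← zpow_mod_orderOf, hu] at hk
    rcases Int.emod_two_eq_zero_or_one k with h | h <;> norm_num [h] at hk
    · simp [← hk] at hv
    · exact hk
  obtain ⟨a, m, hm, ha, hidx, hout⟩ := CfsgLib.InvChar.exists_cyclic_index_two hP hnab hinv
  obtain ⟨y, -, hy⟩ : ∃ y ∈ (⊤ : Subgroup P), y ∉ Subgroup.zpowers a := by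
    refine SetLike.exists_of_lt (lt_top_iff_ne_top.mpr fun h => ?_)
    rw [h, Subgroup.index_top] at hidx
    omega
  refine ⟨a ^ 2 ^ (m - 2), y, ?_, ?_⟩
  · rw [orderOf_pow_of_dvd (pow_ne_zero _ two_ne_zero) (ha ▸ pow_dvd_pow 2 (by omega)), ha,
      Nat.pow_div (by omega) two_pos, show m - (m - 2) = 2 by omega]
    norm_num
  · rw [← conj_pow, (hout y hy).1, inv_pow]

/-- Let H be a Frobenius complement in a finite group, and suppose some Sylow subgroup of H is not cyclic. Then the number of elements of the Frobenius kernel (the identity together with the elements lying in no conjugate of H) is an odd perfect square. -/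
theorem result {L : Type*} [Group L] [Finite L] (H : Subgroup L) (hF : Cfsg.IsFrobeniusComplement H)
    (hZ : ∃ (p : ℕ) (_ : Fact p.Prime) (P : Sylow p H), ¬ IsCyclic P) :
    Odd (Nat.card (Cfsg.frobeniusKernel H)) ∧ IsSquare (Nat.card (Cfsg.frobeniusKernel H)) := by
  obtain ⟨p, hp, P, hP⟩ := hZ
  haveI := hp
  obtain ⟨K, hKset, hKn, hKc⟩ := CfsgLib.Frobenius.exists_normal_kernel hF
  haveI := hKn
  rw [← hKset]
  -- abelian subgroups of `P` are cyclic
  have hab : ∀ A : Subgroup (P : Subgroup H), IsMulCommutative A → IsCyclic A := by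
    intro A hA
    let f : A →* L := (H.subtype.comp (P : Subgroup H).subtype).comp A.subtype
    have hf : Function.Injective f := fun a b h => Subtype.ext (Subtype.ext (Subtype.ext h))
    haveI : IsMulCommutative f.range := ⟨⟨by
      rintro ⟨_, a, rfl⟩ ⟨_, b, rfl⟩
      exact Subtype.ext (by
        show f a * f b = f b * f a
        rw [← map_mul, ← map_mul, hA.is_comm.comm])⟩⟩
    haveI := CfsgLib.Frobenius.isCyclic_le_complement_of_commutative hF hKc
      (L := f.range) (by rintro _ ⟨a, rfl⟩; exact ((a : (P : Subgroup H)) : H).2)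
    exact isCyclic_of_injective f.rangeRestrict (fun a b h => hf (congrArg (fun z : f.range => (z : L)) h :))
  obtain ⟨i, y, hi, hyi⟩ := exists_quaternion_pair P.isPGroup' hP hab
  -- everything inside `L`
  have hH2 : 2 ∣ Nat.card H := by
    have h4 : orderOf ((i : H) : H) ∣ Nat.card H := orderOf_dvd_natCard _
    rw [Subgroup.orderOf_coe, hi] at h4
    exact dvd_trans (by norm_num) h4
  have hcop := CfsgLib.Frobenius.coprime_card_index hF
  have hKcard : Nat.card K = H.index := hKc.index_eq_card.symm
  have hodd : Odd (Nat.card K) := by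
    rw [hKcard, ← Nat.not_even_iff_odd, even_iff_two_dvd]
    intro h2
    exact Nat.not_coprime_of_dvd_of_dvd one_lt_two hH2 h2 hcop
  refine ⟨hodd, ?_⟩
  -- the action
  let _act : MulDistribMulAction H K :=
    MulDistribMulAction.compHom K ((MulAut.conjNormal (H := K)).comp H.subtype)
  have hfpf : CfsgLib.Frobenius.IsFPF H K := CfsgLib.Frobenius.fpf_of_complement hF hKc.disjoint
  have hne : ((i : H) * (i : H)) ≠ 1 := by
    intro h
    have h2 : orderOf ((i : H) : H) ∣ 2 := orderOf_dvd_of_pow_eq_one (by rw [pow_two, h])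
    rw [Subgroup.orderOf_coe, hi] at h2
    exact absurd (Nat.le_of_dvd two_pos h2) (by norm_num)
  have hi4 : ((i : H) * (i : H)) * ((i : H) * (i : H)) = 1 := by
    have := pow_orderOf_eq_one ((i : H) : H)
    rw [Subgroup.orderOf_coe, hi] at this
    rw [← this]
    simp [pow_succ, mul_assoc]
  letI : CommGroup K :=
    { (inferInstance : Group K) with mul_comm := fun a b => hfpf.commute_of_involution hne hi4 a b }
  let mkEnd : H → (Additive K →+ Additive K) := fun h =>
    MonoidHom.toAdditive
      (((MulAut.conjNormal (H := K)).comp H.subtype) h).toMonoidHom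
  have hinj : ∀ h : H, Function.Injective (mkEnd h) := fun h a b hab =>
    (((MulAut.conjNormal (H := K)).comp H.subtype) h).injective hab
  refine CfsgLib.AnticommutingSquare.isSquare_card (V := Additive K) hodd (mkEnd i) (mkEnd y)
    (hinj _) (hinj _) fun v => ?_
  have hmul : (y : H) * (i : H) = ((i : H) * (i : H)) * ((i : H) * (y : H)) := by
    have h1 : (y : H) * (i : H) * (y : H)⁻¹ = (i : H)⁻¹ := congrArg Subtype.val hyi
    have h2 : (y : H) * (i : H) = (i : H)⁻¹ * (y : H) := mul_inv_eq_iff_eq_mul.mp h1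
    rw [h2]
    have h3 : (i : H)⁻¹ = (i : H) * (i : H) * (i : H) :=
      inv_eq_of_mul_eq_one_right (by rw [← hi4]; simp [mul_assoc])
    rw [h3]
    group
  have key : ∀ k : K, (y : H) • (i : H) • k = ((i : H) • (y : H) • k)⁻¹ := by
    intro k
    rw [← mul_smul, hmul, mul_smul, hfpf.smul_eq_inv hne hi4, mul_smul]
  exact congrArg Additive.ofMul (key (Additive.toMul v))

end Cfsg.Agent.S4296
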