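import Cfsg.Statements.S4295
import Cfsg.Agent.S4296
import Cfsg.Agent.Lib.Structure.FrobeniusConstruct
import Cfsg.Agent.Lib.Frobenius.Basic
-- import your own Cfsg.Agent.* helpers here

set_option autoImplicit false
set_option linter.style.haveILetI false
open Cfsg

namespace Cfsg.Agent.S4295

theorem quat_sq : ∀ q : QuaternionGroup 2, q ≠ 1 →
    q * q = QuaternionGroup.a 2 ∨ q = QuaternionGroup.a 2 := by
  decide

theorem exists_quat_hom {R : Type*} [Ring R] (I J : R) (hII : I * I = -1) (hJJ : J * J = -1)
    (hIJ : I * J = -(J * I)) :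
    ∃ ρ : QuaternionGroup 2 →* R, ρ (QuaternionGroup.a 2) = -1 := by
  let f : QuaternionGroup 2 → R := fun q => match q with
    | .a k => I ^ k.val
    | .xa k => J * I ^ k.val
  have h4 : I ^ 4 = 1 := by
    rw [show 4 = 2 + 2 from rfl, pow_add, pow_two, hII]; simp
  have hmod : ∀ n : ℕ, I ^ (n % 4) = I ^ n := fun n => by
    conv_rhs => rw [← Nat.mod_add_div n 4, pow_add, pow_mul, h4, one_pow, mul_one]
  have hadd : ∀ i j : ZMod (2 * 2), I ^ (i + j).val = I ^ i.val * I ^ j.val := fun i j => by
    rw [ZMod.val_add, ← pow_add]; exact hmod _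
  have hneg : ∀ i : ZMod (2 * 2), I ^ i.val * J = J * I ^ (-i).val := by
    intro i
    fin_cases i
    · show I ^ 0 * J = J * I ^ 0
      simp
    · show I ^ 1 * J = J * I ^ 3
      rw [pow_one, pow_succ, pow_two, hII, hIJ, neg_one_mul, mul_neg]
    · show I ^ 2 * J = J * I ^ 2
      rw [pow_two, hII, neg_one_mul, mul_neg_one]
    · show I ^ 3 * J = J * I ^ 1
      rw [pow_one, pow_succ, pow_two, hII, neg_one_mul, neg_mul, hIJ, neg_neg]
  refine ⟨{ toFun := f, map_one' := ?_, map_mul' := ?_ }, ?_⟩
  · show I ^ (0 : ZMod (2 * 2)).val = 1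
    rw [ZMod.val_zero, pow_zero]
  · rintro (i | i) (j | j)
    · show I ^ (i + j).val = I ^ i.val * I ^ j.val
      exact hadd i j
    · show J * I ^ (j - i).val = I ^ i.val * (J * I ^ j.val)
      rw [← mul_assoc, hneg, mul_assoc, ← hadd, neg_add_eq_sub]
    · show J * I ^ (i + j).val = J * I ^ i.val * I ^ j.val
      rw [mul_assoc, hadd]
    · show I ^ ((2 : ZMod (2 * 2)) + j - i).val = J * I ^ i.val * (J * I ^ j.val)
      rw [mul_assoc J, ← mul_assoc (I ^ i.val), hneg, ← mul_assoc, ← mul_assoc, hJJ, mul_assoc (-1 : R),
        ← hadd, add_sub_assoc, neg_add_eq_sub, hadd, show ((2 : ZMod (2 * 2))).val = 2 from rfl,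
        pow_two, hII]
  · show I ^ ((2 : ZMod (2 * 2))).val = -1
    rw [show ((2 : ZMod (2 * 2))).val = 2 from rfl, pow_two, hII]

/-- For a natural number m the following are equivalent: (a) some finite group has a Frobenius complement isomorphic to the quaternion group of order 8 whose Frobenius kernel (the identity together with the elements lying in no conjugate of the complement) has exactly m elements; (b) m is an odd perfect square greater than 1. -/
theorem result (m : ℕ) :
    (∃ (L : Type) (_ : Group L) (_ : Finite L) (H : Subgroup L), Cfsg.IsFrobeniusComplement H ∧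
        Nonempty (H ≃* QuaternionGroup 2) ∧ Nat.card (Cfsg.frobeniusKernel H) = m) ↔
    (Odd m ∧ IsSquare m ∧ 1 < m) := by
  constructor
  · rintro ⟨L, i1, i2, H, hH, ⟨e⟩, hm⟩
    haveI := Fact.mk Nat.prime_two
    have hcardQ : Nat.card H = 2 ^ 3 := by
      rw [Nat.card_congr e.toEquiv, Nat.card_eq_fintype_card, QuaternionGroup.card]
      norm_num
    have hnc : ¬ IsCyclic H := by
      intro hc
      have h1 := IsCyclic.commGroup.mul_comm (e.symm (QuaternionGroup.a 1)) (e.symm (QuaternionGroup.xa 0))
      have h2 : (QuaternionGroup.a 1 : QuaternionGroup 2) * QuaternionGroup.xa 0 =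
          QuaternionGroup.xa 0 * QuaternionGroup.a 1 := by
        apply e.symm.injective
        rw [map_mul, map_mul]
        exact h1
      exact absurd h2 (by decide)
    obtain ⟨h1, h2⟩ := Cfsg.Agent.S4296.result H hH ⟨2, inferInstance, default, fun hP => hnc (by
      have hpg : IsPGroup 2 H := IsPGroup.of_card hcardQ
      have htop : ((default : Sylow 2 H) : Subgroup H) = ⊤ :=
        ((default : Sylow 2 H).is_maximal' (Q := ⊤)
          (hpg.of_equiv Subgroup.topEquiv.symm) le_top).symm
      haveI : IsCyclic (⊤ : Subgroup H) := htop ▸ hP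
      exact isCyclic_of_surjective (Subgroup.topEquiv (G := H)).toMonoidHom
        Subgroup.topEquiv.surjective)⟩
    rw [hm] at h1 h2
    refine ⟨h1, h2, ?_⟩
    rw [← hm, Nat.card_coe_set_eq, CfsgLib.Frobenius.ncard_frobeniusKernel hH]
    exact CfsgLib.Frobenius.one_lt_index hH
  · rintro ⟨hodd, ⟨r, rfl⟩, h1⟩
    obtain ⟨hr1, hrodd⟩ : 1 < r ∧ Odd r := ⟨by nlinarith, (Nat.odd_mul.mp hodd).1⟩
    let l := r.primeFactorsList
    let W := (i : Fin l.length) → ZMod (l.get i) × ZMod (l.get i)
    haveI hp : ∀ i : Fin l.length, Fact (Nat.Prime (l.get i)) := fun i =>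
      ⟨Nat.prime_of_mem_primeFactorsList (List.get_mem l i)⟩
    have hp2 : ∀ i : Fin l.length, l.get i ≠ 2 := fun i h2 => by
      have := Nat.dvd_of_mem_primeFactorsList (List.get_mem l i)
      rw [h2] at this
      exact (Nat.not_even_iff_odd.mpr hrodd) (even_iff_two_dvd.mpr this)
    choose a b hab using fun i : Fin l.length => ZMod.sq_add_sq (l.get i) (-1)
    let I : AddMonoid.End W :=
      { toFun := fun v i => (-(v i).2, (v i).1)
        map_zero' := by
          funext i
          show (-(0 : ZMod (l.get i)), (0 : ZMod (l.get i))) = (0, 0)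
          rw [neg_zero]
        map_add' := fun v w => by
          funext i
          show (-((v i).2 + (w i).2), (v i).1 + (w i).1) =
            (-(v i).2 + -(w i).2, (v i).1 + (w i).1)
          rw [neg_add] }
    let J : AddMonoid.End W :=
      { toFun := fun v i => (a i * (v i).1 + b i * (v i).2, b i * (v i).1 - a i * (v i).2)
        map_zero' := by
          funext i
          show (a i * (0 : ZMod (l.get i)) + b i * 0, b i * (0 : ZMod (l.get i)) - a i * 0) = (0, 0)
          simp
        map_add' := fun v w => by
          funext i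
          show (a i * ((v i).1 + (w i).1) + b i * ((v i).2 + (w i).2),
            b i * ((v i).1 + (w i).1) - a i * ((v i).2 + (w i).2)) =
            (a i * (v i).1 + b i * (v i).2 + (a i * (w i).1 + b i * (w i).2),
            b i * (v i).1 - a i * (v i).2 + (b i * (w i).1 - a i * (w i).2))
          ext <;> ring }
    have hII : I * I = -1 := AddMonoidHom.ext fun v => funext fun i => by
      show ((-(v i).1), -(v i).2) = -(v i)
      rfl
    have hJJ : J * J = -1 := AddMonoidHom.ext fun v => funext fun i => by
      show (a i * (a i * (v i).1 + b i * (v i).2) + b i * (b i * (v i).1 - a i * (v i).2),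
        b i * (a i * (v i).1 + b i * (v i).2) - a i * (b i * (v i).1 - a i * (v i).2)) = -(v i)
      ext
      · show _ = -(v i).1
        linear_combination (v i).1 * hab i
      · show _ = -(v i).2
        linear_combination (v i).2 * hab i
    have hIJ : I * J = -(J * I) := AddMonoidHom.ext fun v => funext fun i => by
      show (-(b i * (v i).1 - a i * (v i).2), a i * (v i).1 + b i * (v i).2) =
        -((a i * -(v i).2 + b i * (v i).1, b i * -(v i).2 - a i * (v i).1))
      ext <;> simp only [Prod.fst_neg, Prod.snd_neg] <;> ring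
    have h2 : ∀ v : W, v + v = 0 → v = 0 := by
      intro v hv
      funext i
      have h := congrFun hv i
      have hne : (2 : ZMod (l.get i)) ≠ 0 := by
        intro h0
        exact hp2 i ((Nat.prime_dvd_prime_iff_eq (hp i).out Nat.prime_two).mp
          ((ZMod.natCast_eq_zero_iff 2 _).mp (by exact_mod_cast h0)))
      ext
      · have h' : (2 : ZMod (l.get i)) * (v i).1 = 0 := by
          rw [two_mul]; exact congrArg Prod.fst h
        exact (mul_eq_zero.mp h').resolve_left hne
      · have h' : (2 : ZMod (l.get i)) * (v i).2 = 0 := by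
          rw [two_mul]; exact congrArg Prod.snd h
        exact (mul_eq_zero.mp h').resolve_left hne
    obtain ⟨ρ, hρ⟩ := exists_quat_hom (R := AddMonoid.End W) I J hII hJJ hIJ
    have hfpf : ∀ q : QuaternionGroup 2, q ≠ 1 → ∀ v : W, ρ q v = v → v = 0 := by
      intro q hq v hv
      apply h2
      have hm1 : ρ (QuaternionGroup.a 2) v = -v := by rw [hρ]; rfl
      rcases quat_sq q hq with h | h
      · have h3 : ρ (QuaternionGroup.a 2) v = v := by
          rw [← h, map_mul]
          exact (congrArg (ρ q) hv).trans hv
        rw [hm1] at h3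
        exact (congrArg (· + v) h3.symm).trans (neg_add_cancel v)
      · rw [h, hm1] at hv
        exact (congrArg (· + v) hv.symm).trans (neg_add_cancel v)
    have hcardW : Nat.card W = r * r := by
      calc Nat.card W = ∏ i : Fin l.length, l.get i * l.get i := by
            rw [Nat.card_pi]
            exact Finset.prod_congr rfl fun i _ => by rw [Nat.card_prod, Nat.card_zmod]
        _ = (∏ i : Fin l.length, l.get i) * ∏ i : Fin l.length, l.get i :=
            Finset.prod_mul_distrib
        _ = l.prod * l.prod := by rw [← List.prod_ofFn, List.ofFn_get]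
        _ = r * r := by rw [Nat.prod_primeFactorsList (by omega)]
    haveI : Finite W := Nat.finite_of_card_ne_zero (by rw [hcardW]; positivity)
    haveI : Nontrivial W := Finite.one_lt_card_iff_nontrivial.mp (by rw [hcardW]; exact h1)
    haveI : Finite (Multiplicative W) := ‹Finite W›
    haveI : Nontrivial (QuaternionGroup 2) := ⟨⟨1, QuaternionGroup.a 1, by decide⟩⟩
    let φ := CfsgLib.FrobConstruct.endToMulAut ρ
    have hC := CfsgLib.FrobConstruct.isFrobeniusComplement_inr φ (fun q hq x hx =>
      Multiplicative.toAdd.injective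
        ((hfpf q hq x.toAdd (congrArg Multiplicative.toAdd hx)).trans toAdd_one.symm))
    haveI : Finite (Multiplicative W ⋊[φ] QuaternionGroup 2) :=
      Finite.of_equiv _ SemidirectProduct.equivProd.symm
    refine ⟨Multiplicative W ⋊[φ] QuaternionGroup 2, inferInstance, inferInstance, _, hC,
      ⟨(MonoidHom.ofInjective (f := SemidirectProduct.inr (φ := φ))
        SemidirectProduct.inr_injective).symm⟩, ?_⟩
    rw [Nat.card_coe_set_eq, CfsgLib.Frobenius.ncard_frobeniusKernel hC, ← hcardW]
    have h3 := (SemidirectProduct.inr (φ := φ)).range.card_mul_index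
    rw [Nat.card_congr (MonoidHom.ofInjective (f := SemidirectProduct.inr (φ := φ))
      SemidirectProduct.inr_injective).toEquiv.symm, SemidirectProduct.card,
      show Nat.card (Multiplicative W) = Nat.card W from rfl, mul_comm (Nat.card W)] at h3
    exact Nat.eq_of_mul_eq_mul_left Nat.card_pos h3

end Cfsg.Agent.S4295
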