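import Cfsg.Statements.S4297
import Cfsg.Agent.Lib.Structure.FrobeniusConstruct
-- import your own Cfsg.Agent.* helpers here

set_option autoImplicit false
set_option linter.style.haveILetI false
open Cfsg

namespace Cfsg.Agent.S4297

noncomputable section

open Quaternion

/-- The imaginary unit `j`. -/
def qj : ℍ[ℝ] := ⟨0, 0, 1, 0⟩

@[simp] theorem qj_re : qj.re = 0 := rfl
@[simp] theorem qj_imI : qj.imI = 0 := rfl
@[simp] theorem qj_imJ : qj.imJ = 1 := rfl
@[simp] theorem qj_imK : qj.imK = 0 := rfl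

theorem qj_mul_coe (z : ℂ) : qj * (z : ℍ[ℝ]) = ⟨0, 0, z.re, -z.im⟩ := by
  ext <;> simp

theorem coe_mul_qj (z : ℂ) : (z : ℍ[ℝ]) * qj = ⟨0, 0, z.re, z.im⟩ := by
  ext <;> simp

theorem qj_mul_qj : qj * qj = -1 := by
  ext <;> simp

/-- The value at `a i`. -/
def zeta (n : ℕ) [NeZero (2 * n)] (i : ZMod (2 * n)) : ℂ := (ZMod.toCircle i : ℂ)

variable {n : ℕ} [NeZero n] [NeZero (2 * n)]

theorem zeta_add (i j : ZMod (2 * n)) : zeta n (i + j) = zeta n i * zeta n j := by
  simp [zeta, AddChar.map_add_eq_mul]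

theorem zeta_neg (i : ZMod (2 * n)) : zeta n (-i) = (starRingEnd ℂ) (zeta n i) := by
  rw [zeta, zeta, AddChar.map_neg_eq_inv, Circle.coe_inv_eq_conj]

theorem zeta_n : zeta n (n : ZMod (2 * n)) = -1 := by
  rw [zeta, ZMod.toCircle_natCast]
  have : (2 * Real.pi * Complex.I * (n : ℂ) / ((2 * n : ℕ) : ℂ)) = Real.pi * Complex.I := by
    have hn : (n : ℂ) ≠ 0 := Nat.cast_ne_zero.mpr (NeZero.ne n)
    push_cast
    field_simp
  rw [this, Complex.exp_pi_mul_I]

theorem zeta_zero : zeta n 0 = 1 := by simp [zeta]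

/-- The map to the quaternions. -/
def quatFun (n : ℕ) [NeZero (2 * n)] : QuaternionGroup n → ℍ[ℝ]
  | .a i => (zeta n i : ℍ[ℝ])
  | .xa i => qj * (zeta n i : ℍ[ℝ])

theorem coe_mul_qj' (z : ℂ) : (z : ℍ[ℝ]) * qj = qj * (((starRingEnd ℂ) z : ℂ) : ℍ[ℝ]) := by
  rw [coe_mul_qj, qj_mul_coe]
  simp <;> rfl

/-- The embedding of the dicyclic group. -/
def quatHom (n : ℕ) [NeZero n] [NeZero (2 * n)] : QuaternionGroup n →* ℍ[ℝ] where
  toFun := quatFun n
  map_one' := by
    show (zeta n 0 : ℍ[ℝ]) = 1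
    rw [zeta_zero, Quaternion.coeComplex_one]
  map_mul' := by
    rintro (i | i) (j | j)
    · simp only [QuaternionGroup.a_mul_a, quatFun, zeta_add, Quaternion.coeComplex_mul]
    · simp only [QuaternionGroup.a_mul_xa, quatFun]
      rw [← mul_assoc, coe_mul_qj', mul_assoc, ← Quaternion.coeComplex_mul, ← zeta_neg, ← zeta_add,
        neg_add_eq_sub]
    · simp only [QuaternionGroup.xa_mul_a, quatFun, zeta_add, Quaternion.coeComplex_mul, mul_assoc]
    · simp only [QuaternionGroup.xa_mul_xa, quatFun]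
      rw [mul_assoc qj, ← mul_assoc (zeta n i : ℍ[ℝ]), coe_mul_qj', ← mul_assoc qj, ← mul_assoc qj,
        qj_mul_qj, mul_assoc (-1 : ℍ[ℝ]), ← Quaternion.coeComplex_mul, ← zeta_neg, ← zeta_add,
        neg_add_eq_sub]
      rw [show (n : ZMod (2 * n)) + j - i = (n : ZMod (2 * n)) + (j - i) by abel, zeta_add, zeta_n,
        Quaternion.coeComplex_mul]
      congr 1
      ext <;> simp

theorem quatHom_injective (n : ℕ) [NeZero n] [NeZero (2 * n)] :
    Function.Injective (quatHom n) := by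
  have hz : ∀ i j : ZMod (2 * n), (zeta n i : ℍ[ℝ]) = (zeta n j : ℍ[ℝ]) → i = j := by
    intro i j h
    apply ZMod.injective_toCircle
    apply Circle.coe_injective
    apply Complex.ext
    · simpa [zeta] using congrArg (fun q : ℍ[ℝ] => q.re) h
    · simpa [zeta] using congrArg (fun q : ℍ[ℝ] => q.imI) h
  have hne : ∀ i j : ZMod (2 * n), (zeta n i : ℍ[ℝ]) ≠ qj * (zeta n j : ℍ[ℝ]) := by
    intro i j h
    rw [qj_mul_coe] at h
    have h1 : (zeta n i).re = 0 := by simpa using congrArg (fun q : ℍ[ℝ] => q.re) h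
    have h2 : (zeta n i).im = 0 := by simpa using congrArg (fun q : ℍ[ℝ] => q.imI) h
    exact Circle.coe_ne_zero _ (Complex.ext h1 h2 : zeta n i = 0)
  rintro (i | i) (j | j) h <;> simp only [quatHom, MonoidHom.coe_mk, OneHom.coe_mk, quatFun] at h
  · rw [hz i j h]
  · exact absurd h (hne i j)
  · exact absurd h.symm (hne j i)
  · have hq : qj ≠ 0 := fun h0 => by simpa [qj_mul_qj] using congrArg (qj * ·) h0
    rw [hz i j (mul_left_cancel₀ hq h)]

end

/-- For every n ≥ 2 the dicyclic group of order 4n (generated by an element a of order 2n and an element x with x² = aⁿ and x a x⁻¹ = a⁻¹) occurs as a Frobenius complement of some finite Frobenius group. -/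
theorem result (n : ℕ) (hn : 2 ≤ n) :
    ∃ (L : Type) (_ : Group L) (_ : Finite L) (H : Subgroup L), Cfsg.IsFrobeniusComplement H ∧ Nonempty (H ≃* QuaternionGroup n) := by
  haveI : NeZero n := ⟨by omega⟩
  haveI : NeZero (2 * n) := ⟨by omega⟩
  haveI : Nontrivial (QuaternionGroup n) :=
    ⟨⟨QuaternionGroup.a 0, QuaternionGroup.xa 0, fun h => by injection h⟩⟩
  obtain ⟨L, i1, i2, C, hC, ⟨e⟩⟩ :=
    CfsgLib.FrobConstruct.isAbstractComplement_of_injective (quatHom n) (quatHom_injective n)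
  exact ⟨L, i1, i2, C, hC, ⟨e.symm⟩⟩

end Cfsg.Agent.S4297
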