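import Cfsg.Statements.S4298
import Cfsg.Agent.Lib.Structure.FrobeniusConstruct
-- import your own Cfsg.Agent.* helpers here

set_option autoImplicit false
set_option linter.style.haveILetI false
open Cfsg

namespace Cfsg.Agent.S4298

/-- Entries of the embedding of `SL(2,3)` in `SL(2,5)`, indexed by `27a+9b+3c+d`. -/
def tbl : List (ZMod 5 × ZMod 5 × ZMod 5 × ZMod 5) :=
  [(1,0,0,1),(1,0,0,1),(1,0,0,1),(1,0,0,1),(1,0,0,1),(1,0,0,1),(1,0,0,1),(1,0,0,1),(1,0,0,1),(1,0,0,1),(1,0,0,1),(1,0,0,1),(1,0,0,1),(1,0,0,1),(1,0,0,1),(0,4,1,0),(2,4,3,4),(3,2,1,1),(1,0,0,1),(1,0,0,1),(1,0,0,1),(0,1,4,0),(2,3,4,4),(3,1,2,1),(1,0,0,1),(1,0,0,1),(1,0,0,1),(1,0,0,1),(1,0,0,1),(1,0,0,1),(1,0,0,1),(1,2,1,3),(1,0,0,1),(1,0,0,1),(3,3,4,1),(1,0,0,1),(1,0,0,1),(1,1,2,3),(1,0,0,1),(1,0,0,1),(1,0,0,1),(0,2,2,0),(4,2,1,2),(1,0,0,1),(1,0,0,1),(1,0,0,1),(3,4,3,1),(1,0,0,1),(4,1,2,2),(1,0,0,1),(1,0,0,1),(1,0,0,1),(1,0,0,1),(3,0,0,2),(1,0,0,1),(1,0,0,1),(4,0,0,4),(1,0,0,1),(1,0,0,1),(2,2,1,4),(1,0,0,1),(1,0,0,1),(4,3,4,2),(1,0,0,1),(1,0,0,1),(2,1,2,4),(1,0,0,1),(2,0,0,3),(1,0,0,1),(1,4,3,3),(1,0,0,1),(1,0,0,1),(1,0,0,1),(1,0,0,1),(4,4,3,2),(1,3,4,3),(1,0,0,1),(1,0,0,1),(1,0,0,1),(0,3,3,0),(1,0,0,1)]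

/-- The four entries. -/
def T (a b c d : ZMod 3) : ZMod 5 × ZMod 5 × ZMod 5 × ZMod 5 :=
  tbl.getD (27 * a.val + 9 * b.val + 3 * c.val + d.val) (0, 0, 0, 0)

/-- Product of entry quadruples. -/
def qmul (x y : ZMod 5 × ZMod 5 × ZMod 5 × ZMod 5) : ZMod 5 × ZMod 5 × ZMod 5 × ZMod 5 :=
  (x.1 * y.1 + x.2.1 * y.2.2.1, x.1 * y.2.1 + x.2.1 * y.2.2.2,
    x.2.2.1 * y.1 + x.2.2.2 * y.2.2.1, x.2.2.1 * y.2.1 + x.2.2.2 * y.2.2.2)

theorem T_mul : ∀ a b c d : ZMod 3, a * d - b * c = 1 → ∀ e f g h : ZMod 3, e * h - f * g = 1 →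
    T (a * e + b * g) (a * f + b * h) (c * e + d * g) (c * f + d * h) =
      qmul (T a b c d) (T e f g h) := by
  decide +kernel

theorem T_det : ∀ a b c d : ZMod 3, a * d - b * c = 1 → ((a, b, c, d) ≠ (1, 0, 0, 1)) →
    ((T a b c d).1 - 1) * ((T a b c d).2.2.2 - 1) - (T a b c d).2.1 * (T a b c d).2.2.1 ≠ 0 := by
  decide +kernel

/-- The matrix. -/
def emb (A : Matrix.SpecialLinearGroup (Fin 2) (ZMod 3)) : Matrix (Fin 2) (Fin 2) (ZMod 5) :=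
  !![(T (A 0 0) (A 0 1) (A 1 0) (A 1 1)).1, (T (A 0 0) (A 0 1) (A 1 0) (A 1 1)).2.1;
     (T (A 0 0) (A 0 1) (A 1 0) (A 1 1)).2.2.1, (T (A 0 0) (A 0 1) (A 1 0) (A 1 1)).2.2.2]

theorem det_eq (A : Matrix.SpecialLinearGroup (Fin 2) (ZMod 3)) :
    A 0 0 * A 1 1 - A 0 1 * A 1 0 = 1 := by
  rw [← Matrix.det_fin_two]
  exact A.2

theorem emb_one : emb 1 = 1 := by
  rw [Matrix.one_fin_two]
  decide +kernel

theorem emb_mul (A B : Matrix.SpecialLinearGroup (Fin 2) (ZMod 3)) :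
    emb (A * B) = emb A * emb B := by
  simp only [emb, Matrix.mul_fin_two, Matrix.SpecialLinearGroup.coe_mul, Matrix.mul_apply,
    Fin.sum_univ_two]
  rw [T_mul _ _ _ _ (det_eq A) _ _ _ _ (det_eq B)]
  rfl

theorem emb_fpf (A : Matrix.SpecialLinearGroup (Fin 2) (ZMod 3)) (hA : A ≠ 1)
    (v : Fin 2 → ZMod 5) (hv : (emb A).mulVec v = v) : v = 0 := by
  haveI : Fact (Nat.Prime 5) := ⟨by norm_num⟩
  refine Matrix.eq_zero_of_mulVec_eq_zero (M := emb A - 1) ?_ (by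
    rw [Matrix.sub_mulVec, hv, Matrix.one_mulVec, sub_self])
  have h := T_det _ _ _ _ (det_eq A) (by
    intro h
    simp only [Prod.mk.injEq] at h
    apply hA
    ext i j
    fin_cases i <;> fin_cases j <;> simp [h])
  simpa [Matrix.det_fin_two, emb] using h

/-- The group SL(2,3) of order 24 (the binary tetrahedral group) occurs as a Frobenius complement of some finite Frobenius group. -/
theorem result :
    ∃ (L : Type) (_ : Group L) (_ : Finite L) (H : Subgroup L), Cfsg.IsFrobeniusComplement H ∧ Nonempty (H ≃* Matrix.SpecialLinearGroup (Fin 2) (ZMod 3)) := by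
  haveI : Nontrivial (Matrix.SpecialLinearGroup (Fin 2) (ZMod 3)) :=
    ⟨⟨1, ⟨!![1, 1; 0, 1], by simp [Matrix.det_fin_two]⟩, by
      intro h
      have := congrFun (congrFun (congrArg Subtype.val h) 0) 1
      simp at this⟩⟩
  let ρ : Matrix.SpecialLinearGroup (Fin 2) (ZMod 3) →* AddMonoid.End (Fin 2 → ZMod 5) :=
    { toFun := fun A => (Matrix.mulVecLin (emb A)).toAddMonoidHom
      map_one' := by
        refine AddMonoidHom.ext fun v => ?_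
        show (emb 1).mulVec v = v
        rw [emb_one, Matrix.one_mulVec]
      map_mul' := fun A B => by
        refine AddMonoidHom.ext fun v => ?_
        show (emb (A * B)).mulVec v = (emb A).mulVec ((emb B).mulVec v)
        rw [emb_mul, Matrix.mulVec_mulVec] }
  haveI : Fact (1 < 5) := ⟨by norm_num⟩
  obtain ⟨L, i1, i2, C, hC, ⟨e⟩⟩ := CfsgLib.FrobConstruct.isAbstractComplement_of_rep ρ
    fun A hA v hv => emb_fpf A hA v hv
  exact ⟨L, i1, i2, C, hC, ⟨e.symm⟩⟩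

end Cfsg.Agent.S4298
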