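import Cfsg.Statements.S4299
import Cfsg.Agent.Lib.Structure.FrobeniusConstruct
-- import your own Cfsg.Agent.* helpers here

set_option autoImplicit false
set_option linter.style.haveILetI false
open Cfsg

namespace Cfsg.Agent.S4299

/-- Every nontrivial finite cyclic group occurs as a Frobenius complement of some finite Frobenius group. -/
theorem result {C : Type*} [Group C] [Finite C] [IsCyclic C] [Nontrivial C] :
    ∃ (L : Type) (_ : Group L) (_ : Finite L) (H : Subgroup L), Cfsg.IsFrobeniusComplement H ∧ Nonempty (C ≃* H) := by
  haveI : NeZero (Nat.card C) := ⟨Nat.card_pos.ne'⟩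
  let e : C ≃* Multiplicative (ZMod (Nat.card C)) := (zmodCyclicMulEquiv inferInstance).symm
  let f : C →* ℂ := (Circle.coeHom.comp
    (ZMod.toCircle (N := Nat.card C)).toMonoidHom).comp e.toMonoidHom
  exact CfsgLib.FrobConstruct.isAbstractComplement_of_injective f
    (Circle.coe_injective.comp (ZMod.injective_toCircle.comp
      (Multiplicative.toAdd.injective.comp e.injective)))

end Cfsg.Agent.S4299
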