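import Cfsg.Statements.S4300
-- import your own Cfsg.Agent.* helpers here

set_option autoImplicit false
set_option linter.style.haveILetI false
open Cfsg

namespace Cfsg.Agent.S4300

/-- Let G act faithfully and primitively on a set X, and suppose the stabilizer of some point is a simple group. Then either G is simple, or G has a normal subgroup, neither trivial nor the whole group, that acts regularly on X (transitively with trivial point stabilizers). -/
theorem result {G : Type*} [Group G] {X : Type*} [MulAction G X] [FaithfulSMul G X]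
    (hprim : MulAction.IsPreprimitive G X) (x : X) (hsimple : IsSimpleGroup (MulAction.stabilizer G x)) :
    IsSimpleGroup G ∨ ∃ N : Subgroup G, N.Normal ∧ N ≠ ⊥ ∧ N ≠ ⊤ ∧
      MulAction.IsPretransitive N X ∧ ∀ y : X, MulAction.stabilizer N y = ⊥ := by
  by_cases hG : IsSimpleGroup G
  · exact Or.inl hG
  right
  haveI := hprim
  haveI : Nontrivial (MulAction.stabilizer G x) := hsimple.toNontrivial
  haveI : Nontrivial G := Function.Injective.nontrivial (MulAction.stabilizer G x).subtype_injective
  obtain ⟨N, hN, hbot, htop⟩ : ∃ N : Subgroup G, N.Normal ∧ N ≠ ⊥ ∧ N ≠ ⊤ := by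
    by_contra hcon
    push Not at hcon
    exact hG ⟨fun N hN => or_iff_not_imp_left.mpr fun hb => hcon N hN hb⟩
  haveI := hN
  have htr : MulAction.IsPretransitive N X := by
    refine MulAction.IsQuasiPreprimitive.isPretransitive_of_normal (G := G) (N := N) ?_
    intro hfix
    apply hbot
    rw [Subgroup.eq_bot_iff_forall]
    intro n hn
    apply FaithfulSMul.eq_of_smul_eq_smul (α := X)
    intro y
    rw [one_smul]
    have : y ∈ MulAction.fixedPoints N X := hfix ▸ Set.mem_univ y
    exact this ⟨n, hn⟩
  refine ⟨N, hN, hbot, htop, htr, ?_⟩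
  have hx : MulAction.stabilizer N x = ⊥ := by
    rcases hsimple.eq_bot_or_eq_top_of_normal
      (N.subgroupOf (MulAction.stabilizer G x)) inferInstance with h | h
    · rw [Subgroup.eq_bot_iff_forall]
      intro n hn
      have h2 : (⟨(n : G), hn⟩ : MulAction.stabilizer G x) ∈
          N.subgroupOf (MulAction.stabilizer G x) := n.2
      rw [h, Subgroup.mem_bot] at h2
      exact Subtype.ext (congrArg Subtype.val h2 :)
    · exfalso
      apply htop
      rw [Subgroup.subgroupOf_eq_top] at h
      rw [Subgroup.eq_top_iff']
      intro g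
      obtain ⟨n, hn⟩ := htr.exists_smul_eq x (g • x)
      have h3 : (n : G)⁻¹ * g ∈ MulAction.stabilizer G x := by
        rw [MulAction.mem_stabilizer_iff, mul_smul, ← hn]
        exact inv_smul_smul (n : G) x
      have h4 := N.mul_mem n.2 (h h3)
      simpa using h4
  intro y
  obtain ⟨n, rfl⟩ := htr.exists_smul_eq x y
  rw [MulAction.stabilizer_smul_eq_stabilizer_map_conj, hx, Subgroup.map_bot]

end Cfsg.Agent.S4300
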