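import Cfsg.Statements.S4301
-- import your own Cfsg.Agent.* helpers here

set_option autoImplicit false
set_option linter.style.haveILetI false
open Cfsg

namespace Cfsg.Agent.S4301

/-- One-point extension of a multiply transitive group. Let X be a set and G a group of permutations of Option X (the set X with one extra point ∗ = none) all of whose elements fix ∗, such that G is k-transitive on the points of X for some k ≥ 2, X having at least k points. Suppose a permutation h of Option X and an element g of G satisfy: h interchanges ∗ with a point x of X and fixes a point y of X; g interchanges x and y; (g h)³ and h² lie in G; and for every f in G fixing x, the product h f h lies in G and fixes x. Then an element of the group generated by G and h fixes ∗ exactly when it lies in G, and that group acts (k+1)-transitively on Option X. -/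
theorem result {X : Type*} (G : Subgroup (Equiv.Perm (Option X))) (hfix : ∀ f ∈ G, f none = none)
    (k : ℕ) (hk : 2 ≤ k) (hkX : Nonempty (Fin k ↪ X))
    (htrans : ∀ a b : Fin k ↪ X, ∃ f ∈ G, ∀ i, f (some (a i)) = some (b i))
    (h g : Equiv.Perm (Option X)) (hg : g ∈ G) (x y : X)
    (h1 : h none = some x) (h2 : h (some x) = none) (h3 : h (some y) = some y)
    (h4 : g (some x) = some y) (h5 : g (some y) = some x)
    (h6 : (g * h) ^ 3 ∈ G) (h7 : h ^ 2 ∈ G)
    (h8 : ∀ f ∈ G, f (some x) = some x → h * f * h ∈ G ∧ (h * f * h) (some x) = some x) :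
    (∀ f ∈ Subgroup.closure ((G : Set (Equiv.Perm (Option X))) ∪ {h}), f none = none ↔ f ∈ G) ∧
      MulAction.IsMultiplyPretransitive (Subgroup.closure ((G : Set (Equiv.Perm (Option X))) ∪ {h})) (Option X) (k + 1) := by

  classical
  -- two-point transitivity on X
  have i0 : (0 : ℕ) < k := by omega
  obtain ⟨e₀⟩ := hkX
  have embed : ∀ u v : X, u ≠ v → ∃ e : Fin k ↪ X, e ⟨0, i0⟩ = u ∧ e ⟨1, by omega⟩ = v := by
    intro u v huv
    let e₁ := e₀.trans (Equiv.swap (e₀ ⟨0, i0⟩) u).toEmbedding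
    have h01 : e₁ ⟨0, i0⟩ = u := by simp [e₁]
    refine ⟨e₁.trans (Equiv.swap (e₁ ⟨1, by omega⟩) v).toEmbedding, ?_, by simp⟩
    have hne : e₁ ⟨1, by omega⟩ ≠ u := fun e => by
      have := e₁.injective (e.trans h01.symm)
      simp [Fin.ext_iff] at this
    rw [Function.Embedding.trans_apply, h01, Equiv.coe_toEmbedding, Equiv.swap_apply_of_ne_of_ne (Ne.symm hne) huv]
  have hxy : x ≠ y := by
    intro e; subst e; rw [h2] at h3; simp at h3
  have two : ∀ u v u' v' : X, u ≠ v → u' ≠ v' → ∃ f ∈ G, f (some u) = some u' ∧ f (some v) = some v' := by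
    intro u v u' v' huv huv'
    obtain ⟨e, he0, he1⟩ := embed u v huv
    obtain ⟨e', he0', he1'⟩ := embed u' v' huv'
    obtain ⟨f, hf, hfe⟩ := htrans e e'
    exact ⟨f, hf, by simpa [he0, he0'] using hfe ⟨0, i0⟩, by simpa [he1, he1'] using hfe ⟨1, by omega⟩⟩
  have one : ∀ u u' : X, ∃ f ∈ G, f (some u) = some u' := by
    intro u u'
    obtain ⟨v, hv⟩ : ∃ v, u ≠ v := by
      by_cases hu : u = x
      · exact ⟨y, hu ▸ hxy⟩
      · exact ⟨x, hu⟩
    obtain ⟨v', hv'⟩ : ∃ v, u' ≠ v := by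
      by_cases hu : u' = x
      · exact ⟨y, hu ▸ hxy⟩
      · exact ⟨x, hu⟩
    obtain ⟨f, hf, e, -⟩ := two u v u' v' hv hv'
    exact ⟨f, hf, e⟩
  -- the double coset
  let D : Set (Equiv.Perm (Option X)) := {u | u ∈ G ∨ ∃ a ∈ G, ∃ b ∈ G, u = a * h * b}
  have hmulG : ∀ a ∈ G, ∀ u ∈ D, a * u ∈ D := by
    rintro a ha u (hu | ⟨c, hc, d, hd, rfl⟩)
    · exact Or.inl (mul_mem ha hu)
    · exact Or.inr ⟨a * c, mul_mem ha hc, d, hd, by group⟩
  have hGmul : ∀ u ∈ D, ∀ a ∈ G, u * a ∈ D := by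
    rintro u (hu | ⟨c, hc, d, hd, rfl⟩) a ha
    · exact Or.inl (mul_mem hu ha)
    · exact Or.inr ⟨c, hc, d * a, mul_mem hd ha, by group⟩
  have hghg : h * g * h ∈ D := by
    refine Or.inr ⟨g⁻¹ * (g * h) ^ 3 * (h ^ 2)⁻¹, mul_mem (mul_mem (inv_mem hg) h6) (inv_mem h7),
      g⁻¹, inv_mem hg, ?_⟩
    simp only [pow_succ, pow_zero, one_mul]
    group
  have hhfh : ∀ f ∈ G, h * f * h ∈ D := by
    intro f hf
    by_cases hfx : f (some x) = some x
    · exact Or.inl (h8 f hf hfx).1
    obtain ⟨z, hz⟩ : ∃ z, f (some x) = some z := by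
      rcases hfo : f (some x) with _ | z
      · exact absurd (f.injective (hfo.trans (hfix f hf).symm)) (by simp)
      · exact ⟨z, rfl⟩
    have hzx : z ≠ x := fun e => hfx (by rw [hz, e])
    obtain ⟨a, ha, hax, hay⟩ := two x y x z hxy hzx.symm
    have hb : ((a * g)⁻¹ * f) (some x) = some x := by
      rw [Equiv.Perm.mul_apply, Equiv.Perm.inv_def, Equiv.symm_apply_eq, hz, Equiv.Perm.mul_apply, h4, hay]
    have hbG : (a * g)⁻¹ * f ∈ G := mul_mem (inv_mem (mul_mem ha hg)) hf
    have e : h * f * h = (h * a * h) * (h ^ 2)⁻¹ * (h * g * h) * ((h ^ 2)⁻¹ * (h * ((a * g)⁻¹ * f) * h)) := by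
      simp only [pow_two]
      group
    rw [e]
    exact hGmul _ (hmulG _ (mul_mem (h8 a ha hax).1 (inv_mem h7)) _ hghg) _
      (mul_mem (inv_mem h7) (h8 _ hbG hb).1)
  let K : Subgroup (Equiv.Perm (Option X)) :=
    { carrier := D
      mul_mem' := by
        rintro u v hu (hv | ⟨c, hc, d, hd, rfl⟩)
        · exact hGmul u hu v hv
        rcases hu with hu | ⟨a, ha, b, hb, rfl⟩
        · exact hmulG u hu _ (Or.inr ⟨c, hc, d, hd, rfl⟩)
        have e : a * h * b * (c * h * d) = a * (h * (b * c) * h) * d := by group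
        rw [e]
        exact hGmul _ (hmulG a ha _ (hhfh _ (mul_mem hb hc))) d hd
      one_mem' := Or.inl (one_mem G)
      inv_mem' := by
        rintro u (hu | ⟨a, ha, b, hb, rfl⟩)
        · exact Or.inl (inv_mem hu)
        · refine Or.inr ⟨b⁻¹ * (h ^ 2)⁻¹, mul_mem (inv_mem hb) (inv_mem h7), a⁻¹, inv_mem ha, ?_⟩
          simp only [pow_two]
          group }
  set M := Subgroup.closure ((G : Set (Equiv.Perm (Option X))) ∪ {h}) with hM
  have hGM : ∀ f ∈ G, f ∈ M := fun f hf => Subgroup.subset_closure (Or.inl hf)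
  have hhM : h ∈ M := Subgroup.subset_closure (Or.inr rfl)
  have hMK : M ≤ K := by
    rw [hM, Subgroup.closure_le]
    rintro u (hu | hu)
    · exact Or.inl hu
    · rw [Set.mem_singleton_iff] at hu
      exact Or.inr ⟨1, one_mem G, 1, one_mem G, by rw [hu]; group⟩
  refine ⟨fun f hf => ⟨fun he => ?_, hfix f⟩, ?_⟩
  · rcases hMK hf with hG | ⟨a, ha, b, hb, rfl⟩
    · exact hG
    · rw [Equiv.Perm.mul_apply, Equiv.Perm.mul_apply, hfix b hb, h1] at he
      exact absurd (a.injective (he.trans (hfix a ha).symm)) (by simp)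
  have toNone : ∀ o : Option X, ∃ u ∈ M, u o = none := by
    rintro (_ | z)
    · exact ⟨1, one_mem M, rfl⟩
    · obtain ⟨f, hf, hfz⟩ := one z x
      exact ⟨h * f, mul_mem hhM (hGM f hf), by rw [Equiv.Perm.mul_apply, hfz, h2]⟩
  refine ⟨fun a b => ?_⟩
  obtain ⟨u, hu, hu0⟩ := toNone (a 0)
  obtain ⟨v, hv, hv0⟩ := toNone (b 0)
  have key : ∀ (c : Fin (k + 1) ↪ Option X) (w : Equiv.Perm (Option X)), w (c 0) = none →
      ∀ i : Fin k, ∃ z : X, w (c i.succ) = some z := by
    intro c w hw i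
    rcases hwi : w (c i.succ) with _ | z
    · exact absurd (c.injective (w.injective (hwi.trans hw.symm))) (Fin.succ_ne_zero i)
    · exact ⟨z, rfl⟩
  choose za hza using key a u hu0
  choose zb hzb using key b v hv0
  have inj : ∀ (c : Fin (k + 1) ↪ Option X) (w : Equiv.Perm (Option X)) (z : Fin k → X),
      (∀ i, w (c i.succ) = some (z i)) → Function.Injective z := fun c w z hz i j hij =>
    Fin.succ_injective _ (c.injective (w.injective (by rw [hz i, hz j, hij])))
  obtain ⟨f, hf, hfab⟩ := htrans ⟨za, inj a u za hza⟩ ⟨zb, inj b v zb hzb⟩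
  refine ⟨⟨v⁻¹ * f * u, mul_mem (mul_mem (inv_mem hv) (hGM f hf)) hu⟩, ?_⟩
  refine Function.Embedding.ext fun i => ?_
  show (v⁻¹ * f * u) (a i) = b i
  rw [Equiv.Perm.mul_apply, Equiv.Perm.mul_apply, Equiv.Perm.inv_def, Equiv.symm_apply_eq]
  refine Fin.cases ?_ (fun j => ?_) i
  · rw [hu0, hfix f hf, hv0]
  · rw [hza j, hzb j]; exact hfab j

end Cfsg.Agent.S4301
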