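import Cfsg.Statements.S4302
import Cfsg.Agent.Lib.PLocal.FFAbelian
import Cfsg.Agent.Lib.Techniques.Basic
import Cfsg.Agent.Lib.Solvable.Fitting
import Cfsg.Agent.Lib.Blocks.DualHallHigman
import Mathlib.GroupTheory.NoncommPiCoprod

set_option autoImplicit false
open Cfsg

namespace Cfsg.Agent.S4302

open scoped MatrixGroups commutatorElement
open Subgroup

/-- The three nonzero vectors of `(ZMod 2)²`. -/
def vec : Fin 3 → Fin 2 → ZMod 2 := ![![0, 1], ![1, 0], ![1, 1]]

/-- The position of a nonzero vector. -/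
def idx (w : Fin 2 → ZMod 2) : Fin 3 := if w 0 = 0 then 0 else if w 1 = 0 then 1 else 2

/-- The action of `SL(2, 2)` on the three nonzero vectors. -/
def actFun (g : SL(2, ZMod 2)) (i : Fin 3) : Fin 3 := idx ((g : Matrix (Fin 2) (Fin 2) (ZMod 2)).mulVec (vec i))

theorem sl_two_two_iso : Nonempty (SL(2, ZMod 2) ≃* Equiv.Perm (Fin 3)) := by
  have hmul : ∀ (g h : SL(2, ZMod 2)) (i : Fin 3), actFun (g * h) i = actFun g (actFun h i) := by
    decide +kernel
  have hone : ∀ i : Fin 3, actFun 1 i = i := by decide +kernel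
  have hinj : ∀ g : SL(2, ZMod 2), (∀ i, actFun g i = i) → g = 1 := by decide +kernel
  let f : SL(2, ZMod 2) →* Equiv.Perm (Fin 3) :=
    { toFun := fun g => ⟨actFun g, actFun g⁻¹, fun i => by rw [← hmul, inv_mul_cancel, hone],
        fun i => by rw [← hmul, mul_inv_cancel, hone]⟩
      map_one' := Equiv.ext fun i => hone i
      map_mul' := fun g h => Equiv.ext fun i => hmul g h i }
  have hf : Function.Injective f := (injective_iff_map_eq_one f).2 fun g hg =>
    hinj g fun i => by
      have := congrArg (fun e : Equiv.Perm (Fin 3) => e i) hg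
      exact this
  refine ⟨MulEquiv.ofBijective f ((Fintype.bijective_iff_injective_and_card _).2 ⟨hf, ?_⟩)⟩
  rw [Fintype.card_perm]
  decide +kernel

/-- A group generated by an independent family of normal copies of `SL(2, 2)` is a power of `S₃`. -/
theorem pi_sThree_of_indep {G : Type*} [Group G] [Finite G] {ι : Type*} [Finite ι] {H : Subgroup G}
    (E : ι → Subgroup G) (hn : ∀ i, H ≤ normalizer (E i : Set G))
    (hiso : ∀ i, Nonempty (E i ≃* SL(2, ZMod 2))) (hind : iSupIndep E) (hsup : ⨆ i, E i = H)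
    (hH : H ≠ ⊥) :
    ∃ n : ℕ, 1 ≤ n ∧ Nonempty (H ≃* (Fin n → Equiv.Perm (Fin 3))) := by
  classical
  haveI : Fintype ι := Fintype.ofFinite ι
  have hne : Nonempty ι := by
    by_contra h
    rw [not_nonempty_iff] at h
    exact hH (by rw [← hsup, iSup_of_empty])
  have hcomm : Pairwise fun i j => ∀ x y : G, x ∈ E i → y ∈ E j → Commute x y := by
    intro i j hij x y hx hy
    have hle : ∀ k, E k ≤ H := fun k => hsup ▸ le_iSup E k
    have h1 : ⁅x, y⁆ ∈ E i ⊓ E j := by
      refine ⟨?_, ?_⟩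
      · have h := CfsgLib.Coprime.mem_normalizer_conj (hn i (hle j hy)) ((E i).inv_mem hx)
        have e : ⁅x, y⁆ = x * (y * x⁻¹ * y⁻¹) := by rw [commutatorElement_def]; group
        rw [e]; exact mul_mem hx h
      · have h := CfsgLib.Coprime.mem_normalizer_conj (hn j (hle i hx)) hy
        rw [commutatorElement_def]; exact mul_mem h ((E j).inv_mem hy)
    rw [(hind.pairwiseDisjoint hij).eq_bot, mem_bot] at h1
    exact commutatorElement_eq_one_iff_mul_comm.1 h1
  set F := Subgroup.noncommPiCoprod hcomm with hF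
  have hFi : Function.Injective F := Subgroup.injective_noncommPiCoprod_of_iSupIndep (hcomm := hcomm) hind
  have hFr : F.range = H := by rw [hF, Subgroup.noncommPiCoprod_range, hsup]
  obtain ⟨e₃⟩ := sl_two_two_iso
  let e : (∀ i, E i) ≃* (ι → Equiv.Perm (Fin 3)) :=
    MulEquiv.piCongrRight fun i => (hiso i).some.trans e₃
  refine ⟨Fintype.card ι, Fintype.card_pos, ⟨?_⟩⟩
  exact (((MonoidHom.ofInjective hFi).trans (MulEquiv.subgroupCongr hFr)).symm.trans e).trans
    (MulEquiv.arrowCongr (Fintype.equivFin ι) (MulEquiv.refl _))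

variable {X : Type*} [Group X] [Finite X]

/-- A two-step centralizer argument: a `2`-group over the core lies in the core. -/
theorem le_core_of_pow_mem (T : Sylow 2 X) {M : Subgroup X} [M.Normal]
    (hM : (centralizer (((T : Subgroup X) ⊓ centralizer ((T : Subgroup X) : Set X) : Subgroup X) : Set X)).normalCore ≤ M)
    (hpow : ∀ x ∈ M, ∃ k : ℕ, x ^ 2 ^ k ∈
      (centralizer (((T : Subgroup X) ⊓ centralizer ((T : Subgroup X) : Set X) : Subgroup X) : Set X)).normalCore) :
    M ≤ (centralizer (((T : Subgroup X) ⊓ centralizer ((T : Subgroup X) : Set X) : Subgroup X) : Set X)).normalCore := by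
  set Z := (T : Subgroup X) ⊓ centralizer ((T : Subgroup X) : Set X) with hZ
  set C := (centralizer (Z : Set X)).normalCore with hC
  refine normal_le_normalCore.2 ?_
  have hp : IsPGroup 2 (M.map (QuotientGroup.mk' C)) := by
    rintro ⟨_, x, hx, rfl⟩
    obtain ⟨k, hk⟩ := hpow x hx
    refine ⟨k, Subtype.ext ?_⟩
    push_cast
    rw [← map_pow]
    exact (QuotientGroup.eq_one_iff _).2 hk
  obtain ⟨k, hk⟩ := IsPGroup.iff_card.1 hp
  rw [CfsgLib.PCore.card_map_mk'] at hk
  set K := ((T : Subgroup X) ⊓ M) ⊔ C with hK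
  have hKM : K ≤ M := sup_le inf_le_right hM
  have h1 : K.relIndex M ∣ 2 ^ k := hk ▸ relIndex_dvd_of_le_left M le_sup_right
  have h2 : K.relIndex M ∣ ((T : Subgroup X) ⊓ M).relIndex M :=
    relIndex_dvd_of_le_left M le_sup_left
  have h3 := CfsgLib.Techniques.not_dvd_relIndex_inf_normal T M
  obtain ⟨l, -, hl⟩ := (Nat.dvd_prime_pow Nat.prime_two).1 h1
  have hMK : M ≤ K := by
    rw [← relIndex_eq_one, hl]
    rcases Nat.eq_zero_or_pos l with rfl | hl0
    · simp
    · exact absurd (((dvd_pow_self 2 hl0.ne').trans (hl ▸ dvd_rfl)).trans h2) h3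
  refine hMK.trans (sup_le ?_ (normalCore_le _))
  exact inf_le_left.trans (Subgroup.le_centralizer_iff.1 (inf_le_right : Z ≤ _))

omit [Finite X] in
/-- An element of odd order fixing all involutions of an abelian `2`-group centralizes it. -/
theorem odd_centralizes {Zc : Subgroup X} [Zc.Normal] [IsMulCommutative Zc] (hZ : IsPGroup 2 Zc)
    {x : X} (hx : Odd (orderOf x))
    (hfix : ∀ z ∈ Zc, z ^ 2 = 1 → x * z = z * x) : x ∈ centralizer (Zc : Set X) := by
  refine mem_centralizer_iff.2 fun z hz => ?_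
  obtain ⟨k, hk⟩ := hZ ⟨z, hz⟩
  replace hk : z ^ 2 ^ k = 1 := by simpa using congrArg Subtype.val hk
  induction k generalizing z with
  | zero =>
    rw [pow_zero, pow_one] at hk
    rw [hk, one_mul, mul_one]
  | succ k ih =>
    have hsq : z ^ 2 * x = x * z ^ 2 :=
      ih (z ^ 2) (pow_mem hz 2) (by rw [← pow_mul, ← pow_succ']; exact hk)
    set w := z⁻¹ * (x * z * x⁻¹) with hw
    have hconj : x * z * x⁻¹ ∈ Zc := Normal.conj_mem inferInstance z hz x
    have hwZ : w ∈ Zc := mul_mem (inv_mem hz) hconj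
    have hc : Commute z⁻¹ (x * z * x⁻¹) := setLike_mul_comm (inv_mem hz) hconj
    have hw2 : w ^ 2 = 1 := by
      rw [hw, hc.mul_pow, conj_pow, ← hsq, mul_inv_cancel_right, inv_pow, inv_mul_cancel]
    have hxw : x * w = w * x := hfix w hwZ hw2
    have hiter : ∀ i : ℕ, x ^ i * z * (x ^ i)⁻¹ = z * w ^ i := by
      intro i
      induction i with
      | zero => simp
      | succ i ihi =>
        calc x ^ (i + 1) * z * (x ^ (i + 1))⁻¹ = x * (x ^ i * z * (x ^ i)⁻¹) * x⁻¹ := by
              rw [pow_succ']; group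
          _ = (x * z * x⁻¹) * (x * w ^ i * x⁻¹) := by rw [ihi]; group
          _ = z * w * w ^ i := by
              have h := ((show Commute x w from hxw).pow_right i).eq
              rw [h, mul_inv_cancel_right, hw, mul_inv_cancel_left]
          _ = _ := by rw [pow_succ', mul_assoc]
    have h1 := hiter (orderOf x)
    rw [pow_orderOf_eq_one, one_mul, inv_one, mul_one, left_eq_mul] at h1
    obtain ⟨m, hm⟩ := hx
    rw [hm, pow_succ, pow_mul, hw2, one_pow, one_mul] at h1
    have h4 : x * z * x⁻¹ = z := (inv_mul_eq_one.1 (hw ▸ h1)).symm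
    exact (mul_inv_eq_iff_eq_mul.1 h4).symm

/-- The image of an abelian subgroup of largest order of a `2`-group containing `V` has maximal
measure. -/
theorem measure_map_le {P V A : Subgroup X} [V.Normal] (hV : Cfsg.IsElementaryAbelian 2 V)
    (hVP : V ≤ P) (hA : CfsgLib.PLocal.IsMaxElemIn 0 P A)
    (B : Subgroup (CfsgLib.PLocal.QuotSemi V)) (hB : B ≤ A.map (CfsgLib.PLocal.toSemi V)) :
    CfsgLib.Offender.measure (CfsgLib.PLocal.semiV V) B ≤
      CfsgLib.Offender.measure (CfsgLib.PLocal.semiV V) (A.map (CfsgLib.PLocal.toSemi V)) := by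
  set f := CfsgLib.PLocal.toSemi V with hf
  set B₀ := A ⊓ B.comap f with hB₀
  have hmap : B₀.map f = B := by
    refine le_antisymm ?_ fun b hb => ?_
    · rintro _ ⟨x, hx, rfl⟩
      exact (mem_inf.1 hx).2
    · obtain ⟨a, ha, rfl⟩ := hB hb
      exact ⟨a, ⟨ha, hb⟩, rfl⟩
  have hinf : B₀ ⊓ centralizer (V : Set X) = A ⊓ centralizer (V : Set X) := by
    refine le_antisymm (inf_le_inf_right _ inf_le_left) fun x hx => ⟨⟨hx.1, ?_⟩, hx.2⟩
    show f x ∈ B
    have hx1 : f x = 1 := by rw [← MonoidHom.mem_ker, hf, CfsgLib.PLocal.ker_toSemi]; exact hx.2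
    rw [hx1]
    exact one_mem B
  set D := V ⊓ centralizer (B₀ : Set X) with hD
  have hB₀D : B₀ ≤ centralizer (D : Set X) := Subgroup.le_centralizer_iff.1 inf_le_right
  have hDe : Cfsg.IsElementaryAbelian 0 D := CfsgLib.PLocal.elemAb_zero_iff.2
    (CfsgLib.PLocal.elemAb_of_le hV inf_le_left).1
  have hsup : Cfsg.IsElementaryAbelian 0 (B₀ ⊔ D) :=
    CfsgLib.PLocal.elemAb_sup (CfsgLib.PLocal.elemAb_of_le hA.elem inf_le_left) hDe hB₀D
  have h1 := hA.2.2 _ (sup_le (inf_le_left.trans hA.le) (inf_le_left.trans hVP)) hsup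
  have h2 := CfsgLib.Coprime.card_sup_mul_card_inf (hB₀D.trans (centralizer_le_normalizer _))
  have hDA : D ⊓ B₀ ≤ V ⊓ centralizer (A : Set X) := fun x hx => ⟨hx.1.1, mem_centralizer_iff.2
    fun a ha => CfsgLib.PLocal.elemAb_commute hA.elem ha hx.2.1⟩
  have key : Nat.card B₀ * Nat.card D ≤ Nat.card A * Nat.card ↥(V ⊓ centralizer (A : Set X)) :=
    h2 ▸ Nat.mul_le_mul h1 (Subgroup.card_le_of_le hDA)
  rw [CfsgLib.PLocal.card_eq_card_map_toSemi_mul V B₀,
    CfsgLib.PLocal.card_eq_card_map_toSemi_mul V A, hinf, ← hf, hmap, mul_right_comm,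
    mul_right_comm (Nat.card (A.map f))] at key
  rw [CfsgLib.Offender.measure_def, CfsgLib.Offender.measure_def, ← hmap,
    CfsgLib.PLocal.card_semiV_inf_centralizer_map, CfsgLib.PLocal.card_semiV_inf_centralizer_map,
    hmap]
  exact Nat.le_of_mul_le_mul_right key Nat.card_pos

/-- Let `X` be a finite solvable group whose Fitting subgroup is a 2-group (equivalently `F(X) = O₂(X)`), `T` a Sylow 2-subgroup of `X`, `J(T)` the subgroup generated by the abelian subgroups of `T` of largest order, `C` the largest normal subgroup of `X` centralizing the centre `Z(T)`, and `Y` the normal closure of `J(T)` in `X`. Then `X = C · Y · N_X(J(T))`, and either `Y ≤ C`, or `CY/C` is isomorphic to a direct product of at least one copy of the symmetric group of degree 3. -/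
theorem result {X : Type*} [Group X] [Finite X]
    [Group.IsSolvable X] (hF : Cfsg.fittingSubgroup X = Cfsg.pCore 2 X) (T : Sylow 2 X) :
    ((Subgroup.centralizer (((T : Subgroup X) ⊓ Subgroup.centralizer ((T : Subgroup X) : Set X) : Subgroup X) : Set X)).normalCore
        ⊔ Subgroup.normalClosure (Cfsg.thompsonSubgroupAOf (T : Subgroup X) : Set X)
        ⊔ Subgroup.normalizer (Cfsg.thompsonSubgroupAOf (T : Subgroup X) : Set X) = ⊤) ∧
    (Subgroup.normalClosure (Cfsg.thompsonSubgroupAOf (T : Subgroup X) : Set X)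
        ≤ (Subgroup.centralizer (((T : Subgroup X) ⊓ Subgroup.centralizer ((T : Subgroup X) : Set X) : Subgroup X) : Set X)).normalCore
      ∨ ∃ n : ℕ, 1 ≤ n ∧
        Nonempty (↥(Subgroup.normalClosure (Cfsg.thompsonSubgroupAOf (T : Subgroup X) : Set X)) ⧸
            ((Subgroup.centralizer (((T : Subgroup X) ⊓ Subgroup.centralizer ((T : Subgroup X) : Set X) : Subgroup X) : Set X)).normalCore).subgroupOf
              (Subgroup.normalClosure (Cfsg.thompsonSubgroupAOf (T : Subgroup X) : Set X))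
          ≃* (Fin n → Equiv.Perm (Fin 3)))) := by
  classical
  set Z := (T : Subgroup X) ⊓ centralizer ((T : Subgroup X) : Set X) with hZ
  set C := (centralizer (Z : Set X)).normalCore with hC
  set J := Cfsg.thompsonSubgroupAOf (T : Subgroup X) with hJdef
  set Y := normalClosure (J : Set X) with hY
  have hJ : J = CfsgLib.PLocal.thompson 0 (T : Subgroup X) :=
    CfsgLib.PLocal.thompsonSubgroupAOf_eq _
  have hJT : J ≤ (T : Subgroup X) := hJ ▸ CfsgLib.PLocal.thompson_le _ _
  have hJY : J ≤ Y := fun x hx => subset_normalClosure hx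
  refine ⟨?_, ?_⟩
  · rw [eq_top_iff, ← CfsgLib.Techniques.sup_normalizer_inf_eq_top T (C ⊔ Y)]
    refine sup_le_sup_left ?_ _
    refine (CfsgLib.PLocal.normalizer_le_normalizer_thompson 0 _).trans (le_of_eq ?_)
    rw [CfsgLib.PLocal.thompson_eq_of_le inf_le_left
      (le_inf (CfsgLib.PLocal.thompson_le _ _) (hJ ▸ hJY.trans le_sup_right)), ← hJ]
  by_cases hYC : Y ≤ C
  · exact Or.inl hYC
  refine Or.inr ?_
  -- the normal abelian `2`-subgroup generated by the conjugates of `Z(T)`
  haveI hOn : (Cfsg.pCore 2 X).Normal := inferInstance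
  set O := Cfsg.pCore 2 X with hO
  have hOp : IsPGroup 2 O := CfsgLib.PCore.pCore_isPGroup
  have hOT : O ≤ (T : Subgroup X) := hOp.le_sylow_of_normal T
  have hCO : centralizer (O : Set X) ≤ O := by
    have h := CfsgLib.Fitting.centralizer_fitting_le (G := X)
    rwa [hF] at h
  have hZO : Z ≤ O ⊓ centralizer (O : Set X) :=
    have h : Z ≤ centralizer (O : Set X) := inf_le_right.trans (centralizer_le hOT)
    le_inf (h.trans hCO) h
  set Zc := normalClosure (Z : Set X) with hZc
  have hZcO : Zc ≤ O ⊓ centralizer (O : Set X) := normalClosure_le_normal hZO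
  haveI : IsMulCommutative Zc := CfsgLib.PLocal.isMulCommutative_of_forall fun a ha b hb =>
    (mem_centralizer_iff.1 (hZcO hb).2 a (hZcO ha).1)
  have hZcp : IsPGroup 2 Zc := hOp.to_le (hZcO.trans inf_le_left)
  set V := Cfsg.omegaOne 2 Zc with hV
  have hVe : Cfsg.IsElementaryAbelian 2 V := CfsgLib.PLocal.omegaOne_elemAb 2 Zc
  haveI hVn : V.Normal := by
    rw [← normalizer_eq_top_iff, eq_top_iff]
    exact (normalizer_eq_top_iff.2 inferInstance).ge.trans
      (CfsgLib.PLocal.normalizer_le_normalizer_omegaOne 2 Zc)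
  have hVZ : V ≤ Zc := CfsgLib.PLocal.omegaOne_le 2 Zc
  have hCZc : C ≤ centralizer (Zc : Set X) := by
    refine Subgroup.le_centralizer_iff.1 (normalClosure_le_normal ?_)
    exact Subgroup.le_centralizer_iff.1 (normalCore_le _)
  have hCV : centralizer (V : Set X) = C := by
    have hle : C ≤ centralizer (V : Set X) := hCZc.trans (centralizer_le hVZ)
    refine le_antisymm (le_core_of_pow_mem T hle fun x hx => ?_) hle
    obtain ⟨k, m, hm, hkm⟩ := Nat.exists_eq_two_pow_mul_odd (orderOf_pos x).ne'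
    refine ⟨k, ?_⟩
    have hc : x ^ 2 ^ k ∈ centralizer (Zc : Set X) := by
      refine odd_centralizes hZcp ?_ fun z hz hz2 => ?_
      · rw [orderOf_pow' x (pow_ne_zero _ two_ne_zero), hkm,
          Nat.gcd_eq_right (dvd_mul_right _ _), Nat.mul_div_cancel_left _ (pow_pos two_pos _)]
        exact hm
      · exact (mem_centralizer_iff.1 (pow_mem hx _) z
          (CfsgLib.PLocal.mem_omegaOne hz hz2)).symm
    exact normal_le_normalCore.2 (centralizer_le (subset_normalClosure (s := (Z : Set X)))) hc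
  set f := CfsgLib.PLocal.toSemi V with hf
  have hker : f.ker = C := by rw [hf, CfsgLib.PLocal.ker_toSemi, hCV]
  set H := Y.map f with hH
  have hH1 : H ≠ ⊥ := by
    rw [hH, Ne, Subgroup.map_eq_bot_iff, hker]
    exact hYC
  -- the setting
  have hcore : Cfsg.pCore 2 (X ⧸ centralizer (V : Set X)) = ⊥ := by
    set q := QuotientGroup.mk' (centralizer (V : Set X)) with hq
    set M := (Cfsg.pCore 2 (X ⧸ centralizer (V : Set X))).comap q with hM
    haveI : M.Normal := Normal.comap inferInstance q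
    have hle : centralizer (V : Set X) ≤ M := fun x hx => by
      show q x ∈ Cfsg.pCore 2 (X ⧸ centralizer (V : Set X))
      rw [show q x = 1 from (QuotientGroup.eq_one_iff x).2 hx]
      exact one_mem _
    have hMC : M ≤ C := by
      refine le_core_of_pow_mem T (hCV.ge.trans hle) fun x hx => ?_
      obtain ⟨k, hk⟩ := (CfsgLib.PCore.pCore_isPGroup (p := 2)) ⟨q x, hx⟩
      refine ⟨k, ?_⟩
      rw [← hC, ← hCV, ← QuotientGroup.eq_one_iff]
      have := congrArg Subtype.val hk
      simpa [hq] using this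
    rw [eq_bot_iff]
    intro y hy
    obtain ⟨x, rfl⟩ := QuotientGroup.mk'_surjective _ y
    exact mem_bot.2 ((QuotientGroup.eq_one_iff x).2 (hCV ▸ hMC hy))
  haveI : Y.Normal := normalClosure_normal
  have S : CfsgLib.FFPair.Setting 2 (CfsgLib.PLocal.semiV V) H := by
    refine ⟨CfsgLib.PLocal.semiV_elemAb V hVe, CfsgLib.PLocal.range_le_normalizer_semiV V H,
      CfsgLib.PLocal.map_inf_centralizer_semiV V Y, ?_⟩
    set H₀ := Y.map (QuotientGroup.mk' (centralizer (V : Set X))) with hH₀
    haveI : H₀.Normal := Normal.map inferInstance _ (QuotientGroup.mk'_surjective _)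
    have hH' : H = H₀.map (SemidirectProduct.inr :
        X ⧸ centralizer (V : Set X) →* CfsgLib.PLocal.QuotSemi V) := by
      rw [hH, hf, CfsgLib.PLocal.toSemi, Subgroup.map_map]
    let e : H₀ ≃* H :=
      (H₀.equivMapOfInjective (SemidirectProduct.inr :
        X ⧸ centralizer (V : Set X) →* CfsgLib.PLocal.QuotSemi V)
        SemidirectProduct.inr_injective).trans (MulEquiv.subgroupCongr hH'.symm)
    have hp0 : Cfsg.pCore 2 H₀ = ⊥ := by
      have h1 : (Cfsg.pCore 2 H₀).map H₀.subtype ≤ Cfsg.pCore 2 (X ⧸ centralizer (V : Set X)) := by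
        rw [CfsgLib.PCore.map_pCore_subtype_of_normal]
        exact inf_le_right
      rw [hcore, le_bot_iff, Subgroup.map_eq_bot_iff, Subgroup.ker_subtype, le_bot_iff] at h1
      exact h1
    refine CfsgLib.DualHallHigman.centralizer_pPrimeCore_le
      (CfsgLib.PCore.isPSolvable_of_equiv e (CfsgLib.PCore.isPSolvable_subgroup
        (CfsgLib.PCore.isPSolvable_quotient CfsgLib.PCore.isPSolvable_of_isSolvable _) H₀)) ?_
    rw [← CfsgLib.PCore.map_pCore_equiv (p := 2) e, hp0, Subgroup.map_bot]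
  -- the images of the conjugates of the abelian subgroups of largest order are best offenders
  have hoff : ∀ (g : X) (A : Subgroup X), CfsgLib.PLocal.IsMaxElemIn 0 (T : Subgroup X) A →
      (A.map (MulAut.conj g : X →* X)).map f ≤ H ∧
        Cfsg.IsBestOffenderOn 2 (CfsgLib.PLocal.semiV V) ((A.map (MulAut.conj g : X →* X)).map f) := by
    intro g A hA
    set c : X →* X := (MulAut.conj g : X →* X) with hc
    have hA' := (CfsgLib.PLocal.isMaxElemIn_map_iff (f := c) (MulAut.conj g).injective).2 hA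
    have hAY : A.map c ≤ Y := by
      rintro _ ⟨a, ha, rfl⟩
      exact Normal.conj_mem inferInstance a (hJY (hJ ▸ hA.le_thompson ha)) g
    have hVP : V ≤ (T : Subgroup X).map c := fun v hv => ⟨g⁻¹ * v * g,
      hOT ((hZcO (hVZ (by simpa using Normal.conj_mem hVn v hv g⁻¹))).1),
      by simp [hc, mul_assoc]⟩
    have hle : (A.map c).map f ≤ H := map_mono hAY
    refine ⟨hle, CfsgLib.FFPair.isBestOffenderOn_of_measure_max S hle
      (((T.isPGroup'.to_le hA.le).map c).map f) ?_ (measure_map_le hVe hVP hA')⟩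
    exact fun a ha b hb => CfsgLib.PLocal.elemAb_commute
      (CfsgLib.PLocal.elemAb_map f (CfsgLib.PLocal.elemAb_map c hA.elem)) ha hb
  have hgen : H = ⨆ A : {A : Subgroup (CfsgLib.PLocal.QuotSemi V) //
      A ≤ H ∧ Cfsg.IsBestOffenderOn 2 (CfsgLib.PLocal.semiV V) A}, (A : Subgroup (CfsgLib.PLocal.QuotSemi V)) := by
    refine le_antisymm ?_ (iSup_le fun A => A.2.1)
    set R := ⨆ A : {A : Subgroup (CfsgLib.PLocal.QuotSemi V) //
      A ≤ H ∧ Cfsg.IsBestOffenderOn 2 (CfsgLib.PLocal.semiV V) A}, (A : Subgroup (CfsgLib.PLocal.QuotSemi V)) with hR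
    rw [hH, hY, Subgroup.map_le_iff_le_comap, Subgroup.normalClosure, Subgroup.closure_le]
    intro x hx
    obtain ⟨y, hy, hyx⟩ := Group.mem_conjugatesOfSet_iff.1 hx
    obtain ⟨g, rfl⟩ := isConj_iff.1 hyx
    have hle : J ≤ (R.comap f).comap (MulAut.conj g : X →* X) := by
      rw [hJ, CfsgLib.PLocal.thompson_le_iff]
      intro A hA
      obtain ⟨h1, h2⟩ := hoff g A hA
      rw [← Subgroup.map_le_iff_le_comap, ← Subgroup.map_le_iff_le_comap]
      exact le_iSup_of_le (⟨_, h1, h2⟩ : {A : Subgroup (CfsgLib.PLocal.QuotSemi V) //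
        A ≤ H ∧ Cfsg.IsBestOffenderOn 2 (CfsgLib.PLocal.semiV V) A}) le_rfl
    exact hle hy
  obtain ⟨-, hE, hind, hsup, -, -⟩ := CfsgLib.FFPair.structure_theorem S
    (P := CfsgLib.FFPair.IsComp 2 (CfsgLib.PLocal.semiV V) H) (fun _ => Iff.rfl) hgen hH1
  obtain ⟨n, hn, ⟨e⟩⟩ := pi_sThree_of_indep _ (fun E => (hE E).1) (fun E => (hE E).2.1) hind hsup hH1
  refine ⟨n, hn, ⟨?_⟩⟩
  let φ : Y →* H := f.subgroupMap Y
  have hφk : φ.ker = C.subgroupOf Y := by
    ext y
    rw [MonoidHom.mem_ker, Subgroup.mem_subgroupOf, ← hker, MonoidHom.mem_ker, Subtype.ext_iff]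
    rfl
  exact ((QuotientGroup.quotientMulEquivOfEq hφk.symm).trans
    (QuotientGroup.quotientKerEquivOfSurjective φ (f.subgroupMap_surjective Y))).trans e

end Cfsg.Agent.S4302
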