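import Cfsg.Statements.S4343
-- import your own Cfsg.Agent.* helpers here

set_option autoImplicit false
open Cfsg
open scoped Pointwise
set_option linter.style.haveILetI false

namespace Cfsg.Agent.S4343

/-- Let S be a finite non-abelian simple group and p a prime dividing its order. If S has fewer than p² Sylow p-subgroups, then its Sylow p-subgroups have order p. -/
theorem result {S : Type*} [Group S] [Finite S]
    [IsSimpleGroup S] (hS : ¬ IsMulCommutative S) (p : ℕ) [Fact p.Prime] (hp : p ∣ Nat.card S)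
    (hn : Nat.card (Sylow p S) < p ^ 2) (P : Sylow p S) : Nat.card P = p := by
  classical
  have hcomm : ¬ ∀ a b : S, a * b = b * a := fun h => hS ⟨⟨h⟩⟩
  -- there are at least two Sylow subgroups
  have hPbot : ∀ Q : Sylow p S, (Q : Subgroup S) ≠ ⊥ := fun Q => Q.ne_bot_of_dvd_card hp
  have hnotnormal : ∀ Q : Sylow p S, ¬ (Q : Subgroup S).Normal := by
    intro Q hQ
    have htop := hQ.eq_bot_or_eq_top.resolve_left (hPbot Q)
    have hS' : IsPGroup p S := (Q.2.of_equiv ((MulEquiv.subgroupCongr htop).trans Subgroup.topEquiv))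
    haveI : Group.IsNilpotent S := hS'.isNilpotent
    exact hcomm (IsSimpleGroup.comm_iff_isSolvable.2 inferInstance)
  -- the action on the Sylow subgroups is faithful
  let φ := MulAction.toPermHom S (Sylow p S)
  have hφ : Function.Injective φ := by
    rw [← MonoidHom.ker_eq_bot_iff]
    refine φ.normal_ker.eq_bot_or_eq_top.resolve_right fun htop => hnotnormal P ?_
    refine Subgroup.normalizer_eq_top_iff.1 ((Subgroup.eq_top_iff' _).2 fun g => ?_)
    rw [Sylow.coe_coe]
    apply Sylow.smul_eq_iff_mem_normalizer.1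
    have : φ g = 1 := MonoidHom.mem_ker.1 (htop ▸ Subgroup.mem_top g)
    exact congrArg (fun e : Equiv.Perm (Sylow p S) => e P) this
  -- a Sylow subgroup is abelian
  have hPab : ∀ Q : Sylow p S, ∀ a ∈ (Q : Subgroup S), ∀ b ∈ (Q : Subgroup S), a * b = b * a := by
    intro Q a ha b hb
    apply hφ
    apply Equiv.ext
    intro T
    set U := MulAction.stabilizer (Q : Subgroup S) T with hU
    suffices key : ((⟨b, hb⟩ : (Q : Subgroup S)) * ⟨a, ha⟩)⁻¹ * (⟨a, ha⟩ * ⟨b, hb⟩) ∈ U by
      have h1 : ((b * a)⁻¹ * (a * b)) • T = T := key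
      have h2 := congrArg (fun R => (b * a) • R) h1
      simp only [smul_smul, mul_inv_cancel_left] at h2
      exact h2
    have horb : U.index < p ^ 2 := by
      refine lt_of_le_of_lt ?_ hn
      rw [Subgroup.index_eq_card, ← Nat.card_congr (MulAction.orbitEquivQuotientStabilizer _ T)]
      exact Nat.card_le_card_of_injective _ Subtype.val_injective
    obtain ⟨k, hk⟩ := Q.2.index U
    rw [hk] at horb
    have hk2 : k < 2 := (Nat.pow_lt_pow_iff_right (Fact.out : p.Prime).one_lt).1 horb
    rcases Nat.eq_zero_or_pos k with h0 | h0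
    · rw [h0, pow_zero, Subgroup.index_eq_one] at hk
      rw [hk]
      exact Subgroup.mem_top _
    · have hi : U.index = p := by rw [hk, show k = 1 by omega, pow_one]
      haveI : U.Normal := by
        obtain ⟨m, hm⟩ := IsPGroup.iff_card.1 Q.2
        apply Subgroup.normal_of_index_eq_minFac_card
        have hm0 : m ≠ 0 := by
          intro hm0
          have h3 := U.index_dvd_card
          rw [hi, hm, hm0, pow_zero, Nat.dvd_one] at h3
          exact (Fact.out : p.Prime).ne_one h3
        rw [hi, hm, Nat.pow_minFac hm0, (Fact.out : p.Prime).minFac_eq]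
      haveI : IsCyclic ((Q : Subgroup S) ⧸ U) :=
        isCyclic_of_prime_card (p := p) (by rw [← Subgroup.index_eq_card, hi])
      letI : CommGroup ((Q : Subgroup S) ⧸ U) := IsCyclic.commGroup
      apply QuotientGroup.eq.1
      rw [QuotientGroup.mk_mul, QuotientGroup.mk_mul, mul_comm]
  -- two Sylow subgroups with minimal intersection meet trivially
  obtain ⟨⟨P1, P2⟩, hmin⟩ := Finite.exists_min
    (fun PQ : Sylow p S × Sylow p S => Nat.card ↥((PQ.1 : Subgroup S) ⊓ PQ.2))
  set D := (P1 : Subgroup S) ⊓ P2 with hD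
  have hcentP : ∀ Q : Sylow p S, D ≤ Q → (Q : Subgroup S) ≤ Subgroup.centralizer (D : Set S) :=
    fun Q hQ y hy => Subgroup.mem_centralizer_iff.2 fun d hd => hPab Q d (hQ hd) y hy
  set H := Subgroup.centralizer (D : Set S) with hH
  have hall : ∀ R : Sylow p S, D ≤ R := by
    intro R
    have h1 : (P1 : Subgroup S) ≤ H := hcentP P1 inf_le_left
    obtain ⟨T, hT⟩ := (R.2.comap_of_injective H.subtype H.subtype_injective).exists_le_sylow
    obtain ⟨c, hc⟩ := MulAction.exists_smul_eq H T (P1.subtype h1)
    have hsub : (((c : S) • R : Sylow p S) : Subgroup S) ⊓ P2 ≤ D := by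
      intro y hy
      have hyH : y ∈ H := hcentP P2 inf_le_right hy.2
      have hy1 := hy.1
      rw [Sylow.coe_subgroup_smul] at hy1
      obtain ⟨r, hr, hry⟩ := Subgroup.mem_map.1 hy1
      have hrH : r ∈ H := by
        have : r = (c : S)⁻¹ * y * c := by
          rw [← hry]; simp [mul_assoc]
        rw [this]
        exact mul_mem (mul_mem (inv_mem c.2) hyH) c.2
      have hrT : (⟨r, hrH⟩ : H) ∈ (T : Subgroup H) := hT hr
      have h2 : c * ⟨r, hrH⟩ * c⁻¹ ∈ ((c • T : Sylow p H) : Subgroup H) := by
        rw [Sylow.coe_subgroup_smul]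
        exact Subgroup.mem_map_of_mem (MulAut.conj c).toMonoidHom hrT
      rw [hc, Sylow.coe_subtype, Subgroup.mem_subgroupOf] at h2
      refine ⟨?_, hy.2⟩
      rw [← hry]
      exact h2
    have heq : (((c : S) • R : Sylow p S) : Subgroup S) ⊓ P2 = D :=
      Subgroup.eq_of_le_of_card_ge hsub (hmin ((c : S) • R, P2))
    intro d hd
    have h3 : d ∈ (((c : S) • R : Sylow p S) : Subgroup S) := (heq.ge hd).1
    rw [Sylow.coe_subgroup_smul] at h3
    obtain ⟨r, hr, hrd⟩ := Subgroup.mem_map.1 h3
    have : r = d := by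
      have hcd : (c : S) * d = d * c := (Subgroup.mem_centralizer_iff.1 c.2 d hd).symm
      have h4 : (c : S) * r * (c : S)⁻¹ = d := hrd
      rw [mul_inv_eq_iff_eq_mul, ← hcd] at h4
      exact mul_left_cancel h4
    rwa [← this]
  have hDbot : D = ⊥ := by
    by_contra hne
    apply hne
    have hnorm : (⨅ R : Sylow p S, (R : Subgroup S)).Normal := by
      refine ⟨fun y hy g => ?_⟩
      rw [Subgroup.mem_iInf] at hy ⊢
      intro R
      have := hy (g⁻¹ • R)
      rw [Sylow.coe_subgroup_smul] at this
      obtain ⟨r, hr, hry⟩ := Subgroup.mem_map.1 this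
      rw [← hry]
      simpa [mul_assoc] using hr
    rcases hnorm.eq_bot_or_eq_top with h | h
    · exact le_bot_iff.1 (h ▸ le_iInf hall)
    · exfalso
      apply hnotnormal P1
      rw [show (P1 : Subgroup S) = ⊤ from top_le_iff.1 (h ▸ iInf_le _ P1)]
      infer_instance
  -- an orbit of size `|P1|`
  have hstab : MulAction.stabilizer (P1 : Subgroup S) P2 = ⊥ := by
    rw [eq_bot_iff]
    rintro ⟨y, hy⟩ hy2
    have hy2' : y • P2 = P2 := hy2
    rw [Sylow.smul_eq_iff_mem_normalizer] at hy2'
    have := (P1.2.inf_normalizer_sylow P2).le ⟨hy, hy2'⟩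
    rw [← hD, hDbot, Subgroup.mem_bot] at this
    exact Subgroup.mem_bot.2 (Subtype.ext this)
  have hlt : Nat.card (P1 : Subgroup S) < p ^ 2 := by
    refine lt_of_le_of_lt ?_ hn
    have h := Nat.card_congr (MulAction.orbitEquivQuotientStabilizer (P1 : Subgroup S) P2)
    rw [hstab, Nat.card_congr (QuotientGroup.quotientBot).toEquiv] at h
    rw [← h]
    exact Nat.card_le_card_of_injective _ Subtype.val_injective
  rw [Nat.card_congr (Sylow.equiv P P1).toEquiv]
  obtain ⟨k, hk⟩ := IsPGroup.iff_card.1 P1.2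
  rw [hk] at hlt
  have hk2 : k < 2 := (Nat.pow_lt_pow_iff_right (Fact.out : p.Prime).one_lt).1 hlt
  have hk0 : k ≠ 0 := by
    intro h
    rw [h, pow_zero] at hk
    exact hPbot P1 (Subgroup.eq_bot_of_card_eq _ hk)
  have : k = 1 := by omega
  exact hk.trans (by rw [this, pow_one])

end Cfsg.Agent.S4343
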