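import Cfsg.Statements.S4304
import Cfsg.Agent.S4343
import Cfsg.Agent.Lib.SylowNumber.Basic
import Cfsg.Agent.Lib.SylowNumber.Action
import Cfsg.Agent.Lib.Small.Basic

set_option autoImplicit false
open Cfsg
open scoped Pointwise
set_option linter.style.haveILetI false

namespace Cfsg.Agent.S4304

open MulAction CfsgLib.SylowNumber in
private theorem no_simple {S : Type*} [Group S] [Finite S] [IsSimpleGroup S] [Fact (Nat.Prime 7)]
    (hn : Nat.card (Sylow 7 S) = 15) : False := by
  classical
  obtain ⟨P⟩ := (inferInstance : Nonempty (Sylow 7 S))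
  have hdvd : 7 ∣ Nat.card S := by
    by_contra h
    haveI : Subsingleton (Sylow 7 S) := by
      have hbot : ∀ Q : Sylow 7 S, (Q : Subgroup S) = ⊥ := fun Q => by
        apply Subgroup.eq_bot_of_card_eq
        rw [Q.card_eq_multiplicity, Nat.factorization_eq_zero_of_not_dvd h, pow_zero]
      exact ⟨fun a b => Sylow.ext ((hbot a).trans (hbot b).symm)⟩
    rw [Nat.card_unique] at hn
    omega
  have hnc : ¬ IsMulCommutative S := by
    intro hc
    haveI : (P : Subgroup S).Normal :=
      ⟨fun n hn g => by rwa [hc.is_comm.comm g n, mul_inv_cancel_right]⟩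
    haveI := Sylow.unique_of_normal P inferInstance
    rw [Nat.card_unique] at hn
    omega
  have hP : ∀ Q : Sylow 7 S, Nat.card Q = 7 := fun Q =>
    Cfsg.Agent.S4343.result hnc 7 hdvd (by rw [hn]; norm_num) Q
  obtain ⟨e, he1, he6, hdC, -, hcard⟩ := CfsgLib.Small.sylow_prime_order_data hnc P (hP P)
  rw [hn] at hcard
  set C := Subgroup.centralizer ((P : Subgroup S) : Set S) with hC
  -- the centralizer is `P` itself
  letI := Fintype.ofFinite (Sylow 7 S)
  have hn' : Fintype.card (Sylow 7 S) = 15 := by rw [← Nat.card_eq_fintype_card, hn]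
  have hinj : Function.Injective (toPermHom S (Sylow 7 S)) := by
    rw [← MonoidHom.ker_eq_bot_iff]
    refine (toPermHom S (Sylow 7 S)).normal_ker.eq_bot_or_eq_top.resolve_right fun htop => ?_
    apply CfsgLib.Small.sylow_normalizer_ne_top hnc hdvd P
    rw [Subgroup.eq_top_iff']
    intro g
    rw [Sylow.coe_coe]
    apply Sylow.smul_eq_iff_mem_normalizer.1
    have : toPermHom S (Sylow 7 S) g = 1 := MonoidHom.mem_ker.1 (htop ▸ Subgroup.mem_top g)
    exact congrArg (fun σ : Equiv.Perm (Sylow 7 S) => σ P) this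
  obtain ⟨⟨x, hx⟩, hx0⟩ := Subgroup.ne_bot_iff_exists_ne_one.1 (P.ne_bot_of_dvd_card hdvd)
  have hx1 : x ≠ 1 := fun h => hx0 (Subtype.ext h)
  have hxo : orderOf x = 7 := by
    have h := (P : Subgroup S).orderOf_dvd_natCard hx
    rw [hP P] at h
    exact ((Fact.out : Nat.Prime 7).eq_one_or_self_of_dvd _ h).resolve_left (by simpa using hx1)
  have hfixx : ∀ Q : Sylow 7 S, x • Q = Q ↔ Q = P := by
    intro Q
    rw [smul_eq_self_iff_mem (P := P) hx]
    refine ⟨fun h => ?_, fun h => h ▸ hx⟩
    exact (CfsgLib.Small.exists_unique_sylow_mem hxo hP).unique h hx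
  have hC7 : ∀ q : ℕ, q.Prime → q ∣ Nat.card C → q = 7 := by
    intro q hq hqd
    by_contra hne
    haveI := Fact.mk hq
    obtain ⟨⟨c, hc⟩, hco⟩ := exists_prime_orderOf_dvd_card' q hqd
    rw [Subgroup.orderOf_mk] at hco
    have hcq : c ^ q = 1 := hco ▸ pow_orderOf_eq_one c
    have hcomm : c * x = x * c := (Subgroup.mem_centralizer_iff.1 hc x hx).symm
    have h1 := card_fix_modEq (α := Sylow 7 S) hcq
    rw [hn'] at h1
    have hPc : c • P = P := Sylow.smul_eq_iff_mem_normalizer.2
      (Subgroup.centralizer_le_normalizer _ hc)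
    have h2 := card_fix_modEq_common (α := Sylow 7 S) (x := c) (y := x)
      (hxo ▸ pow_orderOf_eq_one x) hcomm
    have h3 : ((fixFinset (Sylow 7 S) c).filter fun Q => x • Q = Q) = {P} := by
      ext Q
      rw [Finset.mem_filter, mem_fixFinset, hfixx, Finset.mem_singleton]
      exact ⟨fun h => h.2, fun h => ⟨h ▸ hPc, h⟩⟩
    rw [h3, Finset.card_singleton] at h2
    have hle : (fixFinset (Sylow 7 S) c).card ≤ 15 := hn' ▸ Finset.card_le_univ _
    have hne15 : (fixFinset (Sylow 7 S) c).card ≠ 15 := fun h => by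
      have := eq_one_of_fix_eq_univ hinj (h.trans hn'.symm)
      rw [this, orderOf_one] at hco
      exact hq.ne_one hco.symm
    generalize hf : (fixFinset (Sylow 7 S) c).card = f at h1 h2 hle hne15
    rw [Nat.ModEq] at h2
    obtain rfl | rfl : f = 1 ∨ f = 8 := by omega
    · have h14 : q ∣ 15 - 1 := (Nat.modEq_iff_dvd' (by norm_num)).1 h1
      rcases (hq.dvd_mul).1 (show q ∣ 2 * 7 from h14) with h | h
      · have := (Nat.prime_dvd_prime_iff_eq hq Nat.prime_two).1 h
        subst this
        have h4 := four_dvd_card_support (α := Sylow 7 S) hcq (CfsgLib.Small.sign_toPerm hnc c)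
        rw [hf, hn'] at h4
        omega
      · exact hne ((Nat.prime_dvd_prime_iff_eq hq Fact.out).1 h)
    · have h14 : q ∣ 15 - 8 := (Nat.modEq_iff_dvd' (by norm_num)).1 h1
      exact hne ((Nat.prime_dvd_prime_iff_eq hq Fact.out).1 h14)
  have hCcard : Nat.card C = 7 := by
    obtain ⟨k, hk⟩ : ∃ k, Nat.card C = 7 ^ k :=
      ⟨_, Nat.eq_prime_pow_of_unique_prime_dvd Nat.card_pos.ne' fun {q} hq hd => hC7 q hq hd⟩
    have h1 : 7 ^ k ≤ Nat.card (P : Subgroup S) := by
      obtain ⟨Q, hQ⟩ := (IsPGroup.of_card hk).exists_le_sylow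
      rw [card_sylow_subgroup_eq P Q, ← hk]
      exact Subgroup.card_le_of_le hQ
    rw [← hk, hP P] at h1
    exact le_antisymm h1 (Nat.le_of_dvd Nat.card_pos hdC)
  rw [hCcard] at hcard
  have he : e ≤ 6 := Nat.le_of_dvd (by norm_num) he6
  have hS4 : ¬ 4 ∣ Nat.card S := by
    rw [← hcard]; interval_cases e <;> (revert he6; norm_num)
  by_cases h2 : 2 ∣ Nat.card S
  · -- a Sylow subgroup of order two
    obtain ⟨T⟩ := (inferInstance : Nonempty (Sylow 2 S))
    have hT : Nat.card T = 2 := by
      rw [T.card_eq_multiplicity]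
      have h1 : (Nat.card S).factorization 2 = 1 := by
        have ha := (Nat.prime_two.dvd_iff_one_le_factorization Nat.card_pos.ne').1 h2
        have hb : ¬ 2 ≤ (Nat.card S).factorization 2 := fun h =>
          hS4 ((Nat.prime_two.pow_dvd_iff_le_factorization (k := 2) Nat.card_pos.ne').2 h)
        omega
      rw [h1, pow_one]
    obtain ⟨e', h1, h2', -⟩ := CfsgLib.Small.sylow_prime_order_data hnc T hT
    have := Nat.le_of_dvd (by norm_num) h2'
    omega
  · -- a Sylow subgroup of order five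
    haveI : Fact (Nat.Prime 5) := ⟨Nat.prime_five⟩
    obtain ⟨T⟩ := (inferInstance : Nonempty (Sylow 5 S))
    have hodd : ¬ 2 ∣ e := fun h => h2 (hcard ▸ (dvd_mul_of_dvd_right h _).mul_right _)
    have he3 : e = 3 := by interval_cases e <;> (revert he6 hodd; norm_num)
    have hT : Nat.card T = 5 := by
      have := CfsgLib.Small.card_sylow_of_card_eq (k := 1) (m := 63)
        (by rw [← hcard, he3]; norm_num) (by norm_num) T
      simpa using this
    obtain ⟨e', h1, h2', -, -, h5⟩ := CfsgLib.Small.sylow_prime_order_data hnc T hT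
    apply h2
    rw [← h5]
    refine (dvd_mul_of_dvd_right ?_ _).mul_right _
    have := Nat.le_of_dvd (by norm_num) h2'
    interval_cases e' <;> (revert h2'; norm_num)


/-- No finite group has exactly 15 Sylow 7-subgroups. -/
theorem result {G : Type*} [Group G] [Finite G] : Nat.card (Sylow 7 G) ≠ 15 := by
  haveI : Fact (Nat.Prime 7) := ⟨by norm_num⟩
  intro hG
  obtain ⟨S, i1, i2, hS, hn⟩ := CfsgLib.SylowNumber.exists_simple_of_card_sylow G 7 (n := 15)
    (by norm_num) (fun h => by
      obtain ⟨q, k, hq, hk, he⟩ := (isPrimePow_nat_iff 15).1 h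
      have h3 : 3 ∣ q ^ k := he ▸ by norm_num
      have h5 : 5 ∣ q ^ k := he ▸ by norm_num
      have h3' := (Nat.prime_dvd_prime_iff_eq Nat.prime_three hq).1 (Nat.prime_three.dvd_of_dvd_pow h3)
      have h5' := (Nat.prime_dvd_prime_iff_eq Nat.prime_five hq).1 (Nat.prime_five.dvd_of_dvd_pow h5)
      omega)
    (by decide) hG
  exact no_simple hn

end Cfsg.Agent.S4304
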