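import Cfsg.Statements.S4306
import Cfsg.Agent.Lib.PQFPF.Reduce

set_option autoImplicit false
open Cfsg

namespace Cfsg.Agent.S4306

open CfsgLib.PQFPF in
theorem eq_bot_of_action {A : Type*} [Group A] [Finite A] (D : PQData A) {K M : Type*} [Group K]
    [Finite K] [Group.IsSolvable K] [CommGroup M] [Finite M] (p : ℕ) [Fact p.Prime]
    (hexp : ∀ m : M, m ^ p = 1) (hpA : ¬ p ∣ Nat.card A)
    (φ : A →* MulAut K) (hcop : (Nat.card A).Coprime (Nat.card K))
    (hfpf : ∀ g, (∀ a, φ a g = g) → g = 1) (R : Subgroup K) [R.Normal]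
    (hRinv : ∀ a, ∀ x ∈ R, φ a x ∈ R) (hRnil : Group.IsNilpotent ↥R)
    (hRK : ⁅R, (⊤ : Subgroup K)⁆ = R) (hp : ¬ p ∣ Nat.card ↥R)
    (κ : K →* MulAut M) (hκinj : Function.Injective κ)
    (fa : A → (M →* M)) (hfa1 : fa 1 = MonoidHom.id M)
    (hfamul : ∀ a b, fa (a * b) = (fa a).comp (fa b))
    (hκ : ∀ a x (m : M), fa a (κ x m) = κ (φ a x) (fa a m))
    (hprod : ∀ [Fintype A], ∀ m : M, ∏ a, fa a m = 1) : R = ⊥ := by
  classical
  have hsmul : ∀ x : Additive M, p • x = 0 := fun x => by
    apply Additive.toMul.injective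
    rw [toMul_nsmul, toMul_zero]; exact hexp _
  letI : Module (ZMod p) (Additive M) := AddCommGroup.zmodModule (n := p) hsmul
  let T : (M →* M) → Module.End (ZMod p) (Additive M) := fun f =>
    (MonoidHom.toAdditive f).toZModLinearMap p
  have hT1 : T (MonoidHom.id M) = (1 : Module.End (ZMod p) (Additive M)) :=
    LinearMap.ext fun v => rfl
  have hTmul : ∀ f g, T (f.comp g) = T f * T g := fun f g => LinearMap.ext fun v => rfl
  let bb := Module.finBasis (ZMod p) (Additive M)
  let k := AlgebraicClosure (ZMod p)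
  let ι := Fin (Module.finrank (ZMod p) (Additive M))
  let F : Module.End (ZMod p) (Additive M) →+* Matrix ι ι k :=
    ((algebraMap (ZMod p) k).mapMatrix).comp (LinearMap.toMatrixAlgEquiv bb).toAlgHom.toRingHom
  have hFinj : Function.Injective F := fun u v h =>
    (LinearMap.toMatrixAlgEquiv bb).injective
      (Matrix.map_injective (algebraMap (ZMod p) k).injective h)
  let ρ : K →* Matrix ι ι k :=
    { toFun := fun x => F (T (κ x).toMonoidHom)
      map_one' := by
        rw [map_one, show (1 : MulAut M).toMonoidHom = MonoidHom.id M from rfl, hT1, map_one]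
      map_mul' := fun x y => by
        rw [map_mul κ, show (κ x * κ y).toMonoidHom =
          (κ x).toMonoidHom.comp (κ y).toMonoidHom from rfl, hTmul, map_mul] }
  let πS : A →* Matrix ι ι k :=
    { toFun := fun a => F (T (fa a))
      map_one' := by rw [hfa1, hT1, map_one]
      map_mul' := fun a b => by rw [hfamul, hTmul, map_mul] }
  let L : Matrix ι ι k ≃ₐ[k] Module.End k (ι → k) := Matrix.toLinAlgEquiv'
  refine eq_bot_of_trace_zero (k := k) (U := ι → k) D ?_
    ((L : Matrix ι ι k →* Module.End k (ι → k)).comp πS) ?_ φ hcop hfpf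
    ((L : Matrix ι ι k →* Module.End k (ι → k)).comp ρ) ?_ R hRinv hRnil hRK ?_ ?_
  · intro h
    exact hpA ((CharP.cast_eq_zero_iff k p _).1 h)
  · intro _
    have hzero : ∑ a, T (fa a) = 0 := by
      apply LinearMap.ext
      intro v
      rw [LinearMap.sum_apply, LinearMap.zero_apply]
      apply Additive.toMul.injective
      rw [toMul_sum, toMul_zero]
      exact hprod (Additive.toMul v)
    show ∑ a, L (F (T (fa a))) = 0
    rw [← map_sum, ← map_sum, hzero, map_zero, map_zero]
  · intro a x
    show L (F (T (fa a))) * L (F (T (κ x).toMonoidHom)) =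
      L (F (T (κ (φ a x)).toMonoidHom)) * L (F (T (fa a)))
    rw [← map_mul, ← map_mul, ← map_mul, ← map_mul, ← hTmul, ← hTmul]
    congr 3
    exact MonoidHom.ext fun m => hκ a x m
  · intro h
    exact hp ((CharP.cast_eq_zero_iff k p _).1 h)
  · intro x _ h
    apply hκinj
    have h' : F (T (κ x).toMonoidHom) = F (T (MonoidHom.id M)) := by
      apply L.injective
      rw [hT1, map_one F, map_one L]
      exact h
    rw [map_one]
    ext m
    exact congrArg Additive.toMul (LinearMap.congr_fun (hFinj h') (Additive.ofMul m))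

open CfsgLib.PQFPF CfsgLib.S3FPF in
theorem nilpotent_residual {A : Type*} [Group A] [Finite A] (D : PQData A) (n : ℕ) :
    ∀ (G : Type*) [Group G] [Finite G],
    Nat.card G ≤ n → Group.IsSolvable G → (Nat.card A).Coprime (Nat.card G) →
    ∀ φ : A →* MulAut G, (∀ g, (∀ a, φ a g = g) → g = 1) →
      ∀ j, (⊤ : Subgroup G).lowerCentralSeries (j + 1) = (⊤ : Subgroup G).lowerCentralSeries j →
      Group.IsNilpotent ↥((⊤ : Subgroup G).lowerCentralSeries j) := by
  induction n with
  | zero =>
    intro G _ _ hcard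
    exact absurd hcard (Nat.not_le.2 Nat.card_pos)
  | succ n ih =>
    intro G _ _ hcard hsol hcop φ hfpf j hj
    classical
    by_cases htriv : Subsingleton G
    · infer_instance
    rw [not_subsingleton_iff_nontrivial] at htriv
    have hcopA : (Nat.card A).Coprime (Nat.card G) := hcop
    -- a minimal invariant normal subgroup
    obtain ⟨M, ⟨hM1, hMn, hMinv⟩, hMmin⟩ : ∃ M : Subgroup G,
        (M ≠ ⊥ ∧ M.Normal ∧ ∀ a, ∀ m ∈ M, φ a m ∈ M) ∧ ∀ N : Subgroup G,
          (N ≠ ⊥ ∧ N.Normal ∧ ∀ a, ∀ m ∈ N, φ a m ∈ N) → N ≤ M → M ≤ N := by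
      obtain ⟨M, hM, hmin⟩ := (wellFounded_lt : WellFounded ((· < ·) : Subgroup G → _ → Prop)).has_min
        {N : Subgroup G | N ≠ ⊥ ∧ N.Normal ∧ ∀ a, ∀ m ∈ N, φ a m ∈ N}
        ⟨⊤, top_ne_bot, inferInstance, fun _ _ _ => trivial⟩
      exact ⟨M, hM, fun N hN hle => by
        by_contra h
        exact hmin N hN (lt_of_le_not_ge hle h)⟩
    haveI := hMn
    have hbot_or : ∀ N : Subgroup G, N.Normal → (∀ a, ∀ m ∈ N, φ a m ∈ N) → N ≤ M →
        N = ⊥ ∨ M ≤ N := fun N h1 h2 h3 => by
      by_cases h : N = ⊥
      · exact Or.inl h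
      · exact Or.inr (hMmin N ⟨h, h1, h2⟩ h3)
    -- it is abelian
    have hMab : ⁅M, M⁆ = ⊥ := by
      rcases hbot_or ⁅M, M⁆ inferInstance (fun a m hm => by
          have hle : (⁅M, M⁆).map (φ a).toMonoidHom ≤ ⁅M, M⁆ := by
            rw [Subgroup.map_commutator]
            apply Subgroup.commutator_mono <;>
            · rintro _ ⟨x, hx, rfl⟩; exact hMinv a x hx
          exact hle (Subgroup.mem_map_of_mem _ hm)) (Subgroup.commutator_le_self M) with h | h
      · exact h
      · exfalso
        haveI : Nontrivial ↥M := (Subgroup.nontrivial_iff_ne_bot M).2 hM1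
        have hlt := Group.IsSolvable.commutator_lt_top_of_nontrivial ↥M
        have heq : (commutator ↥M).map M.subtype = (⊤ : Subgroup ↥M).map M.subtype := by
          rw [Subgroup.map_subtype_commutator, ← MonoidHom.range_eq_map, Subgroup.range_subtype]
          exact le_antisymm (Subgroup.commutator_le_self M) h
        exact hlt.ne (Subgroup.map_injective M.subtype_injective heq)
    letI : CommGroup ↥M :=
      { (inferInstance : Group ↥M) with
        mul_comm := fun a b => Subtype.ext (by
          have h := Subgroup.commutator_mem_commutator a.2 b.2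
          rw [hMab, Subgroup.mem_bot, commutatorElement_eq_one_iff_commute] at h
          exact h.eq) }
    -- of prime exponent
    have hcM : 1 < Nat.card ↥M := by
      haveI : Nontrivial ↥M := (Subgroup.nontrivial_iff_ne_bot M).2 hM1
      exact Finite.one_lt_card
    obtain ⟨p, hpp, hpdvd⟩ := Nat.exists_prime_and_dvd hcM.ne'
    haveI : Fact p.Prime := ⟨hpp⟩
    have hexp : ∀ m : ↥M, m ^ p = 1 := by
      let Mp : Subgroup G := (powMonoidHom p : ↥M →* ↥M).ker.map M.subtype
      obtain ⟨x, hx⟩ := exists_prime_orderOf_dvd_card' p hpdvd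
      have hxMp : (x : G) ∈ Mp := Subgroup.mem_map_of_mem _ (by
        show x ^ p = 1
        rw [← hx]; exact pow_orderOf_eq_one x)
      have hmem : ∀ g : G, g ∈ Mp ↔ g ∈ M ∧ g ^ p = 1 := by
        intro g
        constructor
        · rintro ⟨m, hm, rfl⟩
          exact ⟨m.2, by simpa using congrArg Subtype.val (show m ^ p = 1 from hm)⟩
        · rintro ⟨hg, hgp⟩
          exact ⟨⟨g, hg⟩, Subtype.ext (by simpa using hgp), rfl⟩
      have hN : Mp.Normal := ⟨fun m hm g => by
        rw [hmem] at hm ⊢
        exact ⟨hMn.conj_mem m hm.1 g, by rw [conj_pow, hm.2, mul_one, mul_inv_cancel]⟩⟩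
      have hI : ∀ a, ∀ m ∈ Mp, φ a m ∈ Mp := fun a m hm => by
        rw [hmem] at hm ⊢
        exact ⟨hMinv a m hm.1, by rw [← map_pow, hm.2, map_one]⟩
      rcases hbot_or Mp hN hI (fun g hg => ((hmem g).1 hg).1) with h | h
      · exfalso
        rw [h, Subgroup.mem_bot] at hxMp
        rw [show x = 1 from Subtype.ext hxMp, orderOf_one] at hx
        exact hpp.one_lt.ne hx
      · intro m
        exact Subtype.ext (by simpa using ((hmem _).1 (h m.2)).2)
    -- the quotient by `M`
    have hφM : ∀ a, M.map (φ a).toMonoidHom = M := fun a => by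
      apply le_antisymm
      · rintro _ ⟨m, hm, rfl⟩; exact hMinv a m hm
      · intro m hm
        refine ⟨φ a⁻¹ m, hMinv _ m hm, ?_⟩
        show φ a (φ a⁻¹ m) = m
        rw [← MulAut.mul_apply, ← map_mul, mul_inv_cancel, map_one, MulAut.one_apply]
    let qa : ∀ (N : Subgroup G) [N.Normal], (∀ a, N.map (φ a).toMonoidHom = N) →
        (A →* MulAut (G ⧸ N)) := fun N _ hN =>
      { toFun := fun a => QuotientGroup.congr N N (φ a) (hN a)
        map_one' := by
          ext x
          induction x using QuotientGroup.induction_on with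
          | H g => simp
        map_mul' := fun a b => by
          ext x
          induction x using QuotientGroup.induction_on with
          | H g =>
            show ((φ (a * b) g : G) : G ⧸ N) = ((φ a (φ b g) : G) : G ⧸ N)
            rw [map_mul, MulAut.mul_apply] }
    have hqfpf : ∀ (N : Subgroup G) [N.Normal] (hN : ∀ a, N.map (φ a).toMonoidHom = N),
        ∀ g, (∀ a, qa N hN a g = g) → g = 1 := by
      intro N _ hN g hg
      induction g using QuotientGroup.induction_on with
      | H x =>
        rw [QuotientGroup.eq_one_iff]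
        refine mem_of_invariant_coset φ hcopA hfpf N (fun a n hn => ?_) x (fun a => ?_)
        · rw [← hN a]; exact Subgroup.mem_map_of_mem _ hn
        · rw [← QuotientGroup.eq]
          have h : ((φ a x : G) : G ⧸ N) = (x : G ⧸ N) := hg a
          exact h.symm
    have hqcop : ∀ (N : Subgroup G) [N.Normal], (Nat.card A).Coprime (Nat.card (G ⧸ N)) := fun N _ =>
      hcop.coprime_dvd_right (Subgroup.card_quotient_dvd_card N)
    have hmapL : ∀ {Q : Type _} [Group Q] (g : G →* Q), Function.Surjective g → ∀ i,
        ((⊤ : Subgroup G).lowerCentralSeries i).map g = (⊤ : Subgroup Q).lowerCentralSeries i :=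
      fun g hg i => by rw [Subgroup.map_lowerCentralSeries, Subgroup.map_top_of_surjective g hg]
    have hjM : (⊤ : Subgroup (G ⧸ M)).lowerCentralSeries (j + 1) =
        (⊤ : Subgroup (G ⧸ M)).lowerCentralSeries j := by
      rw [← hmapL _ (QuotientGroup.mk'_surjective M), ← hmapL _ (QuotientGroup.mk'_surjective M), hj]
    have hnil : Group.IsNilpotent ↥((⊤ : Subgroup (G ⧸ M)).lowerCentralSeries j) := by
      refine ih (G ⧸ M) ?_ inferInstance (hqcop M) (qa M hφM) (hqfpf M hφM) j hjM
      have hmul := Subgroup.card_eq_card_quotient_mul_card_subgroup M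
      have hpos : 0 < Nat.card (G ⧸ M) := Nat.card_pos
      nlinarith
    -- the kernel of the action on `M`
    let κ0 : G →* MulAut ↥M := MulAut.conjNormal
    let C : Subgroup G := κ0.ker
    have hMC : M ≤ C := fun m hm => by
      show κ0 m = 1
      ext x
      have hc : (x : G) * m = m * x := congrArg Subtype.val (mul_comm x ⟨m, hm⟩)
      simp [κ0, ← hc]
    let fa : A → (↥M →* ↥M) := fun a =>
      { toFun := fun m => ⟨φ a m, hMinv a m m.2⟩
        map_one' := Subtype.ext (map_one (φ a))
        map_mul' := fun m n => Subtype.ext (map_mul (φ a) (m : G) (n : G)) }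
    have hκ0 : ∀ a x (m : ↥M), fa a (κ0 x m) = κ0 (φ a x) (fa a m) := by
      intro a x m
      apply Subtype.ext
      simp [fa, κ0]
    have hφC : ∀ a, C.map (φ a).toMonoidHom = C := fun a => by
      have hle : ∀ b, ∀ x ∈ C, φ b x ∈ C := fun b x hx => by
        show κ0 (φ b x) = 1
        ext m
        have h := hκ0 b x (fa b⁻¹ m)
        have hm : fa b (fa b⁻¹ m) = m := Subtype.ext (by
          show φ b (φ b⁻¹ m) = m
          rw [← MulAut.mul_apply, ← map_mul, mul_inv_cancel, map_one, MulAut.one_apply])
        rw [hm, show κ0 x = 1 from hx, MulAut.one_apply, hm] at h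
        rw [MulAut.one_apply, ← h]
      apply le_antisymm
      · rintro _ ⟨x, hx, rfl⟩; exact hle a x hx
      · intro x hx
        refine ⟨φ a⁻¹ x, hle _ x hx, ?_⟩
        show φ a (φ a⁻¹ x) = x
        rw [← MulAut.mul_apply, ← map_mul, mul_inv_cancel, map_one, MulAut.one_apply]
    let K := G ⧸ C
    let κ : K →* MulAut ↥M := QuotientGroup.kerLift κ0
    have hκinj : Function.Injective κ := QuotientGroup.kerLift_injective κ0
    let φK : A →* MulAut K := qa C hφC
    have hκ : ∀ a x (m : ↥M), fa a (κ x m) = κ (φK a x) (fa a m) := by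
      intro a x m
      induction x using QuotientGroup.induction_on with
      | H g => exact hκ0 a g m
    -- the residual of `K` is nilpotent
    let π : G ⧸ M →* K := QuotientGroup.map M C (MonoidHom.id G) (by simpa using hMC)
    have hπs : Function.Surjective π := fun x => by
      induction x using QuotientGroup.induction_on with
      | H g => exact ⟨(g : G ⧸ M), rfl⟩
    let R : Subgroup K := (⊤ : Subgroup K).lowerCentralSeries j
    have hRK : ⁅R, (⊤ : Subgroup K)⁆ = R := by
      show (⊤ : Subgroup K).lowerCentralSeries (j + 1) = _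
      rw [← hmapL _ (QuotientGroup.mk'_surjective C), hj, hmapL _ (QuotientGroup.mk'_surjective C)]
    have hKnil : Group.IsNilpotent ↥R := by
      have h1 : ((⊤ : Subgroup (G ⧸ M)).lowerCentralSeries j).map π = R := by
        rw [Subgroup.map_lowerCentralSeries, Subgroup.map_top_of_surjective π hπs]
      rw [← h1]
      exact Group.nilpotent_of_surjective _ (π.subgroupMap_surjective _)
    haveI hRchar : R.Characteristic := by
      refine Subgroup.characteristic_iff_map_le.2 fun e => le_of_eq ?_
      rw [Subgroup.map_lowerCentralSeries, Subgroup.map_top_of_surjective _ e.surjective]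
    have hp' : ¬ p ∣ Nat.card ↥R := by
      intro hdvd
      let P : Sylow p ↥R := default
      haveI hPn : (P : Subgroup ↥R).Normal :=
        (Group.isNilpotent_of_finite_tfae (G := ↥R)).out 0 3 rfl rfl |>.mp hKnil p ‹_› P
      have hPmem : ∀ y : ↥R, y ∈ (P : Subgroup ↥R) ↔
          ∃ k, y ^ p ^ k = 1 := by
        intro y
        constructor
        · intro hy
          obtain ⟨k, hk⟩ := P.2 ⟨y, hy⟩
          exact ⟨k, by simpa using congrArg Subtype.val hk⟩
        · rintro ⟨k, hk⟩
          obtain ⟨Q, hQ⟩ := (IsPGroup.of_equiv (H := ↥(Subgroup.zpowers y))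
            (fun z => ⟨k, by
              obtain ⟨i, hi⟩ := z.2
              apply Subtype.ext
              simp only [SubgroupClass.coe_pow, OneMemClass.coe_one, ← hi]
              rw [← zpow_natCast, ← zpow_mul, mul_comm, zpow_mul, zpow_natCast, hk, one_zpow]⟩)
            (MulEquiv.refl _)).exists_le_sylow
          haveI : Subsingleton (Sylow p ↥R) :=
            ⟨fun A B => by
              have := P.unique_of_normal hPn
              rw [this.eq_default A, this.eq_default B]⟩
          rw [Subsingleton.elim P Q]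
          exact hQ (Subgroup.mem_zpowers y)
      let PK : Subgroup K := (P : Subgroup ↥R).map R.subtype
      have hPK : ∀ f : MulAut K, ∀ x ∈ PK, f x ∈ PK := by
        rintro f _ ⟨y, hy, rfl⟩
        have hfy : f (y : K) ∈ R :=
          Subgroup.characteristic_iff_map_le.1 hRchar f
            (Subgroup.mem_map_of_mem _ y.2)
        refine ⟨⟨f (y : K), hfy⟩, (hPmem _).2 ?_, rfl⟩
        obtain ⟨k, hk⟩ := (hPmem y).1 hy
        refine ⟨k, Subtype.ext ?_⟩
        simp only [SubgroupClass.coe_pow, OneMemClass.coe_one, ← map_pow]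
        rw [← SubgroupClass.coe_pow, hk, OneMemClass.coe_one, map_one]
      have hPKp : IsPGroup p ↥PK := P.2.map _
      letI : MulAction ↥PK ↥M :=
        { smul := fun x m => κ (x : K) m
          one_smul := fun m => by change κ 1 m = m; rw [map_one]; rfl
          mul_smul := fun x y m => by
            change κ ((x : K) * (y : K)) m = κ (x : K) (κ (y : K) m); rw [map_mul]; rfl }
      obtain ⟨b, hb, hb1⟩ := hPKp.exists_fixed_point_of_prime_dvd_card_of_fixed_point ↥M hpdvd
        (a := 1) (fun x => map_one (κ (x : K)))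
      let M0 : Subgroup G :=
        { carrier := {g | ∃ hg : g ∈ M, ∀ x ∈ PK, κ x ⟨g, hg⟩ = ⟨g, hg⟩}
          one_mem' := ⟨M.one_mem, fun x _ => map_one (κ x)⟩
          mul_mem' := fun {g h} ⟨hg, hg'⟩ ⟨hh, hh'⟩ => ⟨M.mul_mem hg hh, fun x hx => by
            rw [show (⟨g * h, M.mul_mem hg hh⟩ : ↥M) = ⟨g, hg⟩ * ⟨h, hh⟩ from rfl, map_mul,
              hg' x hx, hh' x hx]⟩
          inv_mem' := fun {g} ⟨hg, hg'⟩ => ⟨M.inv_mem hg, fun x hx => by
            rw [show (⟨g⁻¹, M.inv_mem hg⟩ : ↥M) = (⟨g, hg⟩ : ↥M)⁻¹ from rfl, map_inv,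
              hg' x hx]⟩ }
      have hM0n : M0.Normal := by
        constructor
        intro g hg0 y
        obtain ⟨hg, hg'⟩ := hg0
        refine ⟨hMn.conj_mem g hg y, ?_⟩
        intro x hx
        have hy : (⟨y * g * y⁻¹, hMn.conj_mem g hg y⟩ : ↥M) =
            κ (QuotientGroup.mk' C y) ⟨g, hg⟩ := by
          show _ = κ0 y ⟨g, hg⟩
          exact Subtype.ext (by simp [κ0])
        have hx' := hPK (MulAut.conj (QuotientGroup.mk' C y)⁻¹) x hx
        rw [hy, ← MulAut.mul_apply, ← map_mul,
          show x * QuotientGroup.mk' C y =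
            QuotientGroup.mk' C y * MulAut.conj (QuotientGroup.mk' C y)⁻¹ x by
              rw [MulAut.conj_apply]; group,
          map_mul, MulAut.mul_apply, hg' _ hx']
      have hM0i : ∀ a, ∀ g ∈ M0, φ a g ∈ M0 := by
        intro a g hg0
        obtain ⟨hg, hg'⟩ := hg0
        refine ⟨hMinv a g hg, ?_⟩
        intro x hx
        have h := hκ a (φK a⁻¹ x) ⟨g, hg⟩
        rw [hg' _ (hPK _ x hx), ← MulAut.mul_apply, ← map_mul, mul_inv_cancel, map_one,
          MulAut.one_apply] at h
        exact h.symm
      rcases hbot_or M0 hM0n hM0i (fun g hg => hg.1) with h | h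
      · have hbM0 : (b : G) ∈ M0 := ⟨b.2, fun x hx => hb ⟨x, hx⟩⟩
        rw [h, Subgroup.mem_bot] at hbM0
        exact hb1 (Subtype.ext hbM0).symm
      · have hPK1 : PK = ⊥ := by
          rw [eq_bot_iff]
          intro x hx
          apply Subgroup.mem_bot.2
          apply hκinj
          rw [map_one]
          ext m
          obtain ⟨hm, hm'⟩ := h m.2
          simpa using congrArg Subtype.val (hm' x hx)
        rw [Subgroup.map_eq_bot_iff_of_injective _ R.subtype_injective] at hPK1
        exact Sylow.ne_bot_of_dvd_card P hdvd hPK1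
    -- linearisation
    haveI : Group.IsSolvable K := inferInstanceAs (Group.IsSolvable (G ⧸ C))
    have hfa1 : fa 1 = MonoidHom.id _ := MonoidHom.ext fun m => Subtype.ext (by
      show φ 1 (m : G) = m
      rw [map_one, MulAut.one_apply])
    have hfamul : ∀ a b, fa (a * b) = (fa a).comp (fa b) := fun a b =>
      MonoidHom.ext fun m => Subtype.ext (by
        show φ (a * b) (m : G) = φ a (φ b (m : G))
        rw [map_mul, MulAut.mul_apply])
    have hprod : ∀ [Fintype A], ∀ m : ↥M, ∏ a, fa a m = 1 := by
      intro _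
      intro m
      apply Subtype.ext
      apply hfpf
      intro a
      have hWa : fa a (∏ b, fa b m) = ∏ b, fa b m := by
        rw [map_prod]
        refine Fintype.prod_equiv (Equiv.mulLeft a) _ _ (fun b => ?_)
        show fa a (fa b m) = fa (a * b) m
        rw [hfamul]; rfl
      exact congrArg Subtype.val hWa
    have hpA : ¬ p ∣ Nat.card A := fun h => by
      have h2 : p ∣ Nat.card G := hpdvd.trans (Subgroup.card_subgroup_dvd_card M)
      exact hpp.one_lt.ne' (Nat.eq_one_of_dvd_coprimes hcop h h2)
    have hK1 : R = ⊥ :=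
      eq_bot_of_action D p hexp hpA φK (hqcop C) (hqfpf C hφC) R
        (fun a x hx => Subgroup.characteristic_iff_map_le.1 hRchar (φK a)
          (Subgroup.mem_map_of_mem _ hx)) hKnil hRK hp' κ hκinj fa hfa1 hfamul hκ hprod
    -- so `M` is centralised by the residual
    let L := (⊤ : Subgroup G).lowerCentralSeries j
    have hGC : L ≤ C := by
      intro x hx
      have h : (QuotientGroup.mk' C x) ∈ L.map (QuotientGroup.mk' C) :=
        Subgroup.mem_map_of_mem _ hx
      rw [hmapL _ (QuotientGroup.mk'_surjective C)] at h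
      change QuotientGroup.mk' C x ∈ R at h
      rw [hK1, Subgroup.mem_bot] at h
      exact (QuotientGroup.eq_one_iff x).1 h
    haveI := hnil
    let f : ↥L →* ↥((⊤ : Subgroup (G ⧸ M)).lowerCentralSeries j) :=
      ((QuotientGroup.mk' M).comp L.subtype).codRestrict _ (fun x => by
        rw [← hmapL _ (QuotientGroup.mk'_surjective M)]; exact Subgroup.mem_map_of_mem _ x.2)
    refine Subgroup.isNilpotent_of_ker_le_center f ?_
    intro x hx
    have hxM : (x : G) ∈ M :=
      (QuotientGroup.eq_one_iff _).1 (congrArg Subtype.val (MonoidHom.mem_ker.1 hx))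
    rw [Subgroup.mem_center_iff]
    intro y
    have hy : κ0 (y : G) = 1 := hGC y.2
    have h := congrArg (fun e : MulAut ↥M => ((e ⟨x, hxM⟩ : ↥M) : G)) hy
    apply Subtype.ext
    simp only [κ0, MulAut.conjNormal_apply, MulAut.one_apply] at h
    show (y : G) * x = x * y
    calc (y : G) * x = ((y : G) * x * (y : G)⁻¹) * y := by group
      _ = x * y := by rw [h]

/-- Let `A` be a non-abelian group of order `pq` with `p, q` distinct primes, acting by automorphisms on a finite solvable group `G` of order prime to `pq`, so that only the identity of `G` is fixed by all of `A`. Then `G` has Fitting height at most 2: there is a normal nilpotent subgroup `F` of `G` with `G/F` nilpotent. -/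
theorem result {G A : Type*} [Group G] [Finite G]
    [Group.IsSolvable G] [Group A] [Finite A] [MulDistribMulAction A G] (p q : ℕ) (hp : p.Prime) (hq : q.Prime) (hpq : p ≠ q)
    (hA : Nat.card A = p * q) (hAna : ¬ IsMulCommutative A) (hcop : (Nat.card G).Coprime (p * q))
    (hfpf : ∀ g : G, (∀ a : A, a • g = g) → g = 1) :
    ∃ F : Subgroup G, ∃ hF : F.Normal, Group.IsNilpotent ↥F ∧ Group.IsNilpotent (G ⧸ F) := by
  classical
  obtain ⟨D, -⟩ := CfsgLib.PQFPF.exists_pqData hp hq hpq hA hAna
  have hcop' : (Nat.card A).Coprime (Nat.card G) := hA ▸ hcop.symm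
  obtain ⟨j, hj⟩ : ∃ j, (⊤ : Subgroup G).lowerCentralSeries (j + 1) =
      (⊤ : Subgroup G).lowerCentralSeries j := by
    obtain ⟨M, ⟨j, rfl⟩, hmin⟩ :=
      (wellFounded_lt : WellFounded ((· < ·) : Subgroup G → _ → Prop)).has_min
        (Set.range ((⊤ : Subgroup G).lowerCentralSeries)) (Set.range_nonempty _)
    exact ⟨j, ((Subgroup.lowerCentralSeries_antitone (⊤ : Subgroup G) (Nat.le_succ j)).lt_or_eq).resolve_left
      fun h => hmin _ ⟨j + 1, rfl⟩ h⟩
  let F := (⊤ : Subgroup G).lowerCentralSeries j
  haveI hFn : F.Normal := inferInstance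
  refine ⟨F, hFn, nilpotent_residual D (Nat.card G) G le_rfl inferInstance hcop'
    (MulDistribMulAction.toMulAut A G) hfpf j hj, ?_⟩
  rw [Subgroup.nilpotent_iff_lowerCentralSeries]
  refine ⟨j, ?_⟩
  rw [← Subgroup.map_top_of_surjective (QuotientGroup.mk' F) (QuotientGroup.mk'_surjective F),
    ← Subgroup.map_lowerCentralSeries, QuotientGroup.map_mk'_self]

end Cfsg.Agent.S4306
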