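import Cfsg.Statements.S4309
-- import your own Cfsg.Agent.* helpers here

set_option autoImplicit false
open Cfsg
open scoped Pointwise
set_option linter.style.haveILetI false

namespace Cfsg.Agent.S4309

/-- Let `π` be a set of primes, `G` a finite group with a Hall `π`-subgroup `H` (every prime divisor of the order of `H` lies in `π` and no prime of `π` divides its index), and `A` a normal subgroup of `G`. Then `H ∩ A` is a Hall `π`-subgroup of `A` and the image of `H` in `G/A` is a Hall `π`-subgroup of `G/A`. -/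
theorem result {G : Type*} [Group G] [Finite G] (π : Set ℕ)
    (H A : Subgroup G) [A.Normal] (hH : Cfsg.IsPiHall π H) :
    Cfsg.IsPiHall π ((H ⊓ A).subgroupOf A) ∧ Cfsg.IsPiHall π (H.map (QuotientGroup.mk' A)) := by
  obtain ⟨hH1, hH2⟩ := hH
  have hrel : H.relIndex (H ⊔ A) = H.relIndex A := by
    have hK : Nat.card ↥(H ⊔ A) = Nat.card A * A.relIndex (H ⊔ A) := by
      rw [← Subgroup.card_mul_index (A.subgroupOf (H ⊔ A)),
        Nat.card_congr (Subgroup.subgroupOfEquivOfLe (le_sup_right : A ≤ H ⊔ A)).toEquiv]; rfl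
    have hH' : Nat.card ↥(H ⊔ A) = Nat.card H * H.relIndex (H ⊔ A) := by
      rw [← Subgroup.card_mul_index (H.subgroupOf (H ⊔ A)),
        Nat.card_congr (Subgroup.subgroupOfEquivOfLe (le_sup_left : H ≤ H ⊔ A)).toEquiv]; rfl
    have hI1 : Nat.card A = Nat.card ↥(H ⊓ A) * H.relIndex A := by
      rw [← Subgroup.card_mul_index (H.subgroupOf A)]
      congr 1
      rw [← Subgroup.inf_subgroupOf_right]
      exact Nat.card_congr (Subgroup.subgroupOfEquivOfLe inf_le_right).toEquiv
    have hI2 : Nat.card H = Nat.card ↥(H ⊓ A) * A.relIndex H := by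
      rw [← Subgroup.card_mul_index (A.subgroupOf H)]
      congr 1
      rw [← Subgroup.inf_subgroupOf_right, inf_comm A H]
      exact Nat.card_congr (Subgroup.subgroupOfEquivOfLe inf_le_left).toEquiv
    rw [Subgroup.relIndex_sup_right] at hK
    have hpos : 0 < Nat.card H := Nat.card_pos
    apply Nat.eq_of_mul_eq_mul_left hpos
    rw [← hH', hK, hI1, hI2]; ring
  have hdvd : H.relIndex A ∣ H.index := hrel ▸ Subgroup.relIndex_dvd_index_of_le le_sup_left
  refine ⟨⟨fun p hp hd => hH1 p hp ?_, fun p hp hpπ hd => hH2 p hp hpπ ?_⟩,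
    ⟨fun p hp hd => hH1 p hp (hd.trans (H.card_map_dvd (QuotientGroup.mk' A))),
     fun p hp hpπ hd => hH2 p hp hpπ (hd.trans (Subgroup.index_map_dvd H (QuotientGroup.mk'_surjective A)))⟩⟩
  · refine hd.trans ?_
    rw [Nat.card_congr (Subgroup.subgroupOfEquivOfLe (inf_le_right : H ⊓ A ≤ A)).toEquiv]
    exact Subgroup.card_dvd_of_le inf_le_left
  · refine hd.trans ?_
    rw [Subgroup.inf_subgroupOf_right]
    exact hdvd

end Cfsg.Agent.S4309
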