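import Cfsg.Statements.S4314
-- import your own Cfsg.Agent.* helpers here

set_option autoImplicit false
open Cfsg
open scoped Pointwise
set_option linter.style.haveILetI false

namespace Cfsg.Agent.S4314

/-- A non-normal subgroup `D` of prime index forces `|G : Z(G)|` to be a product of two primes. -/
theorem card_quotient_center {G : Type*} [Group G] [Finite G]
    (h : ∀ x : G, (Subgroup.centralizer ({x} : Set G)).index = 1 ∨
      ((Subgroup.centralizer ({x} : Set G)).index).Prime)
    (D : Subgroup G) (hDp : D.index.Prime) (hDn : ¬ D.Normal) :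
    ∃ p q : ℕ, p.Prime ∧ q.Prime ∧ p ≠ q ∧ Nat.card (G ⧸ Subgroup.center G) = p * q ∧
      ¬ IsMulCommutative (G ⧸ Subgroup.center G) := by
  classical
  set p := D.index with hp
  haveI : Fact p.Prime := ⟨hDp⟩
  set K := D.normalCore with hK
  have hKD : K ≤ D := Subgroup.normalCore_le D
  haveI : Fintype (G ⧸ D) := Fintype.ofFinite _
  have hcard : Nat.card (G ⧸ D) = p := (Subgroup.index_eq_card D).symm
  have hKfix : ∀ k ∈ K, ∀ q : G ⧸ D, k • q = q := by
    intro k hk q
    have : k ∈ (MulAction.toPermHom G (G ⧸ D)).ker := by rwa [← Subgroup.normalCore_eq_ker]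
    exact congrArg (fun σ : Equiv.Perm (G ⧸ D) => σ q) (MonoidHom.mem_ker.1 this)
  have hfixK : ∀ k : G, (∀ q : G ⧸ D, k • q = q) → k ∈ K := by
    intro k hk
    rw [hK, Subgroup.normalCore_eq_ker]
    exact Equiv.ext hk
  have hdvd : p ∣ Nat.card (G ⧸ K) := by
    rw [← Subgroup.index_eq_card]
    exact Subgroup.index_dvd_of_le hKD
  obtain ⟨wbar, hwo⟩ := exists_prime_orderOf_dvd_card' p hdvd
  obtain ⟨w, rfl⟩ := QuotientGroup.mk_surjective wbar
  have hwK : w ∉ K := fun hw => by
    rw [(QuotientGroup.eq_one_iff w).2 hw, orderOf_one] at hwo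
    exact hDp.ne_one hwo.symm
  have hwp : w ^ p ∈ K := by
    rw [← QuotientGroup.eq_one_iff, QuotientGroup.mk_pow, ← hwo, pow_orderOf_eq_one]
  obtain ⟨q0, hq0⟩ : ∃ q : G ⧸ D, w • q ≠ q := by
    by_contra hall
    push Not at hall
    exact hwK (hfixK w hall)
  -- `⟨w⟩` is transitive on the cosets of `D`
  have htrans : ∀ q : G ⧸ D, ∃ i : ℕ, w ^ i • q0 = q := by
    intro q
    let f : Fin p → G ⧸ D := fun i => w ^ (i : ℕ) • q0
    have hf : Function.Injective f := by
      have hper : Function.minimalPeriod (w • ·) q0 = p := by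
        have h1 : Function.IsPeriodicPt (w • ·) p q0 := by
          rw [Function.IsPeriodicPt, Function.IsFixedPt, smul_iterate]
          exact hKfix _ hwp q0
        refine (hDp.eq_one_or_self_of_dvd _ h1.minimalPeriod_dvd).resolve_left fun h2 => hq0 ?_
        exact Function.minimalPeriod_eq_one_iff_isFixedPt.1 h2
      intro i j hij
      have hit : ∀ n : ℕ, w ^ n • q0 = (w • ·)^[n] q0 := fun n => by rw [smul_iterate]
      apply Fin.ext
      have := (Function.iterate_eq_iterate_iff_of_lt_minimalPeriod (f := (w • ·)) (x := q0)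
        (by rw [hper]; exact i.2) (by rw [hper]; exact j.2)).1
        (by rw [← hit, ← hit]; exact hij)
      exact this
    have hb : Function.Bijective f :=
      (Fintype.bijective_iff_injective_and_card f).2
        ⟨hf, by rw [Fintype.card_fin, ← Nat.card_eq_fintype_card, hcard]⟩
    obtain ⟨i, hi⟩ := hb.2 q
    exact ⟨i, hi⟩
  -- the centralizer of `w` modulo `K` has order `p`
  set W := Subgroup.centralizer ({(w : G ⧸ K)} : Set (G ⧸ K)) with hW
  have hWcard : Nat.card W = p := by
    apply le_antisymm
    · rw [← hcard]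
      let F : W → G ⧸ D := fun c => (c : G ⧸ K).out • q0
      refine Nat.card_le_card_of_injective F fun c d hcd => ?_
      replace hcd : (c : G ⧸ K).out • q0 = (d : G ⧸ K).out • q0 := hcd
      set u := (c : G ⧸ K).out
      set v := (d : G ⧸ K).out
      have hu : ∀ i : ℕ, u⁻¹ * (w ^ i)⁻¹ * u * w ^ i ∈ K ∧ v⁻¹ * (w ^ i)⁻¹ * v * w ^ i ∈ K := by
        intro i
        constructor <;>
        · rw [← QuotientGroup.eq_one_iff]
          simp only [QuotientGroup.mk_mul, QuotientGroup.mk_inv, QuotientGroup.mk_pow, u, v,
            QuotientGroup.out_eq']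
          have hc := Subgroup.mem_centralizer_singleton_iff.1 c.2
          have hd := Subgroup.mem_centralizer_singleton_iff.1 d.2
          first
            | rw [mul_assoc, (Commute.pow_right hc i).eq]; group
            | rw [mul_assoc, (Commute.pow_right hd i).eq]; group
      have key : ∀ q : G ⧸ D, u • q = v • q := by
        intro q
        obtain ⟨i, rfl⟩ := htrans q
        have h1 : u • w ^ i • q0 = w ^ i • u • q0 := by
          calc u • w ^ i • q0 = (w ^ i * u) • (u⁻¹ * (w ^ i)⁻¹ * u * w ^ i) • q0 := by
                rw [smul_smul, smul_smul]; congr 1; group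
            _ = w ^ i • u • q0 := by rw [hKfix _ (hu i).1, mul_smul]
        have h2 : v • w ^ i • q0 = w ^ i • v • q0 := by
          calc v • w ^ i • q0 = (w ^ i * v) • (v⁻¹ * (w ^ i)⁻¹ * v * w ^ i) • q0 := by
                rw [smul_smul, smul_smul]; congr 1; group
            _ = w ^ i • v • q0 := by rw [hKfix _ (hu i).2, mul_smul]
        rw [h1, h2, hcd]
      have huv : u⁻¹ * v ∈ K := hfixK _ fun q => by rw [mul_smul, ← key, inv_smul_smul]
      apply Subtype.ext
      rw [← QuotientGroup.out_eq' (c : G ⧸ K), ← QuotientGroup.out_eq' (d : G ⧸ K)]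
      exact QuotientGroup.eq.2 huv
    · rw [← hwo, ← Nat.card_zpowers]
      exact Subgroup.card_le_of_le (Subgroup.zpowers_le.2
        (Subgroup.mem_centralizer_singleton_iff.2 rfl))
  have himgle : (Subgroup.centralizer ({w} : Set G)).map (QuotientGroup.mk' K) ≤ W := by
    rintro _ ⟨c, hc, rfl⟩
    rw [hW, Subgroup.mem_centralizer_singleton_iff, QuotientGroup.mk'_apply,
      ← QuotientGroup.mk_mul, ← QuotientGroup.mk_mul, Subgroup.mem_centralizer_singleton_iff.1 hc]
  have hWd : W.index ∣ (Subgroup.centralizer ({w} : Set G)).index :=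
    (Subgroup.index_dvd_of_le himgle).trans (Subgroup.index_map_dvd _ (QuotientGroup.mk'_surjective K))
  have hGK : Nat.card (G ⧸ K) = p * W.index := by rw [← hWcard, Subgroup.card_mul_index]
  have hK1 : K.index = K.relIndex D * p := (Subgroup.relIndex_mul_index hKD).symm
  have hrel : K.relIndex D ≠ 1 := by
    intro h1
    rw [Subgroup.relIndex_eq_one] at h1
    exact hDn ((le_antisymm h1 hKD) ▸ Subgroup.normalCore_normal D)
  have hWi : W.index ≠ 1 := by
    intro h1
    rw [← Subgroup.index_eq_card, hK1, h1, mul_one] at hGK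
    exact hrel ((Nat.mul_eq_right hDp.pos.ne').1 hGK)
  obtain ⟨r, hr, hr'⟩ : ∃ r : ℕ, r.Prime ∧ (Subgroup.centralizer ({w} : Set G)).index = r := by
    rcases h w with h1 | h1
    · exact absurd (Nat.dvd_one.1 (h1 ▸ hWd)) hWi
    · exact ⟨_, h1, rfl⟩
  have hWr : W.index = r := (hr.eq_one_or_self_of_dvd _ (hr' ▸ hWd)).resolve_left hWi
  have hrelr : K.relIndex D = r := by
    rw [← Subgroup.index_eq_card, hK1, hWr, mul_comm p r] at hGK
    exact Nat.eq_of_mul_eq_mul_right hDp.pos hGK
  -- `w` centralizes `K`
  have hKw : ∀ k ∈ K, k * w = w * k := by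
    intro k hk
    have h1 := Subgroup.index_map (Subgroup.centralizer ({w} : Set G)) (QuotientGroup.mk' K)
    rw [QuotientGroup.ker_mk', MonoidHom.range_eq_top.2 (QuotientGroup.mk'_surjective K),
      Subgroup.index_top, mul_one] at h1
    have h2 : W.index ∣ ((Subgroup.centralizer ({w} : Set G)) ⊔ K).index :=
      h1 ▸ Subgroup.index_dvd_of_le himgle
    have h3 := Subgroup.relIndex_mul_index (le_sup_left : Subgroup.centralizer ({w} : Set G) ≤ _ ⊔ K)
    rw [hr'] at h3
    obtain ⟨s, hs⟩ := h2
    rw [hs, hWr, mul_left_comm] at h3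
    have h4 : (Subgroup.centralizer ({w} : Set G)).relIndex (Subgroup.centralizer ({w} : Set G) ⊔ K) = 1 :=
      Nat.eq_one_of_mul_eq_one_right ((Nat.mul_eq_left hr.pos.ne').1 h3)
    rw [Subgroup.relIndex_eq_one] at h4
    exact Subgroup.mem_centralizer_singleton_iff.1 (h4 (Subgroup.mem_sup_right hk))
  -- the image of `D` is self-centralizing
  set Dbar := D.map (QuotientGroup.mk' K) with hDbar
  have hcomap : Dbar.comap (QuotientGroup.mk' K) = D := by
    rw [hDbar, Subgroup.comap_map_eq, QuotientGroup.ker_mk', sup_eq_left.2 hKD]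
  have hDbp : Dbar.index = p := by
    rw [hp, ← Subgroup.index_comap_of_surjective Dbar (QuotientGroup.mk'_surjective K), hcomap]
  have hGKr : Nat.card (G ⧸ K) = r * p := by rw [hGK, hWr, mul_comm]
  have hDbr : Nat.card Dbar = r := by
    have h1 := Subgroup.card_mul_index Dbar
    rw [hDbp, hGKr] at h1
    exact Nat.eq_of_mul_eq_mul_right hDp.pos h1
  haveI := Fact.mk hr
  haveI : IsCyclic Dbar := isCyclic_of_prime_card hDbr
  letI : CommGroup Dbar := IsCyclic.commGroup
  have hnc : ¬ IsMulCommutative (G ⧸ K) := by
    intro hc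
    apply hDn
    rw [← hcomap]
    haveI : Dbar.Normal := ⟨fun n hn g => by rwa [hc.is_comm.comm g n, mul_inv_cancel_right]⟩
    exact Subgroup.Normal.comap ‹Dbar.Normal› _
  have hDd : ∀ d ∈ D, d ∉ K → Subgroup.centralizer ({d} : Set G) = D := by
    intro d hd hdK
    have hle : Subgroup.centralizer ({d} : Set G) ≤ D := by
      set E := Subgroup.centralizer ({(d : G ⧸ K)} : Set (G ⧸ K)) with hE
      have hDE : Dbar ≤ E := by
        intro e he
        rw [hE, Subgroup.mem_centralizer_singleton_iff]
        exact congrArg Subtype.val (mul_comm (⟨e, he⟩ : Dbar) ⟨_, Subgroup.mem_map_of_mem _ hd⟩)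
      intro c hc
      have hcE : (c : G ⧸ K) ∈ E := by
        rw [hE, Subgroup.mem_centralizer_singleton_iff, ← QuotientGroup.mk_mul, ← QuotientGroup.mk_mul,
          Subgroup.mem_centralizer_singleton_iff.1 hc]
      have h5 : E.index ∣ p := hDbp ▸ Subgroup.index_dvd_of_le hDE
      rcases hDp.eq_one_or_self_of_dvd _ h5 with h6 | h6
      · exfalso
        rw [Subgroup.index_eq_one] at h6
        apply hnc
        -- the centre is not trivial, so the quotient by it is cyclic
        have hdZ : (d : G ⧸ K) ∈ Subgroup.center (G ⧸ K) := Subgroup.mem_center_iff.2 fun g =>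
          Subgroup.mem_centralizer_singleton_iff.1 (h6 ▸ Subgroup.mem_top g : g ∈ E)
        have hdne : (d : G ⧸ K) ≠ 1 := fun e => hdK ((QuotientGroup.eq_one_iff d).1 e)
        have hDZ : Dbar ≤ Subgroup.center (G ⧸ K) := by
          have hz : Subgroup.zpowers (d : G ⧸ K) = Dbar := by
            refine Subgroup.eq_of_le_of_card_ge
              (Subgroup.zpowers_le.2 (Subgroup.mem_map_of_mem _ hd)) ?_
            have h7 := Dbar.orderOf_dvd_natCard (Subgroup.mem_map_of_mem (QuotientGroup.mk' K) hd)
            rw [hDbr] at h7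
            rw [Nat.card_zpowers, hDbr]
            exact ((hr.eq_one_or_self_of_dvd _ h7).resolve_left (by simpa using hdne)).ge
          rw [← hz]
          exact Subgroup.zpowers_le.2 hdZ
        have h8 : (Subgroup.center (G ⧸ K)).index ∣ p := hDbp ▸ Subgroup.index_dvd_of_le hDZ
        haveI : IsCyclic ((G ⧸ K) ⧸ Subgroup.center (G ⧸ K)) := by
          rcases hDp.eq_one_or_self_of_dvd _ h8 with h9 | h9
          · rw [Subgroup.index_eq_card] at h9
            haveI := (Nat.card_eq_one_iff_unique.1 h9).1
            infer_instance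
          · exact isCyclic_of_prime_card (p := p) (by rw [← Subgroup.index_eq_card, h9])
        exact ⟨⟨fun a b => commutative_of_cyclic_center_quotient
          (QuotientGroup.mk' (Subgroup.center (G ⧸ K))) (by rw [QuotientGroup.ker_mk']) a b⟩⟩
      · have h7 : Dbar = E := Subgroup.eq_of_le_of_card_ge hDE (le_of_eq (by
          have e1 := Subgroup.card_mul_index E
          have e2 := Subgroup.card_mul_index Dbar
          rw [h6] at e1
          rw [hDbp] at e2
          exact Nat.eq_of_mul_eq_mul_right hDp.pos (e1.trans e2.symm)))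
        have h8 : c ∈ Dbar.comap (QuotientGroup.mk' K) := by
          rw [h7]; exact hcE
        rwa [hcomap] at h8
    have hne1 : (Subgroup.centralizer ({d} : Set G)).index ≠ 1 := fun e => by
      have := Subgroup.index_dvd_of_le hle
      rw [e, Nat.dvd_one] at this
      exact hDp.ne_one this
    have hidx : (Subgroup.centralizer ({d} : Set G)).index = p :=
      ((Nat.prime_dvd_prime_iff_eq hDp ((h d).resolve_left hne1)).1 (Subgroup.index_dvd_of_le hle)).symm
    refine Subgroup.eq_of_le_of_card_ge hle (le_of_eq ?_)
    have e1 := Subgroup.card_mul_index D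
    have e2 := Subgroup.card_mul_index (Subgroup.centralizer ({d} : Set G))
    rw [hidx] at e2
    exact Nat.eq_of_mul_eq_mul_right hDp.pos (e1.trans e2.symm)
  have hKZ : K = Subgroup.center G := by
    apply le_antisymm
    · intro k hk
      obtain ⟨d, hd, hdK⟩ : ∃ d ∈ D, d ∉ K := by
        by_contra hcon
        push Not at hcon
        exact hrel (Subgroup.relIndex_eq_one.2 hcon)
      have hDk : ∀ e ∈ D, e * k = k * e := by
        intro e he
        by_cases heK : e ∈ K
        · have h1 : e * d ∉ K := fun h2 => hdK (by simpa using K.mul_mem (K.inv_mem heK) h2)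
          have h3 : k * (e * d) = e * d * k :=
            Subgroup.mem_centralizer_singleton_iff.1 ((hDd _ (D.mul_mem he hd) h1).symm ▸ hKD hk)
          have h4 : k * d = d * k :=
            Subgroup.mem_centralizer_singleton_iff.1 ((hDd _ hd hdK).symm ▸ hKD hk)
          have h5 : e * k * d = k * e * d := by rw [mul_assoc e k d, h4, ← mul_assoc e d k, ← h3, mul_assoc]
          exact mul_right_cancel h5
        · exact (Subgroup.mem_centralizer_singleton_iff.1 ((hDd _ he heK).symm ▸ hKD hk)).symm
      have htop : Subgroup.centralizer ({k} : Set G) = ⊤ := by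
        rcases h k with h1 | h1
        · exact Subgroup.index_eq_one.1 h1
        · exfalso
          have hDle : D ≤ Subgroup.centralizer ({k} : Set G) := fun e he =>
            Subgroup.mem_centralizer_singleton_iff.2 (hDk e he)
          have h2 := Subgroup.index_dvd_of_le hDle
          rw [← hp, Nat.prime_dvd_prime_iff_eq h1 hDp] at h2
          have h3 : D = Subgroup.centralizer ({k} : Set G) :=
            Subgroup.eq_of_le_of_card_ge hDle (le_of_eq (by
              have e1 := Subgroup.card_mul_index D
              have e2 := Subgroup.card_mul_index (Subgroup.centralizer ({k} : Set G))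
              rw [h2] at e2
              exact Nat.eq_of_mul_eq_mul_right hDp.pos (e2.trans e1.symm)))
          have hwD : w ∈ D := h3 ▸ Subgroup.mem_centralizer_singleton_iff.2 (hKw k hk).symm
          have hwq : w • (QuotientGroup.mk 1 : G ⧸ D) = QuotientGroup.mk 1 := by
            change (QuotientGroup.mk (w * 1) : G ⧸ D) = _
            rw [QuotientGroup.eq]
            simpa using hwD
          obtain ⟨i, hi⟩ := htrans (QuotientGroup.mk 1)
          apply hq0
          have h6 : w ^ i • w • q0 = w ^ i • q0 := by
            rw [smul_smul, ← pow_succ, pow_succ', mul_smul, hi, hwq]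
          exact MulAction.injective _ h6
      exact Subgroup.mem_center_iff.2 fun g =>
        Subgroup.mem_centralizer_singleton_iff.1 (htop ▸ Subgroup.mem_top g)
    · intro z hz
      refine hfixK z fun q => ?_
      obtain ⟨g, rfl⟩ := QuotientGroup.mk_surjective q
      have hzD : z ∈ D := by
        obtain ⟨d, hd, hdK⟩ : ∃ d ∈ D, d ∉ K := by
          by_contra hcon
          push Not at hcon
          exact hrel (Subgroup.relIndex_eq_one.2 hcon)
        rw [← hDd d hd hdK, Subgroup.mem_centralizer_singleton_iff]
        exact (Subgroup.mem_center_iff.1 hz d).symm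
      change (QuotientGroup.mk (z * g) : G ⧸ D) = _
      rw [QuotientGroup.eq, ← Subgroup.mem_center_iff.1 hz g, mul_inv_rev, inv_mul_cancel_right]
      exact inv_mem hzD
  refine ⟨r, p, hr, hDp, ?_, ?_, ?_⟩
  · intro hrp
    apply hnc
    have hsq : Nat.card (G ⧸ K) = p ^ 2 := by rw [hGKr, hrp, sq]
    exact ⟨⟨(IsPGroup.isMulCommutative_of_card_eq_prime_sq hsq).is_comm.comm⟩⟩
  · rw [← hKZ]; exact hGKr
  · have htrans' : ∀ (Z : Subgroup G) [Z.Normal], K = Z → ¬ IsMulCommutative (G ⧸ Z) := by
      intro Z _ hZ
      subst hZ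
      exact hnc
    exact htrans' _ hKZ


/-- Let `G` be a finite group every conjugacy class of which has size 1 or a prime. Then either `G` is nilpotent of class at most 2, or `G/Z(G)` is a non-abelian group of order `pq` for distinct primes `p, q` (a Frobenius group of order `pq`). -/
theorem result {G : Type*} [Group G] [Finite G]
    (h : ∀ x : G, (Subgroup.centralizer ({x} : Set G)).index = 1 ∨ ((Subgroup.centralizer ({x} : Set G)).index).Prime) :
    Subgroup.upperCentralSeries G 2 = ⊤ ∨
      ∃ p q : ℕ, p.Prime ∧ q.Prime ∧ p ≠ q ∧ Nat.card (G ⧸ Subgroup.center G) = p * q ∧ ¬ IsMulCommutative (G ⧸ Subgroup.center G) := by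
  classical
  by_cases hall : ∀ x : G, (Subgroup.centralizer ({x} : Set G)).Normal
  · -- all centralizers normal: they contain the derived subgroup
    left
    have hle : commutator G ≤ Subgroup.center G := by
      intro u hu
      rw [Subgroup.mem_center_iff]
      intro x
      haveI := hall x
      rcases h x with h1 | h1
      · rw [Subgroup.index_eq_one] at h1
        exact (Subgroup.mem_centralizer_singleton_iff.1 (h1 ▸ Subgroup.mem_top u)).symm
      · haveI : Fact ((Subgroup.centralizer ({x} : Set G)).index).Prime := ⟨h1⟩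
        haveI : IsCyclic (G ⧸ Subgroup.centralizer ({x} : Set G)) :=
          isCyclic_of_prime_card (Subgroup.index_eq_card _).symm
        letI : CommGroup (G ⧸ Subgroup.centralizer ({x} : Set G)) := IsCyclic.commGroup
        have h3 : u ∈ Subgroup.centralizer ({x} : Set G) := by
          have h4 := Abelianization.commutator_subset_ker
            (QuotientGroup.mk' (Subgroup.centralizer ({x} : Set G))) hu
          rwa [QuotientGroup.ker_mk'] at h4
        exact (Subgroup.mem_centralizer_singleton_iff.1 h3).symm
    rw [Subgroup.eq_top_iff']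
    intro g
    rw [show (2 : ℕ) = 1 + 1 from rfl, Subgroup.mem_upperCentralSeries_succ_iff]
    intro y
    rw [Subgroup.upperCentralSeries_one]
    exact hle (Subgroup.commutator_mem_commutator (Subgroup.mem_top g) (Subgroup.mem_top y))
  · right
    push Not at hall
    obtain ⟨x, hx⟩ := hall
    set D := Subgroup.centralizer ({x} : Set G) with hD
    have hDp : D.index.Prime := by
      refine (h x).resolve_left fun h1 => hx ?_
      rw [Subgroup.index_eq_one] at h1
      rw [show D = ⊤ from h1]; infer_instance
    exact card_quotient_center h D hDp hx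

end Cfsg.Agent.S4314
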