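import Cfsg.Statements.S4316
import Cfsg.Agent.Lib.Coprime.BoundedDerived
-- import your own Cfsg.Agent.* helpers here

set_option autoImplicit false
universe u
open Cfsg

namespace Cfsg.Agent.S4316

open CfsgLib.BoundedDerived in
/-- The bound, in a semidirect product. -/
theorem bound_aux {A G : Type u} [Group A] [Finite A] [Group G] [Finite G] [MulDistribMulAction A G]
    {q m : ℕ} (hq : q.Prime) (hA : Nat.card A = q ^ 3) (hAc : ∀ a b : A, a * b = b * a)
    (hAe : ∀ a : A, a ^ q = 1) (hcop : ¬ q ∣ Nat.card G)
    (hm : ∀ a : A, a ≠ 1 →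
      Nat.card ↥(commutator ↥(FixedPoints.subgroup (Subgroup.zpowers a) G)) ≤ m) :
    Nat.card ↥(commutator G) ≤ generatedBound (q ^ 3 * m) (classBound q m) m.factorial := by
  haveI := Fact.mk hq
  let φ := MulDistribMulAction.toMulAut A G
  let X := G ⋊[φ] A
  haveI : Finite X := Finite.of_equiv (G × A) SemidirectProduct.equivProd.symm
  let i : G →* X := SemidirectProduct.inl
  let j : A →* X := SemidirectProduct.inr
  have hi : Function.Injective i := SemidirectProduct.inl_injective
  have hj : Function.Injective j := SemidirectProduct.inr_injective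
  have hji : ∀ a x, j a * i x * (j a)⁻¹ = i (a • x) := fun a x => by
    rw [← map_inv]; exact (SemidirectProduct.inl_aut (φ := φ) a x).symm
  have hn : j.range ≤ Subgroup.normalizer (i.range : Set X) :=
    Subgroup.le_normalizer_iff.2 fun a ha x hx => by
      obtain ⟨b, rfl⟩ := ha
      obtain ⟨y, rfl⟩ := hx
      exact ⟨b • y, (hji b y).symm⟩
  have hcA : Nat.card j.range = q ^ 3 := by
    rw [← Nat.card_congr (MonoidHom.ofInjective hj).toEquiv, hA]
  have hcG : (Nat.card i.range).Coprime q := by
    rw [← Nat.card_congr (MonoidHom.ofInjective hi).toEquiv]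
    exact (hq.coprime_iff_not_dvd.mpr hcop).symm
  have hEA : Cfsg.IsElementaryAbelian q j.range := by
    refine ⟨⟨⟨?_⟩⟩, ?_⟩
    · rintro ⟨_, a, rfl⟩ ⟨_, b, rfl⟩
      exact Subtype.ext (by simp [← map_mul, hAc a b])
    · rintro _ ⟨a, rfl⟩
      rw [← map_pow, hAe, map_one]
  have h := card_commutator_le (m := m) hEA hcA hn hcG ?_
  · have e : ⁅i.range, i.range⁆ = (commutator G).map i := by
      rw [_root_.commutator_def, Subgroup.map_commutator, ← MonoidHom.range_eq_map]
    rwa [e, Subgroup.card_map_of_injective hi] at h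
  rintro _ ⟨a, rfl⟩ ha
  have ha1 : a ≠ 1 := fun h => ha (by rw [h, map_one])
  set C := FixedPoints.subgroup (Subgroup.zpowers a) G
  have e : C.map i = i.range ⊓ Subgroup.centralizer ({j a} : Set X) := by
    ext z
    constructor
    · rintro ⟨x, hx, rfl⟩
      refine ⟨⟨x, rfl⟩, Subgroup.mem_centralizer_singleton_iff.mpr ?_⟩
      have hx' : a • x = x := hx ⟨a, Subgroup.mem_zpowers a⟩
      have := hji a x
      rw [hx', mul_inv_eq_iff_eq_mul] at this
      exact this.symm
    · rintro ⟨⟨x, rfl⟩, hx⟩
      refine ⟨x, ?_, rfl⟩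
      have hx' : a • x = x := hi (by
        rw [← hji, mul_inv_eq_iff_eq_mul]
        exact (Subgroup.mem_centralizer_singleton_iff.mp hx).symm)
      rintro ⟨b, hb⟩
      show b • x = x
      obtain ⟨k, rfl⟩ := Subgroup.mem_zpowers_iff.mp hb
      exact Subgroup.zpow_mem (MulAction.stabilizer A x) (show a ∈ MulAction.stabilizer A x from hx') k
  rw [← e, ← Subgroup.map_commutator, Subgroup.card_map_of_injective hi,
    ← Subgroup.map_subtype_commutator, Subgroup.card_subtype]
  exact hm a ha1


/-- There is a function `f` of two natural-number arguments with the following property. Let `q` be a prime and `A` an elementary abelian group of order `q³` acting by automorphisms on a finite group `G` of order prime to `q`, and suppose that for every non-identity `a ∈ A` the derived subgroup of the fixed-point subgroup `C_G(a)` has order at most `m`. Then the derived subgroup of `G` has order at most `f(q, m)`. -/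
theorem result :
    ∃ f : ℕ → ℕ → ℕ, ∀ (q m : ℕ) (A G : Type u) [Group A] [Finite A] [Group G] [Finite G] [MulDistribMulAction A G],
      q.Prime → Nat.card A = q ^ 3 → (∀ a b : A, a * b = b * a) → (∀ a : A, a ^ q = 1) → ¬ q ∣ Nat.card G →
      (∀ a : A, a ≠ 1 → Nat.card ↥(commutator ↥(FixedPoints.subgroup (Subgroup.zpowers a) G)) ≤ m) →
      Nat.card ↥(commutator G) ≤ f q m := by
  exact ⟨fun q m => CfsgLib.BoundedDerived.generatedBound (q ^ 3 * m)
      (CfsgLib.BoundedDerived.classBound q m) m.factorial,
    fun q m A G _ _ _ _ _ hq hA hAc hAe hcop hm => bound_aux hq hA hAc hAe hcop hm⟩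

end Cfsg.Agent.S4316
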