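import Cfsg.Statements.S4320
-- import your own Cfsg.Agent.* helpers here

set_option autoImplicit false
open Cfsg
open scoped Pointwise
set_option linter.style.haveILetI false

namespace Cfsg.Agent.S4320

section PrincipalIdeal

variable {G : Type*} [Group G] [Finite G]

/-- The chosen representative of a class of `G` modulo its derived subgroup. -/
noncomputable def rep (a : Abelianization G) : G := Quotient.out a

omit [Finite G] in
theorem of_rep (a : Abelianization G) : Abelianization.of (rep a) = a := Quotient.out_eq a

omit [Finite G] in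
theorem cocycle_mem (g : G) (a : Abelianization G) :
    (rep (Abelianization.of g * a))⁻¹ * g * rep a ∈ commutator G := by
  rw [← Abelianization.ker_of, MonoidHom.mem_ker, map_mul, map_mul, map_inv, of_rep, of_rep,
    mul_assoc, inv_mul_cancel]

/-- The Kaloujnine-Krasner cocycle with values in functions on the abelianization. -/
noncomputable def cocycle (g : G) (a : Abelianization G) : Abelianization (commutator G) :=
  Abelianization.of ⟨_, cocycle_mem g a⟩

omit [Finite G] in
theorem cocycle_mul (g h : G) (a : Abelianization G) :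
    cocycle (g * h) a = cocycle g (Abelianization.of h * a) * cocycle h a := by
  rw [cocycle, cocycle, cocycle, ← map_mul]
  congr 1
  apply Subtype.ext
  simp only [Subgroup.coe_mul, map_mul, mul_assoc]
  group

omit [Finite G] in
theorem transfer_eq_prod_cocycle [Fintype (Abelianization G)] [(commutator G).FiniteIndex] (g : G) :
    MonoidHom.transfer (Abelianization.of : ↥(commutator G) →* Abelianization ↥(commutator G)) g =
      ∏ a, cocycle g a := by
  classical
  letI : Fintype (G ⧸ commutator G) := (commutator G).fintypeQuotientOfFiniteIndex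
  have hr : ∀ q : G ⧸ commutator G, ((rep q : G) : G ⧸ commutator G) = q := fun q => of_rep q
  rw [MonoidHom.transfer_def _ ⟨_, Subgroup.isComplement_range_left hr⟩ g]
  unfold Subgroup.leftTransversals.diff
  refine (Fintype.prod_equiv
    (show Abelianization G ≃ G ⧸ commutator G from (MulAction.toPerm g : Equiv.Perm (G ⧸ commutator G)))
    (fun a => cocycle g a) _ fun a => ?_).symm
  dsimp only [cocycle]
  congr 1
  apply Subtype.ext
  change (rep (Abelianization.of g * a))⁻¹ * g * rep a = _
  dsimp only
  rw [Subgroup.smul_apply_eq_smul_apply_inv_smul, smul_eq_mul,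
    Subgroup.IsComplement.leftQuotientEquiv_apply hr,
    Subgroup.IsComplement.leftQuotientEquiv_apply hr, ← mul_assoc]
  have key : ∀ q : G ⧸ commutator G, (rep (g • q))⁻¹ * g * rep (g⁻¹ • g • q) =
      (rep ((g : G ⧸ commutator G) * q))⁻¹ * g * rep q := by
    intro q
    obtain ⟨u, rfl⟩ := QuotientGroup.mk_surjective q
    rw [inv_smul_smul]
    rfl
  exact (key a).symm

theorem det_smul_eq_zero {R M ι : Type*} [CommRing R] [AddCommGroup M] [Module R M] [Fintype ι]
    [DecidableEq ι] (B : Matrix ι ι R) (v : ι → M) (h : ∀ i, ∑ j, B i j • v j = 0) (k : ι) :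
    B.det • v k = 0 := by
  have h1 : ∑ j, (B.adjugate * B) k j • v j = 0 := by
    simp only [Matrix.mul_apply, Finset.sum_smul]
    rw [Finset.sum_comm]
    refine Finset.sum_eq_zero fun i _ => ?_
    simp only [mul_smul]
    rw [← Finset.smul_sum, h i, smul_zero]
  rw [Matrix.adjugate_mul, Finset.sum_eq_single k] at h1
  · rwa [Matrix.smul_apply, Matrix.one_apply_eq, smul_eq_mul, mul_one] at h1
  · intro j _ hj
    rw [Matrix.smul_apply, Matrix.one_apply_ne (Ne.symm hj), smul_eq_mul, mul_zero, zero_smul]
  · exact fun hk => absurd (Finset.mem_univ k) hk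

open MonoidAlgebra in
/-- A derivation into a module over the integral group ring of the abelianization, lifting the
canonical map to the augmentation ideal, is killed by the sum of all group elements. -/
theorem norm_smul_eq_zero [Fintype (Abelianization G)] {M : Type*} [AddCommGroup M]
    [Module (MonoidAlgebra ℤ (Abelianization G)) M] (D : G → M)
    (hD : ∀ g h, D (g * h) = MonoidAlgebra.of ℤ (Abelianization G) (Abelianization.of h) • D g + D h)
    (π : M →ₗ[MonoidAlgebra ℤ (Abelianization G)] MonoidAlgebra ℤ (Abelianization G))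
    (hπ : ∀ g, π (D g) = MonoidAlgebra.of ℤ (Abelianization G) (Abelianization.of g) - 1) (g : G) :
    (∑ a : Abelianization G, MonoidAlgebra.of ℤ (Abelianization G) a) • D g = 0 := by
  classical
  letI := Fintype.ofFinite G
  let e : Abelianization G →* MonoidAlgebra ℤ (Abelianization G) := MonoidAlgebra.of ℤ (Abelianization G)
  let aug : MonoidAlgebra ℤ (Abelianization G) →+* ℤ :=
    (MonoidAlgebra.lift ℤ ℤ (Abelianization G) (1 : Abelianization G →* ℤ)).toRingHom
  have haug : ∀ a, aug (e a) = 1 := fun a => by simp [aug, e]
  let N : Submodule (MonoidAlgebra ℤ (Abelianization G)) M :=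
    Submodule.span _ (Set.range fun q : Abelianization G × G => (e q.1 - 1) • D q.2)
  have hN : ∀ m ∈ N, ∃ r : G → MonoidAlgebra ℤ (Abelianization G),
      (∀ h, aug (r h) = 0) ∧ m = ∑ h, r h • D h := by
    intro m hm
    induction hm using Submodule.span_induction with
    | mem m hm =>
      obtain ⟨⟨a, h⟩, rfl⟩ := hm
      refine ⟨Pi.single h (e a - 1), fun h' => ?_, ?_⟩
      · by_cases hh : h' = h
        · subst hh; rw [Pi.single_eq_same, map_sub, haug, map_one, sub_self]
        · rw [Pi.single_eq_of_ne hh, map_zero]
      · rw [Finset.sum_eq_single h, Pi.single_eq_same]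
        · intro b _ hb; rw [Pi.single_eq_of_ne hb, zero_smul]
        · exact fun hh => absurd (Finset.mem_univ h) hh
    | zero => exact ⟨0, fun _ => map_zero aug, by simp⟩
    | add x y _ _ hx hy =>
      obtain ⟨r, hr, rfl⟩ := hx
      obtain ⟨s, hs, rfl⟩ := hy
      exact ⟨r + s, fun h => by simp [hr, hs], by simp [add_smul, Finset.sum_add_distrib]⟩
    | smul c x _ hx =>
      obtain ⟨r, hr, rfl⟩ := hx
      exact ⟨fun h => c * r h, fun h => by simp [hr], by simp [Finset.smul_sum, mul_smul]⟩
  have hD1 : D 1 = 0 := by
    have h1 := hD 1 1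
    rw [mul_one, map_one, map_one, one_smul] at h1
    exact left_eq_add.1 h1
  -- modulo `N` the derivation is a homomorphism, hence it factors through the abelianization
  let φ : G →* Multiplicative (M ⧸ N) :=
    { toFun := fun h => Multiplicative.ofAdd (Submodule.Quotient.mk (D h))
      map_one' := by rw [hD1]; rfl
      map_mul' := fun a b => by
        rw [← ofAdd_add, ← Submodule.Quotient.mk_add]
        congr 1
        rw [Submodule.Quotient.eq, hD]
        have : (e (Abelianization.of b) - 1) • D a ∈ N := Submodule.subset_span ⟨(_, a), rfl⟩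
        convert this using 1
        rw [sub_smul, one_smul]
        abel }
  let Φ : Abelianization G →* Multiplicative (M ⧸ N) := Abelianization.lift φ
  have hΦ : ∀ h, Φ (Abelianization.of h) = Multiplicative.ofAdd (Submodule.Quotient.mk (D h)) :=
    fun h => Abelianization.lift_apply_of φ h
  obtain ⟨J, iJ, n, hn, ⟨ψ⟩⟩ :=
    CommGroup.equiv_prod_multiplicative_zmod_of_finite (Abelianization G)
  have hn0 : ∀ j, NeZero (n j) := fun j => ⟨by have := hn j; omega⟩
  let b : J → Abelianization G := fun j => ψ.symm (Pi.mulSingle j (Multiplicative.ofAdd 1))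
  have hbpow : ∀ j (k : ℕ), b j ^ k = ψ.symm (Pi.mulSingle j (Multiplicative.ofAdd (k : ZMod (n j)))) := by
    intro j k
    change (ψ.symm _) ^ k = _
    rw [← map_pow, ← Pi.mulSingle_pow, ← ofAdd_nsmul, nsmul_one]
  have hdec : ∀ a : Abelianization G, a = ∏ j, b j ^ ((ψ a j).toAdd.val) := by
    intro a
    haveI := hn0
    simp only [hbpow]
    rw [← map_prod, ← ψ.symm_apply_apply a]
    congr 1
    rw [MulEquiv.apply_symm_apply]
    conv_lhs => rw [← Finset.univ_prod_mulSingle (ψ a)]
    refine Finset.prod_congr rfl fun j _ => ?_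
    rw [ZMod.natCast_zmod_val, ofAdd_toAdd]
  choose x hx using fun j => QuotientGroup.mk_surjective (s := commutator G) (b j)
  have hx' : ∀ j, Abelianization.of (x j) = b j := hx
  -- the relations
  have hrow1 : ∀ j, (n j : MonoidAlgebra ℤ (Abelianization G)) • D (x j) ∈ N := by
    intro j
    have h0 : b j ^ n j = 1 := by
      rw [hbpow, ZMod.natCast_self, ofAdd_zero, Pi.mulSingle_one, map_one]
    have h1 := congrArg Φ h0
    rw [map_pow, map_one, ← hx', hΦ] at h1
    rw [← Submodule.Quotient.mk_eq_zero, Nat.cast_smul_eq_nsmul, Submodule.Quotient.mk_smul]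
    exact h1
  have hrow2 : ∀ h : G, D h - ∑ j, (((ψ (Abelianization.of h) j).toAdd.val : ℕ) :
      MonoidAlgebra ℤ (Abelianization G)) • D (x j) ∈ N := by
    intro h
    have h1 := congrArg Φ (hdec (Abelianization.of h))
    rw [hΦ, map_prod] at h1
    simp only [map_pow, ← hx', hΦ] at h1
    rw [← Submodule.Quotient.mk_eq_zero, ← Submodule.mkQ_apply, map_sub, sub_eq_zero, map_sum]
    simp only [Submodule.mkQ_apply, Nat.cast_smul_eq_nsmul, Submodule.Quotient.mk_smul]
    apply Multiplicative.ofAdd.injective
    rw [h1, ofAdd_sum]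
    rfl
  choose r hr hrsum using fun j => hN _ (hrow1 j)
  choose s hs hssum using fun h => hN _ (hrow2 h)
  let B : Matrix (J ⊕ G) (J ⊕ G) (MonoidAlgebra ℤ (Abelianization G)) :=
    Matrix.fromBlocks (Matrix.diagonal fun j => (n j : MonoidAlgebra ℤ (Abelianization G)))
      (Matrix.of fun j h => -r j h)
      (Matrix.of fun h j => -(((ψ (Abelianization.of h) j).toAdd.val : ℕ) : MonoidAlgebra ℤ (Abelianization G)))
      (1 - Matrix.of s)
  have hB : ∀ i, ∑ k, B i k • Sum.elim (fun j => D (x j)) D k = 0 := by
    rintro (j | h) <;> rw [Fintype.sum_sum_type]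
    · simp only [B, Matrix.fromBlocks_apply₁₁, Matrix.fromBlocks_apply₁₂, Matrix.of_apply,
        Sum.elim_inl, Sum.elim_inr, neg_smul, Finset.sum_neg_distrib, ← hrsum]
      rw [Finset.sum_eq_single j, Matrix.diagonal_apply_eq, add_neg_cancel]
      · intro k _ hk; rw [Matrix.diagonal_apply_ne _ (Ne.symm hk), zero_smul]
      · exact fun hh => absurd (Finset.mem_univ j) hh
    · simp only [B, Matrix.fromBlocks_apply₂₁, Matrix.fromBlocks_apply₂₂, Matrix.of_apply,
        Matrix.sub_apply, Sum.elim_inl, Sum.elim_inr, neg_smul, Finset.sum_neg_distrib, sub_smul,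
        Finset.sum_sub_distrib, ← hssum]
      rw [Finset.sum_eq_single h, Matrix.one_apply_eq, one_smul]
      · abel
      · intro k _ hk; rw [Matrix.one_apply_ne (Ne.symm hk), zero_smul]
      · exact fun hh => absurd (Finset.mem_univ h) hh
  set δ := B.det with hδ
  have hδ0 : ∀ h, δ • D h = 0 := fun h => det_smul_eq_zero B _ hB (Sum.inr h)
  have haugδ : aug δ = (Fintype.card (Abelianization G) : ℤ) := by
    have hmap : aug.mapMatrix B = Matrix.fromBlocks (Matrix.diagonal fun j => (n j : ℤ)) 0
        (Matrix.of fun h j => -(((ψ (Abelianization.of h) j).toAdd.val : ℕ) : ℤ)) 1 := by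
      ext i k
      rcases i with i | i <;> rcases k with k | k
      · by_cases hik : i = k <;> simp [B, hik]
      · simp [B, hr]
      · simp [B, -ZMod.natCast_val]
      · by_cases hik : i = k <;> simp [B, hik, hs]
    rw [hδ, RingHom.map_det, hmap, Matrix.det_fromBlocks_zero₁₂, Matrix.det_diagonal,
      Matrix.det_one, mul_one, Fintype.card_congr ψ.toEquiv, Fintype.card_pi, Nat.cast_prod]
    refine Finset.prod_congr rfl fun j _ => ?_
    haveI := hn0 j
    rw [Fintype.card_multiplicative, ZMod.card]
  -- `δ` is a multiple of the norm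
  have hδmul : ∀ a, δ * e a = δ := by
    intro a
    obtain ⟨h, rfl⟩ := QuotientGroup.mk_surjective (s := commutator G) a
    have h1 := congrArg π (hδ0 h)
    rw [map_smul, hπ, map_zero, smul_eq_mul, mul_sub, mul_one, sub_eq_zero] at h1
    exact h1
  have hconst : δ = δ.coeff 1 • ∑ a, e a := by
    apply MonoidAlgebra.coeff_injective
    ext a
    have h1 := congrArg (fun u : MonoidAlgebra ℤ (Abelianization G) => u.coeff a) (hδmul a)
    simp only [e, MonoidAlgebra.of_apply, MonoidAlgebra.coeff_mul_single_apply, mul_inv_cancel,
      mul_one] at h1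
    rw [MonoidAlgebra.coeff_smul, Finsupp.smul_apply, MonoidAlgebra.coeff_sum, Finsupp.finsetSum_apply]
    simp [e, MonoidAlgebra.of_apply, Finsupp.single_apply, ← h1]
  have hc : δ.coeff 1 = 1 := by
    have h1 := congrArg aug hconst
    rw [haugδ, map_zsmul, map_sum] at h1
    simp only [haug, Finset.sum_const, Finset.card_univ, nsmul_eq_mul, mul_one, smul_eq_mul] at h1
    have h2 : (Fintype.card (Abelianization G) : ℤ) ≠ 0 := by exact_mod_cast Fintype.card_ne_zero
    exact (mul_eq_right₀ h2).1 h1.symm
  have h1 := hδ0 g
  rwa [hconst, hc, one_smul] at h1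

theorem principal_ideal [Fintype (Abelianization G)] (g : G) :
    ∏ a, cocycle g a = 1 := by
  classical
  let F := Abelianization G → Additive (Abelianization (commutator G))
  let shift : Abelianization G →* Module.End ℤ F :=
    { toFun := fun b =>
        { toFun := fun f a => f (b * a)
          map_add' := fun _ _ => rfl
          map_smul' := fun _ _ => rfl }
      map_one' := LinearMap.ext fun f => funext fun a => by
        change f (1 * a) = f a
        rw [one_mul]
      map_mul' := fun b c => LinearMap.ext fun f => funext fun a => by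
        change f (b * c * a) = f (c * (b * a))
        rw [mul_comm b c, mul_assoc] }
  letI : Module (MonoidAlgebra ℤ (Abelianization G)) F :=
    Module.compHom F (MonoidAlgebra.lift ℤ (Module.End ℤ F) (Abelianization G) shift).toRingHom
  have hof : ∀ b (f : F) a, (MonoidAlgebra.of ℤ (Abelianization G) b • f) a = f (b * a) := by
    intro b f a
    change (MonoidAlgebra.lift ℤ (Module.End ℤ F) (Abelianization G) shift
      (MonoidAlgebra.of ℤ _ b)) f a = _
    rw [MonoidAlgebra.lift_of]
    rfl
  let D : G → F × MonoidAlgebra ℤ (Abelianization G) := fun h =>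
    (fun a => Additive.ofMul (cocycle h a),
      MonoidAlgebra.of ℤ (Abelianization G) (Abelianization.of h) - 1)
  have h := norm_smul_eq_zero D (fun u v => ?_) (LinearMap.snd _ _ _) (fun _ => rfl) g
  · have h1 := congrFun (congrArg Prod.fst h) 1
    rw [Prod.smul_fst, Finset.sum_smul, Finset.sum_apply] at h1
    simp only [hof, mul_one] at h1
    exact Additive.ofMul.injective ((ofMul_prod _ _).trans h1)
  · refine Prod.ext (funext fun a => ?_) ?_
    · change _ = (MonoidAlgebra.of ℤ (Abelianization G) (Abelianization.of v) •
        fun a => Additive.ofMul (cocycle u a)) a + _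
      rw [hof, ← ofMul_mul]
      exact congrArg Additive.ofMul (cocycle_mul u v a)
    · change MonoidAlgebra.of ℤ (Abelianization G) (Abelianization.of (u * v)) - 1 =
        MonoidAlgebra.of ℤ (Abelianization G) (Abelianization.of v) *
          (MonoidAlgebra.of ℤ (Abelianization G) (Abelianization.of u) - 1) +
          (MonoidAlgebra.of ℤ (Abelianization G) (Abelianization.of v) - 1)
      rw [map_mul, map_mul, mul_sub, mul_one, mul_comm]
      abel

end PrincipalIdeal


/-- The Principal Ideal Theorem of class field theory in its group-theoretic form: for every finite group `G`, the transfer homomorphism from `G` into the abelianization `G'/G''` of its derived subgroup `G'` is the trivial homomorphism. -/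
theorem result {G : Type*} [Group G] [Finite G] :
    MonoidHom.transfer (Abelianization.of : ↥(commutator G) →* Abelianization ↥(commutator G)) =
      (1 : G →* Abelianization ↥(commutator G)) := by
  letI := Fintype.ofFinite (Abelianization G)
  refine MonoidHom.ext fun g => ?_
  rw [transfer_eq_prod_cocycle]
  exact principal_ideal g

end Cfsg.Agent.S4320
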