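import Cfsg.Statements.S4323
import Cfsg.Agent.Lib.QSquared.Main

set_option autoImplicit false
open Cfsg

namespace Cfsg.Agent.S4323

/-- Let `q` be a prime and `A` a non-cyclic group of order `q²` acting by automorphisms on a finite group `G` of order prime to `q`, such that the fixed-point subgroup `C_G(a)` is abelian for every non-identity `a ∈ A`. Then `G` is solvable. -/
theorem result {A G : Type*} [Group A] [Finite A]
    [Group G] [Finite G] [MulDistribMulAction A G] (q : ℕ) (hq : q.Prime) (hA : Nat.card A = q ^ 2) (hnc : ¬ IsCyclic A)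
    (hcop : ¬ q ∣ Nat.card G) (h : ∀ a : A, a ≠ 1 → IsMulCommutative ↥(FixedPoints.subgroup (Subgroup.zpowers a) G)) :
    Group.IsSolvable G := by
  classical
  haveI := Fact.mk hq
  let φ : A →* MulAut G := MulDistribMulAction.toMulAut A G
  haveI : Finite (SemidirectProduct G A φ) := Finite.of_equiv _ SemidirectProduct.equivProd.symm
  let iG : G →* SemidirectProduct G A φ := SemidirectProduct.inl
  let iA : A →* SemidirectProduct G A φ := SemidirectProduct.inr
  have hiG : Function.Injective iG := SemidirectProduct.inl_injective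
  have hiA : Function.Injective iA := SemidirectProduct.inr_injective
  have hcomm : ∀ x y : A, x * y = y * x :=
    fun x y => ((IsPGroup.isMulCommutative_of_card_eq_prime_sq hA).is_comm.comm x y)
  have hexp : ∀ x : A, x ^ q = 1 := by
    intro x
    have hd : orderOf x ∣ q ^ 2 := hA ▸ orderOf_dvd_natCard x
    obtain ⟨k, hk, hxk⟩ := (Nat.dvd_prime_pow hq).1 hd
    have hk2 : k ≠ 2 := fun e => hnc (isCyclic_of_orderOf_eq_card x (by rw [hxk, e, hA]))
    apply orderOf_dvd_iff_pow_eq_one.1
    rw [hxk]
    conv_rhs => rw [← pow_one q]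
    exact pow_dvd_pow q (by omega)
  have hsol : Group.IsSolvable iG.range := by
    refine CfsgLib.QSq.isSolvable_aux (Nat.card iG.range) (q := q) (A := iA.range) rfl hq ⟨?_, ?_⟩
      ?_ ?_ ?_ ?_
    · refine ⟨⟨?_⟩⟩
      rintro ⟨_, a, rfl⟩ ⟨_, b, rfl⟩
      exact Subtype.ext (by rw [Subgroup.coe_mul, Subgroup.coe_mul, ← map_mul, ← map_mul, hcomm])
    · rintro _ ⟨a, rfl⟩
      rw [← map_pow, hexp, map_one]
    · rw [← hA]
      exact (Nat.card_congr (MonoidHom.ofInjective hiA).toEquiv).symm
    · refine Subgroup.le_normalizer_iff.2 ?_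
      rintro _ ⟨a, rfl⟩ _ ⟨g, rfl⟩
      exact ⟨φ a g, by rw [← map_inv]; exact SemidirectProduct.inl_aut a g⟩
    · rw [← Nat.card_congr (MonoidHom.ofInjective hiG).toEquiv]
      exact hcop
    · rintro _ ⟨a, rfl⟩ ha1 _ ⟨x, rfl⟩ _ ⟨y, rfl⟩ hax hay
      have key : ∀ g : G, Commute (iA a) (iG g) →
          g ∈ FixedPoints.subgroup (Subgroup.zpowers a) G := by
        intro g hg
        have hfix : φ a g = g := hiG (by
          rw [show iG (φ a g) = iA a * iG g * iA a⁻¹ from SemidirectProduct.inl_aut a g, hg.eq,
            map_inv, mul_inv_cancel_right])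
        rw [FixedPoints.mem_subgroup]
        rintro ⟨b, hb⟩
        show b • g = g
        have hst : a ∈ MulAction.stabilizer A g := hfix
        exact (Subgroup.zpowers_le.2 hst) hb
      haveI := h a fun e => ha1 (by rw [e, map_one])
      have hxy : x * y = y * x := congrArg Subtype.val
        ((IsMulCommutative.is_comm (M := ↥(FixedPoints.subgroup (Subgroup.zpowers a) G))).comm
          ⟨x, key x hax⟩ ⟨y, key y hay⟩)
      exact (show Commute x y from hxy).map iG
  exact Group.isSolvable_of_isSolvable_injective (f := (MonoidHom.ofInjective hiG).toMonoidHom)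
    (MonoidHom.ofInjective hiG).injective

end Cfsg.Agent.S4323
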