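import Cfsg.Statements.S4325
import Cfsg.Agent.Lib.Structure.SwapGenerated

set_option autoImplicit false
open Cfsg
open scoped Pointwise
set_option linter.style.haveILetI false

namespace Cfsg.Agent.S4325

/-- Let r be a prime and m a natural number with m + 1 < r, and let π be a set of primes containing every prime below r but not r itself. Then in the symmetric group of degree r any m transpositions generate a π-subgroup, while O_π of the symmetric group is trivial. (So no bound on the number of conjugates that works for all π exists in the π-radical analogue of the Baer–Suzuki Theorem.) -/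
theorem result (r m : ℕ) (hr : r.Prime)
    (hm : m + 1 < r) (π : Set ℕ) (hπ : ∀ q : ℕ, q.Prime → q < r → q ∈ π) (hrπ : r ∉ π)
    (t : Fin m → Equiv.Perm (Fin r)) (ht : ∀ i, (t i).IsSwap) :
    Cfsg.IsPiSubgroup π (Subgroup.closure (Set.range t)) ∧ Cfsg.piCore π (Equiv.Perm (Fin r)) = ⊥ := by
  classical
  haveI := Fact.mk hr
  have hle : ∀ q : ℕ, q.Prime → q ∣ Nat.card (Equiv.Perm (Fin r)) → q ≠ r → q ∈ π := by
    intro q hq hd hne
    rw [Nat.card_eq_fintype_card, Fintype.card_perm, Fintype.card_fin, hq.dvd_factorial] at hd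
    exact hπ q hq (lt_of_le_of_ne hd hne)
  constructor
  · intro q hq hd
    refine hle q hq (hd.trans (Subgroup.card_subgroup_dvd_card _)) fun hqr => ?_
    subst hqr
    obtain ⟨g, hg⟩ := exists_prime_orderOf_dvd_card' q hd
    have ho : orderOf (g : Equiv.Perm (Fin q)) = q := by rw [Subgroup.orderOf_coe, hg]
    have hcyc : (g : Equiv.Perm (Fin q)).IsCycle :=
      Equiv.Perm.isCycle_of_prime_order'' (by rwa [Fintype.card_fin]) (by rw [ho, Fintype.card_fin])
    have hsupp : (g : Equiv.Perm (Fin q)).support = Finset.univ := by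
      apply Finset.eq_univ_of_card
      rw [← hcyc.orderOf, ho, Fintype.card_fin]
    obtain ⟨A, ha, hAc, hinv⟩ :=
      CfsgLib.SwapGenerated.exists_invariant_finset t ht ⟨0, hr.pos⟩
    have hall : A = Finset.univ := by
      refine Finset.eq_univ_iff_forall.2 fun x => ?_
      have hmoved : ∀ y, (g : Equiv.Perm (Fin q)) y ≠ y := fun y =>
        Equiv.Perm.mem_support.1 (hsupp ▸ Finset.mem_univ y)
      obtain ⟨i, hi⟩ := hcyc.exists_zpow_eq (hmoved ⟨0, hr.pos⟩) (hmoved x)
      have := (hinv _ ((Subgroup.closure (Set.range t)).zpow_mem g.2 i) ⟨0, hr.pos⟩).2 ha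
      rwa [hi] at this
    rw [hall, Finset.card_univ, Fintype.card_fin] at hAc
    omega
  · rw [Cfsg.piCore, sSup_eq_bot]
    rintro N ⟨hN, hNπ⟩
    by_contra hne
    haveI : Nonempty (Fin r) := ⟨⟨0, hr.pos⟩⟩
    haveI := hN
    have := CfsgLib.SwapGenerated.card_dvd_card N hne
    rw [Fintype.card_fin] at this
    exact hrπ (hNπ r hr this)

end Cfsg.Agent.S4325
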