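import Cfsg.Statements.S4326
-- import your own Cfsg.Agent.* helpers here

set_option autoImplicit false
open Pointwise
open Cfsg
open scoped Pointwise
set_option linter.style.haveILetI false

namespace Cfsg.Agent.S4326

/-- Let G be a finite group, p a prime, x an automorphism of G of p-power order and M the subgroup of fixed points of x. Suppose that p divides the index of M and that either M is self-normalizing or M has trivial center. Then some conjugate of M is mapped onto itself by x but is not fixed elementwise by x. -/
theorem result {G : Type*} [Group G] [Finite G]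
    (p : ℕ) [Fact p.Prime] (x : MulAut G) (hx : ∃ k : ℕ, orderOf x = p ^ k) (M : Subgroup G)
    (hM : ∀ g : G, g ∈ M ↔ x g = g) (hp : p ∣ M.index)
    (hself : Subgroup.normalizer (M : Set G) = M ∨ Subgroup.center M = ⊥) :
    ∃ g : G, (∀ y ∈ MulAut.conj g • M, x y ∈ MulAut.conj g • M) ∧ ∃ y ∈ MulAut.conj g • M, x y ≠ y := by
  obtain ⟨k, hk⟩ := hx
  have hfix : ∀ y ∈ M, x y = y := fun y hy => (hM y).1 hy
  have hX : IsPGroup p (Subgroup.zpowers x) := IsPGroup.of_card (by rw [Nat.card_zpowers, hk])
  set N := Subgroup.normalizer (M : Set G) with hN
  by_cases hpN : p ∣ N.index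
  · -- `x` fixes a second coset of the normalizer
    have hconj : ∀ g : G, ∀ y : G, y ∈ MulAut.conj g • M ↔ g⁻¹ * y * g ∈ M := by
      intro g y
      rw [Subgroup.mem_pointwise_smul_iff_inv_smul_mem]
      change (MulAut.conj g)⁻¹ y ∈ M ↔ _
      rw [MulAut.conj_inv_apply]
    have hNmem : ∀ g : G, g ∈ N ↔ ∀ y, y ∈ M ↔ g * y * g⁻¹ ∈ M := fun g => Subgroup.mem_normalizer_iff
    have hxN : ∀ g ∈ N, x g ∈ N := by
      intro g hg
      rw [hNmem] at hg ⊢
      intro y
      constructor
      · intro hy
        have := (hg y).1 hy
        rwa [← hfix _ this, map_mul, map_mul, map_inv, hfix y hy] at this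
      · intro hy
        have h1 := hfix _ hy
        have h2 : g * x⁻¹ y * g⁻¹ ∈ M := by
          have h3 : x⁻¹ (x g * y * (x g)⁻¹) ∈ M := by
            have h4 : x⁻¹ (x g * y * (x g)⁻¹) = x g * y * (x g)⁻¹ := by
              have h5 := congrArg (x⁻¹ : MulAut G) h1
              rw [MulAut.inv_apply_self] at h5
              exact h5.symm
            rwa [h4]
          rwa [map_mul, map_mul, map_inv, MulAut.inv_apply_self] at h3
        have h6 := (hg _).2 h2
        have h7 := hfix _ h6
        rw [MulAut.apply_inv_self] at h7
        rwa [← h7] at h6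
    let act : MulAction (Subgroup.zpowers x) (G ⧸ N) :=
      { smul := fun a q => Quotient.liftOn' q (fun g => ((a : MulAut G) g : G ⧸ N)) (by
          intro g h hgh
          rw [QuotientGroup.leftRel_apply] at hgh
          apply QuotientGroup.eq.2
          rw [← map_inv, ← map_mul]
          have key : ∀ m ∈ N, ∀ b ∈ Subgroup.zpowers x, b m ∈ N := by
            intro m hm b hb
            obtain ⟨n, rfl⟩ := (Submonoid.mem_powers_iff _ _).1
              (mem_powers_iff_mem_zpowers.2 hb)
            induction n with
            | zero => simpa using hm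
            | succ n ih => rw [pow_succ', MulAut.mul_apply]; exact hxN _ (ih (Subgroup.npow_mem_zpowers x n))
          exact key _ hgh _ a.2)
        one_smul := fun q => QuotientGroup.induction_on q (fun g => rfl)
        mul_smul := fun a b q => QuotientGroup.induction_on q (fun g => rfl) }
    have hxmk : ∀ g : G, (⟨x, Subgroup.mem_zpowers x⟩ : Subgroup.zpowers x) • (g : G ⧸ N) = (x g : G) :=
      fun g => rfl
    have hone : ((1 : G) : G ⧸ N) ∈ MulAction.fixedPoints (Subgroup.zpowers x) (G ⧸ N) := by
      intro a
      change (((a : MulAut G) 1 : G) : G ⧸ N) = _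
      rw [map_one]
    obtain ⟨q, hq, hne⟩ := hX.exists_fixed_point_of_prime_dvd_card_of_fixed_point (α := G ⧸ N) hpN hone
    obtain ⟨g, rfl⟩ := QuotientGroup.mk_surjective q
    have hxg : g⁻¹ * x g ∈ N := by
      have := hq ⟨x, Subgroup.mem_zpowers x⟩
      rw [hxmk] at this
      exact QuotientGroup.eq.1 this.symm
    have hgN : g ∉ N := fun h => hne (QuotientGroup.eq.2 (by simpa using h))
    refine ⟨g, ?_, ?_⟩
    · intro y hy
      rw [hconj] at hy ⊢
      have h1 := hfix _ hy
      rw [map_mul, map_mul, map_inv] at h1
      have h2 : g⁻¹ * x g * ((x g)⁻¹ * x y * x g) * (g⁻¹ * x g)⁻¹ ∈ M :=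
        ((hNmem _).1 hxg _).1 (by rwa [h1])
      simpa [mul_assoc] using h2
    · by_contra hcon
      push Not at hcon
      apply hgN
      have hle : MulAut.conj g • M ≤ M := fun y hy => (hM y).2 (hcon y hy)
      have heq : MulAut.conj g • M = M := by
        refine Subgroup.eq_of_le_of_card_ge hle (le_of_eq ?_)
        exact Nat.card_congr (Subgroup.equivSMul (MulAut.conj g) M).toEquiv
      rw [hN, hNmem]
      intro y
      constructor
      · intro hy
        have := Subgroup.smul_mem_pointwise_smul y (MulAut.conj g) M hy
        rw [heq] at this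
        exact this
      · intro hy
        rw [← heq, hconj] at hy
        simpa [mul_assoc] using hy
  · exfalso
    rcases hself with h | h
    · exact hpN (h.symm ▸ hp)
    · -- `x` fixes no nontrivial coset of `M` in its normalizer
      have hxN : ∀ g ∈ N, g⁻¹ * x g ∈ Subgroup.centralizer (M : Set G) := by
        intro g hg
        rw [Subgroup.mem_centralizer_iff]
        intro m hm
        have h1 : g * m * g⁻¹ ∈ M := (Subgroup.mem_normalizer_iff.1 hg m).1 hm
        have h2 := hfix _ h1
        rw [map_mul, map_mul, map_inv, hfix m hm] at h2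
        calc m * (g⁻¹ * x g) = g⁻¹ * (g * m * g⁻¹) * x g := by group
          _ = g⁻¹ * (x g * m * (x g)⁻¹) * x g := by rw [h2]
          _ = g⁻¹ * x g * m := by group
      have hMN : M ≤ N := Subgroup.le_normalizer
      have hxN' : ∀ g ∈ N, x g ∈ N := by
        intro g hg
        have h1 : g⁻¹ * x g ∈ N := by
          rw [hN, Subgroup.mem_normalizer_iff]
          intro m
          have hc := Subgroup.mem_centralizer_iff.1 (hxN g hg)
          constructor
          · intro hm
            have := hc m hm
            rwa [← this, mul_inv_cancel_right]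
          · intro hm
            have := hc _ hm
            have e : m = g⁻¹ * x g * m * (g⁻¹ * x g)⁻¹ := by
              have h3 : g⁻¹ * x g * m * (g⁻¹ * x g)⁻¹ * (g⁻¹ * x g) = g⁻¹ * x g * m := by group
              rw [this] at h3
              exact (mul_left_cancel h3).symm
            rwa [← e] at hm
        simpa using N.mul_mem hg h1
      let act : MulAction (Subgroup.zpowers x) (N ⧸ M.subgroupOf N) :=
        { smul := fun a q => Quotient.liftOn' q (fun g => ((⟨(a : MulAut G) g, by
              have key : ∀ b ∈ Subgroup.zpowers x, ∀ m ∈ N, b m ∈ N := by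
                intro b hb
                obtain ⟨n, rfl⟩ := (Submonoid.mem_powers_iff _ _).1 (mem_powers_iff_mem_zpowers.2 hb)
                induction n with
                | zero => intro m hm; simpa using hm
                | succ n ih =>
                  intro m hm
                  rw [pow_succ', MulAut.mul_apply]
                  exact hxN' _ (ih (Subgroup.npow_mem_zpowers x n) m hm)
              exact key _ a.2 _ g.2⟩ : N) : N ⧸ M.subgroupOf N)) (by
            intro g h hgh
            rw [QuotientGroup.leftRel_apply] at hgh
            apply QuotientGroup.eq.2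
            rw [Subgroup.mem_subgroupOf] at hgh ⊢
            simp only [Subgroup.coe_mul, Subgroup.coe_inv] at hgh ⊢
            rw [← map_inv, ← map_mul]
            have key : ∀ b ∈ Subgroup.zpowers x, ∀ m ∈ M, b m ∈ M := by
              intro b hb
              obtain ⟨n, rfl⟩ := (Submonoid.mem_powers_iff _ _).1 (mem_powers_iff_mem_zpowers.2 hb)
              induction n with
              | zero => intro m hm; simpa using hm
              | succ n ih =>
                intro m hm
                have h5 := ih (Subgroup.npow_mem_zpowers x n) m hm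
                rw [pow_succ', MulAut.mul_apply, hfix _ h5]
                exact h5
            exact key _ a.2 _ hgh)
          one_smul := fun q => QuotientGroup.induction_on q (fun g => rfl)
          mul_smul := fun a b q => QuotientGroup.induction_on q (fun g => rfl) }
      have hone : ((1 : N) : N ⧸ M.subgroupOf N) ∈
          MulAction.fixedPoints (Subgroup.zpowers x) (N ⧸ M.subgroupOf N) := by
        intro a
        apply QuotientGroup.eq.2
        rw [Subgroup.mem_subgroupOf]
        simp
      have hdiv : p ∣ Nat.card (N ⧸ M.subgroupOf N) := by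
        rw [← Subgroup.index_eq_card]
        have := Subgroup.relIndex_mul_index hMN
        have hp' := hp
        rw [← this] at hp'
        exact ((Fact.out : p.Prime).dvd_mul.1 hp').resolve_right hpN
      obtain ⟨q, hq, hne⟩ := hX.exists_fixed_point_of_prime_dvd_card_of_fixed_point (α := N ⧸ M.subgroupOf N) hdiv hone
      obtain ⟨g, rfl⟩ := QuotientGroup.mk_surjective q
      apply hne
      apply QuotientGroup.eq.2
      rw [Subgroup.mem_subgroupOf]
      suffices x (g : G) = g by simpa using (hM _).2 this
      have h1 : (g : G)⁻¹ * x g ∈ M := by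
        have := QuotientGroup.eq.1 (hq ⟨x, Subgroup.mem_zpowers x⟩).symm
        rw [Subgroup.mem_subgroupOf] at this
        exact this
      have h2 : (⟨_, h1⟩ : M) ∈ Subgroup.center M := by
        rw [Subgroup.mem_center_iff]
        intro m
        exact Subtype.ext (Subgroup.mem_centralizer_iff.1 (hxN _ g.2) m m.2)
      rw [h, Subgroup.mem_bot, Subtype.ext_iff] at h2
      exact (inv_mul_eq_one.1 h2).symm

end Cfsg.Agent.S4326
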