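import Cfsg.Statements.S4331
import Cfsg.Agent.Lib.Structure.NilpotentSubnormal

set_option autoImplicit false
open Cfsg

namespace Cfsg.Agent.S4331

open SemidirectProduct

/-- The plane over the field with three elements. -/
abbrev V := ZMod 3 × ZMod 3

/-- A square root of `-1`. -/
def rot (v : V) : V := (-v.2, v.1)

/-- The map with first column `u` and second column `± rot u`. -/
def semiLin (u : V) (b : Bool) (x : V) : V :=
  (x.1 * u.1 + x.2 * (if b then rot u else -rot u).1, x.1 * u.2 + x.2 * (if b then rot u else -rot u).2)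

/-- An automorphism of the plane, applied additively. -/
def ap (φ : MulAut (Multiplicative V)) (v : V) : V := (φ (Multiplicative.ofAdd v)).toAdd

lemma ap_mul (φ ψ : MulAut (Multiplicative V)) (v : V) : ap (φ * ψ) v = ap φ (ap ψ v) := rfl

lemma ap_add (φ : MulAut (Multiplicative V)) (v w : V) : ap φ (v + w) = ap φ v + ap φ w := by
  simp [ap]

lemma ap_neg (φ : MulAut (Multiplicative V)) (v : V) : ap φ (-v) = -ap φ v := by
  simp [ap]

lemma ap_zero (φ : MulAut (Multiplicative V)) : ap φ 0 = 0 := by
  simp [ap]

lemma ap_nsmul (φ : MulAut (Multiplicative V)) (n : ℕ) (v : V) : ap φ (n • v) = n • ap φ v := by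
  induction n with
  | zero => rw [zero_nsmul, zero_nsmul, ap_zero]
  | succ n ih => rw [succ_nsmul, succ_nsmul, ap_add, ih]

lemma ap_injective (φ : MulAut (Multiplicative V)) : Function.Injective (ap φ) := fun _ _ h =>
  Multiplicative.ofAdd.injective (φ.injective (Multiplicative.toAdd.injective h))

lemma ap_inv (φ : MulAut (Multiplicative V)) (v : V) : ap φ (ap φ⁻¹ v) = v := by
  rw [← ap_mul, mul_inv_cancel]; rfl

/-- The semilinear maps: they commute or anticommute with `rot`. -/
def semiLinear : Subgroup (MulAut (Multiplicative V)) where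
  carrier := {φ | (∀ v, ap φ (rot v) = rot (ap φ v)) ∨ ∀ v, ap φ (rot v) = -rot (ap φ v)}
  one_mem' := Or.inl fun _ => rfl
  mul_mem' := by
    intro φ ψ hφ hψ
    rcases hψ with h' | h' <;> rcases hφ with h | h
    · exact Or.inl fun v => by rw [ap_mul, ap_mul, h', h]
    · exact Or.inr fun v => by rw [ap_mul, ap_mul, h', h]
    · exact Or.inr fun v => by rw [ap_mul, ap_mul, h', ap_neg, h]
    · exact Or.inl fun v => by rw [ap_mul, ap_mul, h', ap_neg, h, neg_neg]
  inv_mem' := by
    intro φ h
    rcases h with h | h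
    · exact Or.inl fun v => ap_injective φ (by rw [ap_inv, h, ap_inv])
    · exact Or.inr fun v => ap_injective φ (by rw [ap_inv, ap_neg, h, neg_neg, ap_inv])

lemma exists_semiLin (φ : semiLinear) : ∃ u b, u ≠ 0 ∧ ∀ x, ap φ.1 x = semiLin u b x := by
  have hdec : ∀ x : V, x = x.1.val • ((1, 0) : V) + x.2.val • ((0, 1) : V) := by decide
  have hrot : rot (1, 0) = (0, 1) := by decide
  have hne : ap φ.1 (1, 0) ≠ 0 := fun e => by
    rw [← ap_zero φ.1] at e
    exact absurd (ap_injective φ.1 e) (by decide)
  have key : ∀ (u : V) (a c : ZMod 3), a.val • u + c.val • rot u = semiLin u true (a, c) ∧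
      a.val • u + c.val • (-rot u) = semiLin u false (a, c) := by decide
  rcases φ.2 with h | h
  · refine ⟨_, true, hne, fun x => ?_⟩
    conv_lhs => rw [hdec x]
    rw [ap_add, ap_nsmul, ap_nsmul, ← hrot, h, (key _ _ _).1]
  · refine ⟨_, false, hne, fun x => ?_⟩
    conv_lhs => rw [hdec x]
    rw [ap_add, ap_nsmul, ap_nsmul, ← hrot, h, (key _ _ _).2]

lemma semiLin_iterate : ∀ (u : V) (b : Bool) (x : V), u ≠ 0 → (semiLin u b)^[8] x = x := by decide

lemma isPGroup_semiLinear : IsPGroup 2 semiLinear := by
  intro φ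
  obtain ⟨u, b, hu, hφ⟩ := exists_semiLin φ
  refine ⟨3, Subtype.ext (MulEquiv.ext fun x => Multiplicative.toAdd.injective ?_)⟩
  have : ∀ (n : ℕ) (v : V), ap (φ.1 ^ n) v = (semiLin u b)^[n] v := by
    intro n v
    induction n with
    | zero => rfl
    | succ n ih => rw [pow_succ', Function.iterate_succ_apply', ← ih, ap_mul, hφ]
  show ap (φ.1 ^ (2 ^ 3)) x.toAdd = x.toAdd
  rw [this, show 2 ^ 3 = 8 from rfl, semiLin_iterate u b x.toAdd hu]

/-- The affine semilinear group of the field with nine elements, of order 144. -/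
abbrev AGamL := SemidirectProduct (Multiplicative V) semiLinear semiLinear.subtype

/-- An automorphism from a table. -/
def mkAut (f g : V → V) (h1 : ∀ x, g (f x) = x) (h2 : ∀ x, f (g x) = x)
    (h3 : ∀ x y, f (x + y) = f x + f y) : MulAut (Multiplicative V) where
  toFun x := Multiplicative.ofAdd (f x.toAdd)
  invFun x := Multiplicative.ofAdd (g x.toAdd)
  left_inv x := congrArg Multiplicative.ofAdd (h1 x.toAdd)
  right_inv x := congrArg Multiplicative.ofAdd (h2 x.toAdd)
  map_mul' x y := congrArg Multiplicative.ofAdd (h3 x.toAdd y.toAdd)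

/-- The reflection. -/
def refl0 : semiLinear :=
  ⟨mkAut (semiLin (1, 0) false) (semiLin (1, 0) false) (by decide) (by decide) (by decide), Or.inr (by decide)⟩

/-- A rotation of order eight. -/
def rot0 : semiLinear :=
  ⟨mkAut (semiLin (1, 1) true) ((semiLin (1, 1) true)^[7]) (by decide) (by decide) (by decide), Or.inl (by decide)⟩

lemma rot0_pow_apply (j : ℕ) (x : V) : ap (rot0 ^ j).1 x = (semiLin (1, 1) true)^[j] x := by
  induction j with
  | zero => rfl
  | succ j ih => rw [pow_succ', Function.iterate_succ_apply', ← ih]; rfl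

lemma key : ∀ (v u : V) (b : Bool), u ≠ 0 →
    (∃ w, w + v - semiLin u b w = 0) ∨
    ∃ w, ∃ j : Fin 8, semiLin (1, 0) false ((semiLin (1, 1) true)^[j] (w + v - semiLin u b w)) =
        (semiLin (1, 1) true)^[j] (w + v - semiLin u b w) ∧
      ∀ x y, (semiLin (1, 1) true)^[j] y = semiLin (1, 0) false ((semiLin (1, 1) true)^[j] x) →
        (semiLin (1, 1) true)^[j] (semiLin u b y) =
          semiLin (1, 0) false ((semiLin (1, 1) true)^[j] (semiLin u b x)) := by decide +kernel


/-- There is a finite solvable group G with a subgroup A of order 2 such that every conjugacy class of G contains an element g for which A is subnormal in the subgroup generated by A and g, and yet A is not contained in O_2(G). (So the corresponding criteria for odd primes fail at the prime 2, even for solvable groups.) -/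
theorem result :
    ∃ (G : Type) (_ : Group G) (_ : Finite G) (A : Subgroup G), Group.IsSolvable G ∧ Nat.card A = 2 ∧
      (∀ c : G, ∃ g : G, IsConj c g ∧ (A.subgroupOf (A ⊔ Subgroup.zpowers g)).IsSubnormal) ∧
      ¬ A ≤ Cfsg.pCore 2 G := by
  haveI : Fact (Nat.Prime 2) := ⟨Nat.prime_two⟩
  haveI : Finite (MulAut (Multiplicative V)) := Finite.of_injective _ DFunLike.coe_injective
  haveI : Finite AGamL := Finite.of_equiv (Multiplicative V × semiLinear) SemidirectProduct.equivProd.symm
  set t : AGamL := inr refl0 with ht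
  have ha2 : refl0 * refl0 = 1 := Subtype.ext (MulEquiv.ext fun x => congrArg Multiplicative.ofAdd
    ((by decide : ∀ x : V, semiLin (1, 0) false (semiLin (1, 0) false x) = x) x.toAdd))
  have ht2 : orderOf t = 2 := by
    refine orderOf_eq_prime (by rw [pow_two, ht, ← map_mul, ha2, map_one]) fun e => ?_
    have : refl0 = 1 := by simpa [ht] using congrArg SemidirectProduct.right e
    have := congrArg (fun φ : semiLinear => ap φ.1 ((0 : ZMod 3), (1 : ZMod 3))) this
    revert this
    decide
  haveI : Group.IsNilpotent semiLinear := isPGroup_semiLinear.isNilpotent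
  refine ⟨AGamL, inferInstance, inferInstance, Subgroup.zpowers t, ?_, by rw [Nat.card_zpowers, ht2], fun g => ?_, ?_⟩
  · exact solvable_of_ker_le_range (SemidirectProduct.inl : Multiplicative V →* AGamL) SemidirectProduct.rightHom
      (by rw [SemidirectProduct.range_inl_eq_ker_rightHom])
  · obtain ⟨u, b, hu, hh⟩ := exists_semiLin g.right
    have hconj : ∀ w : V, IsConj g (⟨Multiplicative.ofAdd (w + g.left.toAdd - semiLin u b w), g.right⟩ : AGamL) := by
      intro w
      refine isConj_iff.mpr ⟨inl (Multiplicative.ofAdd w), ?_⟩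
      refine SemidirectProduct.ext ?_ (by simp)
      apply Multiplicative.toAdd.injective
      simp only [SemidirectProduct.mul_left, SemidirectProduct.left_inl, SemidirectProduct.right_inl,
        SemidirectProduct.inv_left, SemidirectProduct.mul_right, map_one, inv_one, one_mul, MulAut.one_apply,
        toAdd_mul, toAdd_ofAdd, map_inv, toAdd_inv]
      show w + g.left.toAdd + -(ap g.right.1 w) = _
      rw [hh, sub_eq_add_neg]
    rcases key g.left.toAdd u b hu with ⟨w, hw⟩ | ⟨w, j, hfix, hcom⟩
    · refine ⟨_, hconj w, ?_⟩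
      have hle : Subgroup.zpowers t ⊔ Subgroup.zpowers (⟨Multiplicative.ofAdd (w + g.left.toAdd - semiLin u b w), g.right⟩ : AGamL)
          ≤ (inr : semiLinear →* AGamL).range := by
        refine sup_le (Subgroup.zpowers_le.mpr ⟨refl0, rfl⟩) (Subgroup.zpowers_le.mpr ⟨g.right, ?_⟩)
        exact SemidirectProduct.ext (by rw [hw]; simp) (by simp)
      have hp : IsPGroup 2 (inr : semiLinear →* AGamL).range := by
        rw [MonoidHom.range_eq_map]; exact (isPGroup_semiLinear.to_subgroup ⊤).map _
      haveI := (hp.to_le hle).isNilpotent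
      exact CfsgLib.Structure.isSubnormal_of_isNilpotent _
    · set k := rot0 ^ (j : ℕ) with hk
      set z := w + g.left.toAdd - semiLin u b w with hz
      refine ⟨inr k * (⟨Multiplicative.ofAdd z, g.right⟩ : AGamL) * (inr k)⁻¹,
        (hconj w).trans (isConj_iff.mpr ⟨inr k, rfl⟩), ?_⟩
      set g' := inr k * (⟨Multiplicative.ofAdd z, g.right⟩ : AGamL) * (inr k)⁻¹ with hg'
      have hkx : ∀ x, ap k.1 x = (semiLin (1, 1) true)^[(j : ℕ)] x := fun x => rot0_pow_apply _ x
      have hcomm : t * g' = g' * t := by
        refine SemidirectProduct.ext ?_ ?_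
        · apply Multiplicative.toAdd.injective
          simp only [hg', ht, SemidirectProduct.mul_left, SemidirectProduct.left_inr, SemidirectProduct.right_inr,
            SemidirectProduct.inv_left, map_one, inv_one, one_mul, mul_one]
          show ap refl0.1 (ap k.1 z) = ap k.1 z
          rw [hkx]
          exact hfix
        · simp only [hg', ht, SemidirectProduct.mul_right, SemidirectProduct.right_inr, SemidirectProduct.inv_right]
          refine Subtype.ext (MulEquiv.ext fun x => Multiplicative.toAdd.injective ?_)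
          show ap refl0.1 (ap k.1 (ap g.right.1 (ap k.1⁻¹ x.toAdd))) =
            ap k.1 (ap g.right.1 (ap k.1⁻¹ (ap refl0.1 x.toAdd)))
          rw [hh, hh, hkx, hkx]
          refine (hcom (ap k.1⁻¹ x.toAdd) (ap k.1⁻¹ (ap refl0.1 x.toAdd)) ?_).symm
          rw [← hkx, ← hkx, ap_inv, ap_inv]
          rfl
      have hnorm : Subgroup.zpowers t ⊔ Subgroup.zpowers g' ≤ Subgroup.normalizer (Subgroup.zpowers t : Set AGamL) := by
        refine sup_le Subgroup.le_normalizer (Subgroup.zpowers_le.mpr ?_)
        refine Subgroup.mem_normalizer_fintype fun y hy => ?_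
        obtain ⟨i, rfl⟩ := Subgroup.mem_zpowers_iff.mp hy
        rw [((show Commute t g' from hcomm).symm.zpow_right i).eq, mul_inv_cancel_right]
        exact ⟨i, rfl⟩
      haveI := Subgroup.normal_subgroupOf_of_le_normalizer hnorm
      exact Subgroup.IsSubnormal.step _ ⊤ le_top .top inferInstance
  · intro hle
    have hmem : t ∈ Cfsg.pCore 2 AGamL := hle (Subgroup.mem_zpowers t)
    have hn : (Cfsg.pCore 2 AGamL).Normal := Cfsg.pCore_normal 2 AGamL
    obtain ⟨P⟩ : Nonempty (Sylow 2 AGamL) := inferInstance
    set c : AGamL := t * inl (Multiplicative.ofAdd ((0 : ZMod 3), (1 : ZMod 3))) * t⁻¹ *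
      (inl (Multiplicative.ofAdd ((0 : ZMod 3), (1 : ZMod 3))))⁻¹ with hc
    have hcP : c ∈ Cfsg.pCore 2 AGamL := by
      rw [hc, mul_assoc, mul_assoc, ← mul_assoc (inl _)]
      exact mul_mem hmem (hn.conj_mem _ (inv_mem hmem) _)
    have hc3 : c = inl (Multiplicative.ofAdd ((0 : ZMod 3), (1 : ZMod 3))) := by
      refine SemidirectProduct.ext ?_ (by simp [hc, ht])
      apply Multiplicative.toAdd.injective
      simp only [hc, ht, SemidirectProduct.mul_left, SemidirectProduct.left_inr, SemidirectProduct.right_inr,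
        SemidirectProduct.inv_left, SemidirectProduct.left_inl, SemidirectProduct.right_inl, map_one, inv_one,
        one_mul, mul_one, SemidirectProduct.mul_right, MulAut.one_apply]
      show ap refl0.1 ((0 : ZMod 3), (1 : ZMod 3)) + -((0 : ZMod 3), (1 : ZMod 3)) = ((0 : ZMod 3), (1 : ZMod 3))
      decide
    have h3 : orderOf c = 3 := by
      rw [hc3, orderOf_injective _ SemidirectProduct.inl_injective, orderOf_ofAdd_eq_addOrderOf]
      exact addOrderOf_eq_prime (hp := ⟨Nat.prime_three⟩) (by decide) (by decide)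
    have hp : IsPGroup 2 (Cfsg.pCore 2 AGamL) := P.2.to_le (sSup_le fun M hM => by
      haveI := hM.1
      exact IsPGroup.le_sylow_of_normal hM.2 P)
    obtain ⟨i, hi⟩ := IsPGroup.iff_orderOf.mp hp ⟨c, hcP⟩
    rw [← Subgroup.orderOf_coe] at hi
    have : 3 ∣ 2 ^ i := ⟨1, by rw [mul_one, ← h3]; exact hi.symm⟩
    exact absurd (Nat.prime_three.dvd_of_dvd_pow this) (by decide)

end Cfsg.Agent.S4331
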