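import Cfsg.Statements.S4332
import Cfsg.Agent.Lib.Structure.SwapGenerated

set_option autoImplicit false
open Pointwise
open Cfsg
open scoped Pointwise
set_option linter.style.haveILetI false

namespace Cfsg.Agent.S4332

private theorem alt_three_comm : ∀ u v : Equiv.Perm (Fin 3),
    Equiv.Perm.sign u = 1 → Equiv.Perm.sign v = 1 → u * v = v * u := by
  decide +kernel

private theorem exists_set (c : Equiv.Perm (Fin 8)) : ∃ T : Finset (Fin 8), T.card = 3 ∧
    ((∀ x, c x ∈ T ↔ x ∈ T) ∨ ∀ x ∈ T, c x ∉ T) := by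
  classical
  have hcard := Finset.card_filter_add_card_filter_not (s := (Finset.univ : Finset (Fin 8))) (fun x => c x = x)
  rw [Finset.card_univ, Fintype.card_fin] at hcard
  by_cases hfix : 3 ≤ (Finset.univ.filter fun x => c x = x).card
  · obtain ⟨T, hT, hT3⟩ := Finset.exists_subset_card_eq hfix
    refine ⟨T, hT3, Or.inl fun x => ?_⟩
    have hid : ∀ y ∈ T, c y = y := fun y hy => (Finset.mem_filter.1 (hT hy)).2
    constructor
    · intro h
      have := c.injective (hid _ h)
      rwa [this] at h
    · intro h; rwa [hid x h]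
  set M := Finset.univ.filter fun x => ¬ c x = x with hM
  have hM6 : 6 ≤ M.card := by omega
  have hMmem : ∀ x, x ∈ M ↔ c x ≠ x := fun x => by simp [hM]
  by_cases h3 : ∃ x ∈ M, c (c (c x)) = x
  · obtain ⟨x, hx, hxxx⟩ := h3
    rw [hMmem] at hx
    have h12 : c x ≠ c (c x) := fun h => hx (c.injective h).symm
    have h20 : c (c x) ≠ x := fun h => by rw [h] at hxxx; exact hx hxxx
    refine ⟨{x, c x, c (c x)}, ?_, Or.inl fun y => ?_⟩
    · rw [Finset.card_insert_of_notMem (by simp [Ne.symm hx, Ne.symm h20]),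
        Finset.card_insert_of_notMem (by simpa using h12), Finset.card_singleton]
    · simp only [Finset.mem_insert, Finset.mem_singleton, c.injective.eq_iff]
      constructor
      · rintro (h | h | h)
        · right; right; exact c.injective (h.trans hxxx.symm)
        · exact Or.inl h
        · exact Or.inr (Or.inl h)
      · rintro (h | h | h)
        · exact Or.inr (Or.inl h)
        · exact Or.inr (Or.inr h)
        · left; rw [h, hxxx]
  push Not at h3
  obtain ⟨x, hx⟩ := Finset.card_pos.1 (show 0 < M.card by omega)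
  have hx' := (hMmem x).1 hx
  -- the second point
  obtain ⟨y, hy, hyx, hycx, hycix, B, hBcard, hB⟩ :
      ∃ y ∈ M, y ≠ x ∧ y ≠ c x ∧ c y ≠ x ∧ ∃ B : Finset (Fin 8), B.card ≤ 5 ∧
        ∀ z : Fin 8, z ∉ B → z ≠ x ∧ z ≠ y ∧ z ≠ c x ∧ z ≠ c y ∧ c z ≠ x ∧ c z ≠ y := by
    by_cases h2 : c (c x) = x
    · have : (M \ {x, c x}).Nonempty := by
        apply Finset.card_pos.1
        have := Finset.le_card_sdiff {x, c x} M
        have := Finset.card_le_two (a := x) (b := c x)
        omega
      obtain ⟨y, hy⟩ := this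
      simp only [Finset.mem_sdiff, Finset.mem_insert, Finset.mem_singleton, not_or] at hy
      refine ⟨y, hy.1, hy.2.1, hy.2.2, fun h => hy.2.2 ?_, {x, c x, y, c y, c.symm y}, ?_, ?_⟩
      · exact c.injective (h.trans h2.symm)
      · exact Finset.card_le_five
      · intro z hz
        simp only [Finset.mem_insert, Finset.mem_singleton, not_or] at hz
        obtain ⟨z1, z2, z3, z4, z5⟩ := hz
        refine ⟨z1, z3, z2, z4, fun h => z2 (c.injective (h.trans h2.symm)), fun h => z5 ?_⟩
        rw [← h, Equiv.symm_apply_apply]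
    · refine ⟨c (c x), ?_, h2, fun h => hx' (c.injective h), h3 x hx,
        {x, c x, c.symm x, c (c x), c (c (c x))}, Finset.card_le_five, ?_⟩
      · rw [hMmem]; exact fun h => hx' (c.injective (c.injective h))
      · intro z hz
        simp only [Finset.mem_insert, Finset.mem_singleton, not_or] at hz
        obtain ⟨z1, z2, z3, z4, z5⟩ := hz
        refine ⟨z1, z4, z2, z5, fun h => z3 ?_, fun h => z2 (c.injective h)⟩
        rw [← h, Equiv.symm_apply_apply]
  have hy' := (hMmem y).1 hy
  have : (M \ B).Nonempty := by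
    apply Finset.card_pos.1
    have := Finset.le_card_sdiff B M
    omega
  obtain ⟨z, hz⟩ := this
  rw [Finset.mem_sdiff, hMmem] at hz
  obtain ⟨hzx, hzy, hzcx, hzcy, hczx, hczy⟩ := hB z hz.2
  refine ⟨{x, y, z}, ?_, Or.inr ?_⟩
  · rw [Finset.card_insert_of_notMem (by simp [Ne.symm hyx, Ne.symm hzx]),
      Finset.card_insert_of_notMem (by simpa using Ne.symm hzy), Finset.card_singleton]
  · simp only [Finset.mem_insert, Finset.mem_singleton]
    rintro w (rfl | rfl | rfl)
    · simp [hx', Ne.symm hycx, Ne.symm hzcx]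
    · simp [hycix, hy', Ne.symm hzcy]
    · simp [hczx, hczy, hz.1]


/-- In the symmetric group of degree 8, let A be the subgroup generated by a 3-cycle. Then every conjugacy class contains an element g for which A is subnormal in the subgroup generated by A and its conjugate by g, although O_3 of the symmetric group of degree 8 is trivial. -/
theorem result
    (σ : Equiv.Perm (Fin 8)) (hσ : σ.IsThreeCycle) :
    (∀ c : Equiv.Perm (Fin 8), ∃ g : Equiv.Perm (Fin 8), IsConj c g ∧
      ((Subgroup.zpowers σ).subgroupOf (Subgroup.zpowers σ ⊔ MulAut.conj g • Subgroup.zpowers σ)).IsSubnormal) ∧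
    Cfsg.pCore 3 (Equiv.Perm (Fin 8)) = ⊥ := by
  classical
  refine ⟨fun c => ?_, ?_⟩
  · -- move a three point set fixed by or disjoint from its `c`-image onto the support of `σ`
    obtain ⟨T, hT3, hT⟩ := exists_set c
    set S := σ.support with hS
    have hS3 : S.card = 3 := hσ.card_support
    let e : {x // x ∈ T} ≃ {x // x ∈ S} := Finset.equivOfCardEq (hT3.trans hS3.symm)
    let u : Equiv.Perm (Fin 8) := e.extendSubtype
    have huT : ∀ x, u x ∈ S ↔ x ∈ T := fun x => by
      constructor
      · intro h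
        by_contra hx
        exact e.extendSubtype_not_mem x hx h
      · exact fun hx => e.extendSubtype_mem x hx
    refine ⟨u * c * u⁻¹, isConj_iff.2 ⟨u, rfl⟩, ?_⟩
    set g := u * c * u⁻¹ with hg
    have hcase : (∀ x, g x ∈ S ↔ x ∈ S) ∨ (∀ x ∈ S, g x ∉ S) := by
      have hgx : ∀ x, g x = u (c (u⁻¹ x)) := fun x => rfl
      have hux : ∀ x, x ∈ S ↔ u⁻¹ x ∈ T := fun x => by
        rw [← huT, Equiv.Perm.coe_inv, Equiv.apply_symm_apply]
      rcases hT with h | h
      · exact Or.inl fun x => by rw [hgx, huT, h, hux]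
      · exact Or.inr fun x hx => by rw [hgx, huT]; exact h _ ((hux x).1 hx)
    set τ := MulAut.conj g σ with hτ
    have hconjA : MulAut.conj g • Subgroup.zpowers σ = Subgroup.zpowers τ := by
      rw [Subgroup.pointwise_smul_def]
      exact MonoidHom.map_zpowers _ σ
    have hτapp : ∀ x, τ x = g (σ (g⁻¹ x)) := fun x => rfl
    have hcomm : Commute σ τ := by
      rcases hcase with h | h
      · have hτS : ∀ x, x ∉ S → τ x = x := by
          intro x hx
          have h1 : g⁻¹ x ∉ S := fun h2 => hx (by simpa using (h _).2 h2)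
          rw [hτapp, Equiv.Perm.notMem_support.1 h1, Equiv.Perm.coe_inv, Equiv.apply_symm_apply]
        have hσinv : ∀ x, σ x ∈ S ↔ x ∈ S := fun x => Equiv.Perm.apply_mem_support
        have hτinv : ∀ x, τ x ∈ S ↔ x ∈ S := by
          intro x
          rw [hτapp, h, hσinv, ← h (g⁻¹ x), Equiv.Perm.coe_inv, Equiv.apply_symm_apply]
        let σ' := σ.subtypePerm hσinv
        let τ' := τ.subtypePerm hτinv
        have hσof : Equiv.Perm.ofSubtype σ' = σ :=
          Equiv.Perm.ofSubtype_subtypePerm hσinv (fun x hx => Equiv.Perm.mem_support.2 hx)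
        have hτof : Equiv.Perm.ofSubtype τ' = τ :=
          Equiv.Perm.ofSubtype_subtypePerm hτinv (fun x hx => by
            by_contra h2; exact hx (hτS x h2))
        have hsσ : Equiv.Perm.sign σ' = 1 := by
          rw [← Equiv.Perm.sign_ofSubtype, hσof, hσ.sign]
        have hsτ : Equiv.Perm.sign τ' = 1 := by
          rw [← Equiv.Perm.sign_ofSubtype, hτof, hτ, MulAut.conj_apply]
          simp [hσ.sign]
        let e3 : {x // x ∈ S} ≃ Fin 3 := Fintype.equivFinOfCardEq (by rw [Fintype.card_coe, hS3])
        have h3 := alt_three_comm (e3.permCongrHom σ') (e3.permCongrHom τ')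
          (by rw [Equiv.permCongrHom_coe, Equiv.Perm.sign_permCongr, hsσ])
          (by rw [Equiv.permCongrHom_coe, Equiv.Perm.sign_permCongr, hsτ])
        rw [← map_mul, ← map_mul] at h3
        have h4 := congrArg Equiv.Perm.ofSubtype (e3.permCongrHom.injective h3)
        rw [map_mul, map_mul, hσof, hτof] at h4
        exact h4
      · refine Equiv.Perm.Disjoint.commute fun x => ?_
        by_cases hx : x ∈ S
        · right
          have h1 : g⁻¹ x ∉ S := fun h2 => h _ h2 (by simpa using hx)
          rw [hτapp, Equiv.Perm.notMem_support.1 h1, Equiv.Perm.coe_inv, Equiv.apply_symm_apply]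
        · exact Or.inl (Equiv.Perm.notMem_support.1 hx)
    rw [hconjA]
    apply Subgroup.Normal.isSubnormal
    refine ⟨fun y hy z => ?_⟩
    rw [Subgroup.mem_subgroupOf] at hy ⊢
    have hz : (z : Equiv.Perm (Fin 8)) ∈ Subgroup.centralizer (Subgroup.zpowers σ : Set (Equiv.Perm (Fin 8))) := by
      have hle : Subgroup.zpowers σ ⊔ Subgroup.zpowers τ ≤
          Subgroup.centralizer (Subgroup.zpowers σ : Set (Equiv.Perm (Fin 8))) := ?_
      · exact hle z.2
      refine sup_le ?_ ?_ <;> rw [Subgroup.zpowers_le, Subgroup.mem_centralizer_iff] <;>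
        rintro w ⟨i, rfl⟩
      · exact (Commute.zpow_left (Commute.refl σ) i).eq
      · exact (hcomm.zpow_left i).eq
    simp only [Subgroup.coe_mul, Subgroup.coe_inv]
    rw [← Subgroup.mem_centralizer_iff.1 hz _ hy, mul_inv_cancel_right]
    exact hy
  · rw [Cfsg.pCore, sSup_eq_bot]
    rintro N ⟨hN, hNp⟩
    by_contra hne
    haveI := hN
    have hdvd := CfsgLib.SwapGenerated.card_dvd_card N hne
    rw [Fintype.card_fin] at hdvd
    haveI : Fact (Nat.Prime 3) := ⟨Nat.prime_three⟩
    obtain ⟨k, hk⟩ := IsPGroup.iff_card.1 hNp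
    rw [hk] at hdvd
    have h2 : Nat.Coprime 8 (3 ^ k) := Nat.Coprime.pow_right k (by norm_num)
    have := Nat.Coprime.eq_one_of_dvd h2 hdvd
    omega

end Cfsg.Agent.S4332
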