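import Cfsg.Statements.S4333
import Cfsg.Agent.Lib.Solvable.Zipper

set_option autoImplicit false
open Cfsg
open scoped Pointwise

namespace Cfsg.Agent.S4333

open Subgroup CfsgLib.Zipper

universe u

theorem isSubnormal_of_forall_conj_conj {G : Type u} [Group G] [Finite G] (A : Subgroup G)
    (h : ∀ a ∈ A, ∀ g : G, (A.subgroupOf (A ⊔ MulAut.conj (g⁻¹ * a * g) • A)).IsSubnormal) :
    A.IsSubnormal := by
  suffices ∀ H : Subgroup G, ∀ A : Subgroup G, A ≤ H →
      (∀ a ∈ A, ∀ g ∈ H, SubnIn A (A ⊔ MulAut.conj (g⁻¹ * a * g) • A)) → SubnIn A H from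
    (this ⊤ A le_top fun a ha g _ => ⟨le_sup_left, h a ha g⟩).isSubnormal
  intro H
  induction H using WellFoundedLT.induction with
  | ind H ih =>
    intro A hAH h
    by_cases hAe : A = H
    · exact ⟨hAH, by rw [hAe, subgroupOf_self]; exact .top⟩
    by_contra hcon
    let A' : Subgroup H := A.subgroupOf H
    have hmap : ∀ g : H, (MulAut.conj g • A').map H.subtype = MulAut.conj (g : G) • A := by
      intro g
      ext x
      constructor
      · rintro ⟨y, ⟨z, hz, rfl⟩, rfl⟩
        exact ⟨z, hz, rfl⟩
      · rintro ⟨y, hy, rfl⟩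
        exact ⟨MulAut.conj g ⟨y, hAH hy⟩, ⟨⟨y, hAH hy⟩, hy, rfl⟩, rfl⟩
    have toH : ∀ {B V : Subgroup H}, SubnIn B V ↔ SubnIn (B.map H.subtype) (V.map H.subtype) := by
      intro B V
      let e : V →* (V.map H.subtype : Subgroup G) := (equivMapOfInjective V _ H.subtype_injective).toMonoidHom
      have he : Function.Surjective e := (equivMapOfInjective V _ H.subtype_injective).surjective
      have hcm : ((B.map H.subtype).subgroupOf (V.map H.subtype)).comap e = B.subgroupOf V := by
        ext x
        constructor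
        · rintro ⟨y, hy, hyx⟩
          have : y = (x : H) := H.subtype_injective (by simpa [e] using hyx)
          rwa [this] at hy
        · intro hx
          exact ⟨x, hx, rfl⟩
      constructor
      · rintro ⟨h1, h2⟩
        refine ⟨map_mono h1, ?_⟩
        rw [← map_comap_eq_self_of_surjective he ((B.map H.subtype).subgroupOf (V.map H.subtype)),
          hcm]
        exact h2.map he
      · rintro ⟨h1, h2⟩
        refine ⟨(map_le_map_iff_of_injective H.subtype_injective).1 h1, ?_⟩
        rw [← hcm]
        exact h2.comap e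
    let U' : Set (Subgroup H) := {V | V ≠ ⊤ ∧ A' ≤ V}
    let S' : Subgroup H → Set (Subgroup H) := fun V =>
      {B | (∃ g : H, B = MulAut.conj g • A') ∧ SubnIn B V}
    have hA'map : A'.map H.subtype = A := map_subgroupOf_eq_of_le hAH
    have hlt : ∀ V : Subgroup H, V ≠ ⊤ → V.map H.subtype < H := fun V hV =>
      lt_of_le_of_ne (map_subtype_le V) fun e => hV (eq_top_iff.2 fun x _ => by
        have hx : (x : G) ∈ V.map H.subtype := by rw [e]; exact x.2
        obtain ⟨y, hy, hyx⟩ := hx
        rwa [← Subtype.ext hyx])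
    -- induction gives subnormality of conjugates of `A` in proper subgroups
    have hind : ∀ (V : Subgroup H) (g : H), V ≠ ⊤ → MulAut.conj g • A' ≤ V →
        SubnIn (MulAut.conj g • A') V := by
      intro V g hV hle
      rw [toH, hmap]
      refine ih _ (hlt V hV) _ ?_ fun a' ha' k hk => ?_
      · rw [← hmap]; exact map_mono hle
      · have hkH : k ∈ H := map_subtype_le V hk
        obtain ⟨a, ha, rfl⟩ := Subgroup.mem_map.1 ha'
        have h' := (h a ha ((g : G)⁻¹ * k * g) (mul_mem (mul_mem (inv_mem g.2) hkH) g.2)).smul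
          (MulAut.conj (g : G))
        rw [smul_sup, ← mul_smul, ← map_mul] at h'
        rw [← mul_smul, ← map_mul]
        rw [show (g : G) * (((g : G)⁻¹ * k * g)⁻¹ * a * ((g : G)⁻¹ * k * g)) =
          k⁻¹ * ((g : G) * a * (g : G)⁻¹) * k * g by group] at h'
        exact h'
    by_cases hgen : ∃ a ∈ A, ∃ g ∈ H, A ⊔ MulAut.conj (g⁻¹ * a * g) • A = H
    · obtain ⟨a, ha, g, hg, hgH⟩ := hgen
      have := h a ha g hg
      rw [hgH] at this
      exact hcon this
    push Not at hgen
    have hA'top : A' ≠ ⊤ := fun e => hAe (le_antisymm hAH (subgroupOf_eq_top.1 e))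
    have hone : MulAut.conj (1 : H) • A' = A' := by rw [map_one, one_smul]
    obtain ⟨M, hM, hMax⟩ := exists_unique_maximal A' U' ⟨A', hA'top, le_rfl⟩ S'
      (fun V B => Iff.rfl)
      (fun V hV => ⟨⟨1, hone.symm⟩, hone ▸ hind V 1 hV.1 (by rw [hone]; exact hV.2)⟩)
      (fun V hV W _ B hB hle => by
        obtain ⟨g, rfl⟩ := hB.1
        exact ⟨⟨g, rfl⟩, hind V g hV.1 hle⟩)
      (fun V hV W hW => by
        have hAmem : A' ∈ S' V ∩ S' W :=
          ⟨⟨⟨1, hone.symm⟩, hone ▸ hind V 1 hV.1 (by rw [hone]; exact hV.2)⟩,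
            ⟨⟨1, hone.symm⟩, hone ▸ hind W 1 hW.1 (by rw [hone]; exact hW.2)⟩⟩
        refine ⟨_, ⟨fun e => hcon ?_, (le_sSup hAmem).trans le_normalizer⟩, le_rfl⟩
        have hDn : (sSup (S' V ∩ S' W)).Normal := normalizer_eq_top_iff.1 e
        have hDV : sSup (S' V ∩ S' W) ≤ V := sSup_le fun B hB => hB.1.2.1
        have hsub := (hAmem.1.2.mono (le_sSup hAmem) hDV).isSubnormal_trans hDn.isSubnormal
        have := toH.1 (subnIn_top hsub)
        rwa [hA'map, ← MonoidHom.range_eq_map, range_subtype] at this)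
    -- all conjugates of `A` lie in `M`
    have hAM : A' ≤ M := hM.2
    have hsmul : ∀ a ∈ A', ∀ g : H, MulAut.conj (g⁻¹ * a * g) • A' ≤ M := by
      intro a ha g
      refine le_sup_right.trans (hMax (A' ⊔ MulAut.conj (g⁻¹ * a * g) • A') ⟨fun e => ?_, le_sup_left⟩)
      apply hgen a ha g g.2
      have := congrArg (Subgroup.map H.subtype) e
      rwa [Subgroup.map_sup, hA'map, hmap, ← MonoidHom.range_eq_map, range_subtype] at this
    have hconjM : ∀ g : H, MulAut.conj g • A' ≤ M := by
      by_cases hNM : normalizer (M : Set H) = ⊤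
      · intro g
        have hMn : M.Normal := normalizer_eq_top_iff.1 hNM
        rintro _ ⟨y, hy, rfl⟩
        exact hMn.conj_mem y (hAM hy) g
      · intro g
        rintro _ ⟨y, hy, rfl⟩
        have hc : ∀ a ∈ A', ∀ g : H, MulAut.conj (g⁻¹ * a * g) • M ≤ M := by
          intro a ha g
          refine hMax _ ⟨fun e => hM.1 ?_, ?_⟩
          · rw [← inv_smul_smul (MulAut.conj (g⁻¹ * a * g)) M, e, eq_top_iff]
            intro x _
            rw [mem_pointwise_smul_iff_inv_smul_mem]
            exact mem_top _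
          · rw [subset_pointwise_smul_iff, ← map_inv]
            rw [show (g⁻¹ * a * g)⁻¹ = g⁻¹ * a⁻¹ * g by group]
            exact hsmul _ (inv_mem ha) g
        have hmem : g * y * g⁻¹ ∈ normalizer (M : Set H) := by
          apply mem_normalizer_of_smul_eq
          refine le_antisymm ?_ ?_
          · simpa using hc y hy g⁻¹
          · rw [subset_pointwise_smul_iff, ← map_inv]
            simpa [mul_assoc] using hc _ (inv_mem hy) g⁻¹
        exact hMax _ ⟨hNM, hAM.trans le_normalizer⟩ hmem
    apply hcon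
    have hN : (sSup (Set.range fun g : H => MulAut.conj g • A')).Normal := by
      refine normalizer_eq_top_iff.1 (top_le_iff.1 (le_normalizer_sSup_of_smul ?_))
      rintro B ⟨g, rfl⟩ v -
      exact ⟨v * g, by simp only [map_mul, mul_smul]⟩
    have hAN : A' ≤ sSup (Set.range fun g : H => MulAut.conj g • A') :=
      le_sSup ⟨1, hone⟩
    have hsub := ((hone ▸ hind M 1 hM.1 (by rw [hone]; exact hM.2)).mono hAN
      (sSup_le fun B ⟨g, hg⟩ => hg ▸ hconjM g)).isSubnormal_trans hN.isSubnormal
    have := toH.1 (subnIn_top hsub)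
    rwa [hA'map, ← MonoidHom.range_eq_map, range_subtype] at this

/-- Let A be a subgroup of a finite group G. If A is subnormal in the subgroup generated by A and its conjugate by g⁻¹ a g, for every a ∈ A and every g ∈ G, then A is subnormal in G. (A sharpening of Wielandt's subnormality criterion: only conjugates of A by conjugates of elements of A are needed.) -/
theorem result {G : Type*} [Group G] [Finite G]
    (A : Subgroup G)
    (h : ∀ a ∈ A, ∀ g : G, (A.subgroupOf (A ⊔ MulAut.conj (g⁻¹ * a * g) • A)).IsSubnormal) :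
    A.IsSubnormal := by
  exact isSubnormal_of_forall_conj_conj A h

end Cfsg.Agent.S4333
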