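import Cfsg.Statements.S4334
import Cfsg.Agent.Lib.Transfer.NormalComplement
import Cfsg.Agent.Lib.Struct77.Engel

set_option autoImplicit false
open Cfsg

namespace Cfsg.Agent.S4334

open Subgroup

/-- `T` is a `π`-subgroup containing a conjugate of every `π`-subgroup. -/
def Dom {G : Type*} [Group G] (π : Set ℕ) (T : Subgroup G) : Prop :=
  Cfsg.IsPiSubgroup π T ∧
    ∀ K : Subgroup G, Cfsg.IsPiSubgroup π K → ∃ g : G, K ≤ T.map (MulAut.conj g).toMonoidHom

theorem card_sup_dvd {G : Type*} [Group G] (A B : Subgroup G)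
    (h : ∀ a ∈ A, ∀ b ∈ B, a * b = b * a) : Nat.card (A ⊔ B : Subgroup G) ∣ Nat.card A * Nat.card B := by
  let f : A × B →* G := A.subtype.noncommCoprod B.subtype fun a b => h a a.2 b b.2
  have hf : f.range = A ⊔ B := by
    exact (MonoidHom.noncommCoprod_range _ _ _).trans
      (by rw [Subgroup.range_subtype, Subgroup.range_subtype])
  rw [← hf, ← Nat.card_prod]
  exact Subgroup.card_range_dvd f

theorem mem_sup_of_commute {G : Type*} [Group G] {A B : Subgroup G}
    (h : ∀ a ∈ A, ∀ b ∈ B, a * b = b * a) {x : G} (hx : x ∈ A ⊔ B) :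
    ∃ a ∈ A, ∃ b ∈ B, a * b = x := by
  let f : A × B →* G := A.subtype.noncommCoprod B.subtype fun a b => h a a.2 b b.2
  have hf : f.range = A ⊔ B := by
    exact (MonoidHom.noncommCoprod_range _ _ _).trans
      (by rw [Subgroup.range_subtype, Subgroup.range_subtype])
  rw [← hf] at hx
  obtain ⟨⟨a, b⟩, hab⟩ := hx
  exact ⟨a, a.2, b, b.2, hab⟩

theorem dom_of_isDPiGroup {G : Type*} [Group G] [Finite G] {τ : Set ℕ} {T : Subgroup G}
    (hD : Cfsg.IsDPiGroup τ G) (hT : Cfsg.IsPiSubgroup τ T)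
    (hidx : ∀ q : ℕ, q.Prime → q ∈ τ → ¬ q ∣ T.index) : Dom τ T := by
  refine ⟨hT, fun K hK => ?_⟩
  obtain ⟨M, hKM, hM⟩ := Set.Finite.exists_le_maximal
    (Set.toFinite {K : Subgroup G | Cfsg.IsPiSubgroup τ K}) hK
  have hTmax : Maximal (Cfsg.IsPiSubgroup τ) T := by
    refine ⟨hT, fun U hU hTU => ?_⟩
    apply Subgroup.relIndex_eq_one.mp
    by_contra hne
    obtain ⟨q, hq, hqd⟩ := Nat.exists_prime_and_dvd hne
    exact hidx q hq (hU q hq (hqd.trans (Subgroup.relIndex_dvd_card T U)))
      (hqd.trans (Subgroup.relIndex_dvd_index_of_le hTU))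
  obtain ⟨g, rfl⟩ := hD T M hTmax hM
  exact ⟨g, hKM⟩

theorem isDPiGroup_of_dom {G : Type*} [Group G] [Finite G] {π : Set ℕ} {H : Subgroup G}
    (h : Dom π H) : Cfsg.IsDPiGroup π G := by
  intro A B hA hB
  have hc : ∀ g : G, Cfsg.IsPiSubgroup π (H.map (MulAut.conj g).toMonoidHom) := by
    intro g r hr hrd
    rw [Subgroup.card_map_of_injective (MulAut.conj g).injective] at hrd
    exact h.1 r hr hrd
  obtain ⟨a, ha⟩ := h.2 A hA.prop
  obtain ⟨b, hb⟩ := h.2 B hB.prop
  refine ⟨b * a⁻¹, ?_⟩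
  rw [le_antisymm ha (hA.le_of_ge (hc a) ha), le_antisymm hb (hB.le_of_ge (hc b) hb),
    Subgroup.map_map]
  congr 1
  ext x
  simp [mul_assoc]

/-- If some conjugate of a full Sylow `q`-subgroup centralises `R` for each prime `q` dividing the order of
a `g` normalising `R`, then `g` centralises `R`. -/
theorem mem_centralizer_of_index {G : Type*} [Group G] [Finite G] (R : Subgroup G) {g : G}
    (hg : g ∈ normalizer (R : Set G))
    (h : ∀ q : ℕ, q.Prime → q ∣ orderOf g → ¬ q ∣ (centralizer (R : Set G)).index) :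
    g ∈ centralizer (R : Set G) := by
  have hle : centralizer (R : Set G) ≤ normalizer (R : Set G) := centralizer_le_normalizer _
  haveI : ((centralizer (R : Set G)).subgroupOf (normalizer (R : Set G))).Normal := inferInstance
  set C := (centralizer (R : Set G)).subgroupOf (normalizer (R : Set G)) with hC
  have h1 : orderOf (QuotientGroup.mk' C ⟨g, hg⟩) = 1 := by
    by_contra hne
    obtain ⟨q, hq, hqd⟩ := Nat.exists_prime_and_dvd hne
    refine h q hq ?_ ?_
    · exact hqd.trans ((orderOf_map_dvd _ _).trans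
        (by rw [← orderOf_coe (⟨g, hg⟩ : normalizer (R : Set G))]))
    · exact (hqd.trans (orderOf_dvd_natCard _)).trans (Subgroup.relIndex_dvd_index_of_le hle)
  rw [orderOf_eq_one_iff, QuotientGroup.mk'_apply, QuotientGroup.eq_one_iff] at h1
  exact h1

/-- The `r`-subgroups of `G` are centralised by a Sylow `s`-subgroup if some Sylow `r`-subgroup is. -/
theorem index_centralizer {G : Type*} [Group G] [Finite G] {r s : ℕ} [Fact r.Prime] [Fact s.Prime]
    (A : Sylow r G) (B : Sylow s G) (hAB : ∀ a ∈ (A : Subgroup G), ∀ b ∈ (B : Subgroup G), Commute a b)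
    (R : Subgroup G) (hR : IsPGroup r R) : ¬ s ∣ (centralizer (R : Set G)).index := by
  obtain ⟨A', hA'⟩ := hR.exists_le_sylow
  obtain ⟨g, rfl⟩ := MulAction.exists_smul_eq G A A'
  intro hdvd
  refine (g • B).not_dvd_index (hdvd.trans (Subgroup.index_dvd_of_le ?_))
  intro b hb
  rw [Subgroup.mem_centralizer_iff]
  intro a ha
  obtain ⟨a₀, ha₀, rfl⟩ := hA' ha
  obtain ⟨b₀, hb₀, rfl⟩ := hb
  exact ((hAB a₀ ha₀ b₀ hb₀).map (MulAut.conj g).toMonoidHom).eq

theorem isPiSubgroup_of_le {G : Type*} [Group G] {π : Set ℕ} {A B : Subgroup G} (h : A ≤ B)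
    (hB : Cfsg.IsPiSubgroup π B) : Cfsg.IsPiSubgroup π A :=
  fun r hr hrd => hB r hr (hrd.trans (Subgroup.card_dvd_of_le h))

/-- Wielandt's step: adjoining a Sylow `p`-subgroup that centralises `T`. -/
theorem dom_step {G : Type*} [Group G] [Finite G] {p : ℕ} [Fact p.Prime] (P : Sylow p G) {ω : Set ℕ}
    (hpω : p ∉ ω) {T : Subgroup G} (hT : Dom ω T)
    (hPT : ∀ a ∈ (P : Subgroup G), ∀ t ∈ T, Commute a t) : Dom (insert p ω) ((P : Subgroup G) ⊔ T) := by
  have hp : p.Prime := Fact.out
  obtain ⟨kP, hkP⟩ := IsPGroup.iff_card.mp P.2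
  refine ⟨?_, ?_⟩
  · intro r hr hrd
    rcases hr.dvd_mul.mp (hrd.trans (card_sup_dvd _ _ fun a ha b hb => hPT a ha b hb)) with h | h
    · left
      exact (Nat.prime_dvd_prime_iff_eq hr hp).mp (hr.dvd_of_dvd_pow (hkP ▸ h))
    · exact Or.inr (hT.1 r hr h)
  intro K hK
  -- for each prime of `ω` a Sylow subgroup of `G` lies in `T`
  have hsylT : ∀ q : ℕ, q.Prime → q ∈ ω → ∃ Q : Sylow q G, (Q : Subgroup G) ≤ T := by
    intro q hq hqω
    haveI : Fact q.Prime := ⟨hq⟩
    obtain ⟨Q⟩ := (inferInstance : Nonempty (Sylow q G))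
    have hQω : Cfsg.IsPiSubgroup ω (Q : Subgroup G) := by
      intro r hr hrd
      obtain ⟨k, hk⟩ := IsPGroup.iff_card.mp Q.2
      rw [(Nat.prime_dvd_prime_iff_eq hr hq).mp (hr.dvd_of_dvd_pow (hk ▸ hrd))]
      exact hqω
    obtain ⟨g, hg⟩ := hT.2 Q hQω
    refine ⟨g⁻¹ • Q, ?_⟩
    intro x hx
    obtain ⟨y, hy, rfl⟩ := hx
    obtain ⟨z, hz, rfl⟩ := hg hy
    simpa [MulAut.conj_apply, mul_assoc] using hz
  -- `p`-local information
  have hpl : ∀ R : Subgroup G, IsPGroup p R → ∀ q : ℕ, q.Prime → q ∈ ω →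
      ¬ q ∣ (centralizer (R : Set G)).index := by
    intro R hR q hq hqω
    haveI : Fact q.Prime := ⟨hq⟩
    obtain ⟨Q, hQ⟩ := hsylT q hq hqω
    exact index_centralizer P Q (fun a ha b hb => hPT a ha b (hQ hb)) R hR
  have hql : ∀ q : ℕ, q.Prime → q ∈ ω → ∀ R : Subgroup G, IsPGroup q R →
      ¬ p ∣ (centralizer (R : Set G)).index := by
    intro q hq hqω R hR
    haveI : Fact q.Prime := ⟨hq⟩
    obtain ⟨Q, hQ⟩ := hsylT q hq hqω
    exact index_centralizer Q P (fun a ha b hb => (hPT b hb a (hQ ha)).symm) R hR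
  -- Frobenius: `K` has a normal `p`-complement
  have hfc : CfsgLib.Transfer.FrobeniusCond p K := by
    intro Q hQ g hg hgc
    have hgn : (g : G) ∈ normalizer ((Q.map K.subtype : Subgroup G) : Set G) :=
      (Subgroup.le_normalizer_map (f := K.subtype)) ⟨g, hg, rfl⟩
    have hgC := mem_centralizer_of_index (Q.map K.subtype) hgn fun q hq hqd => by
      refine hpl _ (hQ.map _) q hq ?_
      rcases hK q hq (hqd.trans (orderOf_coe g ▸ orderOf_dvd_natCard g)) with h | h
      · subst h
        rw [orderOf_coe] at hqd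
        exact absurd (Nat.dvd_gcd hqd dvd_rfl) (by rw [hgc.gcd_eq_one]; exact hq.not_dvd_one)
      · exact h
    rw [Subgroup.mem_centralizer_iff] at hgC ⊢
    intro x hx
    exact Subtype.ext (hgC x ⟨x, hx, rfl⟩)
  obtain ⟨S, N, hN, hNS⟩ := CfsgLib.Transfer.hasNormalPComplement_of_frobeniusCond hfc
  haveI := hN
  have hNcard : Nat.card N = (S : Subgroup K).index := hNS.index_eq_card.symm
  have hNω : Cfsg.IsPiSubgroup ω N := by
    intro r hr hrd
    rcases hK r hr (hrd.trans (Subgroup.card_subgroup_dvd_card N)) with h | h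
    · exact absurd (h ▸ hNcard ▸ hrd) S.not_dvd_index
    · exact h
  -- `S` centralises `N`
  have hSN : N ≤ centralizer ((S : Subgroup K) : Set K) := by
    suffices h : N ⊓ centralizer ((S : Subgroup K) : Set K) = N from h ▸ inf_le_right
    refine Subgroup.eq_of_le_of_card_ge inf_le_left (Nat.le_of_dvd Nat.card_pos ?_)
    rw [← Nat.factorization_le_iff_dvd Nat.card_pos.ne' Nat.card_pos.ne']
    intro q
    by_cases hq : q.Prime ∧ q ∣ Nat.card N
    swap
    · rw [Nat.factorization_eq_zero_iff _ q |>.mpr (by tauto)]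
      exact Nat.zero_le _
    haveI : Fact q.Prime := ⟨hq.1⟩
    obtain ⟨Q⟩ := (inferInstance : Nonempty (Sylow q N))
    set M := normalizer ((Q : Subgroup N).map N.subtype : Set K) with hM
    have hMN : M ⊔ N = ⊤ := Sylow.normalizer_sup_eq_top Q
    have hMidx : ¬ p ∣ M.index := by
      intro hdvd
      have h1 : M.index ∣ Nat.card N := by
        have e1 : N.relIndex M = N.index := by
          rw [← Subgroup.relIndex_sup_right M N, hMN, Subgroup.relIndex_top_right]
        have e2 : Nat.card (N.subgroupOf M) * N.relIndex M = Nat.card M := Subgroup.card_mul_index _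
        have e3 := Subgroup.card_mul_index M
        rw [← e2, e1, ← Subgroup.card_mul_index N] at e3
        refine ⟨Nat.card (N.subgroupOf M), Nat.eq_of_mul_eq_mul_right
          (Nat.pos_of_ne_zero Subgroup.index_ne_zero_of_finite : 0 < N.index) ?_⟩
        rw [← e3]; ring
      exact hpω (hNω p hp (hdvd.trans h1))
    -- a Sylow subgroup of `M` is one of `K` and centralises `Q`
    obtain ⟨S₁⟩ := (inferInstance : Nonempty (Sylow p M))
    set S₂ := (S₁ : Subgroup M).map M.subtype with hS₂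
    have hS₂idx : ¬ p ∣ S₂.index := by
      rw [hS₂, Subgroup.index_map_subtype]
      exact fun h => (hp.dvd_mul.mp h).elim S₁.not_dvd_index hMidx
    let S₃ : Sylow p K := IsPGroup.toSylow (S₁.2.map M.subtype) hS₂idx
    obtain ⟨k, hk⟩ := MulAction.exists_smul_eq K S₃ S
    have hcent : ((Q : Subgroup N).map N.subtype).map (MulAut.conj k).toMonoidHom ≤
        N ⊓ centralizer ((S : Subgroup K) : Set K) := by
      rintro _ ⟨x, hx, rfl⟩
      refine ⟨hN.conj_mem x (Subgroup.map_subtype_le _ hx) k, ?_⟩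
      show _ ∈ centralizer _
      rw [Subgroup.mem_centralizer_iff]
      intro y hy
      rw [← hk] at hy
      obtain ⟨z, hz, rfl⟩ := hy
      have hzM : z ∈ M := Subgroup.map_subtype_le _ hz
      have hzG := mem_centralizer_of_index (((Q : Subgroup N).map N.subtype).map K.subtype)
        ((Subgroup.le_normalizer_map (f := K.subtype)) ⟨z, hzM, rfl⟩) (g := (z : G))
        fun r hr hrd => by
          obtain ⟨j, hj⟩ := IsPGroup.iff_card.mp S₃.2
          have h1 : orderOf z ∣ Nat.card (S₃ : Subgroup K) := by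
            have h2 := _root_.orderOf_dvd_natCard (⟨z, hz⟩ : (S₃ : Subgroup K))
            rwa [← orderOf_coe (⟨z, hz⟩ : (S₃ : Subgroup K))] at h2
          rw [orderOf_coe] at hrd
          have hrp : r = p := (Nat.prime_dvd_prime_iff_eq hr hp).mp (hr.dvd_of_dvd_pow
            (hj ▸ hrd.trans h1))
          subst hrp
          exact hql q hq.1 (hNω q hq.1 hq.2) _ ((Q.2.map _).map _)
      have hcomm : (z : G) * x = x * z :=
        ((Subgroup.mem_centralizer_iff.mp hzG) _ ⟨x, hx, rfl⟩).symm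
      exact ((show Commute z x from Subtype.ext hcomm).map (MulAut.conj k).toMonoidHom).eq
    have h2 := (Nat.factorization_le_iff_dvd Nat.card_pos.ne' Nat.card_pos.ne').mpr
      (Subgroup.card_dvd_of_le hcent) q
    rw [Subgroup.card_map_of_injective (MulAut.conj k).injective,
      Subgroup.card_map_of_injective N.subtype_injective, Sylow.card_eq_multiplicity,
      Nat.Prime.factorization_pow hq.1, Finsupp.single_eq_same] at h2
    exact h2
  -- place `K`
  obtain ⟨x, hx⟩ := hT.2 (N.map K.subtype) (by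
    intro r hr hrd
    rw [Subgroup.card_map_of_injective K.subtype_injective] at hrd
    exact hNω r hr hrd)
  set C := centralizer ((N.map K.subtype : Subgroup G) : Set G) with hC
  have hPC : ((x • P : Sylow p G) : Subgroup G) ≤ C := by
    rintro _ ⟨a, ha, rfl⟩
    rw [hC, Subgroup.mem_centralizer_iff]
    intro b hb
    obtain ⟨t, htm, rfl⟩ := hx hb
    exact ((hPT a ha t htm).map (MulAut.conj x).toMonoidHom).eq.symm
  have hSC : (S : Subgroup K).map K.subtype ≤ C := by
    rintro _ ⟨a, ha, rfl⟩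
    rw [hC, Subgroup.mem_centralizer_iff]
    rintro _ ⟨b, hb, rfl⟩
    exact congrArg K.subtype ((Subgroup.mem_centralizer_iff.mp (hSN hb) a ha).symm)
  obtain ⟨S', hS'⟩ := ((S.2.map K.subtype).comap_subtype (K := C)).exists_le_sylow
  obtain ⟨c, hc⟩ := MulAction.exists_smul_eq C ((x • P).subtype hPC) S'
  refine ⟨(c : G) * x, ?_⟩
  have htop : K = ((S : Subgroup K) ⊔ N).map K.subtype := by
    rw [hNS.symm.sup_eq_top, ← MonoidHom.range_eq_map, Subgroup.range_subtype]
  rw [htop, Subgroup.map_sup, Subgroup.map_sup]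
  refine sup_le_sup ?_ ?_
  · intro a ha
    have h1 : (⟨a, hSC ha⟩ : C) ∈ (S' : Subgroup C) := hS' ha
    rw [← hc] at h1
    obtain ⟨b, hb, hbe⟩ := h1
    obtain ⟨d, hdm, hde⟩ := (hb : (b : G) ∈ (x • P : Sylow p G))
    refine ⟨d, hdm, ?_⟩
    have hde' : x * d * x⁻¹ = (b : G) := hde
    have hbe' : (c : G) * b * (c : G)⁻¹ = a := congrArg Subtype.val hbe
    rw [← hbe', ← hde']
    simp [MulAut.conj_apply, mul_assoc]
  · rintro a ha
    obtain ⟨t, htm, hte⟩ := hx ha
    refine ⟨t, htm, ?_⟩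
    have hte' : x * t * x⁻¹ = a := hte
    have hca : (c : G) * a = a * c := ((Subgroup.mem_centralizer_iff.mp c.2) a ha).symm
    calc MulAut.conj ((c : G) * x) t = (c : G) * (x * t * x⁻¹) * (c : G)⁻¹ := by
          simp [MulAut.conj_apply, mul_assoc]
      _ = a := by rw [hte', hca, mul_assoc, mul_inv_cancel, mul_one]
/-- Let σ and τ be disjoint sets of primes with union π. Suppose a finite group G has a Hall π-subgroup H which is the direct product of a nilpotent σ-subgroup and a τ-subgroup (two elementwise-commuting subgroups generating H), and that the maximal τ-subgroups of G are pairwise conjugate. Then the maximal π-subgroups of G are pairwise conjugate. -/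
theorem result {G : Type*} [Group G] [Finite G]
    (σ τ π : Set ℕ) (hπ : π = σ ∪ τ) (hd : Disjoint σ τ) (H Hs Ht : Subgroup G) (hH : Cfsg.IsPiHall π H)
    (hs : Cfsg.IsPiSubgroup σ Hs) (ht : Cfsg.IsPiSubgroup τ Ht) (hsn : Group.IsNilpotent Hs)
    (hjoin : Hs ⊔ Ht = H) (hcomm : ∀ a ∈ Hs, ∀ b ∈ Ht, a * b = b * a) (hD : Cfsg.IsDPiGroup τ G) :
    Cfsg.IsDPiGroup π G := by
  classical
  -- the dominance form of the hypothesis
  have hHt_le : Ht ≤ H := hjoin ▸ le_sup_right
  have hHs_le : Hs ≤ H := hjoin ▸ le_sup_left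
  have hcardH : Nat.card H ∣ Nat.card Hs * Nat.card Ht := hjoin ▸ card_sup_dvd Hs Ht hcomm
  have hHtIdx : ∀ q : ℕ, q.Prime → q ∈ τ → ¬ q ∣ Ht.index := by
    intro q hq hqτ hdvd
    rw [← Subgroup.relIndex_mul_index hHt_le] at hdvd
    rcases hq.dvd_mul.mp hdvd with h | h
    · have h1 : Nat.card Ht * Ht.relIndex H = Nat.card H := by
        rw [Subgroup.relIndex, ← Nat.card_congr (Subgroup.subgroupOfEquivOfLe hHt_le).toEquiv]
        exact Subgroup.card_mul_index _
      have h2 : Ht.relIndex H ∣ Nat.card Hs := by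
        have h3 : Nat.card Ht * Ht.relIndex H ∣ Nat.card Ht * Nat.card Hs := by
          rw [h1, mul_comm]; exact hcardH
        exact Nat.dvd_of_mul_dvd_mul_left Nat.card_pos h3
      exact Set.disjoint_left.mp hd (hs q hq (h.trans h2)) hqτ
    · exact hH.2 q hq (hπ ▸ Or.inr hqτ) h
  have hDomT : Dom τ Ht := dom_of_isDPiGroup hD ht hHtIdx
  -- the Sylow subgroups of `Hs` are Sylow subgroups of `G`
  have hsyl : ∀ p : ℕ, p.Prime → p ∈ σ → ∃ P : Sylow p G, (P : Subgroup G) ≤ Hs := by
    intro p hp hpσ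
    haveI : Fact p.Prime := ⟨hp⟩
    obtain ⟨Q⟩ := (inferInstance : Nonempty (Sylow p Hs))
    obtain ⟨R, hR⟩ := (Q.2.map Hs.subtype).exists_le_sylow
    obtain ⟨k, hk⟩ := IsPGroup.iff_card.mp R.2
    have hQcard : Nat.card ((Q : Subgroup Hs).map Hs.subtype) = p ^ (Nat.card Hs).factorization p := by
      rw [Subgroup.card_map_of_injective Hs.subtype_injective]
      exact Sylow.card_eq_multiplicity Q
    have hRcard := Sylow.card_eq_multiplicity R
    have hfac : (Nat.card G).factorization p = (Nat.card Hs).factorization p := by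
      apply le_antisymm
      · have h1 : Nat.card G ∣ Nat.card Hs * Nat.card Ht * H.index := by
          rw [← Subgroup.card_mul_index H]
          exact Nat.mul_dvd_mul_right hcardH _
        have h0 : Nat.card Hs * Nat.card Ht * H.index ≠ 0 :=
          mul_ne_zero (mul_ne_zero Nat.card_pos.ne' Nat.card_pos.ne') Subgroup.index_ne_zero_of_finite
        have h2 := (Nat.factorization_le_iff_dvd Nat.card_pos.ne' h0).mpr h1 p
        rw [Nat.factorization_mul (mul_ne_zero Nat.card_pos.ne' Nat.card_pos.ne')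
          Subgroup.index_ne_zero_of_finite, Nat.factorization_mul Nat.card_pos.ne'
          Nat.card_pos.ne'] at h2
        simp only [Finsupp.coe_add, Pi.add_apply] at h2
        rw [Nat.factorization_eq_zero_of_not_dvd
              (fun h => Set.disjoint_left.mp hd hpσ (ht p hp h)),
          Nat.factorization_eq_zero_of_not_dvd (hH.2 p hp (hπ ▸ Or.inl hpσ))] at h2
        simpa using h2
      · exact (Nat.factorization_le_iff_dvd Nat.card_pos.ne' Nat.card_pos.ne').mpr
          (Subgroup.card_subgroup_dvd_card Hs) p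
    refine ⟨R, ?_⟩
    have h := Subgroup.eq_of_le_of_card_ge hR (le_of_eq (by rw [hQcard, hRcard, hfac]))
    rw [← h]
    exact Subgroup.map_subtype_le _
  -- adjoin the primes of `σ` one at a time
  have hstep : ∀ s : Finset ℕ, (∀ p ∈ s, p.Prime ∧ p ∈ σ) →
      ∃ T : Subgroup G, T ≤ H ∧ Dom ((s : Set ℕ) ∪ τ) T ∧
        ∀ a ∈ Hs, (∀ r : ℕ, r.Prime → r ∣ orderOf a → r ∉ s) → ∀ t ∈ T, Commute a t := by
    intro s
    induction s using Finset.induction_on with
    | empty =>
      intro _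
      refine ⟨Ht, hHt_le, by simpa using hDomT, fun a ha _ t htm => hcomm a ha t htm⟩
    | insert p s hps ih =>
      intro hall
      obtain ⟨T, hTH, hTdom, hTcomm⟩ := ih fun q hq => hall q (Finset.mem_insert_of_mem hq)
      obtain ⟨hp, hpσ⟩ := hall p (Finset.mem_insert_self p s)
      haveI : Fact p.Prime := ⟨hp⟩
      obtain ⟨P, hP⟩ := hsyl p hp hpσ
      have hpo : ∀ a ∈ (P : Subgroup G), ∀ r : ℕ, r.Prime → r ∣ orderOf a → r = p := by
        intro a ha r hr hrd
        obtain ⟨k, hk⟩ := IsPGroup.iff_card.mp P.2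
        have h1 : orderOf a ∣ Nat.card (P : Subgroup G) := by
          have h2 := _root_.orderOf_dvd_natCard (⟨a, ha⟩ : (P : Subgroup G))
          rwa [← orderOf_coe (⟨a, ha⟩ : (P : Subgroup G))] at h2
        exact (Nat.prime_dvd_prime_iff_eq hr hp).mp (hr.dvd_of_dvd_pow (hk ▸ hrd.trans h1))
      have hPT : ∀ a ∈ (P : Subgroup G), ∀ t ∈ T, Commute a t := fun a ha t htm =>
        hTcomm a (hP ha) (fun r hr hrd => by rw [hpo a ha r hr hrd]; exact hps) t htm
      refine ⟨(P : Subgroup G) ⊔ T, sup_le (hP.trans hHs_le) hTH, ?_, ?_⟩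
      · have hset : ((insert p s : Finset ℕ) : Set ℕ) ∪ τ = insert p ((s : Set ℕ) ∪ τ) := by
          rw [Finset.coe_insert, Set.insert_union]
        rw [hset]
        refine dom_step P ?_ hTdom hPT
        rintro (h | h)
        · exact hps h
        · exact Set.disjoint_left.mp hd hpσ h
      · intro a ha hao t htm
        obtain ⟨x, hx, y, hy, rfl⟩ := mem_sup_of_commute (fun u hu v hv => hPT u hu v hv) htm
        refine Commute.mul_right ?_ (hTcomm a ha
          (fun r hr hrd hrs => hao r hr hrd (Finset.mem_insert_of_mem hrs)) y hy)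
        -- two elements of the nilpotent group `Hs` of coprime orders commute
        haveI := hsn
        have hco : (orderOf (⟨a, ha⟩ : Hs)).Coprime (orderOf (⟨x, hP hx⟩ : Hs)) := by
          rw [← orderOf_coe (⟨a, ha⟩ : Hs), ← orderOf_coe (⟨x, hP hx⟩ : Hs)]
          refine Nat.coprime_of_dvd fun r hr h1 h2 => ?_
          exact hao r hr h1 (hpo x hx r hr h2 ▸ Finset.mem_insert_self p s)
        exact congrArg Subtype.val (CfsgLib.Engel.commute_of_coprime_nilpotent hco).eq
  obtain ⟨T, hTH, hTdom, -⟩ := hstep ((Nat.card G).primeFactors.filter (· ∈ σ)) (by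
    intro p hp
    rw [Finset.mem_filter] at hp
    exact ⟨Nat.prime_of_mem_primeFactors hp.1, hp.2⟩)
  refine isDPiGroup_of_dom (H := H) ⟨hH.1, fun K hK => ?_⟩
  have hK' : Cfsg.IsPiSubgroup
      ((((Nat.card G).primeFactors.filter (· ∈ σ) : Finset ℕ) : Set ℕ) ∪ τ) K := by
    intro r hr hrd
    have hrπ := hK r hr hrd
    rw [hπ] at hrπ
    rcases hrπ with h | h
    · left
      simp only [Finset.coe_filter, Set.mem_ofPred_eq, Nat.mem_primeFactors]
      exact ⟨⟨hr, hrd.trans (Subgroup.card_subgroup_dvd_card K), Nat.card_pos.ne'⟩, h⟩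
    · exact Or.inr h
  obtain ⟨g, hg⟩ := hTdom.2 K hK'
  exact ⟨g, hg.trans (Subgroup.map_mono hTH)⟩
end Cfsg.Agent.S4334
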