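import Cfsg.Statements.S4337
import Cfsg.Agent.Lib.Structure.SwapGenerated

set_option autoImplicit false
open Cfsg
open scoped Pointwise
set_option linter.style.haveILetI false

namespace Cfsg.Agent.S4337

private theorem derived_step (T : Subgroup (Equiv.Perm (Fin 4))) (S : Subgroup (Equiv.Perm (Fin 4))) (k : ℕ)
    (hT : derivedSeries (Equiv.Perm (Fin 4)) k ≤ T)
    (h : ∀ u v : Equiv.Perm (Fin 4), u ∈ T → v ∈ T → u * v * u⁻¹ * v⁻¹ ∈ S) :
    derivedSeries (Equiv.Perm (Fin 4)) (k + 1) ≤ S := by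
  rw [derivedSeries_succ, Subgroup.commutator_le]
  intro u hu v hv
  exact h u v (hT hu) (hT hv)

private theorem comm_four : ∀ u v : Equiv.Perm (Fin 4), Equiv.Perm.sign (u * v * u⁻¹ * v⁻¹) = 1 := by
  decide +kernel

private theorem comm_alt_four : ∀ u v : Equiv.Perm (Fin 4), Equiv.Perm.sign u = 1 → Equiv.Perm.sign v = 1 →
    (u * v * u⁻¹ * v⁻¹) * (u * v * u⁻¹ * v⁻¹) = 1 := by
  decide +kernel

private theorem square_one_comm : ∀ u v : Equiv.Perm (Fin 4), Equiv.Perm.sign u = 1 → Equiv.Perm.sign v = 1 →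
    u * u = 1 → v * v = 1 → u * v = v * u := by
  decide +kernel

private def kleinV : Subgroup (Equiv.Perm (Fin 4)) where
  carrier := {u | Equiv.Perm.sign u = 1 ∧ u * u = 1}
  one_mem' := by simp
  mul_mem' := by
    rintro u v ⟨hu, hu2⟩ ⟨hv, hv2⟩
    refine ⟨by simp [hu, hv], ?_⟩
    rw [show u * v * (u * v) = u * (v * u) * v by group, ← square_one_comm u v hu hv hu2 hv2,
      show u * (u * v) * v = (u * u) * (v * v) by group, hu2, hv2, mul_one]
  inv_mem' := by
    rintro u ⟨hu, hu2⟩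
    exact ⟨by simp [hu], by rw [← mul_inv_rev, hu2, inv_one]⟩

private theorem derived_four : derivedSeries (Equiv.Perm (Fin 4)) 3 = ⊥ := by
  have h1 : derivedSeries (Equiv.Perm (Fin 4)) 1 ≤ (Equiv.Perm.sign).ker :=
    derived_step ⊤ _ 0 le_top fun u v _ _ => comm_four u v
  have h2 : derivedSeries (Equiv.Perm (Fin 4)) 2 ≤ kleinV :=
    derived_step _ _ 1 h1 fun u v hu hv => ⟨comm_four u v, comm_alt_four u v hu hv⟩
  refine le_bot_iff.1 (derived_step _ _ 2 h2 fun u v hu hv => ?_)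
  rw [Subgroup.mem_bot, square_one_comm u v hu.1 hv.1 hu.2 hv.2]
  group


/-- In a finite symmetric group, any three transpositions generate a solvable subgroup. -/
theorem result (n : ℕ) (a b c : Equiv.Perm (Fin n))
    (ha : a.IsSwap) (hb : b.IsSwap) (hc : c.IsSwap) :
    Group.IsSolvable (Subgroup.closure ({a, b, c} : Set (Equiv.Perm (Fin n)))) := by
  classical
  set H := Subgroup.closure ({a, b, c} : Set (Equiv.Perm (Fin n))) with hH
  let t : Fin 3 → Equiv.Perm (Fin n) := ![a, b, c]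
  have hrange : Set.range t = {a, b, c} := by
    ext x
    constructor
    · rintro ⟨i, rfl⟩; fin_cases i <;> simp [t]
    · rintro (rfl | rfl | rfl)
      exacts [⟨0, rfl⟩, ⟨1, rfl⟩, ⟨2, rfl⟩]
  have ht : ∀ i, (t i).IsSwap := by intro i; fin_cases i <;> assumption
  rw [Group.isSolvable_def]
  refine ⟨3, (Subgroup.eq_bot_iff_forall _).2 fun g hg => Subtype.ext (Equiv.ext fun x => ?_)⟩
  obtain ⟨A, hxA, hAc, hinv⟩ := CfsgLib.SwapGenerated.exists_invariant_finset t ht x
  rw [hrange] at hinv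
  let e : A ↪ Fin 4 := ((Fintype.equivFin A).toEmbedding).trans
    (Fin.castLEEmb (by rw [Fintype.card_coe]; omega))
  let φ : H →* Equiv.Perm A :=
    { toFun := fun h => (h : Equiv.Perm (Fin n)).subtypePerm (fun y => hinv h h.2 y)
      map_one' := rfl
      map_mul' := fun u v => rfl }
  let ψ : H →* Equiv.Perm (Fin 4) := (Equiv.Perm.viaEmbeddingHom e).comp φ
  have hmem : ψ g ∈ (derivedSeries (Equiv.Perm (Fin 4)) 3) :=
    map_derivedSeries_le_derivedSeries ψ 3 (Subgroup.mem_map_of_mem ψ hg)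
  rw [derived_four, Subgroup.mem_bot] at hmem
  have hφ : φ g = 1 :=
    Equiv.Perm.viaEmbeddingHom_injective e (hmem.trans (map_one _).symm)
  exact congrArg Subtype.val (Equiv.Perm.congr_fun hφ ⟨x, hxA⟩)

end Cfsg.Agent.S4337
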