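import Cfsg.Statements.S4342
-- import your own Cfsg.Agent.* helpers here

set_option autoImplicit false
open Cfsg
open scoped Pointwise
set_option linter.style.haveILetI false

namespace Cfsg.Agent.S4342

/-- Let H be a normal subgroup of a finite group G and p a prime not dividing the index of H. Then the number of Sylow p-subgroups of H/Z(H) equals the number of Sylow p-subgroups of G. -/
theorem result {G : Type*} [Group G] [Finite G]
    (p : ℕ) [Fact p.Prime] (H : Subgroup G) [H.Normal] (hp : ¬ p ∣ H.index) :
    Nat.card (Sylow p (H ⧸ Subgroup.center H)) = Nat.card (Sylow p G) := by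
  have hall : ∀ P : Sylow p G, (P : Subgroup G) ≤ H := by
    intro P
    have h1 : Nat.card ((P : Subgroup G).map (QuotientGroup.mk' H)) ∣ Nat.card P :=
      (P : Subgroup G).card_map_dvd (QuotientGroup.mk' H)
    obtain ⟨k, hk⟩ := IsPGroup.iff_card.1 P.2
    rw [hk] at h1
    obtain ⟨j, -, hj⟩ := (Nat.dvd_prime_pow (Fact.out : p.Prime)).1 h1
    have h2 := Subgroup.card_subgroup_dvd_card ((P : Subgroup G).map (QuotientGroup.mk' H))
    rw [← Subgroup.index_eq_card, hj] at h2
    have : j = 0 := by
      by_contra h0
      exact hp ((dvd_pow_self p h0).trans h2)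
    subst this
    rw [pow_zero] at hj
    have h3 := Subgroup.eq_bot_of_card_eq _ hj
    intro x hx
    have : QuotientGroup.mk' H x = 1 := by
      have := Subgroup.mem_map_of_mem (QuotientGroup.mk' H) hx
      rwa [h3, Subgroup.mem_bot] at this
    exact (QuotientGroup.eq_one_iff x).1 this
  have e1 : Nat.card (Sylow p H) = Nat.card (Sylow p G) := by
    symm
    apply Nat.card_eq_of_bijective (fun P => P.subtype (hall P))
    refine ⟨fun P Q h => Sylow.subtype_injective h, fun R => ?_⟩
    obtain ⟨Q, hQ⟩ := Sylow.exists_comap_subtype_eq R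
    exact ⟨Q, Sylow.ext hQ⟩
  have hf : Function.Surjective (QuotientGroup.mk' (Subgroup.center H)) := QuotientGroup.mk'_surjective _
  rw [← e1]
  symm
  apply Nat.card_eq_of_bijective (fun P : Sylow p H => P.mapSurjective hf)
  refine ⟨fun P Q h => ?_, Sylow.mapSurjective_surjective hf p⟩
  have h' : (P : Subgroup H).map (QuotientGroup.mk' (Subgroup.center H)) =
      (Q : Subgroup H).map (QuotientGroup.mk' (Subgroup.center H)) := congrArg Sylow.toSubgroup h
  rw [Subgroup.map_eq_map_iff, QuotientGroup.ker_mk'] at h'
  have hz : Subgroup.center H ≤ Subgroup.normalizer ((Q : Subgroup H) : Set H) :=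
    fun z hz => Subgroup.center_le_normalizer _ hz
  have hPle : (P : Subgroup H) ≤ Subgroup.normalizer ((Q : Subgroup H) : Set H) :=
    (le_sup_left.trans h'.le).trans (sup_le Subgroup.le_normalizer hz)
  have := P.2.inf_normalizer_sylow Q
  rw [Sylow.coe_coe] at *
  have hle : (P : Subgroup H) ≤ Q := by
    rw [inf_eq_left.2 hPle] at this
    exact inf_eq_left.1 this.symm
  exact Sylow.ext (P.3 Q.2 hle).symm

end Cfsg.Agent.S4342
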