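import Cfsg.Statements.S4344
-- import your own Cfsg.Agent.* helpers here

set_option autoImplicit false
open Cfsg
open scoped Pointwise
set_option linter.style.haveILetI false

namespace Cfsg.Agent.S4344

/-- Let S be a finite non-abelian simple group, M a maximal subgroup of S and C a cyclic normal subgroup of M. If a Sylow p-subgroup P of S (for a prime p dividing the order of S) is contained in C, then the number of Sylow p-subgroups of S equals the index of M. -/
theorem result {S : Type*} [Group S] [Finite S]
    [IsSimpleGroup S] (hS : ¬ IsMulCommutative S) (p : ℕ) [Fact p.Prime] (hp : p ∣ Nat.card S)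
    (M : Subgroup S) (hM : IsCoatom M) (C : Subgroup S) (hCM : C ≤ M) (hCn : (C.subgroupOf M).Normal)
    (hC : IsCyclic C) (P : Sylow p S) (hP : (P : Subgroup S) ≤ C) :
    Nat.card (Sylow p S) = M.index := by
  haveI : IsCyclic C := hC
  haveI : Subsingleton (Sylow p C) := by
    have : ∀ R : Sylow p C, R = default := fun R => by
      obtain ⟨c, hc⟩ := MulAction.exists_smul_eq C (default : Sylow p C) R
      have : ((default : Sylow p C) : Subgroup C).Normal := by
        constructor
        intro n hn g
        letI : CommGroup C := IsCyclic.commGroup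
        rwa [mul_comm g n, mul_inv_cancel_right]
      rw [← hc, Sylow.smul_eq_of_normal]
    exact ⟨fun a b => (this a).trans (this b).symm⟩
  have hle : M ≤ Subgroup.normalizer ((P : Subgroup S) : Set S) := by
    intro m hm
    apply Sylow.smul_eq_iff_mem_normalizer.1
    have h2 : ((m • P : Sylow p S) : Subgroup S) ≤ C := by
      rw [Sylow.coe_subgroup_smul]
      intro x hx
      obtain ⟨y, hy, rfl⟩ := Subgroup.mem_map.1 hx
      exact hCn.conj_mem ⟨y, hCM (hP hy)⟩ (hP hy) ⟨m, hm⟩
    exact Sylow.subtype_injective (hP := h2) (hQ := hP) (Subsingleton.elim _ _)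
  rcases lt_or_eq_of_le hle with hlt | heq
  · have htop := hM.2 _ hlt
    have hn : (P : Subgroup S).Normal := Subgroup.normalizer_eq_top_iff.1 htop
    rcases hn.eq_bot_or_eq_top with h | h
    · exact absurd h (P.ne_bot_of_dvd_card hp)
    · exfalso
      apply hS
      have : C = ⊤ := top_le_iff.1 (h ▸ hP)
      subst this
      letI : CommGroup (⊤ : Subgroup S) := IsCyclic.commGroup
      exact ⟨⟨fun a b => congrArg Subtype.val (mul_comm (⟨a, Subgroup.mem_top a⟩ : (⊤ : Subgroup S)) ⟨b, Subgroup.mem_top b⟩)⟩⟩
  · rw [Sylow.card_eq_index_normalizer P, heq, Sylow.coe_coe]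

end Cfsg.Agent.S4344
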