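import Cfsg.Statements.S4345
import Cfsg.Agent.Lib.SylowNumber.Basic

set_option autoImplicit false
open Cfsg
open scoped Pointwise
set_option linter.style.haveILetI false

namespace Cfsg.Agent.S4345

/-- Let G be a finite solvable group and p, ℓ primes. Then the largest power of ℓ dividing the number of Sylow p-subgroups of G is congruent to 1 modulo p. -/
theorem result {G : Type*} [Group G] [Finite G]
    (hG : Group.IsSolvable G) (p ℓ : ℕ) [Fact p.Prime] (hℓ : ℓ.Prime) :
    ℓ ^ (Nat.card (Sylow p G)).factorization ℓ ≡ 1 [MOD p] := by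
  obtain ⟨l, hl, hmem⟩ := CfsgLib.SylowNumber.exists_factors G p
  rw [← hl]
  have h1 : ∀ m ∈ l, m = 1 ∨ (IsPrimePow m ∧ m % p = 1) := by
    intro m hm
    rcases hmem m hm with h | ⟨S, i1, i2, hS, rfl, hsol⟩
    · exact Or.inr h
    · left
      haveI := hS
      haveI := hsol hG
      have hcomm := IsSimpleGroup.comm_iff_isSolvable.2 (hsol hG)
      obtain ⟨P⟩ := (inferInstance : Nonempty (Sylow p S))
      haveI : (P : Subgroup S).Normal := ⟨fun n hn g => by rwa [hcomm g n, mul_inv_cancel_right]⟩
      haveI := Sylow.unique_of_normal P inferInstance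
      exact Nat.card_unique
  clear hmem hl
  induction l with
  | nil => simp [Nat.ModEq]
  | cons m l ih =>
    have hl0 : l.prod ≠ 0 := by
      intro h
      rw [List.prod_eq_zero_iff] at h
      rcases h1 0 (List.mem_cons_of_mem m h) with h' | ⟨h', -⟩
      · exact one_ne_zero h'.symm
      · exact h'.ne_zero rfl
    have ih := ih (fun x hx => h1 x (List.mem_cons_of_mem m hx))
    rcases h1 m List.mem_cons_self with rfl | ⟨hpow, hmod⟩
    · rwa [List.prod_cons, one_mul]
    · rw [List.prod_cons, Nat.factorization_mul hpow.ne_zero hl0, Finsupp.add_apply, pow_add]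
      have hm1 : ℓ ^ m.factorization ℓ ≡ 1 [MOD p] := by
        obtain ⟨q, k, hq, -, rfl⟩ := (isPrimePow_nat_iff m).1 hpow
        rw [hq.factorization_pow]
        by_cases hqℓ : q = ℓ
        · subst hqℓ
          rw [Finsupp.single_eq_same, Nat.ModEq, hmod, Nat.one_mod_eq_one.2 (Fact.out : p.Prime).ne_one]
        · rw [Finsupp.single_eq_of_ne (Ne.symm hqℓ), pow_zero]
      simpa using hm1.mul ih

end Cfsg.Agent.S4345
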