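import Cfsg.Statements.S4346
import Cfsg.Agent.Lib.SylowNumber.Basic
import Cfsg.Agent.Lib.SylowNumber.TwentyTwo

set_option autoImplicit false
open Cfsg
open scoped Pointwise
set_option linter.style.haveILetI false

namespace Cfsg.Agent.S4346

/-- No finite group has exactly 22 Sylow 3-subgroups. -/
theorem result {G : Type*} [Group G] [Finite G] : Nat.card (Sylow 3 G) ≠ 22 := by
  haveI : Fact (Nat.Prime 3) := ⟨Nat.prime_three⟩
  intro hG
  obtain ⟨S, i1, i2, hS, hn⟩ := CfsgLib.SylowNumber.exists_simple_of_card_sylow G 3 (n := 22)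
    (by norm_num) (fun h => by
      obtain ⟨q, k, hq, hk, he⟩ := (isPrimePow_nat_iff 22).1 h
      have h2 : 2 ∣ q ^ k := he ▸ by norm_num
      have h11 : 11 ∣ q ^ k := he ▸ by norm_num
      have h2' := (Nat.prime_dvd_prime_iff_eq Nat.prime_two hq).1 (Nat.prime_two.dvd_of_dvd_pow h2)
      have hp11 : Nat.Prime 11 := by norm_num
      have h11' := (Nat.prime_dvd_prime_iff_eq hp11 hq).1 (hp11.dvd_of_dvd_pow h11)
      omega)
    (by decide) hG
  exact CfsgLib.SylowNumber.no_simple_twentytwo hn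

end Cfsg.Agent.S4346
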