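import Cfsg.Statements.S4347
-- import your own Cfsg.Agent.* helpers here

set_option autoImplicit false
open Cfsg
open scoped Pointwise
set_option linter.style.haveILetI false

namespace Cfsg.Agent.S4347

/-- Let G be a finite group and p a prime. Say a Sylow p-subgroup Q is redundant when every element of p-power order lies in some Sylow p-subgroup other than Q. Then G has no redundant Sylow p-subgroup if and only if some element of p-power order lies in exactly one Sylow p-subgroup. -/
theorem result {G : Type*} [Group G] [Finite G]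
    (p : ℕ) [Fact p.Prime] :
    (¬ ∃ Q : Sylow p G, ∀ x : G, (∃ k : ℕ, orderOf x = p ^ k) → ∃ P : Sylow p G, P ≠ Q ∧ x ∈ P) ↔
      ∃ x : G, (∃ k : ℕ, orderOf x = p ^ k) ∧ ∃! P : Sylow p G, x ∈ P := by
  constructor
  · intro h
    push Not at h
    obtain ⟨x, hx, hxQ⟩ := h default
    obtain ⟨k, hk⟩ := hx
    have hxp : IsPGroup p (Subgroup.zpowers x) := IsPGroup.of_card (by rw [Nat.card_zpowers, hk])
    obtain ⟨P, hP⟩ := hxp.exists_le_sylow
    have hxP : x ∈ P := hP (Subgroup.mem_zpowers x)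
    refine ⟨x, ⟨k, hk⟩, P, hxP, fun R hR => ?_⟩
    by_contra hne
    by_cases h1 : R = default
    · subst h1
      exact hxQ P (Ne.symm hne) hxP
    · exact hxQ R h1 hR
  · rintro ⟨x, ⟨k, hk⟩, P0, hP0, huniq⟩ ⟨Q, hQ⟩
    obtain ⟨g, hg⟩ := MulAction.exists_smul_eq G P0 Q
    obtain ⟨P, hPne, hP⟩ := hQ (MulAut.conj g x) ⟨k, by rw [MulEquiv.orderOf_eq, hk]⟩
    apply hPne
    have hx : x ∈ (g⁻¹ • P : Sylow p G) := by
      have h1 : MulAut.conj g⁻¹ (MulAut.conj g x) ∈ MulAut.conj g⁻¹ • (P : Subgroup G) :=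
        Subgroup.smul_mem_pointwise_smul _ _ _ hP
      rw [map_inv, MulAut.inv_apply_self] at h1
      rw [← map_inv, ← Sylow.coe_subgroup_smul] at h1
      exact h1
    rw [← hg, ← huniq _ hx, smul_inv_smul]

end Cfsg.Agent.S4347
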