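import Cfsg.Statements.S4348
-- import your own Cfsg.Agent.* helpers here

set_option autoImplicit false
open Cfsg
open scoped Pointwise
set_option linter.style.haveILetI false

namespace Cfsg.Agent.S4348

/-- Let G be a finite group, p a prime and P a Sylow p-subgroup of G, and let O_p(G) be the largest normal p-subgroup of G. If P/O_p(G) is cyclic, then some element of p-power order of G lies in exactly one Sylow p-subgroup. -/
theorem result {G : Type*} [Group G] [Finite G]
    (p : ℕ) [Fact p.Prime] (P : Sylow p G)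
    [hn : ((Cfsg.pCore p G).subgroupOf (P : Subgroup G)).Normal]
    (hc : IsCyclic ((P : Subgroup G) ⧸ (Cfsg.pCore p G).subgroupOf (P : Subgroup G))) :
    ∃ x : G, (∃ k : ℕ, orderOf x = p ^ k) ∧ ∃! Q : Sylow p G, x ∈ Q := by
  haveI := hc
  obtain ⟨y, hy⟩ := IsCyclic.exists_generator (α := (P : Subgroup G) ⧸ (Cfsg.pCore p G).subgroupOf (P : Subgroup G))
  obtain ⟨x, rfl⟩ := QuotientGroup.mk_surjective y
  refine ⟨(x : G), ?_, P, x.2, fun Q hQ => ?_⟩
  · obtain ⟨k, hk⟩ := (IsPGroup.iff_orderOf.1 P.2) x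
    exact ⟨k, by rw [Subgroup.orderOf_coe, hk]⟩
  · haveI hnorm : (Cfsg.pCore p G).Normal := Subgroup.sSup_normal _ (fun H hH => hH.1)
    have hp : IsPGroup p (Cfsg.pCore p G) := Sylow.sSup_of_normal _ (fun H hH => hH.2) (fun H hH => hH.1)
    have hcore : Cfsg.pCore p G ≤ (Q : Subgroup G) := hp.le_sylow_of_normal Q
    have hle : (P : Subgroup G) ≤ Q := by
      intro z hz
      obtain ⟨i, hi⟩ := Subgroup.mem_zpowers_iff.1 (hy (QuotientGroup.mk ⟨z, hz⟩))
      rw [← QuotientGroup.mk_zpow, QuotientGroup.eq] at hi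
      have h1 : ((x : G) ^ i)⁻¹ * z ∈ (Q : Subgroup G) := by
        have := hcore (Subgroup.mem_subgroupOf.1 hi)
        simpa using this
      have h2 : ((x : G) ^ i) * (((x : G) ^ i)⁻¹ * z) ∈ (Q : Subgroup G) :=
        (Q : Subgroup G).mul_mem ((Q : Subgroup G).zpow_mem hQ i) h1
      rwa [mul_inv_cancel_left] at h2
    exact Sylow.ext (P.3 Q.2 hle)

end Cfsg.Agent.S4348
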