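import Cfsg.Statements.S4349
import Cfsg.Agent.Lib.PrimRecog.SymSylowUnique

set_option autoImplicit false
open Cfsg

namespace Cfsg.Agent.S4349

/-- Let n ≥ 2 and let x be an element of 2-power order of the symmetric group of degree n. Then x lies in exactly one Sylow 2-subgroup if and only if x has at most two fixed points and the nontrivial cycles of x have pairwise different lengths. -/
theorem result (n : ℕ) (hn : 2 ≤ n)
    (x : Equiv.Perm (Fin n)) (hx : ∃ k : ℕ, orderOf x = 2 ^ k) :
    (∃! P : Sylow 2 (Equiv.Perm (Fin n)), x ∈ P) ↔ (n ≤ x.support.card + 2 ∧ x.cycleType.Nodup) := by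
  classical
  haveI : Fact (Nat.Prime 2) := ⟨Nat.prime_two⟩
  have hper : ∀ a, x a ≠ a → CfsgLib.PrimRecog.SymSylowUnique.per x a = (x.cycleOf a).support.card :=
    fun a ha => (Equiv.Perm.isCycle_cycleOf x ha).orderOf
  have hiff : CfsgLib.PrimRecog.SymSylowUnique.Cond x ↔ (n ≤ x.support.card + 2 ∧ x.cycleType.Nodup) := by
    refine and_congr ⟨fun h => ?_, fun h a b c ha hb hc => ?_⟩ ⟨fun h => ?_, fun h a b ha hb hab => ?_⟩
    · by_contra hlt
      have : 2 < x.supportᶜ.card := by rw [Finset.card_compl, Fintype.card_fin]; omega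
      obtain ⟨a, b, c, ha, hb, hc, hab, hac, hbc⟩ := Finset.two_lt_card_iff.mp this
      simp only [Finset.mem_compl, Equiv.Perm.notMem_support] at ha hb hc
      rcases h a b c ha hb hc with e | e | e
      exacts [hab e, hac e, hbc e]
    · by_contra hne
      simp only [not_or] at hne
      have : 2 < x.supportᶜ.card := Finset.two_lt_card_iff.mpr ⟨a, b, c, by simpa using ha, by simpa using hb,
        by simpa using hc, hne.1, hne.2.1, hne.2.2⟩
      rw [Finset.card_compl, Fintype.card_fin] at this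
      omega
    · rw [Equiv.Perm.cycleType_def]
      refine Multiset.Nodup.map_on ?_ x.cycleFactorsFinset.nodup
      intro c hc d hd e
      replace hc : c ∈ x.cycleFactorsFinset := Finset.mem_val.mp hc
      replace hd : d ∈ x.cycleFactorsFinset := Finset.mem_val.mp hd
      obtain ⟨hcc, hcx⟩ := Equiv.Perm.mem_cycleFactorsFinset_iff.mp hc
      obtain ⟨hdc, hdx⟩ := Equiv.Perm.mem_cycleFactorsFinset_iff.mp hd
      obtain ⟨a, ha, -⟩ := hcc
      obtain ⟨b, hb, -⟩ := hdc
      have ec := Equiv.Perm.cycle_is_cycleOf (Equiv.Perm.mem_support.mpr ha) hc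
      have ed := Equiv.Perm.cycle_is_cycleOf (Equiv.Perm.mem_support.mpr hb) hd
      have ha' : x a ≠ a := fun e' => ha ((hcx a (Equiv.Perm.mem_support.mpr ha)).trans e')
      have hb' : x b ≠ b := fun e' => hb ((hdx b (Equiv.Perm.mem_support.mpr hb)).trans e')
      have hs := h a b ha' hb' (by
        rw [hper a ha', hper b hb', ← ec, ← ed]
        exact e)
      rw [ec, ed, hs.cycleOf_eq]
    · rw [Equiv.Perm.cycleType_def] at h
      rw [hper a ha, hper b hb] at hab
      have e := Multiset.inj_on_of_nodup_map h (x.cycleOf a)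
        (Finset.mem_val.mpr (Equiv.Perm.cycleOf_mem_cycleFactorsFinset_iff.mpr (Equiv.Perm.mem_support.mpr ha)))
        (x.cycleOf b) (Finset.mem_val.mpr (Equiv.Perm.cycleOf_mem_cycleFactorsFinset_iff.mpr (Equiv.Perm.mem_support.mpr hb))) hab
      by_contra hns
      have h1 : x.cycleOf a b = b := Equiv.Perm.cycleOf_apply_of_not_sameCycle hns
      rw [e, Equiv.Perm.cycleOf_apply_self] at h1
      exact hb h1
  rw [← hiff]
  constructor
  · exact CfsgLib.PrimRecog.SymSylowUnique.cond_of_unique _ le_rfl x hx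
  · intro h
    obtain ⟨k, hk⟩ := hx
    obtain ⟨P, hP⟩ := (IsPGroup.of_card (p := 2) (n := k)
      (show Nat.card (Subgroup.zpowers x) = 2 ^ k by rw [Nat.card_zpowers, hk])).exists_le_sylow
    exact ⟨P, hP (Subgroup.mem_zpowers x), fun Q hQ =>
      CfsgLib.PrimRecog.SymSylowUnique.unique_of_cond _ le_rfl x ⟨k, hk⟩ h Q P hQ (hP (Subgroup.mem_zpowers x))⟩

end Cfsg.Agent.S4349
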