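import Cfsg.Statements.S4354
import Cfsg.Agent.Lib.SylowNumber.Basic

set_option autoImplicit false
open Cfsg
open scoped Pointwise
set_option linter.style.haveILetI false

namespace Cfsg.Agent.S4354

/-- Let G be a finite group and p a prime such that the Sylow p-subgroups of G are non-abelian while every element of p-power order has conjugacy class size prime to p, and suppose no nontrivial proper normal subgroup N of G has this property and no quotient G/N by such an N has it. Then G is simple. -/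
theorem result {G : Type*} [Group G] [Finite G]
    (p : ℕ) [Fact p.Prime] (h : ((∃ P : Sylow p G, ¬ IsMulCommutative P) ∧ ∀ x : G, (∃ k : ℕ, orderOf x = p ^ k) → ¬ p ∣ (Subgroup.centralizer ({x} : Set G)).index))
    (hmin : ∀ (N : Subgroup G) [N.Normal], N ≠ ⊥ → N ≠ ⊤ →
      ¬ ((∃ P : Sylow p N, ¬ IsMulCommutative P) ∧ ∀ x : N, (∃ k : ℕ, orderOf x = p ^ k) → ¬ p ∣ (Subgroup.centralizer ({x} : Set N)).index) ∧
      ¬ ((∃ P : Sylow p (G ⧸ N), ¬ IsMulCommutative P) ∧ ∀ x : (G ⧸ N), (∃ k : ℕ, orderOf x = p ^ k) → ¬ p ∣ (Subgroup.centralizer ({x} : Set (G ⧸ N))).index)) :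
    IsSimpleGroup G := by
  classical
  obtain ⟨⟨P0, hP0⟩, hcl⟩ := h
  refine @IsSimpleGroup.mk _ _ ?_ ?_
  · by_contra hG
    rw [not_nontrivial_iff_subsingleton] at hG
    exact hP0 ⟨⟨fun a b => Subsingleton.elim _ _⟩⟩
  intro N hN
  by_contra hcon
  rw [not_or] at hcon
  obtain ⟨hbot, htop⟩ := hcon
  haveI := hN
  obtain ⟨h1, h2⟩ := hmin N hbot htop
  -- every `p`-element is conjugate into the centre of any Sylow subgroup
  have hcentral : ∀ (P : Sylow p G) (x : G), x ∈ P →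
      ∃ g : G, ∀ b ∈ P, b * (g * x * g⁻¹) = g * x * g⁻¹ * b := by
    intro P x hx
    obtain ⟨k, hk⟩ := IsPGroup.iff_orderOf.1 P.2 ⟨x, hx⟩
    rw [Subgroup.orderOf_mk] at hk
    set C := Subgroup.centralizer ({x} : Set G) with hC
    obtain ⟨Q⟩ := (inferInstance : Nonempty (Sylow p C))
    have hpg : IsPGroup p ((Q : Subgroup C).map C.subtype) := Q.2.map _
    have hidx : ¬ p ∣ ((Q : Subgroup C).map C.subtype).index := by
      rw [Subgroup.index_map_subtype]
      exact Nat.Prime.not_dvd_mul (Fact.out : p.Prime) Q.not_dvd_index (hcl x ⟨k, hk⟩)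
    obtain ⟨g, hg⟩ := MulAction.exists_smul_eq G (hpg.toSylow hidx) P
    refine ⟨g, fun b hb => ?_⟩
    have hb' : b ∈ ((g • hpg.toSylow hidx : Sylow p G) : Subgroup G) := hg ▸ hb
    rw [Sylow.coe_subgroup_smul] at hb'
    obtain ⟨c, hc, rfl⟩ := Subgroup.mem_map.1 hb'
    have hcC : c ∈ C := Subgroup.map_subtype_le _ hc
    have hcx : x * c = c * x := Subgroup.mem_centralizer_iff.1 hcC x rfl
    change g * c * g⁻¹ * (g * x * g⁻¹) = g * x * g⁻¹ * (g * c * g⁻¹)
    calc g * c * g⁻¹ * (g * x * g⁻¹) = g * (c * x) * g⁻¹ := by group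
      _ = g * (x * c) * g⁻¹ := by rw [hcx]
      _ = g * x * g⁻¹ * (g * c * g⁻¹) := by group
  -- the condition passes to `N` and to `G ⧸ N`
  have hNab : ∀ R : Sylow p N, IsMulCommutative R := by
    intro R
    by_contra hR
    refine h1 ⟨⟨R, hR⟩, fun x hx hd => ?_⟩
    obtain ⟨k, hk⟩ := hx
    refine hcl (x : G) ⟨k, by rw [Subgroup.orderOf_coe, hk]⟩ (hd.trans ?_)
    have e : Subgroup.centralizer ({x} : Set N) =
        (Subgroup.centralizer ({(x : G)} : Set G)).subgroupOf N := by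
      ext y
      rw [Subgroup.mem_subgroupOf, Subgroup.mem_centralizer_singleton_iff,
        Subgroup.mem_centralizer_singleton_iff, Subtype.ext_iff]
      rfl
    rw [e]
    change (Subgroup.centralizer ({(x : G)} : Set G)).relIndex N ∣ _
    rw [← CfsgLib.SylowNumber.relIndex_sup_eq_relIndex]
    exact Subgroup.relIndex_dvd_index_of_le le_sup_left
  set f := QuotientGroup.mk' N with hf
  have hfs : Function.Surjective f := QuotientGroup.mk'_surjective N
  have hQab : ∀ R : Sylow p (G ⧸ N), IsMulCommutative R := by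
    intro R
    by_contra hR
    refine h2 ⟨⟨R, hR⟩, fun x hx hd => ?_⟩
    obtain ⟨k, hk⟩ := hx
    have hxp : IsPGroup p (Subgroup.zpowers x) := IsPGroup.of_card (by rw [Nat.card_zpowers, hk])
    obtain ⟨T, hT⟩ := hxp.exists_le_sylow
    obtain ⟨P, rfl⟩ := Sylow.mapSurjective_surjective hfs p T
    obtain ⟨y, hy, rfl⟩ := Subgroup.mem_map.1 (hT (Subgroup.mem_zpowers x))
    obtain ⟨j, hj⟩ := IsPGroup.iff_orderOf.1 P.2 ⟨y, hy⟩
    rw [Subgroup.orderOf_mk] at hj
    refine hcl y ⟨j, hj⟩ (hd.trans ?_)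
    refine (Subgroup.index_dvd_of_le ?_).trans (Subgroup.index_map_dvd _ hfs)
    rintro _ ⟨c, hc, rfl⟩
    have hc' := Subgroup.mem_centralizer_singleton_iff.1 hc
    rw [Subgroup.mem_centralizer_singleton_iff, ← map_mul, hc', map_mul]
  -- so a Sylow subgroup is its centre times its intersection with `N`
  obtain ⟨Q, hQ⟩ := CfsgLib.SylowNumber.exists_sylow_map_eq_inf P0 N
  haveI := hNab Q
  haveI := hQab (P0.mapSurjective hfs)
  apply hP0
  have hdec : ∀ x ∈ P0, ∃ z ∈ P0, (∀ b ∈ P0, b * z = z * b) ∧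
      z⁻¹ * x ∈ (P0 : Subgroup G) ⊓ N := by
    intro x hx
    obtain ⟨g, hg⟩ := hcentral P0 x hx
    set z := g * x * g⁻¹ with hz
    have hzP : z ∈ P0 := by
      obtain ⟨k, hk⟩ := IsPGroup.iff_orderOf.1 P0.2 ⟨x, hx⟩
      rw [Subgroup.orderOf_mk] at hk
      have hzp : IsPGroup p (Subgroup.zpowers z) := IsPGroup.of_card (n := k) (by
        rw [Nat.card_zpowers, hz, show g * x * g⁻¹ = MulAut.conj g x from rfl,
          MulEquiv.orderOf_eq, hk])
      have hzN : z ∈ Subgroup.normalizer ((P0 : Subgroup G) : Set G) :=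
        Subgroup.centralizer_le_normalizer _ (Subgroup.mem_centralizer_iff.2 hg)
      exact ((hzp.inf_normalizer_sylow P0).le ⟨Subgroup.mem_zpowers z, hzN⟩).2
    have hmem : f z ∈ P0.mapSurjective hfs := Subgroup.mem_map_of_mem f hzP
    obtain ⟨n, hn, hn'⟩ := Sylow.conj_eq_normalizer_conj_of_mem (P0.mapSurjective hfs) (f x) (f g⁻¹)
      (Subgroup.mem_map_of_mem f hx) (by
        have : (f g⁻¹)⁻¹ * f x * f g⁻¹ = f z := by rw [hz]; simp
        rw [this]; exact hmem)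
    have hn'' : (f g⁻¹)⁻¹ * f x * f g⁻¹ = f z := by rw [hz]; simp
    rw [hn''] at hn'
    -- lift `n` to an element `m` of the normalizer of `P0`
    obtain ⟨m, rfl⟩ := hfs n
    have hm : m ∈ Subgroup.normalizer ((P0 : Subgroup G) : Set G) ⊔ N := by
      rw [← CfsgLib.SylowNumber.normalizer_sup_eq P0 N]
      have h5 : m ∈ (Subgroup.normalizer (((P0 : Subgroup G).map f : Subgroup (G ⧸ N)) :
          Set (G ⧸ N))).comap f := hn
      rwa [Subgroup.comap_normalizer_eq_of_surjective _ hfs, Subgroup.comap_map_eq,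
        hf, QuotientGroup.ker_mk'] at h5
    obtain ⟨m', hm', a, ha, rfl⟩ := Subgroup.mem_sup_of_normal_right.1 hm
    have hfa : f a = 1 := (QuotientGroup.eq_one_iff a).2 ha
    refine ⟨m' * z * m'⁻¹, (Subgroup.mem_normalizer_iff.1 hm' z).1 hzP, ?_,
      Subgroup.mem_inf.2 ⟨?_, ?_⟩⟩
    · intro b hb
      have hb' : m'⁻¹ * b * m' ∈ P0 := by
        have := (Subgroup.mem_normalizer_iff.1 (inv_mem hm') b).1 hb
        rwa [inv_inv] at this
      have h3 := hg _ hb'
      calc b * (m' * z * m'⁻¹) = m' * (m'⁻¹ * b * m' * z) * m'⁻¹ := by group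
        _ = m' * (z * (m'⁻¹ * b * m')) * m'⁻¹ := by rw [h3]
        _ = m' * z * m'⁻¹ * b := by group
    · exact mul_mem (inv_mem ((Subgroup.mem_normalizer_iff.1 hm' z).1 hzP)) hx
    · rw [← QuotientGroup.eq_one_iff (N := N)]
      change f ((m' * z * m'⁻¹)⁻¹ * x) = 1
      have hfm : f (m' * a) = f m' := by rw [map_mul, hfa, mul_one]
      rw [hfm] at hn'
      rw [map_mul, map_inv, inv_mul_eq_one, map_mul, map_mul, map_inv, show f z = _ from hn']
      group
  refine ⟨⟨fun ⟨a, ha⟩ ⟨b, hb⟩ => Subtype.ext ?_⟩⟩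
  obtain ⟨z, hz, hzc, hza⟩ := hdec a ha
  obtain ⟨w, hw, hwc, hwb⟩ := hdec b hb
  have hab : (z⁻¹ * a) * (w⁻¹ * b) = (w⁻¹ * b) * (z⁻¹ * a) := by
    rw [← hQ] at hza hwb
    obtain ⟨u, hu, hu'⟩ := Subgroup.mem_map.1 hza
    obtain ⟨v, hv, hv'⟩ := Subgroup.mem_map.1 hwb
    rw [← hu', ← hv', ← map_mul, ← map_mul]
    congr 1
    exact congrArg Subtype.val
      (‹IsMulCommutative (Q : Subgroup N)›.is_comm.comm ⟨u, hu⟩ ⟨v, hv⟩)
  have h3 : z⁻¹ * a * w = w * (z⁻¹ * a) := hwc _ (mul_mem (inv_mem hz) ha)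
  have h4 : w⁻¹ * b * z = z * (w⁻¹ * b) := hzc _ (mul_mem (inv_mem hw) hb)
  have h5 : z * w = w * z := (hzc w hw).symm
  calc a * b = z * ((z⁻¹ * a) * w) * (w⁻¹ * b) := by group
    _ = z * w * ((z⁻¹ * a) * (w⁻¹ * b)) := by rw [h3]; group
    _ = w * z * ((w⁻¹ * b) * (z⁻¹ * a)) := by rw [h5, hab]
    _ = w * (z * (w⁻¹ * b)) * (z⁻¹ * a) := by group
    _ = w * ((w⁻¹ * b) * z) * (z⁻¹ * a) := by rw [h4]
    _ = b * a := by group

end Cfsg.Agent.S4354
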