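import Cfsg.Statements.S4358
import Cfsg.Agent.Lib.Coprime.Basic

set_option autoImplicit false
open Cfsg

namespace Cfsg.Agent.S4358

section

variable {F : Type*} [Field F] {p : ℕ} [NeZero p]

/-- monomial matrices along a shift -/
def mon (d : Fin p → F) (k : Fin p) : Matrix (Fin p) (Fin p) F :=
  fun i j => if j = i + k then d i else 0

theorem mon_mul (d d' : Fin p → F) (k k' : Fin p) :
    mon d k * mon d' k' = mon (fun i => d i * d' (i + k)) (k + k') := by
  ext i j
  rw [Matrix.mul_apply, Finset.sum_eq_single (i + k)]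
  · by_cases h : j = i + k + k'
    · simp [mon, h, add_assoc]
    · have h' : ¬ j = i + (k + k') := fun e => h (by rw [e, add_assoc])
      simp [mon, h, h']
  · intro l _ hl
    simp [mon, hl]
  · simp

theorem mon_one : mon (fun _ => (1 : F)) (0 : Fin p) = 1 := by
  ext i j
  simp [mon, Matrix.one_apply, eq_comm]

theorem mon_pow (d : Fin p → F) (k : Fin p) (n : ℕ) :
    mon d k ^ n = mon (fun i => ∏ l ∈ Finset.range n, d (i + l • k)) (n • k) := by
  induction n with
  | zero => simp [mon_one]
  | succ n ih =>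
    rw [pow_succ, ih, mon_mul, succ_nsmul]
    simp only [Finset.prod_range_succ]

theorem det_mon (hp : Odd p) (d : Fin p → F) (k : Fin p) (hk : p • k = 0) :
    (mon d k).det = ∏ i, d i := by
  have h : mon d k = Matrix.diagonal d * (Equiv.addRight k).permMatrix F := by
    ext i j
    rw [Matrix.diagonal_mul]
    by_cases h : j = i + k
    · simp [mon, h, Equiv.Perm.permMatrix, PEquiv.toMatrix_apply]
    · simp [mon, h, Equiv.Perm.permMatrix, PEquiv.toMatrix_apply, Ne.symm h]
  have hs : Equiv.Perm.sign (Equiv.addRight k) = 1 := by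
    have hiter : ∀ n : ℕ, ∀ i, ((Equiv.addRight k : Equiv.Perm (Fin p)) ^ n) i = i + n • k := by
      intro n
      induction n with
      | zero => intro i; simp
      | succ n ih => intro i; rw [pow_succ', Equiv.Perm.mul_apply, ih, succ_nsmul, ← add_assoc]; rfl
    have e : (Equiv.addRight k : Equiv.Perm (Fin p)) ^ p = 1 := by
      ext1 i; rw [hiter, hk, add_zero, Equiv.Perm.one_apply]
    have e2 := congrArg Equiv.Perm.sign e
    rw [map_pow, map_one] at e2
    rcases Int.units_eq_one_or (Equiv.Perm.sign (Equiv.addRight k)) with h1 | h1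
    · exact h1
    · rw [h1, hp.neg_one_pow] at e2
      exact absurd e2 (by decide)
  rw [h, Matrix.det_mul, Matrix.det_diagonal, Matrix.det_permutation, hs]
  simp

end

theorem addOrder {p : ℕ} [Fact p.Prime] {k : Fin p} (hk : k ≠ 0) (n : ℕ) (h : n • k = 0) :
    p ∣ n := by
  have h1 : p • k = 0 := by
    have := card_nsmul_eq_zero (G := Fin p) (x := k); rwa [Fintype.card_fin] at this
  rw [← addOrderOf_eq_prime h1 hk]
  exact addOrderOf_dvd_of_nsmul_eq_zero h

/-- the Sylow subgroup -/
def monGroup (F : Type*) [Field F] [Fintype F] [DecidableEq F] (p : ℕ) [Fact p.Prime] :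
    Subgroup (Matrix.GeneralLinearGroup (Fin p) F) where
  carrier := {g | ∃ (d : Fin p → F) (k : Fin p), (∀ i, d i ^ p = 1) ∧
    (g : Matrix (Fin p) (Fin p) F) = mon d k}
  one_mem' := ⟨fun _ => 1, 0, fun _ => one_pow _, by rw [mon_one]; rfl⟩
  mul_mem' := fun {g g'} ⟨d, k, hd, hg⟩ ⟨d', k', hd', hg'⟩ =>
    ⟨fun i => d i * d' (i + k), k + k', fun i => by rw [mul_pow, hd, hd', one_mul], by
      rw [Units.val_mul, hg, hg', mon_mul]⟩
  inv_mem' := fun {g} ⟨d, k, hd, hg⟩ => by
    refine ⟨fun i => (d (i - k))⁻¹, -k, fun i => by rw [inv_pow, hd, inv_one], ?_⟩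
    refine Units.inv_eq_of_mul_eq_one_right ?_
    rw [hg, mon_mul, add_neg_cancel, ← mon_one]
    congr 1
    funext i
    rw [add_sub_cancel_right, mul_inv_cancel₀]
    intro h
    have h' := hd i
    rw [h, zero_pow (Fact.out : p.Prime).ne_zero] at h'
    exact zero_ne_one h'

theorem card_monGroup (F : Type*) [Field F] [Fintype F] [DecidableEq F] (p : ℕ) [Fact p.Prime]
    (hdiv : p ∣ Fintype.card F - 1) : Nat.card ↥(monGroup F p) = p ^ (p + 1) := by
  classical
  obtain ⟨z, hz⟩ := exists_prime_orderOf_dvd_card' (G := Fˣ) p (by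
    rw [Nat.card_eq_fintype_card, Fintype.card_units]; exact hdiv)
  have hpr := (Fact.out : p.Prime)
  have hroot : Nat.card {x : F // x ^ p = 1} = p := by
    have hzp : (z : F) ^ p = 1 := by rw [← Units.val_pow_eq_pow_val, ← hz, pow_orderOf_eq_one]; rfl
    have hprim : IsPrimitiveRoot (z : F) p := by
      refine IsPrimitiveRoot.coe_units_iff.2 ?_
      rw [← hz]; exact IsPrimitiveRoot.orderOf z
    rw [Nat.card_eq_fintype_card, Fintype.card_subtype]
    refine Eq.trans ?_ hprim.card_nthRootsFinset
    congr 1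
    ext x
    simp [Polynomial.mem_nthRootsFinset hpr.pos]
  have e : ((Fin p → {x : F // x ^ p = 1}) × Fin p) ≃ ↥(monGroup F p) := by
    refine Equiv.ofBijective (fun a => ⟨Matrix.GeneralLinearGroup.mkOfDetNeZero
        (mon (fun i => (a.1 i : F)) a.2) ?_, ⟨fun i => (a.1 i : F), a.2, fun i => (a.1 i).2, rfl⟩⟩)
      ⟨?_, ?_⟩
    · apply Matrix.det_ne_zero_of_right_inverse
        (B := mon (fun i => ((a.1 (i - a.2) : F))⁻¹) (-a.2))
      rw [mon_mul, add_neg_cancel, ← mon_one]
      congr 1
      funext i
      rw [add_sub_cancel_right, mul_inv_cancel₀]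
      intro h
      have h' := (a.1 i).2
      rw [h, zero_pow hpr.ne_zero] at h'
      exact zero_ne_one h'
    · rintro ⟨d, k⟩ ⟨d', k'⟩ h
      have h1 : mon (fun i => (d i : F)) k = mon (fun i => (d' i : F)) k' :=
        congrArg (fun g : ↥(monGroup F p) => ((g : Matrix.GeneralLinearGroup (Fin p) F) :
          Matrix (Fin p) (Fin p) F)) h
      have hk : k = k' := by
        by_contra hne
        have h2 := congrFun (congrFun h1 0) (0 + k)
        rw [mon, mon, if_pos rfl, if_neg (fun e => hne (add_left_cancel e))] at h2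
        have h' := (d 0).2
        rw [h2, zero_pow hpr.ne_zero] at h'
        exact zero_ne_one h'
      subst hk
      refine Prod.ext (funext fun i => Subtype.ext ?_) rfl
      have h2 := congrFun (congrFun h1 i) (i + k)
      rwa [mon, mon, if_pos rfl, if_pos rfl] at h2
    · rintro ⟨g, d, k, hd, hg⟩
      exact ⟨(fun i => ⟨d i, hd i⟩, k), Subtype.ext (Units.ext hg.symm)⟩
  rw [← Nat.card_congr e, Nat.card_prod, Nat.card_fun, hroot, Nat.card_fin, pow_succ]

theorem factorization_card_GL (F : Type*) [Field F] [Fintype F] (p : ℕ) [Fact p.Prime]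
    (hp : p ≠ 2) (h1 : p ∣ Fintype.card F - 1) (h2 : ¬ p ^ 2 ∣ Fintype.card F - 1) :
    (Nat.card (GL (Fin p) F)).factorization p = p + 1 := by
  have hpr := (Fact.out : p.Prime)
  have hq : 1 < Fintype.card F := Fintype.one_lt_card
  set q := Fintype.card F with hqdef
  have hnq : ¬ p ∣ q := fun h => hpr.not_dvd_one (by
    have := Nat.dvd_sub h h1
    rwa [show q - (q - 1) = 1 by omega] at this)
  have hv : padicValNat p (q - 1) = 1 := by
    have hd1 : 1 ≤ padicValNat p (q - 1) := one_le_padicValNat_of_dvd (by omega) h1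
    have hd2 : ¬ 2 ≤ padicValNat p (q - 1) := fun h =>
      h2 ((padicValNat_dvd_iff_le (by omega)).2 h)
    omega
  have hne : ∀ i : Fin p, q ^ p - q ^ (i : ℕ) ≠ 0 := fun i => by
    have := Nat.pow_lt_pow_right hq i.isLt
    omega
  rw [Matrix.card_GL_field, ← hqdef, Nat.factorization_def _ hpr]
  rw [← Nat.factorization_def _ hpr, Nat.factorization_prod fun i _ => hne i,
    Finsupp.finset_sum_apply]
  simp only [Nat.factorization_def _ hpr]
  have hterm : ∀ i : Fin p, padicValNat p (q ^ p - q ^ (i : ℕ)) =
      1 + padicValNat p (p - (i : ℕ)) := by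
    intro i
    have hi := i.isLt
    rw [show q ^ p - q ^ (i : ℕ) = q ^ (i : ℕ) * (q ^ (p - (i : ℕ)) - 1) by
      rw [Nat.mul_sub, mul_one, ← pow_add, Nat.add_sub_cancel' hi.le]]
    have hpos : q ^ (p - (i : ℕ)) - 1 ≠ 0 := by
      have := Nat.one_lt_pow (show p - (i : ℕ) ≠ 0 by omega) hq
      omega
    rw [padicValNat.mul (by positivity) hpos,
      padicValNat.eq_zero_of_not_dvd (fun h => hnq (hpr.dvd_of_dvd_pow h)), zero_add]
    have h := padicValNat.pow_sub_pow (p := p) (x := q) (y := 1) (hpr.odd_of_ne_two hp) hq h1 hnq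
      (n := p - (i : ℕ)) (by omega)
    rwa [one_pow, hv] at h
  rw [Finset.sum_congr rfl fun i _ => hterm i, Finset.sum_add_distrib, Finset.sum_const,
    Finset.card_univ, Fintype.card_fin, smul_eq_mul, mul_one]
  congr 1
  rw [Finset.sum_eq_single ⟨0, hpr.pos⟩]
  · simp
  · intro i _ hi
    apply padicValNat.eq_zero_of_not_dvd
    intro h
    have h0 : (i : ℕ) ≠ 0 := fun e => hi (Fin.ext e)
    have := Nat.le_of_dvd (by have := i.isLt; omega) h
    omega
  · simp

open Matrix in
theorem exists_conj_ne {F : Type*} [Field F] [Fintype F] [DecidableEq F] {p : ℕ} [Fact p.Prime]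
    (hp : p ≠ 2) (z : F) (hz : z ^ p = 1) (hz1 : z ≠ 1)
    (Q : Sylow p (GeneralLinearGroup (Fin p) F)) (hQ : (Q : Subgroup _) = monGroup F p)
    (u : GeneralLinearGroup (Fin p) F) (i j l : Fin p) (hjl : j ≠ l)
    (huj : (u : Matrix (Fin p) (Fin p) F) i j ≠ 0) (hul : (u : Matrix (Fin p) (Fin p) F) i l ≠ 0) :
    u • Q ≠ Q := by
  intro h
  have hpr := (Fact.out : p.Prime)
  have hodd := hpr.odd_of_ne_two hp
  let δ : Fin p → F := fun a => if a = j then z else 1
  have hδ : ∀ a, δ a ^ p = 1 := fun a => by by_cases e : a = j <;> simp [δ, e, hz]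
  have hdet : (mon δ 0).det = z := by
    rw [det_mon hodd _ _ (nsmul_zero _), Finset.prod_ite_eq' Finset.univ j (fun _ => z)]
    simp
  have hz0 : z ≠ 0 := fun e => by
    rw [e, zero_pow hpr.ne_zero] at hz; exact zero_ne_one hz
  let D : GeneralLinearGroup (Fin p) F :=
    GeneralLinearGroup.mkOfDetNeZero (mon δ 0) (by rw [hdet]; exact hz0)
  have hD : D ∈ (Q : Subgroup _) := by rw [hQ]; exact ⟨δ, 0, hδ, rfl⟩
  have hDp : D ^ p = 1 := by
    refine Units.ext ?_
    rw [Units.val_pow_eq_pow_val]
    show mon δ 0 ^ p = 1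
    rw [mon_pow, nsmul_zero, ← mon_one]
    congr 1
    funext a
    simp [hδ a]
  have hc : u * D * u⁻¹ ∈ (Q : Subgroup _) := by
    rw [← h, Sylow.coe_subgroup_smul, CfsgLib.Coprime.mem_conj_smul]
    simpa [mul_assoc] using hD
  rw [hQ] at hc
  obtain ⟨d', k', hd', he⟩ := hc
  have hk' : k' = 0 := by
    by_contra hk
    have hpk : p • k' = 0 := by
      have := card_nsmul_eq_zero (G := Fin p) (x := k'); rwa [Fintype.card_fin] at this
    have h1 : (mon d' k') ^ p = 1 := by
      rw [← he, ← Units.val_pow_eq_pow_val, conj_pow, hDp, mul_one, mul_inv_cancel, Units.val_one]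
    rw [mon_pow, hpk, ← mon_one] at h1
    have h2 := congrFun (congrFun h1 0) 0
    simp only [mon, add_zero, if_true, zero_add] at h2
    have hinj : Set.InjOn (fun l : ℕ => l • k') (Finset.range p : Set ℕ) := by
      intro a ha b hb hab
      simp only [Finset.coe_range, Set.mem_Iio] at ha hb
      by_contra hne
      rcases Nat.lt_or_ge a b with hlt | hge
      · have := Nat.le_of_dvd (by omega) (addOrder hk (b - a) (by
          apply add_left_cancel (a := a • k')
          rw [← add_nsmul, Nat.add_sub_cancel' hlt.le, add_zero]; exact hab.symm))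
        omega
      · have := Nat.le_of_dvd (by omega) (addOrder hk (a - b) (by
          apply add_left_cancel (a := b • k')
          rw [← add_nsmul, Nat.add_sub_cancel' hge, add_zero]; exact hab))
        omega
    have himg : (Finset.range p).image (fun l : ℕ => l • k') = Finset.univ := by
      apply Finset.eq_univ_of_card
      rw [Finset.card_image_of_injOn hinj, Finset.card_range, Fintype.card_fin]
    have h3 : ∏ a, d' a = 1 := by
      rw [← himg, Finset.prod_image hinj]; exact h2
    have h4 := congrArg Matrix.det he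
    rw [det_mon hodd _ _ hpk, h3, Units.val_mul, Units.val_mul, det_units_conj] at h4
    exact hz1 (hdet ▸ h4)
  subst hk'
  have e2 : (u : Matrix (Fin p) (Fin p) F) * mon δ 0 = mon d' 0 * (u : Matrix (Fin p) (Fin p) F) := by
    rw [← he, ← Units.val_mul, inv_mul_cancel_right, Units.val_mul]; rfl
  have hdiag : ∀ f : Fin p → F, mon f 0 = Matrix.diagonal f := fun f => by
    ext a b; simp [mon, Matrix.diagonal_apply, eq_comm]
  rw [hdiag, hdiag] at e2
  have ej := congrFun (congrFun e2 i) j
  have el := congrFun (congrFun e2 i) l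
  rw [mul_diagonal, diagonal_mul, mul_comm] at ej el
  rw [show δ j = z from if_pos rfl] at ej
  rw [show δ l = 1 from if_neg (Ne.symm hjl)] at el
  exact hz1 ((mul_right_cancel₀ huj ej).trans (mul_right_cancel₀ hul el).symm)

open Matrix in
theorem redundant {F : Type*} [Field F] [Fintype F] [DecidableEq F] {p : ℕ} [Fact p.Prime]
    (hp : p ≠ 2) (hdiv : p ∣ Fintype.card F - 1)
    (Q : Sylow p (GeneralLinearGroup (Fin p) F)) (hQ : (Q : Subgroup _) = monGroup F p)
    (x : GeneralLinearGroup (Fin p) F) (hx : x ∈ Q) : ∃ P, P ≠ Q ∧ x ∈ P := by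
  classical
  have hpr := (Fact.out : p.Prime)
  have hodd := hpr.odd_of_ne_two hp
  have hp3 : 3 ≤ p := by have := hpr.two_le; omega
  have hzero : ((p : F)) ≠ 0 := by
    intro h
    obtain ⟨n, hn, hc⟩ := FiniteField.card F (ringChar F)
    have h1 : ringChar F ∣ p := (ringChar.spec F p).1 h
    have h2 : ringChar F = p := (Nat.prime_dvd_prime_iff_eq hn hpr).1 h1
    rw [hc, h2] at hdiv
    have h3 : p ∣ p ^ (n : ℕ) := dvd_pow_self p n.pos.ne'
    have := Nat.dvd_sub h3 hdiv
    rw [show p ^ (n : ℕ) - (p ^ (n : ℕ) - 1) = 1 by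
      have := Nat.one_le_pow n p hpr.pos; omega] at this
    exact hpr.not_dvd_one this
  obtain ⟨zu, hzu⟩ := exists_prime_orderOf_dvd_card' (G := Fˣ) p (by
    rw [Nat.card_eq_fintype_card, Fintype.card_units]; exact hdiv)
  have hz : (zu : F) ^ p = 1 := by rw [← Units.val_pow_eq_pow_val, ← hzu, pow_orderOf_eq_one]; rfl
  have hz1 : (zu : F) ≠ 1 := fun e => by
    rw [Units.val_eq_one.1 e, orderOf_one] at hzu; exact hpr.one_lt.ne hzu
  -- elements commuting with a non-monomial matrix
  have key : ∀ y : GeneralLinearGroup (Fin p) F, y ∈ Q → ∀ (U : Matrix (Fin p) (Fin p) F),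
      U.det ≠ 0 → U * (y : Matrix (Fin p) (Fin p) F) = (y : Matrix (Fin p) (Fin p) F) * U →
      (∃ i j l, j ≠ l ∧ U i j ≠ 0 ∧ U i l ≠ 0) → ∃ P, P ≠ Q ∧ y ∈ P := by
    intro y hy U hU hcomm hrow
    obtain ⟨i, j, l, hjl, hj, hl⟩ := hrow
    let u := GeneralLinearGroup.mkOfDetNeZero U hU
    refine ⟨u • Q, exists_conj_ne hp _ hz hz1 Q hQ u i j l hjl hj hl, ?_⟩
    show y ∈ ((u • Q : Sylow p _) : Subgroup _)
    rw [Sylow.coe_subgroup_smul, CfsgLib.Coprime.mem_conj_smul]
    have hc : u * y = y * u := Units.ext hcomm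
    rwa [mul_assoc, ← hc, inv_mul_cancel_left]
  have hpk : ∀ k : Fin p, p • k = 0 := fun k => by
    have := card_nsmul_eq_zero (G := Fin p) (x := k); rwa [Fintype.card_fin] at this
  -- shifts
  have hshift : ∀ (y : GeneralLinearGroup (Fin p) F) (d : Fin p → F) (k : Fin p),
      (∀ a, d a ^ p = 1) → (y : Matrix (Fin p) (Fin p) F) = mon d k → k ≠ 0 →
      ∃ P, P ≠ Q ∧ y ∈ P := by
    intro y d k hd hy hk
    have hd0 : ∀ a, d a ≠ 0 := fun a e => by
      have := hd a; rw [e, zero_pow hpr.ne_zero] at this; exact zero_ne_one this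
    have hyQ : y ∈ Q := by
      show y ∈ (Q : Subgroup _)
      rw [hQ]; exact ⟨d, k, hd, hy⟩
    set s := mon d k with hs
    have hinj : Set.InjOn (fun l : ℕ => l • k) (Finset.range p : Set ℕ) := by
      intro a ha b hb hab
      simp only [Finset.coe_range, Set.mem_Iio] at ha hb
      by_contra hne
      rcases Nat.lt_or_ge a b with hlt | hge
      · have := Nat.le_of_dvd (by omega) (addOrder hk (b - a) (by
          apply add_left_cancel (a := a • k)
          rw [← add_nsmul, Nat.add_sub_cancel' hlt.le, add_zero]; exact hab.symm))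
        omega
      · have := Nat.le_of_dvd (by omega) (addOrder hk (a - b) (by
          apply add_left_cancel (a := b • k)
          rw [← add_nsmul, Nat.add_sub_cancel' hge, add_zero]; exact hab))
        omega
    set c := ∏ a, d a with hc
    have hsp : s ^ p = c • 1 := by
      rw [hs, mon_pow, hpk]
      ext a b
      simp only [mon, add_zero, Matrix.smul_apply, Matrix.one_apply, smul_eq_mul]
      by_cases hab : a = b
      · subst hab
        rw [if_pos rfl, if_pos rfl, mul_one, hc]
        refine Finset.prod_nbij (fun l => a + l • k) (fun _ _ => Finset.mem_univ _) ?_ ?_ (fun _ _ => rfl)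
        · intro u hu v hv huv
          exact hinj hu hv (add_left_cancel huv)
        · intro v _
          have himg : (Finset.range p).image (fun l : ℕ => l • k) = Finset.univ := by
            apply Finset.eq_univ_of_card
            rw [Finset.card_image_of_injOn hinj, Finset.card_range, Fintype.card_fin]
          obtain ⟨l, hl, he⟩ := Finset.mem_image.1 (himg ▸ Finset.mem_univ (v - a))
          exact ⟨l, hl, by show a + l • k = v; rw [he, add_sub_cancel]⟩
      · rw [if_neg (Ne.symm hab), if_neg hab, mul_zero]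
    by_cases hc1 : c = 1
    · -- use an idempotent
      rw [hc1, one_smul] at hsp
      set J := ∑ l ∈ Finset.range p, s ^ l with hJ
      have hsJ : s * J = J := by
        have h := geom_sum_mul s p
        rw [hsp, sub_self, ← hJ, mul_sub, mul_one, sub_eq_zero] at h
        have hcom : Commute s J := Commute.sum_right _ _ _ fun l _ => Commute.pow_right (Commute.refl s) l
        rw [hcom.eq, h]
      have hJs : J * s = J := by
        have h := geom_sum_mul s p
        rw [hsp, sub_self, ← hJ, mul_sub, mul_one, sub_eq_zero] at h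
        exact h
      have hsl : ∀ l, s ^ l * J = J := fun l => by
        induction l with
        | zero => rw [pow_zero, one_mul]
        | succ l ih => rw [pow_succ, mul_assoc, hsJ, ih]
      have hJJ : J * J = (p : F) • J := by
        conv_lhs => arg 1; rw [hJ]
        rw [Finset.sum_mul, Finset.sum_congr rfl fun l _ => hsl l, Finset.sum_const,
          Finset.card_range, Nat.cast_smul_eq_nsmul]
      obtain ⟨b, hb0, hb1⟩ : ∃ b : F, b ≠ 0 ∧ 1 + (p : F) * b ≠ 0 := by
        by_contra hcon
        push Not at hcon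
        have h1 := hcon 1 one_ne_zero
        have h2 := hcon _ zu.ne_zero
        exact hz1 (mul_left_cancel₀ hzero (by linear_combination h2 - h1))
      set b' := -b / (1 + (p : F) * b) with hb'
      have hbb : b + b' + (p : F) * b * b' = 0 := by
        have := mul_div_cancel₀ (-b) hb1
        rw [← hb'] at this
        linear_combination this
      refine key y hyQ (1 + b • J) ?_ ?_ ?_
      · apply det_ne_zero_of_right_inverse (B := 1 + b' • J)
        rw [add_mul, mul_add, mul_add, one_mul, one_mul, mul_one, smul_mul_smul_comm, hJJ,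
          smul_smul, add_assoc, ← add_smul, ← add_smul,
          show b' + (b + b * b' * (p : F)) = 0 from by linear_combination hbb, zero_smul, add_zero]
      · rw [hy, add_mul, mul_add, one_mul, mul_one, smul_mul_assoc, mul_smul_comm, hJs, hsJ]
      · have hentry : ∀ n, n < p → n ≠ 0 → (1 + b • J) 0 (n • k) ≠ 0 := by
          intro n hn hn0
          have hnk : n • k ≠ 0 := fun e => by
            have := Nat.le_of_dvd (by omega) (addOrder hk n e); omega
          rw [Matrix.add_apply, Matrix.one_apply, if_neg (Ne.symm hnk), zero_add, Matrix.smul_apply, smul_eq_mul, hJ,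
            Matrix.sum_apply, Finset.sum_eq_single n]
          · rw [hs, mon_pow, mon, zero_add, if_pos rfl]
            exact mul_ne_zero hb0 (Finset.prod_ne_zero_iff.2 fun l _ => hd0 _)
          · intro l hl hln
            rw [hs, mon_pow, mon, zero_add, if_neg]
            intro e
            exact hln (hinj (Finset.mem_coe.2 hl) (Finset.mem_coe.2 (Finset.mem_range.2 hn)) e.symm)
          · intro h; exact absurd (Finset.mem_range.2 hn) h
        refine ⟨0, 1 • k, 2 • k, fun e => ?_, hentry 1 (by omega) one_ne_zero,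
          hentry 2 (by omega) two_ne_zero⟩
        have := hinj (Finset.mem_coe.2 (Finset.mem_range.2 (by omega : 1 < p)))
          (Finset.mem_coe.2 (Finset.mem_range.2 (by omega : 2 < p))) e
        omega
    · refine key y hyQ (1 + s) ?_ ?_ ⟨0, 0, k, Ne.symm hk, ?_, ?_⟩
      · have h := geom_sum_mul (-s) p
        rw [hodd.neg_pow, hsp] at h
        have h' : (1 + s) * (∑ i ∈ Finset.range p, (-s) ^ i) = (1 + c) • (1 : Matrix _ _ F) := by
          have hcom : Commute (1 + s) (∑ i ∈ Finset.range p, (-s) ^ i) :=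
            Commute.sum_right _ _ _ fun i _ => (((Commute.one_left s).add_left (Commute.refl s)).neg_right).pow_right i
          rw [hcom.eq]
          calc (∑ i ∈ Finset.range p, (-s) ^ i) * (1 + s)
              = -((∑ i ∈ Finset.range p, (-s) ^ i) * (-s - 1)) := by rw [← mul_neg]; congr 1; abel
            _ = _ := by rw [h, add_smul, one_smul]; abel
        intro h0
        have h'' := congrArg Matrix.det h'
        rw [det_mul, h0, zero_mul, det_smul, det_one, mul_one] at h''
        have hcm1 : c = -1 := eq_neg_of_add_eq_zero_right ((pow_eq_zero_iff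
          (by rw [Fintype.card_fin]; exact hpr.ne_zero)).1 h''.symm)
        have hcp : c ^ p = 1 := by rw [hc, ← Finset.prod_pow]; exact Finset.prod_eq_one fun a _ => hd a
        rw [hcm1, hodd.neg_one_pow] at hcp
        exact hc1 (by rw [hcm1, hcp])
      · rw [hy, add_mul, mul_add, one_mul, mul_one]
      · simp [hs, mon, Ne.symm hk]
      · simp [hs, mon, Ne.symm hk, hd0 0]
  obtain ⟨d, k, hd, hy⟩ := hQ ▸ (show x ∈ (Q : Subgroup _) from hx)
  by_cases hk : k = 0
  swap
  · exact hshift x d k hd hy hk
  subst hk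
  by_cases hrep : Function.Injective d
  · -- conjugate to a shift
    have hd0 : ∀ a, d a ≠ 0 := fun a e => by
      have := hd a; rw [e, zero_pow hpr.ne_zero] at this; exact zero_ne_one this
    let v : Fin p → F := fun a => (d a)⁻¹
    have hv : Function.Injective v := fun a b h => hrep (inv_injective h)
    let M : GeneralLinearGroup (Fin p) F :=
      GeneralLinearGroup.mkOfDetNeZero (vandermonde v) (det_vandermonde_ne_zero_iff.2 hv)
    let σ : GeneralLinearGroup (Fin p) F :=
      GeneralLinearGroup.mkOfDetNeZero (mon (fun _ => 1) 1) (by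
        rw [det_mon hodd _ _ (hpk 1)]; simp)
    have hMσ : x = M * σ * M⁻¹ := by
      rw [eq_mul_inv_iff_mul_eq]
      refine Units.ext ?_
      show (x : Matrix (Fin p) (Fin p) F) * vandermonde v = vandermonde v * mon (fun _ => 1) 1
      rw [hy]
      ext a b
      rw [mul_apply, mul_apply, Finset.sum_eq_single a, Finset.sum_eq_single (b - 1)]
      · simp only [mon, add_zero, if_true, sub_add_cancel, vandermonde_apply, mul_one]
        have hvp : v a ^ p = 1 := by rw [inv_pow, hd a, inv_one]
        have hmod : v a ^ ((b - 1 : Fin p) : ℕ) * v a = v a ^ (b : ℕ) := by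
          rw [← pow_succ, pow_eq_pow_mod _ hvp]
          congr 1
          have h := Fin.val_add (b - 1) (1 : Fin p)
          rw [sub_add_cancel, Fin.val_one', Nat.mod_eq_of_lt (by omega : 1 < p)] at h
          exact h.symm
        rw [← hmod, mul_comm (v a ^ ((b - 1 : Fin p) : ℕ)), ← mul_assoc, mul_inv_cancel₀ (hd0 a),
          one_mul]
      · intro c _ hc
        rw [mon, if_neg (fun e => hc (by rw [e, add_sub_cancel_right])), mul_zero]
      · simp
      · intro c _ hc
        rw [mon, add_zero, if_neg hc, zero_mul]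
      · simp
    have hσQ : σ ∈ Q := by
      show σ ∈ (Q : Subgroup _)
      rw [hQ]; exact ⟨fun _ => 1, 1, fun _ => one_pow _, rfl⟩
    obtain ⟨P, hP, hσP⟩ := hshift σ (fun _ => 1) 1 (fun _ => one_pow _) rfl (fun e => by
      have := congrArg Fin.val e
      rw [Fin.val_one', Nat.mod_eq_of_lt (by omega : 1 < p), Fin.val_zero] at this
      omega)
    have hmem : ∀ R : Sylow p (GeneralLinearGroup (Fin p) F), σ ∈ R → x ∈ M • R := fun R hR => by
      show x ∈ ((M • R : Sylow p _) : Subgroup _)
      rw [Sylow.coe_subgroup_smul, CfsgLib.Coprime.mem_conj_smul, hMσ]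
      simpa [mul_assoc] using (show σ ∈ (R : Subgroup _) from hR)
    by_cases hMQ : M • Q = Q
    · exact ⟨M • P, fun e => hP (MulAction.injective M (e.trans hMQ.symm)), hmem P hσP⟩
    · exact ⟨M • Q, hMQ, hmem Q hσQ⟩
  · -- a transvection commutes
    rw [Function.not_injective_iff] at hrep
    obtain ⟨i, j, hij, hne⟩ := hrep
    refine key x hx (Matrix.transvection i j 1) ?_ ?_ ⟨i, i, j, hne, ?_, ?_⟩
    · rw [det_transvection_of_ne i j hne]; exact one_ne_zero
    · rw [hy]
      ext a b
      simp only [Matrix.transvection, add_mul, mul_add, one_mul, mul_one, Matrix.add_apply]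
      congr 1
      rw [mul_apply, mul_apply, Finset.sum_eq_single b, Finset.sum_eq_single a]
      · by_cases h1 : a = i
        · subst h1
          by_cases h2 : b = j
          · subst h2; simp [mon, Matrix.single, hij]
          · simp [mon, Matrix.single, Ne.symm h2]
        · simp [mon, Matrix.single, Ne.symm h1]
      · intro c _ hc; simp [mon, hc]
      · simp
      · intro c _ hc; simp [mon, Ne.symm hc]
      · simp
    · simp [Matrix.transvection, single_apply, hne, Ne.symm hne]
    · simp [Matrix.transvection, single_apply, hne, Ne.symm hne]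

/-- Let p be an odd prime and F a finite field with q elements such that p divides q - 1 but p² does not. Then GL(p, F) has a Sylow p-subgroup Q such that every element of p-power order lies in some Sylow p-subgroup other than Q (a redundant Sylow p-subgroup). -/
theorem result {F : Type*} [Field F] [Fintype F] (p : ℕ) [Fact p.Prime]
    (hp : p ≠ 2) (h1 : p ∣ Fintype.card F - 1) (h2 : ¬ p ^ 2 ∣ Fintype.card F - 1) :
    ∃ Q : Sylow p (Matrix.GeneralLinearGroup (Fin p) F), ∀ x : Matrix.GeneralLinearGroup (Fin p) F,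
      (∃ k : ℕ, orderOf x = p ^ k) → ∃ P : Sylow p (Matrix.GeneralLinearGroup (Fin p) F), P ≠ Q ∧ x ∈ P := by
  classical
  have hpow := card_monGroup F p h1
  rw [← factorization_card_GL F p hp h1 h2] at hpow
  refine ⟨Sylow.ofCard (monGroup F p) hpow, ?_⟩
  rintro x ⟨k, hk⟩
  obtain ⟨R, hR⟩ := (IsPGroup.of_card (p := p) (n := k)
    (show Nat.card ↥(Subgroup.zpowers x) = p ^ k by rw [Nat.card_zpowers, hk])).exists_le_sylow
  by_cases hRQ : R = Sylow.ofCard (monGroup F p) hpow
  · subst hRQ
    exact redundant hp h1 _ rfl x (hR (Subgroup.mem_zpowers x))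
  · exact ⟨R, hRQ, hR (Subgroup.mem_zpowers x)⟩

end Cfsg.Agent.S4358
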