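import Cfsg.Statements.S4359

set_option autoImplicit false
open Pointwise
open Cfsg

namespace Cfsg.Agent.S4359

open Subgroup

variable {G : Type*} [Group G]

/-- `U l` is the subgroup generated by `l` consecutive conjugates of `x`. -/
structure IsIntervalSystem (P : Subgroup G) (φ : MulAut G) (p t : ℕ) (U : ℕ → Subgroup G) (x : G) :
    Prop where
  zero : U 0 = ⊥
  one : U 1 = zpowers x
  succ : ∀ l, l < t → U l ≠ ⊥ → U (l + 1) = U l ⊔ φ • U l
  card : ∀ l, l ≤ t → Nat.card (U l) = p ^ l
  inter : ∀ l, l + 1 < t → U (l + 1) ⊓ φ • U (l + 1) = φ • U l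
  top : U t = (φ ^ ((t : ℤ) - 1)) • P

theorem card_smul (φ : MulAut G) (A : Subgroup G) : Nat.card (φ • A : Subgroup G) = Nat.card A :=
  (Nat.card_congr (Subgroup.equivSMul φ A).toEquiv).symm

theorem prime_step [Finite G] {p : ℕ} (hp : p.Prime) {A B C : Subgroup G} (hAB : A ≤ B)
    (hcard : Nat.card B = p * Nat.card A) (hAC : A ≤ C) {w : G} (hwB : w ∈ B) (hwC : w ∈ C)
    (hwA : w ∉ A) : B ≤ C := by
  have hlt : A < B ⊓ C := lt_of_le_of_ne (le_inf hAB hAC) fun h => hwA (h ▸ ⟨hwB, hwC⟩)
  obtain ⟨k, hk⟩ := Subgroup.card_dvd_of_le hlt.le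
  have h2 : k ∣ p := by
    have := Subgroup.card_dvd_of_le (inf_le_left : B ⊓ C ≤ B)
    rw [hk, hcard, mul_comm p] at this
    exact Nat.dvd_of_mul_dvd_mul_left Nat.card_pos this
  rcases (Nat.dvd_prime hp).mp h2 with rfl | rfl
  · exact absurd (Subgroup.eq_of_le_of_card_ge hlt.le (by rw [hk, mul_one])) hlt.ne
  · have := Subgroup.eq_of_le_of_card_ge (inf_le_left : B ⊓ C ≤ B) (by rw [hk, hcard, mul_comm])
    exact this ▸ inf_le_right

theorem conj_mem_of_card [Finite G] {p : ℕ} [Fact p.Prime] {A B : Subgroup G} (hAB : A ≤ B) {e : ℕ}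
    (hB : Nat.card B = p ^ (e + 1)) (hA : Nat.card B = p * Nat.card A) {a b : G} (ha : a ∈ A)
    (hb : b ∈ B) : b * a * b⁻¹ ∈ A := by
  have hidx : (A.subgroupOf B).index = (Nat.card B).minFac := by
    have h := Subgroup.card_mul_index (A.subgroupOf B)
    rw [Nat.card_congr (Subgroup.subgroupOfEquivOfLe hAB).toEquiv] at h
    rw [hB, Nat.pow_minFac (Nat.succ_ne_zero e), (Fact.out : p.Prime).minFac_eq]
    exact Nat.eq_of_mul_eq_mul_left Nat.card_pos (by rw [h, hA, mul_comm])
  exact (Subgroup.normal_of_index_eq_minFac_card hidx).conj_mem ⟨a, hAB ha⟩ ha ⟨b, hb⟩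

theorem commute_commutator (b a c : G) (hac : Commute c a)
    (hua : Commute (b * c * b⁻¹ * c⁻¹) a)
    (huw : Commute (b * c * b⁻¹ * c⁻¹) (b * a * b⁻¹ * a⁻¹)) : Commute c (b * a * b⁻¹ * a⁻¹) := by
  set u := b * c * b⁻¹ * c⁻¹ with hu
  set w := b * a * b⁻¹ * a⁻¹ with hw
  have h1 : Commute (u * c) (w * a) := by
    have := hac.map (MulAut.conj b).toMonoidHom
    simpa [hu, hw, MulAut.conj_apply, mul_assoc] using this
  have h2 : c * (w * a) = w * (c * a) := by
    apply mul_left_cancel (a := u)
    calc u * (c * (w * a)) = (u * c) * (w * a) := by group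
      _ = (w * a) * (u * c) := h1.eq
      _ = w * (a * u) * c := by group
      _ = w * (u * a) * c := by rw [hua.eq]
      _ = (w * u) * (a * c) := by group
      _ = (u * w) * (c * a) := by rw [huw.eq, hac.eq]
      _ = u * (w * (c * a)) := by group
  have h3 : (c * w) * a = (w * c) * a := (mul_assoc c w a).trans (h2.trans (mul_assoc w c a).symm)
  exact mul_right_cancel h3

/-- The intersection of `k + 1` consecutive images of `P`. -/
def window (P : Subgroup G) (φ : MulAut G) : ℕ → Subgroup G
  | 0 => P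
  | k + 1 => window P φ k ⊓ φ • window P φ k

theorem exists_interval [Finite G] (P : Subgroup G) (φ : MulAut G) (p : ℕ) [Fact p.Prime]
    (hN : ((P ⊓ φ • P).subgroupOf (φ • P)).Normal) (hidx : (P ⊓ φ • P).relIndex (φ • P) = p)
    (h1 : ∀ Q : Subgroup G, Q ≤ P → (Q.subgroupOf P).Normal → φ • Q = Q → Q = ⊥) :
    ∃ t : ℕ, Nat.card P = p ^ t ∧ 1 ≤ t ∧
      ∃ (U : ℕ → Subgroup G) (x : G), IsIntervalSystem P φ p t U x := by
  classical
  have hp : p.Prime := Fact.out
  obtain ⟨V, hV0, hVs⟩ : ∃ V : ℕ → Subgroup G, V 0 = P ∧ ∀ k, V (k + 1) = V k ⊓ φ • V k :=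
    ⟨window P φ, rfl, fun k => rfl⟩
  have hVP : ∀ k, V k ≤ P := by
    intro k
    induction k with
    | zero => rw [hV0]
    | succ k ih => rw [hVs]; exact inf_le_left.trans ih
  have hVP' : ∀ k, V (k + 1) = P ⊓ φ • V k := by
    intro k
    induction k with
    | zero => rw [hVs, hV0]
    | succ k ih =>
      have hle : φ • V (k + 1) ≤ φ • V k :=
        Subgroup.pointwise_smul_le_pointwise_smul_iff.mpr (by rw [hVs]; exact inf_le_left)
      calc V (k + 1 + 1) = V (k + 1) ⊓ φ • V (k + 1) := hVs (k + 1)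
        _ = (P ⊓ φ • V k) ⊓ φ • V (k + 1) := by rw [← ih]
        _ = P ⊓ φ • V (k + 1) := by rw [inf_assoc, inf_eq_right.mpr hle]
  have hrel : ∀ k, (V (k + 1)).relIndex (φ • V k) ∣ p := by
    intro k
    have hle : φ • V k ≤ φ • P := Subgroup.pointwise_smul_le_pointwise_smul_iff.mpr (hVP k)
    have e : V (k + 1) = (P ⊓ φ • P) ⊓ φ • V k := by
      rw [hVP', inf_assoc, inf_eq_right.mpr hle]
    rw [e, Subgroup.inf_relIndex_right]
    haveI := hN
    calc (P ⊓ φ • P).relIndex (φ • V k)
        = ((P ⊓ φ • P).subgroupOf (φ • P)).relIndex ((φ • V k).subgroupOf (φ • P)) :=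
          (Subgroup.relIndex_subgroupOf hle).symm
      _ ∣ ((P ⊓ φ • P).subgroupOf (φ • P)).index := Subgroup.relIndex_dvd_index_of_normal _ _
      _ = p := hidx
  have hcase : ∀ k, Nat.card ↥(V k : Subgroup G) = Nat.card ↥(V (k + 1) : Subgroup G) ∨
      Nat.card ↥(V k : Subgroup G) = p * Nat.card ↥(V (k + 1) : Subgroup G) := by
    intro k
    have h := Subgroup.card_mul_index ((V (k + 1)).subgroupOf (φ • V k))
    rw [Nat.card_congr (Subgroup.subgroupOfEquivOfLe (by rw [hVP']; exact inf_le_right :
      V (k + 1) ≤ φ • V k)).toEquiv, card_smul] at h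
    rcases (Nat.dvd_prime hp).mp (hrel k) with h' | h' <;>
      rw [Subgroup.relIndex] at h' <;> rw [h'] at h
    · left; omega
    · right; rw [← h, mul_comm]
  have hex : ∃ k, Nat.card ↥(V k : Subgroup G) = Nat.card ↥(V (k + 1) : Subgroup G) := by
    by_contra! hne
    have hdesc : ∀ k, Nat.card ↥(V k : Subgroup G) + k ≤ Nat.card P := by
      intro k
      induction k with
      | zero => simp [hV0]
      | succ k ih =>
        have := Subgroup.card_le_card_group (V k)
        have h2 : Nat.card (V (k + 1)) ≤ Nat.card (V k) :=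
          Nat.le_of_dvd Nat.card_pos (Subgroup.card_dvd_of_le (by rw [hVs]; exact inf_le_left : V (k + 1) ≤ V k))
        have := hne k
        omega
    have := hdesc (Nat.card P)
    have : 0 < Nat.card (V (Nat.card P)) := Nat.card_pos
    omega
  set t := Nat.find hex with ht
  have hfall : ∀ k, k < t → Nat.card (V k) = p * Nat.card (V (k + 1)) := fun k hk =>
    (hcase k).resolve_left (Nat.find_min hex hk)
  have hR : φ • V t = V t := by
    have h1 : V (t + 1) = V t :=
      Subgroup.eq_of_le_of_card_ge (by rw [hVs]; exact inf_le_left) (Nat.find_spec hex).le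
    have h2 : V (t + 1) = φ • V t :=
      Subgroup.eq_of_le_of_card_ge (by rw [hVs]; exact inf_le_right) (by rw [card_smul, ← h1])
    rw [← h2, h1]
  have hmem : ∀ (ψ : MulAut G) (A : Subgroup G) (y : G), y ∈ A → ψ y ∈ ψ • A :=
    fun ψ A y hy => Subgroup.smul_mem_pointwise_smul y ψ A hy
  -- elements of order prime to `p` lie in the stable window
  have hchain : ∀ k, k ≤ t → ∀ y ∈ P, (orderOf y).Coprime p → (φ ^ k) y ∈ V k := by
    intro k
    induction k with
    | zero => intro _ y hy _; simpa [hV0] using hy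
    | succ k ih =>
      intro hk y hy hco
      have h3 : (φ ^ (k + 1)) y ∈ φ • V k := by
        rw [pow_succ']
        exact hmem φ _ _ (ih (by omega) y hy hco)
      haveI : ((V (k + 1)).subgroupOf (φ • V k)).Normal := by
        haveI := hN
        have hle : φ • V k ≤ φ • P := Subgroup.pointwise_smul_le_pointwise_smul_iff.mpr (hVP k)
        refine ⟨fun a ha b => ?_⟩
        rw [Subgroup.mem_subgroupOf, hVP'] at ha ⊢
        exact Subgroup.mem_inf.mpr ⟨(hN.conj_mem ⟨a, hle a.2⟩ ⟨ha.1, hle a.2⟩ ⟨b, hle b.2⟩).1,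
          mul_mem (mul_mem b.2 a.2) (inv_mem b.2)⟩
      set W := (V (k + 1)).subgroupOf (φ • V k) with hW
      have h4 : orderOf (QuotientGroup.mk' W ⟨_, h3⟩) = 1 := by
        refine Nat.eq_one_of_dvd_coprimes hco ?_ ?_
        · refine (orderOf_map_dvd _ _).trans (dvd_of_eq ?_)
          rw [← orderOf_coe (⟨_, h3⟩ : (φ • V k : Subgroup G))]
          exact orderOf_injective (φ ^ (k + 1)).toMonoidHom (φ ^ (k + 1)).injective y
        · exact (_root_.orderOf_dvd_natCard _).trans (hrel k)
      rw [orderOf_eq_one_iff, QuotientGroup.mk'_apply, QuotientGroup.eq_one_iff] at h4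
      exact h4
  have hfix : ∀ k : ℕ, (φ ^ k) • V t = V t := by
    intro k
    induction k with
    | zero => simp
    | succ k ih => rw [pow_succ, mul_smul, hR, ih]
  have hcop : ∀ y ∈ P, (orderOf y).Coprime p → y ∈ V t := by
    intro y hy hco
    have h := hchain t le_rfl y hy hco
    rw [← hfix t] at h
    exact Subgroup.smul_mem_pointwise_smul_iff.mp h
  set O := Subgroup.closure {y : G | y ∈ V t ∧ (orderOf y).Coprime p} with hO
  have hObot : O = ⊥ := by
    have hOP : O ≤ P := (Subgroup.closure_le _).mpr fun y hy => hVP t hy.1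
    refine h1 O hOP ⟨fun a ha b => ?_⟩ ?_
    · rw [Subgroup.mem_subgroupOf] at ha ⊢
      have hle : O.map (MulAut.conj (b : G)).toMonoidHom ≤ O := by
        rw [hO, MonoidHom.map_closure, Subgroup.closure_le]
        rintro _ ⟨y, ⟨hy, hco⟩, rfl⟩
        refine Subgroup.subset_closure ?_
        have hco' : (orderOf ((MulAut.conj (b : G)).toMonoidHom y)).Coprime p := by
          rw [orderOf_injective _ (MulAut.conj (b : G)).injective y]; exact hco
        exact ⟨hcop _ (mul_mem (mul_mem b.2 (hVP t hy)) (inv_mem b.2)) hco', hco'⟩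
      exact hle ⟨a, ha, rfl⟩
    · rw [hO, Subgroup.smul_closure]
      congr 1
      ext y
      rw [Set.mem_smul_set_iff_inv_smul_mem]
      have e : φ⁻¹ • y ∈ V t ↔ y ∈ V t := by
        conv_rhs => rw [← hR]
        exact Subgroup.mem_pointwise_smul_iff_inv_smul_mem.symm
      have e2 : orderOf (φ⁻¹ • y) = orderOf y :=
        orderOf_injective (φ⁻¹).toMonoidHom (φ⁻¹).injective y
      simp only [Set.mem_ofPred_eq, e, e2]
  have hPp : IsPGroup p P := by
    apply IsPGroup.of_card (n := (Nat.card P).primeFactorsList.length)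
    refine Nat.eq_prime_pow_of_unique_prime_dvd Nat.card_pos.ne' fun {r} hr hrd => ?_
    by_contra hne
    haveI : Fact r.Prime := ⟨hr⟩
    obtain ⟨⟨y, hy⟩, hord⟩ := exists_prime_orderOf_dvd_card' r hrd
    have hyo : orderOf y = r := by rw [← hord, ← orderOf_coe (⟨y, hy⟩ : P)]
    have hco : (orderOf y).Coprime p := hyo ▸ (Nat.coprime_primes hr hp).mpr hne
    have : y ∈ O := Subgroup.subset_closure ⟨hcop y hy hco, hco⟩
    rw [hObot, Subgroup.mem_bot] at this
    rw [this, orderOf_one] at hyo
    exact hr.ne_one hyo.symm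
  have hpow : ∀ k, ∃ e, Nat.card (V k) = p ^ e := fun k => IsPGroup.iff_card.mp (hPp.to_le (hVP k))
  -- the join of two consecutive windows
  have hjoin : ∀ k, k + 1 < t → φ • V k = V (k + 1) ⊔ φ • V (k + 1) := by
    intro k hk
    have h1' : V (k + 1) ≤ φ • V k := by rw [hVs]; exact inf_le_right
    have h2' : φ • V (k + 1) ≤ φ • V k :=
      Subgroup.pointwise_smul_le_pointwise_smul_iff.mpr (by rw [hVs]; exact inf_le_left)
    refine le_antisymm ?_ (sup_le h1' h2')
    obtain ⟨w, hw, hwA⟩ : ∃ w ∈ φ • V (k + 1), w ∉ V (k + 1) := by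
      by_contra! hcon
      have h3 : φ • V (k + 1) = V (k + 1) := Subgroup.eq_of_le_of_card_ge hcon (by rw [card_smul])
      have h4 := hfall (k + 1) hk
      rw [hVs (k + 1), h3, inf_idem] at h4
      have : 0 < Nat.card (V (k + 1)) := Nat.card_pos
      nlinarith [hp.two_le]
    exact prime_step hp h1' (by rw [card_smul]; exact hfall k (by omega)) le_sup_left (h2' hw)
      (Subgroup.mem_sup_right hw) hwA
  have hsm : ∀ {ψ : MulAut G}, ψ • V t = V t → ∀ b ∈ Subgroup.normalizer (V t : Set G),
      ψ b ∈ Subgroup.normalizer (V t : Set G) := by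
    intro ψ hψ b hb
    rw [Subgroup.mem_normalizer_iff] at hb ⊢
    intro y
    obtain ⟨z, rfl⟩ := ψ.surjective y
    rw [← map_inv, ← map_mul, ← map_mul, ← hψ]
    exact Subgroup.smul_mem_pointwise_smul_iff.trans ((hb z).trans
      Subgroup.smul_mem_pointwise_smul_iff.symm)
  have hR' : φ⁻¹ • V t = V t := by
    conv_lhs => rw [← hR]
    rw [inv_smul_smul]
  have hnorm : ∀ d k, k + d = t → V k ≤ Subgroup.normalizer (V t : Set G) := by
    intro d
    induction d with
    | zero => intro k hk; rw [show k = t by omega]; exact Subgroup.le_normalizer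
    | succ d ih =>
      intro k hk
      have hstep : φ • V k ≤ Subgroup.normalizer (V t : Set G) := by
        by_cases hd : d = 0
        · -- a subgroup of index `p` in a `p`-group
          obtain ⟨e, he⟩ := hpow k
          have hkt : k + 1 = t := by omega
          have hle : V (k + 1) ≤ φ • V k := by rw [hVs]; exact inf_le_right
          have hf := hfall k (by omega)
          have he0 : e ≠ 0 := by
            rintro rfl
            rw [pow_zero] at he
            have : 0 < Nat.card (V (k + 1)) := Nat.card_pos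
            nlinarith [hp.two_le]
          obtain ⟨e, rfl⟩ := Nat.exists_eq_succ_of_ne_zero he0
          have hconj : ∀ a ∈ V (k + 1), ∀ b ∈ φ • V k, b * a * b⁻¹ ∈ V (k + 1) := fun a ha b hb =>
            conj_mem_of_card hle (e := e) (by rw [card_smul, he])
              (by rw [card_smul]; exact hf) ha hb
          intro b hb
          rw [← hkt, Subgroup.mem_normalizer_iff]
          intro a
          refine ⟨fun ha => hconj a ha b hb, fun ha => ?_⟩
          have := hconj _ ha b⁻¹ (inv_mem hb)
          simpa [mul_assoc] using this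
        · rw [hjoin k (by omega)]
          refine sup_le (ih (k + 1) (by omega)) ?_
          rintro _ ⟨b, hb, rfl⟩
          exact hsm hR b (ih (k + 1) (by omega) hb)
      intro b hb
      have h := hsm hR' _ (hstep (hmem φ _ _ hb))
      simpa using h
  have hbot : V t = ⊥ :=
    h1 _ (hVP t) ((Subgroup.normal_subgroupOf_iff_le_normalizer (hVP t)).mpr
      (by have := hnorm t 0 (by omega); rwa [hV0] at this)) hR
  have hcard : ∀ d k, k + d = t → Nat.card (V k) = p ^ d := by
    intro d
    induction d with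
    | zero => intro k hk; rw [show k = t by omega, hbot, Subgroup.card_bot, pow_zero]
    | succ d ih =>
      intro k hk
      rw [hfall k (by omega), ih (k + 1) (by omega), pow_succ']
  have htP : Nat.card P = p ^ t := hV0 ▸ hcard t 0 (by omega)
  have ht1 : 1 ≤ t := by
    by_contra h0
    have hP1 : Nat.card P = 1 := by rw [htP, show t = 0 by omega, pow_zero]
    have := Subgroup.relIndex_dvd_card (P ⊓ φ • P) (φ • P)
    rw [hidx, card_smul, hP1] at this
    exact hp.not_dvd_one this
  refine ⟨t, htP, ht1, ?_⟩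
  let U : ℕ → Subgroup G := fun l =>
    if l = 0 then ⊥ else (φ ^ ((l : ℤ) - 1)) • V (t - l)
  have hUs : ∀ l, U (l + 1) = (φ ^ (l : ℤ)) • V (t - (l + 1)) := by
    intro l
    simp only [U, Nat.succ_ne_zero, if_false]
    push_cast
    ring_nf
  obtain ⟨x, hx⟩ : ∃ x, zpowers x = U 1 := by
    haveI : IsCyclic (V (t - 1)) := isCyclic_of_prime_card (by
      rw [hcard 1 (t - 1) (by omega), pow_one])
    obtain ⟨x, hx⟩ := (Subgroup.isCyclic_iff_exists_zpowers_eq_top (V (t - 1))).mp inferInstance
    exact ⟨x, by simp [U, hx]⟩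
  refine ⟨U, x, ⟨by simp [U], hx.symm, ?_, ?_, ?_, ?_⟩⟩
  · intro l hl hne
    rcases l with _ | l
    · simp [U] at hne
    rw [hUs, hUs, smul_smul φ, ((Commute.refl φ).zpow_right _).eq, ← smul_smul,
      ← Subgroup.smul_sup, show t - (l + 1) = t - (l + 1 + 1) + 1 by omega, ← hjoin _ (by omega),
      smul_smul, ← zpow_add_one]
    push_cast
    rfl
  · intro l hl
    rcases l with _ | l
    · simp [U]
    rw [hUs, card_smul, hcard (l + 1) _ (by omega)]
  · intro l hl
    rw [hUs, smul_smul φ, ((Commute.refl φ).zpow_right _).eq, ← smul_smul,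
      ← Subgroup.smul_inf, ← hVs]
    rcases l with _ | l
    · rw [show t - (0 + 1) + 1 = t by omega, hbot]
      simp [U]
    · rw [hUs, smul_smul φ, ← zpow_one_add, show t - (l + 1 + 1) + 1 = t - (l + 1) by omega]
      push_cast
      ring_nf
  · simp [U, show t ≠ 0 by omega, hV0]

theorem bound [Finite G] (P : Subgroup G) (φ : MulAut G) (p t n : ℕ) [Fact p.Prime]
    (U : ℕ → Subgroup G) (x : G) (hU : IsIntervalSystem P φ p t U x) (ht : 1 ≤ t)
    (hc : ∀ z ∈ P, (∀ i : ℕ, i ≤ n → ∀ y ∈ (φ ^ (i : ℤ)) • P, Commute z y) → z = 1) :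
    t ≤ 3 * n ∧ t ≠ 3 * n - 1 := by
  classical
  have hp : p.Prime := Fact.out
  let S : ℤ → ℕ → Subgroup G := fun i l => (φ ^ i) • U l
  let X : ℤ → G := fun i => (φ ^ i) x
  have hadd : ∀ i j : ℤ, ∀ A : Subgroup G, (φ ^ i) • (φ ^ j) • A = (φ ^ (i + j)) • A :=
    fun i j A => by rw [smul_smul, ← zpow_add]
  have hXadd : ∀ i j : ℤ, (φ ^ i) (X j) = X (i + j) := fun i j => by
    simp only [X, zpow_add]; rfl
  have hS0 : ∀ i, S i 0 = ⊥ := fun i => by simp [S, hU.zero]
  have hS1 : ∀ i, S i 1 = zpowers (X i) := fun i => by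
    simp only [S, hU.one, Subgroup.zpowers_eq_closure, Subgroup.smul_closure, Set.smul_set_singleton]
    rfl
  have hUne : ∀ l, 1 ≤ l → l ≤ t → U l ≠ ⊥ := fun l h1 h2 h => by
    have := hU.card l h2
    rw [h, Subgroup.card_bot] at this
    exact absurd this (Nat.one_lt_pow (by omega) hp.one_lt).ne
  have hSs : ∀ i l, 1 ≤ l → l < t → S i (l + 1) = S i l ⊔ S (i + 1) l := by
    intro i l h1 h2
    simp only [S]
    rw [hU.succ l h2 (hUne l h1 h2.le), Subgroup.smul_sup, smul_smul, ← zpow_add_one]
  have hScard : ∀ i l, l ≤ t → Nat.card (S i l) = p ^ l := fun i l h => by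
    rw [card_smul, hU.card l h]
  have hmono : ∀ i l, l < t → S i l ≤ S i (l + 1) := fun i l h => by
    rcases Nat.eq_zero_or_pos l with rfl | h'
    · simp [hS0]
    · rw [hSs i l h' h]; exact le_sup_left
  have hmono' : ∀ i l, l < t → S (i + 1) l ≤ S i (l + 1) := fun i l h => by
    rcases Nat.eq_zero_or_pos l with rfl | h'
    · simp [hS0]
    · rw [hSs i l h' h]; exact le_sup_right
  have hXmem : ∀ l, l ≤ t → ∀ i j : ℤ, i ≤ j → j < i + l → X j ∈ S i l := by
    intro l
    induction l with
    | zero => intro _ i j h1 h2; omega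
    | succ l ih =>
      intro hl i j h1 h2
      rcases Nat.eq_zero_or_pos l with rfl | h'
      · rw [show j = i by omega, hS1]
        exact mem_zpowers _
      · rcases eq_or_lt_of_le h1 with rfl | h1'
        · exact hmono i l (by omega) (ih (by omega) i i le_rfl (by omega))
        · exact hmono' i l (by omega) (ih (by omega) (i + 1) j (by omega) (by omega))
  have hle : ∀ l, l ≤ t → ∀ (i : ℤ) (C : Subgroup G), (∀ j : ℤ, i ≤ j → j < i + l → X j ∈ C) →
      S i l ≤ C := by
    intro l
    induction l with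
    | zero => intro _ i C _; simp [hS0]
    | succ l ih =>
      intro hl i C hC
      rcases Nat.eq_zero_or_pos l with rfl | h'
      · rw [hS1, Subgroup.zpowers_le]
        exact hC i le_rfl (by omega)
      · rw [hSs i l h' (by omega)]
        exact sup_le (ih (by omega) i C fun j a b => hC j a (by omega))
          (ih (by omega) (i + 1) C fun j a b => hC j (by omega) (by omega))
  have hcomm : ∀ y : G, ∀ l, l ≤ t → ∀ i : ℤ, (∀ j : ℤ, i ≤ j → j < i + l → Commute y (X j)) →
      ∀ z ∈ S i l, Commute y z := by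
    intro y l hl i h z hz
    exact (Subgroup.mem_centralizer_singleton_iff.mp (hle l hl i (centralizer ({y} : Set G))
      (fun j a b => Subgroup.mem_centralizer_singleton_iff.mpr (h j a b).symm.eq) hz) : z * y = y * z).symm
  -- the commutator of two of the generators
  have hbr : ∀ (i j : ℤ) (d : ℕ), j = i + d → 1 ≤ d → d < t →
      X i * X j * (X i)⁻¹ * (X j)⁻¹ ∈ S (i + 1) (d - 1) := by
    intro i j d hj h1 h2
    subst hj
    obtain ⟨e, rfl⟩ : ∃ e, d = e + 1 := ⟨d - 1, by omega⟩
    have hi : X i ∈ S i (e + 1) := hXmem _ h2.le i i le_rfl (by omega)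
    have hj : X (i + (e + 1 : ℕ)) ∈ S (i + 1) (e + 1) :=
      hXmem _ h2.le _ _ (by omega) (by omega)
    have hA := hmono i (e + 1) h2
    have hB := hmono' i (e + 1) h2
    have hc1 : ∀ i' l, l ≤ t → Nat.card (S i' l) = p ^ l := hScard
    have e1 : Nat.card (S i (e + 1 + 1)) = p * Nat.card (S i (e + 1)) := by
      rw [hc1 _ _ (by omega), hc1 _ _ (by omega), ← pow_succ']
    have e2 : Nat.card (S i (e + 1 + 1)) = p * Nat.card (S (i + 1) (e + 1)) := by
      rw [hc1 _ _ (by omega), hc1 _ _ (by omega), ← pow_succ']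
    have hinf : S i (e + 1) ⊓ S (i + 1) (e + 1) = S (i + 1) e := by
      simp only [S]
      rw [zpow_add_one, mul_smul, mul_smul, ← Subgroup.smul_inf, hU.inter e h2]
    rw [show e + 1 - 1 = e by omega, ← hinf]
    refine Subgroup.mem_inf.mpr ⟨?_, mul_mem (conj_mem_of_card hB (hScard _ _ (by omega)) e2 hj (hA hi)) (inv_mem hj)⟩
    have h := conj_mem_of_card hA (hScard _ _ (by omega)) e1 (inv_mem hi) (hB hj)
    have := mul_mem hi h
    simpa [mul_assoc] using this
  -- the first distance at which two generators do not commute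
  have hexk : ∃ d : ℕ, t ≤ d ∨ ¬ Commute (X 0) (X d) := ⟨t, Or.inl le_rfl⟩
  set k := Nat.find hexk with hk
  have hkt : k ≤ t := Nat.find_min' hexk (Or.inl le_rfl)
  have hnear : ∀ i j : ℤ, i - j < k → j - i < k → Commute (X i) (X j) := by
    have h0 : ∀ i : ℤ, ∀ d : ℕ, d < k → Commute (X i) (X (i + d)) := by
      intro i d hd
      have hd' := Nat.find_min hexk hd
      rw [not_or, not_not] at hd'
      have := hd'.2.map (φ ^ i).toMonoidHom
      simpa [hXadd] using this
    intro i j h1 h2
    rcases le_total i j with h | h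
    · have := h0 i (j - i).toNat (by omega)
      rwa [show i + ((j - i).toNat : ℤ) = j by omega] at this
    · have := (h0 j (i - j).toNat (by omega)).symm
      rwa [show j + ((i - j).toNat : ℤ) = i by omega] at this
  have hfar : k < t → ∀ i : ℤ, ¬ Commute (X i) (X (i + k)) := by
    intro hlt i hcm
    have hs := (Nat.find_spec hexk).resolve_left (by omega)
    apply hs
    have : Commute ((φ ^ (-i)) (X i)) ((φ ^ (-i)) (X (i + k))) := hcm.map (φ ^ (-i)).toMonoidHom
    rw [hXadd, hXadd, neg_add_cancel, neg_add_cancel_left] at this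
    exact this
  have hX1 : ∀ i, X i ≠ 1 := by
    intro i h
    have h2 := hScard i 1 ht
    rw [hS1, Nat.card_zpowers, h, orderOf_one, pow_one] at h2
    exact hp.ne_one h2.symm
  have hstep3 : 2 * t ≤ 3 * k := by
    rcases eq_or_lt_of_le hkt with h | hlt
    · omega
    by_contra hcon
    have hk1 : 1 ≤ k := by
      by_contra h0
      exact hfar hlt 0 (by rw [show k = 0 by omega]; simp [Commute, SemiconjBy])
    set w := X 0 * X k * (X 0)⁻¹ * (X k)⁻¹ with hw
    have hw1 : w ≠ 1 := by
      intro h
      apply hfar hlt 0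
      rw [zero_add]
      exact (commutatorElement_eq_one_iff_commute.mp h)
    -- the support of `w` starts late
    have hA : ∀ a : ℕ, 1 ≤ a → a ≤ t - k → a ≤ k → w ∈ S a (k - a) := by
      intro a ha1
      induction a, ha1 using Nat.le_induction with
      | base =>
        intro _ _
        have := hbr 0 k k (by omega) hk1 hlt
        simpa using this
      | succ a ha ih =>
        intro hat hak
        have hwa := ih (by omega) (by omega)
        by_contra hnot
        obtain ⟨l, hl⟩ : ∃ l, k - a = l + 1 := ⟨k - a - 1, by omega⟩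
        rw [show k - (a + 1) = l by omega] at hnot
        push_cast at hnot
        rw [hl] at hwa
        have hcs : ∀ z ∈ S ((a : ℤ) + 1) l, Commute (X (a + k : ℕ)) z :=
          hcomm _ l (by omega) _ fun j h1 h2 => hnear _ _ (by omega) (by omega)
        have hkw : Commute (X (a + k : ℕ)) w := by
          set u := X 0 * X (a + k : ℕ) * (X 0)⁻¹ * (X (a + k : ℕ))⁻¹ with hu
          have hum : u ∈ S (0 + 1) (a + k - 1) := hbr 0 _ (a + k) (by omega) (by omega) (by omega)
          have huk : Commute u (X k) :=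
            (hcomm _ _ (by omega) _ (fun j h1 h2 => hnear _ _ (by omega) (by omega)) u hum).symm
          have huw : Commute u w := by
            refine (hcomm u _ (by omega) _ (fun j h1 h2 => ?_) w hwa)
            exact (hcomm (X j) _ (by omega) _ (fun j' h1' h2' =>
              hnear _ _ (by omega) (by omega)) u hum).symm
          exact commute_commutator (X 0) (X k) (X (a + k : ℕ))
            (hnear _ _ (by omega) (by omega)) huk huw
        have hB : S (a : ℤ) (l + 1) ≤ centralizer ({X (a + k : ℕ)} : Set G) :=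
          prime_step hp (hmono' _ _ (by omega))
            (by rw [hScard _ _ (by omega), hScard _ _ (by omega), pow_succ'])
            (fun z hz => Subgroup.mem_centralizer_singleton_iff.mpr (hcs z hz).symm.eq)
            hwa (Subgroup.mem_centralizer_singleton_iff.mpr hkw.symm.eq) hnot
        apply hfar hlt (a : ℤ)
        have := hB (hXmem _ (by omega) (a : ℤ) a le_rfl (by omega))
        rw [Subgroup.mem_centralizer_singleton_iff] at this
        push_cast at this
        exact this
    set a := min (t - k) k with ha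
    have hwA := hA a (by omega) (by omega) (by omega)
    -- and ends early, hence is empty
    have hB : ∀ l : ℕ, a + l ≤ k → w ∈ S a l → w = 1 := by
      intro l
      induction l with
      | zero => intro _ h; rwa [hS0, Subgroup.mem_bot] at h
      | succ l ih =>
        intro hlk hwl
        refine ih (by omega) ?_
        by_contra hnot
        set c : ℤ := (a : ℤ) + l - k with hcdef
        have hcs : ∀ z ∈ S (a : ℤ) l, Commute (X c) z :=
          hcomm _ l (by omega) _ fun j h1 h2 => hnear _ _ (by omega) (by omega)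
        have hkw : Commute (X c) w := by
          set u := X c * X k * (X c)⁻¹ * (X k)⁻¹ with hu
          have hum : u ∈ S (c + 1) (2 * k - (a + l) - 1) :=
            hbr c k (2 * k - (a + l)) (by omega) (by omega) (by omega)
          have hu0 : Commute u (X 0) :=
            (hcomm _ _ (by omega) _ (fun j h1 h2 => hnear _ _ (by omega) (by omega)) u hum).symm
          have huw : Commute u w := by
            refine (hcomm u _ (by omega) _ (fun j h1 h2 => ?_) w hwl)
            exact (hcomm (X j) _ (by omega) _ (fun j' h1' h2' =>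
              hnear _ _ (by omega) (by omega)) u hum).symm
          have hui : X k * X c * (X k)⁻¹ * (X c)⁻¹ = u⁻¹ := by rw [hu]; group
          have hwi : X k * X 0 * (X k)⁻¹ * (X 0)⁻¹ = w⁻¹ := by rw [hw]; group
          have := commute_commutator (X k) (X 0) (X c) (hnear _ _ (by omega) (by omega))
            (by rw [hui]; exact hu0.inv_left) (by rw [hui, hwi]; exact huw.inv_left.inv_right)
          rw [hwi] at this
          simpa using this.inv_right
        have hB : S (a : ℤ) (l + 1) ≤ centralizer ({X c} : Set G) :=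
          prime_step hp (hmono _ _ (by omega))
            (by rw [hScard _ _ (by omega), hScard _ _ (by omega), pow_succ'])
            (fun z hz => Subgroup.mem_centralizer_singleton_iff.mpr (hcs z hz).symm.eq)
            hwl (Subgroup.mem_centralizer_singleton_iff.mpr hkw.symm.eq) hnot
        apply hfar hlt c
        have := hB (hXmem _ (by omega) (a : ℤ) (c + k) (by omega) (by omega))
        rw [Subgroup.mem_centralizer_singleton_iff] at this
        exact this.symm
    exact hw1 (hB (k - a) (by omega) hwA)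
  have hfew : 2 * k ≤ n + t := by
    by_contra hcon
    set j : ℤ := ((n + t - k : ℕ) : ℤ) with hj
    have hjm : X j ∈ S 0 t := hXmem t le_rfl 0 j (by omega) (by omega)
    simp only [S, zpow_zero, one_smul, hU.top] at hjm
    obtain ⟨z, hz, hze⟩ := hjm
    have hz1 : z = 1 := by
      refine hc z hz fun i hi y hy => ?_
      have hy' : (φ ^ ((t : ℤ) - 1)) y ∈ S i t := by
        simp only [S, hU.top]
        rw [hadd, add_comm, ← hadd]
        exact Subgroup.smul_mem_pointwise_smul y _ _ hy
      have := (hcomm (X j) t le_rfl i (fun j' h1 h2 => hnear _ _ (by omega) (by omega)) _ hy').map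
        (φ ^ ((t : ℤ) - 1))⁻¹.toMonoidHom
      rw [← hze] at this
      simpa using this
    apply hX1 j
    rw [← hze, hz1]
    simp
  omega
/-- Let P be a subgroup of a finite group G and g an element such that P ∩ g⁻¹Pg is a normal subgroup of prime index p in g⁻¹Pg. Let n ≥ 1 and let K be the subgroup generated by P and its conjugates g⁻ⁱPgⁱ for i ≤ n. Suppose that g normalizes no non-identity normal subgroup of P and that P meets the center of K trivially. Then the order of P is pᵗ for some t with 1 ≤ t ≤ 3n and t ≠ 3n - 1. -/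
theorem result {G : Type*} [Group G] [Finite G]
    (P : Subgroup G) (g : G) (p : ℕ) (hp : p.Prime)
    (hN : ((P ⊓ MulAut.conj g⁻¹ • P).subgroupOf (MulAut.conj g⁻¹ • P)).Normal)
    (hidx : (P ⊓ MulAut.conj g⁻¹ • P).relIndex (MulAut.conj g⁻¹ • P) = p)
    (n : ℕ) (hn : 1 ≤ n) (K : Subgroup G) (hK : K = ⨆ i ∈ Finset.range (n + 1), MulAut.conj (g ^ i)⁻¹ • P)
    (h1 : ∀ Q : Subgroup G, Q ≤ P → (Q.subgroupOf P).Normal → MulAut.conj g • Q = Q → Q = ⊥)
    (h2 : P ⊓ (Subgroup.center K).map K.subtype = ⊥) :
    ∃ t : ℕ, Nat.card P = p ^ t ∧ 1 ≤ t ∧ t ≤ 3 * n ∧ t ≠ 3 * n - 1 := by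
  haveI : Fact p.Prime := ⟨hp⟩
  set φ : MulAut G := MulAut.conj g⁻¹ with hφ
  have hKi : ∀ i ∈ Finset.range (n + 1), (φ ^ (i : ℤ)) • P ≤ K := by
    intro i hi
    rw [hK, show φ ^ (i : ℤ) = MulAut.conj (g ^ i)⁻¹ by
      rw [hφ, zpow_natCast, ← map_pow, inv_pow]]
    exact le_biSup (fun i => MulAut.conj (g ^ i)⁻¹ • P) hi
  have h1' : ∀ Q : Subgroup G, Q ≤ P → (Q.subgroupOf P).Normal → φ • Q = Q → Q = ⊥ := by
    intro Q hQ hQn hQf
    refine h1 Q hQ hQn ?_
    conv_lhs => rw [← hQf]
    rw [smul_smul, hφ, ← map_mul, mul_inv_cancel, map_one, one_smul]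
  obtain ⟨t, htP, ht1, U, x, hU⟩ := exists_interval P φ p hN hidx h1'
  refine ⟨t, htP, ht1, bound P φ p t n U x hU ht1 (fun z hz hzc => ?_)⟩
  -- an element of `P` commuting with all the conjugates is central in `K`
  have hzK : z ∈ K := by
    have := hKi 0 (Finset.mem_range.mpr (by omega)) (Subgroup.smul_mem_pointwise_smul z _ _ hz)
    simpa using this
  have hKc : K ≤ Subgroup.centralizer ({z} : Set G) := by
    rw [hK]
    refine iSup₂_le fun i hi => ?_
    intro y hy
    rw [Subgroup.mem_centralizer_singleton_iff]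
    refine (hzc i (Nat.lt_succ_iff.mp (Finset.mem_range.mp hi)) y ?_).symm.eq
    rwa [hφ, zpow_natCast, ← map_pow, inv_pow]
  have hmem : z ∈ P ⊓ (Subgroup.center K).map K.subtype :=
    ⟨hz, ⟨z, hzK⟩, Subgroup.mem_center_iff.mpr fun y =>
      Subtype.ext (Subgroup.mem_centralizer_singleton_iff.mp (hKc y.2)), rfl⟩
  rw [h2] at hmem
  exact Subgroup.mem_bot.mp hmem
end Cfsg.Agent.S4359
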