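import Cfsg.Statements.S4363
import Cfsg.Agent.Lib.Turull.Main
import Mathlib.GroupTheory.SemidirectProduct
import Mathlib.FieldTheory.IsAlgClosed.AlgebraicClosure

set_option autoImplicit false
open Cfsg

namespace Cfsg.Agent.S4363


open CfsgLib.FittingLength CfsgLib.Turull

universe u

theorem exists_resIter_eq_bot {X : Type u} [Group X] [Finite X] (H : Subgroup X) [Group.IsSolvable H] :
    ∃ k, resIter k H = ⊥ := by
  have key : ∀ k, resIter k H ≤ (derivedSeries H k).map H.subtype := by
    intro k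
    induction k with
    | zero => rw [derivedSeries_zero, ← MonoidHom.range_eq_map, Subgroup.range_subtype]; exact le_rfl
    | succ k ih =>
      rw [resIter_succ, derivedSeries_succ, Subgroup.map_commutator]
      exact (res_le_lowerCentralSeries _ 1).trans (Subgroup.commutator_mono ih ih)
  obtain ⟨k, hk⟩ := (Group.isSolvable_def H).mp inferInstance
  exact ⟨k, le_bot_iff.mp ((key k).trans (by rw [hk, Subgroup.map_bot]))⟩

theorem core {X : Type u} [Group X] [Finite X] {s : X} {r : ℕ} {H : Subgroup X} [Group.IsSolvable H]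
    (c : Ctx s r H) (n : ℕ) (hne : resIter (n + 2) H ≠ ⊥) : resIter n (fixC s H) ≠ ⊥ := by
  haveI := c.normal
  obtain ⟨p, P, hp, ht, -, hE⟩ := exists_tower c.prime c.pow_eq (n + 2) H ⊥ inferInstance c.cop
    (by rw [Subgroup.normalizer_eq_top]; exact Subgroup.mem_top s)
    (by rw [Subgroup.normalizer_eq_top]; exact le_top)
    (by rw [Subgroup.normalizer_eq_top]; exact Subgroup.mem_top s) (fun h => hne (le_bot_iff.mp h)) 1
    (fun x _ k hx => by rwa [one_pow, pow_one] at hx)
  haveI : ∀ i, Fact (p i).Prime := fun i => ⟨hp i⟩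
  obtain ⟨P', hmin⟩ := exists_minTower ht fun h => hE h.le
  have h := hmin.resIter_ne_bot (fun i => AlgebraicClosure (ZMod (p i))) c (by omega)
  simpa using h

theorem main {X : Type u} [Group X] [Finite X] {s : X} {r : ℕ} {H : Subgroup X} [Group.IsSolvable H]
    (c : Ctx s r H) (n : ℕ) (hn : resIter n (fixC s H) = ⊥) : resIter (n + 2) H = ⊥ := by
  classical
  haveI := c.normal
  have hex := exists_resIter_eq_bot H
  set h0 := Nat.find hex
  by_contra hcon
  have hlt : n + 2 < h0 := by
    by_contra hle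
    exact hcon (le_bot_iff.mp ((resIter_antitone (by omega) H).trans (Nat.find_spec hex).le))
  set H1 := resIter (h0 - (n + 3)) H with hH1
  have hle : H1 ≤ H := resIter_le _ _
  haveI : Group.IsSolvable H1 :=
    Group.isSolvable_of_isSolvable_injective (f := Subgroup.inclusion hle) (Subgroup.inclusion_injective _)
  have c1 : Ctx s r H1 := ⟨c.prime, c.pow_eq, resIter_normal _ _,
    fun hd => c.cop (hd.trans (Subgroup.card_dvd_of_le hle))⟩
  refine core c1 n ?_ (le_bot_iff.mp ((resIter_mono n (inf_le_inf hle le_rfl)).trans hn.le))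
  rw [hH1, ← resIter_add]
  exact Nat.find_min hex (by omega)

/-- Let G be a finite solvable group and σ an automorphism of G of prime order r not dividing the order of G, with fixed-point subgroup C. Then the Fitting height of G exceeds that of C by at most 2: if C has a chain of normal subgroups 1 = C₀ ≤ ⋯ ≤ Cₙ = C with nilpotent factors, then G has such a chain of length n + 2. -/
theorem result {G : Type*} [Group G] [Finite G]
    (hG : Group.IsSolvable G) (σ : MulAut G) (r : ℕ) (hr : r.Prime) (hσ : orderOf σ = r) (hcop : ¬ r ∣ Nat.card G)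
    (C : Subgroup G) (hC : ∀ g : G, g ∈ C ↔ σ g = g) (n : ℕ) (hn : (∃ F : Fin (n + 1) → Subgroup ↥C, F 0 = ⊥ ∧ F (Fin.last n) = ⊤ ∧ Monotone F ∧ (∀ i, (F i).Normal) ∧ ∀ i : Fin n, ∃ k : ℕ, (F i.succ).lowerCentralSeries k ≤ F i.castSucc)) :
    (∃ F : Fin ((n + 2) + 1) → Subgroup G, F 0 = ⊥ ∧ F (Fin.last (n + 2)) = ⊤ ∧ Monotone F ∧ (∀ i, (F i).Normal) ∧ ∀ i : Fin (n + 2), ∃ k : ℕ, (F i.succ).lowerCentralSeries k ≤ F i.castSucc) := by
  classical
  obtain ⟨F, h0, h1, -, -, hnil⟩ := hn
  have hC0 : resIter n C = ⊥ := by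
    rw [← resIter_top n C, resIter_eq_bot_of_chain n F h0 h1 hnil, Subgroup.map_bot]
  refine exists_chain (n + 2) ?_
  let φ : Subgroup.zpowers σ →* MulAut G := (Subgroup.zpowers σ).subtype
  haveI : Finite (MulAut G) := Finite.of_injective (fun e : MulAut G => (e : G → G)) DFunLike.coe_injective
  haveI : Finite (G ⋊[φ] Subgroup.zpowers σ) := Finite.of_equiv _ SemidirectProduct.equivProd.symm
  set ι : G →* G ⋊[φ] Subgroup.zpowers σ := SemidirectProduct.inl with hι
  have hinj : Function.Injective ι := SemidirectProduct.inl_injective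
  set s : G ⋊[φ] Subgroup.zpowers σ := SemidirectProduct.inr ⟨σ, Subgroup.mem_zpowers σ⟩ with hs
  set GG := (⊤ : Subgroup G).map ι with hGG
  haveI : Group.IsSolvable GG := Group.isSolvable_of_surjective (f := ι.subgroupMap ⊤) (hf := ι.subgroupMap_surjective ⊤)
  have c : Ctx s r GG := by
    refine ⟨hr, ?_, ?_, ?_⟩
    · rw [hs, ← map_pow, show (⟨σ, Subgroup.mem_zpowers σ⟩ : Subgroup.zpowers σ) ^ r = 1 from
        Subtype.ext (by rw [SubgroupClass.coe_pow, ← hσ, pow_orderOf_eq_one]; rfl), map_one]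
    · rw [hGG, ← MonoidHom.range_eq_map, hι, SemidirectProduct.range_inl_eq_ker_rightHom]
      infer_instance
    · rw [hGG, Subgroup.card_map_of_injective hinj, Subgroup.card_top]
      exact hcop
  have hconj : ∀ g : G, s * ι g = ι (σ g) * s := fun g => by
    have h := SemidirectProduct.inl_aut (φ := φ) ⟨σ, Subgroup.mem_zpowers σ⟩ g
    rw [hι, hs, show σ g = φ ⟨σ, Subgroup.mem_zpowers σ⟩ g from rfl, h, map_inv, inv_mul_cancel_right]
  have hfix : fixC s GG = C.map ι := by
    ext x
    rw [mem_fixC]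
    constructor
    · rintro ⟨⟨g, -, rfl⟩, hx⟩
      rw [hconj g] at hx
      exact ⟨g, (hC g).mpr (hinj (mul_right_cancel hx)), rfl⟩
    · rintro ⟨g, hg, rfl⟩
      exact ⟨⟨g, Subgroup.mem_top g, rfl⟩, by rw [hconj g, (hC g).mp hg]⟩
  have h2 := main c n (by rw [hfix, resIter_eq_bot_of_injective hinj, hC0])
  rwa [hGG, resIter_eq_bot_of_injective hinj] at h2

end Cfsg.Agent.S4363
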