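import Cfsg.Statements.S4364
import Cfsg.Agent.Lib.InvChar.Kazarin
import Cfsg.Agent.Lib.Solvable.Fitting
import Cfsg.Agent.Lib.PCore.Basic
-- import your own Cfsg.Agent.* helpers here

set_option autoImplicit false
open Cfsg

namespace Cfsg.Agent.S4364

open Subgroup in
/-- Conjugates of an element with class size a power of `p` commute when `O_p(G) = 1`. -/
theorem commute_of_pCore_eq_bot {G : Type*} [Group G] [Finite G] (p a : ℕ) [hp : Fact p.Prime]
    (hO : Cfsg.pCore p G = ⊥) (x : G) (hx : (centralizer ({x} : Set G)).index ∣ p ^ a) (g h : G) :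
    (g * x * g⁻¹) * (h * x * h⁻¹) = (h * x * h⁻¹) * (g * x * g⁻¹) := by
  set F := Cfsg.fittingSubgroup G
  haveI hFn : F.Normal := CfsgLib.Fitting.fitting_normal
  haveI := CfsgLib.Structure.solvableRadical_normal (G := G)
  have hFp : ¬ p ∣ Nat.card F := by
    intro hdvd
    obtain ⟨P⟩ : Nonempty (Sylow p F) := inferInstance
    have h1 := CfsgLib.Fitting.sylow_fitting_eq_pCore P
    rw [hO, map_eq_bot_iff_of_injective _ F.subtype_injective] at h1
    exact Sylow.ne_bot_of_dvd_card P hdvd h1
  have hFC : F ≤ centralizer ({x} : Set G) := by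
    rw [← relIndex_eq_one]
    have h1 := (CfsgLib.InvChar.relIndex_dvd_index_of_normal' (centralizer ({x} : Set G)) F).trans hx
    exact Nat.eq_one_of_dvd_coprimes (((hp.out.coprime_iff_not_dvd.2 hFp).symm.pow_right a)) (relIndex_dvd_card _ _) h1
  have hxF : x ∈ centralizer (F : Set G) := fun b hb => mem_centralizer_singleton_iff.1 (hFC hb)
  haveI := CfsgLib.Structure.isSolvable_solvableRadical (G := G)
  haveI hCn : (centralizer (F : Set G)).Normal := normal_centralizer
  have hxin : x ∈ F := by
    refine CfsgLib.Fitting.solvable_normal_centralizing_le_fitting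
      (C := Cfsg.solvableRadical G ⊓ centralizer (F : Set G)) inferInstance
      (CfsgLib.Structure.isSolvable_of_le inf_le_left inferInstance) inf_le_right ?_
    exact ⟨CfsgLib.InvChar.mem_solvableRadical_of_class hp.out x hx, hxF⟩
  exact (hCn.conj_mem x hxF h) _ (hFn.conj_mem x hxin g)

/-- Let G be a finite group, p a prime and x an element whose conjugacy class has p-power size. Then for any two conjugates y and z of x, the commutator y z y⁻¹ z⁻¹ lies in O_p(G), the largest normal p-subgroup of G. -/
theorem result {G : Type*} [Group G] [Finite G] (p : ℕ) [Fact p.Prime]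
    (x : G) (hx : ∃ a : ℕ, (Subgroup.centralizer ({x} : Set G)).index = p ^ a) (g h : G) :
    (g * x * g⁻¹) * (h * x * h⁻¹) * (g * x * g⁻¹)⁻¹ * (h * x * h⁻¹)⁻¹ ∈ Cfsg.pCore p G := by
  haveI hn := CfsgLib.Fitting.pCore_normal (G := G) p
  obtain ⟨a, ha⟩ := hx
  set q := QuotientGroup.mk' (Cfsg.pCore p G)
  have hle : (Subgroup.centralizer ({x} : Set G)).map q ≤
      Subgroup.centralizer ({q x} : Set (G ⧸ Cfsg.pCore p G)) := by
    rintro _ ⟨b, hb, rfl⟩
    rw [Subgroup.mem_centralizer_singleton_iff, ← map_mul, ← map_mul,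
      Subgroup.mem_centralizer_singleton_iff.1 hb]
  have h1 := commute_of_pCore_eq_bot p a CfsgLib.PCore.pCore_quotient_pCore (q x)
    ((Subgroup.index_dvd_of_le hle).trans ((Subgroup.index_map_dvd (H := Subgroup.centralizer ({x} : Set G))
      (QuotientGroup.mk'_surjective _)).trans ha.dvd)) (q g) (q h)
  rw [← (QuotientGroup.eq_one_iff _)]
  show q _ = 1
  simp only [map_mul, map_inv]
  rw [h1]
  group

end Cfsg.Agent.S4364
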