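import Cfsg.Statements.S4370
import Cfsg.Agent.Lib.TwoGroups.OneInvolution
import Cfsg.Agent.Lib.SubgroupCount.Basic
import Cfsg.Agent.Lib.PCore.Basic
import Cfsg.Agent.Lib.Involutions.ElementaryOdd

set_option autoImplicit false
open Cfsg

namespace Cfsg.Agent.S4370

open Subgroup

theorem quaternion_centralizer_le {n : ℕ} [NeZero n] (q : QuaternionGroup n)
    (hq : q ∉ center (QuaternionGroup n)) :
    ∃ c : QuaternionGroup n, centralizer ({q} : Set (QuaternionGroup n)) ≤ zpowers c := by
  have h2n : ∀ i : ZMod (2 * n), i + i = 0 → i = 0 ∨ i = (n : ZMod (2 * n)) := by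
    intro i hi
    obtain ⟨v, hv, rfl⟩ : ∃ v : ℕ, v < 2 * n ∧ (v : ZMod (2 * n)) = i :=
      ⟨i.val, i.val_lt, ZMod.natCast_zmod_val i⟩
    rw [← Nat.cast_add, ZMod.natCast_eq_zero_iff] at hi
    obtain ⟨c, hc⟩ := hi
    have hc2 : c < 2 := by
      by_contra hh
      have := Nat.mul_le_mul_left (2 * n) (show 2 ≤ c by omega)
      omega
    interval_cases c
    · left; rw [show v = 0 by omega, Nat.cast_zero]
    · right; rw [show v = n by omega]
  match q with
  | .a i =>
    refine ⟨.a 1, ?_⟩
    intro y hy
    rw [mem_centralizer_singleton_iff] at hy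
    match y with
    | .a j =>
      exact mem_zpowers_iff.mpr ⟨j.val, by
        rw [zpow_natCast, QuaternionGroup.a_one_pow, ZMod.natCast_zmod_val]⟩
    | .xa j =>
      exfalso
      simp only [QuaternionGroup.xa_mul_a, QuaternionGroup.a_mul_xa,
        QuaternionGroup.xa.injEq] at hy
      apply hq
      rw [mem_center_iff]
      have hi : i + i = 0 := by linear_combination hy
      rintro (k | k)
      · simp [add_comm]
      · simp only [QuaternionGroup.xa_mul_a, QuaternionGroup.a_mul_xa, QuaternionGroup.xa.injEq]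
        linear_combination hi
  | .xa i =>
    refine ⟨.xa i, ?_⟩
    intro y hy
    rw [mem_centralizer_singleton_iff] at hy
    have hsq : (QuaternionGroup.xa i : QuaternionGroup n) ^ (2 : ℤ) = .a n := by
      rw [zpow_two, QuaternionGroup.xa_mul_xa, add_sub_cancel_right]
    match y with
    | .a j =>
      simp only [QuaternionGroup.xa_mul_a, QuaternionGroup.a_mul_xa,
        QuaternionGroup.xa.injEq] at hy
      rcases h2n j (by linear_combination -hy) with h | h <;> subst h
      · exact one_mem _
      · exact mem_zpowers_iff.mpr ⟨2, hsq⟩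
    | .xa j =>
      simp only [QuaternionGroup.xa_mul_xa, QuaternionGroup.a.injEq] at hy
      rcases h2n (i - j) (by linear_combination hy) with h | h
      · rw [sub_eq_zero] at h; subst h; exact mem_zpowers _
      · refine mem_zpowers_iff.mpr ⟨3, ?_⟩
        rw [show (3 : ℤ) = 2 + 1 by norm_num, zpow_add, zpow_one, hsq, QuaternionGroup.a_mul_xa]
        congr 1
        linear_combination h

theorem isCyclic_of_le {G : Type*} [Group G] {H K : Subgroup G} (h : H ≤ K) [IsCyclic K] :
    IsCyclic H :=
  isCyclic_of_injective (Subgroup.inclusion h) (Subgroup.inclusion_injective h)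

/-- Let G be a finite non-abelian nilpotent group. Then the centralizer of every non-central element of G is cyclic if and only if G is isomorphic to the direct product of a generalized quaternion group and a cyclic group of odd order. -/
theorem result {G : Type*} [Group G] [Finite G] (hG : Group.IsNilpotent G)
    (hna : ¬ IsMulCommutative G) :
    (∀ x : G, x ∉ Subgroup.center G → IsCyclic (Subgroup.centralizer ({x} : Set G))) ↔
      ∃ (k m : ℕ), 1 ≤ k ∧ Odd m ∧ Nonempty (G ≃* QuaternionGroup (2 ^ k) × Multiplicative (ZMod m)) := by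
  haveI := hG
  haveI := Fact.mk Nat.prime_two
  constructor
  · intro hc
    obtain ⟨x, hx⟩ : ∃ x, x ∉ center G := by
      by_contra h
      push Not at h
      exact hna ⟨⟨fun a b => (mem_center_iff.mp (h a) b).symm⟩⟩
    have habel : ∀ A : Subgroup G, IsMulCommutative A → IsCyclic A := by
      intro A hA
      by_cases hAZ : A ≤ center G
      · haveI := hc x hx
        exact isCyclic_of_le (K := centralizer ({x} : Set G)) (hAZ.trans (center_le_centralizer _))
      · obtain ⟨a, haA, haZ⟩ := SetLike.not_le_iff_exists.mp hAZ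
        haveI := hc a haZ
        exact isCyclic_of_le (K := centralizer ({a} : Set G)) (fun b hb => mem_centralizer_singleton_iff.mpr
          (congrArg Subtype.val (hA.is_comm.comm ⟨b, hb⟩ ⟨a, haA⟩)))
    have hunique : ∀ (p : ℕ) [Fact p.Prime] (P : Subgroup G), IsPGroup p P →
        ∀ a b : ↥P, orderOf a = p → orderOf b = p → b ∈ zpowers a := by
      intro p _ P hP a b ha hb
      haveI : Nontrivial P := ⟨⟨a, 1, fun e => by
        rw [e, orderOf_one] at ha; exact (Fact.out : p.Prime).ne_one ha.symm⟩⟩
      haveI := hP.center_nontrivial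
      obtain ⟨k, hk, hcard⟩ := (hP.to_subgroup (center P)).nontrivial_iff_card.mp inferInstance
      obtain ⟨z, hz⟩ := exists_prime_orderOf_dvd_card' p
        (hcard ▸ dvd_pow_self p hk.ne' : p ∣ Nat.card (center P))
      rw [← Subgroup.orderOf_coe] at hz
      have key : ∀ w : ↥P, orderOf w = p → zpowers w = zpowers (z : ↥P) := by
        intro w hw
        have hcomm : ∀ u v : ↥P, u ∈ zpowers w ⊔ zpowers (z : ↥P) →
            v ∈ zpowers w ⊔ zpowers (z : ↥P) → u * v = v * u := by
          intro u v hu hv
          have h1 : zpowers w ⊔ zpowers (z : ↥P) ≤ centralizer ({w} : Set ↥P) :=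
            sup_le (zpowers_le.mpr (mem_centralizer_singleton_iff.mpr rfl))
              (zpowers_le.mpr (center_le_centralizer _ z.2))
          have h2 : zpowers w ⊔ zpowers (z : ↥P) ≤ centralizer ({v} : Set ↥P) :=
            sup_le (zpowers_le.mpr (mem_centralizer_singleton_iff.mpr
              (mem_centralizer_singleton_iff.mp (h1 hv)).symm))
              (zpowers_le.mpr (center_le_centralizer _ z.2))
          exact mem_centralizer_singleton_iff.mp (h2 hu)
        let A := (zpowers w ⊔ zpowers (z : ↥P)).map P.subtype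
        have hAc : IsMulCommutative A := ⟨⟨fun u v => Subtype.ext (by
          obtain ⟨u', hu', e1⟩ := mem_map.mp u.2
          obtain ⟨v', hv', e2⟩ := mem_map.mp v.2
          show (u : G) * v = v * u
          rw [← e1, ← e2, ← map_mul, ← map_mul, hcomm u' v' hu' hv'])⟩⟩
        haveI := habel A hAc
        haveI : IsCyclic ↥(zpowers w ⊔ zpowers (z : ↥P)) :=
          isCyclic_of_injective ((zpowers w ⊔ zpowers (z : ↥P)).equivMapOfInjective P.subtype
            P.subtype_injective).toMonoidHom (MulEquiv.injective _)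
        classical
        haveI : Fintype ↥(zpowers w ⊔ zpowers (z : ↥P)) := Fintype.ofFinite _
        have hle := IsCyclic.card_pow_eq_one_le (α := ↥(zpowers w ⊔ zpowers (z : ↥P)))
          (Fact.out : p.Prime).pos
        let S := Finset.univ.filter fun u : ↥(zpowers w ⊔ zpowers (z : ↥P)) => u ^ p = 1
        have hsub : ∀ v : ↥P, orderOf v = p → (hv : zpowers v ≤ zpowers w ⊔ zpowers (z : ↥P)) →
            ∀ u : ↥(zpowers w ⊔ zpowers (z : ↥P)), u ^ p = 1 → (u : ↥P) ∈ zpowers v := by
          intro v hv hvle
          let T := Finset.univ.filter fun u : ↥(zpowers w ⊔ zpowers (z : ↥P)) =>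
            (u : ↥P) ∈ zpowers v
          have hTS : T ⊆ S := by
            intro u hu
            simp only [T, S, Finset.mem_filter, Finset.mem_univ, true_and] at hu ⊢
            obtain ⟨i, hi⟩ := mem_zpowers_iff.mp hu
            apply Subtype.ext
            rw [SubmonoidClass.coe_pow, ← hi, ← zpow_natCast, ← zpow_mul, mul_comm, zpow_mul,
              zpow_natCast, ← hv, pow_orderOf_eq_one, one_zpow, OneMemClass.coe_one]
          have hTc : T.card = p := by
            rw [← Fintype.card_subtype, ← Nat.card_eq_fintype_card]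
            refine (Nat.card_congr ((Subgroup.subgroupOfEquivOfLe hvle).toEquiv)).trans ?_
            rw [Nat.card_zpowers, hv]
          have hTS' : T = S := Finset.eq_of_subset_of_card_le hTS (by rw [hTc]; exact hle)
          intro u hu
          have : u ∈ T := hTS' ▸ Finset.mem_filter.mpr ⟨Finset.mem_univ _, hu⟩
          exact (Finset.mem_filter.mp this).2
        apply le_antisymm
        · exact zpowers_le.mpr (hsub (z : ↥P) hz le_sup_right ⟨w, mem_sup_left (mem_zpowers w)⟩
            (Subtype.ext (by rw [SubmonoidClass.coe_pow, ← hw, pow_orderOf_eq_one]; rfl)))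
        · exact zpowers_le.mpr (hsub w hw le_sup_left ⟨z, mem_sup_right (mem_zpowers _)⟩
            (Subtype.ext (by rw [SubmonoidClass.coe_pow, ← hz, pow_orderOf_eq_one]; rfl)))
      rw [key a ha, ← key b hb]
      exact mem_zpowers b
    obtain ⟨P⟩ : Nonempty (Sylow 2 G) := inferInstance
    let K : Subgroup G := pPrimeCore 2 G
    have hKodd : ¬ 2 ∣ Nat.card K := CfsgLib.PCore.not_dvd_card_pPrimeCore
    obtain ⟨j, hj⟩ := CfsgLib.Involutions.index_odd_core_of_nilpotent hG
    obtain ⟨i, hi⟩ := P.isPGroup'.exists_card_eq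
    have hcop : (Nat.card (P : Subgroup G)).Coprime (Nat.card K) := by
      rw [hi]; exact Nat.Coprime.pow_left i ((Nat.prime_two.coprime_iff_not_dvd).mpr hKodd)
    have hdis : Disjoint (P : Subgroup G) K := disjoint_iff.mpr (inf_eq_bot_of_coprime hcop)
    have hPn : (P : Subgroup G).Normal := inferInstance
    have hKn : K.Normal := inferInstance
    have hcomm : ∀ (p : (P : Subgroup G)) (k : K), Commute (p : G) (k : G) := fun p k =>
      commute_of_normal_of_disjoint _ _ hPn hKn hdis _ _ p.2 k.2
    let f : ↥(P : Subgroup G) × ↥K →* G :=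
      MonoidHom.noncommCoprod (P : Subgroup G).subtype K.subtype hcomm
    have hinj : Function.Injective f := by
      rw [injective_iff_map_eq_one]
      rintro ⟨p, k⟩ h
      have h' : (p : G) * k = 1 := h
      have hp : (p : G) ∈ K := by rw [eq_inv_of_mul_eq_one_left h']; exact K.inv_mem k.2
      have hp1 : (p : G) = 1 := disjoint_def.mp hdis p.2 hp
      rw [hp1, one_mul] at h'
      exact Prod.ext (Subtype.ext hp1) (Subtype.ext h')
    have hcard : Nat.card (↥(P : Subgroup G) × ↥K) = Nat.card G := by
      refine Nat.dvd_antisymm ?_ ?_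
      · rw [Nat.card_prod]
        exact hcop.mul_dvd_of_dvd_of_dvd (card_subgroup_dvd_card _) (card_subgroup_dvd_card _)
      · rw [Nat.card_prod, ← K.card_mul_index, hj, mul_comm (Nat.card (P : Subgroup G))]
        refine mul_dvd_mul_left _ ?_
        rw [hi]
        refine pow_dvd_pow 2 ?_
        have hd : 2 ^ j ∣ Nat.card G := hj ▸ K.index_dvd_card
        rw [← (P : Subgroup G).card_mul_index, hi] at hd
        have hco : (2 ^ j).Coprime (P : Subgroup G).index :=
          Nat.Coprime.pow_left j ((Nat.prime_two.coprime_iff_not_dvd).mpr P.not_dvd_index)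
        exact (Nat.pow_dvd_pow_iff_le_right (by norm_num)).mp (hco.dvd_of_dvd_mul_right hd)
    let e : ↥(P : Subgroup G) × ↥K ≃* G :=
      MulEquiv.ofBijective f ((Nat.bijective_iff_injective_and_card f).mpr ⟨hinj, hcard⟩)
    have hKcomm : IsMulCommutative K := by
      have hKnil : Group.IsNilpotent K := Subgroup.isNilpotent K
      obtain ⟨eK⟩ := ((Group.isNilpotent_of_finite_tfae (G := K)).out 0 4).1 hKnil
      refine ⟨⟨fun a b => ?_⟩⟩
      obtain ⟨a, rfl⟩ := eK.surjective a
      obtain ⟨b, rfl⟩ := eK.surjective b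
      rw [← map_mul, ← map_mul]
      congr 1
      funext p Q
      haveI : Fact (p : ℕ).Prime := ⟨Nat.prime_of_mem_primeFactors p.2⟩
      obtain ⟨m, hm⟩ := Q.isPGroup'.exists_card_eq
      have hp2 : (p : ℕ) ≠ 2 := fun h => hKodd (h ▸ Nat.dvd_of_mem_primeFactors p.2)
      have hQG : IsPGroup (p : ℕ) ((Q : Subgroup K).map K.subtype) := Q.isPGroup'.map _
      let eQ := (Q : Subgroup K).equivMapOfInjective K.subtype K.subtype_injective
      haveI : IsCyclic (Q : Subgroup K) :=
        CfsgLib.SubgroupCount.isCyclic_of_unique (Fact.out : (p : ℕ).Prime) m hm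
          (fun u v hu hv => by
            obtain ⟨n, hn⟩ := mem_zpowers_iff.mp (hunique p _ hQG (eQ u) (eQ v)
              (by rw [MulEquiv.orderOf_eq, hu]) (by rw [MulEquiv.orderOf_eq, hv]))
            exact mem_zpowers_iff.mpr ⟨n, eQ.injective (by rw [map_zpow, hn])⟩)
          (fun h => absurd h hp2)
      haveI : IsMulCommutative (Q : Subgroup K) := IsCyclic.isMulCommutative
      exact (this.is_comm.comm (a p Q) (b p Q))
    haveI hKcyc : IsCyclic K := habel K hKcomm
    have hPuniq : ∀ a b : (P : Subgroup G), orderOf a = 2 → orderOf b = 2 → a = b := by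
      intro a b ha hb
      obtain ⟨n, hn⟩ := mem_zpowers_iff.mp (hunique 2 _ P.isPGroup' a b ha hb)
      rcases Int.even_or_odd n with ⟨d, rfl⟩ | ⟨d, rfl⟩
      · exfalso
        have ha2 : a ^ (2 : ℕ) = 1 := orderOf_dvd_iff_pow_eq_one.mp ha.dvd
        rw [← two_mul, zpow_mul, zpow_ofNat, ha2, one_zpow] at hn
        rw [← hn, orderOf_one] at hb
        omega
      · have ha2 : a ^ (2 : ℕ) = 1 := orderOf_dvd_iff_pow_eq_one.mp ha.dvd
        rwa [zpow_add, zpow_mul, zpow_ofNat, ha2, one_zpow, one_mul, zpow_one] at hn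
    rcases CfsgLib.TwoGroups.OneInvolution.isCyclic_or_quaternion P.isPGroup' hPuniq with
      hcy | ⟨n, hn, ⟨eQ⟩⟩
    · exfalso
      haveI := hcy
      haveI : IsMulCommutative (P : Subgroup G) := IsCyclic.isMulCommutative
      refine hna ⟨⟨fun a b => ?_⟩⟩
      obtain ⟨a, rfl⟩ := e.surjective a
      obtain ⟨b, rfl⟩ := e.surjective b
      rw [← map_mul, ← map_mul]
      congr 1
      exact Prod.ext (this.is_comm.comm a.1 b.1) (hKcomm.is_comm.comm a.2 b.2)
    · refine ⟨n, Nat.card K, hn, Nat.not_even_iff_odd.mp (fun h => hKodd h.two_dvd), ?_⟩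
      exact ⟨e.symm.trans (MulEquiv.prodCongr eQ (zmodCyclicMulEquiv hKcyc).symm)⟩
  · rintro ⟨k, m, hk, hm, ⟨e⟩⟩
    intro x hx
    haveI : NeZero (2 ^ k) := ⟨by positivity⟩
    obtain ⟨⟨q, c⟩, hxe⟩ : ∃ y, y = e x := ⟨_, rfl⟩
    have hq : q ∉ center (QuaternionGroup (2 ^ k)) := by
      intro h
      apply hx
      rw [mem_center_iff]
      intro y
      apply e.injective
      rw [map_mul, map_mul, ← hxe]
      exact Prod.ext (mem_center_iff.mp h _) (mul_comm _ _)
    obtain ⟨w, hw⟩ := quaternion_centralizer_le q hq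
    have hw2 : ∃ i, orderOf w = 2 ^ i := by
      have hQ : IsPGroup 2 (QuaternionGroup (2 ^ k)) := IsPGroup.of_card (n := k + 2) (by
        rw [Nat.card_eq_fintype_card, QuaternionGroup.card, pow_add, mul_comm]; norm_num)
      exact IsPGroup.iff_orderOf.mp hQ w
    haveI : IsCyclic (↥(zpowers w) × Multiplicative (ZMod m)) := by
      rw [Group.isCyclic_prod_iff]
      refine ⟨inferInstance, inferInstance, ?_⟩
      obtain ⟨i, hi⟩ := hw2
      rw [Nat.card_zpowers, hi, Nat.card_congr Multiplicative.toAdd, Nat.card_zmod]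
      exact Nat.Coprime.pow_left i (Nat.coprime_two_left.mpr hm)
    let g : ↥(centralizer ({x} : Set G)) →* ↥(zpowers w) × Multiplicative (ZMod m) :=
      { toFun := fun y => (⟨(e y).1, hw (mem_centralizer_singleton_iff.mpr (by
            have h := congrArg e (mem_centralizer_singleton_iff.mp y.2)
            rw [map_mul, map_mul, ← hxe] at h
            exact congrArg Prod.fst h))⟩, (e y).2)
        map_one' := by ext <;> simp
        map_mul' := fun y z => by ext <;> simp }
    refine isCyclic_of_injective g fun y z h => Subtype.ext (e.injective ?_)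
    have h1 : (g y).1.1 = (g z).1.1 := by rw [h]
    have h2 : (g y).2 = (g z).2 := by rw [h]
    exact Prod.ext h1 h2

end Cfsg.Agent.S4370
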