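import Cfsg.Statements.S4374
import Cfsg.Agent.Lib.TripleBase.Main
-- import your own Cfsg.Agent.* helpers here

set_option autoImplicit false
open Cfsg

namespace Cfsg.Agent.S4374

/-- Let the finite solvable group A act faithfully on the finite additive group V by group automorphisms, completely reducibly (every A-invariant subgroup has an A-invariant complement). Then there are v₁, v₂, v₃ ∈ V such that only the identity of A fixes all three. -/
theorem result {A V : Type*} [Group A] [Finite A]
    [AddCommGroup V] [Finite V] [DistribMulAction A V] [FaithfulSMul A V] (hA : Group.IsSolvable A)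
    (hcr : (∀ U : AddSubgroup V, (∀ a : A, ∀ v ∈ U, a • v ∈ U) → ∃ W : AddSubgroup V, (∀ a : A, ∀ w ∈ W, a • w ∈ W) ∧ U ⊓ W = ⊥ ∧ U ⊔ W = ⊤)) :
    ∃ v₁ v₂ v₃ : V, ∀ a : A, a • v₁ = v₁ → a • v₂ = v₂ → a • v₃ = v₃ → a = 1 := by
  -- a common universe
  let ρ : ULift.{max u_1 u_2} A →* AddMonoid.End (ULift.{max u_1 u_2} V) :=
    { toFun := fun a =>
        { toFun := fun v => ULift.up (a.down • v.down)
          map_zero' := by simp; rfl
          map_add' := fun x y => ULift.ext _ _ (smul_add a.down x.down y.down) }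
      map_one' := by
        ext v
        exact one_smul A v.down
      map_mul' := fun a b => by
        ext v
        exact mul_smul a.down b.down v.down }
  haveI : Group.IsSolvable (ULift.{max u_1 u_2} A) :=
    haveI := hA
    Group.isSolvable_of_isSolvable_injective (f := (MulEquiv.ulift : ULift.{max u_1 u_2} A ≃* A).toMonoidHom)
      (MulEquiv.injective _)
  have hcr' : CfsgLib.OddBase.CR ρ := by
    intro U hU
    let e : V →+ ULift.{max u_1 u_2} V := AddEquiv.ulift.symm.toAddMonoidHom
    obtain ⟨W, hW, h1, h2⟩ := hcr (U.comap e) (fun a v hv => hU (ULift.up a) (ULift.up v) hv)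
    refine ⟨W.comap (AddEquiv.ulift : ULift.{max u_1 u_2} V ≃+ V).toAddMonoidHom, fun a v hv => hW a.down v.down hv, ?_, ?_⟩
    · rw [eq_bot_iff]
      rintro ⟨v⟩ ⟨hvU, hvW⟩
      have : v ∈ U.comap e ⊓ W := ⟨hvU, hvW⟩
      rw [h1, AddSubgroup.mem_bot] at this
      subst this
      exact AddSubgroup.mem_bot.2 rfl
    · rw [eq_top_iff]
      rintro ⟨v⟩ -
      have : v ∈ U.comap e ⊔ W := by rw [h2]; trivial
      obtain ⟨x, hx, y, hy, rfl⟩ := AddSubgroup.mem_sup.1 this
      exact AddSubgroup.mem_sup.2 ⟨ULift.up x, hx, ULift.up y, hy, rfl⟩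
  obtain ⟨t, h⟩ := CfsgLib.TripleBase.exists_triple ρ hcr'
  refine ⟨(t 0).down, (t 1).down, (t 2).down, fun a h0 h1 h2 =>
    FaithfulSMul.eq_of_smul_eq_smul (α := V) fun x => ?_⟩
  have h3 := h (ULift.up a) fun i => by
    fin_cases i
    · exact congrArg ULift.up h0
    · exact congrArg ULift.up h1
    · exact congrArg ULift.up h2
  rw [one_smul]
  exact congrArg ULift.down (DFunLike.congr_fun h3 (ULift.up x))

end Cfsg.Agent.S4374
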