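import Cfsg.Statements.S4375
import Cfsg.Agent.Lib.OddBase.Main
import Cfsg.Agent.S0205

set_option autoImplicit false
open Cfsg

namespace Cfsg.Agent.S4375

/-- Let the finite group A of odd order act faithfully on the finite additive group V by group automorphisms, completely reducibly (every A-invariant subgroup has an A-invariant complement). Then there are v, w ∈ V such that only the identity of A fixes both. -/
theorem result {A V : Type*} [Group A] [Finite A]
    [AddCommGroup V] [Finite V] [DistribMulAction A V] [FaithfulSMul A V] (hA : Odd (Nat.card A))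
    (hcr : (∀ U : AddSubgroup V, (∀ a : A, ∀ v ∈ U, a • v ∈ U) → ∃ W : AddSubgroup V, (∀ a : A, ∀ w ∈ W, a • w ∈ W) ∧ U ⊓ W = ⊥ ∧ U ⊔ W = ⊤)) :
    ∃ v w : V, ∀ a : A, a • v = v → a • w = w → a = 1 := by
  -- a common universe
  let ρ : ULift.{max u_1 u_2} A →* AddMonoid.End (ULift.{max u_1 u_2} V) :=
    { toFun := fun a =>
        { toFun := fun v => ULift.up (a.down • v.down)
          map_zero' := by simp; rfl
          map_add' := fun x y => ULift.ext _ _ (smul_add a.down x.down y.down) }
      map_one' := by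
        ext v
        exact one_smul A v.down
      map_mul' := fun a b => by
        ext v
        exact mul_smul a.down b.down v.down }
  have hA' : Odd (Nat.card (ULift.{max u_1 u_2} A)) := by
    rwa [Nat.card_congr Equiv.ulift]
  have hcr' : CfsgLib.OddBase.CR ρ := by
    intro U hU
    let e : V →+ ULift.{max u_1 u_2} V := AddEquiv.ulift.symm.toAddMonoidHom
    obtain ⟨W, hW, h1, h2⟩ := hcr (U.comap e) (fun a v hv => hU (ULift.up a) (ULift.up v) hv)
    refine ⟨W.comap (AddEquiv.ulift : ULift.{max u_1 u_2} V ≃+ V).toAddMonoidHom, fun a v hv => hW a.down v.down hv, ?_, ?_⟩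
    · rw [eq_bot_iff]
      rintro ⟨v⟩ ⟨hvU, hvW⟩
      have : v ∈ U.comap e ⊓ W := ⟨hvU, hvW⟩
      rw [h1, AddSubgroup.mem_bot] at this
      subst this
      exact AddSubgroup.mem_bot.2 rfl
    · rw [eq_top_iff]
      rintro ⟨v⟩ -
      have : v ∈ U.comap e ⊔ W := by rw [h2]; trivial
      obtain ⟨x, hx, y, hy, rfl⟩ := AddSubgroup.mem_sup.1 this
      exact AddSubgroup.mem_sup.2 ⟨ULift.up x, hx, ULift.up y, hy, rfl⟩
  obtain ⟨⟨⟨v⟩, ⟨w⟩⟩, h⟩ := CfsgLib.OddBase.exists_pair
    (fun G _ _ hG => Cfsg.Agent.S0205.result hG) hA' ρ hcr'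
  refine ⟨v, w, fun a hv hw => FaithfulSMul.eq_of_smul_eq_smul (α := V) fun x => ?_⟩
  have h1 := h (ULift.up a) (congrArg ULift.up hv) (congrArg ULift.up hw)
  rw [one_smul]
  exact congrArg ULift.down (DFunLike.congr_fun h1 (ULift.up x))

end Cfsg.Agent.S4375
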