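import Cfsg.Statements.S4381
import Cfsg.Agent.Lib.Coprime85.Invariant

set_option autoImplicit false
open Pointwise
open scoped commutatorElement
open Cfsg

namespace Cfsg.Agent.S4381

/-- Let the finite group A act by automorphisms on the finite group G with the orders of A and G coprime, and assume that A or G is solvable. Call a proper A-invariant subgroup of G maximal A-invariant when no A-invariant subgroup lies strictly between it and G. Then all maximal A-invariant subgroups of G are conjugate under elements of the fixed-point subgroup C_G(A) if and only if G is a p-group for some prime p and A leaves invariant no subgroup strictly between the Frattini subgroup of G and G. In that case, if G is nontrivial, the Frattini subgroup is the only maximal A-invariant subgroup (a trivial G has none). -/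
theorem result {A G : Type*} [Group A] [Finite A]
    [Group G] [Finite G] [MulDistribMulAction A G] (hcop : (Nat.card A).Coprime (Nat.card G)) (hsol : Group.IsSolvable A ∨ Group.IsSolvable G) :
    ((∀ M N : Subgroup G, (M ≠ ⊤ ∧ (∀ a : A, ∀ x ∈ M, a • x ∈ M) ∧ ∀ L : Subgroup G, M < L → (∀ a : A, ∀ x ∈ L, a • x ∈ L) → L = ⊤) → (N ≠ ⊤ ∧ (∀ a : A, ∀ x ∈ N, a • x ∈ N) ∧ ∀ L : Subgroup G, N < L → (∀ a : A, ∀ x ∈ L, a • x ∈ L) → L = ⊤) →
        ∃ c : G, (∀ a : A, a • c = c) ∧ N = MulAut.conj c • M) ↔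
      ((∃ p : ℕ, p.Prime ∧ IsPGroup p G) ∧ ∀ L : Subgroup G, frattini G < L → (∀ a : A, ∀ x ∈ L, a • x ∈ L) → L = ⊤)) ∧
    (((∃ p : ℕ, p.Prime ∧ IsPGroup p G) ∧ ∀ L : Subgroup G, frattini G < L → (∀ a : A, ∀ x ∈ L, a • x ∈ L) → L = ⊤) →
      ∀ M : Subgroup G, (M ≠ ⊤ ∧ (∀ a : A, ∀ x ∈ M, a • x ∈ M) ∧ ∀ L : Subgroup G, M < L → (∀ a : A, ∀ x ∈ L, a • x ∈ L) → L = ⊤) ↔ (M = frattini G ∧ M ≠ ⊤)) := by
  have hΦinv : ∀ a : A, ∀ x ∈ frattini G, a • x ∈ frattini G := fun a x hx =>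
    (Subgroup.characteristic_iff_comap_eq.1 (inferInstance : (frattini G).Characteristic)
      (MulDistribMulAction.toMulEquiv G a)).ge hx
  have second : ((∃ p : ℕ, p.Prime ∧ IsPGroup p G) ∧ ∀ L : Subgroup G, frattini G < L →
      (∀ a : A, ∀ x ∈ L, a • x ∈ L) → L = ⊤) →
      ∀ M : Subgroup G, (M ≠ ⊤ ∧ (∀ a : A, ∀ x ∈ M, a • x ∈ M) ∧
        ∀ L : Subgroup G, M < L → (∀ a : A, ∀ x ∈ L, a • x ∈ L) → L = ⊤) ↔
        (M = frattini G ∧ M ≠ ⊤) := by
    intro h M
    constructor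
    · rintro ⟨hM, hMinv, hMmax⟩
      have hinv : ∀ a : A, ∀ x ∈ M ⊔ frattini G, a • x ∈ M ⊔ frattini G := by
        intro a x hx
        have hle : (M ⊔ frattini G).map (MulDistribMulAction.toMonoidHom G a) ≤ M ⊔ frattini G := by
          rw [Subgroup.map_sup]
          exact sup_le_sup (Subgroup.map_le_iff_le_comap.2 (hMinv a))
            (Subgroup.map_le_iff_le_comap.2 (hΦinv a))
        exact hle ⟨x, hx, rfl⟩
      have hne : M ⊔ frattini G ≠ ⊤ := fun e => hM (frattini_nongenerating e)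
      have he : M ⊔ frattini G = frattini G := by
        by_contra hc
        exact hne (h.2 _ (lt_of_le_of_ne le_sup_right (Ne.symm hc)) hinv)
      have hle : M ≤ frattini G := le_sup_left.trans he.le
      refine ⟨?_, hM⟩
      by_contra hc
      exact hne (he.trans (hMmax _ (lt_of_le_of_ne hle hc) hΦinv))
    · rintro ⟨rfl, hM⟩
      exact ⟨hM, hΦinv, h.2⟩
  refine ⟨⟨fun hconj => ?_, fun h M N hM hN => ⟨1, fun a => smul_one a, ?_⟩⟩, second⟩
  swap
  · rw [map_one, one_smul, ((second h M).1 hM).1, ((second h N).1 hN).1]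
  let P : Subgroup G → Prop := fun M => M ≠ ⊤ ∧ ∀ a : A, ∀ x ∈ M, a • x ∈ M
  have hex : ∀ U : Subgroup G, P U → ∃ M, U ≤ M ∧ (M ≠ ⊤ ∧ (∀ a : A, ∀ x ∈ M, a • x ∈ M) ∧
      ∀ L : Subgroup G, M < L → (∀ a : A, ∀ x ∈ L, a • x ∈ L) → L = ⊤) := by
    intro U hU
    obtain ⟨M, hUM, hM⟩ := (Set.toFinite {M : Subgroup G | P M}).exists_le_maximal hU
    refine ⟨M, hUM, hM.1.1, hM.1.2, fun L hL hLi => ?_⟩
    by_contra hc
    exact hL.not_ge (hM.2 ⟨hc, hLi⟩ hL.le)
  -- the group is a p-group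
  have hpg : ∃ p : ℕ, p.Prime ∧ IsPGroup p G := by
    rcases eq_or_ne (⊥ : Subgroup G) ⊤ with hbt | hbt
    · refine ⟨2, Nat.prime_two, IsPGroup.of_card (n := 0) ?_⟩
      rw [pow_zero, ← Subgroup.card_top (G := G), ← hbt, Subgroup.card_bot]
    by_contra hno
    obtain ⟨M₀, -, hM₀⟩ := hex ⊥ ⟨hbt, fun a x hx => by
      rw [Subgroup.mem_bot] at hx ⊢; rw [hx, smul_one]⟩
    refine hM₀.1 (Subgroup.eq_top_of_le_card _ (Nat.le_of_dvd Nat.card_pos ?_))
    rw [← Nat.factorization_le_iff_dvd Nat.card_pos.ne' Nat.card_pos.ne']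
    intro q
    by_cases hq : q.Prime
    swap
    · simp [Nat.factorization_eq_zero_of_not_prime _ hq]
    haveI := Fact.mk hq
    obtain ⟨S, hS⟩ := CfsgLib.Coprime85.exists_invariant_sylow hcop hsol q
    have hStop : (S : Subgroup G) ≠ ⊤ := fun e => hno ⟨q, hq, by
      have := S.isPGroup'
      rw [e] at this
      exact this.of_equiv Subgroup.topEquiv⟩
    obtain ⟨M, hSM, hM⟩ := hex _ ⟨hStop, hS⟩
    obtain ⟨c, -, hc⟩ := hconj M M₀ hM hM₀
    have hd : q ^ (Nat.card G).factorization q ∣ Nat.card M₀ := by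
      rw [hc, CfsgLib.Coprime.card_conj_smul, ← S.card_eq_multiplicity]
      exact Subgroup.card_dvd_of_le hSM
    exact (hq.pow_dvd_iff_le_factorization Nat.card_pos.ne').1 hd
  refine ⟨hpg, fun L hL hLinv => ?_⟩
  obtain ⟨p, hp, hG⟩ := hpg
  haveI := Fact.mk hp
  by_contra hLtop
  obtain ⟨M, hLM, hM⟩ := hex L ⟨hLtop, hLinv⟩
  have hn : M.Normal := ⟨fun m hm g => by
    have h1 : ⁅g, m⁆ ∈ frattini G := CfsgLib.PGroup.commutator_le_frattini hG
      (Subgroup.commutator_mem_commutator (Subgroup.mem_top g) (Subgroup.mem_top m))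
    have h2 := M.mul_mem (hLM (hL.le h1)) hm
    simpa [commutatorElement_def] using h2⟩
  have hpG : p ∣ Nat.card G := by
    obtain ⟨k, hk⟩ := IsPGroup.iff_card.1 hG
    rcases Nat.eq_zero_or_pos k with rfl | hk0
    · exfalso
      refine hM.1 (Subgroup.eq_top_of_le_card _ ?_)
      rw [hk, pow_zero]
      exact Nat.card_pos
    · exact hk ▸ dvd_pow_self p hk0.ne'
  have hpA : ¬ p ∣ Nat.card A := fun hd =>
    hp.ne_one (Nat.eq_one_of_dvd_one (hcop ▸ Nat.dvd_gcd hd hpG))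
  obtain ⟨N, hNinv, hΦN, hinf, hsup⟩ :=
    CfsgLib.Coprime85.exists_invariant_compl_mod_frattini hG hpA L hL.le hLinv
  have hNtop : N ≠ ⊤ := fun e => hL.ne' (by rwa [e, inf_top_eq] at hinf)
  obtain ⟨M', hNM', hM'⟩ := hex N ⟨hNtop, hNinv⟩
  obtain ⟨c, -, hc⟩ := hconj M M' hM hM'
  have hMM : M' = M := by
    rw [hc]
    ext x
    rw [CfsgLib.Coprime.mem_conj_smul]
    constructor
    · intro h
      have := hn.conj_mem _ h c
      simpa [mul_assoc] using this
    · intro h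
      simpa using hn.conj_mem _ h c⁻¹
  exact hM.1 (top_le_iff.1 (hsup.ge.trans (sup_le hLM (hMM ▸ hNM'))))

end Cfsg.Agent.S4381
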