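import Cfsg.Statements.S4383
-- import your own Cfsg.Agent.* helpers here

set_option autoImplicit false
open Pointwise
open Cfsg

namespace Cfsg.Agent.S4383


/-- Every maximal subgroup is conjugate to `A` or to `B`. -/
def CovMax {G : Type*} [Group G] (A B : Subgroup G) : Prop :=
  ∀ M : Subgroup G, IsCoatom M → ∃ g : G, M = MulAut.conj g • A ∨ M = MulAut.conj g • B

variable {G : Type*} [Group G]

lemma mem_conj_smul {H : Subgroup G} {g x : G} :
    x ∈ MulAut.conj g • H ↔ g⁻¹ * x * g ∈ H := by
  rw [Subgroup.mem_pointwise_smul_iff_inv_smul_mem]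
  simp [MulAut.smul_def, mul_assoc]

lemma conj_smul_self_of_mem {H : Subgroup G} {g : G} (hg : g ∈ H) : MulAut.conj g • H = H := by
  ext x
  rw [mem_conj_smul]
  constructor
  · intro hx
    have := H.mul_mem (H.mul_mem hg hx) (H.inv_mem hg)
    simpa [mul_assoc] using this
  · intro hx
    exact H.mul_mem (H.mul_mem (H.inv_mem hg) hx) hg

lemma index_conj_smul (H : Subgroup G) (g : G) : (MulAut.conj g • H).index = H.index :=
  Subgroup.index_map_equiv H (MulAut.conj g)

lemma card_conj_smul (H : Subgroup G) (g : G) :
    Nat.card ↥(MulAut.conj g • H) = Nat.card H :=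
  (Nat.card_congr (Subgroup.equivSMul (MulAut.conj g) H).toEquiv).symm

lemma CovMax.symm {A B : Subgroup G} (h : CovMax A B) : CovMax B A := fun M hM =>
  (h M hM).imp fun _ hg => hg.symm

lemma isCoatom_conj_smul {H : Subgroup G} (hH : IsCoatom H) (g : G) :
    IsCoatom (MulAut.conj g • H) := by
  constructor
  · intro h
    apply hH.1
    rw [← Subgroup.index_eq_one] at h ⊢
    rwa [index_conj_smul] at h
  · intro K hK
    have h1 : H < (MulAut.conj g)⁻¹ • K := by
      refine lt_of_le_of_ne (Subgroup.pointwise_smul_subset_iff.mp hK.le) fun h => hK.ne ?_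
      rw [h, smul_inv_smul]
    have h2 := hH.2 _ h1
    rw [eq_top_iff] at h2 ⊢
    intro x _
    have h3 := h2 (Subgroup.mem_top ((MulAut.conj g)⁻¹ • x))
    exact (Subgroup.smul_mem_pointwise_smul_iff).mp h3

variable [Finite G]

lemma exists_coatom_ge {H : Subgroup G} (hH : H ≠ ⊤) : ∃ M : Subgroup G, IsCoatom M ∧ H ≤ M :=
  (eq_top_or_exists_le_coatom H).resolve_left hH

/-- A subgroup containing a Sylow `p`-subgroup has index prime to `p`. -/
lemma exists_full {M : Subgroup G} {p : ℕ} [Fact p.Prime] (hM : ¬ p ∣ M.index) {R : Subgroup G}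
    (hR : IsPGroup p R) (hRM : R ≤ M) :
    ∃ S : Sylow p G, R ≤ S ∧ (S : Subgroup G) ≤ M := by
  have hR' : IsPGroup p (R.subgroupOf M) := hR.of_equiv (Subgroup.subgroupOfEquivOfLe hRM).symm
  obtain ⟨Q, hQ⟩ := hR'.exists_le_sylow
  have hQM : (Q : Subgroup M).map M.subtype ≤ M := Subgroup.map_subtype_le _
  have hidx : ¬ p ∣ ((Q : Subgroup M).map M.subtype).index := by
    have hQi : ¬ p ∣ (Q : Subgroup M).index := Q.not_dvd_index
    rw [Subgroup.index_map_subtype]
    intro h
    rcases (Nat.Prime.dvd_mul Fact.out).mp h with h | h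
    · exact hQi h
    · exact hM h
  have hP : IsPGroup p ↥((Q : Subgroup M).map M.subtype) := Q.isPGroup'.map M.subtype
  refine ⟨hP.toSylow hidx, ?_, hQM⟩
  intro x hx
  exact ⟨⟨x, hRM hx⟩, hQ hx, rfl⟩

/-- If `G` has no normal `p`-subgroup and `p` divides the index of `A` but not that of `B`, the
`p`-part of the index of `A` divides `|G : B| - 1`. -/
theorem pow_dvd_index_sub_one {A B : Subgroup G} (hcov : CovMax A B) (hB : IsCoatom B)
    {p : ℕ} [Fact p.Prime] (hpA : p ∣ A.index) (hpB : ¬ p ∣ B.index)
    (hnone : ∀ R : Subgroup G, R.Normal → IsPGroup p R → R = ⊥) :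
    p ^ A.index.factorization p ∣ B.index - 1 := by
  set v := (Nat.card A).factorization p with hv
  set w := A.index.factorization p with hw
  have hpG : (Nat.card G).factorization p = v + w := by
    rw [← A.card_mul_index, Nat.factorization_mul Nat.card_pos.ne' Subgroup.index_ne_zero_of_finite]
    rfl
  have hw0 : 0 < w :=
    Nat.Prime.factorization_pos_of_dvd Fact.out Subgroup.index_ne_zero_of_finite hpA
  -- maximal subgroups over a large `p`-subgroup are conjugate to `B`
  have htype : ∀ R : Subgroup G, IsPGroup p R → p ^ v < Nat.card R → ∀ M : Subgroup G,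
      IsCoatom M → R ≤ M → ∃ g : G, M = MulAut.conj g • B := by
    intro R hR hlt M hM hRM
    obtain ⟨g, hg | hg⟩ := hcov M hM
    · exfalso
      obtain ⟨r, hr⟩ := IsPGroup.iff_card.mp hR
      have h1 : Nat.card R ∣ Nat.card A := by
        rw [← card_conj_smul A g, ← hg]
        exact Subgroup.card_dvd_of_le hRM
      rw [hr] at h1 hlt
      have h2 := (Nat.Prime.pow_dvd_iff_le_factorization Fact.out Nat.card_pos.ne').mp h1
      have h3 := (Nat.pow_lt_pow_iff_right (Fact.out : p.Prime).one_lt).mp hlt
      omega
    · exact ⟨g, hg⟩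
  -- such a subgroup lies in only one maximal subgroup
  have huniq : ∀ (n : ℕ) (R : Subgroup G), Nat.card G - Nat.card R = n → IsPGroup p R →
      p ^ v < Nat.card R → ∀ M M' : Subgroup G, IsCoatom M → IsCoatom M' → R ≤ M → R ≤ M' →
        M = M' := by
    intro n
    induction n using Nat.strong_induction_on with
    | _ n ih =>
      intro R hn hR hlt M M' hM hM' hRM hRM'
      have hR1 : R ≠ ⊥ := by
        rintro rfl
        rw [Subgroup.card_bot] at hlt
        have h0 := Nat.one_le_pow v p (Fact.out : p.Prime).pos
        omega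
      have hN : Subgroup.normalizer (R : Set G) ≠ ⊤ := fun h =>
        hR1 (hnone R (Subgroup.normalizer_eq_top_iff.mp h) hR)
      obtain ⟨X, hX, hNX⟩ := exists_coatom_ge hN
      suffices h : ∀ Y : Subgroup G, IsCoatom Y → R ≤ Y → Y = X by
        rw [h M hM hRM, h M' hM' hRM']
      intro Y hY hRY
      have hRX : R ≤ X := Subgroup.le_normalizer.trans hNX
      obtain ⟨g, hgY⟩ := htype R hR hlt Y hY hRY
      obtain ⟨k, hkX⟩ := htype R hR hlt X hX hRX
      have hYidx : ¬ p ∣ Y.index := by rw [hgY, index_conj_smul]; exact hpB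
      obtain ⟨S, hRS, hSY⟩ := exists_full hYidx hR hRY
      rcases eq_or_lt_of_le hRS with heq | hlt'
      · -- `R` is a Sylow subgroup
        have hXY : X = MulAut.conj (k * g⁻¹) • Y := by
          rw [hgY, ← mul_smul, ← map_mul, hkX]
          simp
        set c := k * g⁻¹ with hc
        have hcR : (MulAut.conj c • R : Subgroup G) ≤ X := by
          rw [hXY]
          exact Subgroup.pointwise_smul_le_pointwise_smul_iff.mpr hRY
        let P₁ : Sylow p ↥X := S.subtype (heq ▸ hRX)
        let P₂ : Sylow p ↥X := (c • S).subtype (by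
          rw [Sylow.coe_subgroup_smul, ← heq]; exact hcR)
        obtain ⟨x, hx⟩ := MulAction.exists_smul_eq ↥X P₂ P₁
        have hx' : (MulAut.conj ((x : G) * c) • (S : Subgroup G)) = S := by
          have h1 : x • P₂ = ((x : G) • (c • S)).subtype _ :=
            Sylow.smul_subtype _ x
          rw [h1] at hx
          have h2 := Sylow.subtype_injective hx
          rw [← mul_smul] at h2
          rw [← Sylow.coe_subgroup_smul, h2]
        have hmem : (x : G) * c ∈ Subgroup.normalizer (R : Set G) := by
          rw [heq]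
          rw [Subgroup.mem_normalizer_iff]
          intro h
          conv_rhs => rw [← hx', mem_conj_smul]
          simp [mul_assoc]
        have hcX : c ∈ X := by
          have := X.mul_mem (X.inv_mem x.2) (hNX hmem)
          simpa using this
        calc Y = MulAut.conj c⁻¹ • X := by rw [hXY, ← mul_smul, ← map_mul]; simp
          _ = X := conj_smul_self_of_mem (X.inv_mem hcX)
      · have hnil : Group.IsNilpotent ↥(S : Subgroup G) := S.isPGroup'.isNilpotent
        set T := Subgroup.normalizer (R : Set G) ⊓ (S : Subgroup G) with hT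
        have hRT : R < T := by
          refine lt_of_le_of_ne (le_inf Subgroup.le_normalizer hRS) fun h => ?_
          have h1 : Subgroup.normalizer (R.subgroupOf S : Set ↥(S : Subgroup G)) =
              R.subgroupOf S := by
            refine le_antisymm ?_ Subgroup.le_normalizer
            intro y hy
            have hy' : (y : G) ∈ T := by
              refine ⟨?_, y.2⟩
              change (y : G) ∈ Subgroup.normalizer (R : Set G)
              rw [Subgroup.mem_normalizer_iff]
              intro z
              constructor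
              · intro hz
                exact (Subgroup.mem_normalizer_iff.mp hy ⟨z, hRS hz⟩).mp hz
              · intro hz
                have hzS : z ∈ (S : Subgroup G) := by
                  have := (S : Subgroup G).mul_mem
                    ((S : Subgroup G).mul_mem ((S : Subgroup G).inv_mem y.2) (hRS hz)) y.2
                  simpa [mul_assoc] using this
                exact (Subgroup.mem_normalizer_iff.mp hy ⟨z, hzS⟩).mpr hz
            rw [← h] at hy'
            exact hy'
          have h2 := normalizerCondition_iff_only_full_group_self_normalizing.mp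
            (Group.normalizerCondition_of_isNilpotent (G := ↥(S : Subgroup G))) _ h1
          rw [Subgroup.subgroupOf_eq_top] at h2
          exact absurd h2 (not_le_of_gt hlt')
        have hTcard : Nat.card R < Nat.card T := by
          refine lt_of_le_of_ne (Nat.le_of_dvd Nat.card_pos (Subgroup.card_dvd_of_le hRT.le))
            fun h => ?_
          exact hRT.ne (Subgroup.eq_of_le_of_card_ge hRT.le h.ge)
        have hTG : Nat.card T ≤ Nat.card G := Nat.card_le_card_of_injective _ Subtype.val_injective
        refine ih (Nat.card G - Nat.card T) (by omega) T rfl (S.isPGroup'.to_le inf_le_right)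
          (hlt.trans hTcard) Y X hY hX (inf_le_right.trans hSY) (inf_le_left.trans hNX)
  obtain ⟨P, -, hPB⟩ := exists_full hpB (IsPGroup.of_bot (p := p) (G := G)) bot_le
  have hPcard : Nat.card ↥(P : Subgroup G) = p ^ (v + w) := by
    rw [Sylow.card_eq_multiplicity, hpG]
  have hPlt : p ^ v < Nat.card ↥(P : Subgroup G) := by
    rw [hPcard]
    exact Nat.pow_lt_pow_right (Fact.out : p.Prime).one_lt (by omega)
  have hNP : Subgroup.normalizer ((P : Subgroup G) : Set G) ≤ B := by
    have hN : Subgroup.normalizer ((P : Subgroup G) : Set G) ≠ ⊤ := fun h => by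
      have h1 := hnone _ (Subgroup.normalizer_eq_top_iff.mp h) P.isPGroup'
      rw [h1, Subgroup.card_bot] at hPlt
      have h0 := Nat.one_le_pow v p (Fact.out : p.Prime).pos
      omega
    obtain ⟨X, hX, hNX⟩ := exists_coatom_ge hN
    rw [huniq _ _ rfl P.isPGroup' hPlt B X hB hX hPB (Subgroup.le_normalizer.trans hNX)]
    exact hNX
  have hself : ∀ x : G, MulAut.conj x • B = B → x ∈ B := by
    intro x hx
    have hP' : (MulAut.conj x • (P : Subgroup G)) ≤ B := by
      rw [← hx]
      exact Subgroup.pointwise_smul_le_pointwise_smul_iff.mpr hPB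
    let P₁ : Sylow p ↥B := P.subtype hPB
    let P₂ : Sylow p ↥B := (x • P).subtype (by rwa [Sylow.coe_subgroup_smul])
    obtain ⟨y, hy⟩ := MulAction.exists_smul_eq ↥B P₂ P₁
    have hy' : (MulAut.conj ((y : G) * x) • (P : Subgroup G)) = P := by
      have h1 : y • P₂ = ((y : G) • (x • P)).subtype _ :=
        Sylow.smul_subtype _ y
      rw [h1] at hy
      have h2 := Sylow.subtype_injective hy
      rw [← mul_smul] at h2
      rw [← Sylow.coe_subgroup_smul, h2]
    have hmem : (y : G) * x ∈ Subgroup.normalizer ((P : Subgroup G) : Set G) := by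
      rw [Subgroup.mem_normalizer_iff]
      intro h
      conv_rhs => rw [← hy', mem_conj_smul]
      simp [mul_assoc]
    have := B.mul_mem (B.inv_mem y.2) (hNP hmem)
    simpa using this
  -- orbits of `P` on the cosets other than `B` itself
  classical
  haveI : Fintype (G ⧸ B) := Fintype.ofFinite _
  set b0 : G ⧸ B := ((1 : G) : G ⧸ B) with hb0
  have horb : ∀ q : G ⧸ B, q ≠ b0 →
      p ^ w ∣ Nat.card (MulAction.orbit ↥(P : Subgroup G) q) := by
    intro q hq
    induction q using QuotientGroup.induction_on with
    | H x =>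
      have hxB : x ∉ B := by
        intro hx
        apply hq
        rw [hb0, QuotientGroup.eq]
        simpa using B.inv_mem hx
      set Q := MulAction.stabilizer ↥(P : Subgroup G) (x : G ⧸ B) with hQ
      set Q' := Q.map (P : Subgroup G).subtype with hQ'
      have hQB : Q' ≤ MulAut.conj x • B := by
        rintro _ ⟨⟨g, hg⟩, hgQ, rfl⟩
        have h1 : ((g * x : G) : G ⧸ B) = (x : G ⧸ B) := MulAction.mem_stabilizer_iff.mp hgQ
        rw [QuotientGroup.eq] at h1
        rw [mem_conj_smul]
        have := B.inv_mem h1
        simpa [mul_assoc] using this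
      have hQP : Q' ≤ (P : Subgroup G) := Subgroup.map_subtype_le _
      have hle : Nat.card Q' ≤ p ^ v := by
        by_contra hgt
        have h1 := huniq _ Q' rfl (P.isPGroup'.to_le hQP) (by omega) B (MulAut.conj x • B) hB
          (isCoatom_conj_smul hB x) (hQP.trans hPB) hQB
        exact hxB (hself x h1.symm)
      have hcard : Nat.card Q' = Nat.card Q :=
        (Nat.card_congr (Q.equivMapOfInjective _ Subtype.val_injective).toEquiv).symm
      obtain ⟨r, hr⟩ := IsPGroup.iff_card.mp (P.isPGroup'.to_subgroup Q)
      have hrv : r ≤ v := by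
        rw [hcard, hr] at hle
        exact (Nat.pow_le_pow_iff_right (Fact.out : p.Prime).one_lt).mp hle
      have h2 : Q.index * Nat.card Q = p ^ (v + w) := by rw [Subgroup.index_mul_card, hPcard]
      rw [← Nat.card_congr (MulAction.orbitEquivQuotientStabilizer ↥(P : Subgroup G)
        (x : G ⧸ B)).symm]
      change p ^ w ∣ Q.index
      rw [hr] at h2
      have h3 : Q.index = p ^ (v + w - r) := by
        apply Nat.eq_of_mul_eq_mul_right (pow_pos (Fact.out : p.Prime).pos r)
        rw [h2, ← pow_add]
        congr 1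
        omega
      rw [h3]
      exact pow_dvd_pow p (by omega)
  have hfix : ∀ g : ↥(P : Subgroup G), g • b0 = b0 := by
    intro g
    change (((g : G) * 1 : G) : G ⧸ B) = ((1 : G) : G ⧸ B)
    rw [QuotientGroup.eq]
    simpa using B.inv_mem (hPB g.2)
  haveI : Fintype (MulAction.orbitRel.Quotient ↥(P : Subgroup G) (G ⧸ B)) := Fintype.ofFinite _
  set o0 : MulAction.orbitRel.Quotient ↥(P : Subgroup G) (G ⧸ B) := Quotient.mk'' b0 with ho0
  have hsum : B.index = ∑ o : MulAction.orbitRel.Quotient ↥(P : Subgroup G) (G ⧸ B),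
      Nat.card (MulAction.orbit ↥(P : Subgroup G) o.out) := by
    rw [Subgroup.index, Nat.card_congr (MulAction.selfEquivSigmaOrbits ↥(P : Subgroup G) (G ⧸ B)),
      Nat.card_sigma]
  have horb0 : MulAction.orbit ↥(P : Subgroup G) b0 = {b0} := by
    ext q
    constructor
    · rintro ⟨g, rfl⟩
      exact hfix g
    · rintro rfl
      exact MulAction.mem_orbit_self _
  rw [← Finset.add_sum_erase Finset.univ _ (Finset.mem_univ o0)] at hsum
  have hout : o0.out = b0 := by
    have h1 : o0.out ∈ MulAction.orbit ↥(P : Subgroup G) b0 :=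
      MulAction.orbitRel_apply.mp (Quotient.exact' (Quotient.out_eq' o0))
    rw [horb0] at h1
    exact h1
  rw [hout, horb0, Nat.card_eq_fintype_card, Set.card_singleton] at hsum
  rw [hsum, Nat.add_sub_cancel_left]
  refine Finset.dvd_sum fun o ho => horb _ fun h => (Finset.mem_erase.mp ho).1 ?_
  rw [← Quotient.out_eq' o, h]

/-- Two classes of maximal subgroups: either there is a nontrivial normal subgroup of prime power
order, or the group is trivial. -/
theorem exists_normal_pGroup [Nontrivial G] {A B : Subgroup G} (hcov : CovMax A B) :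
    ∃ (q : ℕ) (R : Subgroup G), q.Prime ∧ R.Normal ∧ IsPGroup q R ∧ R ≠ ⊥ := by
  by_contra hne
  push_neg at hne
  have hnone : ∀ (q : ℕ), q.Prime → ∀ R : Subgroup G, R.Normal → IsPGroup q R → R = ⊥ :=
    fun q hq R h1 h2 => hne q R hq h1 h2
  obtain ⟨M₀, hM₀, -⟩ := exists_coatom_ge (bot_ne_top : (⊥ : Subgroup G) ≠ ⊤)
  -- both representatives may be taken maximal
  obtain ⟨A', B', hA', hB', hcov'⟩ : ∃ A' B' : Subgroup G,
      IsCoatom A' ∧ IsCoatom B' ∧ CovMax A' B' := by
    obtain ⟨g, hg | hg⟩ := hcov M₀ hM₀
    · have hA : IsCoatom A := by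
        have := isCoatom_conj_smul hM₀ g⁻¹
        rwa [hg, ← mul_smul, ← map_mul, inv_mul_cancel, map_one, one_smul] at this
      by_cases hBc : ∃ M, IsCoatom M ∧ ∃ h : G, M = MulAut.conj h • B
      · obtain ⟨M, hM, h, rfl⟩ := hBc
        have hB : IsCoatom B := by
          have := isCoatom_conj_smul hM h⁻¹
          rwa [← mul_smul, ← map_mul, inv_mul_cancel, map_one, one_smul] at this
        exact ⟨A, B, hA, hB, hcov⟩
      · refine ⟨A, A, hA, hA, fun M hM => ?_⟩
        obtain ⟨h, hh | hh⟩ := hcov M hM
        · exact ⟨h, Or.inl hh⟩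
        · exact absurd ⟨M, hM, h, hh⟩ hBc
    · have hB : IsCoatom B := by
        have := isCoatom_conj_smul hM₀ g⁻¹
        rwa [hg, ← mul_smul, ← map_mul, inv_mul_cancel, map_one, one_smul] at this
      by_cases hAc : ∃ M, IsCoatom M ∧ ∃ h : G, M = MulAut.conj h • A
      · obtain ⟨M, hM, h, rfl⟩ := hAc
        have hA : IsCoatom A := by
          have := isCoatom_conj_smul hM h⁻¹
          rwa [← mul_smul, ← map_mul, inv_mul_cancel, map_one, one_smul] at this
        exact ⟨A, B, hA, hB, hcov⟩
      · refine ⟨B, B, hB, hB, fun M hM => ?_⟩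
        obtain ⟨h, hh | hh⟩ := hcov M hM
        · exact absurd ⟨M, hM, h, hh⟩ hAc
        · exact ⟨h, Or.inr hh⟩
  have hcop : ∀ q : ℕ, q.Prime → q ∣ A'.index → ¬ q ∣ B'.index := by
    intro q hq hqA hqB
    haveI := Fact.mk hq
    let P : Sylow q G := default
    have hPtop : (P : Subgroup G) ≠ ⊤ := by
      intro h
      have h1 := hnone q hq (P : Subgroup G) (h ▸ inferInstance) P.isPGroup'
      rw [h] at h1
      exact top_ne_bot h1
    obtain ⟨M, hM, hPM⟩ := exists_coatom_ge hPtop
    have hMi : ¬ q ∣ M.index := fun h =>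
      P.not_dvd_index (h.trans (Subgroup.index_dvd_of_le hPM))
    obtain ⟨g, rfl | rfl⟩ := hcov' M hM
    · exact hMi (by rwa [index_conj_smul])
    · exact hMi (by rwa [index_conj_smul])
  have hdvd : ∀ {X Y : Subgroup G}, CovMax X Y → IsCoatom Y →
      (∀ q : ℕ, q.Prime → q ∣ X.index → ¬ q ∣ Y.index) → X.index ∣ Y.index - 1 := by
    intro X Y hXY hY hq
    rw [Nat.dvd_iff_prime_pow_dvd_dvd]
    intro q k hqp hk
    rcases Nat.eq_zero_or_pos k with rfl | hk0
    · simp
    haveI := Fact.mk hqp
    have hqX : q ∣ X.index := (dvd_pow_self q hk0.ne').trans hk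
    refine dvd_trans (pow_dvd_pow q ?_) (pow_dvd_index_sub_one hXY hY hqX (hq q hqp hqX)
      (hnone q hqp))
    exact (Nat.Prime.pow_dvd_iff_le_factorization hqp Subgroup.index_ne_zero_of_finite).mp hk
  have h1 := hdvd hcov' hB' hcop
  have h2 := hdvd hcov'.symm hA' fun q hq hB hA => hcop q hq hA hB
  have ha : 1 < A'.index := Subgroup.one_lt_index_of_ne_top hA'.1
  have hb : 1 < B'.index := Subgroup.one_lt_index_of_ne_top hB'.1
  have h3 := Nat.le_of_dvd (by omega) h1
  have h4 := Nat.le_of_dvd (by omega) h2
  omega

/-- A group with at most two classes of maximal subgroups is solvable, and every prime divisor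
of its order gives a maximal subgroup of that prime power index. -/
theorem solvable_of_covMax.{v} : ∀ (n : ℕ) (G : Type v) [Group G] [Finite G], Nat.card G = n →
    ∀ A B : Subgroup G, CovMax A B → Group.IsSolvable G ∧
      ∀ p : ℕ, p.Prime → p ∣ Nat.card G → ∃ M : Subgroup G, IsCoatom M ∧ ∃ k, M.index = p ^ k := by
  intro n
  induction n using Nat.strong_induction_on with
  | _ n ih =>
    intro G _ _ hn A B hcov
    rcases subsingleton_or_nontrivial G with hs | hnt
    · refine ⟨inferInstance, fun p hp hpd => ?_⟩
      rw [Nat.card_unique] at hpd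
      exact absurd (Nat.le_of_dvd one_pos hpd) (not_le.mpr hp.one_lt)
    obtain ⟨q, R, hq, hRn, hRq, hR⟩ := exists_normal_pGroup hcov
    haveI := Fact.mk hq
    set π := QuotientGroup.mk' R with hπ
    have hsurj : Function.Surjective π := QuotientGroup.mk'_surjective R
    have hRk : π.ker = R := QuotientGroup.ker_mk' R
    have hcard : Nat.card (G ⧸ R) < n := by
      rw [← hn, Subgroup.card_eq_card_quotient_mul_card_subgroup R]
      exact lt_mul_of_one_lt_right Nat.card_pos
        (R.one_lt_card_iff_ne_bot.mpr hR)
    have hcovq : CovMax (A.map π) (B.map π) := by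
      intro M hM
      have hM' : IsCoatom (M.comap π) := by
        refine ⟨fun h => hM.1 ?_, fun K hK => ?_⟩
        · rw [← Subgroup.map_comap_eq_self_of_surjective hsurj M, h,
            Subgroup.map_top_of_surjective _ hsurj]
        · have hkK : π.ker ≤ K := le_trans (by
            intro x hx
            simp only [Subgroup.mem_comap, MonoidHom.mem_ker.mp hx]
            exact M.one_mem) hK.le
          have h1 : M < K.map π := by
            refine lt_of_le_of_ne ?_ ?_
            · rw [← Subgroup.map_comap_eq_self_of_surjective hsurj M]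
              exact Subgroup.map_mono hK.le
            · intro h
              apply hK.ne
              rw [h, Subgroup.comap_map_eq_self hkK]
          have h2 := hM.2 _ h1
          rw [← Subgroup.comap_map_eq_self hkK, h2, Subgroup.comap_top]
      obtain ⟨g, hg⟩ := hcov _ hM'
      refine ⟨π g, ?_⟩
      have key : ∀ C : Subgroup G, M.comap π = MulAut.conj g • C →
          M = MulAut.conj (π g) • C.map π := by
        intro C hC
        rw [← Subgroup.map_comap_eq_self_of_surjective hsurj M, hC]
        ext y
        rw [mem_conj_smul, Subgroup.mem_map, Subgroup.mem_map]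
        constructor
        · rintro ⟨z, hz, rfl⟩
          rw [mem_conj_smul] at hz
          exact ⟨_, hz, by simp⟩
        · rintro ⟨z, hz, hzy⟩
          refine ⟨g * z * g⁻¹, ?_, ?_⟩
          · rw [mem_conj_smul]
            simpa [mul_assoc] using hz
          · rw [map_mul, map_mul, map_inv, hzy]
            group
      exact hg.imp (key A) (key B)
    obtain ⟨hsolQ, hidxQ⟩ := ih _ hcard (G ⧸ R) rfl _ _ hcovq
    constructor
    · haveI : Group.IsNilpotent ↥R := hRq.isNilpotent
      haveI : Group.IsSolvable ↥R := inferInstance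
      haveI : Group.IsSolvable (G ⧸ R) := hsolQ
      exact solvable_of_ker_le_range R.subtype π (by simp [hRk])
    intro p hp hpG
    by_cases hpQ : p ∣ Nat.card (G ⧸ R)
    · obtain ⟨M, hM, k, hk⟩ := hidxQ p hp hpQ
      refine ⟨M.comap π, ?_, k, ?_⟩
      · refine ⟨fun h => hM.1 ?_, fun K hK => ?_⟩
        · rw [← Subgroup.map_comap_eq_self_of_surjective hsurj M, h,
            Subgroup.map_top_of_surjective _ hsurj]
        · have hkK : π.ker ≤ K := le_trans (by
            intro x hx
            simp only [Subgroup.mem_comap, MonoidHom.mem_ker.mp hx]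
            exact M.one_mem) hK.le
          have h1 : M < K.map π := by
            refine lt_of_le_of_ne ?_ ?_
            · rw [← Subgroup.map_comap_eq_self_of_surjective hsurj M]
              exact Subgroup.map_mono hK.le
            · intro h
              apply hK.ne
              rw [h, Subgroup.comap_map_eq_self hkK]
          have h2 := hM.2 _ h1
          rw [← Subgroup.comap_map_eq_self hkK, h2, Subgroup.comap_top]
      · rw [Subgroup.index_comap_of_surjective M hsurj, hk]
    · -- `p = q` and `R` is a normal Sylow subgroup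
      obtain ⟨r, hr⟩ := IsPGroup.iff_card.mp hRq
      have hpR : p ∣ Nat.card R := by
        rw [Subgroup.card_eq_card_quotient_mul_card_subgroup R] at hpG
        exact (hp.dvd_mul.mp hpG).resolve_left hpQ
      rw [hr] at hpR
      have hpq : p = q := (Nat.prime_dvd_prime_iff_eq hp hq).mp (hp.dvd_of_dvd_pow hpR)
      subst hpq
      have hcop : Nat.Coprime (Nat.card R) R.index := by
        rw [hr]
        exact Nat.Coprime.pow_left _ (hp.coprime_iff_not_dvd.mpr hpQ)
      obtain ⟨K, hK⟩ := Subgroup.exists_right_complement'_of_coprime hcop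
      have hKi : K.index = p ^ r := by rw [hK.index_eq_card, hr]
      have hKt : K ≠ ⊤ := by
        intro h
        rw [h, Subgroup.index_top] at hKi
        have : Nat.card R = 1 := hr.trans hKi.symm
        exact hR (Subgroup.eq_bot_of_card_eq R this)
      obtain ⟨M, hM, hKM⟩ := exists_coatom_ge hKt
      have hd : M.index ∣ p ^ r := hKi ▸ Subgroup.index_dvd_of_le hKM
      obtain ⟨k, -, hk⟩ := (Nat.dvd_prime_pow hp).mp hd
      exact ⟨M, hM, k, hk⟩

/-- A finite group with exactly two conjugacy classes of maximal subgroups is solvable and its order has exactly two prime divisors. -/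
theorem result {G : Type*} [Group G] [Finite G]
    (M₁ M₂ : Subgroup G) (h1 : IsCoatom M₁) (h2 : IsCoatom M₂) (hne : ∀ g : G, M₂ ≠ MulAut.conj g • M₁)
    (hall : ∀ M : Subgroup G, IsCoatom M → ∃ g : G, M = MulAut.conj g • M₁ ∨ M = MulAut.conj g • M₂) :
    Group.IsSolvable G ∧ (Nat.card G).primeFactors.card = 2 := by
  have hcov : CovMax M₁ M₂ := hall
  obtain ⟨hsol, hidx⟩ := solvable_of_covMax _ G rfl M₁ M₂ hcov
  refine ⟨hsol, le_antisymm ?_ ?_⟩
  · have hsub : (Nat.card G).primeFactors ⊆
        ({M₁.index.minFac, M₂.index.minFac} : Finset ℕ) := by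
      intro p hp
      obtain ⟨hpp, hpd, -⟩ := Nat.mem_primeFactors.mp hp
      obtain ⟨M, hM, k, hk⟩ := hidx p hpp hpd
      have hk0 : k ≠ 0 := by
        rintro rfl
        exact hM.1 (Subgroup.index_eq_one.mp (by simpa using hk))
      have hmf : M.index.minFac = p := by rw [hk, Nat.pow_minFac hk0, hpp.minFac_eq]
      rw [← hmf]
      obtain ⟨g, rfl | rfl⟩ := hall M hM <;> simp [index_conj_smul]
    exact (Finset.card_le_card hsub).trans Finset.card_le_two
  · by_contra hlt
    push_neg at hlt
    haveI : Nontrivial G := by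
      by_contra hn
      rw [not_nontrivial_iff_subsingleton] at hn
      exact h1.1 (Subsingleton.elim _ _)
    have hpos : 0 < (Nat.card G).primeFactors.card :=
      Finset.card_pos.mpr (Nat.nonempty_primeFactors.mpr Finite.one_lt_card)
    obtain ⟨p, hp⟩ := Finset.card_eq_one.mp (by omega : (Nat.card G).primeFactors.card = 1)
    have hpp : p.Prime := Nat.prime_of_mem_primeFactors (hp ▸ Finset.mem_singleton_self p)
    haveI := Fact.mk hpp
    have hG : IsPGroup p G := by
      refine IsPGroup.of_card (n := (Nat.card G).factorization p) ?_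
      apply Nat.eq_pow_of_factorization_eq_single Nat.card_pos.ne'
      refine Finsupp.eq_single_iff.mpr ⟨?_, rfl⟩
      rw [Nat.support_factorization, hp]
    haveI := hG.isNilpotent
    have hnorm : ∀ M : Subgroup G, IsCoatom M → ∀ g : G, MulAut.conj g • M = M := by
      intro M hM g
      haveI := Subgroup.NormalizerCondition.normal_of_coatom M
        (Group.normalizerCondition_of_isNilpotent (G := G)) hM
      ext x
      rw [mem_conj_smul]
      constructor
      · intro h
        have := ‹M.Normal›.conj_mem _ h g
        simpa [mul_assoc] using this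
      · intro h
        have := ‹M.Normal›.conj_mem _ h g⁻¹
        simpa [mul_assoc] using this
    obtain ⟨x, hx⟩ : ∃ x : G, x ∉ M₁ ∧ x ∉ M₂ := by
      by_contra hall'
      push_neg at hall'
      have hne12 : M₁ ≠ M₂ := fun h => hne 1 (by simp [h])
      obtain ⟨a, ha, ha'⟩ : ∃ a ∈ M₁, a ∉ M₂ := SetLike.not_le_iff_exists.mp fun h =>
        hne12 ((h1.le_iff.mp h).resolve_left h2.1).symm
      obtain ⟨c, hc, hc'⟩ : ∃ c ∈ M₂, c ∉ M₁ := SetLike.not_le_iff_exists.mp fun h =>
        hne12 ((h2.le_iff.mp h).resolve_left h1.1)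
      by_cases hac : a * c ∈ M₁
      · exact hc' ((M₁.mul_mem_cancel_left ha).mp hac)
      · exact ha' ((M₂.mul_mem_cancel_right hc).mp (hall' _ hac))
    have hz : Subgroup.zpowers x = ⊤ := by
      by_contra hzt
      obtain ⟨M, hM, hxM⟩ := exists_coatom_ge hzt
      have hxM' : x ∈ M := hxM (Subgroup.mem_zpowers x)
      obtain ⟨g, hg | hg⟩ := hall M hM
      · rw [hnorm M₁ h1 g] at hg; exact hx.1 (hg ▸ hxM')
      · rw [hnorm M₂ h2 g] at hg; exact hx.2 (hg ▸ hxM')
    haveI : IsCyclic G := ⟨⟨x, fun y => by rw [Subgroup.eq_top_iff'] at hz; exact hz y⟩⟩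
    haveI : IsMulCommutative G := inferInstance
    have hind : ∀ M : Subgroup G, IsCoatom M → M.index = p := by
      intro M hM
      haveI := Subgroup.NormalizerCondition.normal_of_coatom M
        (Group.normalizerCondition_of_isNilpotent (G := G)) hM
      obtain ⟨j, hj⟩ := IsPGroup.iff_card.mp (hG.to_quotient M)
      have hM1 : 1 < M.index := Subgroup.one_lt_index_of_ne_top hM.1
      have hdv : p ∣ Nat.card (G ⧸ M) := by
        rw [hj]
        refine dvd_pow_self p ?_
        rintro rfl
        rw [Subgroup.index, hj] at hM1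
        simp at hM1
      obtain ⟨y, hy⟩ := exists_prime_orderOf_dvd_card' p hdv
      have hc : IsCoatom M := hM
      have h3 : (Subgroup.zpowers y).comap (QuotientGroup.mk' M) = ⊤ := by
        refine hM.2 _ (lt_of_le_of_ne ?_ ?_)
        · intro m hm
          simp [(QuotientGroup.eq_one_iff m).mpr hm]
        · intro h
          obtain ⟨z, rfl⟩ := QuotientGroup.mk'_surjective M y
          have : z ∈ M := by rw [h]; simp
          rw [QuotientGroup.mk'_apply, (QuotientGroup.eq_one_iff z).mpr this, orderOf_one] at hy
          exact hpp.one_lt.ne hy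
      have h4 : Subgroup.zpowers y = ⊤ := by
        rw [← Subgroup.map_comap_eq_self_of_surjective (QuotientGroup.mk'_surjective M)
          (Subgroup.zpowers y), h3, Subgroup.map_top_of_surjective _
          (QuotientGroup.mk'_surjective M)]
      rw [Subgroup.index, ← Subgroup.card_top (G := G ⧸ M), ← h4, Nat.card_zpowers, hy]
    apply hne 1
    rw [map_one, one_smul]
    have hkey : ∀ M : Subgroup G, IsCoatom M → M = Subgroup.zpowers (x ^ p) := by
      intro M hM
      haveI := Subgroup.NormalizerCondition.normal_of_coatom M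
        (Group.normalizerCondition_of_isNilpotent (G := G)) hM
      have hmem : x ^ p ∈ M := by
        rw [← hind M hM]
        exact M.pow_index_mem x
      refine (Subgroup.eq_of_le_of_card_ge (Subgroup.zpowers_le.mpr hmem) ?_).symm
      have hordx : orderOf x = Nat.card G := by
        rw [← Nat.card_zpowers, hz, Subgroup.card_top]
      have e1 := M.card_mul_index
      rw [hind M hM] at e1
      rw [Nat.card_zpowers, orderOf_pow_of_dvd hpp.ne_zero (hordx ▸ ⟨_, (e1.symm.trans (mul_comm _ _))⟩),
        hordx, ← e1, Nat.mul_div_cancel _ hpp.pos]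
    rw [hkey M₁ h1, hkey M₂ h2]

end Cfsg.Agent.S4383
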