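import Cfsg.Statements.S4387
import Mathlib

set_option autoImplicit false
open Pointwise
open Cfsg

namespace Cfsg.Agent.S4387

/-- Let G be a non-trivial finite group in which any two maximal subgroups are conjugate. Then G is cyclic of prime-power order. -/
theorem result {G : Type*} [Group G] [Finite G] [Nontrivial G]
    (h : ∀ M N : Subgroup G, IsCoatom M → IsCoatom N → ∃ g : G, N = MulAut.conj g • M) :
    IsCyclic G ∧ IsPrimePow (Nat.card G) := by
  have hidx : ∀ M N : Subgroup G, IsCoatom M → IsCoatom N → N.index = M.index := by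
    intro M N hM hN
    obtain ⟨g, rfl⟩ := h M N hM hN
    exact Subgroup.index_map_equiv M (MulAut.conj g)
  obtain ⟨M, hM, -⟩ := (eq_top_or_exists_le_coatom (⊥ : Subgroup G)).resolve_left bot_ne_top
  obtain ⟨p, hp, hpM⟩ := Nat.exists_prime_and_dvd (fun e => hM.1 (Subgroup.index_eq_one.1 e))
  haveI := Fact.mk hp
  obtain ⟨P⟩ : Nonempty (Sylow p G) := inferInstance
  have hPtop : (P : Subgroup G) = ⊤ := by
    by_contra hne
    obtain ⟨N, hN, hPN⟩ := (eq_top_or_exists_le_coatom (P : Subgroup G)).resolve_left hne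
    exact P.not_dvd_index ((hidx M N hM hN ▸ hpM).trans (Subgroup.index_dvd_of_le hPN))
  have hG : IsPGroup p G := by
    intro g
    obtain ⟨k, hk⟩ := P.isPGroup' ⟨g, hPtop ▸ Subgroup.mem_top g⟩
    exact ⟨k, by simpa using congrArg Subtype.val hk⟩
  haveI := hG.isNilpotent
  have huniq : ∀ N : Subgroup G, IsCoatom N → N = M := by
    intro N hN
    obtain ⟨g, rfl⟩ := h M N hM hN
    haveI : M.Normal := Subgroup.NormalizerCondition.normal_of_coatom M Group.normalizerCondition_of_isNilpotent hM
    exact Subgroup.Normal.conj_smul_eq_self g M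
  obtain ⟨x, hx⟩ : ∃ x, x ∉ M := by
    by_contra hne
    push_neg at hne
    exact hM.1 (top_unique fun g _ => hne g)
  have hgen : Subgroup.zpowers x = ⊤ := by
    by_contra hne
    obtain ⟨N, hN, hle⟩ := (eq_top_or_exists_le_coatom _).resolve_left hne
    exact hx (by have := hle (Subgroup.mem_zpowers x); rwa [huniq N hN] at this)
  refine ⟨⟨x, fun g => by have := Subgroup.mem_top g; rwa [← hgen] at this⟩, ?_⟩
  obtain ⟨n, hn⟩ := hG.exists_card_eq
  rw [hn]
  refine hp.isPrimePow.pow ?_
  rintro rfl
  exact absurd hn (by rw [pow_zero]; exact ne_of_gt Finite.one_lt_card)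

end Cfsg.Agent.S4387
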