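import Cfsg.Statements.S4394
import Cfsg.Agent.Lib.PLength85.Main
import Cfsg.Agent.Lib.Solvable.MinimalNonNilpotent

set_option autoImplicit false
open Cfsg

namespace Cfsg.Agent.S4394

open CfsgLib.PLength85
open scoped commutatorElement

/-- Transport of the automorphism along an isomorphism. -/
theorem schmidtAut_congr {p : ℕ} {S S' : Type*} [Group S] [Group S'] (e : S ≃* S')
    (D : SchmidtAut p S) : Nonempty (SchmidtAut p S') := by
  let c : MulAut S ≃* MulAut S' := MulAut.congr e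
  refine ⟨⟨c D.α, D.q, D.hq, D.hqp, by rw [← map_pow, D.pow_eq, map_one],
    fun h => D.ne_one (c.injective (h.trans (map_one c).symm)), ?_⟩⟩
  intro L hL hLi x hx
  have h := D.fix (L.comap e.toMonoidHom)
    (fun h => hL (Subgroup.comap_injective e.surjective (h.trans (Subgroup.comap_top _).symm)))
    (fun y hy => by
      have h1 := hLi (e y) hy
      show e (D.α y) ∈ L
      have h2 : c D.α (e y) = e (D.α y) := by
        show e (D.α (e.symm (e y))) = e (D.α y)
        rw [MulEquiv.symm_apply_apply]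
      rwa [h2] at h1)
    (e.symm x) (by show e (e.symm x) ∈ L; rwa [MulEquiv.apply_symm_apply])
  show e (D.α (e.symm x)) = x
  rw [h, MulEquiv.apply_symm_apply]

/-- The normal Sylow subgroup of a minimal non-nilpotent group carries such an automorphism. -/
theorem exists_schmidtAut {X : Type*} [Group X] [Finite X] {p : ℕ} [hp : Fact p.Prime]
    (hX : Cfsg.IsMinimalNonNilpotent X) (P : Sylow p X) (hPn : (P : Subgroup X).Normal)
    (hP1 : (P : Subgroup X) ≠ ⊥) : Nonempty (SchmidtAut p ↥(P : Subgroup X)) := by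
  obtain ⟨p₀, q₀, hp₀, hq₀, hne, P₀, Q₀, -, hQn, hsup, x, hx, hnc⟩ :=
    CfsgLib.MinimalNonNilpotent.structure_exists hX
  haveI := Fact.mk hp₀
  haveI := Fact.mk hq₀
  have hdisj : (P₀ : Subgroup X) ⊓ Q₀ = ⊥ :=
    Subgroup.inf_eq_bot_of_coprime (IsPGroup.coprime_card_of_ne p₀ q₀ hne _ _ P₀.isPGroup' Q₀.isPGroup')
  have hcardX : Nat.card X = Nat.card (P₀ : Subgroup X) * Nat.card (Q₀ : Subgroup X) := by
    rw [← CfsgLib.Coprime.card_sup_of_disjoint (le_top.trans (Subgroup.normalizer_eq_top _).ge)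
      (by rwa [inf_comm]), hsup, Subgroup.card_top]
  have hpp₀ : p ≠ p₀ := by
    rintro rfl
    haveI : Subsingleton (Sylow p X) := letI := Sylow.unique_of_normal P hPn; inferInstance
    have hPP : P = P₀ := Subsingleton.elim _ _
    subst hPP
    refine hnc fun a ha => Subgroup.mem_centralizer_iff.2 fun b hb => ?_
    have h1 : ⁅a, b⁆ ∈ (P : Subgroup X) ⊓ Q₀ :=
      ⟨Subgroup.commutator_le_left _ _ (Subgroup.commutator_mem_commutator ha hb),
        Subgroup.commutator_le_right _ _ (Subgroup.commutator_mem_commutator ha hb)⟩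
    rw [hdisj, Subgroup.mem_bot, commutatorElement_eq_one_iff_mul_comm] at h1
    exact h1.symm
  have hpq₀ : p = q₀ := by
    obtain ⟨k, hk⟩ := IsPGroup.iff_card.1 P.isPGroup'
    have hk0 : k ≠ 0 := fun h => hP1 (Subgroup.card_eq_one.1 (by rw [hk, h, pow_zero]))
    have hdvd : p ∣ Nat.card (P₀ : Subgroup X) * Nat.card (Q₀ : Subgroup X) := by
      rw [← hcardX]
      exact ((dvd_pow_self p hk0).trans (dvd_of_eq hk.symm)).trans (Subgroup.card_subgroup_dvd_card _)
    rcases hp.out.dvd_mul.1 hdvd with h | h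
    · obtain ⟨i, hi⟩ := IsPGroup.iff_card.1 P₀.isPGroup'
      exact absurd ((Nat.prime_dvd_prime_iff_eq hp.out hp₀).1 (hp.out.dvd_of_dvd_pow (hi ▸ h))) hpp₀
    · obtain ⟨i, hi⟩ := IsPGroup.iff_card.1 Q₀.isPGroup'
      exact (Nat.prime_dvd_prime_iff_eq hp.out hq₀).1 (hp.out.dvd_of_dvd_pow (hi ▸ h))
  subst hpq₀
  haveI : Subsingleton (Sylow p X) := letI := Sylow.unique_of_normal P hPn; inferInstance
  have hPQ : Q₀ = P := Subsingleton.elim _ _
  subst hPQ
  haveI := hPn
  have hxp : (Subgroup.zpowers x) ⊓ (Q₀ : Subgroup X) = ⊥ := hx ▸ hdisj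
  have hcard : Nat.card X = Nat.card (Subgroup.zpowers x) * Nat.card (Q₀ : Subgroup X) := hx ▸ hcardX
  obtain ⟨k, hk⟩ : ∃ k, orderOf x = p₀ ^ k := by
    obtain ⟨k, hk⟩ := IsPGroup.iff_card.1 P₀.isPGroup'
    exact ⟨k, by rw [← Nat.card_zpowers, ← hx, hk]⟩
  have hkey : ∀ (y : X) (L : Subgroup X), y ∈ Subgroup.zpowers x → L ≤ Q₀ →
      (∀ z ∈ L, y * z * y⁻¹ ∈ L) → (Subgroup.zpowers y ≠ Subgroup.zpowers x ∨ L ≠ Q₀) →
      ∀ z ∈ L, y * z = z * y := by
    intro y L hy hL hinv hor z hz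
    have hYx : Subgroup.zpowers y ≤ Subgroup.zpowers x := Subgroup.zpowers_le.2 hy
    have hn : Subgroup.zpowers y ≤ Subgroup.normalizer (L : Set X) :=
      Subgroup.zpowers_le.2 (CfsgLib.Coprime.mem_normalizer_of_forall_conj hinv)
    have hint : L ⊓ Subgroup.zpowers y = ⊥ := le_bot_iff.1 (le_trans (le_inf
      (inf_le_right.trans hYx) (inf_le_left.trans hL)) hxp.le)
    have hlt : Subgroup.zpowers y ⊔ L ≠ ⊤ := by
      intro h
      have h1 := CfsgLib.Coprime.card_sup_of_disjoint hn hint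
      rw [h, Subgroup.card_top, hcard] at h1
      have h2 := Subgroup.card_le_of_le hYx
      have h3 := Subgroup.card_le_of_le hL
      rcases hor with h' | h'
      · have h4 : Nat.card (Subgroup.zpowers y) < Nat.card (Subgroup.zpowers x) :=
          lt_of_le_of_ne h2 fun e => h' (Subgroup.eq_of_le_of_card_ge hYx e.ge)
        exact (Nat.mul_lt_mul_of_lt_of_le h4 h3 Nat.card_pos).ne' h1
      · have h4 : Nat.card L < Nat.card (Q₀ : Subgroup X) :=
          lt_of_le_of_ne h3 fun e => h' (Subgroup.eq_of_le_of_card_ge hL e.ge)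
        exact (Nat.mul_lt_mul_of_le_of_lt h2 h4 Nat.card_pos).ne' h1
    refine (CfsgLib.MinimalNonNilpotent.nilpotent_commute (hX.2 _ hlt)
      (Subgroup.mem_sup_left (Subgroup.mem_zpowers y)) (Subgroup.mem_sup_right hz) ?_).eq
    exact CfsgLib.MinimalNonNilpotent.coprime_orderOf_of_sylow hne P₀.isPGroup' Q₀.isPGroup'
      (hx ▸ hy) (hL hz)
  set α : MulAut ↥(Q₀ : Subgroup X) := MulAut.conjNormal x with hα
  have hx1 : x ≠ 1 := by
    rintro rfl
    refine hnc ?_
    rw [hx, Subgroup.zpowers_one_eq_bot]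
    exact bot_le
  refine ⟨⟨α, p₀, hp₀, hpp₀.symm, ?_, fun h => ?_, ?_⟩⟩
  · rw [hα, ← map_pow]
    refine MulEquiv.ext fun z => Subtype.ext ?_
    rw [MulAut.conjNormal_apply, MulAut.one_apply]
    have hne' : Subgroup.zpowers (x ^ p₀) ≠ Subgroup.zpowers x := by
      intro e
      have h1 := congrArg (fun H : Subgroup X => Nat.card H) e
      simp only [Nat.card_zpowers] at h1
      rcases Nat.eq_zero_or_pos k with rfl | hk0
      · exact hx1 (orderOf_eq_one_iff.1 (by rw [hk, pow_zero]))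
      rw [orderOf_pow, hk, Nat.gcd_eq_right (dvd_pow_self p₀ hk0.ne')] at h1
      have h2 : p₀ ^ k / p₀ < p₀ ^ k := Nat.div_lt_self (pow_pos hp₀.pos k) hp₀.one_lt
      omega
    rw [hkey (x ^ p₀) Q₀ (Subgroup.pow_mem _ (Subgroup.mem_zpowers x) _) le_rfl
      (fun w hw => hPn.conj_mem w hw _) (Or.inl hne') z z.2, mul_inv_cancel_right]
  · refine hnc ?_
    rw [hx, Subgroup.zpowers_le]
    refine Subgroup.mem_centralizer_iff.2 fun z hz => ?_
    have h' := congrArg Subtype.val (DFunLike.congr_fun h ⟨z, hz⟩)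
    rw [hα, MulAut.conjNormal_apply, MulAut.one_apply] at h'
    exact (mul_inv_eq_iff_eq_mul.1 h').symm
  · intro L hL hLi z hz
    refine Subtype.ext ?_
    rw [hα, MulAut.conjNormal_apply]
    have hsub : L.map (Q₀ : Subgroup X).subtype ≠ Q₀ := fun e => hL
      (Subgroup.map_injective (Q₀ : Subgroup X).subtype_injective
        (e.trans (by rw [← MonoidHom.range_eq_map, Subgroup.range_subtype])))
    rw [hkey x _ (Subgroup.mem_zpowers x) (Subgroup.map_subtype_le L) ?_ (Or.inr hsub) z ⟨z, hz, rfl⟩,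
      mul_inv_cancel_right]
    rintro _ ⟨w, hw, rfl⟩
    exact ⟨α w, hLi w hw, MulAut.conjNormal_apply x w⟩

/-- Let X be a finite minimal non-nilpotent group (not nilpotent, every proper subgroup nilpotent) with a nontrivial normal Sylow p-subgroup P. If G is a finite p-solvable group whose Sylow p-subgroups are isomorphic to P, then G has p-length at most 1. -/
theorem result {G X : Type*} [Group G] [Finite G] [Group X] [Finite X] (p : ℕ) [Fact p.Prime]
    (hX : Cfsg.IsMinimalNonNilpotent X) (P : Sylow p X) (hPn : (P : Subgroup X).Normal) (hP1 : (P : Subgroup X) ≠ ⊥)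
    (hG : Cfsg.IsPSolvable p G) (Q : Sylow p G) (hQ : Nonempty (↥(Q : Subgroup G) ≃* ↥(P : Subgroup X))) : Cfsg.PLengthLE p 1 G := by
  obtain ⟨e⟩ := hQ
  obtain ⟨D⟩ := exists_schmidtAut hX P hPn hP1
  refine CfsgLib.PLength85.pLengthLE_one hG Q fun S _ _ ⟨e'⟩ => Or.inl ?_
  exact schmidtAut_congr (e.symm.trans e') D

end Cfsg.Agent.S4394
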