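import Cfsg.Statements.S4396
import Cfsg.Agent.Lib.FrobeniusFree.Module
import Cfsg.Agent.Lib.Frobenius.Theorem

set_option autoImplicit false
open Cfsg

namespace Cfsg.Agent.S4396

/-- Let the finite group A act faithfully and linearly on a finite-dimensional vector space V over a field k, and suppose A is a Frobenius group with nilpotent kernel F (every Frobenius kernel is nilpotent) and complement H such that F fixes no nonzero vector. Then V is free as a module for H: there is a subspace W with V the direct sum of the translates hW, h ∈ H. (No assumption on the characteristic of k.) -/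
theorem result {k V A : Type*} [Field k] [AddCommGroup V] [Module k V] [FiniteDimensional k V] [Group A] [Finite A] [DecidableEq A]
    (ρ : Representation k A V) (hρ : Function.Injective ρ)
    (Fk Hc : Subgroup A) [Fk.Normal] (hHc : Cfsg.IsFrobeniusComplement Hc) (hker : Cfsg.frobeniusKernel Hc = (Fk : Set A)) (hnil : Group.IsNilpotent ↥Fk)
    (hCF : ∀ v : V, (∀ f ∈ Fk, ρ f v = v) → v = 0) :
    ∃ W : Submodule k V, DirectSum.IsInternal (fun h : ↥Hc => W.map (ρ (h : A))) := by
  obtain ⟨N, hN, hNn, hNc⟩ := CfsgLib.Frobenius.exists_normal_kernel hHc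
  obtain rfl : Fk = N := SetLike.coe_injective (hker.symm.trans hN.symm)
  haveI := hnil
  obtain ⟨S, hSn, hSF, hSc, hSfix⟩ := CfsgLib.FrobeniusFree.exists_coprime_normal ρ Fk hCF
  haveI := hSn
  have hFH : ∀ a : A, ∃ h ∈ Hc, ∃ c ∈ Fk, a = h * c := by
    intro a
    obtain ⟨⟨c, h⟩, hch⟩ := hNc.2 a
    simp only at hch
    refine ⟨h, h.2, (h : A)⁻¹ * c * h, by simpa using hNn.conj_mem _ c.2 (h : A)⁻¹, ?_⟩
    rw [← hch]; group
  obtain ⟨W, hW, hd⟩ := CfsgLib.FrobeniusFree.free_of_no_fixed _ ρ Fk S Hc rfl hSF hFH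
    (fun h hh hh1 s hs hc => CfsgLib.Frobenius.eq_one_of_commute hHc hNc.disjoint (hSF hs) hh hh1 hc)
    hSc hSfix
  exact ⟨W, CfsgLib.FrobeniusFree.isInternal_of_isFreeOver ρ Hc W hW hd⟩

end Cfsg.Agent.S4396
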