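import Cfsg.Statements.S4398
import Cfsg.Agent.Lib.TwoGroups85.MaxClass

set_option autoImplicit false
open Cfsg

namespace Cfsg.Agent.S4398

open Subgroup

/-- The facts we use about `D₈` and `Q₈`. -/
def Props (H : Type*) [Group H] : Prop :=
  Nat.card H = 8 ∧ ∃ z u v : H, z ≠ 1 ∧ z * z = 1 ∧ (∀ w, (∀ y, w * y = y * w) → w = 1 ∨ w = z) ∧
    (∀ w, z * w = w * z) ∧
    (∀ w, w * w = 1 ∨ w * w = z) ∧
    (∀ w y, w * y * w⁻¹ * y⁻¹ = 1 ∨ w * y * w⁻¹ * y⁻¹ = z) ∧
    (∀ w, ∃ i : Fin 4, ∃ j : Fin 2, w = u ^ (i : ℕ) * v ^ (j : ℕ)) ∧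
    (∀ c d : H, (c = 1 ∨ c = z) → (d = 1 ∨ d = z) →
      ∃ k, k * u * k⁻¹ = c * u ∧ k * v * k⁻¹ = d * v)

theorem props_dihedral : Props (DihedralGroup 4) := by
  refine ⟨DihedralGroup.nat_card, .r 2, .r 1, .sr 0, ?_, ?_, ?_, ?_, ?_, ?_, ?_, ?_⟩ <;>
    decide +kernel

theorem props_quaternion : Props (QuaternionGroup 2) := by
  refine ⟨by rw [Nat.card_eq_fintype_card, QuaternionGroup.card], .a 2, .a 1, .xa 0, ?_, ?_, ?_,
    ?_, ?_, ?_, ?_, ?_⟩ <;> decide +kernel

theorem Props.congr {H H' : Type*} [Group H] [Group H'] (e : H ≃* H') (h : Props H') :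
    Props H := by
  obtain ⟨hc, z, u, v, h1, h2, h3, h4, h5, h6, h7, h8⟩ := h
  refine ⟨(Nat.card_congr e.toEquiv).trans hc, e.symm z, e.symm u, e.symm v, ?_, ?_, ?_, ?_, ?_,
    ?_, ?_, ?_⟩
  · intro h; exact h1 (by simpa using congrArg e h)
  · rw [← map_mul, h2, map_one]
  · intro w hw
    rcases h3 (e w) (fun y => by
      obtain ⟨y, rfl⟩ := e.surjective y; rw [← map_mul, ← map_mul, hw y]) with h | h
    · left; simpa using congrArg e.symm h
    · right; simpa using congrArg e.symm h
  · intro w; apply e.injective; simpa using h4 (e w)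
  · intro w
    rcases h5 (e w) with h | h
    · left; apply e.injective; simpa using h
    · right; apply e.injective; simpa using h
  · intro w y
    rcases h6 (e w) (e y) with h | h
    · left; apply e.injective; simpa using h
    · right; apply e.injective; simpa using h
  · intro w
    obtain ⟨i, j, h⟩ := h7 (e w)
    exact ⟨i, j, e.injective (by simpa using h)⟩
  · intro c d hc hd
    obtain ⟨k, hk1, hk2⟩ := h8 (e c) (e d)
      (hc.imp (fun h => by rw [h, map_one]) (fun h => by rw [h, e.apply_symm_apply]))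
      (hd.imp (fun h => by rw [h, map_one]) (fun h => by rw [h, e.apply_symm_apply]))
    exact ⟨e.symm k, e.injective (by simpa using hk1), e.injective (by simpa using hk2)⟩

/-- Let S be a finite 2-group of sectional 2-rank at most 2 that contains a subgroup isomorphic to the dihedral group of order 8 or to the quaternion group of order 8. Then S is dihedral of order at least 8, semidihedral of order at least 16 (order 2^(k+4) with an element a of order 2^(k+3) and an involution b with b a b⁻¹ = a^(2^(k+2)−1)), or generalized quaternion of order at least 8. -/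
theorem result {S : Type*} [Group S] [Finite S] (h2 : IsPGroup 2 S) (hr : Cfsg.SectionalPRankLE 2 2 S)
    (hsub : ∃ H : Subgroup S, Nonempty (↥H ≃* DihedralGroup 4) ∨ Nonempty (↥H ≃* QuaternionGroup 2)) :
    ((∃ k : ℕ, Nonempty (S ≃* DihedralGroup (2 ^ (k + 2)))) ∨
      (∃ k : ℕ, Nat.card S = 2 ^ (k + 4) ∧ ∃ a b : S, orderOf a = 2 ^ (k + 3) ∧ orderOf b = 2 ∧ b * a * b⁻¹ = a ^ (2 ^ (k + 2) - 1)) ∨
      (∃ k : ℕ, Nonempty (S ≃* QuaternionGroup (2 ^ (k + 1))))) := by
  haveI := Fact.mk Nat.prime_two
  obtain ⟨H, hH⟩ := hsub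
  obtain ⟨hcard, z', u', v', hz1, hzz, hzc, hzcom, hsq, hcom, hgen, hlift⟩ : Props ↥H := by
    rcases hH with ⟨⟨e⟩⟩ | ⟨⟨e⟩⟩
    · exact Props.congr e props_dihedral
    · exact Props.congr e props_quaternion
  obtain ⟨z, hz⟩ : ∃ z : S, z = z' := ⟨_, rfl⟩
  have hzH : z ∈ H := hz ▸ z'.2
  have hz2 : z * z = 1 := by rw [hz]; exact congrArg Subtype.val hzz
  have hzne : z ≠ 1 := fun h => hz1 (Subtype.ext (hz ▸ h))
  have hzord : orderOf z = 2 := orderOf_eq_prime (by rw [pow_two, hz2]) hzne
  have mem_z : ∀ w : S, w ∈ zpowers z ↔ w = 1 ∨ w = z := by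
    intro w
    constructor
    · intro hw
      obtain ⟨i, rfl⟩ := mem_zpowers_iff.mp hw
      rcases Int.even_or_odd i with ⟨d, rfl⟩ | ⟨d, rfl⟩
      · left; rw [zpow_add, ← (Commute.refl z).mul_zpow, hz2, one_zpow]
      · right; rw [zpow_add, zpow_mul, zpow_two, hz2, one_zpow, one_mul, zpow_one]
    · rintro (rfl | rfl)
      · exact one_mem _
      · exact mem_zpowers _
  -- step 1: `C(H) ≤ {1, z}`
  have hC : ∀ x : S, (∀ h ∈ H, x * h = h * x) → x = 1 ∨ x = z := by
    have inH : ∀ x : S, (∀ h ∈ H, x * h = h * x) → x ∈ H → x = 1 ∨ x = z := by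
      intro x hx hxH
      rcases hzc ⟨x, hxH⟩ (fun y => Subtype.ext (hx y y.2)) with h | h
      · exact Or.inl (congrArg Subtype.val h)
      · right; rw [hz]; exact congrArg Subtype.val h
    intro x hx
    refine inH x hx ?_
    obtain ⟨k, hk⟩ := h2 x
    induction k generalizing x with
    | zero => rw [pow_zero, pow_one] at hk; exact hk ▸ one_mem H
    | succ k ih =>
      have hx2 : x ^ 2 ∈ H := by
        refine ih (x ^ 2) (fun h hh => ?_) (by rw [← pow_mul, ← pow_succ']; exact hk)
        exact ((show Commute x h from hx h hh).pow_left 2).eq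
      by_contra hxH
      have hx2z : x ^ 2 = 1 ∨ x ^ 2 = z :=
        inH _ (fun h hh => ((show Commute x h from hx h hh).pow_left 2).eq) hx2
      let K : Subgroup S :=
        { carrier := {g | g ∈ H ∨ g * x ∈ H}
          one_mem' := Or.inl H.one_mem
          mul_mem' := by
            rintro g g' (hg | hg) (hg' | hg')
            · exact Or.inl (H.mul_mem hg hg')
            · exact Or.inr (by rw [mul_assoc]; exact H.mul_mem hg hg')
            · refine Or.inr ?_
              rw [mul_assoc, ← hx g' hg', ← mul_assoc]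
              exact H.mul_mem hg hg'
            · refine Or.inl ?_
              have h1 := H.mul_mem (H.mul_mem hg hg') (H.inv_mem hx2)
              have h2 := hx _ hg'
              have : g * x * (g' * x) * (x ^ 2)⁻¹ = g * (x * (g' * x)) * x⁻¹ * x⁻¹ := by group
              rw [this, h2] at h1
              simpa [mul_assoc] using h1
          inv_mem' := by
            rintro g (hg | hg)
            · exact Or.inl (H.inv_mem hg)
            · refine Or.inr ?_
              have h2 := hx _ (H.inv_mem hg)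
              have h1 := H.mul_mem (H.inv_mem hg) hx2
              have : g⁻¹ * x = x * (g * x)⁻¹ * x := by group
              rw [this, h2, mul_assoc, ← pow_two]
              exact h1 }
      let N : Subgroup ↥K := (zpowers z).subgroupOf K
      have hzK : ∀ g ∈ K, z * g = g * z := by
        have hzh : ∀ h ∈ H, z * h = h * z := fun h hh => by
          rw [hz]; exact congrArg Subtype.val (hzcom ⟨h, hh⟩)
        intro g hg
        rcases hg with hg | hg
        · exact hzh g hg
        · have e1 : Commute z (g * x) := hzh _ hg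
          have e2 : Commute z x := (hx z hzH).symm
          simpa using (e1.mul_right e2.inv_right).eq
      haveI : N.Normal := ⟨fun w hw g => by
        rw [Subgroup.mem_subgroupOf] at hw ⊢
        rcases (mem_z _).1 hw with h | h
        · rw [show w = 1 from Subtype.ext h]; simp
        · push_cast
          rw [h, ← hzK _ g.2, mul_inv_cancel_right]
          exact mem_zpowers z⟩
      have hdec : ∀ g : ↥K, ∃ h ∈ H, ∃ y : S, (y = 1 ∨ y = x⁻¹) ∧ (g : S) = h * y := by
        intro g
        rcases g.2 with hg | hg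
        · exact ⟨g, hg, 1, Or.inl rfl, (mul_one _).symm⟩
        · exact ⟨_, hg, x⁻¹, Or.inr rfl, (mul_inv_cancel_right _ _).symm⟩
      have hy : ∀ y : S, (y = 1 ∨ y = x⁻¹) → (∀ h ∈ H, Commute y h) ∧ Commute y x⁻¹ ∧
          y * y ∈ zpowers z := by
        rintro y (rfl | rfl)
        · exact ⟨fun h _ => Commute.one_left h, Commute.one_left _, by simp⟩
        · refine ⟨fun h hh => (show Commute x h from hx h hh).inv_left, Commute.refl _, ?_⟩
          rw [← mul_inv_rev, ← pow_two]
          exact inv_mem ((mem_z _).2 hx2z)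
      have hcK : ∀ g g' : ↥K, ((g : S) * g' * (g : S)⁻¹ * (g' : S)⁻¹) ∈ zpowers z := by
        intro g g'
        obtain ⟨h, hh, y, hy1, hg⟩ := hdec g
        obtain ⟨h', hh', y', hy1', hg'⟩ := hdec g'
        obtain ⟨c1, c2, -⟩ := hy y hy1
        obtain ⟨c1', c2', -⟩ := hy y' hy1'
        have cyy : Commute y y' := by
          rcases hy1' with rfl | rfl
          · exact Commute.one_right y
          · exact c2
        have : (g : S) * g' * (g : S)⁻¹ * (g' : S)⁻¹ = h * h' * h⁻¹ * h'⁻¹ := by
          rw [hg, hg']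
          calc h * y * (h' * y') * (h * y)⁻¹ * (h' * y')⁻¹
              = h * (y * h') * y' * (y⁻¹ * h⁻¹) * (y'⁻¹ * h'⁻¹) := by group
            _ = h * h' * (y * y' * y⁻¹) * h⁻¹ * y'⁻¹ * h'⁻¹ := by rw [(c1 h' hh').eq]; group
            _ = h * h' * (y' * h⁻¹) * y'⁻¹ * h'⁻¹ := by rw [cyy.eq]; group
            _ = h * h' * h⁻¹ * h'⁻¹ := by rw [(c1' _ (H.inv_mem hh)).eq]; group
        rw [this, mem_z]
        rcases hcom ⟨h, hh⟩ ⟨h', hh'⟩ with e | e
        · left; exact congrArg Subtype.val e
        · right; rw [hz]; exact congrArg Subtype.val e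
      have hsK : ∀ g : ↥K, (g : S) * g ∈ zpowers z := by
        intro g
        obtain ⟨h, hh, y, hy1, hg⟩ := hdec g
        obtain ⟨c1, -, c3⟩ := hy y hy1
        rw [hg, show h * y * (h * y) = (h * h) * (y * y) by
          rw [mul_assoc h y, ← mul_assoc y h, (c1 h hh).eq]; group]
        refine mul_mem ?_ c3
        rw [mem_z]
        rcases hsq ⟨h, hh⟩ with e | e
        · left; exact congrArg Subtype.val e
        · right; rw [hz]; exact congrArg Subtype.val e
      have hq : IsMulCommutative (⊤ : Subgroup (↥K ⧸ N)) := ⟨⟨fun a b => Subtype.ext (by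
        obtain ⟨g, hg⟩ := QuotientGroup.mk_surjective (a : ↥K ⧸ N)
        obtain ⟨g', hg'⟩ := QuotientGroup.mk_surjective (b : ↥K ⧸ N)
        show (a : ↥K ⧸ N) * b = b * a
        rw [← hg, ← hg', ← QuotientGroup.mk_mul, ← QuotientGroup.mk_mul, QuotientGroup.eq,
          Subgroup.mem_subgroupOf]
        push_cast
        have h1 := hcK g'⁻¹ g⁻¹
        push_cast at h1
        simpa [mul_assoc] using h1)⟩⟩
      have hexp : ∀ a ∈ (⊤ : Subgroup (↥K ⧸ N)), a ^ 2 = 1 := by
        intro a _
        obtain ⟨g, rfl⟩ := QuotientGroup.mk_surjective a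
        rw [← QuotientGroup.mk_pow, QuotientGroup.eq_one_iff, Subgroup.mem_subgroupOf]
        push_cast
        rw [pow_two]
        exact hsK g
      have h4 := hr K N ⊤ hq hexp
      rw [Subgroup.card_top] at h4
      have hN : Nat.card N = 2 := by
        rw [Nat.card_congr (Subgroup.subgroupOfEquivOfLe (show zpowers z ≤ K from
          zpowers_le.2 (Or.inl hzH))).toEquiv, Nat.card_zpowers, hzord]
      have hKc : Nat.card ↥K = Nat.card (↥K ⧸ N) * 2 := by
        rw [← hN]; exact card_eq_card_quotient_mul_card_subgroup N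
      have hHK : H ≤ K := fun g hg => Or.inl hg
      have hxK : x ∈ K := Or.inr (by rw [← pow_two]; exact hx2)
      obtain ⟨d, hd⟩ := Subgroup.card_dvd_of_le hHK
      have hd1 : d ≠ 1 := by
        rintro rfl
        have : H = K := Subgroup.eq_of_le_of_card_ge hHK (by rw [hd, mul_one])
        exact hxH (by rw [this]; exact hxK)
      have hd0 : d ≠ 0 := by
        rintro rfl
        rw [mul_zero] at hd
        exact absurd hd Nat.card_pos.ne'
      rw [hd, hcard] at hKc
      omega
  -- step 2: the centre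
  have hcent : center S = zpowers z := by
    apply le_antisymm
    · intro w hw
      exact (mem_z _).2 (hC w (fun h _ => (mem_center_iff.mp hw h).symm))
    · haveI : Nontrivial S := ⟨⟨z, 1, hzne⟩⟩
      haveI := h2.center_nontrivial
      obtain ⟨w, hw⟩ := exists_ne (1 : center S)
      rcases hC w (fun h _ => (mem_center_iff.mp w.2 h).symm) with e | e
      · exact absurd (Subtype.ext e) hw
      · exact zpowers_le.2 (e ▸ w.2)
  have hZ2 : Nat.card (center S) = 2 := by rw [hcent, Nat.card_zpowers, hzord]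
  let q := QuotientGroup.mk' (center S)
  have hqe : ∀ a b : S, q a = q b ↔ a⁻¹ * b ∈ zpowers z := fun a b => by
    rw [← hcent]; exact QuotientGroup.eq
  -- step 3: a self-centralizing four-group in the central quotient
  have hV : Subgroup.centralizer ((H.map q : Subgroup (S ⧸ center S)) : Set (S ⧸ center S)) =
      H.map q := by
    apply le_antisymm
    · intro c hc
      obtain ⟨x, rfl⟩ := QuotientGroup.mk'_surjective (center S) c
      have key : ∀ h : ↥H, ∃ c : ↥H, (c = 1 ∨ c = z') ∧ x * h * x⁻¹ = c * h := by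
        intro h
        have h1 := mem_centralizer_iff.mp hc _ (mem_map_of_mem q h.2)
        rw [← map_mul, ← map_mul, hqe] at h1
        rcases (mem_z _).1 h1 with e | e
        · refine ⟨1, Or.inl rfl, ?_⟩
          have e' : x * (h : S) = h * x := (inv_mul_eq_one.mp e).symm
          rw [e', mul_inv_cancel_right]; simp
        · refine ⟨z', Or.inr rfl, ?_⟩
          have e' : x * (h : S) = h * x * z := inv_mul_eq_iff_eq_mul.mp e
          have zc : z * x = x * z := by
            have : z ∈ center S := hcent ▸ mem_zpowers z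
            exact (mem_center_iff.mp this x).symm
          have zh : z * (h : S) = h * z := by rw [hz]; exact congrArg Subtype.val (hzcom h)
          rw [e', ← hz, mul_assoc (h : S) x z, ← zc, ← mul_assoc, mul_inv_cancel_right, zh]
      obtain ⟨cu, hcu, hxu⟩ := key u'
      obtain ⟨cv, hcv, hxv⟩ := key v'
      obtain ⟨k, hku, hkv⟩ := hlift cu cv hcu hcv
      have hku' : (k : S) * u' * (k : S)⁻¹ = cu * u' := congrArg Subtype.val hku
      have hkv' : (k : S) * v' * (k : S)⁻¹ = cv * v' := congrArg Subtype.val hkv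
      have hcomm : ∀ w : S, x * w * x⁻¹ = (k : S) * w * (k : S)⁻¹ → Commute ((k : S)⁻¹ * x) w := by
        intro w e
        show (k : S)⁻¹ * x * w = w * ((k : S)⁻¹ * x)
        calc (k : S)⁻¹ * x * w = (k : S)⁻¹ * (x * w * x⁻¹) * x := by group
          _ = w * ((k : S)⁻¹ * x) := by rw [e]; group
      have hy := hC ((k : S)⁻¹ * x) (fun h hh => by
        obtain ⟨i, j, e⟩ := hgen ⟨h, hh⟩
        have e' : h = (u' : S) ^ (i : ℕ) * (v' : S) ^ (j : ℕ) := by
          simpa using congrArg Subtype.val e
        rw [e']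
        exact (((hcomm _ (hxu.trans hku'.symm)).pow_right _).mul_right
          ((hcomm _ (hxv.trans hkv'.symm)).pow_right _)).eq)
      refine mem_map_of_mem q ?_
      have : x = k * ((k : S)⁻¹ * x) := by group
      rw [this]
      rcases hy with e | e <;> rw [e]
      · exact H.mul_mem k.2 H.one_mem
      · exact H.mul_mem k.2 hzH
    · intro a ha
      rw [mem_centralizer_iff]
      intro b hb
      obtain ⟨g, hg, rfl⟩ := mem_map.mp ha
      obtain ⟨g', hg', rfl⟩ := mem_map.mp hb
      rw [← map_mul, ← map_mul, hqe]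
      rw [mem_z]
      rcases hcom ⟨g, hg⟩⁻¹ ⟨g', hg'⟩⁻¹ with e | e
      · left; simpa [mul_assoc] using congrArg Subtype.val e
      · right; rw [hz]; simpa [mul_assoc] using congrArg Subtype.val e
  have hVc : Nat.card (H.map q) = 2 ^ 2 := by
    have h := Subgroup.relIndex_ker H q
    rw [QuotientGroup.ker_mk'] at h
    rw [← h, Subgroup.relIndex]
    have h' := ((center S).subgroupOf H).card_mul_index
    rw [hcard, Nat.card_congr (Subgroup.subgroupOfEquivOfLe (show center S ≤ H from
      hcent ▸ zpowers_le.2 hzH)).toEquiv, hZ2] at h'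
    omega
  obtain ⟨n, hn⟩ := h2.exists_card_eq
  have hn3 : 3 ≤ n := by
    have := hn ▸ Subgroup.card_le_card_group H
    rw [hcard] at this
    by_contra hlt
    have := Nat.pow_le_pow_right two_pos (show n ≤ 2 by omega)
    omega
  have hQ : Nat.card (S ⧸ center S) = 2 ^ (n - 1) := by
    have h := card_eq_card_quotient_mul_card_subgroup (center S)
    rw [hn, hZ2, show n = n - 1 + 1 by omega, pow_succ] at h
    exact (Nat.eq_of_mul_eq_mul_right two_pos h).symm
  have hcl := CfsgLib.MaxClass.class_of_selfCentralizing (p := 2) (n - 1) (S ⧸ center S) hQ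
    (H.map q) hVc hV
  exact CfsgLib.TwoGroups85.isDSQ_of_maximalClass hn3 hn
    (CfsgLib.MaxClass.class_eq_of_quotient hn (by omega) (by omega))

end Cfsg.Agent.S4398
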