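import Cfsg.Statements.S4399
import Cfsg.Agent.Lib.TwoGroups85.MaxClass

set_option autoImplicit false
open Cfsg

namespace Cfsg.Agent.S4399

/-- Let S be a finite 2-group whose commutator quotient S/[S,S] is a Klein four-group (order 4 and exponent 2). Then S itself has order 4, or S is dihedral of order at least 8, semidihedral of order at least 16 (order 2^(k+4) with an element a of order 2^(k+3) and an involution b with b a b⁻¹ = a^(2^(k+2)−1)), or generalized quaternion of order at least 8. -/
theorem result {S : Type*} [Group S] [Finite S] (h2 : IsPGroup 2 S) (hab : Nat.card (Abelianization S) = 4)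
    (hexp : ∀ x : Abelianization S, x ^ 2 = 1) :
    Nat.card S = 4 ∨
    ((∃ k : ℕ, Nonempty (S ≃* DihedralGroup (2 ^ (k + 2)))) ∨
      (∃ k : ℕ, Nat.card S = 2 ^ (k + 4) ∧ ∃ a b : S, orderOf a = 2 ^ (k + 3) ∧ orderOf b = 2 ∧ b * a * b⁻¹ = a ^ (2 ^ (k + 2) - 1)) ∨
      (∃ k : ℕ, Nonempty (S ≃* QuaternionGroup (2 ^ (k + 1))))) := by
  haveI := Fact.mk Nat.prime_two
  obtain ⟨n, hn⟩ := h2.exists_card_eq
  by_cases h3 : n ≤ 2
  · left
    have hle : 4 ≤ Nat.card S := hab ▸ Nat.card_le_card_of_surjective Abelianization.of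
      (fun x => QuotientGroup.mk_surjective x)
    have := Nat.pow_le_pow_right two_pos h3
    omega
  · right
    exact CfsgLib.TwoGroups85.isDSQ_of_maximalClass (by omega) hn
      (CfsgLib.MaxClass.class_of_abelianization n S (by omega) hn hab)

end Cfsg.Agent.S4399
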