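import Cfsg.Statements.S4401
import Cfsg.Agent.Lib.TwoGroups85.RankFourPairs

set_option autoImplicit false
open Cfsg CfsgLib.TwoGroups85
open scoped commutatorElement

namespace Cfsg.Agent.S4401

/-- Subgroups meeting trivially and commuting give a product of section ranks. -/
theorem rank_le_two {S : Type*} [Group S] (hr : Cfsg.SectionalPRankLE 2 4 S) (P : Subgroup S) (s : S)
    (hbot : P ⊓ P.map (MulAut.conj s).toMonoidHom = ⊥)
    (hcomm : ∀ x ∈ P, ∀ y ∈ P.map (MulAut.conj s).toMonoidHom, x * y = y * x) :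
    Cfsg.SectionalPRankLE 2 2 ↥P := by
  intro H N hN A hA hA2
  let ι : H × H →* S :=
    { toFun := fun w => ((w.1 : P) : S) * (s * ((w.2 : P) : S) * s⁻¹)
      map_one' := by simp
      map_mul' := fun a b => by
        have h := hcomm ((b.1 : P) : S) (b.1 : P).2 (s * ((a.2 : P) : S) * s⁻¹)
          ⟨((a.2 : P) : S), (a.2 : P).2, rfl⟩
        simp only [Prod.fst_mul, Prod.snd_mul, Subgroup.coe_mul]
        calc ((a.1 : P) : S) * (b.1 : P) * (s * ((a.2 : P) * (b.2 : P)) * s⁻¹)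
            = ((a.1 : P) : S) * (((b.1 : P) : S) * (s * (a.2 : P) * s⁻¹)) * (s * (b.2 : P) * s⁻¹) := by
              group
          _ = ((a.1 : P) : S) * (s * (a.2 : P) * s⁻¹ * ((b.1 : P) : S)) * (s * (b.2 : P) * s⁻¹) := by
              rw [h]
          _ = _ := by simp only [mul_assoc] }
  have hι : Function.Injective ι := by
    rw [injective_iff_map_eq_one]
    rintro ⟨a, b⟩ hab
    have h : ((a : P) : S) = (s * ((b : P) : S) * s⁻¹)⁻¹ := eq_inv_of_mul_eq_one_left hab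
    have ha : ((a : P) : S) ∈ P ⊓ P.map (MulAut.conj s).toMonoidHom :=
      ⟨(a : P).2, h ▸ Subgroup.inv_mem _ (⟨((b : P) : S), (b : P).2, rfl⟩ :
        s * ((b : P) : S) * s⁻¹ ∈ P.map (MulAut.conj s).toMonoidHom)⟩
    rw [hbot, Subgroup.mem_bot] at ha
    rw [ha, eq_comm, inv_eq_one, mul_inv_eq_one, mul_eq_left] at h
    exact Prod.ext (Subtype.ext (Subtype.ext ha)) (Subtype.ext (Subtype.ext h))
  let e := MonoidHom.ofInjective hι
  let f : ι.range →* (H ⧸ N) × (H ⧸ N) :=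
    ((QuotientGroup.mk' N).prodMap (QuotientGroup.mk' N)).comp e.symm.toMonoidHom
  have hf : Function.Surjective f := by
    rintro ⟨q, q'⟩
    obtain ⟨a, rfl⟩ := QuotientGroup.mk'_surjective N q
    obtain ⟨b, rfl⟩ := QuotientGroup.mk'_surjective N q'
    refine ⟨e (a, b), ?_⟩
    show ((QuotientGroup.mk' N).prodMap (QuotientGroup.mk' N)) (e.symm (e (a, b))) = _
    rw [MulEquiv.symm_apply_apply]; rfl
  have h := CfsgLib.TwoGroups85.pRankLE_of_section hr ι.range f hf (A.prod A)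
    ⟨⟨fun x y => Subtype.ext (Prod.ext
      (congrArg Subtype.val (hA.is_comm.comm ⟨x.1.1, x.2.1⟩ ⟨y.1.1, y.2.1⟩))
      (congrArg Subtype.val (hA.is_comm.comm ⟨x.1.2, x.2.2⟩ ⟨y.1.2, y.2.2⟩)))⟩⟩
    (fun x hx => Prod.ext (hA2 x.1 hx.1) (hA2 x.2 hx.2))
  rw [Nat.card_congr (Subgroup.prodEquiv A A).toEquiv, Nat.card_prod] at h
  by_contra hlt
  push Not at hlt
  have h16 : (2 : ℕ) ^ 4 = 16 := by norm_num
  have h4 : (2 : ℕ) ^ 2 = 4 := by norm_num
  rw [h16] at h
  rw [h4] at hlt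
  nlinarith

/-- Let S be a finite 2-group of sectional 2-rank at most 4 and P a proper non-abelian subgroup whose centre has order 2. Let S₀ be the centralizer in S of Z(P) and suppose P is normal in S₀. Then either S₀ = S, or P has sectional 2-rank at most 2 and S₀ has index 2 in S. -/
theorem result {S : Type*} [Group S] [Finite S] (h2 : IsPGroup 2 S) (hr : Cfsg.SectionalPRankLE 2 4 S)
    (P : Subgroup S) (hPlt : P ≠ ⊤) (hP : ¬ IsMulCommutative ↥P) (hZP : Nat.card ↥(Subgroup.center ↥P) = 2)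
    (S₀ : Subgroup S) (hS₀ : S₀ = Subgroup.centralizer (((Subgroup.center ↥P).map P.subtype : Subgroup S) : Set S))
    (hPn : ∀ s ∈ S₀, ∀ x ∈ P, s * x * s⁻¹ ∈ P) :
    S₀ = ⊤ ∨ (Cfsg.SectionalPRankLE 2 2 ↥P ∧ S₀.index = 2) := by
  obtain ⟨z, hzP, hz1, hzsq, hzD, hzc, hz, hzm⟩ := exists_center_generator h2 P hP hZP
  have hS₀ : S₀ = Subgroup.centralizer ({z} : Set S) := by
    rw [hS₀, hzm]
    ext g
    rw [Subgroup.mem_centralizer_iff, Subgroup.mem_centralizer_singleton_iff]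
    constructor
    · exact fun h => (h z (Subgroup.mem_zpowers z)).symm
    · rintro h _ ⟨k, rfl⟩
      exact ((show Commute g z from h).zpow_right k).symm.eq
  have hmem0 : ∀ g : S, g ∈ S₀ ↔ g * z = z * g := fun g => by
    rw [hS₀, Subgroup.mem_centralizer_singleton_iff]
  by_cases htop : S₀ = ⊤
  · exact Or.inl htop
  right
  haveI := Fact.mk Nat.prime_two
  haveI : Group.IsNilpotent S := h2.isNilpotent
  have hPS₀ : P ≤ S₀ := fun x hx => (hmem0 x).2 (hzc x hx)
  -- conjugates of `P`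
  let c : S → Subgroup S := fun g => P.map (MulAut.conj g).toMonoidHom
  have hcmem : ∀ g x, x ∈ P → g * x * g⁻¹ ∈ c g := fun g x hx => ⟨x, hx, rfl⟩
  have hcna : ∀ g, ¬ IsMulCommutative ↥(c g) := fun g h => hP ⟨⟨fun a b => by
    have h' := congrArg Subtype.val (h.is_comm.comm ⟨_, hcmem g a a.2⟩ ⟨_, hcmem g b b.2⟩)
    simp only [Subgroup.coe_mul] at h'
    refine Subtype.ext ?_
    have h'' : g * ((a : S) * b) * g⁻¹ = g * ((b : S) * a) * g⁻¹ := by
      calc g * ((a : S) * b) * g⁻¹ = g * a * g⁻¹ * (g * b * g⁻¹) := by group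
        _ = g * b * g⁻¹ * (g * a * g⁻¹) := h'
        _ = _ := by group
    exact mul_left_cancel (mul_right_cancel h'')⟩⟩
  have hcD : ∀ g, g * z * g⁻¹ ∈ ⁅c g, c g⁆ := fun g => by
    have := Subgroup.mem_map_of_mem (MulAut.conj g).toMonoidHom hzD
    rwa [Subgroup.map_commutator] at this
  have hcc : ∀ g, ∀ x ∈ c g, (∀ y ∈ c g, y * x = x * y) → x = 1 ∨ x = g * z * g⁻¹ := by
    rintro g _ ⟨x, hx, rfl⟩ hcen
    rcases hz x hx (fun y hy => by
      have h := hcen _ (hcmem g y hy)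
      have h' : g * (y * x) * g⁻¹ = g * (x * y) * g⁻¹ := by
        calc g * (y * x) * g⁻¹ = g * y * g⁻¹ * (g * x * g⁻¹) := by group
          _ = g * x * g⁻¹ * (g * y * g⁻¹) := h
          _ = _ := by group
      exact mul_left_cancel (mul_right_cancel h')) with e | e
    · left; rw [e, map_one]
    · right; rw [e]; rfl
  have hlt0 : S₀ < Subgroup.normalizer (S₀ : Set S) :=
    Group.normalizerCondition_of_isNilpotent S₀ (lt_top_iff_ne_top.2 htop)
  obtain ⟨s, hsN, hs⟩ := SetLike.exists_of_lt hlt0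
  set N := Subgroup.normalizer (S₀ : Set S) with hN
  have hcN : ∀ g ∈ N, c g ≤ S₀ ∧ ∀ t ∈ S₀, ∀ x ∈ c g, t * x * t⁻¹ ∈ c g := by
    intro g hg
    refine ⟨?_, ?_⟩
    · rintro _ ⟨x, hx, rfl⟩
      exact (Subgroup.mem_normalizer_iff.1 hg x).1 (hPS₀ hx)
    · rintro t ht _ ⟨x, hx, rfl⟩
      have ht' : g⁻¹ * t * g ∈ S₀ := by
        have := (Subgroup.mem_normalizer_iff.1 (inv_mem hg) t).1 ht
        rwa [inv_inv] at this
      refine ⟨_, hPn _ ht' x hx, ?_⟩
      show g * (g⁻¹ * t * g * x * (g⁻¹ * t * g)⁻¹) * g⁻¹ = t * (g * x * g⁻¹) * t⁻¹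
      group
  set z' := s * z * s⁻¹ with hz'
  have hzne : z ≠ z' := fun e => hs ((hmem0 s).2 (by
    rw [eq_comm, hz', mul_inv_eq_iff_eq_mul] at e; exact e))
  obtain ⟨hbot, hcomm⟩ := pair_disjoint h2 hPS₀ (hcN s hsN).1 hPn (hcN s hsN).2 hz (hcc s) hzne
  have hswap : ∀ g ∈ N, g ∉ S₀ → g * z * g⁻¹ = z' := by
    intro g hg hgS
    by_contra hne
    refine false_of_three h2 hr hPS₀ (hcN s hsN).1 (hcN g hg).1 hPn (hcN s hsN).2 (hcN g hg).2 hP
      (hcna s) (hcna g) hzD (hcD s) hz (hcc s) (hcc g) hzne (fun e => hgS ((hmem0 g).2 ?_))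
      (Ne.symm hne)
    rw [eq_comm, mul_inv_eq_iff_eq_mul] at e; exact e
  -- `S₀` has index two in `N`
  have hS₀N : S₀ ≤ N := Subgroup.le_normalizer
  have hsame : ∀ g ∈ N, g ∉ S₀ → s⁻¹ * g ∈ S₀ := by
    intro g hg hgS
    refine (hmem0 _).2 (mul_inv_eq_iff_eq_mul.1 ?_)
    calc s⁻¹ * g * z * (s⁻¹ * g)⁻¹ = s⁻¹ * (g * z * g⁻¹) * s := by group
      _ = s⁻¹ * z' * s := by rw [hswap g hg hgS]
      _ = z := by rw [hz']; group
  have hidx2 : (S₀.subgroupOf N).index = 2 := by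
    rw [Subgroup.index_eq_two_iff]
    refine ⟨⟨s, hsN⟩, fun b => ?_⟩
    rw [Subgroup.mem_subgroupOf, Subgroup.mem_subgroupOf, Subgroup.coe_mul]
    by_cases hb : (b : S) ∈ S₀
    · exact Or.inr ⟨hb, fun h => hs (by simpa using mul_mem (inv_mem hb) h)⟩
    · refine Or.inl ⟨?_, hb⟩
      have h1 := hsame ((b : S)⁻¹) (inv_mem b.2) (fun h => hb (by simpa using inv_mem h))
      have h2 := inv_mem h1
      rwa [mul_inv_rev, inv_inv, inv_inv] at h2
  have hNtop : N = ⊤ := by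
    by_contra hNne
    haveI : (S₀.subgroupOf N).Normal := Subgroup.normal_subgroupOf_of_le_normalizer le_rfl
    obtain ⟨t, htN, ht⟩ := SetLike.exists_of_lt
      (Group.normalizerCondition_of_isNilpotent N (lt_top_iff_ne_top.2 hNne))
    set S₁ := S₀.map (MulAut.conj t).toMonoidHom with hS₁
    have hS₁N : S₁ ≤ N := by
      rintro _ ⟨x, hx, rfl⟩
      exact (Subgroup.mem_normalizer_iff.1 htN x).1 (hS₀N hx)
    have hS₁ne : S₁ ≠ S₀ := by
      intro e
      refine ht (CfsgLib.Coprime.mem_normalizer_of_forall_conj fun x hx => ?_)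
      have : t * x * t⁻¹ ∈ S₁ := ⟨x, hx, rfl⟩
      rwa [e] at this
    have hS₁c : Nat.card S₁ = Nat.card S₀ :=
      Subgroup.card_map_of_injective (MulAut.conj t).injective
    obtain ⟨s₁, hs₁, hs₁0⟩ : ∃ s₁ ∈ S₁, s₁ ∉ S₀ := by
      by_contra! hall
      exact hS₁ne (Subgroup.eq_of_le_of_card_ge hall hS₁c.ge)
    set w := t * z * t⁻¹ with hw
    have hmem1 : ∀ g : S, g ∈ S₁ ↔ g * w = w * g := by
      intro g
      rw [hS₁, Subgroup.mem_map_equiv, hmem0, MulAut.conj_symm_apply, hw]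
      constructor
      · intro h
        calc g * (t * z * t⁻¹) = t * ((t⁻¹ * g * t) * z) * t⁻¹ := by group
          _ = t * (z * (t⁻¹ * g * t)) * t⁻¹ := by rw [h]
          _ = _ := by group
      · intro h
        calc t⁻¹ * g * t * z = t⁻¹ * (g * (t * z * t⁻¹)) * t := by group
          _ = t⁻¹ * (t * z * t⁻¹ * g) * t := by rw [h]
          _ = _ := by group
    have hwS₀ : w ∈ S₀ := by
      have hzN : z ∈ ⁅N, N⁆ := Subgroup.commutator_mono (hPS₀.trans hS₀N) (hPS₀.trans hS₀N) hzD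
      have hwN : w ∈ ⁅N, N⁆ := by
        have h := Subgroup.mem_map_of_mem (MulAut.conj t).toMonoidHom hzN
        rw [Subgroup.map_commutator] at h
        refine Subgroup.commutator_mono ?_ ?_ h <;>
        · rintro _ ⟨x, hx, rfl⟩
          exact (Subgroup.mem_normalizer_iff.1 htN x).1 hx
      refine (Subgroup.commutator_le.2 fun x hx y hy => ?_ : ⁅N, N⁆ ≤ S₀) hwN
      have hmm : ∀ {a b : N}, (a * b : N) ∈ S₀.subgroupOf N ↔
          (a ∈ S₀.subgroupOf N ↔ b ∈ S₀.subgroupOf N) := fun {a b} =>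
        Subgroup.mul_mem_iff_of_index_two hidx2
      have : ⁅(⟨x, hx⟩ : N), (⟨y, hy⟩ : N)⁆ ∈ S₀.subgroupOf N := by
        rw [commutatorElement_def, hmm, hmm, hmm, inv_mem_iff, inv_mem_iff]
        tauto
      exact this
    have hw1 : w ≠ 1 := fun e => hz1 (by
      rw [hw, mul_inv_eq_one, mul_eq_left] at e; exact e)
    have hs₁z : s₁ * z * s₁⁻¹ = z' := hswap s₁ (hS₁N hs₁) hs₁0
    have hzne₁ : z ≠ s₁ * z * s₁⁻¹ := by rw [hs₁z]; exact hzne
    obtain ⟨hbot₁, hcomm₁⟩ := pair_disjoint h2 hPS₀ (hcN s₁ (hS₁N hs₁)).1 hPn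
      (hcN s₁ (hS₁N hs₁)).2 hz (hcc s₁) hzne₁
    by_cases hPS₁ : P ≤ S₁
    · -- `w` centralises both factors
      have hwcent : w ∈ Subgroup.centralizer ((P ⊔ c s₁ : Subgroup S) : Set S) := by
        refine Subgroup.mem_centralizer_iff.2 fun x hx => ?_
        refine (hmem1 x).1 ((sup_le hPS₁ ?_ : P ⊔ c s₁ ≤ S₁) hx)
        rintro _ ⟨y, hy, rfl⟩
        exact mul_mem (mul_mem hs₁ (hPS₁ hy)) (inv_mem hs₁)
      have hwPQ := centralizer_pair_le h2 hr hP (hcna s₁) hbot₁ hcomm₁ hzD (hcD s₁) hz (hcc s₁) hwcent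
      obtain ⟨a, ha, b, hb, hab⟩ := CfsgLib.Coprime.exists_mul_of_mem_sup (H := P) (N := c s₁)
        (fun x hx => CfsgLib.Coprime.mem_normalizer_of_forall_conj fun y hy => by
          rwa [hcomm₁ x hx y hy, mul_inv_cancel_right]) hwPQ
      have hacen : ∀ y ∈ P, y * a = a * y := fun y hy => by
        have h1 := Subgroup.mem_centralizer_iff.1 hwcent y (Subgroup.mem_sup_left hy)
        rw [hab, ← mul_assoc, mul_assoc a b y, ← hcomm₁ y hy b hb, ← mul_assoc] at h1
        exact mul_right_cancel h1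
      have hbcen : ∀ y ∈ c s₁, y * b = b * y := fun y hy => by
        have h1 := Subgroup.mem_centralizer_iff.1 hwcent y (Subgroup.mem_sup_right hy)
        rw [hab, ← mul_assoc, ← hcomm₁ a ha y hy, mul_assoc, mul_assoc] at h1
        exact mul_left_cancel h1
      have htS₀ : t ∉ S₀ := fun h => ht (hS₀N h)
      rcases hz a ha hacen with ea | ea <;> rcases hcc s₁ b hb hbcen with eb | eb <;>
        rw [ea, eb] at hab
      · exact hw1 (hab.trans (one_mul 1))
      · -- `w = z'`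
        rw [one_mul, hs₁z, hz', hw] at hab
        have h1 : s⁻¹ * t ∈ S₀ := by
          refine (hmem0 _).2 (mul_inv_eq_iff_eq_mul.1 ?_)
          calc s⁻¹ * t * z * (s⁻¹ * t)⁻¹ = s⁻¹ * (t * z * t⁻¹) * s := by group
            _ = s⁻¹ * (s * z * s⁻¹) * s := by rw [hab]
            _ = z := by group
        exact ht (by simpa using mul_mem hsN (hS₀N h1))
      · -- `w = z`
        rw [mul_one, hw, mul_inv_eq_iff_eq_mul] at hab
        exact htS₀ ((hmem0 t).2 hab)
      · -- `w = z z'`: central in `S₀`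
        refine hS₁ne (Subgroup.eq_of_le_of_card_ge ?_ hS₁c.le).symm
        intro g hg
        rw [hmem1, hab, hs₁z]
        have h1 : g * z = z * g := (hmem0 g).1 hg
        have h2 : g * z' = z' * g := by
          have hg' : s⁻¹ * g * s ∈ S₀ := by
            have := (Subgroup.mem_normalizer_iff.1 (inv_mem hsN) g).1 hg
            rwa [inv_inv] at this
          have h := (hmem0 _).1 hg'
          rw [hz']
          calc g * (s * z * s⁻¹) = s * ((s⁻¹ * g * s) * z) * s⁻¹ := by group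
            _ = s * (z * (s⁻¹ * g * s)) * s⁻¹ := by rw [h]
            _ = _ := by group
        exact ((show Commute g z from h1).mul_right h2).eq
    · obtain ⟨x, hx, hx1⟩ := SetLike.not_le_iff_exists.1 hPS₁
      set y := s₁ * x * s₁⁻¹ with hy
      have hyQ : y ∈ c s₁ := hcmem s₁ x hx
      have hy1 : y ∉ S₁ := fun h => hx1 (by
        have := mul_mem (mul_mem (inv_mem hs₁) h) hs₁
        simpa [hy, mul_assoc] using this)
      have hS₁i : (S₁.subgroupOf N).index = 2 := by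
        have h1 := (S₁.subgroupOf N).card_mul_index
        have h0 := (S₀.subgroupOf N).card_mul_index
        rw [Nat.card_congr (Subgroup.subgroupOfEquivOfLe hS₁N).toEquiv, hS₁c] at h1
        rw [Nat.card_congr (Subgroup.subgroupOfEquivOfLe hS₀N).toEquiv, hidx2] at h0
        exact Nat.eq_of_mul_eq_mul_left Nat.card_pos (h1.trans h0.symm)
      have hxy : x * y ∈ S₁ := by
        have := (Subgroup.mul_mem_iff_of_index_two hS₁i (a := ⟨x, hS₀N (hPS₀ hx)⟩)
          (b := ⟨y, hS₀N ((hcN s₁ (hS₁N hs₁)).1 hyQ)⟩)).2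
          (iff_of_false hx1 hy1)
        exact this
      -- `w` normalises both factors
      have ha : ⁅w, x⁆ ∈ P := by
        have := P.mul_mem (hPn w hwS₀ x hx) (P.inv_mem hx)
        simpa [commutatorElement_def] using this
      have hb : ⁅w, y⁆ ∈ c s₁ := by
        have := (c s₁).mul_mem ((hcN s₁ (hS₁N hs₁)).2 w hwS₀ y hyQ) ((c s₁).inv_mem hyQ)
        simpa [commutatorElement_def] using this
      have h1 : ⁅w, x⁆ * ⁅w, y⁆ = 1 := by
        have h := commutatorElement_eq_one_iff_mul_comm.2 ((hmem1 _).1 hxy).symm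
        have e : ⁅w, x * y⁆ = ⁅w, x⁆ * (x * ⁅w, y⁆ * x⁻¹) := by
          simp [commutatorElement_def, mul_assoc]
        rw [e, hcomm₁ x hx _ hb, mul_inv_cancel_right] at h
        exact h
      have h2 : ⁅w, x⁆ ∈ P ⊓ c s₁ := ⟨ha, eq_inv_of_mul_eq_one_left h1 ▸ Subgroup.inv_mem _ hb⟩
      rw [hbot₁, Subgroup.mem_bot, commutatorElement_eq_one_iff_mul_comm] at h2
      exact hx1 ((hmem1 x).2 h2.symm)
  refine ⟨rank_le_two hr P s hbot hcomm, ?_⟩
  have h := hidx2
  change S₀.relIndex N = 2 at h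
  rwa [hNtop, Subgroup.relIndex_top_right] at h

end Cfsg.Agent.S4401
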