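import Cfsg.Statements.S4402
import Cfsg.Agent.Lib.TwoGroups85.WreathExtend

set_option autoImplicit false
open Cfsg

namespace Cfsg.Agent.S4402

/-- Let S be a finite 2-group of sectional 2-rank at most 4 and P a proper subgroup isomorphic to the wreath product of the dihedral group of order 8 by a group of order 2 (equivalently, to a Sylow 2-subgroup of the symmetric group of degree 8; order 128). Then Z(S) = Z(P) has order 2, P has index 2 in its normalizer N_S(P), N_S(P)/Z(S) is again isomorphic to that wreath product, and every elementary abelian subgroup V of order 16 that is normal in P satisfies N_S(V) = P. -/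
theorem result {S : Type*} [Group S] [Finite S] (h2 : IsPGroup 2 S) (hr : Cfsg.SectionalPRankLE 2 4 S)
    (P : Subgroup S) (hPlt : P ≠ ⊤) (hP : ∃ T : Sylow 2 (Equiv.Perm (Fin 8)), Nonempty (↥P ≃* ↥(T : Subgroup (Equiv.Perm (Fin 8))))) :
    Subgroup.center S = (Subgroup.center ↥P).map P.subtype ∧ Nat.card ↥(Subgroup.center S) = 2 ∧
    P.relIndex (Subgroup.normalizer (P : Set S)) = 2 ∧
    (∃ (_ : ((Subgroup.center S).subgroupOf (Subgroup.normalizer (P : Set S))).Normal) (T : Sylow 2 (Equiv.Perm (Fin 8))),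
      Nonempty (↥(Subgroup.normalizer (P : Set S)) ⧸ (Subgroup.center S).subgroupOf (Subgroup.normalizer (P : Set S)) ≃*
        ↥(T : Subgroup (Equiv.Perm (Fin 8))))) ∧
    ∀ V : Subgroup S, V ≤ P → (∀ g ∈ P, ∀ v ∈ V, g * v * g⁻¹ ∈ V) → Cfsg.IsElementaryAbelian 2 V → Nat.card ↥V = 16 →
      Subgroup.normalizer (V : Set S) = P := by
  obtain ⟨T, ⟨e⟩⟩ := hP
  obtain ⟨e₀⟩ := CfsgLib.TwoGroups85.WreathDih.nonempty_equiv_sylow T
  let eP : CfsgLib.TwoGroups85.WreathDih ≃* ↥P := e₀.trans e.symm
  let f : CfsgLib.TwoGroups85.WreathDih →* S := P.subtype.comp eP.toMonoidHom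
  have hf : Function.Injective f := P.subtype_injective.comp eP.injective
  have hrange : f.range = P := by
    rw [MonoidHom.range_comp, MonoidHom.range_eq_top_of_surjective _ eP.surjective,
      ← MonoidHom.range_eq_map, Subgroup.range_subtype]
  obtain ⟨hcen, hidx, ⟨Φ, hker, hcard⟩, hV⟩ :=
    CfsgLib.TwoGroups85.wreath_extend f h2 hr hf (hrange ▸ hPlt)
  rw [hrange] at hidx hV
  have hzc : orderOf (f CfsgLib.TwoGroups85.WreathDih.zc) = 2 := by
    rw [orderOf_injective f hf]
    refine orderOf_eq_prime ?_ ?_ <;> decide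
  have hcP : (Subgroup.center ↥P).map P.subtype = Subgroup.center S := by
    rw [hcen]
    refine le_antisymm ?_ (Subgroup.zpowers_le.2 ⟨eP CfsgLib.TwoGroups85.WreathDih.zc, ?_, rfl⟩)
    · rintro _ ⟨x, hx, rfl⟩
      obtain ⟨w, rfl⟩ := eP.surjective x
      rcases CfsgLib.TwoGroups85.WreathDih.center_cases w (fun v => eP.injective (by
        rw [map_mul, map_mul]; exact Subgroup.mem_center_iff.1 hx (eP v))) with rfl | rfl
      · simp
      · exact Subgroup.mem_zpowers _
    · exact Subgroup.mem_center_iff.2 fun x => by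
        obtain ⟨v, rfl⟩ := eP.surjective x
        rw [← map_mul, ← map_mul, CfsgLib.TwoGroups85.WreathDih.zc_central v]
  refine ⟨hcP.symm, by rw [hcen, Nat.card_zpowers, hzc], hidx, ?_, ?_⟩
  · have aux : ∀ N : Subgroup S, ∀ Ψ : ↥N →* Equiv.Perm (Fin 8),
        Ψ.ker = (Subgroup.center S).subgroupOf N → Nat.card Ψ.range = 128 →
        ∃ (_ : ((Subgroup.center S).subgroupOf N).Normal) (T : Sylow 2 (Equiv.Perm (Fin 8))),
          Nonempty (↥N ⧸ (Subgroup.center S).subgroupOf N ≃* ↥(T : Subgroup (Equiv.Perm (Fin 8)))) := by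
      intro N Ψ hΨ hΨc
      haveI : Fact (Nat.Prime 2) := ⟨Nat.prime_two⟩
      haveI hn : ((Subgroup.center S).subgroupOf N).Normal := hΨ ▸ Ψ.normal_ker
      refine ⟨hn, Sylow.ofCard Ψ.range ?_,
        ⟨(QuotientGroup.quotientMulEquivOfEq hΨ.symm).trans (QuotientGroup.quotientKerEquivRange Ψ)⟩⟩
      rw [hΨc, Nat.card_perm, Nat.card_eq_fintype_card, Fintype.card_fin,
        show Nat.factorial 8 = 2 ^ 7 * 315 by rfl, Nat.factorization_mul (by norm_num) (by norm_num),
        Finsupp.add_apply, Nat.Prime.factorization_pow Nat.prime_two, Finsupp.single_eq_same,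
        Nat.factorization_eq_zero_of_not_dvd (by norm_num), add_zero]
      rfl
    exact hrange ▸ aux _ Φ hker hcard
  · intro V hVP hVn hVe hV16
    refine hV V hVP hVn (fun a ha b hb => ?_) (fun a ha => ?_) hV16
    · exact congrArg Subtype.val (hVe.1.is_comm.comm ⟨a, ha⟩ ⟨b, hb⟩)
    · rw [← pow_two]; exact hVe.2 a ha

end Cfsg.Agent.S4402
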