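import Cfsg.Statements.S4403
import Cfsg.Agent.Lib.Components.FStar
import Cfsg.Agent.Lib.Components.ComponentAction
import Cfsg.Agent.Lib.Components.PComponent
-- import your own Cfsg.Agent.* helpers here

set_option autoImplicit false
open Cfsg Subgroup

namespace Cfsg.Agent.S4403

open scoped IsMulCommutative

/-- Reduction mod `p` of the exponent of an automorphism of a cyclic `p`-group. -/
lemma exists_aut_hom {C : Type*} [Group C] [Finite C] [IsCyclic C] {p n : ℕ} [hp : Fact p.Prime]
    (hcard : Nat.card C = p ^ n) (hn : n ≠ 0) :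
    ∃ f : MulAut C →* (ZMod p)ˣ, (∀ α, f α = 1 → α ^ p ^ n = 1) ∧
      ∀ α (S : Subgroup C), S ≠ ⊤ → (∀ y, α y * y⁻¹ ∈ S) → f α = 1 := by
  obtain ⟨x, hx⟩ := IsCyclic.exists_generator (α := C)
  have hox : orderOf x = p ^ n := by rw [orderOf_eq_card_of_forall_mem_zpowers hx, hcard]
  choose t ht using fun α : MulAut C => hx (α x)
  replace ht : ∀ α : MulAut C, x ^ t α = α x := ht
  have key : ∀ a b : ℤ, x ^ a = x ^ b → (a : ZMod p) = (b : ZMod p) := by
    intro a b h
    rw [zpow_eq_zpow_iff_modEq, hox] at h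
    rw [ZMod.intCast_eq_intCast_iff]
    exact h.of_dvd (by exact_mod_cast dvd_pow_self p hn)
  let f₀ : MulAut C →* ZMod p :=
    { toFun := fun α => (t α : ZMod p)
      map_one' := by
        show ((t 1 : ℤ) : ZMod p) = 1
        rw [key (t 1) 1 (by rw [ht, zpow_one]; rfl), Int.cast_one]
      map_mul' := fun α β => by
        show ((t (α * β) : ℤ) : ZMod p) = (t α : ZMod p) * (t β : ZMod p)
        rw [key (t (α * β)) (t α * t β) (by
          rw [ht, zpow_mul, ht, MulAut.mul_apply, ← map_zpow, ht]), Int.cast_mul] }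
  refine ⟨f₀.toHomUnits, fun α h => ?_, fun α S hS hc => ?_⟩
  · have h1 : (t α : ZMod p) = 1 := congrArg Units.val h
    have h2 : (p : ℤ) ∣ t α - 1 := by
      rw [← ZMod.intCast_zmod_eq_zero_iff_dvd]; push_cast; rw [h1, sub_self]
    have h3 := dvd_sub_pow_of_dvd_sub h2 n
    rw [one_pow] at h3
    have hpow : ∀ k : ℕ, (α ^ k) x = x ^ (t α ^ k) := by
      intro k
      induction k with
      | zero => simp
      | succ k ih => rw [pow_succ', MulAut.mul_apply, ih, map_zpow, ← ht, ← zpow_mul, pow_succ']
    have hfix : (α ^ p ^ n) x = x := by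
      rw [hpow]
      conv_rhs => rw [← zpow_one x]
      rw [zpow_eq_zpow_iff_modEq, hox, Int.modEq_iff_dvd, dvd_sub_comm]
      exact (by exact_mod_cast pow_dvd_pow p n.le_succ : ((p ^ n : ℕ) : ℤ) ∣ (p : ℤ) ^ (n + 1)).trans h3
    refine MulEquiv.ext fun y => ?_
    obtain ⟨j, rfl⟩ := hx y
    simp only [map_zpow, hfix, MulAut.one_apply]
  · apply Units.ext
    show (t α : ZMod p) = 1
    by_contra hne
    have hnd : ¬ (p : ℤ) ∣ t α - 1 := by
      rw [← ZMod.intCast_zmod_eq_zero_iff_dvd]; push_cast; rwa [sub_eq_zero]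
    have hco : IsCoprime (t α - 1) ((p ^ n : ℕ) : ℤ) := by
      push_cast
      exact ((Nat.prime_iff_prime_int.mp hp.out).coprime_iff_not_dvd.mpr hnd).symm.pow_right
    obtain ⟨a, b, hab⟩ := hco
    have hmem : x ^ (t α - 1) ∈ S := by
      rw [zpow_sub_one, ht]; exact hc x
    apply hS
    rw [eq_top_iff]
    intro y _
    obtain ⟨j, rfl⟩ := hx y
    refine S.zpow_mem ?_ j
    rw [← zpow_one x, ← hab, zpow_add, mul_comm a, mul_comm b, zpow_mul, zpow_mul, zpow_natCast,
      ← hox, pow_orderOf_eq_one, one_zpow, mul_one]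
    exact S.zpow_mem hmem a

/-- The action of `N(P)` on a cyclic Sylow subgroup, reduced mod `p`. -/
lemma exists_normalizer_hom {H : Type*} [Group H] [Finite H] {p : ℕ} [hp : Fact p.Prime]
    (P : Sylow p H) [IsCyclic (P : Subgroup H)] (hdvd : p ∣ Nat.card H) :
    ∃ f : normalizer ((P : Subgroup H) : Set H) →* (ZMod p)ˣ,
      (∀ m, f m = 1 → (m : H) ∈ centralizer ((P : Subgroup H) : Set H)) ∧
      ∀ (m : normalizer ((P : Subgroup H) : Set H)) (L : Subgroup H), ¬ (P : Subgroup H) ≤ L →
        (∀ y ∈ (P : Subgroup H), (m : H) * y * (m : H)⁻¹ * y⁻¹ ∈ L) → f m = 1 := by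
  obtain ⟨n, hn⟩ := IsPGroup.iff_card.mp P.2
  have hn0 : n ≠ 0 := by
    rintro rfl
    refine P.not_dvd_index ?_
    have := (P : Subgroup H).card_mul_index
    rw [hn, pow_zero, one_mul] at this
    rwa [this]
  obtain ⟨f, hf1, hf2⟩ := exists_aut_hom (C := (P : Subgroup H)) hn hn0
  set φ := (P : Subgroup H).normalizerMonoidHom with hφ
  refine ⟨f.comp φ, fun m hm => ?_, fun m L hL hc => ?_⟩
  · have h1 : φ m ^ p ^ n = 1 := hf1 _ hm
    set Q := ((P : Subgroup H).subgroupOf (normalizer ((P : Subgroup H) : Set H))) with hQ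
    have hnd : ¬ p ∣ Q.index := fun hd => P.not_dvd_index (hd.trans
      (Dvd.intro _ (relIndex_mul_index le_normalizer)))
    have h2 : φ m ^ Q.index = 1 := by
      rw [← map_pow, ← MonoidHom.mem_ker, hφ, normalizerMonoidHom_ker, mem_subgroupOf]
      have hmem : ((m ^ Q.index : _) : H) ∈ (P : Subgroup H) := Q.pow_index_mem m
      intro y hy
      exact setLike_mul_comm' hy hmem
    have h3 : φ m = 1 := by
      rw [← orderOf_eq_one_iff, ← Nat.dvd_one]
      have := Nat.dvd_gcd (orderOf_dvd_of_pow_eq_one h1) (orderOf_dvd_of_pow_eq_one h2)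
      rwa [Nat.Coprime.gcd_eq_one ((hp.out.coprime_iff_not_dvd.mpr hnd).pow_left n)] at this
    rw [← MonoidHom.mem_ker, hφ, normalizerMonoidHom_ker] at h3
    exact h3
  · refine hf2 _ (L.subgroupOf (P : Subgroup H)) ?_ fun y => ?_
    · rwa [Ne, subgroupOf_eq_top]
    · exact hc _ y.2
where
  setLike_mul_comm' {G : Type _} [Group G] {S : Subgroup G} [IsMulCommutative S] {a b : G}
      (ha : a ∈ S) (hb : b ∈ S) : a * b = b * a :=
    congrArg Subtype.val (mul_comm' (⟨a, ha⟩ : S) ⟨b, hb⟩)

/-- In a perfect group with cyclic Sylow `p`-subgroups the center has order prime to `p`. -/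
lemma not_dvd_card_center {H : Type*} [Group H] [Finite H] {p : ℕ} [hp : Fact p.Prime]
    (hperf : _root_.commutator H = ⊤) (hc : ∀ Q : Sylow p H, IsCyclic (Q : Subgroup H)) :
    ¬ p ∣ Nat.card (center H) := by
  intro h
  obtain ⟨z, hz⟩ := exists_prime_orderOf_dvd_card' p h
  have hzo : orderOf (z : H) = p := by rwa [Subgroup.orderOf_coe]
  have hzp : IsPGroup p (zpowers (z : H)) :=
    IsPGroup.of_card (by rw [Nat.card_zpowers, hzo, pow_one])
  obtain ⟨Q, hQ⟩ := hzp.exists_le_sylow
  haveI := hc Q
  have hkey : ∀ (k : ℕ) (g₀ : H), g₀⁻¹ * (z : H) ^ k * g₀ ∈ (Q : Subgroup H) →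
      g₀⁻¹ * (z : H) ^ k * g₀ = (z : H) ^ k := fun k g₀ _ => by
    rw [mul_assoc, ← Subgroup.mem_center_iff.mp (pow_mem z.2 k) g₀, ← mul_assoc, inv_mul_cancel,
      one_mul]
  have ht := MonoidHom.transfer_eq_pow (MonoidHom.id (Q : Subgroup H)) (z : H) hkey
  have h1 : MonoidHom.transfer (MonoidHom.id (Q : Subgroup H)) (z : H) = 1 :=
    MonoidHom.mem_ker.mp (Abelianization.commutator_subset_ker _ (hperf ▸ mem_top _))
  rw [h1] at ht
  have h2 : (z : H) ^ (Q : Subgroup H).index = 1 := (congrArg Subtype.val ht).symm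
  have h3 := orderOf_dvd_of_pow_eq_one h2
  rw [hzo] at h3
  exact Q.not_dvd_index h3

lemma isCyclic_of_pgroup {K : Type*} [Group K] [Finite K] {p : ℕ} [Fact p.Prime] (P : Sylow p K)
    [IsCyclic (P : Subgroup K)] {H : Subgroup K} (hH : IsPGroup p H) : IsCyclic H := by
  obtain ⟨Q, hQ⟩ := hH.exists_le_sylow
  haveI : IsCyclic (Q : Subgroup K) := (Q.equiv P).isCyclic.mpr inferInstance
  exact Subgroup.isCyclic_of_le hQ

lemma mem_zpowers_of_orderOf_eq {C : Type*} [Group C] [Finite C] [IsCyclic C] {p : ℕ} (hp : 0 < p)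
    {a b : C} (ha : orderOf a = p) (hb : orderOf b = p) : a ∈ zpowers b := by
  classical
  have := Fintype.ofFinite C
  have h1 := IsCyclic.card_pow_eq_one_le (α := C) hp
  have hsub : (Finset.univ.filter (· ∈ zpowers b)) ⊆ Finset.univ.filter (fun c : C => c ^ p = 1) := by
    intro c hc
    simp only [Finset.mem_filter, Finset.mem_univ, true_and] at hc ⊢
    obtain ⟨j, rfl⟩ := hc
    show (b ^ j) ^ p = 1
    rw [← zpow_natCast, ← zpow_mul, mul_comm, zpow_mul, zpow_natCast, ← hb, pow_orderOf_eq_one,
      one_zpow]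
  have hcb : (Finset.univ.filter (· ∈ zpowers b)).card = p := by
    rw [← Fintype.card_subtype]
    exact (Fintype.card_zpowers).trans hb
  have heq := Finset.eq_of_subset_of_card_le hsub (by rw [hcb]; exact h1)
  have : a ∈ Finset.univ.filter (fun c : C => c ^ p = 1) := by
    simp [← ha, pow_orderOf_eq_one]
  rw [← heq] at this
  simpa using this

lemma false_of_commuting {K : Type*} [Group K] [Finite K] {p : ℕ} [hp : Fact p.Prime]
    (P : Sylow p K) [IsCyclic (P : Subgroup K)] {A B : Subgroup K} (hAB : ⁅A, B⁆ = ⊥)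
    (hA : p ∣ Nat.card A) (hB : p ∣ Nat.card B)
    (hZ : A ⊓ centralizer (A : Set K) = ⊥) : False := by
  obtain ⟨a, ha⟩ := exists_prime_orderOf_dvd_card' p hA
  obtain ⟨b, hb⟩ := exists_prime_orderOf_dvd_card' p hB
  rw [← Subgroup.orderOf_coe] at ha hb
  have hBA : B ≤ centralizer (A : Set K) :=
    CfsgLib.Components.le_centralizer_of_commutator_eq_bot (by rw [commutator_comm]; exact hAB)
  have hp2 : ∀ c : K, orderOf c = p → IsPGroup p (zpowers c) := fun c hc =>
    IsPGroup.of_card (by rw [Nat.card_zpowers, hc, pow_one])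
  have hle : zpowers (a : K) ≤ normalizer (zpowers (b : K) : Set K) := by
    refine le_trans ?_ (centralizer_le_normalizer _)
    rw [zpowers_le, mem_centralizer_iff]
    intro h hh
    obtain ⟨j, rfl⟩ := hh
    have : Commute (b : K) (a : K) := (mem_centralizer_iff.mp (hBA b.2) a a.2).symm
    exact (this.zpow_left j).eq
  haveI := isCyclic_of_pgroup P ((hp2 _ ha).to_sup_of_normal_right' (hp2 _ hb) hle)
  have hm := mem_zpowers_of_orderOf_eq hp.out.pos
    (a := (⟨a, le_sup_left (b := zpowers (b : K)) (mem_zpowers _)⟩ : (zpowers (a : K) ⊔ zpowers (b : K) : Subgroup K)))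
    (b := ⟨b, le_sup_right (a := zpowers (a : K)) (mem_zpowers _)⟩)
    (by rw [Subgroup.orderOf_mk]; exact ha) (by rw [Subgroup.orderOf_mk]; exact hb)
  obtain ⟨j, hj⟩ := hm
  have hab : (a : K) ∈ B := by
    have := congrArg Subtype.val hj
    simp only [SubgroupClass.coe_zpow] at this
    rw [← this]
    exact B.zpow_mem b.2 j
  have : (a : K) ∈ A ⊓ centralizer (A : Set K) := ⟨a.2, hBA hab⟩
  rw [hZ, Subgroup.mem_bot] at this
  rw [this, orderOf_one] at ha
  exact hp.out.ne_one ha.symm

/-- Let K be a finite group, p a prime dividing its order with O_{p'}(K) = 1 (no nontrivial normal subgroup of order prime to p), and P a cyclic Sylow p-subgroup of K. Then either P is normal and self-centralizing in K with K/P cyclic of order dividing p − 1 (so K is the semidirect product of P by a group of automorphisms of P of order dividing p − 1), or the generalized Fitting subgroup F*(K) is a non-abelian simple group and p does not divide the index of F*(K) in K. -/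
theorem result {K : Type*} [Group K] [Finite K] (p : ℕ) [Fact p.Prime] (hp : p ∣ Nat.card K) (hO : Cfsg.pPrimeCore p K = ⊥)
    (P : Sylow p K) (hP : IsCyclic ↥(P : Subgroup K)) :
    ((P : Subgroup K).Normal ∧ Subgroup.centralizer ((P : Subgroup K) : Set K) = (P : Subgroup K) ∧
      (∀ (_ : (P : Subgroup K).Normal), IsCyclic (K ⧸ (P : Subgroup K))) ∧ (P : Subgroup K).index ∣ p - 1) ∨
    (IsSimpleGroup ↥(Cfsg.generalizedFittingSubgroup K) ∧ ¬ IsMulCommutative ↥(Cfsg.generalizedFittingSubgroup K) ∧
      ¬ p ∣ (Cfsg.generalizedFittingSubgroup K).index) := by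
  classical
  haveI := hP
  by_cases hcomp : ∃ L : Subgroup K, Cfsg.IsComponent L
  · obtain ⟨L, hL⟩ := hcomp
    right
    have hLd : p ∣ Nat.card L := CfsgLib.Components.dvd_card_component hO hL
    have hperf : _root_.commutator L = ⊤ := CfsgLib.Components.quasisimple_commutator_eq_top hL.2
    have hcyc : ∀ Q : Sylow p L, IsCyclic (Q : Subgroup L) := fun Q => by
      haveI := isCyclic_of_pgroup P (Q.2.map L.subtype)
      exact ((Q : Subgroup L).equivMapOfInjective _ L.subtype_injective).isCyclic.mpr inferInstance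
    have hcenter : center L = ⊥ := by
      have hsn : ((center L).map L.subtype).IsSubnormal :=
        ((inferInstance : (center L).Normal).isSubnormal).trans' hL.1
      have hle := CfsgLib.PCore.le_pPrimeCore_of_isSubnormal hsn (by
        rw [Subgroup.card_map_of_injective L.subtype_injective]
        exact CfsgLib.PCore.coprime_of_not_dvd_card (not_dvd_card_center hperf hcyc))
      rw [hO, le_bot_iff] at hle
      exact (map_eq_bot_iff_of_injective _ L.subtype_injective).mp hle
    have hZ : L ⊓ centralizer (L : Set K) = ⊥ := by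
      rw [← CfsgLib.Components.map_center_subtype, hcenter, Subgroup.map_bot]
    have huniq : ∀ L' : Subgroup K, Cfsg.IsComponent L' → L' = L := fun L' hL' => by
      by_contra hne
      exact false_of_commuting P
        (CfsgLib.Components.commutator_components_eq_bot hL hL' (Ne.symm hne)) hLd
        (CfsgLib.Components.dvd_card_component hO hL') hZ
    have hlayer : Cfsg.layer K = L :=
      le_antisymm (sSup_le fun L' hL' => (huniq L' hL').le) (CfsgLib.Components.component_le_layer hL)
    haveI hLn : L.Normal := by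
      rw [← hlayer]; infer_instance
    have hne : L ≠ ⊥ := CfsgLib.Components.component_ne_bot hL
    have hQ : Cfsg.pCore p K = ⊥ := by
      by_contra hQne
      haveI hpn : (Cfsg.pCore p K).Normal := Subgroup.sSup_normal _ fun _ h => h.1
      have hQp : IsPGroup p (Cfsg.pCore p K) := CfsgLib.PCore.pCore_isPGroup
      rcases CfsgLib.Components.le_or_commutator_eq_bot hL
          (inferInstance : (Cfsg.pCore p K).Normal).isSubnormal with h | h
      · exact CfsgLib.Components.component_not_isSolvable hL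
          (haveI := (hQp.to_le h).isNilpotent; inferInstance)
      · refine false_of_commuting P h hLd ?_ hZ
        obtain ⟨k, hk⟩ := IsPGroup.iff_card.mp hQp
        rw [hk]
        exact dvd_pow_self p (by rintro rfl; exact hQne (Subgroup.card_eq_one.mp (by rw [hk, pow_zero])))
    have hF : Cfsg.generalizedFittingSubgroup K = L := by
      rw [Cfsg.generalizedFittingSubgroup,
        CfsgLib.Components.fitting_eq_pCore_of_pPrimeCore_eq_bot hO, hQ, hlayer, sup_bot_eq]
    rw [hF]
    refine ⟨?_, CfsgLib.Components.quasisimple_not_isMulCommutative hL.2, ?_⟩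
    · haveI := hL.2.2
      exact ((QuotientGroup.quotientBot (G := L)).symm.trans
        (QuotientGroup.quotientMulEquivOfEq hcenter.symm)).isSimpleGroup
    · intro hdvd
      have hPL : ¬ (P : Subgroup K) ≤ L := fun h =>
        P.not_dvd_index (hdvd.trans (index_dvd_of_le h))
      set H : Subgroup K := L ⊔ (P : Subgroup K) with hH
      let PH : Sylow p H := P.subtype le_sup_right
      have hPH : (PH : Subgroup H) = (P : Subgroup K).subgroupOf H := rfl
      haveI : IsCyclic (PH : Subgroup H) :=
        (Subgroup.subgroupOfEquivOfLe (le_sup_right : (P : Subgroup K) ≤ H)).isCyclic.mpr hP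
      have hdvdH : p ∣ Nat.card H := hLd.trans (card_dvd_of_le le_sup_left)
      obtain ⟨f, hf1, hf2⟩ := exists_normalizer_hom PH hdvdH
      have hNC : normalizer ((PH : Subgroup H) : Set H) ≤ centralizer ((PH : Subgroup H) : Set H) := by
        intro m hm
        refine hf1 ⟨m, hm⟩ (hf2 ⟨m, hm⟩ (L.subgroupOf H) ?_ ?_)
        · rw [hPH]
          exact fun h => hPL (CfsgLib.Components.le_of_subgroupOf_le le_sup_right h)
        · intro y hy
          rw [mem_subgroupOf]
          push_cast
          obtain ⟨l, hl, q, hq, hlq⟩ := mem_sup_of_normal_left.mp m.2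
          have hy' : (y : K) ∈ (P : Subgroup K) := hy
          have hqy : q * y * q⁻¹ = (y : K) := by
            rw [show q * y = (y : K) * q from congrArg Subtype.val
              (mul_comm' (⟨q, hq⟩ : (P : Subgroup K)) ⟨y, hy'⟩), mul_inv_cancel_right]
          have : (m : K) * y * (m : K)⁻¹ * (y : K)⁻¹ = l * ((y : K) * l⁻¹ * (y : K)⁻¹) := by
            rw [← hlq]
            calc l * q * y * (l * q)⁻¹ * (y : K)⁻¹ = l * (q * y * q⁻¹) * l⁻¹ * (y : K)⁻¹ := by group
              _ = _ := by rw [hqy]; group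
          rw [this]
          exact L.mul_mem hl (hLn.conj_mem _ (L.inv_mem hl) _)
      apply MonoidHom.not_dvd_card_ker_transferSylow PH hNC
      let g : L →* (PH : Subgroup H) :=
        (MonoidHom.transferSylow PH hNC).comp (inclusion le_sup_left)
      refine dvd_trans ?_ (card_dvd_of_le
        (H := L.subgroupOf H) (K := (MonoidHom.transferSylow PH hNC).ker) fun z hz => ?_)
      · rwa [Nat.card_congr (Subgroup.subgroupOfEquivOfLe
          (le_sup_left : L ≤ H)).toEquiv]
      · have : g ⟨z.1, hz⟩ = 1 :=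
          MonoidHom.mem_ker.mp (Abelianization.commutator_subset_ker g (hperf ▸ mem_top _))
        exact MonoidHom.mem_ker.mpr this
  · left
    have hlayer : Cfsg.layer K = ⊥ :=
      le_bot_iff.mp (sSup_le fun L hL => absurd ⟨L, hL⟩ hcomp)
    have hF : Cfsg.generalizedFittingSubgroup K = Cfsg.pCore p K := by
      rw [Cfsg.generalizedFittingSubgroup,
        CfsgLib.Components.fitting_eq_pCore_of_pPrimeCore_eq_bot hO, hlayer, bot_sup_eq]
    have hcent : centralizer (Cfsg.pCore p K : Set K) ≤ Cfsg.pCore p K := by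
      rw [← hF]; exact CfsgLib.Components.centralizer_generalizedFitting_le
    have hQP : Cfsg.pCore p K ≤ (P : Subgroup K) := CfsgLib.PCore.pCore_le_sylow P
    have hPC : (P : Subgroup K) ≤ centralizer ((P : Subgroup K) : Set K) :=
      le_centralizer_iff_isMulCommutative.mpr inferInstance
    have hPQ : (P : Subgroup K) = Cfsg.pCore p K :=
      le_antisymm ((hPC.trans (centralizer_le (SetLike.coe_subset_coe.mpr hQP))).trans hcent) hQP
    have hCP : centralizer ((P : Subgroup K) : Set K) = (P : Subgroup K) :=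
      le_antisymm (by rw [hPQ]; exact hcent) hPC
    haveI hn : (P : Subgroup K).Normal := hPQ ▸ (Subgroup.sSup_normal _ fun _ h => h.1)
    obtain ⟨f, hf1, _⟩ := exists_normalizer_hom P hp
    let f' : K →* (ZMod p)ˣ := f.comp ((MonoidHom.id K).codRestrict _
      (fun k => by rw [normalizer_eq_top]; exact mem_top k))
    have hker : f'.ker = (P : Subgroup K) := by
      refine le_antisymm (fun k hk => hCP ▸ hf1 _ hk) fun k hk => ?_
      by_contra h
      have h1 : orderOf (f' k) ∣ p - 1 := by
        have := orderOf_dvd_natCard (f' k)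
        rwa [Nat.card_eq_fintype_card, ZMod.card_units] at this
      obtain ⟨e, he⟩ := P.2 ⟨k, hk⟩
      have h2 : orderOf (f' k) ∣ p ^ e := orderOf_dvd_of_pow_eq_one (by
        rw [← map_pow, show k ^ p ^ e = 1 from congrArg Subtype.val he, map_one])
      apply h
      rw [MonoidHom.mem_ker, ← orderOf_eq_one_iff, ← Nat.dvd_one]
      have h3 := Nat.dvd_gcd h2 h1
      have hco : Nat.Coprime p (p - 1) :=
        (Fact.out : p.Prime).coprime_iff_not_dvd.mpr fun hd => by
          have h2' : 2 ≤ p := (Fact.out : p.Prime).two_le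
          have hle : p ≤ p - 1 := Nat.le_of_dvd (Nat.sub_pos_of_lt h2') hd
          exact absurd hle (by omega)
      rwa [(hco.pow_left e).gcd_eq_one] at h3
    let e : K ⧸ (P : Subgroup K) ≃* f'.range :=
      (QuotientGroup.quotientMulEquivOfEq hker.symm).trans (QuotientGroup.quotientKerEquivRange f')
    refine ⟨hn, hCP, fun _ => e.isCyclic.mpr inferInstance, ?_⟩
    rw [Subgroup.index_eq_card, Nat.card_congr e.toEquiv,
      ← ZMod.card_units p, ← Nat.card_eq_fintype_card]
    exact Subgroup.card_subgroup_dvd_card _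

end Cfsg.Agent.S4403
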