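import Cfsg.Statements.S4404
import Cfsg.Agent.Lib.Lines85.Blocks
import Cfsg.Agent.Lib.Hall.Pi

set_option autoImplicit false
set_option linter.style.haveILetI false
open Cfsg
open scoped commutatorElement

namespace Cfsg.Agent.S4404

/-- Let S be a finite solvable group and M a normal elementary abelian 2-subgroup of S. Suppose S contains an elementary abelian subgroup of order p³ for some odd prime p, and a cyclic 3-subgroup Q such that the cubes of the elements of Q centralize M and the commutator subgroup [Q, M] has order 4 (a four-group inside M). Then S contains an elementary abelian subgroup F of order r³, for some odd prime r, whose centralizer of [Q, M] in F — the subgroup C_F([Q, M]) — is not cyclic. -/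
theorem result {S : Type*} [Group S] [Finite S]
    [Group.IsSolvable S] (M : Subgroup S) [M.Normal] (hM : Cfsg.IsElementaryAbelian 2 M)
    (p : ℕ) (hp : p.Prime) (hp2 : p ≠ 2) (E : Subgroup S) (hE : Cfsg.IsElementaryAbelian p E) (hE3 : Nat.card ↥E = p ^ 3)
    (Q : Subgroup S) (hQc : IsCyclic ↥Q) (hQ3 : IsPGroup 3 ↥Q)
    (hQ1 : ∀ x ∈ Q, x ^ 3 ∈ Subgroup.centralizer (M : Set S)) (hQM : Nat.card ↥⁅Q, M⁆ = 4) :
    ∃ (r : ℕ) (F : Subgroup S), r.Prime ∧ r ≠ 2 ∧ Cfsg.IsElementaryAbelian r F ∧ Nat.card ↥F = r ^ 3 ∧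
      ¬ IsCyclic ↥(F ⊓ Subgroup.centralizer ((⁅Q, M⁆ : Subgroup S) : Set S)) := by
  classical
  haveI : Fact (Nat.Prime 3) := ⟨Nat.prime_three⟩
  haveI := hM.1
  letI : CommGroup M :=
    { mul_comm := fun a b => hM.1.1.comm a b }
  have hV : CfsgLib.JComp.Exp2 M := fun v => Subtype.ext (by
    have h := hM.2 v v.2
    rw [pow_two] at h
    exact h)
  -- a Hall subgroup of odd order containing `Q`
  set π : Set ℕ := {q | q ≠ 2}
  obtain ⟨K, hK, hQK⟩ := CfsgLib.Hall.exists_isPiHall_ge (π := π) (U := Q) (fun q hq hd h2 => by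
    subst h2
    obtain ⟨k, hk⟩ := (IsPGroup.iff_card).1 hQ3
    rw [hk] at hd
    exact absurd ((Nat.prime_dvd_prime_iff_eq hq Nat.prime_three).1 (hq.dvd_of_dvd_pow hd))
      (by norm_num))
  haveI := Fact.mk hp
  obtain ⟨g, hg⟩ := CfsgLib.Hall.exists_conj_le_isPiHall (U := E) hK (fun q hq hd h2 => by
    subst h2
    rw [hE3] at hd
    exact hp2 ((Nat.prime_dvd_prime_iff_eq hq hp).1 (hq.dvd_of_dvd_pow hd)).symm)
  have hKodd : Odd (Nat.card K) := by
    rw [← Nat.not_even_iff_odd, even_iff_two_dvd]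
    exact fun h => hK.1 2 Nat.prime_two h rfl
  set E' : Subgroup S := E.map (MulAut.conj g).toMonoidHom with hE'
  have hE'K : E' ≤ K := hg
  have hE'el : Cfsg.IsElementaryAbelian p (E'.subgroupOf K) := by
    have h := CfsgLib.OddOrder.elemAb_comap (CfsgLib.OddOrder.elemAb_map hE (MulAut.conj g).toMonoidHom)
      K.subtype K.subtype_injective
    exact h
  have hE'3 : Nat.card (E'.subgroupOf K) = p ^ 3 := by
    rw [Nat.card_congr (Subgroup.subgroupOfEquivOfLe hE'K).toEquiv, hE',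
      Subgroup.card_map_of_injective (MulAut.conj g).injective, hE3]
  let ρ : K →* MulAut M := MulAut.conjNormal.comp K.subtype
  have hρ : ∀ (k : K) (v : M), ((ρ k v : M) : S) = k * v * (k : S)⁻¹ := fun k v =>
    MulAut.conjNormal_apply (k : S) v
  obtain ⟨y, hy⟩ := hQc.exists_generator
  have hyK : (y : S) ∈ K := hQK y.2
  set x₀ : K := ⟨y, hyK⟩ with hx₀def
  obtain ⟨i, hi⟩ := (IsPGroup.iff_orderOf).1 hQ3 y
  have hx₀ : ∃ i, orderOf x₀ = 3 ^ i := ⟨i, by
    rw [Subgroup.orderOf_mk, Subgroup.orderOf_coe]; exact hi⟩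
  have hdv : ∀ (k : K) (v : M), ((CfsgLib.JComp.dv (ρ k) v : M) : S) = ⁅(k : S), (v : S)⁆ := by
    intro k v
    rw [CfsgLib.JComp.dv_apply, Subgroup.coe_mul, hρ, commutatorElement_def]
    rw [show (v : S)⁻¹ = (v : S) from inv_eq_of_mul_eq_one_right (congrArg Subtype.val (hV v))]
  have hmv : (CfsgLib.JComp.mv (ρ x₀)).map M.subtype = ⁅Q, M⁆ := by
    refine le_antisymm ?_ (Subgroup.commutator_le.2 fun q hq m hm => ?_)
    · rintro _ ⟨_, ⟨v, rfl⟩, rfl⟩
      rw [Subgroup.coe_subtype, hdv]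
      exact Subgroup.commutator_mem_commutator y.2 v.2
    · obtain ⟨j, hj⟩ := mem_powers_iff_mem_zpowers.2 (hy ⟨q, hq⟩)
      refine ⟨CfsgLib.JComp.dv (ρ (x₀ ^ j)) ⟨m, hm⟩, ?_, ?_⟩
      · rw [map_pow]
        exact CfsgLib.Lines85.mv_pow_le hV _ j ⟨_, rfl⟩
      · rw [Subgroup.coe_subtype, hdv, Subgroup.coe_pow]
        have hj' : (y : S) ^ j = q := congrArg Subtype.val hj
        rw [show ((x₀ : K) : S) = (y : S) from rfl, hj']
  have hline : CfsgLib.JComp.IsLine (ρ x₀) := by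
    refine CfsgLib.JComp.isLine_of_card hV ?_ ?_
    · exact Odd.of_dvd_nat hKodd ((orderOf_map_dvd ρ x₀).trans (orderOf_dvd_natCard x₀))
    · rw [← Subgroup.card_map_of_injective M.subtype_injective, hmv, hQM]
  obtain ⟨r, F, hr, hr2, hF, hF3, hFW⟩ := CfsgLib.Lines85.exists_large_fixed hV ρ inferInstance
    hKodd hx₀ hline hp2 hE'el hE'3
  haveI := Fact.mk hr
  have hF' : Cfsg.IsElementaryAbelian r (F.map K.subtype) := CfsgLib.OddOrder.elemAb_map hF _
  refine ⟨r, F.map K.subtype, hr, hr2, hF', ?_, ?_⟩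
  · rw [Subgroup.card_map_of_injective K.subtype_injective, hF3]
  · rw [CfsgLib.OddOrder.elemAb_not_isCyclic_iff (CfsgLib.OddOrder.elemAb_mono hF' inf_le_left)]
    refine hFW.trans ?_
    rw [← Subgroup.card_map_of_injective K.subtype_injective]
    refine Subgroup.card_le_of_le ?_
    rintro _ ⟨k, hk, rfl⟩
    refine ⟨⟨k, hk.1, rfl⟩, ?_⟩
    rw [← hmv]
    refine Subgroup.mem_centralizer_iff.2 ?_
    rintro _ ⟨v, hv, rfl⟩
    have h := congrArg Subtype.val (hk.2 v hv)
    rw [hρ] at h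
    exact (mul_inv_eq_iff_eq_mul.1 h).symm

end Cfsg.Agent.S4404
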