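import Cfsg.Statements.S4405
import Cfsg.Agent.Lib.Solvable.Fitting
import Cfsg.Agent.Lib.LargeExtra.Extra
import Cfsg.Agent.Lib.FewOrders.Prime
-- import your own Cfsg.Agent.* helpers here

set_option autoImplicit false
open Cfsg

namespace Cfsg.Agent.S4405

/-- Let G be a finite group of order 320 = 64·5 whose largest normal 2-subgroup H = O₂(G) equals the Fitting subgroup F(G) and is extraspecial of order 32 containing no elementary abelian subgroup of order 8 (so H is the central product of a quaternion group and a dihedral group of order 8). If T is an involution of G outside H whose centralizer in H contains an elementary abelian subgroup of order 4, then C_H(T) itself is elementary abelian of order 4. -/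
theorem result {G : Type*} [Group G] [Finite G]
    (hG : Nat.card G = 320) (hHF : Cfsg.pCore 2 G = Cfsg.fittingSubgroup G)
    (hex : Cfsg.IsExtraspecial 2 ↥(Cfsg.pCore 2 G)) (h32 : Nat.card ↥(Cfsg.pCore 2 G) = 32)
    (hminus : ∀ A : Subgroup G, A ≤ Cfsg.pCore 2 G → Cfsg.IsElementaryAbelian 2 A → Nat.card ↥A ≤ 4)
    (T : G) (hT : orderOf T = 2) (hTH : T ∉ Cfsg.pCore 2 G)
    (V : Subgroup G) (hV : V ≤ Cfsg.pCore 2 G ⊓ Subgroup.centralizer ({T} : Set G)) (hV4 : Nat.card ↥V = 4) (hVe : Cfsg.IsElementaryAbelian 2 V) :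
    Nat.card ↥(Cfsg.pCore 2 G ⊓ Subgroup.centralizer ({T} : Set G)) = 4 ∧
      Cfsg.IsElementaryAbelian 2 (Cfsg.pCore 2 G ⊓ Subgroup.centralizer ({T} : Set G)) := by
  classical
  set H := Cfsg.pCore 2 G with hH
  haveI : Fact (Nat.Prime 2) := ⟨Nat.prime_two⟩
  haveI : Fact (Nat.Prime 5) := ⟨by norm_num⟩
  have hsol : Group.IsSolvable G := CfsgLib.FewOrders.isSolvable_of_two_primes (p := 2) (q := 5) Nat.prime_two (by norm_num)
    fun t ht htd => by
      rw [hG, show (320 : ℕ) = 2 ^ 6 * 5 by norm_num] at htd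
      rcases ht.dvd_mul.1 htd with h | h
      · exact Or.inl ((Nat.prime_dvd_prime_iff_eq ht Nat.prime_two).1 (ht.dvd_of_dvd_pow h))
      · exact Or.inr ((Nat.prime_dvd_prime_iff_eq ht (by norm_num)).1 h)
  have hCH : Subgroup.centralizer (H : Set G) ≤ H := by
    have h := CfsgLib.Fitting.centralizer_fitting_le (G := G)
    rwa [← hHF] at h
  obtain ⟨z, hz⟩ := CfsgLib.LargeExtra.ExtraAt.exists_of hex
  haveI hHn : H.Normal := CfsgLib.Fitting.pCore_normal 2
  have hconjz : ∀ g : G, g * z * g⁻¹ = z := by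
    intro g
    have hzH : g * z * g⁻¹ ∈ H := hHn.conj_mem z hz.z_mem g
    rcases hz.central_cases hzH (fun q hq => by
      have hq' : g⁻¹ * q * g ∈ H := by simpa using hHn.conj_mem q hq g⁻¹
      have e := hz.comm_z hq'
      calc q * (g * z * g⁻¹) = g * ((g⁻¹ * q * g) * z) * g⁻¹ := by group
        _ = g * (z * (g⁻¹ * q * g)) * g⁻¹ := by rw [e]
        _ = g * z * g⁻¹ * q := by group) with h | h
    · exact absurd (conj_eq_one_iff.1 h) hz.ne_one
    · exact h
  obtain ⟨f, hf⟩ := exists_prime_orderOf_dvd_card' 5 (G := G) (by rw [hG]; norm_num)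
  have hT2 : T * T = 1 := by rw [← pow_two, ← hT]; exact pow_orderOf_eq_one T
  have hTi : T⁻¹ = T := inv_eq_of_mul_eq_one_right hT2
  have hf5 : f ^ 5 = 1 := by rw [← hf]; exact pow_orderOf_eq_one f
  have hfH : f ∉ H := fun h => by
    have := Subgroup.orderOf_dvd_natCard H h
    rw [hf, h32] at this
    norm_num at this
  -- T inverts f modulo H
  obtain ⟨h, hhH, hTf⟩ : ∃ h ∈ H, T * f * T⁻¹ = f⁻¹ * h := by
    let π := QuotientGroup.mk' H
    have hQ : Nat.card (G ⧸ H) = 10 := by
      have e := Subgroup.card_eq_card_quotient_mul_card_subgroup H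
      rw [hG, h32] at e; omega
    have ho5 : orderOf (π f) = 5 := orderOf_eq_prime (by rw [← map_pow, hf5, map_one])
      fun e => hfH ((QuotientGroup.eq_one_iff f).1 e)
    have ho2 : orderOf (π T) = 2 := orderOf_eq_prime (by rw [pow_two, ← map_mul, hT2, map_one])
      fun e => hTH ((QuotientGroup.eq_one_iff T).1 e)
    set N := Subgroup.zpowers (π f) with hN
    have hN2 : N.index = 2 := by
      have e := N.card_mul_index
      rw [hQ, hN, Nat.card_zpowers, ho5] at e
      rw [hN]; omega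
    haveI := Subgroup.normal_of_index_eq_two hN2
    have hmem : π T * π f * (π T)⁻¹ ∈ N := Subgroup.Normal.conj_mem inferInstance _ (Subgroup.mem_zpowers _) _
    rw [hN, mem_zpowers_iff_mem_range_orderOf, ho5] at hmem
    simp only [Finset.mem_image, Finset.mem_range] at hmem
    obtain ⟨i, hi, hie⟩ := hmem
    have hii : (π f) ^ (i * i) = π f := by
      rw [pow_mul, hie, conj_pow, hie]
      calc π T * (π T * π f * (π T)⁻¹) * (π T)⁻¹ = π (T * T) * π f * (π (T * T))⁻¹ := by rw [map_mul]; group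
        _ = π f := by rw [hT2, map_one]; group
    conv_rhs at hii => rw [← pow_one (π f)]
    rw [pow_eq_pow_iff_modEq, ho5] at hii
    have hi4 : i = 4 := by
      by_contra hne
      have hi1 : i = 1 := by interval_cases i <;> simp_all [Nat.ModEq]
      rw [hi1, pow_one] at hie
      -- then T is central modulo H
      have hc : π f * π T = π T * π f := by
        nth_rewrite 1 [hie]; group
      set M := Subgroup.zpowers (π T) with hM
      have hMn : M.Normal := by
        rw [← Subgroup.normalizer_eq_top_iff, eq_top_iff]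
        have htop : N ⊔ M = ⊤ := by
          refine Subgroup.eq_top_of_card_eq _ ?_
          have d1 := Subgroup.card_dvd_of_le (le_sup_left : N ≤ N ⊔ M)
          have d2 := Subgroup.card_dvd_of_le (le_sup_right : M ≤ N ⊔ M)
          have d3 := Subgroup.card_subgroup_dvd_card (N ⊔ M)
          rw [hQ] at d3 ⊢
          rw [hN, Nat.card_zpowers, ho5] at d1
          rw [hM, Nat.card_zpowers, ho2] at d2
          have := Nat.Coprime.mul_dvd_of_dvd_of_dvd (by norm_num : Nat.Coprime 5 2) d1 d2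
          exact Nat.dvd_antisymm d3 this
        rw [← htop]
        refine sup_le (Subgroup.zpowers_le.2 ?_) Subgroup.le_normalizer
        have hcm : ∀ m ∈ M, π f * m = m * π f := by
          intro m hm
          obtain ⟨k, rfl⟩ := Subgroup.mem_zpowers_iff.1 hm
          exact (Commute.zpow_right hc k).eq
        refine Subgroup.mem_normalizer_iff.2 fun m => ⟨fun hm => ?_, fun hm => ?_⟩
        · rwa [hcm m hm, mul_inv_cancel_right]
        · have e : π f * m * (π f)⁻¹ = m := by
            calc π f * m * (π f)⁻¹ = (π f)⁻¹ * (π f * (π f * m * (π f)⁻¹)) := by group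
              _ = (π f)⁻¹ * ((π f * m * (π f)⁻¹) * π f) := by rw [hcm _ hm]
              _ = m := by group
          exact e ▸ hm
      have hP : IsPGroup 2 (M.comap π) := by
        refine IsPGroup.of_card (n := 6) ?_
        have e := Subgroup.card_eq_card_quotient_mul_card_subgroup (H.subgroupOf (M.comap π))
        have hle : H ≤ M.comap π := fun x hx => by
          rw [Subgroup.mem_comap]; simp [π, (QuotientGroup.eq_one_iff x).2 hx]
        have e2 : Nat.card (M.comap π) * (M.comap π).index = 320 := by rw [Subgroup.card_mul_index, hG]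
        rw [Subgroup.index_comap_of_surjective _ (QuotientGroup.mk'_surjective H)] at e2
        have e3 := M.card_mul_index
        rw [hQ, hM, Nat.card_zpowers, ho2] at e3
        rw [hM] at e2
        have : (Subgroup.zpowers (π T)).index = 5 := by omega
        rw [this] at e2
        rw [hM]; omega
      have hle := CfsgLib.Fitting.le_pCore (hMn.comap π) hP
      exact hTH (hle (Subgroup.mem_zpowers (π T)))
    rw [hi4] at hie
    have e4 : (π f) ^ 4 = (π f)⁻¹ := by
      apply eq_inv_of_mul_eq_one_left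
      rw [← pow_succ, ← map_pow, hf5, map_one]
    rw [e4] at hie
    refine ⟨f * (T * f * T⁻¹), ?_, by group⟩
    have : π (f * (T * f * T⁻¹)) = 1 := by
      rw [map_mul, map_mul, map_mul, map_inv, ← hie, mul_inv_cancel]
    exact (QuotientGroup.eq_one_iff _).1 this
  -- fixed points of f
  have hfz : ∀ x ∈ H, f * x * f⁻¹ = x → x = 1 ∨ x = z := by
    intro x hx hfx
    letI : MulAction (Subgroup.zpowers f) H :=
      MulAction.compHom H ((MulAut.conjNormal (H := H)).comp (Subgroup.zpowers f).subtype)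
    have hp : IsPGroup 5 (Subgroup.zpowers f) := IsPGroup.of_card (n := 1) (by rw [Nat.card_zpowers, hf, pow_one])
    have hmod := hp.card_modEq_card_fixedPoints H
    set E := H ⊓ Subgroup.centralizer ({f} : Set G) with hE
    have hfix : Nat.card (MulAction.fixedPoints (Subgroup.zpowers f) H) = Nat.card E := by
      refine Nat.card_congr
        { toFun := fun w => ⟨((w : H) : G), (w : H).2, ?_⟩
          invFun := fun w => ⟨⟨(w : G), w.2.1⟩, ?_⟩
          left_inv := fun w => rfl
          right_inv := fun w => rfl }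
      · have := congrArg Subtype.val (w.2 ⟨f, Subgroup.mem_zpowers f⟩)
        change f * ((w : H) : G) * f⁻¹ = w at this
        exact Subgroup.mem_centralizer_singleton_iff.2 (mul_inv_eq_iff_eq_mul.1 this).symm
      · rintro ⟨g, hg⟩
        apply Subtype.ext
        change g * (w : G) * g⁻¹ = w
        obtain ⟨k, rfl⟩ := Subgroup.mem_zpowers_iff.1 hg
        have hc : Commute f (w : G) := (Subgroup.mem_centralizer_singleton_iff.1 w.2.2).symm
        rw [(hc.zpow_left k).eq, mul_inv_cancel_right]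
    rw [hfix, h32] at hmod
    obtain ⟨k, hk5, hk⟩ := (Nat.dvd_prime_pow Nat.prime_two).1
      (show Nat.card E ∣ 2 ^ 5 by rw [show (2 : ℕ) ^ 5 = 32 from rfl, ← h32]; exact Subgroup.card_dvd_of_le inf_le_left)
    have hE2 : Nat.card E = 2 := by
      rw [hk] at hmod ⊢
      have hk1 : k ≠ 5 := by
        intro e
        have hEH : E = H := Subgroup.eq_of_le_of_card_ge inf_le_left (by rw [hk, e, h32]; rfl)
        exact hfH (hCH (Subgroup.mem_centralizer_iff.2 fun y hy =>
          (Subgroup.mem_centralizer_singleton_iff.1 ((inf_le_right : E ≤ _) (hEH.ge hy)))))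
      interval_cases k <;> simp_all [Nat.ModEq]
    have hxE : x ∈ E := ⟨hx, Subgroup.mem_centralizer_singleton_iff.2 (mul_inv_eq_iff_eq_mul.1 hfx).symm⟩
    have hzE : z ∈ E := ⟨hz.z_mem, Subgroup.mem_centralizer_singleton_iff.2 (mul_inv_eq_iff_eq_mul.1 (hconjz f)).symm⟩
    obtain ⟨u, v, huv, huniv⟩ := Nat.card_eq_two_iff.1 hE2
    have hm : ∀ w : E, w = u ∨ w = v := fun w => by simpa using Set.eq_univ_iff_forall.1 huniv w
    by_contra hc; push Not at hc
    have h1 : (⟨z, hzE⟩ : E) ≠ 1 := fun e => hz.ne_one (congrArg Subtype.val e)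
    have h2 : (⟨x, hxE⟩ : E) ≠ 1 := fun e => hc.1 (congrArg Subtype.val e)
    have h3 : (⟨x, hxE⟩ : E) ≠ ⟨z, hzE⟩ := fun e => hc.2 (congrArg Subtype.val e)
    rcases hm 1 with e1 | e1 <;> rcases hm ⟨z, hzE⟩ with e2 | e2 <;> rcases hm ⟨x, hxE⟩ with e3 | e3 <;>
      simp_all
  -- elements fixed by T modulo the centre
  let Ct : Subgroup G :=
    { carrier := {w | w ∈ H ∧ (T * w * T⁻¹ = w ∨ T * w * T⁻¹ = z * w)}
      one_mem' := ⟨one_mem H, Or.inl (by group)⟩
      mul_mem' := by
        rintro a b ⟨ha, ha'⟩ ⟨hb, hb'⟩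
        refine ⟨mul_mem ha hb, ?_⟩
        have e : T * (a * b) * T⁻¹ = (T * a * T⁻¹) * (T * b * T⁻¹) := by group
        rw [e]
        rcases ha' with h1 | h1 <;> rcases hb' with h2 | h2 <;> rw [h1, h2]
        · exact Or.inl rfl
        · exact Or.inr (by rw [← mul_assoc, hz.comm_z ha, mul_assoc])
        · exact Or.inr (mul_assoc _ _ _)
        · left
          calc z * a * (z * b) = z * (a * z) * b := by group
            _ = (z * z) * (a * b) := by rw [hz.comm_z ha]; group
            _ = a * b := by rw [hz.sq_one, one_mul]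
      inv_mem' := by
        rintro a ⟨ha, ha'⟩
        refine ⟨inv_mem ha, ?_⟩
        have e : T * a⁻¹ * T⁻¹ = (T * a * T⁻¹)⁻¹ := by group
        rw [e]
        rcases ha' with h1 | h1 <;> rw [h1]
        · exact Or.inl rfl
        · right
          rw [mul_inv_rev, hz.inv_eq]
          exact hz.comm_z (inv_mem ha) }
  have hCtH : Ct ≤ H := fun w hw => hw.1
  set C := H ⊓ Subgroup.centralizer ({T} : Set G) with hC
  have hCCt : C ≤ Ct := fun w hw => ⟨hw.1, Or.inl (by
    have := Subgroup.mem_centralizer_singleton_iff.1 hw.2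
    rw [← this, mul_inv_cancel_right])⟩
  have hmeet : ∀ w ∈ Ct, f * w * f⁻¹ ∈ Ct → w = 1 ∨ w = z := by
    intro w hw hw'
    apply hfz w hw.1
    have hzi : ∀ y : G, f * y * f⁻¹ = f * y * f⁻¹ := fun _ => rfl
    have hcases : ∀ v ∈ H, ∀ g ∈ H, g * v * g⁻¹ = v ∨ g * v * g⁻¹ = z * v := fun v hv g hg => hz.conj_cases hg hv
    have e : T * (f * w * f⁻¹) * T⁻¹ = (T * f * T⁻¹) * (T * w * T⁻¹) * (T * f * T⁻¹)⁻¹ := by group
    have hTw : T * w * T⁻¹ = w ∨ T * w * T⁻¹ = z * w := hw.2
    -- so f² moves w only by a central element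
    have key : f * f * w * (f * f)⁻¹ = w ∨ f * f * w * (f * f)⁻¹ = z * w := by
      have e2 : ∀ v, f⁻¹ * h * v * (f⁻¹ * h)⁻¹ = f⁻¹ * (h * v * h⁻¹) * f := fun v => by group
      have e3 : ∀ v, f * (z * v) * f⁻¹ = z * (f * v * f⁻¹) := fun v => by
        calc f * (z * v) * f⁻¹ = (f * z * f⁻¹) * (f * v * f⁻¹) := by group
          _ = _ := by rw [hconjz]
      have hmain : f * w * f⁻¹ = f⁻¹ * w * f ∨ f * w * f⁻¹ = z * (f⁻¹ * w * f) := by
        have e4 : ∀ v, f⁻¹ * (z * v) * f = z * (f⁻¹ * v * f) := fun v => by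
          calc f⁻¹ * (z * v) * f = (f⁻¹ * z * (f⁻¹)⁻¹) * (f⁻¹ * v * f) := by group
            _ = _ := by rw [hconjz]
        have e5 : ∀ v : G, z * (z * v) = v := fun v => by rw [← mul_assoc, hz.sq_one, one_mul]
        have h1 : T * (f * w * f⁻¹) * T⁻¹ = f⁻¹ * w * f ∨ T * (f * w * f⁻¹) * T⁻¹ = z * (f⁻¹ * w * f) := by
          rw [e, hTf]
          rcases hTw with h2 | h2 <;> rw [h2, e2]
          · rcases hcases w hw.1 h hhH with h3 | h3 <;> rw [h3]
            · exact Or.inl rfl
            · exact Or.inr (e4 _)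
          · rcases hcases (z * w) (mul_mem hz.z_mem hw.1) h hhH with h3 | h3 <;> rw [h3]
            · exact Or.inr (e4 _)
            · exact Or.inl (by rw [e5])
        rcases hw'.2 with h2 | h2 <;> rw [h2] at h1
        · exact h1
        · rcases h1 with h3 | h3
          · exact Or.inr (by rw [← h3, e5])
          · exact Or.inl (mul_left_cancel h3)
      rcases hmain with h1 | h1
      · left
        calc f * f * w * (f * f)⁻¹ = f * (f * w * f⁻¹) * f⁻¹ := by group
          _ = w := by rw [h1]; group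
      · right
        calc f * f * w * (f * f)⁻¹ = f * (f * w * f⁻¹) * f⁻¹ := by group
          _ = z * w := by rw [h1, e3]; group
    have key4 : f ^ 4 * w * (f ^ 4)⁻¹ = w := by
      have e : f ^ 4 * w * (f ^ 4)⁻¹ = f * f * (f * f * w * (f * f)⁻¹) * (f * f)⁻¹ := by
        simp [pow_succ, mul_assoc]
      rw [e]
      rcases key with h1 | h1 <;> rw [h1]
      · exact h1
      · calc f * f * (z * w) * (f * f)⁻¹ = (f * f * z * (f * f)⁻¹) * (f * f * w * (f * f)⁻¹) := by group
          _ = z * (z * w) := by rw [hconjz, h1]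
          _ = w := by rw [← mul_assoc, hz.sq_one, one_mul]
    have e4 : f ^ 4 = f⁻¹ := by
      apply eq_inv_of_mul_eq_one_left
      rw [← pow_succ, hf5]
    rw [e4] at key4
    nth_rewrite 1 [← key4]
    group
  have hCt8 : Nat.card Ct ≤ 8 := by
    set C' := Ct.map (MulAut.conj f).toMonoidHom with hC'
    have hI : Ct ⊓ C' ≤ Subgroup.zpowers z := by
      rintro v ⟨hv, ⟨w, hw, rfl⟩⟩
      rcases hmeet w hw hv with rfl | rfl
      · simp
      · have : (MulAut.conj f).toMonoidHom w = w := hconjz f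
        rw [this]; exact Subgroup.mem_zpowers w
    have hI2 : Nat.card ↥(Ct ⊓ C') ≤ 2 := by
      refine le_trans (Subgroup.card_le_of_le hI) ?_
      rw [Nat.card_zpowers]
      exact orderOf_le_of_pow_eq_one two_pos (by rw [pow_two]; exact hz.sq_one)
    have hC'H : C' ≤ H := by
      rintro _ ⟨w, hw, rfl⟩
      exact hHn.conj_mem w hw.1 f
    have hprod : Nat.card ↥Ct * Nat.card ↥C' ≤ 32 * Nat.card ↥(Ct ⊓ C') := by
      have h1 := Subgroup.relIndex_le_of_le_left (H := Ct ⊓ C') (K := Ct) (L := H) inf_le_left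
      have h2 : (Ct ⊓ C').relIndex C' ≤ Ct.relIndex H := by
        rw [Subgroup.inf_relIndex_right]
        exact Subgroup.relIndex_le_of_le_right hC'H (Ct.subgroupOf H).index_ne_zero_of_finite
      have hrm : ∀ {K L : Subgroup G}, K ≤ L → K.relIndex L * Nat.card K = Nat.card L := fun {K L} hKL => by
        have e := (K.subgroupOf L).card_mul_index
        rw [Nat.card_congr (Subgroup.subgroupOfEquivOfLe hKL).toEquiv, mul_comm] at e
        exact e
      have a1 := hrm (inf_le_right : Ct ⊓ C' ≤ C')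
      have a2 := hrm hCtH
      rw [h32] at a2
      calc Nat.card ↥Ct * Nat.card ↥C' = Nat.card ↥Ct * ((Ct ⊓ C').relIndex C' * Nat.card ↥(Ct ⊓ C')) := by rw [a1]
        _ ≤ Nat.card ↥Ct * (Ct.relIndex H * Nat.card ↥(Ct ⊓ C')) :=
          Nat.mul_le_mul_left _ (Nat.mul_le_mul_right _ h2)
        _ = 32 * Nat.card ↥(Ct ⊓ C') := by rw [← a2]; ring
    rw [hC', Subgroup.card_map_of_injective (MulAut.conj f).injective] at hprod
    rw [← hC'] at hprod
    by_contra hlt; push Not at hlt
    nlinarith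
  have hVC : V ≤ C := hV
  suffices hC4 : Nat.card C ≤ 4 by
    have hVeq : V = C := Subgroup.eq_of_le_of_card_ge hVC (by rw [hV4]; exact hC4)
    exact ⟨hVeq ▸ hV4, hVeq ▸ hVe⟩
  by_contra hlt; push Not at hlt
  have hC8 : Nat.card C = 8 := by
    obtain ⟨k, -, hk⟩ := (Nat.dvd_prime_pow Nat.prime_two).1
      (show Nat.card C ∣ 2 ^ 5 by rw [show (2 : ℕ) ^ 5 = 32 from rfl, ← h32]; exact Subgroup.card_dvd_of_le inf_le_left)
    have := (Subgroup.card_le_of_le hCCt).trans hCt8
    rw [hk] at this hlt ⊢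
    have hk3 : k ≤ 3 := (Nat.pow_le_pow_iff_right (by norm_num : 1 < 2)).1 (by simpa using this)
    interval_cases k <;> simp_all
  have hCeq : C = Ct := Subgroup.eq_of_le_of_card_ge hCCt (by rw [hC8]; exact hCt8)
  -- the displacements by T
  have hTC : ∀ c ∈ C, T * c * T⁻¹ = c := fun c hc => by
    have := Subgroup.mem_centralizer_singleton_iff.1 hc.2
    rw [← this, mul_inv_cancel_right]
  have hu : ∀ x ∈ H, x⁻¹ * (T * x * T⁻¹) ∈ C ∧ x⁻¹ * (T * x * T⁻¹) * (x⁻¹ * (T * x * T⁻¹)) = 1 := by
    intro x hx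
    set u := x⁻¹ * (T * x * T⁻¹) with hu
    have huH : u ∈ H := mul_mem (inv_mem hx) (hHn.conj_mem x hx T)
    have hTu : T * u * T⁻¹ = u⁻¹ := by
      calc T * u * T⁻¹ = (T * x * T⁻¹)⁻¹ * ((T * T) * x * (T * T)⁻¹) := by rw [hu]; group
        _ = u⁻¹ := by rw [hT2, hu]; group
    have hmem : u ∈ C := by
      rw [hCeq]
      exact ⟨huH, by rw [hTu]; exact hz.inv_mem_cases huH⟩
    refine ⟨hmem, ?_⟩
    have e := hTC u hmem
    rw [hTu] at e
    nth_rewrite 1 [← e]
    exact inv_mul_cancel u
  have hall : ∀ c ∈ C, c * c = 1 := by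
    intro c hc
    let u : H → C := fun x => ⟨_, (hu x x.2).1⟩
    let v : H ⧸ C.subgroupOf H → C := fun q => u (q.out⁻¹)
    let φ : (H ⧸ C.subgroupOf H) × Bool → C := fun q => if q.2 then ⟨z, hCeq.ge ⟨hz.z_mem, Or.inl (hconjz T)⟩⟩ * v q.1 else v q.1
    have hrel : ∀ a b : H, ((T * (a : G) * T⁻¹) = a ∨ (T * (a : G) * T⁻¹) = z * a) → a ∈ C.subgroupOf H := fun a b ha => by
      rw [Subgroup.mem_subgroupOf, hCeq]; exact ⟨a.2, ha⟩
    have huv : ∀ a b : H, ((u a⁻¹ : C) : G) = u b⁻¹ ∨ ((u a⁻¹ : C) : G) = z * u b⁻¹ → a⁻¹ * b ∈ C.subgroupOf H := by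
      intro a b hab
      apply hrel _ 1
      simp only [u, Subgroup.coe_mul, Subgroup.coe_inv, inv_inv] at hab ⊢
      have e : T * ((a : G)⁻¹ * b) * T⁻¹ = (a : G)⁻¹ * ((a : G) * (T * (a : G)⁻¹ * T⁻¹)) * ((b : G) * (T * (b : G)⁻¹ * T⁻¹))⁻¹ * b := by group
      rcases hab with h1 | h1 <;> rw [e, h1]
      · left; group
      · right
        rw [show (a : G)⁻¹ * (z * ((b : G) * (T * (b : G)⁻¹ * T⁻¹))) * ((b : G) * (T * (b : G)⁻¹ * T⁻¹))⁻¹ * b = (a : G)⁻¹ * z * b by group,
          hz.comm_z (inv_mem a.2), mul_assoc]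
    have hφ : Function.Injective φ := by
      rintro ⟨q₁, b₁⟩ ⟨q₂, b₂⟩ e
      have hout : ∀ q₁ q₂ : H ⧸ C.subgroupOf H, ((v q₁ : G) = v q₂ ∨ (v q₁ : G) = z * v q₂) → q₁ = q₂ := fun q₁ q₂ h => by
        rw [← QuotientGroup.out_eq' q₁, ← QuotientGroup.out_eq' q₂, QuotientGroup.eq]
        exact huv _ _ h
      cases b₁ <;> cases b₂ <;> simp only [φ, Bool.false_eq_true, if_false, if_true] at e
      · rw [hout q₁ q₂ (Or.inl (congrArg Subtype.val e))]
      · exfalso
        have e' : (v q₁ : G) = z * v q₂ := congrArg Subtype.val e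
        have := hout q₁ q₂ (Or.inr e')
        subst this
        exact hz.ne_one (mul_eq_right.1 e'.symm)
      · exfalso
        have e' : (v q₂ : G) = z * v q₁ := (congrArg Subtype.val e).symm
        have := hout q₂ q₁ (Or.inr e')
        subst this
        exact hz.ne_one (mul_eq_right.1 e'.symm)
      · rw [hout q₁ q₂ (Or.inl (mul_left_cancel (congrArg Subtype.val e)))]
    have hcard : Nat.card ((H ⧸ C.subgroupOf H) × Bool) = 8 := by
      have e := Subgroup.card_eq_card_quotient_mul_card_subgroup (C.subgroupOf H)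
      rw [h32, Nat.card_congr (Subgroup.subgroupOfEquivOfLe (inf_le_left : C ≤ H)).toEquiv, hC8] at e
      rw [Nat.card_prod, Nat.card_eq_fintype_card (α := Bool), Fintype.card_bool]
      omega
    obtain ⟨⟨q, b⟩, hq⟩ := ((Nat.bijective_iff_injective_and_card φ).2 ⟨hφ, by rw [hcard, hC8]⟩).2 ⟨c, hc⟩
    have hsq : (v q : G) * v q = 1 := (hu _ (q.out⁻¹).2).2
    have hq' : (φ (q, b) : G) = c := congrArg Subtype.val hq
    rw [← hq']
    cases b <;> simp only [φ, Bool.false_eq_true, if_false, if_true]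
    · exact hsq
    · show z * (v q : G) * (z * v q) = 1
      have hvH : (v q : G) ∈ H := (v q).2.1
      calc z * (v q : G) * (z * v q) = z * ((v q : G) * z) * v q := by group
        _ = (z * z) * ((v q : G) * v q) := by rw [hz.comm_z hvH]; group
        _ = 1 := by rw [hz.sq_one, hsq, one_mul]
  have hel : Cfsg.IsElementaryAbelian 2 C := by
    refine ⟨⟨⟨fun a b => Subtype.ext ?_⟩⟩, fun c hc => by rw [pow_two]; exact hall c hc⟩
    have ha := inv_eq_of_mul_eq_one_right (hall a a.2)
    have hb := inv_eq_of_mul_eq_one_right (hall b b.2)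
    have hab := inv_eq_of_mul_eq_one_right (hall _ (mul_mem a.2 b.2))
    rw [mul_inv_rev, ha, hb] at hab
    exact hab.symm
  have := hminus C inf_le_left hel
  omega

end Cfsg.Agent.S4405
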