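import Cfsg.Statements.S4406
import Mathlib

set_option autoImplicit false
set_option synthInstance.maxSize 4096
open Cfsg

namespace Cfsg.Agent.S4406

abbrev G₀ : Type := ↥(alternatingGroup (Fin 4))

theorem card_prod : Fintype.card (G₀ × G₀) = 144 := by decide +kernel

theorem pow_four_two : ∀ g : G₀ × G₀, g ^ 4 = 1 → g ^ 2 = 1 := by decide +kernel

theorem cycle : ∀ x y : G₀, x ^ 2 = 1 → y ^ 2 = 1 → x ≠ 1 → y ≠ 1 → x ≠ y →
    x * y = y * x ∧ ∀ s : G₀, s ^ 3 = 1 → s ≠ 1 →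
      (s * x * s⁻¹ = y ∧ s * y * s⁻¹ = x * y) ∨ (s⁻¹ * x * s = y ∧ s⁻¹ * y * s = x * y) := by
  decide +kernel

theorem proj_bound {Q : Subgroup (G₀ × G₀)} (hQ : IsPGroup 3 Q) (f : G₀ × G₀ →* G₀) :
    ∃ P : Subgroup G₀, Nat.card P ≤ 3 ∧ ∀ x ∈ Q, f x ∈ P := by
  haveI : Fact (Nat.Prime 3) := ⟨Nat.prime_three⟩
  refine ⟨Q.map f, ?_, fun x hx => Subgroup.mem_map_of_mem f hx⟩
  obtain ⟨k, hk⟩ := (hQ.map f).exists_card_eq
  have h12 : Nat.card G₀ = 12 := by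
    rw [Nat.card_eq_fintype_card]; decide +kernel
  have hd := Subgroup.card_subgroup_dvd_card (Q.map f)
  rw [hk, h12] at hd
  rw [hk]
  match k, hd with
  | 0, _ => norm_num
  | 1, _ => norm_num
  | k + 2, hd =>
    exfalso
    have h9 : 9 ∣ 12 := (dvd_mul_left 9 (3 ^ k)).trans (by rwa [pow_add] at hd)
    norm_num at h9

/-- In the direct product P = A₄ × A₄, let X be the Sylow 2-subgroup, X₁ and X₂ its intersections with the two direct factors, Q a Sylow 3-subgroup and Q₁, Q₂ its intersections with the two factors. Then every subgroup B of X of order 4 either meets X₁ or X₂ nontrivially, or is normalized by one of the two subgroups of Q of order 3 other than Q₁ and Q₂. -/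
theorem result
    (X : Sylow 2 (↥(alternatingGroup (Fin 4)) × ↥(alternatingGroup (Fin 4))))
    (Q : Sylow 3 (↥(alternatingGroup (Fin 4)) × ↥(alternatingGroup (Fin 4))))
    (B : Subgroup (↥(alternatingGroup (Fin 4)) × ↥(alternatingGroup (Fin 4)))) (hBX : B ≤ (X : Subgroup _)) (hB4 : Nat.card ↥B = 4) :
    B ⊓ ((X : Subgroup _) ⊓ Subgroup.prod ⊤ ⊥) ≠ ⊥ ∨ B ⊓ ((X : Subgroup _) ⊓ Subgroup.prod ⊥ ⊤) ≠ ⊥ ∨
      ∃ R : Subgroup (↥(alternatingGroup (Fin 4)) × ↥(alternatingGroup (Fin 4))), R ≤ (Q : Subgroup _) ∧ Nat.card ↥R = 3 ∧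
        R ≠ (Q : Subgroup _) ⊓ Subgroup.prod ⊤ ⊥ ∧ R ≠ (Q : Subgroup _) ⊓ Subgroup.prod ⊥ ⊤ ∧ R ≤ Subgroup.normalizer (B : Set _) := by
  classical
  haveI : Fact (Nat.Prime 3) := ⟨Nat.prime_three⟩
  have hsq : ∀ g ∈ B, g ^ 2 = 1 := by
    intro g hg
    refine pow_four_two g ?_
    have h := pow_card_eq_one' (G := B) (x := ⟨g, hg⟩)
    rw [hB4] at h
    simpa using congrArg Subtype.val h
  haveI : Fintype B := Fintype.ofFinite B
  obtain ⟨a, ha, ha1⟩ : ∃ a ∈ B, a ≠ 1 := by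
    by_contra h
    push Not at h
    have : B = ⊥ := (Subgroup.eq_bot_iff_forall B).2 h
    rw [this, Subgroup.card_bot] at hB4
    omega
  obtain ⟨b, hb, hb1, hba⟩ : ∃ b ∈ B, b ≠ 1 ∧ b ≠ a := by
    by_contra h
    push Not at h
    have hsub : (B : Set (G₀ × G₀)) ⊆ {1, a} := fun x hx => by
      by_cases hx1 : x = 1
      · exact Or.inl hx1
      · exact Or.inr (h x hx hx1)
    have := Set.ncard_le_ncard hsub (Set.toFinite _)
    rw [← Nat.card_coe_set_eq, SetLike.coe_sort_coe, hB4, Set.ncard_pair (Ne.symm ha1)] at this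
    omega
  have hab : a * b ≠ 1 ∧ a * b ≠ a ∧ a * b ≠ b := by
    refine ⟨fun h => hba ?_, fun h => hb1 (mul_eq_left.1 h), fun h => ha1 (mul_eq_right.1 h)⟩
    rw [eq_inv_of_mul_eq_one_right h, inv_eq_iff_mul_eq_one, ← pow_two]
    exact hsq a ha
  have hset : (B : Set (G₀ × G₀)) = {1, a, b, a * b} := by
    refine (Set.eq_of_subset_of_ncard_le ?_ ?_ (Set.toFinite _)).symm
    · intro x hx
      rcases hx with rfl | rfl | rfl | rfl
      · exact B.one_mem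
      · exact ha
      · exact hb
      · exact B.mul_mem ha hb
    · rw [← Nat.card_coe_set_eq, SetLike.coe_sort_coe, hB4,
        Set.ncard_insert_of_notMem (by simp [Ne.symm ha1, Ne.symm hb1, Ne.symm hab.1]) (Set.toFinite _),
        Set.ncard_insert_of_notMem (by simp [Ne.symm hba, Ne.symm hab.2.1]) (Set.toFinite _),
        Set.ncard_pair (Ne.symm hab.2.2)]
  have hQ9 : Nat.card (Q : Subgroup (G₀ × G₀)) = 9 := by
    rw [Q.card_eq_multiplicity, Nat.card_eq_fintype_card, card_prod]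
    rw [show (144 : ℕ) = 3 ^ 2 * 16 by norm_num, Nat.factorization_mul_apply_of_coprime (by norm_num),
      Nat.prime_three.factorization_pow, Nat.factorization_eq_zero_of_not_dvd (by norm_num)]
    simp
  obtain ⟨P1, hP1, hP1Q⟩ := proj_bound Q.isPGroup' (MonoidHom.fst G₀ G₀)
  obtain ⟨P2, hP2, hP2Q⟩ := proj_bound Q.isPGroup' (MonoidHom.snd G₀ G₀)
  have hle : (Q : Subgroup (G₀ × G₀)) ≤ P1.prod P2 := fun x hx => ⟨hP1Q x hx, hP2Q x hx⟩
  have hcard : Nat.card (P1.prod P2) = Nat.card P1 * Nat.card P2 := by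
    rw [← Nat.card_prod]; exact Nat.card_congr (Subgroup.prodEquiv P1 P2).toEquiv
  have h33 : Nat.card P1 = 3 ∧ Nat.card P2 = 3 := by
    have h := Subgroup.card_le_of_le hle
    rw [hQ9, hcard] at h
    constructor <;> nlinarith
  have hQeq : (Q : Subgroup (G₀ × G₀)) = P1.prod P2 :=
    Subgroup.eq_of_le_of_card_ge hle (by rw [hcard, hQ9, h33.1, h33.2])
  obtain ⟨s, hs, hs1⟩ := P1.bot_or_exists_ne_one.resolve_left
    (fun h => by rw [h, Subgroup.card_bot] at h33; omega)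
  obtain ⟨t, ht, ht1⟩ := P2.bot_or_exists_ne_one.resolve_left
    (fun h => by rw [h, Subgroup.card_bot] at h33; omega)
  have hs3 : s ^ 3 = 1 := by
    have h := pow_card_eq_one' (G := P1) (x := ⟨s, hs⟩)
    rw [h33.1] at h; simpa using congrArg Subtype.val h
  have ht3 : t ^ 3 = 1 := by
    have h := pow_card_eq_one' (G := P2) (x := ⟨t, ht⟩)
    rw [h33.2] at h; simpa using congrArg Subtype.val h
  have hX : ∀ g ∈ B, g ≠ 1 → (g.1 = 1 →
      B ⊓ ((X : Subgroup (G₀ × G₀)) ⊓ Subgroup.prod ⊥ ⊤) ≠ ⊥) ∧ (g.2 = 1 →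
      B ⊓ ((X : Subgroup (G₀ × G₀)) ⊓ Subgroup.prod ⊤ ⊥) ≠ ⊥) := by
    intro g hg hg1
    constructor <;> intro hg0 hbot
    · exact hg1 (Subgroup.mem_bot.1 (hbot ▸ ⟨hg, hBX hg, Subgroup.mem_bot.2 hg0, Subgroup.mem_top _⟩))
    · exact hg1 (Subgroup.mem_bot.1 (hbot ▸ ⟨hg, hBX hg, Subgroup.mem_top _, Subgroup.mem_bot.2 hg0⟩))
  have hab1 := hab.1
  by_cases h1 : a.1 = 1
  · exact Or.inr (Or.inl ((hX a ha ha1).1 h1))
  by_cases h2 : a.2 = 1
  · exact Or.inl ((hX a ha ha1).2 h2)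
  by_cases h3 : b.1 = 1
  · exact Or.inr (Or.inl ((hX b hb hb1).1 h3))
  by_cases h4 : b.2 = 1
  · exact Or.inl ((hX b hb hb1).2 h4)
  have hxx : ∀ x : G₀, x ^ 2 = 1 → x * x = 1 := fun x h => by rw [← pow_two]; exact h
  by_cases h5 : a.1 = b.1
  · exact Or.inr (Or.inl ((hX _ (B.mul_mem ha hb) hab1).1
      (by rw [Prod.fst_mul, h5]; exact hxx _ (congrArg Prod.fst (hsq b hb)))))
  by_cases h6 : a.2 = b.2
  · exact Or.inl ((hX _ (B.mul_mem ha hb) hab1).2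
      (by rw [Prod.snd_mul, h6]; exact hxx _ (congrArg Prod.snd (hsq b hb))))
  have hc1 := cycle a.1 b.1 (congrArg Prod.fst (hsq a ha)) (congrArg Prod.fst (hsq b hb)) h1 h3 h5
  have hc2 := cycle a.2 b.2 (congrArg Prod.snd (hsq a ha)) (congrArg Prod.snd (hsq b hb)) h2 h4 h6
  refine Or.inr (Or.inr ?_)
  obtain ⟨s', hs', hs'1, hs'3, hsa, hsb⟩ : ∃ s', s' ∈ P1 ∧ s' ≠ 1 ∧ s' ^ 3 = 1 ∧
      s' * a.1 * s'⁻¹ = b.1 ∧ s' * b.1 * s'⁻¹ = a.1 * b.1 := by
    rcases hc1.2 s hs3 hs1 with h | h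
    · exact ⟨s, hs, hs1, hs3, h⟩
    · exact ⟨s⁻¹, inv_mem hs, inv_ne_one.2 hs1, by rw [inv_pow, hs3, inv_one],
        by rw [inv_inv]; exact h⟩
  obtain ⟨t', ht', ht'1, ht'3, hta, htb⟩ : ∃ t', t' ∈ P2 ∧ t' ≠ 1 ∧ t' ^ 3 = 1 ∧
      t' * a.2 * t'⁻¹ = b.2 ∧ t' * b.2 * t'⁻¹ = a.2 * b.2 := by
    rcases hc2.2 t ht3 ht1 with h | h
    · exact ⟨t, ht, ht1, ht3, h⟩
    · exact ⟨t⁻¹, inv_mem ht, inv_ne_one.2 ht1, by rw [inv_pow, ht3, inv_one],
        by rw [inv_inv]; exact h⟩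
  have hra : (s', t') * a * (s', t')⁻¹ = b := Prod.ext hsa hta
  have hrb : (s', t') * b * (s', t')⁻¹ = a * b := Prod.ext hsb htb
  have hrab : (s', t') * (a * b) * (s', t')⁻¹ = a := by
    have : (s', t') * (a * b) * (s', t')⁻¹ =
        ((s', t') * a * (s', t')⁻¹) * ((s', t') * b * (s', t')⁻¹) := by group
    rw [this, hra, hrb]
    refine Prod.ext ?_ ?_
    · show b.1 * (a.1 * b.1) = a.1
      rw [hc1.1, ← mul_assoc, hxx _ (congrArg Prod.fst (hsq b hb)), one_mul]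
    · show b.2 * (a.2 * b.2) = a.2
      rw [hc2.1, ← mul_assoc, hxx _ (congrArg Prod.snd (hsq b hb)), one_mul]
  have hr3 : orderOf ((s', t') : G₀ × G₀) = 3 :=
    orderOf_eq_prime (Prod.ext hs'3 ht'3) (fun h => hs'1 (congrArg Prod.fst h))
  refine ⟨Subgroup.zpowers (s', t'), ?_, by rw [Nat.card_zpowers, hr3], ?_, ?_, ?_⟩
  · rw [Subgroup.zpowers_le, hQeq]; exact ⟨hs', ht'⟩
  · intro h
    have := h.le (Subgroup.mem_zpowers _)
    exact ht'1 (Subgroup.mem_bot.1 this.2.2)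
  · intro h
    have := h.le (Subgroup.mem_zpowers _)
    exact hs'1 (Subgroup.mem_bot.1 this.2.1)
  · rw [Subgroup.zpowers_le]
    refine Subgroup.mem_normalizer_fintype (fun x hx => ?_)
    rw [hset] at hx ⊢
    rcases hx with rfl | rfl | rfl | rfl
    · left; group
    · rw [hra]; exact Or.inr (Or.inr (Or.inl rfl))
    · rw [hrb]; exact Or.inr (Or.inr (Or.inr rfl))
    · rw [hrab]; exact Or.inr (Or.inl rfl)

end Cfsg.Agent.S4406
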