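import Cfsg.Statements.S4407
-- import your own Cfsg.Agent.* helpers here

set_option autoImplicit false
open Cfsg

namespace Cfsg.Agent.S4407

/-- The sixteen element module, with the two four-groups distinguished. -/
theorem core {S : Type*} [Group S] [Finite S] {M : Type*} [AddCommGroup M] [Module (ZMod 2) M] [Finite M]
    (ρ : Representation (ZMod 2) S M) (hfaith : Function.Injective ρ)
    (hirr : ∀ N : Submodule (ZMod 2) M, (∀ s : S, ∀ m ∈ N, ρ s m ∈ N) → N = ⊥ ∨ N = ⊤)
    (a b r s : S) (ha1 : a ≠ 1) (ha : a * a * a = 1) (hb : b * b * b = 1) (hab : a * b = b * a)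
    (hr : r * r * (r * r) = 1) (hs : s * s = 1) (hsr : s * r = r * (r * r) * s)
    (hra : r * a = b * r) (hrb : r * b = a * a * r) (hsa : s * a = a * s) (hsb : s * b = b * b * s)
    (hgen : Subgroup.closure ({a, r, s} : Set S) = ⊤) (hW : ∃ m : M, m ≠ 0 ∧ ρ a m = m) :
    Nat.card M = 16 ∧ 3 ≤ Nat.card {m : M // ρ (r * r) m = m ∧ ρ s m = m} ∧
      Nat.card {m : M // ρ (r * r) m = m ∧ ρ (r * s) m = m} = 2 := by
  have hm : ∀ g h : S, ∀ m : M, ρ (g * h) m = ρ g (ρ h m) := fun g h m => by rw [map_mul]; rfl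
  have h1 : ∀ m : M, ρ 1 m = m := fun m => by rw [map_one]; rfl
  have h2 : ∀ m : M, m + m = 0 := fun m => by
    rw [← two_smul (ZMod 2) m, show (2 : ZMod 2) = 0 from rfl, zero_smul]
  have hinv : ∀ N : Submodule (ZMod 2) M, (∀ m ∈ N, ρ a m ∈ N) → (∀ m ∈ N, ρ r m ∈ N) →
      (∀ m ∈ N, ρ s m ∈ N) → N = ⊥ ∨ N = ⊤ := by
    intro N hA hR hS
    apply hirr
    intro g
    have hg : g ∈ Subgroup.closure ({a, r, s} : Set S) := hgen ▸ Subgroup.mem_top g
    induction hg using Subgroup.closure_induction with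
    | mem x hx =>
      rcases hx with rfl | rfl | rfl
      · exact hA
      · exact hR
      · exact hS
    | one => intro m hm'; rw [h1]; exact hm'
    | mul x y _ _ ix iy => intro m hm'; rw [hm]; exact ix _ (iy m hm')
    | inv x _ ix =>
      have hp : ∀ n : ℕ, ∀ m ∈ N, ρ (x ^ n) m ∈ N := by
        intro n
        induction n with
        | zero => intro m hm'; rw [pow_zero, h1]; exact hm'
        | succ n ih => intro m hm'; rw [pow_succ, hm]; exact ih _ (ix m hm')
      intro m hm'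
      have e : x⁻¹ = x ^ (orderOf x - 1) := inv_eq_of_mul_eq_one_right (by
        rw [← pow_succ', Nat.sub_add_cancel (orderOf_pos x), pow_orderOf_eq_one])
      rw [e]; exact hp _ m hm'
  have Ra : ∀ m, ρ r (ρ a m) = ρ b (ρ r m) := fun m => by rw [← hm, ← hm, hra]
  have Rb : ∀ m, ρ r (ρ b m) = ρ a (ρ a (ρ r m)) := fun m => by rw [← hm, hrb, hm, hm]
  have Sa : ∀ m, ρ s (ρ a m) = ρ a (ρ s m) := fun m => by rw [← hm, ← hm, hsa]
  have Sb : ∀ m, ρ s (ρ b m) = ρ b (ρ b (ρ s m)) := fun m => by rw [← hm, hsb, hm, hm]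
  have Sr : ∀ m, ρ s (ρ r m) = ρ r (ρ r (ρ r (ρ s m))) := fun m => by rw [← hm, hsr, hm, hm, hm]
  have R4 : ∀ m, ρ r (ρ r (ρ r (ρ r m))) = m := fun m => by
    rw [← hm, ← hm, ← hm, show r * r * r * r = r * r * (r * r) by group, hr, h1]
  have S2 : ∀ m, ρ s (ρ s m) = m := fun m => by rw [← hm, hs, h1]
  have A3 : ∀ m, ρ a (ρ a (ρ a m)) = m := fun m => by rw [← hm, ← hm, ha, h1]
  have B3 : ∀ m, ρ b (ρ b (ρ b m)) = m := fun m => by rw [← hm, ← hm, hb, h1]
  have AB : ∀ m, ρ a (ρ b m) = ρ b (ρ a m) := fun m => by rw [← hm, ← hm, hab]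
  have hC : ∀ m, ρ a m = m → ρ b m = m → m = 0 := by
    let N : Submodule (ZMod 2) M :=
      { carrier := {m | ρ a m = m ∧ ρ b m = m}
        add_mem' := fun {x y} hx hy => ⟨by rw [map_add, hx.1, hy.1], by rw [map_add, hx.2, hy.2]⟩
        zero_mem' := ⟨map_zero _, map_zero _⟩
        smul_mem' := fun c {x} hx => ⟨by rw [map_smul, hx.1], by rw [map_smul, hx.2]⟩ }
    rcases hinv N (fun m h => by rw [h.1]; exact h) (fun m h => ⟨by
        have e := Rb m; rw [h.2] at e
        calc ρ a (ρ r m) = ρ a (ρ a (ρ a (ρ r m))) := by rw [← e]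
          _ = ρ r m := A3 _, by rw [← Ra, h.1]⟩)
        (fun m h => ⟨by rw [← Sa, h.1], by
          have e := Sb m; rw [h.2] at e
          calc ρ b (ρ s m) = ρ b (ρ b (ρ b (ρ s m))) := by rw [← e]
            _ = ρ s m := B3 _⟩) with h | h
    · intro m e1 e2
      exact (Submodule.mem_bot (ZMod 2)).1 (h ▸ (⟨e1, e2⟩ : m ∈ N))
    · exfalso
      apply ha1
      apply hfaith
      apply LinearMap.ext
      intro m
      have : m ∈ N := h ▸ Submodule.mem_top
      rw [h1]; exact this.1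
  -- a vector fixed by a, s and r ^ 2
  obtain ⟨w, hw0, hwa, hws, hwz⟩ : ∃ w : M, w ≠ 0 ∧ ρ a w = w ∧ ρ s w = w ∧ ρ r (ρ r w) = w := by
    obtain ⟨m, hm0, hma⟩ := hW
    obtain ⟨m1, h10, h1a, h1s⟩ : ∃ m1 : M, m1 ≠ 0 ∧ ρ a m1 = m1 ∧ ρ s m1 = m1 := by
      by_cases he : m + ρ s m = 0
      · refine ⟨m, hm0, hma, ?_⟩
        calc ρ s m = (m + m) + ρ s m := by rw [h2, zero_add]
          _ = m + (m + ρ s m) := add_assoc _ _ _
          _ = m := by rw [he, add_zero]
      · exact ⟨m + ρ s m, he, by rw [map_add, hma, ← Sa, hma], by rw [map_add, S2, add_comm]⟩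
    by_cases he : m1 + ρ r (ρ r m1) = 0
    · refine ⟨m1, h10, h1a, h1s, ?_⟩
      calc ρ r (ρ r m1) = (m1 + m1) + ρ r (ρ r m1) := by rw [h2, zero_add]
        _ = m1 + (m1 + ρ r (ρ r m1)) := add_assoc _ _ _
        _ = m1 := by rw [he, add_zero]
    · refine ⟨_, he, ?_, ?_, by rw [map_add, map_add, R4, add_comm]⟩
      · have e : ρ a (ρ r (ρ r m1)) = ρ r (ρ r m1) := by
          have e' : ρ r (ρ r m1) = ρ a (ρ a (ρ r (ρ r m1))) := by
            conv_lhs => rw [← h1a]
            rw [Ra, Rb]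
          calc ρ a (ρ r (ρ r m1)) = ρ a (ρ a (ρ a (ρ r (ρ r m1)))) := by rw [← e']
            _ = _ := A3 _
        rw [map_add, h1a, e]
      · rw [map_add, h1s, Sr, Sr, h1s, R4]
  have hb2 : ρ b (ρ b w) = w + ρ b w := by
    have e : w + ρ b w + ρ b (ρ b w) = 0 := hC _
      (by rw [map_add, map_add, AB, AB, AB, hwa]) (by rw [map_add, map_add, B3]; abel)
    calc ρ b (ρ b w) = (w + ρ b w + (w + ρ b w)) + ρ b (ρ b w) := by rw [h2, zero_add]
      _ = (w + ρ b w) + (w + ρ b w + ρ b (ρ b w)) := add_assoc _ _ _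
      _ = _ := by rw [e, add_zero]
  let v : Fin 4 → M := ![w, ρ b w, ρ r w, ρ r (ρ b w)]
  let Φ : (Fin 4 → ZMod 2) →ₗ[ZMod 2] M := Fintype.linearCombination (ZMod 2) v
  have hΦ : ∀ c, Φ c = c 0 • w + c 1 • ρ b w + c 2 • ρ r w + c 3 • ρ r (ρ b w) := fun c => by
    simp [Φ, v, Fintype.linearCombination_apply, Fin.sum_univ_four]
  have hzb : ρ r (ρ r (ρ b w)) = w + ρ b w := by
    rw [Rb]
    have : ρ r (ρ a (ρ a (ρ r w))) = ρ b (ρ b (ρ r (ρ r w))) := by rw [Ra, Ra]
    rw [this, hwz, hb2]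
  have hsurj : Function.Surjective Φ := by
    have hN : LinearMap.range Φ = ⊤ := by
      have hv : ∀ i, v i ∈ LinearMap.range Φ := fun i => by
        rw [Fintype.range_linearCombination]; exact Submodule.subset_span ⟨i, rfl⟩
      have k0 : w ∈ LinearMap.range Φ := hv 0
      have k1 : ρ b w ∈ LinearMap.range Φ := hv 1
      have k2 : ρ r w ∈ LinearMap.range Φ := hv 2
      have k3 : ρ r (ρ b w) ∈ LinearMap.range Φ := hv 3
      have key : ∀ g : S, (∀ i, ρ g (v i) ∈ LinearMap.range Φ) → ∀ m ∈ LinearMap.range Φ, ρ g m ∈ LinearMap.range Φ := by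
        rintro g hg m ⟨c, rfl⟩
        rw [hΦ]
        simp only [map_add, map_smul]
        exact add_mem (add_mem (add_mem (Submodule.smul_mem _ _ (hg 0)) (Submodule.smul_mem _ _ (hg 1)))
          (Submodule.smul_mem _ _ (hg 2))) (Submodule.smul_mem _ _ (hg 3))
      have ea : ρ a (ρ r w) = ρ r w + ρ r (ρ b w) := by
        rw [← map_add, ← hb2, Rb, Rb, A3]
      have hka : ∀ i, ρ a (v i) ∈ LinearMap.range Φ := by
        intro i
        fin_cases i
        · show ρ a w ∈ _; rw [hwa]; exact k0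
        · show ρ a (ρ b w) ∈ _; rw [AB, hwa]; exact k1
        · show ρ a (ρ r w) ∈ _; rw [ea]; exact add_mem k2 k3
        · show ρ a (ρ r (ρ b w)) ∈ _; rw [Rb, A3]; exact k2
      have hkr : ∀ i, ρ r (v i) ∈ LinearMap.range Φ := by
        intro i
        fin_cases i
        · exact k2
        · exact k3
        · show ρ r (ρ r w) ∈ _; rw [hwz]; exact k0
        · show ρ r (ρ r (ρ b w)) ∈ _; rw [hzb]; exact add_mem k0 k1
      have hks : ∀ i, ρ s (v i) ∈ LinearMap.range Φ := by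
        intro i
        fin_cases i
        · show ρ s w ∈ _; rw [hws]; exact k0
        · show ρ s (ρ b w) ∈ _; rw [Sb, hws, hb2]; exact add_mem k0 k1
        · show ρ s (ρ r w) ∈ _; rw [Sr, hws, hwz]; exact k2
        · show ρ s (ρ r (ρ b w)) ∈ _
          rw [Sr, Sb, hws, hb2]
          simp only [map_add, hwz, hzb]
          rw [← add_assoc, h2, zero_add]
          exact k3
      rcases hinv (LinearMap.range Φ) (key a hka) (key r hkr) (key s hks) with h | h
      · exact absurd ((Submodule.mem_bot (ZMod 2)).1 (h ▸ k0)) hw0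
      · exact h
    exact LinearMap.range_eq_top.1 hN
  have hz2 : ∀ c : ZMod 2, c = 0 ∨ c = 1 := by decide
  have hW0 : ∀ i j : ZMod 2, i • w + j • ρ b w = 0 → i = 0 ∧ j = 0 := by
    intro i j h
    have hbw : ρ b w ≠ 0 := fun e => hw0 (by rw [← B3 w, e, map_zero, map_zero])
    rcases hz2 i with rfl | rfl <;> rcases hz2 j with rfl | rfl <;>
      simp only [zero_smul, one_smul, zero_add, add_zero] at h
    · exact ⟨rfl, rfl⟩
    · exact absurd h hbw
    · exact absurd h hw0
    · exfalso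
      refine hw0 (hC w hwa ?_)
      calc ρ b w = (w + w) + ρ b w := by rw [h2, zero_add]
        _ = w + (w + ρ b w) := add_assoc _ _ _
        _ = w := by rw [h, add_zero]
  have hinj : Function.Injective Φ := by
    rw [← LinearMap.ker_eq_bot, LinearMap.ker_eq_bot']
    intro c hc
    rw [hΦ] at hc
    set x := c 0 • w + c 1 • ρ b w with hx
    set y := c 2 • w + c 3 • ρ b w with hy
    have hxy : x + ρ r y = 0 := by rw [hy, map_add, map_smul, map_smul, ← add_assoc]; exact hc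
    have hxa : ρ a x = x := by rw [hx, map_add, map_smul, map_smul, AB, hwa]
    have hya : ρ a y = y := by rw [hy, map_add, map_smul, map_smul, AB, hwa]
    have hxy' : ρ r y = x := by
      calc ρ r y = (x + x) + ρ r y := by rw [h2, zero_add]
        _ = x + (x + ρ r y) := add_assoc _ _ _
        _ = x := by rw [hxy, add_zero]
    have hx0 : x = 0 := hC x hxa (by rw [← hxy', ← Ra, hya])
    have hy0 : y = 0 := by rw [← R4 y, hxy', hx0, map_zero, map_zero, map_zero]
    obtain ⟨e0, e1⟩ := hW0 _ _ hx0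
    obtain ⟨e2, e3⟩ := hW0 _ _ hy0
    funext i; fin_cases i <;> assumption
  have hcard : Nat.card M = 16 := by
    rw [← Nat.card_congr (Equiv.ofBijective Φ ⟨hinj, hsurj⟩), Nat.card_fun, Nat.card_fin, Nat.card_zmod]
    norm_num
  have hwr : w ≠ ρ r w := fun e => by
    have := @hinj ![1, 0, 0, 0] ![0, 0, 1, 0] (by rw [hΦ, hΦ]; simp [← e])
    exact absurd (congrFun this 0) (by decide)
  have hrw0 : ρ r w ≠ 0 := fun e => hw0 (by rw [← hwz, e, map_zero])
  refine ⟨hcard, ?_, ?_⟩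
  · rw [← Nat.card_fin 3]
    refine Nat.card_le_card_of_injective
      ![⟨0, map_zero _, map_zero _⟩, ⟨w, by rw [hm, hwz], hws⟩,
        ⟨ρ r w, by rw [hm, hwz], by rw [Sr, hws, hwz]⟩] ?_
    intro i j h
    have h' := congrArg Subtype.val h
    fin_cases i <;> fin_cases j <;> first | rfl | (exfalso; revert h'; simp [hw0, hw0.symm, hrw0, hrw0.symm, hwr, hwr.symm])
  · rw [Nat.card_eq_two_iff]
    refine ⟨⟨0, map_zero _, map_zero _⟩, ⟨w + ρ r w, by rw [hm, map_add, map_add, hwz], by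
      rw [hm, map_add, hws, Sr, hws, hwz, map_add, hwz, add_comm]⟩, ?_, ?_⟩
    · intro e
      have e' : (0 : M) = w + ρ r w := congrArg Subtype.val e
      apply hwr
      calc w = w + (w + ρ r w) := by rw [← e', add_zero]
        _ = (w + w) + ρ r w := (add_assoc _ _ _).symm
        _ = ρ r w := by rw [h2, zero_add]
    · rw [Set.eq_univ_iff_forall]
      rintro ⟨m, hmz, hmrs⟩
      obtain ⟨c, rfl⟩ := hsurj m
      rw [hm] at hmz hmrs
      have ez : ρ r (ρ r (Φ c)) = Φ ![c 0 + c 1, c 1, c 2 + c 3, c 3] := by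
        rw [hΦ, hΦ]
        simp only [map_add, map_smul, hwz, hzb]
        simp [add_smul, smul_add]
        abel
      have d1 := congrFun (hinj (ez.symm.trans hmz)) 0
      have d3 := congrFun (hinj (ez.symm.trans hmz)) 2
      simp at d1 d3
      have em : Φ c = c 0 • w + c 2 • ρ r w := by rw [hΦ, d1, d3]; simp
      rw [em] at hmrs
      simp only [map_add, map_smul, hws, Sr, hwz] at hmrs
      have d02 : Φ ![c 2, 0, c 0, 0] = Φ ![c 0, 0, c 2, 0] := by
        rw [hΦ, hΦ]; simp only [Matrix.cons_val_zero, Matrix.cons_val_one, Matrix.cons_val]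
        simp only [zero_smul, add_zero]
        rw [add_comm]; exact hmrs
      have d := congrFun (hinj d02) 0
      simp at d
      simp only [Set.mem_insert_iff, Set.mem_singleton_iff, Subtype.mk.injEq]
      rw [em, d]
      rcases hz2 (c 0) with h | h <;> simp [h]

/-- Let S be a finite group with a normal elementary abelian subgroup A of order 9 that is self-centralizing (C_S(A) = A), and a dihedral subgroup X of order 8 with S = AX. Let M be a finite-dimensional module for S over the field with two elements that is faithful and irreducible. Then M has 16 elements, and X contains exactly one subgroup B of order 4 and exponent 2 whose fixed points on M form a subspace with exactly 2 elements (equivalently, M is free of rank one over the group algebra of B). -/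
theorem result {S : Type*} [Group S] [Finite S]
    (A : Subgroup S) [A.Normal] (hA : Cfsg.IsElementaryAbelian 3 A) (hA9 : Nat.card ↥A = 9)
    (hAC : Subgroup.centralizer (A : Set S) = A) (X : Subgroup S) (hX : Nonempty (↥X ≃* DihedralGroup 4)) (hAX : A ⊔ X = ⊤)
    {M : Type*} [AddCommGroup M] [Module (ZMod 2) M] [Finite M] (ρ : Representation (ZMod 2) S M)
    (hfaith : Function.Injective ρ)
    (hirr : ∀ N : Submodule (ZMod 2) M, (∀ s : S, ∀ m ∈ N, ρ s m ∈ N) → N = ⊥ ∨ N = ⊤) (hM : Nontrivial M) :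
    Nat.card M = 16 ∧
      ∃! B : Subgroup S, B ≤ X ∧ Nat.card ↥B = 4 ∧ (∀ b ∈ B, b ^ 2 = 1) ∧
        Nat.card {m : M // ∀ b ∈ B, ρ b m = m} = 2 := by
  classical
  obtain ⟨e⟩ := hX
  let φ : DihedralGroup 4 →* S := X.subtype.comp e.symm.toMonoidHom
  have hφi : Function.Injective φ := X.subtype_injective.comp e.symm.injective
  have hφX : ∀ x, φ x ∈ X := fun x => (e.symm x).2
  have hφs : ∀ g ∈ X, ∃ x, φ x = g := fun g hg => ⟨e ⟨g, hg⟩, by simp [φ]⟩
  set r := φ (DihedralGroup.r 1) with hrdef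
  set s := φ (DihedralGroup.sr 0) with hsdef
  have hr : r * r * (r * r) = 1 := by rw [hrdef, ← map_mul, ← map_mul, ← map_one φ]; rfl
  have hs : s * s = 1 := by rw [hsdef, ← map_mul, ← map_one φ]; rfl
  have hsr : s * r = r * (r * r) * s := by rw [hrdef, hsdef, ← map_mul, ← map_mul, ← map_mul, ← map_mul]; rfl
  have hsr' : s * r = r⁻¹ * s := by
    rw [hsr]; congr 1
    exact eq_inv_of_mul_eq_one_left (by rw [show r * (r * r) * r = r * r * (r * r) by group, hr])
  have hA3 : ∀ m ∈ A, m * m * m = 1 := fun m hm => by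
    have := hA.2 m hm
    rwa [pow_succ, pow_two] at this
  have hAc : ∀ m ∈ A, ∀ n ∈ A, m * n = n * m := fun m hm n hn =>
    congrArg Subtype.val (hA.1.1.1 ⟨m, hm⟩ ⟨n, hn⟩)
  have hD8 : ∀ x : DihedralGroup 4, x ^ 8 = 1 := by decide
  -- elements of the dihedral group centralizing A are trivial
  have hfix : ∀ x, (∀ m ∈ A, φ x * m = m * φ x) → φ x = 1 := by
    intro x h
    have hmem : φ x ∈ A := by
      rw [← hAC, Subgroup.mem_centralizer_iff]; intro m hm; exact (h m hm).symm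
    have h3 : φ x ^ 3 = 1 := hA.2 _ hmem
    have h8 : φ x ^ 8 = 1 := by rw [← map_pow, hD8 x, map_one]
    calc φ x = (φ x ^ 3) ^ 3 * (φ x ^ 8)⁻¹ := by group
      _ = 1 := by rw [h3, h8]; simp
  obtain ⟨c, hc⟩ : ∃ c : S → S → S, ∀ g m, c g m = g * m * g⁻¹ := ⟨_, fun _ _ => rfl⟩
  have hcA : ∀ g, ∀ m ∈ A, c g m ∈ A := fun g m hm => by
    rw [hc]; exact Subgroup.Normal.conj_mem ‹A.Normal› m hm g
  have hcm : ∀ g h m, c (g * h) m = c g (c h m) := fun g h m => by simp only [hc]; group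
  have hcp : ∀ g m n, c g (m * n) = c g m * c g n := fun g m n => by simp only [hc]; group
  have hci : ∀ g m, c g m⁻¹ = (c g m)⁻¹ := fun g m => by simp only [hc]; group
  have hc1 : ∀ m, c 1 m = m := fun m => by simp [hc]
  have hcinj : ∀ g m n, c g m = c g n → m = n := fun g m n h => by
    rw [hc, hc] at h; exact mul_left_cancel (mul_right_cancel h)
  have hcg : ∀ g m : S, c g 1 = 1 := fun g _ => by simp [hc]
  have hss : ∀ m, c s (c s m) = m := fun m => by rw [← hcm, hs, hc1]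
  have hsrc : ∀ m, c s (c r m) = c r⁻¹ (c s m) := fun m => by rw [← hcm, hsr', hcm]
  have hnt : ∀ x, φ x ≠ 1 → ∃ m ∈ A, c (φ x) m ≠ m := by
    intro x hx
    by_contra h
    push Not at h
    exact hx (hfix x fun m hm => mul_inv_eq_iff_eq_mul.1 ((hc _ _).symm.trans (h m hm)))
  have hz1 : r * r ≠ 1 := by
    rw [hrdef, ← map_mul, ← map_one φ]
    exact fun h => absurd (hφi h) (by decide)
  have hzx : ∀ x, r * r ≠ φ x → ∃ m ∈ A, c (r * r) m ≠ c (φ x) m := by
    intro x hx
    obtain ⟨m, hm, hne⟩ := hnt (x⁻¹ * (DihedralGroup.r 1 * DihedralGroup.r 1)) (by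
      rw [map_mul, map_inv, map_mul]; exact fun h => hx (inv_mul_eq_one.1 h).symm)
    refine ⟨m, hm, fun h => hne ?_⟩
    rw [map_mul, map_inv, map_mul, hcm, h, ← hcm, inv_mul_cancel, hc1]
  -- a fixed by s, d inverted by s
  obtain ⟨a, haA, ha1, hsa⟩ : ∃ a ∈ A, a ≠ 1 ∧ c s a = a := by
    by_contra h
    push Not at h
    have hinv : ∀ m ∈ A, c s m = m⁻¹ := fun m hm => by
      by_contra hne
      refine h (m * c s m) (mul_mem hm (hcA _ _ hm)) (fun e' => hne (eq_inv_of_mul_eq_one_right e')) ?_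
      rw [hcp, hss, hAc _ (hcA _ _ hm) _ hm]
    obtain ⟨m, hm, hne⟩ := hzx 1 (by rw [map_one]; exact hz1)
    apply hne
    rw [map_one, hc1, hcm]
    have e := hsrc m
    rw [hinv _ (hcA _ _ hm), hinv m hm, hci, inv_inj] at e
    rw [e, ← hcm, mul_inv_cancel, hc1]
  obtain ⟨d, hdA, hd1, hsd⟩ : ∃ d ∈ A, d ≠ 1 ∧ c s d = d⁻¹ := by
    obtain ⟨m, hm, hne⟩ := hnt (DihedralGroup.sr 0) (by
      rw [← map_one φ]; exact fun h => absurd (hφi h) (by decide))
    exact ⟨m⁻¹ * c s m, mul_mem (inv_mem hm) (hcA _ _ hm), fun h => hne (inv_mul_eq_one.1 h).symm,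
      by rw [hcp, hci, hss, mul_inv_rev, inv_inv]⟩
  have hne2 : ∀ m ∈ A, m⁻¹ = m → m = 1 := by
    intro m hm h
    have h2 : m * m = 1 := by nth_rewrite 1 [← h]; exact inv_mul_cancel m
    calc m = 1 * m := (one_mul m).symm
      _ = m * m * m := by rw [h2]
      _ = 1 := hA3 m hm
  have hrep : ∀ u ∈ A, ∀ v ∈ A, u ≠ 1 → v ≠ 1 → c s u = u → c s v = v⁻¹ → ∀ m ∈ A,
      ∃ i j : Fin 3, m = u ^ (i : ℕ) * v ^ (j : ℕ) := by
    intro u hu v hv hu1 hv1 hsu hsv
    let f : Fin 3 × Fin 3 → ↥A := fun t =>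
      ⟨u ^ (t.1 : ℕ) * v ^ (t.2 : ℕ), mul_mem (pow_mem hu _) (pow_mem hv _)⟩
    have hord : ∀ g ∈ A, g ≠ 1 → orderOf g = 3 := fun g hg hg1 =>
      orderOf_eq_prime (hA.2 g hg) hg1
    have hcpow : ∀ g m : S, ∀ n : ℕ, c g (m ^ n) = c g m ^ n := fun g m n => by rw [hc, hc, conj_pow]
    have hf : Function.Injective f := by
      rintro ⟨i, j⟩ ⟨i', j'⟩ h
      have h0 : u ^ (i : ℕ) * v ^ (j : ℕ) = u ^ (i' : ℕ) * v ^ (j' : ℕ) := congrArg Subtype.val h
      have hs0 : u ^ (i : ℕ) * (v ^ (j : ℕ))⁻¹ = u ^ (i' : ℕ) * (v ^ (j' : ℕ))⁻¹ := by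
        have := congrArg (c s) h0
        simpa [hcp, hcpow, hsu, hsv, inv_pow] using this
      set p := (u ^ (i' : ℕ))⁻¹ * u ^ (i : ℕ) with hp
      have hp1 : p = v ^ (j' : ℕ) * (v ^ (j : ℕ))⁻¹ := by
        rw [hp, eq_mul_inv_iff_mul_eq, mul_assoc, h0]; group
      have hp2 : p = (v ^ (j' : ℕ))⁻¹ * v ^ (j : ℕ) := by
        rw [hp]
        calc (u ^ (i' : ℕ))⁻¹ * u ^ (i : ℕ) = (u ^ (i' : ℕ))⁻¹ * (u ^ (i : ℕ) * (v ^ (j : ℕ))⁻¹) * v ^ (j : ℕ) := by group
          _ = _ := by rw [hs0]; group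
      have hpA : p ∈ A := mul_mem (inv_mem (pow_mem hu _)) (pow_mem hu _)
      have hp0 : p = 1 := hne2 p hpA (by
        nth_rewrite 1 [hp1]
        rw [hp2, mul_inv_rev, inv_inv]
        exact hAc _ (pow_mem hv _) _ (inv_mem (pow_mem hv _)))
      have e1 : u ^ (i : ℕ) = u ^ (i' : ℕ) := (inv_mul_eq_one.1 hp0).symm
      have e2 : v ^ (j : ℕ) = v ^ (j' : ℕ) := (inv_mul_eq_one.1 (hp2.symm.trans hp0)).symm
      have f1 := pow_injOn_Iio_orderOf (x := u) (by rw [hord u hu hu1]; exact i.2) (by rw [hord u hu hu1]; exact i'.2) e1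
      have f2 := pow_injOn_Iio_orderOf (x := v) (by rw [hord v hv hv1]; exact j.2) (by rw [hord v hv hv1]; exact j'.2) e2
      exact Prod.ext (Fin.ext f1) (Fin.ext f2)
    have hb : Function.Bijective f := (Nat.bijective_iff_injective_and_card f).2 ⟨hf, by rw [hA9]; simp⟩
    intro m hm
    obtain ⟨⟨i, j⟩, ht⟩ := hb.2 ⟨m, hm⟩
    exact ⟨i, j, (congrArg Subtype.val ht).symm⟩
  have hcpow : ∀ g m : S, ∀ n : ℕ, c g (m ^ n) = c g m ^ n := fun g m n => by rw [hc, hc, conj_pow]
  have hsq : ∀ g ∈ A, g ^ 2 = g⁻¹ := fun g hg => by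
    rw [pow_two]; exact eq_inv_of_mul_eq_one_left (hA3 g hg)
  -- elements of A fixed or inverted by s
  have hline : ∀ m ∈ A, m ≠ 1 → (c s m = m → m = a ∨ m = a⁻¹) ∧ (c s m = m⁻¹ → m = d ∨ m = d⁻¹) := by
    intro m hm hm1
    obtain ⟨i, j, hij⟩ := hrep a haA d hdA ha1 hd1 hsa hsd m hm
    have hai := pow_mem haA (i : ℕ)
    have hdj := pow_mem hdA (j : ℕ)
    have hsm : c s m = a ^ (i : ℕ) * (d ^ (j : ℕ))⁻¹ := by rw [hij, hcp, hcpow, hcpow, hsa, hsd, inv_pow]
    constructor
    · intro h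
      have : d ^ (j : ℕ) = 1 := hne2 _ hdj (mul_left_cancel (hsm.symm.trans (h.trans hij)))
      rw [this, mul_one] at hij
      fin_cases i
      · exact absurd (by simpa using hij) hm1
      · exact Or.inl (by simpa using hij)
      · exact Or.inr (hij.trans (hsq a haA))
    · intro h
      rw [hsm, hij, mul_inv_rev, hAc _ (inv_mem hdj) _ (inv_mem hai)] at h
      have : a ^ (i : ℕ) = 1 := hne2 _ hai (mul_right_cancel h).symm
      rw [this, one_mul] at hij
      fin_cases j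
      · exact absurd (by simpa using hij) hm1
      · exact Or.inl (by simpa using hij)
      · exact Or.inr (hij.trans (hsq d hdA))
  have hzs : ∀ m, c s (c (r * r) m) = c (r * r) (c s m) := fun m => by
    rw [← hcm, ← hcm, show s * (r * r) = r * r * s from ?_]
    rw [hrdef, hsdef, ← map_mul, ← map_mul, ← map_mul]; rfl
  have hcne : ∀ g m, m ≠ 1 → c g m ≠ 1 := fun g m hm h => hm (hcinj g _ _ (h.trans (hcg g m).symm))
  have hza : c (r * r) a = a⁻¹ := by
    rcases (hline _ (hcA (r * r) a haA) (hcne _ _ ha1)).1 (by rw [hzs, hsa]) with h | h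
    swap
    · exact h
    exfalso
    have hzd : c (r * r) d = d⁻¹ := by
      rcases (hline _ (hcA (r * r) d hdA) (hcne _ _ hd1)).2 (by rw [hzs, hsd, hci]) with h' | h'
      swap
      · exact h'
      exfalso
      obtain ⟨m, hm, hne⟩ := hzx 1 (by rw [map_one]; exact hz1)
      obtain ⟨i, j, rfl⟩ := hrep a haA d hdA ha1 hd1 hsa hsd m hm
      apply hne
      rw [map_one, hc1, hcp, hcpow, hcpow, h, h']
    have key : ∀ g ∈ A, g ≠ 1 → (c (r * r) g = g → g = a ∨ g = a⁻¹) ∧ (c (r * r) g = g⁻¹ → g = d ∨ g = d⁻¹) := by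
      intro g hg hg1
      obtain ⟨i, j, hij⟩ := hrep a haA d hdA ha1 hd1 hsa hsd g hg
      have he : c s g = c (r * r) g := by rw [hij, hcp, hcp, hcpow, hcpow, hcpow, hcpow, hsa, hsd, h, hzd]
      rw [← he]; exact hline g hg hg1
    have hzr : ∀ m, c (r * r) (c r m) = c r (c (r * r) m) := fun m => by rw [← hcm, ← hcm, mul_assoc]
    have hra : c r a = a ∨ c r a = a⁻¹ := (key _ (hcA r a haA) (hcne _ _ ha1)).1 (by rw [hzr, h])
    have hrd : c r d = d ∨ c r d = d⁻¹ := (key _ (hcA r d hdA) (hcne _ _ hd1)).2 (by rw [hzr, hzd, hci])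
    have hrrd : c r (c r d) = d := by
      rcases hrd with e' | e'
      · rw [e', e']
      · rw [e', hci, e', inv_inv]
    rw [← hcm, hzd] at hrrd
    exact hd1 (hne2 d hdA hrrd)
  set b := c r a with hbdef
  have hbA : b ∈ A := hcA r a haA
  have hb1 : b ≠ 1 := hcne _ _ ha1
  have hrb : c r b = a⁻¹ := by rw [hbdef, ← hcm]; exact hza
  have hsb : c s b = b⁻¹ := by
    rw [hbdef, hsrc, hsa]
    apply hcinj r
    rw [← hcm, mul_inv_cancel, hc1, hci, hrb, inv_inv]
  have habgen : ∀ m ∈ A, m ∈ Subgroup.closure ({a, b} : Set S) := by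
    intro m hm
    obtain ⟨i, j, rfl⟩ := hrep a haA b hbA ha1 hb1 hsa hsb m hm
    exact mul_mem (pow_mem (Subgroup.subset_closure (by simp)) _) (pow_mem (Subgroup.subset_closure (by simp)) _)
  have hgen : ∀ a' b' s', b' = c r a' → a' ∈ Subgroup.closure ({a', r, s'} : Set S) →
      s ∈ Subgroup.closure ({a', r, s'} : Set S) → a ∈ Subgroup.closure ({a', r, s'} : Set S) →
      Subgroup.closure ({a', r, s'} : Set S) = ⊤ := by
    intro a' b' s' _ _ hs' ha'
    have hr' : r ∈ Subgroup.closure ({a', r, s'} : Set S) := Subgroup.subset_closure (by simp)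
    rw [eq_top_iff, ← hAX, sup_le_iff]
    refine ⟨fun m hm => ((Subgroup.closure_le _).2 ?_) (habgen m hm), ?_⟩
    · rintro x hx
      simp only [Set.mem_insert_iff, Set.mem_singleton_iff] at hx
      rcases hx with hx | hx <;> rw [hx]
      · exact ha'
      · rw [hbdef, hc]; exact mul_mem (mul_mem hr' ha') (inv_mem hr')
    · intro g hg
      obtain ⟨x, rfl⟩ := hφs g hg
      have hgenD : ∀ x : DihedralGroup 4, ∃ i : Fin 4, x = DihedralGroup.r 1 ^ (i : ℕ) ∨
          x = DihedralGroup.r 1 ^ (i : ℕ) * DihedralGroup.sr 0 := by decide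
      obtain ⟨i, rfl | rfl⟩ := hgenD x
      · rw [map_pow]; exact pow_mem hr' _
      · rw [map_mul, map_pow]; exact mul_mem (pow_mem hr' _) hs'
  have hconj : ∀ g m n : S, c g m = n → g * m = n * g := fun g m n h => by rw [← h]; simp [hc]
  have hii : ∀ g ∈ A, g⁻¹ = g * g := fun g hg => (inv_eq_of_mul_eq_one_right (by rw [← mul_assoc]; exact hA3 g hg))
  -- run the main computation
  have hmain : Nat.card M = 16 ∧
      ((Nat.card {m : M // ρ (r * r) m = m ∧ ρ s m = m} = 2 ∧ Nat.card {m : M // ρ (r * r) m = m ∧ ρ (r * s) m = m} ≠ 2) ∨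
      (Nat.card {m : M // ρ (r * r) m = m ∧ ρ (r * s) m = m} = 2 ∧ Nat.card {m : M // ρ (r * r) m = m ∧ ρ s m = m} ≠ 2)) := by
    by_cases hW : ∃ m : M, m ≠ 0 ∧ ρ a m = m
    · obtain ⟨h16, h3, h2⟩ := core ρ hfaith hirr a b r s ha1 (hA3 a haA) (hA3 b hbA) (hAc a haA b hbA) hr hs hsr
        (hconj _ _ _ hbdef.symm) (by rw [← hii a haA]; exact hconj _ _ _ hrb) (hconj _ _ _ hsa)
        (by rw [← hii b hbA]; exact hconj _ _ _ hsb)
        (hgen a b s hbdef (Subgroup.subset_closure (by simp)) (Subgroup.subset_closure (by simp)) (Subgroup.subset_closure (by simp))) hW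
      exact ⟨h16, Or.inr ⟨h2, by omega⟩⟩
    · have habA : a * b ∈ A := mul_mem haA hbA
      have hb'def : c r (a * b) = b * a⁻¹ := by rw [hcp, ← hbdef, hrb]
      have hb'A : b * a⁻¹ ∈ A := mul_mem hbA (inv_mem haA)
      have hrb' : c r (b * a⁻¹) = (a * b)⁻¹ := by
        rw [hcp, hrb, hci, ← hbdef, mul_inv_rev, hAc _ (inv_mem haA) _ (inv_mem hbA)]
      have hsa' : c (r * s) (a * b) = a * b := by
        rw [hcm, hcp, hsa, hsb, hcp, ← hbdef, hci, hrb, inv_inv, hAc b hbA a haA]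
      have hsb' : c (r * s) (b * a⁻¹) = (b * a⁻¹)⁻¹ := by
        rw [hcm, hcp, hsb, hci, hsa, hcp, hci, hci, hrb, ← hbdef, inv_inv, mul_inv_rev, inv_inv]
      have hne : a * b ≠ 1 := fun h => by
        have e := congrArg (c s) h
        rw [hcp, hsa, hsb, hcg s 1] at e
        exact hb1 (hne2 b hbA (mul_left_cancel (e.trans h.symm)))
      have hW' : ∃ m : M, m ≠ 0 ∧ ρ (a * b) m = m := by
        by_contra hW'
        push Not at hW hW'
        have hm : ∀ g h : S, ∀ m : M, ρ (g * h) m = ρ g (ρ h m) := fun g h m => by rw [map_mul]; rfl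
        have h1 : ∀ m : M, ρ 1 m = m := fun m => by rw [map_one]; rfl
        have move : ∀ g n : S, c r g = n → (∀ m : M, m ≠ 0 → ρ g m ≠ m) → ∀ m : M, m ≠ 0 → ρ n m ≠ m := by
          intro g n hn hg m hm0 e'
          refine hg (ρ r⁻¹ m) (fun h0 => hm0 ?_) ?_
          · rw [← h1 m, ← mul_inv_cancel r, hm, h0, map_zero]
          · rw [← hm, show g * r⁻¹ = r⁻¹ * n by rw [← hn]; simp only [hc]; group, hm, e']
        have hsum : ∀ g ∈ A, (∀ m : M, m ≠ 0 → ρ g m ≠ m) → ∀ m : M, m + ρ g m + ρ (g * g) m = 0 := by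
          intro g hg hf m
          by_contra h0
          apply hf _ h0
          rw [map_add, map_add, ← hm, ← hm, ← mul_assoc, hA3 g hg, h1]; abel
        have fb := move a b hbdef.symm hW
        have fd := move (a * b) _ hb'def hW'
        obtain ⟨m, hm0⟩ := exists_ne (0 : M)
        apply hm0
        have e1 := hsum a haA hW m
        have e2 := hsum b hbA fb m
        have e3 := hsum _ habA hW' m
        have e4 := hsum _ hb'A fd m
        have e5 := hsum a haA hW (m + ρ b m + ρ (b * b) m)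
        letI : CommGroup ↥A := { (inferInstance : Group ↥A) with mul_comm := fun x y => hA.1.1.1 x y }
        have q1 : a * b * (a * b) = a * a * (b * b) := congrArg Subtype.val
          (mul_mul_mul_comm (⟨a, haA⟩ : ↥A) ⟨b, hbA⟩ ⟨a, haA⟩ ⟨b, hbA⟩)
        have q2 : b * a⁻¹ = a * a * b := by rw [hii a haA, hAc b hbA _ (mul_mem haA haA)]
        have q3 : b * a⁻¹ * (b * a⁻¹) = a * (b * b) := by
          have := congrArg Subtype.val (mul_mul_mul_comm (⟨b, hbA⟩ : ↥A) ⟨a, haA⟩⁻¹ ⟨b, hbA⟩ ⟨a, haA⟩⁻¹)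
          simp only [Subgroup.coe_mul, Subgroup.coe_inv] at this
          rw [this, ← mul_inv_rev, show (a * a)⁻¹ = a from by rw [← hii a haA, inv_inv],
            hAc _ (mul_mem hbA hbA) _ haA]
        rw [q2, show a * a * b * (a * a * b) = a * (b * b) by rw [← q2]; exact q3] at e4
        rw [q1] at e3
        simp only [hm, map_add] at e1 e2 e3 e4 e5
        have h2 : ∀ x : M, x + x = 0 := fun x => by
          rw [← two_smul (ZMod 2) x, show (2 : ZMod 2) = 0 from rfl, zero_smul]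
        calc m = m + (0 + 0 + 0 + 0 + 0) := by abel
          _ = m + ((m + ρ a m + ρ a (ρ a m)) + (m + ρ b m + ρ b (ρ b m)) + (m + ρ a (ρ b m) + ρ a (ρ a (ρ b (ρ b m))))
              + (m + ρ a (ρ a (ρ b m)) + ρ a (ρ b (ρ b m))) + (m + ρ b m + ρ b (ρ b m) + (ρ a m + ρ a (ρ b m) + ρ a (ρ b (ρ b m))) +
              (ρ a (ρ a m) + ρ a (ρ a (ρ b m)) + ρ a (ρ a (ρ b (ρ b m)))))) := by rw [e5, e1, e2, e3, e4]
          _ = (m + m) + (m + m) + (m + m) + (ρ a m + ρ a m) + (ρ a (ρ a m) + ρ a (ρ a m)) + (ρ b m + ρ b m)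
              + (ρ b (ρ b m) + ρ b (ρ b m)) + (ρ a (ρ b m) + ρ a (ρ b m)) + (ρ a (ρ a (ρ b m)) + ρ a (ρ a (ρ b m)))
              + (ρ a (ρ b (ρ b m)) + ρ a (ρ b (ρ b m))) + (ρ a (ρ a (ρ b (ρ b m))) + ρ a (ρ a (ρ b (ρ b m)))) := by abel
          _ = 0 := by simp only [h2, add_zero]
      obtain ⟨h16, h3, h2⟩ := core ρ hfaith hirr (a * b) (b * a⁻¹) r (r * s) hne (hA3 _ habA) (hA3 _ hb'A)
        (hAc _ habA _ hb'A) hr (by rw [hrdef, hsdef, ← map_mul, ← map_mul, ← map_one φ]; rfl)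
        (by rw [hrdef, hsdef]; simp only [← map_mul]; rfl)
        (hconj _ _ _ hb'def) (by rw [← hii _ habA]; exact hconj _ _ _ hrb') (hconj _ _ _ hsa')
        (by rw [← hii _ hb'A]; exact hconj _ _ _ hsb')
        (hgen _ _ _ hb'def.symm (Subgroup.subset_closure (by simp)) (by
          rw [show s = r⁻¹ * (r * s) by group]
          exact mul_mem (inv_mem (Subgroup.subset_closure (by simp))) (Subgroup.subset_closure (by simp))) (by
          have hr' : r ∈ Subgroup.closure ({a * b, r, r * s} : Set S) := Subgroup.subset_closure (by simp)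
          have hab' : a * b ∈ Subgroup.closure ({a * b, r, r * s} : Set S) := Subgroup.subset_closure (by simp)
          have hba : c r (a * b) ∈ Subgroup.closure ({a * b, r, r * s} : Set S) := by
            rw [hc]; exact mul_mem (mul_mem hr' hab') (inv_mem hr')
          rw [hb'def] at hba
          have e' : a = ((b * a⁻¹)⁻¹ * (a * b)) * ((b * a⁻¹)⁻¹ * (a * b)) := by
            rw [mul_inv_rev, inv_inv, hAc a haA b⁻¹ (inv_mem hbA)]
            calc a = (a * a * a) * a := by rw [hA3 a haA, one_mul]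
              _ = a * a * (a * a) := by group
              _ = b⁻¹ * (a * a) * b * (b⁻¹ * (a * a) * b) := by
                rw [hAc b⁻¹ (inv_mem hbA) _ (mul_mem haA haA)]; group
              _ = _ := by group
          have hres := mul_mem (mul_mem (inv_mem hba) hab') (mul_mem (inv_mem hba) hab')
          rw [← e'] at hres; exact hres)) hW'
      have hconv : Nat.card {m : M // ρ (r * r) m = m ∧ ρ (r * (r * s)) m = m} =
          Nat.card {m : M // ρ (r * r) m = m ∧ ρ s m = m} :=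
        Nat.card_congr (Equiv.subtypeEquivRight fun m => by
          rw [← mul_assoc, map_mul ρ (r * r) s, Module.End.mul_apply]
          constructor
          · rintro ⟨k1, k2⟩
            refine ⟨k1, ?_⟩
            have k3 := congrArg (ρ (r * r)) k2
            rw [← Module.End.mul_apply, ← map_mul, hr, map_one, k1] at k3
            exact k3
          · rintro ⟨k1, k2⟩; rw [k2]; exact ⟨k1, k1⟩)
      exact ⟨h16, Or.inl ⟨hconv ▸ h2, by omega⟩⟩
  -- the two four-groups
  let T : Bool → Finset (DihedralGroup 4) := fun t => if t then {1, DihedralGroup.r 2, DihedralGroup.sr 0, DihedralGroup.sr 2}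
    else {1, DihedralGroup.r 2, DihedralGroup.sr 1, DihedralGroup.sr 3}
  have hT : ∀ t, (T t).card = 4 ∧ (∀ x ∈ T t, x * x = 1) ∧ (∀ x ∈ T t, ∀ y ∈ T t, x * y ∈ T t) ∧
      (∀ x ∈ T t, x⁻¹ ∈ T t) ∧ 1 ∈ T t := by decide
  let K : Bool → Subgroup (DihedralGroup 4) := fun t =>
    { carrier := ↑(T t)
      one_mem' := (hT t).2.2.2.2
      mul_mem' := fun {x y} hx hy => (hT t).2.2.1 x hx y hy
      inv_mem' := fun {x} hx => (hT t).2.2.2.1 x hx }
  have hTz : ∀ t, DihedralGroup.r 1 * DihedralGroup.r 1 ∈ T t := by decide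
  let B : Bool → Subgroup S := fun t => (K t).map φ
  have hBfix : ∀ t, Nat.card {m : M // ∀ g ∈ B t, ρ g m = m} =
      Nat.card {m : M // ρ (r * r) m = m ∧ ρ (if t then s else r * s) m = m} := by
    intro t
    refine Nat.card_congr (Equiv.subtypeEquivRight fun m => ⟨fun h => ⟨h _ ?_, h _ ?_⟩, ?_⟩)
    · rw [hrdef, ← map_mul]; refine Subgroup.mem_map_of_mem φ ?_
      show _ ∈ T t
      exact hTz t
    · rw [hrdef, hsdef]
      cases t <;> simp only [Bool.false_eq_true, if_false, if_true, ← map_mul] <;> refine Subgroup.mem_map_of_mem φ ?_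
      · show _ ∈ T false; decide
      · show _ ∈ T true; decide
    · rintro ⟨k1, k2⟩ _ ⟨x, hx, rfl⟩
      have hx' : x ∈ T t := hx
      have hzz : ∀ t : Bool, ∀ x ∈ T t, x = 1 ∨ x = DihedralGroup.r 1 * DihedralGroup.r 1 ∨
          x = (if t then DihedralGroup.sr 0 else DihedralGroup.r 1 * DihedralGroup.sr 0) ∨
          x = DihedralGroup.r 1 * DihedralGroup.r 1 * (if t then DihedralGroup.sr 0 else DihedralGroup.r 1 * DihedralGroup.sr 0) := by decide
      have hphi : φ (if t then DihedralGroup.sr 0 else DihedralGroup.r 1 * DihedralGroup.sr 0) = if t then s else r * s := by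
        cases t <;> simp only [Bool.false_eq_true, if_false, if_true, map_mul, hrdef, hsdef]
      rcases hzz t x hx' with rfl | rfl | rfl | rfl
      · simp
      · rw [map_mul]; exact k1
      · rw [hphi]; exact k2
      · rw [map_mul φ, map_mul φ, hphi, map_mul ρ, Module.End.mul_apply, k2]; exact k1
  refine ⟨hmain.1, ?_⟩
  obtain ⟨t, htg, htb⟩ : ∃ t, Nat.card {m : M // ∀ g ∈ B t, ρ g m = m} = 2 ∧
      Nat.card {m : M // ∀ g ∈ B (!t), ρ g m = m} ≠ 2 := by
    simp only [hBfix]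
    rcases hmain.2 with ⟨g1, g2⟩ | ⟨g1, g2⟩
    · exact ⟨true, g1, g2⟩
    · exact ⟨false, g1, g2⟩
  refine ⟨B t, ⟨?_, ?_, ?_, htg⟩, ?_⟩
  · rintro _ ⟨x, -, rfl⟩; exact hφX x
  · rw [Subgroup.card_map_of_injective hφi]
    show Nat.card {x // x ∈ T t} = 4
    rw [Nat.card_eq_fintype_card, Fintype.card_coe]; exact (hT t).1
  · rintro _ ⟨x, hx, rfl⟩; rw [pow_two, ← map_mul, (hT t).2.1 x hx, map_one]
  · rintro B' ⟨hB'X, hB'4, hB'2, hB'fix⟩
    let U := Finset.univ.filter fun x => φ x ∈ B'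
    have hU : U.card = 4 := by
      rw [← Fintype.card_coe, ← Nat.card_eq_fintype_card]
      refine Eq.trans ?_ hB'4
      refine Nat.card_congr (Equiv.ofBijective (fun x => ⟨φ x, (Finset.mem_filter.1 x.2).2⟩) ⟨?_, ?_⟩)
      · intro x y h
        have h' := congrArg (fun z : ↥B' => (z : S)) h
        exact Subtype.ext (hφi h')
      · rintro ⟨g, hg⟩
        obtain ⟨x, rfl⟩ := hφs g (hB'X hg)
        exact ⟨⟨x, Finset.mem_filter.2 ⟨Finset.mem_univ _, hg⟩⟩, rfl⟩
    have hdec : ∀ U ∈ (Finset.univ : Finset (DihedralGroup 4)).powersetCard 4, (∀ x ∈ U, x * x = 1) →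
        (∀ x ∈ U, ∀ y ∈ U, x * y ∈ U) → U = T true ∨ U = T false := by decide +kernel
    obtain ⟨t', ht'⟩ : ∃ t', U = T t' := by
      rcases hdec U (Finset.mem_powersetCard.2 ⟨Finset.subset_univ _, hU⟩)
        (fun x hx => hφi (by rw [map_mul, map_one, ← pow_two]; exact hB'2 _ (Finset.mem_filter.1 hx).2))
        (fun x hx y hy => Finset.mem_filter.2 ⟨Finset.mem_univ _, by
          rw [map_mul]; exact mul_mem (Finset.mem_filter.1 hx).2 (Finset.mem_filter.1 hy).2⟩) with h | h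
      · exact ⟨true, h⟩
      · exact ⟨false, h⟩
    have hBB : B' = B t' := by
      ext g
      constructor
      · intro hg
        obtain ⟨x, rfl⟩ := hφs g (hB'X hg)
        refine Subgroup.mem_map_of_mem φ ?_
        show x ∈ T t'
        rw [← ht']; exact Finset.mem_filter.2 ⟨Finset.mem_univ _, hg⟩
      · rintro ⟨x, hx, rfl⟩
        have : x ∈ U := by rw [ht']; exact hx
        exact (Finset.mem_filter.1 this).2
    rcases Bool.eq_or_eq_not t' t with h | h
    · rw [hBB, h]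
    · rw [hBB, h] at hB'fix
      exact absurd hB'fix htb

end Cfsg.Agent.S4407
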