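import Cfsg.Statements.S4408
import Cfsg.Agent.Lib.Solvable.EigenChain
-- import your own Cfsg.Agent.* helpers here

set_option autoImplicit false
open Cfsg

namespace Cfsg.Agent.S4408

/-- Let S be a finite solvable group whose Fitting subgroup F(S) has odd order, and let I be an elementary abelian 2-subgroup of S of order 2ⁿ with n ≥ 1. Then F(S) contains subgroups A₁, …, Aₙ of prime order, each normalized by I, pairwise commuting and generating a subgroup A of order |A₁|⋯|Aₙ| (their internal direct product), such that no non-identity element of I centralizes A. -/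
theorem result {S : Type*} [Group S] [Finite S]
    [Group.IsSolvable S] (hF : Odd (Nat.card ↥(Cfsg.fittingSubgroup S)))
    (I : Subgroup S) (hI : Cfsg.IsElementaryAbelian 2 I) (n : ℕ) (hn : 1 ≤ n) (hIn : Nat.card ↥I = 2 ^ n) :
    ∃ f : Fin n → Subgroup S, (∀ i, (Nat.card ↥(f i)).Prime) ∧ (∀ i, f i ≤ Cfsg.fittingSubgroup S) ∧
      (∀ i, I ≤ Subgroup.normalizer ((f i) : Set S)) ∧ (∀ i j, i ≠ j → ∀ a ∈ f i, ∀ b ∈ f j, a * b = b * a) ∧
      Nat.card ↥(⨆ i, f i) = ∏ i, Nat.card ↥(f i) ∧ I ⊓ Subgroup.centralizer ((⨆ i, f i : Subgroup S) : Set S) = ⊥ := by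
  classical
  have hfn := CfsgLib.Fitting.fitting_normal (G := S)
  have hIN : I ≤ Subgroup.normalizer ((Cfsg.fittingSubgroup S : Subgroup S) : Set S) := by
    rw [Subgroup.normalizer_eq_top]; exact le_top
  have hfaith : ∀ u ∈ I, (∀ x ∈ Cfsg.fittingSubgroup S, u * x = x * u) → u = 1 := by
    intro u hu h
    have huF : u ∈ Cfsg.fittingSubgroup S :=
      CfsgLib.Fitting.centralizer_fitting_le (Subgroup.mem_centralizer_iff.2 fun x hx => (h x hx).symm)
    have h1 := orderOf_dvd_of_pow_eq_one (hI.2 u hu)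
    have h2 := Subgroup.orderOf_dvd_natCard _ huF
    rcases (Nat.dvd_prime Nat.prime_two).1 h1 with h' | h'
    · exact orderOf_eq_one_iff.1 h'
    · rw [h'] at h2; exact absurd (even_iff_two_dvd.2 h2) (Nat.not_even_iff_odd.2 hF)
  obtain ⟨f, h1, h2, h3, -, h5, h6, h7⟩ := CfsgLib.Solvable.EigenChain.exists_chain hI n I
    (Cfsg.fittingSubgroup S) ⊥ le_rfl hIn hIN CfsgLib.Fitting.fitting_isNilpotent hF bot_le
    (fun a ha x _ => by rw [Subgroup.mem_bot.1 ha]; simp)
    (fun u _ a ha => by rw [Subgroup.mem_bot.1 ha]; simp) hfaith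
  exact ⟨f, h1, h2, h3, h5, by simpa using h6, h7⟩

end Cfsg.Agent.S4408
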