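import Cfsg.Statements.S4410
import Cfsg.Agent.Lib.Solvable.Fitting
-- import your own Cfsg.Agent.* helpers here

set_option autoImplicit false
open Cfsg

namespace Cfsg.Agent.S4410

open Subgroup CfsgLib.Fitting

theorem one_apply' {V : Type*} [AddCommGroup V] [Module (ZMod 2) V] (v : V) : (1 : V ≃ₗ[ZMod 2] V) v = v := rfl

theorem add_self_eq_zero' {V : Type*} [AddCommGroup V] [Module (ZMod 2) V] (v : V) : v + v = 0 := by
  rw [← two_smul (ZMod 2) v, show (2 : ZMod 2) = 0 from rfl, zero_smul]

theorem sub_eq_add' {V : Type*} [AddCommGroup V] [Module (ZMod 2) V] (v w : V) : v - w = v + w := by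
  rw [sub_eq_add_neg]; congr 1
  exact neg_eq_of_add_eq_zero_left (add_self_eq_zero' w)

variable {V : Type*} [AddCommGroup V] [Module (ZMod 2) V] [Finite V]

/-- An element of odd prime order moving every vector inside a set `{0, a, b, a + b}` has order three,
and moves `a`, `b`, `a + b` cyclically. -/
theorem three (x : V ≃ₗ[ZMod 2] V) {q : ℕ} (hq : q.Prime) (hq2 : q ≠ 2) (hx : orderOf x = q)
    (a b : V) (ha : a ≠ 0) (hK : ∀ v, x v - v = 0 ∨ x v - v = a ∨ x v - v = b ∨ x v - v = a + b) :
    q = 3 ∧ x a ≠ a ∧ ∃ v, x v - v = a := by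
  classical
  set K : Finset V := ({a, b, a + b} : Finset V).erase 0 with hKdef
  have hK3 : K.card ≤ 3 := (Finset.card_erase_le).trans Finset.card_le_three
  obtain ⟨v, hv⟩ : ∃ v, x v ≠ v := by
    by_contra h; push Not at h
    rw [show x = 1 from LinearEquiv.ext h, orderOf_one] at hx
    exact hq.ne_one hx.symm
  set w := x v - v with hw
  have hw0 : w ≠ 0 := sub_ne_zero.2 hv
  have hpow : ∀ (i : ℕ) (u : V), (x ^ i) (x u) = x ((x ^ i) u) := fun i u => by
    rw [← LinearEquiv.mul_apply, ← LinearEquiv.mul_apply, ← pow_succ, ← pow_succ']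
  have hmem : ∀ i : ℕ, (x ^ i) w ∈ K := by
    intro i
    have h0 : (x ^ i) w ≠ 0 := fun h => hw0 ((x ^ i).map_eq_zero_iff.1 h)
    rw [hKdef, Finset.mem_erase]
    refine ⟨h0, ?_⟩
    have e : (x ^ i) w = x ((x ^ i) v) - (x ^ i) v := by rw [hw, map_sub, hpow]
    rcases hK ((x ^ i) v) with h | h | h | h
    · exact absurd (e.trans h) h0
    all_goals simp [e, h]
  have hwx : x w ≠ w := by
    intro h
    have hi : ∀ i : ℕ, (x ^ i) v = v + i • w := by
      intro i
      induction i with
      | zero => simp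
      | succ i ih =>
        rw [pow_succ', LinearEquiv.mul_apply, ih, map_add, map_nsmul, h, succ_nsmul',
          show x v = v + w by rw [hw]; abel, add_assoc]
    have h1 := hi q
    rw [← hx, pow_orderOf_eq_one, hx, one_apply'] at h1
    obtain ⟨k, hk⟩ := hq.odd_of_ne_two hq2
    rw [hk, add_nsmul, mul_comm 2 k, mul_nsmul, two_nsmul] at h1
    rw [← add_nsmul, ← two_mul, mul_comm 2 k, mul_nsmul] at h1
    simp [two_nsmul, add_self_eq_zero'] at h1
    exact hw0 h1
  have hinj : ∀ i < q, ∀ j < q, (x ^ i) w = (x ^ j) w → i = j := by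
    have aux : ∀ i j, i ≤ j → j < q → (x ^ i) w = (x ^ j) w → i = j := by
      intro i j hij hj h
      by_contra hne
      have e : (x ^ (j - i)) w = w := by
        apply (x ^ i).injective
        rw [← LinearEquiv.mul_apply, ← pow_add, show i + (j - i) = j by omega, h]
      have hco : Nat.Coprime (j - i) q :=
        (Nat.coprime_comm.1 (hq.coprime_iff_not_dvd.2 (Nat.not_dvd_of_pos_of_lt (by omega) (by omega))))
      have hxm : x ∈ zpowers (x ^ (j - i)) := by
        obtain ⟨m, hm⟩ := exists_pow_eq_self_of_coprime (hx ▸ hco : Nat.Coprime (j - i) (orderOf x))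
        rw [mem_zpowers_iff]; exact ⟨m, by rw [zpow_natCast, hm]⟩
      apply hwx
      have hstab : zpowers (x ^ (j - i)) ≤ MulAction.stabilizer (V ≃ₗ[ZMod 2] V) w := zpowers_le.2 e
      exact hstab hxm
    intro i hi j hj h
    rcases le_total i j with h' | h'
    · exact aux i j h' hj h
    · exact (aux j i h' hi h.symm).symm
  have hle : q ≤ K.card := by
    have := Finset.card_le_card_of_injOn (s := Finset.range q) (fun i => (x ^ i) w)
      (fun i _ => hmem i) (fun i hi j hj h => hinj i (Finset.mem_range.1 hi) j (Finset.mem_range.1 hj) h)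
    simpa using this
  have hq3 : q = 3 := by
    have := hq.two_le; omega
  have himg : (Finset.range 3).image (fun i => (x ^ i) w) = K := by
    refine Finset.eq_of_subset_of_card_le (fun u hu => ?_) ?_
    · obtain ⟨i, -, rfl⟩ := Finset.mem_image.1 hu; exact hmem i
    · rw [Finset.card_image_of_injOn (fun i hi j hj h => hinj i (by simpa [hq3] using hi) j (by simpa [hq3] using hj) h),
        Finset.card_range]
      exact hK3
  have haK : a ∈ K := by simp [hKdef, ha]
  rw [← himg, Finset.mem_image] at haK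
  obtain ⟨i, hi, rfl⟩ := haK
  refine ⟨hq3, fun h => ?_, (x ^ i) v, by rw [hw, map_sub, hpow]⟩
  apply hwx
  apply (x ^ i).injective
  rw [hpow]; exact h

/-- Let V be a finite-dimensional vector space over the field with two elements and S a solvable group of linear automorphisms of V with O₂(S) = 1. If P ∈ S has order 4 and (P − 1)³ = 0 on V, then the image of (P − 1)² has at least 4 elements; equivalently, in the decomposition of V into indecomposable modules for the cyclic group generated by P, at least two summands have dimension 3. -/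
theorem result
    {V : Type*} [AddCommGroup V] [Module (ZMod 2) V] [Finite V]
    (S : Subgroup (V ≃ₗ[ZMod 2] V)) (hS : Group.IsSolvable ↥S) (hO2 : Cfsg.pCore 2 ↥S = ⊥)
    (P : V ≃ₗ[ZMod 2] V) (hPS : P ∈ S) (hP4 : orderOf P = 4)
    (hcub : ((P : V →ₗ[ZMod 2] V) - LinearMap.id) ^ 3 = 0) :
    4 ≤ Nat.card ↥(LinearMap.range (((P : V →ₗ[ZMod 2] V) - LinearMap.id) ^ 2)) := by
  classical
  by_contra hlt
  push Not at hlt
  set D : V →ₗ[ZMod 2] V := (P : V →ₗ[ZMod 2] V) - LinearMap.id with hD
  have hDv : ∀ v, D v = P v + v := fun v => by simp [hD, sub_eq_add']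
  set t := P * P with htdef
  have ht_eq : t = P ^ 2 := (pow_two P).symm
  have htS : t ∈ S := mul_mem hPS hPS
  have hto : orderOf t = 2 := by
    refine orderOf_eq_prime ?_ ?_
    · rw [ht_eq, ← pow_mul]; exact (congrArg (P ^ ·) hP4.symm).trans (pow_orderOf_eq_one P)
    · intro h
      rw [ht_eq] at h
      have := orderOf_dvd_of_pow_eq_one h
      rw [hP4] at this
      norm_num at this
  have ht1 : t ≠ 1 := fun h => by rw [h, orderOf_one] at hto; omega
  have htt : t * t = 1 := by
    rw [← pow_two]; exact (congrArg (t ^ ·) hto.symm).trans (pow_orderOf_eq_one t)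
  have htv : ∀ v, t v - v = (D ^ 2) v := by
    intro v
    rw [pow_two D, Module.End.mul_apply, hDv, hDv, map_add, htdef, LinearEquiv.mul_apply, sub_eq_add']
    have e : P (P v) + P v + (P v + v) = P (P v) + v + (P v + P v) := by abel
    rw [e, add_self_eq_zero', add_zero]
  obtain ⟨a, ha, hrange⟩ : ∃ a : V, a ≠ 0 ∧ ∀ v, (D ^ 2) v = 0 ∨ (D ^ 2) v = a := by
    obtain ⟨v0, hv0⟩ : ∃ v, (D ^ 2) v ≠ 0 := by
      by_contra h; push Not at h
      exact ht1 (LinearEquiv.ext fun v => sub_eq_zero.1 ((htv v).trans (h v)))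
    refine ⟨(D ^ 2) v0, hv0, fun v => ?_⟩
    by_contra h; push Not at h
    have hc2 : Nat.card ↥(LinearMap.range (D ^ 2)) ∣ Nat.card V :=
      AddSubgroup.card_addSubgroup_dvd_card (LinearMap.range (D ^ 2)).toAddSubgroup
    let f : Fin 4 → ↥(LinearMap.range (D ^ 2)) := ![0, ⟨_, v0, rfl⟩, ⟨_, v, rfl⟩, ⟨_, v0 + v, rfl⟩]
    have hinj : Function.Injective f := by
      intro i j hij
      have hs : (D ^ 2) (v0 + v) = (D ^ 2) v0 + (D ^ 2) v := map_add _ _ _
      have h3 : (D ^ 2) v0 + (D ^ 2) v ≠ 0 := fun e =>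
        h.2 ((neg_eq_of_add_eq_zero_right e).symm.trans (neg_eq_of_add_eq_zero_left (add_self_eq_zero' _)))
      have hij' := congrArg Subtype.val hij
      have h2' : (D ^ 2) v ≠ (D ^ 2) v0 := h.2
      have hval : ∀ m, (f m : V) = ![0, (D ^ 2) v0, (D ^ 2) v, (D ^ 2) v0 + (D ^ 2) v] m := by
        intro m; fin_cases m <;> simp [f, hs]
      rw [hval, hval] at hij'
      have e1 : (D ^ 2) v0 ≠ (D ^ 2) v0 + (D ^ 2) v := fun e => h.1 (left_eq_add.1 e)
      have e2 : (D ^ 2) v ≠ (D ^ 2) v0 + (D ^ 2) v := fun e => hv0 (right_eq_add.1 e)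
      fin_cases i <;> fin_cases j
      all_goals first
        | rfl
        | exact absurd hij' hv0 | exact absurd hij'.symm hv0
        | exact absurd hij' h.1 | exact absurd hij'.symm h.1
        | exact absurd hij' h3 | exact absurd hij'.symm h3
        | exact absurd hij' h2' | exact absurd hij'.symm h2'
        | exact absurd hij' e1 | exact absurd hij'.symm e1
        | exact absurd hij' e2 | exact absurd hij'.symm e2
    have := Nat.card_le_card_of_injective f hinj
    rw [Nat.card_fin] at this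
    omega
  have hPa : P a = a := by
    obtain ⟨v, hv⟩ : ∃ v, (D ^ 2) v = a := by
      by_contra h; push Not at h
      exact ht1 (LinearEquiv.ext fun v => sub_eq_zero.1 ((htv v).trans ((hrange v).resolve_right (h v))))
    have h3 : (D ^ 3) v = 0 := by rw [hcub]; rfl
    rw [pow_succ', Module.End.mul_apply, hv, hDv, ← sub_eq_add', sub_eq_zero] at h3
    exact h3
  have htK : ∀ v, t v - v = 0 ∨ t v - v = a := fun v => by rw [htv]; exact hrange v
  -- the Fitting subgroup
  haveI : Fintype V := Fintype.ofFinite V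
  haveI : Finite (V ≃ₗ[ZMod 2] V) := Finite.of_injective (fun e : V ≃ₗ[ZMod 2] V => e.toEquiv) LinearEquiv.toEquiv_injective
  haveI := hS
  haveI : Fact (Nat.Prime 2) := ⟨Nat.prime_two⟩
  set F := Cfsg.fittingSubgroup ↥S with hF
  haveI hFn : F.Normal := fitting_normal
  have hFodd : ∀ f ∈ F, f ^ 2 = 1 → f = 1 := by
    intro f hf hf2
    have hp : IsPGroup 2 (zpowers (⟨f, hf⟩ : F)) := IsPGroup.of_card (n := (orderOf f).log 2) ?_
    swap
    · have hd := orderOf_dvd_of_pow_eq_one hf2
      rw [Nat.card_zpowers, Subgroup.orderOf_mk]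
      rcases (Nat.dvd_prime Nat.prime_two).1 hd with h | h <;> rw [h] <;> norm_num [Nat.log]
    obtain ⟨R, hR⟩ := hp.exists_le_sylow
    have h := sylow_fitting_eq_pCore R
    rw [hO2] at h
    have : f ∈ (R : Subgroup F).map F.subtype := ⟨_, hR (mem_zpowers _), rfl⟩
    rw [h] at this
    exact mem_bot.1 this
  set tS : ↥S := ⟨t, htS⟩ with htSdef
  have htS2 : tS * tS = 1 := Subtype.ext htt
  obtain ⟨y, hy, hyt⟩ : ∃ y ∈ F, y * tS ≠ tS * y := by
    by_contra h; push Not at h
    have htF : tS ∈ F := centralizer_fitting_le (mem_centralizer_iff.2 fun y hy => h y hy)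
    exact ht1 (congrArg Subtype.val (hFodd tS htF (by rw [pow_two]; exact htS2)))
  -- an element of F inverted by t
  set z := y⁻¹ * (tS * y * tS⁻¹) with hz
  have htinv : tS⁻¹ = tS := inv_eq_of_mul_eq_one_right htS2
  have hzF : z ∈ F := mul_mem (inv_mem hy) (hFn.conj_mem y hy tS)
  have hz1 : z ≠ 1 := fun h => hyt (by
    have := inv_mul_eq_one.1 h
    calc y * tS = tS * y * tS⁻¹ * tS := by rw [← this]
      _ = tS * y := by group)
  have hzinv : tS * z * tS⁻¹ = z⁻¹ := by
    rw [hz, htinv]
    calc tS * (y⁻¹ * (tS * y * tS)) * tS = tS * y⁻¹ * tS * y * (tS * tS) := by group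
      _ = (tS * tS) * (tS * y⁻¹ * tS * y) := by rw [htS2, one_mul, mul_one]
      _ = _ := by rw [htS2]; group; simp [htinv, mul_assoc]
  obtain ⟨q, hq, hqz⟩ := Nat.exists_prime_and_dvd (n := orderOf z) (orderOf_eq_one_iff.not.2 hz1)
  set xS := z ^ (orderOf z / q) with hxS
  have hxq : orderOf xS = q := orderOf_pow_orderOf_div (orderOf_pos z).ne' hqz
  have hxF : xS ∈ F := pow_mem hzF _
  have hxinv : tS * xS * tS⁻¹ = xS⁻¹ := by
    rw [hxS, ← inv_pow, ← hzinv]; exact (conj_pow).symm
  have hq2 : q ≠ 2 := by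
    intro h
    have : xS = 1 := hFodd xS hxF ((congrArg (xS ^ ·) (hxq.trans h).symm).trans (pow_orderOf_eq_one xS))
    rw [this, orderOf_one] at hxq
    exact hq.ne_one hxq.symm
  obtain ⟨k, hk⟩ := hq.odd_of_ne_two hq2
  set u := xS ^ (k + 1) with hu
  have hu2 : u * u = xS := by
    rw [hu, ← pow_add, show k + 1 + (k + 1) = q + 1 by omega, pow_succ, ← hxq, pow_orderOf_eq_one, one_mul]
  have huinv : tS * u * tS⁻¹ = u⁻¹ := by
    rw [hu, ← inv_pow, ← hxinv]; exact (conj_pow).symm
  have hconj : tS * xS = u⁻¹ * tS * u := by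
    calc tS * xS = (tS * u * tS⁻¹) * tS * u := by rw [← hu2]; group
      _ = _ := by rw [huinv]
  set x : V ≃ₗ[ZMod 2] V := (xS : V ≃ₗ[ZMod 2] V) with hx
  set g : V ≃ₗ[ZMod 2] V := (u : V ≃ₗ[ZMod 2] V) with hg
  set b := g⁻¹ a
  have hxK : ∀ v, x v - v = 0 ∨ x v - v = a ∨ x v - v = b ∨ x v - v = a + b := by
    intro v
    have e : x = t * (g⁻¹ * t * g) := by
      have : (tS * (tS * xS) : ↥S) = tS * (u⁻¹ * tS * u) := by rw [hconj]
      rw [← mul_assoc, htS2, one_mul] at this
      exact congrArg Subtype.val this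
    set v' := (g⁻¹ * t * g) v with hv'
    have h1 : x v - v = (t v' - v') + (v' - v) := by rw [e, LinearEquiv.mul_apply]; abel
    have h2 : v' - v = g⁻¹ (t (g v) - g v) := by
      rw [map_sub, hv', LinearEquiv.mul_apply, LinearEquiv.mul_apply]
      congr 1
      show v = (g⁻¹ * g) v
      rw [inv_mul_cancel]; rfl
    rcases htK v' with h3 | h3 <;> rcases htK (g v) with h4 | h4 <;> rw [h1, h2, h3, h4] <;> simp [b]
  have hxo : orderOf x = q := by rw [hx, orderOf_coe, hxq]
  obtain ⟨hq3, hxa, va, hva⟩ := three x hq hq2 hxo a b ha hxK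
  subst hq3
  -- the conjugate under P
  set PS : ↥S := ⟨P, hPS⟩
  set x' := P * x * P⁻¹ with hx'
  have hpP : ∀ w, P⁻¹ (P w) = w := fun w => by
    rw [← LinearEquiv.mul_apply, inv_mul_cancel]; rfl
  have hx'K : ∀ v, x' v - v = 0 ∨ x' v - v = a ∨ x' v - v = P b ∨ x' v - v = a + P b := by
    intro v
    have e : x' v - v = P (x (P⁻¹ v) - P⁻¹ v) := by
      rw [map_sub, hx', LinearEquiv.mul_apply, LinearEquiv.mul_apply]
      congr 1
      show v = (P * P⁻¹) v
      rw [mul_inv_cancel]; rfl
    rcases hxK (P⁻¹ v) with h | h | h | h <;> rw [e, h] <;> simp [hPa]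
  have hx'o : orderOf x' = 3 := by
    rw [hx', show P * x * P⁻¹ = MulAut.conj P x from rfl, MulEquiv.orderOf_eq, hxo]
  obtain ⟨-, hx'a, va', hva'⟩ := three x' (by norm_num) (by norm_num) hx'o a (P b) ha hx'K
  -- a 3-group containing x and x'
  haveI : Fact (Nat.Prime 3) := ⟨Nat.prime_three⟩
  have hxx : ∀ f ∈ F, orderOf f = 3 → f ∈ Cfsg.pCore 3 ↥S := by
    intro f hf hfo
    have hp : IsPGroup 3 (zpowers (⟨f, hf⟩ : F)) := IsPGroup.of_card (n := 1) (by
      rw [Nat.card_zpowers, pow_one, Subgroup.orderOf_mk, hfo])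
    obtain ⟨R, hR⟩ := hp.exists_le_sylow
    rw [← sylow_fitting_eq_pCore R]
    exact ⟨_, hR (mem_zpowers _), rfl⟩
  set H := closure ({x, x'} : Set (V ≃ₗ[ZMod 2] V)) with hH
  have hH3 : IsPGroup 3 H := by
    refine ((pCore_isPGroup (G := ↥S) 3).map S.subtype).to_le ((closure_le _).2 ?_)
    rintro w (rfl | rfl)
    · exact ⟨xS, hxx _ hxF hxq, rfl⟩
    · refine ⟨PS * xS * PS⁻¹, hxx _ (hFn.conj_mem _ hxF PS) ?_, rfl⟩
      rw [← hxq]; exact MulEquiv.orderOf_eq (MulAut.conj PS) xS
  set U : Submodule (ZMod 2) V := Submodule.span (ZMod 2) {a, b, P b}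
  have hab : ∀ w ∈ ({a, b, P b} : Set V), w ∈ U := fun w hw => Submodule.subset_span hw
  have hmove : ∀ h ∈ H, ∀ v, h v - v ∈ U := by
    intro h hh
    induction hh using closure_induction with
    | mem w hw =>
      intro v
      rcases hw with rfl | rfl
      · rcases hxK v with h | h | h | h <;> rw [h]
        · exact zero_mem U
        · exact hab a (by simp)
        · exact hab b (by simp)
        · exact add_mem (hab a (by simp)) (hab b (by simp))
      · rcases hx'K v with h | h | h | h <;> rw [h]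
        · exact zero_mem U
        · exact hab a (by simp)
        · exact hab (P b) (by simp)
        · exact add_mem (hab a (by simp)) (hab (P b) (by simp))
    | one => intro v; simp
    | mul h₁ h₂ _ _ i₁ i₂ =>
      intro v
      rw [LinearEquiv.mul_apply, show h₁ (h₂ v) - v = (h₁ (h₂ v) - h₂ v) + (h₂ v - v) by abel]
      exact add_mem (i₁ _) (i₂ _)
    | inv h _ i =>
      intro v
      have e : h⁻¹ v - v = -(h (h⁻¹ v) - h⁻¹ v) := by
        rw [neg_sub, ← LinearEquiv.mul_apply, mul_inv_cancel]; rfl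
      rw [e]; exact neg_mem (i _)
  -- a group element of H acting trivially on a set containing all its displacements is trivial
  have htriv : ∀ h ∈ H, (∀ v, h (h v - v) = h v - v) → h = 1 := by
    intro h hh hfix
    have h2 : h ^ 2 = 1 := by
      refine LinearEquiv.ext fun v => ?_
      have := hfix v
      rw [map_sub] at this
      rw [pow_two, LinearEquiv.mul_apply, one_apply']
      have e : h (h v) = h v - v + h v := by rw [← this]; abel
      rw [e, sub_eq_add', show h v + v + h v = v + (h v + h v) by abel, add_self_eq_zero', add_zero]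
    obtain ⟨m, hm⟩ := hH3 ⟨h, hh⟩
    have e3 : h ^ 3 ^ m = 1 := congrArg Subtype.val hm
    obtain ⟨r, hr⟩ := Odd.pow (n := m) (show Odd 3 by decide)
    rwa [hr, pow_succ, pow_mul, h2, one_pow, one_mul] at e3
  have hHU : ∀ h ∈ H, ∀ w ∈ U, h w ∈ U := fun h hh w hw => by
    have := add_mem (hmove h hh w) hw
    rwa [sub_add_cancel] at this
  have hU8 : Nat.card U ≤ 8 := by
    have : Nat.card U ≤ Nat.card (Fin 3 → ZMod 2) := by
      refine Nat.card_le_card_of_surjective (fun c => ⟨c 0 • a + c 1 • b + c 2 • P b, ?_⟩) ?_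
      · exact add_mem (add_mem (U.smul_mem _ (hab _ (by simp))) (U.smul_mem _ (hab _ (by simp))))
          (U.smul_mem _ (hab _ (by simp)))
      · rintro ⟨w, hw⟩
        obtain ⟨c₀, w₁, hw₁, rfl⟩ := Submodule.mem_span_insert.1 hw
        obtain ⟨c₁, w₂, hw₂, rfl⟩ := Submodule.mem_span_insert.1 hw₁
        obtain ⟨c₂, rfl⟩ := Submodule.mem_span_singleton.1 hw₂
        exact ⟨![c₀, c₁, c₂], Subtype.ext (by simp [add_assoc])⟩
    simpa using this
  have hHcomm : ∀ h₁ ∈ H, ∀ h₂ ∈ H, h₁ * h₂ = h₂ * h₁ := by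
    let act : H →* Equiv.Perm {w : U // w ≠ 0} :=
      { toFun := fun h =>
          { toFun := fun w => ⟨⟨(h : V ≃ₗ[ZMod 2] V) (w.1 : V), hHU h h.2 _ w.1.2⟩, fun e => w.2 (Subtype.ext
              ((LinearEquiv.map_eq_zero_iff _).1 (congrArg Subtype.val e)))⟩
            invFun := fun w => ⟨⟨(h⁻¹ : H).1 (w.1 : V), hHU _ (h⁻¹).2 _ w.1.2⟩, fun e => w.2 (Subtype.ext
              ((LinearEquiv.map_eq_zero_iff _).1 (congrArg Subtype.val e)))⟩
            left_inv := fun w => by
              apply Subtype.ext; apply Subtype.ext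
              show ((h⁻¹ : H) * h : H).1 (w.1 : V) = w.1
              rw [inv_mul_cancel]; rfl
            right_inv := fun w => by
              apply Subtype.ext; apply Subtype.ext
              show (h * (h⁻¹ : H) : H).1 (w.1 : V) = w.1
              rw [mul_inv_cancel]; rfl }
        map_one' := by ext w; rfl
        map_mul' := fun h₁ h₂ => by ext w; rfl }
    have hact : Function.Injective act := by
      rw [injective_iff_map_eq_one]
      intro h hh
      apply Subtype.ext
      refine htriv h h.2 fun v => ?_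
      rcases eq_or_ne ((h : V ≃ₗ[ZMod 2] V) v - v) 0 with e | e
      · rw [e, map_zero]
      · have := congrArg (fun σ => ((σ ⟨⟨_, hmove h h.2 v⟩, fun e' => e (congrArg Subtype.val e')⟩).1 : V)) hh
        exact this
    haveI : Fintype U := Fintype.ofFinite U
    have hc : Nat.card {w : U // w ≠ 0} ≤ 7 := by
      rw [Nat.card_eq_fintype_card, Fintype.card_subtype_compl, Fintype.card_subtype_eq]
      rw [Nat.card_eq_fintype_card] at hU8
      omega
    have hd := Subgroup.card_dvd_of_injective act hact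
    rw [Nat.card_perm] at hd
    have h7 : Nat.card H ∣ 5040 := hd.trans (Nat.factorial_dvd_factorial hc)
    obtain ⟨m, hm⟩ := IsPGroup.iff_card.1 hH3
    have hm2 : m ≤ 2 := by
      by_contra hh
      have h27 : 3 ^ 3 ∣ 5040 := (pow_dvd_pow 3 (by omega)).trans (hm ▸ h7)
      norm_num at h27
    intro h₁ hh₁ h₂ hh₂
    have hcomm : IsMulCommutative H := by
      interval_cases m
      · have := (Nat.card_eq_one_iff_unique.1 (hm.trans (pow_zero 3))).1
        exact ⟨⟨fun a b => Subsingleton.elim _ _⟩⟩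
      · haveI := isCyclic_of_prime_card (α := H) (p := 3) (by simpa using hm)
        infer_instance
      · exact ⟨⟨fun a b => IsPGroup.commutative_of_card_eq_prime_sq hm a b⟩⟩
    exact congrArg Subtype.val (hcomm.1.1 ⟨h₁, hh₁⟩ ⟨h₂, hh₂⟩)
  have hxH : x ∈ H := subset_closure (by simp)
  have hx'H : x' ∈ H := subset_closure (by simp)
  have hcxx := hHcomm x hxH x' hx'H
  -- the two planes coincide
  have hx3 : x * x * x = 1 := by
    rw [← pow_two, ← pow_succ]
    exact (congrArg (x ^ ·) hxo.symm).trans (pow_orderOf_eq_one x)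
  have hx'set : x a - a ≠ 0 := sub_ne_zero.2 hxa
  obtain ⟨hb, hdisp⟩ : (b = a ∨ b = x a ∨ b = x (x a)) ∧ ∀ w, x w - w ∈ ({0, a, x a, x (x a)} : Set V) := by
    have hxa2 : x (x a) ≠ a := fun e => hxa (by
      have h3 : x (x (x a)) = a := by
        show (x * x * x) a = a
        rw [hx3]; rfl
      rwa [e] at h3)
    have hne : x a ≠ x (x a) := fun e => hxa (x.injective e).symm
    have hsub : ∀ u, u = a ∨ u = x a ∨ u = x (x a) → u ∈ ({a, b, a + b} : Finset V) := by
      intro u hu
      have hd : ∀ w, x w - w ≠ 0 → x w - w ∈ ({a, b, a + b} : Finset V) := fun w hw => by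
        rcases hxK w with h | h | h | h <;> simp [h] at hw ⊢
      have k1 : x a = x (x va) - x va := by rw [← hva, map_sub]
      have k2 : x (x a) = x (x (x va)) - x (x va) := by rw [← hva, map_sub, map_sub]
      rcases hu with rfl | rfl | rfl
      · simp
      · rw [k1]; exact hd _ (k1 ▸ fun e => ha (x.map_eq_zero_iff.1 e))
      · rw [k2]; exact hd _ (k2 ▸ fun e => ha (x.map_eq_zero_iff.1 (x.map_eq_zero_iff.1 e)))
    have heq : ({a, x a, x (x a)} : Finset V) = {a, b, a + b} := by
      refine Finset.eq_of_subset_of_card_le (fun u hu => hsub u (by simpa using hu)) ?_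
      rw [Finset.card_eq_three.2 ⟨a, x a, x (x a), hxa.symm, hxa2.symm, hne, rfl⟩]
      exact Finset.card_le_three
    refine ⟨?_, fun w => ?_⟩
    · have : b ∈ ({a, x a, x (x a)} : Finset V) := by rw [heq]; simp
      simpa using this
    by_cases hw0 : x w - w = 0
    · simp [hw0]
    · have : x w - w ∈ ({a, x a, x (x a)} : Finset V) := by
        rw [heq]; rcases hxK w with h | h | h | h <;> simp [h] at hw0 ⊢
      simp at this ⊢; tauto
  -- x' preserves the displacement set of x, so agrees there with a power of x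
  obtain ⟨e, he, hea⟩ : ∃ e, (e = x ∨ e = x * x) ∧ x' a = e a := by
    have h1 : x' a = x (x' va) - x' va := by
      rw [← hva, map_sub]
      exact congrArg (fun f : V ≃ₗ[ZMod 2] V => f va - x' va) hcxx.symm
    have := hdisp (x' va)
    rw [← h1] at this
    simp only [Set.mem_insert_iff, Set.mem_singleton_iff] at this
    rcases this with h | h | h | h
    · exact absurd (x'.map_eq_zero_iff.1 h) ha
    · exact absurd h hx'a
    · exact ⟨x, Or.inl rfl, h⟩
    · exact ⟨x * x, Or.inr rfl, h⟩
  have hex : e * x = x * e := by rcases he with rfl | rfl <;> group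
  have heH : e ∈ H := by rcases he with rfl | rfl <;> [exact hxH; exact mul_mem hxH hxH]
  set k' := e⁻¹ * x' with hk'
  have hkH : k' ∈ H := mul_mem (inv_mem heH) hx'H
  have hka : k' a = a := by
    rw [hk', LinearEquiv.mul_apply, hea, ← LinearEquiv.mul_apply, inv_mul_cancel]; rfl
  have hkx : ∀ w, k' (x w) = x (k' w) := fun w => by
    rw [← LinearEquiv.mul_apply, hHcomm _ hkH _ hxH]; rfl
  have hPx : ∀ w, P (x w) = x' (P w) := fun w => by
    rw [hx', LinearEquiv.mul_apply, LinearEquiv.mul_apply, hpP]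
  have hx'k : ∀ w, k' (x' w) = x' (k' w) := fun w => by
    rw [← LinearEquiv.mul_apply, hHcomm _ hkH _ hx'H]; rfl
  have hk1 : k' = 1 := by
    refine htriv k' hkH fun v => ?_
    have hU' : ∀ u ∈ U, k' u = u := by
      intro u hu
      induction hu using Submodule.span_induction with
      | mem w hw =>
        rcases hw with rfl | rfl | rfl
        · exact hka
        · rcases hb with h | h | h <;> rw [h] <;> simp [hka, hkx]
        · rcases hb with h | h | h <;> rw [h] <;> simp [hka, hPa, hPx, hx'k]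
      | zero => simp
      | add u w _ _ iu iw => rw [map_add, iu, iw]
      | smul c u _ iu => rw [map_smul, iu]
    exact hU' _ (hmove _ hkH v)
  have hxe : P * x * P⁻¹ = e := by rw [← hx']; exact (inv_mul_eq_one.1 hk1).symm
  have hfin : t * x * t⁻¹ = x := by
    rcases he with rfl | rfl
    · calc t * x * t⁻¹ = P * (P * x * P⁻¹) * P⁻¹ := by rw [htdef]; group
        _ = x := by rw [hxe, hxe]
    · calc t * x * t⁻¹ = P * (P * x * P⁻¹) * P⁻¹ := by rw [htdef]; group
        _ = P * (x * x) * P⁻¹ := by rw [hxe]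
        _ = (P * x * P⁻¹) * (P * x * P⁻¹) := by simp [mul_assoc]
        _ = (x * x * x) * x := by rw [hxe]; simp [mul_assoc]
        _ = x := by rw [hx3, one_mul]
  have hinv : t * x * t⁻¹ = x⁻¹ := congrArg Subtype.val hxinv
  have : x ^ 2 = 1 := by
    rw [pow_two]; nth_rewrite 1 [← hfin]; rw [hinv, inv_mul_cancel]
  have := orderOf_dvd_of_pow_eq_one this
  rw [hxo] at this
  norm_num at this

end Cfsg.Agent.S4410
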