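import Cfsg.Statements.S4411
import Cfsg.Agent.Lib.LocalEven.GlaubermanWeak
import Cfsg.Agent.Lib.LocalEven.InvolvesFour
import Cfsg.Agent.Lib.LocalEven.CharP
import Cfsg.Agent.Lib.PCore.PSolvable
import Cfsg.Agent.Lib.Coprime.Action
import Cfsg.Agent.Lib.Techniques.WeakClosure
-- import your own Cfsg.Agent.* helpers here

set_option autoImplicit false
open Cfsg

namespace Cfsg.Agent.S4411

universe u

open CfsgLib.PLocal

variable {p : ℕ} [Fact p.Prime]

/-- A lift of prime-to-p order. -/
theorem lift_coprime {Y W : Type*} [Group Y] [Finite Y] [Group W] (f : Y →* W) (y : Y)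
    (h : (orderOf (f y)).Coprime p) : ∃ s : ℕ, f (y ^ s) = f y ∧ (orderOf (y ^ s)).Coprime p := by
  have hp := (Fact.out : p.Prime)
  obtain ⟨a, m, hm, hord⟩ := Nat.exists_eq_pow_mul_and_not_dvd (orderOf_pos y).ne' p hp.ne_one
  obtain ⟨s, hs1, hs0⟩ := Nat.chineseRemainder (h.pow_right a) 1 0
  refine ⟨s, ?_, ?_⟩
  · rw [map_pow]
    exact (pow_eq_pow_iff_modEq.2 hs1).trans (pow_one _)
  · have hd : orderOf (y ^ s) ∣ m := by
      rw [orderOf_dvd_iff_pow_eq_one, ← pow_mul, ← orderOf_dvd_iff_pow_eq_one, hord]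
      exact Nat.mul_dvd_mul_right ((Nat.modEq_zero_iff_dvd).1 hs0) m
    exact Nat.Coprime.coprime_dvd_left hd ((hp.coprime_iff_not_dvd.2 hm).symm)

/-- A subgroup whose elements of prime-to-p order are trivial is a p-group. -/
theorem isPGroup_of_forall {Y : Type*} [Group Y] [Finite Y] (S : Subgroup Y)
    (h : ∀ y ∈ S, (orderOf y).Coprime p → y = 1) : IsPGroup p S := by
  have hp := (Fact.out : p.Prime)
  intro x
  obtain ⟨a, m, hm, hord⟩ := Nat.exists_eq_pow_mul_and_not_dvd (orderOf_pos (x : Y)).ne' p hp.ne_one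
  refine ⟨a, Subtype.ext ?_⟩
  rw [SubmonoidClass.coe_pow, OneMemClass.coe_one]
  refine h _ (pow_mem x.2 _) ?_
  refine Nat.Coprime.coprime_dvd_left ?_ (hp.coprime_iff_not_dvd.2 hm).symm
  rw [orderOf_dvd_iff_pow_eq_one, ← pow_mul, ← hord, pow_orderOf_eq_one]

/-- Inverse image of a characteristic subgroup of an image. -/
theorem char_comap {Y W : Type*} [Group Y] [Finite Y] [Group W] (f : Y →* W) (T : Subgroup Y)
    (hker : (f.subgroupMap T).ker.Characteristic) (Kb : Subgroup W)
    (hc : (Kb.subgroupOf (T.map f)).Characteristic) :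
    ((T ⊓ Kb.comap f).subgroupOf T).Characteristic := by
  rw [Subgroup.characteristic_iff_le_comap]
  intro α
  set φ := f.subgroupMap T with hφ
  have hφs : Function.Surjective φ := f.subgroupMap_surjective T
  have hle : φ.ker ≤ (φ.comp α.toMonoidHom).ker := fun x hx => by
    rw [MonoidHom.mem_ker, MonoidHom.comp_apply]
    exact MonoidHom.mem_ker.1 (Subgroup.characteristic_iff_le_comap.1 hker α hx)
  set β := φ.liftOfSurjective hφs ⟨φ.comp α.toMonoidHom, hle⟩ with hβ
  have hβc : ∀ x, β (φ x) = φ (α x) := fun x => MonoidHom.liftOfRightInverse_comp_apply φ _ _ _ x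
  haveI : Finite (T.map f) := Finite.of_surjective φ hφs
  have hβs : Function.Surjective β := by
    intro w
    obtain ⟨x, rfl⟩ := hφs w
    obtain ⟨x', rfl⟩ := α.surjective x
    exact ⟨φ x', hβc x'⟩
  let e : T.map f ≃* T.map f := MulEquiv.ofBijective β ⟨Finite.injective_iff_surjective.2 hβs, hβs⟩
  intro x hx
  rw [Subgroup.mem_subgroupOf, Subgroup.mem_inf, Subgroup.mem_comap] at hx
  have h1 : φ x ∈ Kb.subgroupOf (T.map f) := hx.2
  have h2 := Subgroup.characteristic_iff_le_comap.1 hc e h1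
  rw [Subgroup.mem_comap, Subgroup.mem_subgroupOf, Subgroup.mem_inf, Subgroup.mem_comap]
  refine ⟨SetLike.coe_mem _, ?_⟩
  have h3 : β (φ x) ∈ Kb.subgroupOf (T.map f) := h2
  rw [hβc] at h3
  exact h3

/-- Normalizers and characteristic subgroups, along an embedding. -/
theorem normalizer_le_of_char {Y G : Type*} [Group Y] [Group G] (f : Y →* G)
    (hf : Function.Injective f) (T K : Subgroup Y) (hKT : K ≤ T) (hc : (K.subgroupOf T).Characteristic) :
    Subgroup.normalizer (T.map f : Set G) ≤ Subgroup.normalizer (K.map f : Set G) := by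
  let e := T.equivMapOfInjective f hf
  have key : ∀ g ∈ Subgroup.normalizer (T.map f : Set G), ∀ k ∈ K.map f, g * k * g⁻¹ ∈ K.map f := by
    rintro g hg _ ⟨k, hk, rfl⟩
    let α : T ≃* T := (e.trans ((T.map f).normalizerMonoidHom ⟨g, hg⟩)).trans e.symm
    have h := Subgroup.characteristic_iff_le_comap.1 hc α (show (⟨k, hKT hk⟩ : T) ∈ K.subgroupOf T from hk)
    refine ⟨(α ⟨k, hKT hk⟩ : Y), h, ?_⟩
    have h' : (e (α ⟨k, hKT hk⟩) : G) = g * (e ⟨k, hKT hk⟩ : G) * g⁻¹ := by
      simp only [α, MulEquiv.trans_apply, MulEquiv.apply_symm_apply]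
      rfl
    exact h'
  intro g hg
  rw [Subgroup.mem_normalizer_iff]
  intro k
  refine ⟨key g hg k, fun h => ?_⟩
  have := key g⁻¹ (inv_mem hg) _ h
  simpa [mul_assoc] using this

/-- If p'-elements centralize the characteristic subgroups of a Sylow p-subgroup that they normalize,
there are none. -/
theorem no_coprime : ∀ (n : ℕ) {Y : Type u} [Group Y] [Finite Y], Nat.card Y = n →
    (p ≠ 2 ∨ ¬ Cfsg.Involves (Equiv.Perm (Fin 4)) Y) → ∀ (T : Sylow p Y) (R : Subgroup Y), R.Normal →
    IsPGroup p R → (∀ y, (orderOf y).Coprime p → y ∈ Subgroup.centralizer (R : Set Y) → y = 1) →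
    (∀ K : Subgroup Y, K ≤ (T : Subgroup Y) → (K.subgroupOf (T : Subgroup Y)).Characteristic →
      ∀ y ∈ Subgroup.normalizer (K : Set Y), (orderOf y).Coprime p → y ∈ Subgroup.centralizer (K : Set Y)) →
    ∀ y : Y, (orderOf y).Coprime p → y = 1 := by
  intro n
  induction n using Nat.strong_induction_on with
  | _ n ih =>
  intro Y _ _ hn hfree T R hRn hRp hR hyp y hy
  have hp := (Fact.out : p.Prime)
  set T' : Subgroup Y := (T : Subgroup Y) with hT'
  have hRT : R ≤ T' := (CfsgLib.PCore.le_pCore hRn hRp).trans (CfsgLib.PCore.pCore_le_sylow T)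
  by_cases hT1 : T' = ⊥
  · refine hR y hy (Subgroup.mem_centralizer_iff.2 fun x hx => ?_)
    have hxb : x ∈ (⊥ : Subgroup Y) := hT1 ▸ hRT hx
    rw [Subgroup.mem_bot.1 hxb, one_mul, mul_one]
  set J := thompson 0 T' with hJdef
  have hJchar : (J.subgroupOf T').Characteristic := by
    have hJ : J.subgroupOf T' = thompson 0 (⊤ : Subgroup T') := by
      apply Subgroup.map_injective T'.subtype_injective
      rw [← thompson_map T'.subtype_injective, Subgroup.map_subgroupOf_eq_of_le (thompson_le _ _),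
        ← MonoidHom.range_eq_map, Subgroup.range_subtype]
    rw [hJ, Subgroup.characteristic_iff_map_eq]
    intro α
    rw [← thompson_map (f := α.toMonoidHom) α.injective, Subgroup.map_top_of_surjective _ α.surjective]
  have hNJ : IsPGroup p (Subgroup.normalizer (J : Set Y)) := by
    refine isPGroup_of_forall _ fun w hw hwc => hR w hwc ?_
    have hwJ := hyp J (thompson_le _ _) hJchar w hw hwc
    obtain ⟨A, hA⟩ := exists_isMaxElemIn 0 T'
    have := CfsgLib.LocalEvenCharP.commute_of_fixes_centralizer (p := p) hRp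
      ((T.2).to_le (thompson_le 0 T') : IsPGroup p J)
      (by rw [Subgroup.normalizer_eq_top R]; exact le_top) hwc
      (by rw [Subgroup.normalizer_eq_top R]; exact Subgroup.mem_top _)
      (fun a ha => (Subgroup.mem_centralizer_iff.1 hwJ a ha).symm)
      (fun x hx hxa => (Subgroup.mem_centralizer_iff.1 hwJ x
        (hA.le_thompson (hA.mem_of_centralizes (hRT hx) (pow_zero x) fun a ha => hxa a (hA.le_thompson ha)))).symm)
    exact Subgroup.mem_centralizer_iff.2 fun x hx => (this x hx).symm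
  have hNT : Subgroup.normalizer (J : Set Y) = T' := T.is_maximal' hNJ (le_normalizer_thompson 0 T')
  set Z := T' ⊓ Subgroup.centralizer (T' : Set Y) with hZ
  have hZc : Z ≤ Subgroup.center Y := by
    rintro z ⟨hzT, hzc⟩
    refine CfsgLib.LocalEven.GlaubermanWeak.mem_center_of_local T (q := 1) ?_ hzT
      (fun s hs => Subgroup.mem_centralizer_iff.1 hzc s hs) (pow_one z) (Or.inr ⟨rfl, hfree⟩)
      (fun m hm => Subgroup.mem_centralizer_iff.1 hzc m (hNT ▸ hm))
    have hCp : IsPGroup p (Subgroup.centralizer (R : Set Y)) := isPGroup_of_forall _ fun w hw hwc => hR w hwc hw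
    exact CfsgLib.PCore.le_pCore inferInstance hCp
      (Subgroup.mem_centralizer_iff.2 fun r hr => Subgroup.mem_centralizer_iff.1 hzc r (hRT hr))
  have hZp : IsPGroup p Z := T.2.to_le inf_le_left
  haveI : Z.Normal := ⟨fun z hz g => by
    rwa [Subgroup.mem_center_iff.1 (hZc hz) g, mul_inv_cancel_right]⟩
  have hZne : Z ≠ ⊥ := by
    haveI : Nontrivial T' := (Subgroup.nontrivial_iff_ne_bot T').2 hT1
    haveI := T.2.center_nontrivial
    obtain ⟨c, hc⟩ := exists_ne (1 : Subgroup.center T')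
    intro h
    have hm : ((c : T') : Y) ∈ Z := ⟨(c : T').2, Subgroup.mem_centralizer_iff.2 fun s hs =>
      congrArg Subtype.val (Subgroup.mem_center_iff.1 c.2 ⟨s, hs⟩)⟩
    rw [h, Subgroup.mem_bot] at hm
    exact hc (Subtype.ext (Subtype.ext hm))
  have hlt : Nat.card (Y ⧸ Z) < n := by
    rw [← hn, Subgroup.card_eq_card_quotient_mul_card_subgroup Z]
    exact lt_mul_of_one_lt_right Nat.card_pos (Z.one_lt_card_iff_ne_bot.2 hZne)
  set π := QuotientGroup.mk' Z with hπ
  have hfree' : p ≠ 2 ∨ ¬ Cfsg.Involves (Equiv.Perm (Fin 4)) (Y ⧸ Z) := hfree.imp_right fun h h' =>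
    h (CfsgLib.LocalEven.Involved.involves_of_surjective π (QuotientGroup.mk'_surjective Z) h')
  have hRb : ∀ w : Y ⧸ Z, (orderOf w).Coprime p → w ∈ Subgroup.centralizer (R.map π : Set (Y ⧸ Z)) → w = 1 := by
    intro w hw hwc
    obtain ⟨v, rfl⟩ := QuotientGroup.mk'_surjective Z w
    obtain ⟨s, hs, hsc⟩ := lift_coprime π v hw
    have h1 : v ^ s = 1 := by
      refine hR _ hsc (Subgroup.mem_centralizer_iff.2 fun r hr => ?_)
      have hz : v ^ s * r * (v ^ s)⁻¹ * r⁻¹ ∈ Z := by
        rw [← QuotientGroup.eq_one_iff]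
        change π (v ^ s * r * (v ^ s)⁻¹ * r⁻¹) = 1
        simp only [map_mul, map_inv, hs]
        rw [← hπ] at hwc
        rw [← Subgroup.mem_centralizer_iff.1 hwc (π r) ⟨r, hr, rfl⟩]
        group
      have := CfsgLib.LocalEvenCharP.eq_one_of_conj_eq (x := r) hZp hsc hz
        (Subgroup.mem_center_iff.1 (hZc hz) _) (by group)
      rw [mul_inv_eq_one, mul_inv_eq_iff_eq_mul] at this
      exact this.symm
    rw [← hs, h1, map_one]
  have hypb : ∀ Kb : Subgroup (Y ⧸ Z), Kb ≤ (T.mapSurjective (QuotientGroup.mk'_surjective Z) : Subgroup (Y ⧸ Z)) →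
      (Kb.subgroupOf (T.mapSurjective (QuotientGroup.mk'_surjective Z) : Subgroup (Y ⧸ Z))).Characteristic →
      ∀ w ∈ Subgroup.normalizer (Kb : Set (Y ⧸ Z)), (orderOf w).Coprime p →
        w ∈ Subgroup.centralizer (Kb : Set (Y ⧸ Z)) := by
    rw [Sylow.coe_mapSurjective]
    intro Kb hKb hc w hw hwc
    have hker : (π.subgroupMap T').ker = Subgroup.center T' := by
      ext x
      rw [MonoidHom.mem_ker, Subtype.ext_iff, Subgroup.mem_center_iff]
      show π x = 1 ↔ _
      rw [hπ, QuotientGroup.mk'_apply, QuotientGroup.eq_one_iff]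
      constructor
      · intro h s
        exact Subtype.ext (Subgroup.mem_centralizer_iff.1 h.2 s s.2)
      · intro h
        exact ⟨x.2, Subgroup.mem_centralizer_iff.2 fun s hs => congrArg Subtype.val (h ⟨s, hs⟩)⟩
    have hKc := char_comap π T' (by rw [hker]; infer_instance) Kb hc
    obtain ⟨v, rfl⟩ := QuotientGroup.mk'_surjective Z w
    obtain ⟨s, hs, hsc⟩ := lift_coprime π v hwc
    have hcomap : Kb.comap π ≤ T' := by
      refine (Subgroup.comap_mono hKb).trans ?_
      rw [Subgroup.comap_map_eq, hπ, QuotientGroup.ker_mk']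
      exact sup_le le_rfl inf_le_left
    have hn' : v ^ s ∈ Subgroup.normalizer ((T' ⊓ Kb.comap π : Subgroup Y) : Set Y) := by
      rw [inf_eq_right.2 hcomap, Subgroup.mem_normalizer_iff]
      intro x
      rw [Subgroup.mem_comap, Subgroup.mem_comap, map_mul, map_mul, map_inv, hs]
      exact Subgroup.mem_normalizer_iff.1 hw (π x)
    have hcen := hyp _ inf_le_left hKc _ hn' hsc
    rw [inf_eq_right.2 hcomap] at hcen
    refine Subgroup.mem_centralizer_iff.2 fun x hx => ?_
    obtain ⟨x, rfl⟩ := QuotientGroup.mk'_surjective Z x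
    rw [← hs, ← map_mul, ← map_mul]
    exact congrArg π (Subgroup.mem_centralizer_iff.1 hcen x hx)
  have hall := ih _ hlt rfl hfree' (T.mapSurjective (QuotientGroup.mk'_surjective Z)) (R.map π)
    (hRn.map π (QuotientGroup.mk'_surjective Z)) (hRp.map π) hRb hypb
  have h1 := hall (π y) (hy.coprime_dvd_left (orderOf_map_dvd π y))
  exact CfsgLib.LocalEvenCharP.eq_one_of_coprime_of_mem hZp ((QuotientGroup.eq_one_iff y).1 h1) hy

/-- A p-solvable group has a subgroup whose order is its (p, q)-part. -/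
theorem exists_pq {q : ℕ} [Fact q.Prime] (hpq : p ≠ q) : ∀ (n : ℕ) {X : Type u} [Group X] [Finite X],
    Nat.card X = n → Cfsg.IsPSolvable p X →
    ∃ U : Subgroup X, Nat.card U = p ^ (Nat.card X).factorization p * q ^ (Nat.card X).factorization q := by
  intro n
  induction n using Nat.strong_induction_on with
  | _ n ih =>
  intro X _ _ hn hX
  have hp := (Fact.out : p.Prime)
  have hq := (Fact.out : q.Prime)
  rcases subsingleton_or_nontrivial X with hs | hs
  · exact ⟨⊤, by simp⟩
  have key : ∀ (N : Subgroup X) [N.Normal], N ≠ ⊥ → ∀ i j, Nat.card N = p ^ i * q ^ j →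
      ∃ U : Subgroup X, Nat.card U = p ^ (Nat.card X).factorization p * q ^ (Nat.card X).factorization q := by
    intro N _ hN i j hij
    have hlt : Nat.card (X ⧸ N) < n := by
      rw [← hn, Subgroup.card_eq_card_quotient_mul_card_subgroup N]
      exact lt_mul_of_one_lt_right Nat.card_pos (N.one_lt_card_iff_ne_bot.2 hN)
    obtain ⟨U, hU⟩ := ih _ hlt rfl (CfsgLib.PCore.isPSolvable_quotient hX N)
    refine ⟨U.comap (QuotientGroup.mk' N), ?_⟩
    have hc : Nat.card (U.comap (QuotientGroup.mk' N)) = Nat.card U * Nat.card N := by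
      apply Nat.eq_of_mul_eq_mul_right (Nat.pos_of_ne_zero (U.index_ne_zero_of_finite))
      rw [mul_right_comm, Subgroup.card_mul_index U, ← Subgroup.card_eq_card_quotient_mul_card_subgroup N,
        ← Subgroup.index_comap_of_surjective U (QuotientGroup.mk'_surjective N), Subgroup.card_mul_index]
    rw [hc, hU, hij, Subgroup.card_eq_card_quotient_mul_card_subgroup N, hij,
      Nat.factorization_mul Nat.card_pos.ne' (by rw [← hij]; exact Nat.card_pos.ne'),
      Nat.factorization_mul (pow_ne_zero _ hp.ne_zero) (pow_ne_zero _ hq.ne_zero),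
      hp.factorization_pow, hq.factorization_pow]
    simp [Finsupp.single_apply, hpq, hpq.symm, pow_add]
    ring
  rcases CfsgLib.PCore.pCore_ne_bot_or_pPrimeCore_ne_bot hX with h | h
  · haveI : (Cfsg.pCore p X).Normal := Subgroup.sSup_normal _ fun _ h => h.1
    obtain ⟨i, hi⟩ := IsPGroup.iff_card.1 (CfsgLib.PCore.pCore_isPGroup (p := p) (G := X))
    exact key _ h i 0 (by simpa using hi)
  set M := Cfsg.pPrimeCore p X with hMdef
  haveI : M.Normal := Subgroup.sSup_normal _ fun _ h => h.1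
  have hMc : (Nat.card M).Coprime p := CfsgLib.PCore.pPrimeCore_coprime
  have hMp : ¬ p ∣ Nat.card M := CfsgLib.PCore.not_dvd_card_pPrimeCore
  obtain ⟨Q⟩ : Nonempty (Sylow q M) := inferInstance
  by_cases hQ : (Q : Subgroup M) = ⊥
  · have hMq : ¬ q ∣ Nat.card M := by
      have := Q.not_dvd_index
      rwa [hQ, Subgroup.index_bot] at this
    have hlt : Nat.card (X ⧸ M) < n := by
      rw [← hn, Subgroup.card_eq_card_quotient_mul_card_subgroup M]
      exact lt_mul_of_one_lt_right Nat.card_pos (M.one_lt_card_iff_ne_bot.2 h)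
    obtain ⟨U, hU⟩ := ih _ hlt rfl (CfsgLib.PCore.isPSolvable_quotient hX M)
    set Y := U.comap (QuotientGroup.mk' M) with hYdef
    have hMY : M ≤ Y := fun x hx => by
      rw [hYdef, Subgroup.mem_comap, QuotientGroup.mk'_apply, (QuotientGroup.eq_one_iff x).2 hx]
      exact one_mem U
    have hcY : Nat.card Y = Nat.card U * Nat.card M := by
      apply Nat.eq_of_mul_eq_mul_right (Nat.pos_of_ne_zero (U.index_ne_zero_of_finite))
      rw [mul_right_comm, Subgroup.card_mul_index U, ← Subgroup.card_eq_card_quotient_mul_card_subgroup M,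
        ← Subgroup.index_comap_of_surjective U (QuotientGroup.mk'_surjective M), ← hYdef,
        Subgroup.card_mul_index]
    have hidx : (M.subgroupOf Y).index = Nat.card U := by
      apply Nat.eq_of_mul_eq_mul_left (Nat.card_pos (α := M.subgroupOf Y))
      rw [Subgroup.card_mul_index, hcY, mul_comm, Nat.card_congr (Subgroup.subgroupOfEquivOfLe hMY).toEquiv]
    obtain ⟨K, hK⟩ := Subgroup.exists_right_complement'_of_coprime (N := M.subgroupOf Y) (by
      rw [hidx, Nat.card_congr (Subgroup.subgroupOfEquivOfLe hMY).toEquiv, hU]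
      exact Nat.Coprime.mul_right (hMc.pow_right _) (((hq.coprime_iff_not_dvd.2 hMq).symm).pow_right _))
    refine ⟨K.map Y.subtype, ?_⟩
    rw [Subgroup.card_subtype, ← hK.symm.index_eq_card, hidx, hU,
      Subgroup.card_eq_card_quotient_mul_card_subgroup M, Nat.factorization_mul Nat.card_pos.ne' Nat.card_pos.ne']
    simp [Nat.factorization_eq_zero_of_not_dvd hMp, Nat.factorization_eq_zero_of_not_dvd hMq]
  set Q' : Subgroup X := (Q : Subgroup M).map M.subtype with hQ'
  have hQ'ne : Q' ≠ ⊥ := by rwa [hQ', Ne, Subgroup.map_eq_bot_iff_of_injective _ M.subtype_injective]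
  obtain ⟨j, hj⟩ := IsPGroup.iff_card.1 Q.2
  by_cases hN2 : Subgroup.normalizer (Q' : Set X) = ⊤
  · haveI : Q'.Normal := Subgroup.normalizer_eq_top_iff.1 hN2
    exact key Q' hQ'ne 0 j (by rw [pow_zero, one_mul, hQ', Subgroup.card_subtype, hj])
  set N2 := Subgroup.normalizer (Q' : Set X) with hN2def
  have hlt : Nat.card N2 < n := by
    rw [← hn]
    refine lt_of_le_of_ne (Subgroup.card_le_card_group N2) fun h => hN2 ((Subgroup.card_eq_iff_eq_top N2).1 h)
  obtain ⟨U, hU⟩ := ih _ hlt rfl (CfsgLib.PCore.isPSolvable_subgroup hX N2)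
  have hsup : N2 ⊔ M = ⊤ := Sylow.normalizer_sup_eq_top Q
  have hQN : Q' ≤ N2 := Subgroup.le_normalizer
  have hd1 : N2.index ∣ (Q : Subgroup M).index := by
    have h1 : (N2.subgroupOf M).index ∣ (Q : Subgroup M).index :=
      Subgroup.index_dvd_of_le fun x hx => hQN ⟨x, hx, rfl⟩
    refine dvd_trans ?_ h1
    have hMN : M.relIndex N2 = M.index := by
      rw [← Subgroup.relIndex_sup_right (H := N2) (K := M), hsup, Subgroup.relIndex_top_right]
    have c1 := Subgroup.card_mul_index (N2.subgroupOf M)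
    have c2 := Subgroup.card_mul_index (M.subgroupOf N2)
    have e : Nat.card (N2.subgroupOf M) = Nat.card (M.subgroupOf N2) := by
      rw [← Subgroup.card_subtype M, ← Subgroup.card_subtype N2, Subgroup.subgroupOf_map_subtype,
        Subgroup.subgroupOf_map_subtype, inf_comm]
    have c3 : Nat.card N2 * N2.index = Nat.card M * M.index := by rw [Subgroup.card_mul_index, Subgroup.card_mul_index]
    rw [← c1, ← c2, e, show (M.subgroupOf N2).index = M.index from hMN] at c3
    have hpos : 0 < Nat.card (M.subgroupOf N2) * M.index :=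
      Nat.mul_pos Nat.card_pos (Nat.pos_of_ne_zero Subgroup.index_ne_zero_of_finite)
    rw [mul_right_comm (Nat.card (M.subgroupOf N2)) (N2.subgroupOf M).index] at c3
    exact (Nat.eq_of_mul_eq_mul_left hpos c3) ▸ dvd_rfl
  have hq' : ¬ q ∣ N2.index := fun h => Q.not_dvd_index (h.trans hd1)
  have hp' : ¬ p ∣ N2.index := fun h => hMp (h.trans (hd1.trans (Subgroup.index_dvd_card _)))
  refine ⟨U.map N2.subtype, ?_⟩
  rw [Subgroup.card_subtype, hU, ← Subgroup.card_mul_index N2,
    Nat.factorization_mul Nat.card_pos.ne' Subgroup.index_ne_zero_of_finite]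
  simp [Nat.factorization_eq_zero_of_not_dvd hp', Nat.factorization_eq_zero_of_not_dvd hq']

/-- A central p-subgroup containing all p-elements has index prime to p. -/
theorem index_coprime {X : Type*} [Group X] [Finite X] (Z : Subgroup X)
    (h : ∀ x, (∃ k, x ^ p ^ k = 1) → x ∈ Z) : Z.index.Coprime p := by
  obtain ⟨R⟩ : Nonempty (Sylow p X) := inferInstance
  have hle : (R : Subgroup X) ≤ Z := fun x hx => h x (by
    obtain ⟨k, hk⟩ := R.2 ⟨x, hx⟩
    exact ⟨k, congrArg Subtype.val hk⟩)
  exact ((Fact.out : p.Prime).coprime_iff_not_dvd.2 fun hd =>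
    R.not_dvd_index (hd.trans (Subgroup.index_dvd_of_le hle))).symm

/-- The elements of prime-to-p order form a subgroup if a central p-subgroup has index prime to p. -/
theorem mem_pPrimeCore_iff {X : Type*} [Group X] [Finite X] (Z : Subgroup X) (hZ : Z ≤ Subgroup.center X)
    (hp : IsPGroup p Z) (hi : Z.index.Coprime p) (x : X) :
    x ∈ Cfsg.pPrimeCore p X ↔ (orderOf x).Coprime p := by
  refine ⟨fun hx => CfsgLib.PCore.pPrimeCore_coprime.coprime_dvd_left
    ((orderOf_dvd_iff_pow_eq_one).2 (congrArg Subtype.val (pow_card_eq_one' (x := (⟨x, hx⟩ : Cfsg.pPrimeCore p X))))),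
    fun hx => ?_⟩
  haveI : (Cfsg.pPrimeCore p X).Normal := Subgroup.sSup_normal _ fun _ h => h.1
  have htop := CfsgLib.PCore.sup_pPrimeCore_eq_top_of_central Z hZ hp hi
  obtain ⟨z, hz, o, ho, hzo⟩ := Subgroup.mem_sup_of_normal_right.1 (htop ▸ Subgroup.mem_top x)
  rw [← QuotientGroup.eq_one_iff]
  show QuotientGroup.mk' (Cfsg.pPrimeCore p X) x = 1
  have e : QuotientGroup.mk' (Cfsg.pPrimeCore p X) x = QuotientGroup.mk' (Cfsg.pPrimeCore p X) z := by
    rw [← hzo, map_mul, QuotientGroup.mk'_apply _ o, (QuotientGroup.eq_one_iff o).2 ho, mul_one]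
  have h1 := hx.coprime_dvd_left (orderOf_map_dvd (QuotientGroup.mk' (Cfsg.pPrimeCore p X)) x)
  rw [e] at h1 ⊢
  exact CfsgLib.LocalEvenCharP.eq_one_of_coprime_of_mem (hp.map _) ⟨z, hz, rfl⟩ h1

/-- The q-part of an element outside a subgroup. -/
theorem exists_qpart {G : Type*} [Group G] [Finite G] {q : ℕ} [Fact q.Prime] (C : Subgroup G) {w : G}
    {k : ℕ} (h1 : w ^ q ^ k ∈ C) (h2 : w ∉ C) : ∃ m : ℕ, w ^ m ∉ C ∧ ∃ i, (w ^ m) ^ q ^ i = 1 := by
  have hq := (Fact.out : q.Prime)
  obtain ⟨a, m, hm, hord⟩ := Nat.exists_eq_pow_mul_and_not_dvd (orderOf_pos w).ne' q hq.ne_one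
  refine ⟨m, fun hc => h2 ?_, a, by rw [← pow_mul, mul_comm, ← hord, pow_orderOf_eq_one]⟩
  have hg : (q ^ k).gcd m = 1 := ((hq.coprime_iff_not_dvd.2 hm).pow_left k)
  have he : w = (w ^ q ^ k) ^ ((q ^ k).gcdA m) * (w ^ m) ^ ((q ^ k).gcdB m) := by
    rw [← zpow_natCast w (q ^ k), ← zpow_natCast w m, ← zpow_mul, ← zpow_mul, ← zpow_add,
      ← Nat.gcd_eq_gcd_ab, hg, Nat.cast_one, zpow_one]
  rw [he]
  exact mul_mem (Subgroup.zpow_mem _ h1 _) (Subgroup.zpow_mem _ hc _)

/-- A q-element normalizing but not centralizing. -/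
def HasWitness {G : Type*} [Group G] (q : ℕ) (H : Subgroup G) : Prop :=
  ∃ x ∈ Subgroup.normalizer (H : Set G), (∃ k, x ^ q ^ k = 1) ∧ x ∉ Subgroup.centralizer (H : Set G)

theorem hasWitness_iff {G : Type*} [Group G] [Finite G] {q : ℕ} [Fact q.Prime] (H : Subgroup G) :
    HasWitness q H ↔ q ∣ ((Subgroup.centralizer (H : Set G)).subgroupOf (Subgroup.normalizer (H : Set G))).index := by
  have hq := (Fact.out : q.Prime)
  rw [Subgroup.index]
  constructor
  · rintro ⟨x, hx, ⟨k, hk⟩, hxc⟩
    set z : (Subgroup.normalizer (H : Set G)) ⧸ (Subgroup.centralizer (H : Set G)).subgroupOf _ :=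
      QuotientGroup.mk ⟨x, hx⟩
    have hz1 : z ≠ 1 := fun h => hxc (Subgroup.mem_subgroupOf.1 ((QuotientGroup.eq_one_iff _).1 h))
    have hzk : z ^ q ^ k = 1 := by
      rw [← QuotientGroup.mk_pow, show (⟨x, hx⟩ : Subgroup.normalizer (H : Set G)) ^ q ^ k = 1 from Subtype.ext hk,
        QuotientGroup.mk_one]
    obtain ⟨j, -, hj⟩ := (Nat.dvd_prime_pow hq).1 (orderOf_dvd_of_pow_eq_one hzk)
    refine dvd_trans ?_ (orderOf_dvd_natCard z)
    rw [hj]
    exact dvd_pow_self q fun h => hz1 (orderOf_eq_one_iff.1 (by rw [hj, h, pow_zero]))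
  · intro h
    obtain ⟨z, hz⟩ := exists_prime_orderOf_dvd_card' q h
    obtain ⟨w, rfl⟩ := QuotientGroup.mk_surjective z
    have h1 : (w : G) ^ q ^ 1 ∈ Subgroup.centralizer (H : Set G) := by
      have := pow_orderOf_eq_one (QuotientGroup.mk w : (Subgroup.normalizer (H : Set G)) ⧸
        (Subgroup.centralizer (H : Set G)).subgroupOf _)
      rw [hz, ← QuotientGroup.mk_pow, QuotientGroup.eq_one_iff, Subgroup.mem_subgroupOf] at this
      simpa using this
    have h2 : (w : G) ∉ Subgroup.centralizer (H : Set G) := fun hc => hq.ne_one (by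
      rw [← hz, orderOf_eq_one_iff, QuotientGroup.eq_one_iff, Subgroup.mem_subgroupOf]; exact hc)
    obtain ⟨m, hm, hmq⟩ := exists_qpart _ h1 h2
    exact ⟨(w : G) ^ m, pow_mem w.2 m, hmq, hm⟩

/-- Let p and q be distinct primes with {p, q} ≠ {2, 3}, and let G be a finite group such that for every p-subgroup H of G the automizer N_G(H)/C_G(H) is p-solvable. If q divides the order of N_G(H)/C_G(H) for some p-subgroup H, then a Sylow p-subgroup of G has a normal subgroup K (normal in the Sylow subgroup) such that q divides the order of N_G(K)/C_G(K). -/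
theorem result {G : Type*} [Group G] [Finite G]
    (p q : ℕ) [Fact p.Prime] [Fact q.Prime] (hpq : p ≠ q) (h23 : ¬ ((p = 2 ∧ q = 3) ∨ (p = 3 ∧ q = 2)))
    (hsol : ∀ H : Subgroup G, IsPGroup p ↥H →
      Cfsg.IsPSolvable p (↥(Subgroup.normalizer (H : Set G)) ⧸ (Subgroup.centralizer (H : Set G)).subgroupOf (Subgroup.normalizer (H : Set G))))
    (H : Subgroup G) (hH : IsPGroup p ↥H)
    (hq : q ∣ ((Subgroup.centralizer (H : Set G)).subgroupOf (Subgroup.normalizer (H : Set G))).index)
    (Gp : Sylow p G) :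
    ∃ K : Subgroup G, K ≤ (Gp : Subgroup G) ∧ (Gp : Subgroup G) ≤ Subgroup.normalizer (K : Set G) ∧
      q ∣ ((Subgroup.centralizer (K : Set G)).subgroupOf (Subgroup.normalizer (K : Set G))).index := by
  classical
  haveI : Fact p.Prime := inferInstance
  have hp := (Fact.out : p.Prime)
  have hqp := (Fact.out : q.Prime)
  let v : Subgroup G → ℕ := fun L => (Nat.card (Subgroup.normalizer (L : Set G))).factorization p
  obtain ⟨H₀, ⟨hH₀, hW⟩, hmax⟩ := Set.exists_max_image {L : Subgroup G | IsPGroup p L ∧ HasWitness q L}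
    (fun L => v L * (Nat.card G + 1) + Nat.card L) (Set.toFinite _) ⟨H, hH, (hasWitness_iff H).2 hq⟩
  clear hq hH H
  rename' H₀ => H, hH₀ => hH
  set N := Subgroup.normalizer (H : Set G) with hNdef
  set C := Subgroup.centralizer (H : Set G) with hCdef
  have hmax' : ∀ L : Subgroup G, IsPGroup p L → HasWitness q L → v H ≤ v L →
      v L = v H ∧ Nat.card L ≤ Nat.card H := by
    intro L h1 h2 h3
    have h4 := hmax L ⟨h1, h2⟩
    change v L * (Nat.card G + 1) + Nat.card L ≤ v H * (Nat.card G + 1) + Nat.card H at h4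
    have h5 : Nat.card H ≤ Nat.card G := Subgroup.card_le_card_group H
    have h6 : v L ≤ v H := by
      by_contra hlt
      push Not at hlt
      have : (v H + 1) * (Nat.card G + 1) ≤ v L * (Nat.card G + 1) := Nat.mul_le_mul_right _ hlt
      rw [add_mul, one_mul] at this
      omega
    have h7 : v L = v H := le_antisymm h6 h3
    rw [h7] at h4
    exact ⟨h7, by omega⟩
  have hHN : H ≤ N := Subgroup.le_normalizer
  set C' := C.subgroupOf N with hC'
  -- every p-element of C lies in H
  have hCH : ∀ c ∈ C, (∃ k, c ^ p ^ k = 1) → c ∈ H := by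
    intro c hc hck
    have hcN : c ∈ N := by
      refine Subgroup.mem_normalizer_iff.2 fun x => ⟨fun hx => ?_, fun hx => ?_⟩
      · rw [← Subgroup.mem_centralizer_iff.1 hc x hx, mul_inv_cancel_right]; exact hx
      · have e := Subgroup.mem_centralizer_iff.1 hc _ hx
        have : c * x * c⁻¹ = x := by
          rw [inv_mul_cancel_right] at e
          exact mul_left_cancel e.symm
        rwa [this] at hx
    have hzc : IsPGroup p (Subgroup.zpowers (⟨c, hcN⟩ : N)) := by
      obtain ⟨k, hk⟩ := hck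
      intro x
      refine ⟨k, Subtype.ext ?_⟩
      obtain ⟨i, hi⟩ := Subgroup.mem_zpowers_iff.1 x.2
      rw [SubmonoidClass.coe_pow, ← hi, ← zpow_natCast, ← zpow_mul, mul_comm, zpow_mul, zpow_natCast,
        show (⟨c, hcN⟩ : N) ^ p ^ k = 1 from Subtype.ext hk, one_zpow, OneMemClass.coe_one]
    obtain ⟨TN, hTN⟩ := hzc.exists_le_sylow
    have hQidx := CfsgLib.Techniques.not_dvd_relIndex_inf_normal TN C'
    let R : Sylow p C' :=
      ((TN.2.to_inf_left (K := C')).comap_of_injective C'.subtype C'.subtype_injective).toSylow hQidx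
    have hRm : (R : Subgroup C').map C'.subtype = (TN : Subgroup N) ⊓ C' :=
      Subgroup.map_subgroupOf_eq_of_le inf_le_right
    have htop := Sylow.normalizer_sup_eq_top R
    rw [hRm] at htop
    set D : Subgroup G := ((TN : Subgroup N) ⊓ C').map N.subtype with hD
    have hTD : (TN : Subgroup N).map N.subtype ≤ Subgroup.normalizer (D : Set G) := by
      refine le_trans (Subgroup.map_mono ?_) (Subgroup.le_normalizer_map _)
      intro t ht
      rw [Subgroup.mem_normalizer_iff]
      intro x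
      simp only [Subgroup.mem_inf]
      refine and_congr ?_ ?_
      · exact Subgroup.mem_normalizer_iff.1 (Subgroup.le_normalizer ht) x
      · exact Subgroup.mem_normalizer_iff.1 (by rw [Subgroup.normalizer_eq_top C']; trivial) x
    have hDN : D ≤ Subgroup.normalizer (H : Set G) := Subgroup.map_subtype_le _
    have hDp : IsPGroup p D := (TN.2.to_inf_left (K := C')).map _
    set H' := D ⊔ H with hH'
    have hH'p : IsPGroup p H' := hDp.to_sup_of_normal_right' hH hDN
    have hboth : Subgroup.normalizer (D : Set G) ⊓ N ≤ Subgroup.normalizer (H' : Set G) := by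
      intro g hg
      rw [Subgroup.mem_normalizer_iff_map_conj_eq, hH', Subgroup.map_sup]
      congr 1
      · exact Subgroup.mem_normalizer_iff_map_conj_eq.1 hg.1
      · exact Subgroup.mem_normalizer_iff_map_conj_eq.1 hg.2
    obtain ⟨x, hx, ⟨k, hk⟩, hxc⟩ := hW
    obtain ⟨a, ha, c', hc', hac⟩ := Subgroup.mem_sup_of_normal_right.1
      (show (⟨x, hx⟩ : N) ∈ Subgroup.normalizer (((TN : Subgroup N) ⊓ C' : Subgroup N) : Set N) ⊔ C' by
        rw [htop]; trivial)
    have haD : (a : G) ∈ Subgroup.normalizer (D : Set G) := Subgroup.le_normalizer_map _ ⟨a, ha, rfl⟩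
    have haC : (a : G) ∉ C := fun h => hxc (by
      have := congrArg Subtype.val hac
      simp only [Subgroup.coe_mul] at this
      rw [← this]; exact mul_mem h hc')
    have hak : (a : G) ^ q ^ k ∈ C := by
      have : (QuotientGroup.mk' C' a) ^ q ^ k = 1 := by
        have e : QuotientGroup.mk' C' a = QuotientGroup.mk' C' ⟨x, hx⟩ := by
          rw [← hac, map_mul, QuotientGroup.mk'_apply _ c', (QuotientGroup.eq_one_iff c').2 hc', mul_one]
        rw [e, ← map_pow, show (⟨x, hx⟩ : N) ^ q ^ k = 1 from Subtype.ext hk, map_one]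
      rw [← map_pow] at this
      exact Subgroup.mem_subgroupOf.1 ((QuotientGroup.eq_one_iff (a ^ q ^ k)).1 this)
    obtain ⟨m, hm, hmq⟩ := exists_qpart C hak haC
    have hW' : HasWitness q H' := ⟨(a : G) ^ m, hboth ⟨pow_mem haD m, pow_mem a.2 m⟩, hmq, fun h => hm
      (Subgroup.centralizer_le (show (H : Set G) ⊆ H' from fun y hy => Subgroup.mem_sup_right hy) h)⟩
    have hv : v H ≤ v H' := by
      have hle : (TN : Subgroup N).map N.subtype ≤ Subgroup.normalizer (H' : Set G) :=
        le_trans (le_inf hTD (Subgroup.map_subtype_le _)) hboth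
      have hd := Subgroup.card_dvd_of_le hle
      rw [Subgroup.card_subtype, Sylow.card_eq_multiplicity] at hd
      exact (hp.pow_dvd_iff_le_factorization Nat.card_pos.ne').1 hd
    have heq : H = H' := Subgroup.eq_of_le_of_card_ge le_sup_right (hmax' H' hH'p hW' hv).2
    rw [heq]
    exact Subgroup.mem_sup_left ⟨⟨c, hcN⟩, ⟨hTN (Subgroup.mem_zpowers _), hc⟩, rfl⟩
  -- N is p-solvable
  set Zc : Subgroup C' := (H.subgroupOf N).subgroupOf C' with hZc
  have hZcp : IsPGroup p Zc :=
    (hH.comap_of_injective N.subtype N.subtype_injective).comap_of_injective C'.subtype C'.subtype_injective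
  have hZcc : Zc ≤ Subgroup.center C' := by
    intro z hz
    rw [Subgroup.mem_center_iff]
    intro g
    apply Subtype.ext; apply Subtype.ext
    exact (Subgroup.mem_centralizer_iff.1 g.2 _ hz).symm
  haveI : Zc.Normal := ⟨fun z hz g => by rwa [Subgroup.mem_center_iff.1 (hZcc hz) g, mul_inv_cancel_right]⟩
  have hNps : Cfsg.IsPSolvable p N := by
    refine CfsgLib.PCore.isPSolvable_extension C' ?_ (hsol H hH)
    refine CfsgLib.PCore.isPSolvable_extension Zc (CfsgLib.PCore.isPSolvable_of_isPGroup hZcp)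
      (CfsgLib.PCore.isPSolvable_of_coprime (index_coprime Zc ?_))
    rintro x ⟨k, hk⟩
    exact hCH _ x.2 ⟨k, congrArg (fun y : C' => ((y : N) : G)) hk⟩
  obtain ⟨U₀, hU₀⟩ := exists_pq (p := p) hpq _ (X := N) rfl hNps
  set U := U₀.map N.subtype with hUdef
  have hUN : U ≤ N := Subgroup.map_subtype_le _
  set a := (Nat.card N).factorization p with hadef
  set b := (Nat.card N).factorization q with hbdef
  have hUc : Nat.card U = p ^ a * q ^ b := by rw [hUdef, Subgroup.card_subtype, hU₀]
  obtain ⟨TU⟩ : Nonempty (Sylow p U) := inferInstance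
  set T := (TU : Subgroup U).map U.subtype with hTdef
  have hfac : (p ^ a * q ^ b).factorization p = a ∧ (p ^ a * q ^ b).factorization q = b := by
    rw [Nat.factorization_mul (pow_ne_zero _ hp.ne_zero) (pow_ne_zero _ hqp.ne_zero),
      hp.factorization_pow, hqp.factorization_pow]
    simp [Finsupp.single_apply, hpq, hpq.symm]
  have hTc : Nat.card T = p ^ a := by rw [hTdef, Subgroup.card_subtype, TU.card_eq_multiplicity, hUc, hfac.1]
  have hTp : IsPGroup p T := TU.2.map _
  have hTN : T ≤ N := (Subgroup.map_subtype_le _).trans hUN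
  have hTH : H ≤ T := by
    have hsup : IsPGroup p (T ⊔ H : Subgroup G) := hTp.to_sup_of_normal_right' hH hTN
    obtain ⟨i, hi⟩ := IsPGroup.iff_card.1 hsup
    have hd := Subgroup.card_dvd_of_le (sup_le hTN hHN)
    rw [hi] at hd
    have hle := (hp.pow_dvd_iff_le_factorization Nat.card_pos.ne').1 hd
    rw [Subgroup.eq_of_le_of_card_ge (le_sup_left : T ≤ T ⊔ H)
      (by rw [hi, hTc]; exact Nat.pow_le_pow_right hp.pos hle)]
    exact le_sup_right
  obtain ⟨P, hP⟩ := hTp.exists_le_sylow
  by_cases hTP : (P : Subgroup G) = T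
  · obtain ⟨g, hg⟩ := MulAction.exists_smul_eq G P Gp
    have hgP : (Gp : Subgroup G) = (P : Subgroup G).map (MulAut.conj g).toMonoidHom := by rw [← hg]; rfl
    refine ⟨H.map (MulAut.conj g).toMonoidHom, ?_, ?_, (hasWitness_iff _).1 ?_⟩
    · rw [hgP, hTP]; exact Subgroup.map_mono hTH
    · rw [hgP, hTP]; exact (Subgroup.map_mono hTN).trans (Subgroup.le_normalizer_map _)
    · obtain ⟨x, hx, ⟨k, hk⟩, hxc⟩ := hW
      refine ⟨g * x * g⁻¹, Subgroup.le_normalizer_map _ ⟨x, hx, rfl⟩, ⟨k, by rw [conj_pow, hk]; simp⟩, fun h => hxc ?_⟩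
      rw [Subgroup.mem_centralizer_iff]
      intro y hy
      have e := Subgroup.mem_centralizer_iff.1 h _ ⟨y, hy, rfl⟩
      simp only [MulEquiv.coe_toMonoidHom, MulAut.conj_apply] at e
      have e' := congrArg (fun w => g⁻¹ * w * g) e
      simpa [mul_assoc] using e'
  exfalso
  obtain ⟨y₀, hy₀P, hy₀T, hy₀N⟩ : ∃ y ∈ (P : Subgroup G), y ∉ T ∧ y ∈ Subgroup.normalizer (T : Set G) :=
    CfsgLib.LocalEvenCharP.exists_mem_normalizer_not_mem P.2 hP (Ne.symm hTP)
  -- a larger normalizer gives no witness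
  have hbig : ∀ K : Subgroup U, K ≤ (TU : Subgroup U) → (K.subgroupOf (TU : Subgroup U)).Characteristic →
      ¬ HasWitness q (K.map U.subtype) := by
    intro K hK hKc hKW
    have hN' := normalizer_le_of_char U.subtype U.subtype_injective (TU : Subgroup U) K hK hKc
    set X := T ⊔ Subgroup.zpowers y₀ with hX
    have hXP : IsPGroup p X := P.2.to_le (sup_le hP (Subgroup.zpowers_le.2 hy₀P))
    have hXN : X ≤ Subgroup.normalizer ((K.map U.subtype : Subgroup G) : Set G) :=
      sup_le (Subgroup.le_normalizer.trans hN') (Subgroup.zpowers_le.2 (hN' hy₀N))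
    obtain ⟨i, hi⟩ := IsPGroup.iff_card.1 hXP
    have hai : a < i := by
      have hlt : Nat.card T < Nat.card X := lt_of_not_ge fun hge => hy₀T (by
        rw [Subgroup.eq_of_le_of_card_ge (le_sup_left : T ≤ X) hge]
        exact Subgroup.mem_sup_right (Subgroup.mem_zpowers _))
      rw [hTc, hi] at hlt
      exact (Nat.pow_lt_pow_iff_right hp.one_lt).1 hlt
    have hd := Subgroup.card_dvd_of_le hXN
    rw [hi] at hd
    have hle : i ≤ v (K.map U.subtype) := (hp.pow_dvd_iff_le_factorization Nat.card_pos.ne').1 hd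
    have hvH : v H = a := rfl
    have := (hmax' _ ((TU.2.to_le hK).map _) hKW (by omega)).1
    omega
  -- the quotient of U
  set CU := C.subgroupOf U with hCU
  haveI : CU.Normal := by
    refine ⟨fun c hc g => ?_⟩
    rw [hCU, Subgroup.mem_subgroupOf, Subgroup.mem_centralizer_iff]
    intro h hh
    have hh' : (g : G)⁻¹ * h * (g : G) ∈ H := by
      have := (Subgroup.mem_normalizer_iff.1 (inv_mem (hUN g.2)) h).1 hh
      rwa [inv_inv] at this
    have e := Subgroup.mem_centralizer_iff.1 hc _ hh'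
    rw [Subgroup.subtype_apply] at e
    simp only [Subgroup.coe_mul, Subgroup.coe_inv]
    calc h * ((g : G) * (c : G) * (g : G)⁻¹) = g * ((g : G)⁻¹ * h * g * (c : G)) * (g : G)⁻¹ := by group
      _ = (g : G) * c * (g : G)⁻¹ * h := by rw [e]; group
  set ZU : Subgroup CU := (H.subgroupOf U).subgroupOf CU with hZU
  have hZUp : IsPGroup p ZU :=
    (hH.comap_of_injective U.subtype U.subtype_injective).comap_of_injective CU.subtype CU.subtype_injective
  have hZUc : ZU ≤ Subgroup.center CU := by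
    intro z hz
    rw [Subgroup.mem_center_iff]
    intro g
    apply Subtype.ext; apply Subtype.ext
    exact (Subgroup.mem_centralizer_iff.1 g.2 _ hz).symm
  have hOmem := mem_pPrimeCore_iff ZU hZUc hZUp (index_coprime ZU (by
    rintro x ⟨k, hk⟩
    exact hCH _ x.2 ⟨k, congrArg (fun y : CU => ((y : U) : G)) hk⟩))
  set Q0 : Subgroup U := (Cfsg.pPrimeCore p CU).map CU.subtype with hQ0
  have hQ0mem : ∀ u : U, u ∈ Q0 ↔ (u : G) ∈ C ∧ (orderOf u).Coprime p := by
    intro u
    constructor
    · rintro ⟨c, hc, rfl⟩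
      refine ⟨c.2, ?_⟩
      rw [Subgroup.subtype_apply, Subgroup.orderOf_coe]
      exact (hOmem c).1 hc
    · rintro ⟨h1, h2⟩
      refine ⟨⟨u, h1⟩, (hOmem _).2 ?_, rfl⟩
      exact Subgroup.orderOf_coe (⟨u, h1⟩ : CU) ▸ h2
  haveI : Q0.Normal := ⟨fun u hu g => (hQ0mem _).2 ⟨by
      have := (inferInstance : CU.Normal).conj_mem u (((hQ0mem u).1 hu).1) g
      exact this, by
      rw [← MulAut.conj_apply, MulEquiv.orderOf_eq]
      exact ((hQ0mem u).1 hu).2⟩⟩
  set π := QuotientGroup.mk' Q0 with hπ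
  set R : Subgroup U := H.subgroupOf U with hR
  have hRn : R.Normal := by
    refine ⟨fun h hh g => ?_⟩
    exact (Subgroup.mem_normalizer_iff.1 (hUN g.2) h).1 hh
  have hord : ∀ u : U, (orderOf u).Coprime p → (u : G) ^ q ^ b = 1 := by
    intro u hu
    have hd : orderOf u ∣ q ^ b := by
      have h1 : orderOf u ∣ p ^ a * q ^ b := hUc ▸ orderOf_dvd_natCard u
      exact (hu.pow_right a).dvd_of_dvd_mul_left h1
    exact congrArg Subtype.val (orderOf_dvd_iff_pow_eq_one.1 hd)
  have hQ0T : ∀ u ∈ (TU : Subgroup U), u ∈ Q0 → u = 1 := fun u hu hu0 =>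
    CfsgLib.LocalEvenCharP.eq_one_of_coprime_of_mem TU.2 hu ((hQ0mem u).1 hu0).2
  have hfree : p ≠ 2 ∨ ¬ Cfsg.Involves (Equiv.Perm (Fin 4)) (U ⧸ Q0) := by
    by_cases hp2 : p = 2
    · right
      intro h
      obtain ⟨L, f, hf⟩ := CfsgLib.LocalEven.Involved.exists_hom_of_involves h
      have h24 : 3 ∣ p ^ a * q ^ b := by
        rw [← hUc]
        refine dvd_trans ?_ ((Subgroup.card_dvd_of_surjective f hf).trans ((Subgroup.card_subgroup_dvd_card L).trans
          (Subgroup.card_quotient_dvd_card Q0)))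
        rw [Nat.card_perm, Nat.card_fin]; decide
      rcases Nat.prime_three.dvd_mul.1 h24 with h3 | h3
      · have := (Nat.prime_dvd_prime_iff_eq Nat.prime_three hp).1 (Nat.prime_three.dvd_of_dvd_pow h3)
        omega
      · have := (Nat.prime_dvd_prime_iff_eq Nat.prime_three hqp).1 (Nat.prime_three.dvd_of_dvd_pow h3)
        exact h23 (Or.inl ⟨hp2, this.symm⟩)
    · exact Or.inl hp2
  have hRb : ∀ w : U ⧸ Q0, (orderOf w).Coprime p → w ∈ Subgroup.centralizer (R.map π : Set (U ⧸ Q0)) → w = 1 := by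
    intro w hw hwc
    obtain ⟨u, rfl⟩ := QuotientGroup.mk'_surjective Q0 w
    obtain ⟨s, hs, hsc⟩ := lift_coprime π u hw
    rw [← hs]
    refine (QuotientGroup.eq_one_iff _).2 ((hQ0mem _).2 ⟨Subgroup.mem_centralizer_iff.2 fun h hh => ?_, hsc⟩)
    set h' : U := ⟨h, (hTH.trans (Subgroup.map_subtype_le _)) hh⟩
    have hz : u ^ s * h' * (u ^ s)⁻¹ * h'⁻¹ ∈ Q0 := by
      rw [← QuotientGroup.eq_one_iff]
      change π (u ^ s * h' * (u ^ s)⁻¹ * h'⁻¹) = 1
      simp only [map_mul, map_inv, hs]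
      rw [← hπ] at hwc
      rw [← Subgroup.mem_centralizer_iff.1 hwc (π h') ⟨h', hh, rfl⟩]
      group
    have hzR : u ^ s * h' * (u ^ s)⁻¹ * h'⁻¹ ∈ R := mul_mem (hRn.conj_mem h' hh _) (inv_mem hh)
    have h1 : u ^ s * h' * (u ^ s)⁻¹ * h'⁻¹ = 1 := CfsgLib.LocalEvenCharP.eq_one_of_coprime_of_mem
      (hH.comap_of_injective U.subtype U.subtype_injective) hzR ((hQ0mem _).1 hz).2
    rw [mul_inv_eq_one, mul_inv_eq_iff_eq_mul] at h1
    exact congrArg Subtype.val h1.symm
  have hypb : ∀ Kb : Subgroup (U ⧸ Q0), Kb ≤ (TU.mapSurjective (QuotientGroup.mk'_surjective Q0) : Subgroup (U ⧸ Q0)) →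
      (Kb.subgroupOf (TU.mapSurjective (QuotientGroup.mk'_surjective Q0) : Subgroup (U ⧸ Q0))).Characteristic →
      ∀ w ∈ Subgroup.normalizer (Kb : Set (U ⧸ Q0)), (orderOf w).Coprime p →
        w ∈ Subgroup.centralizer (Kb : Set (U ⧸ Q0)) := by
    rw [Sylow.coe_mapSurjective]
    intro Kb hKb hc w hw hwc
    have hker : (π.subgroupMap (TU : Subgroup U)).ker = ⊥ := by
      rw [eq_bot_iff]
      intro x hx
      rw [MonoidHom.mem_ker, Subtype.ext_iff] at hx
      exact Subgroup.mem_bot.2 (Subtype.ext (hQ0T x x.2 ((QuotientGroup.eq_one_iff _).1 hx)))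
    have hKc := char_comap π (TU : Subgroup U) (by rw [hker]; infer_instance) Kb hc
    set K := (TU : Subgroup U) ⊓ Kb.comap π with hKdef
    have hcomap : Kb.comap π ≤ K ⊔ Q0 := by
      intro x hx
      obtain ⟨t, ht, htx⟩ := hKb hx
      have htK : t ∈ K := Subgroup.mem_inf.2 ⟨ht, by rw [Subgroup.mem_comap, htx]; exact hx⟩
      have : t⁻¹ * x ∈ Q0 := by
        rw [← QuotientGroup.eq_one_iff, ← QuotientGroup.mk'_apply, ← hπ, map_mul, map_inv, htx, inv_mul_cancel]
      rw [show x = t * (t⁻¹ * x) by group]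
      exact mul_mem (Subgroup.mem_sup_left htK) (Subgroup.mem_sup_right this)
    obtain ⟨u, rfl⟩ := QuotientGroup.mk'_surjective Q0 w
    have hKp : IsPGroup p K := TU.2.to_le inf_le_left
    obtain ⟨i, hi⟩ := IsPGroup.iff_card.1 hKp
    have hQc : (Nat.card Q0).Coprime p := by
      rw [hQ0, Subgroup.card_subtype]; exact CfsgLib.PCore.pPrimeCore_coprime
    haveI := hKp.isNilpotent
    obtain ⟨x, hx, hxK⟩ := CfsgLib.Coprime.exists_conj_le_of_coprime K Q0
      (by rw [Subgroup.normalizer_eq_top Q0]; exact le_top) (by rw [hi]; exact (hQc.pow_right i).symm)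
      (K.map (MulAut.conj u).toMonoidHom)
      (by
        rintro _ ⟨k, hk, rfl⟩
        refine hcomap ?_
        rw [Subgroup.mem_comap]
        simp only [MulEquiv.coe_toMonoidHom, MulAut.conj_apply, map_mul, map_inv]
        exact (Subgroup.mem_normalizer_iff.1 hw (π k)).1 hk.2)
      (by rw [Subgroup.card_map_of_injective (MulAut.conj u).injective, hi]; exact (hQc.pow_right i).symm)
      (Or.inl (by haveI : Group.IsNilpotent (K.map (MulAut.conj u).toMonoidHom) := (hKp.map _).isNilpotent; infer_instance))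
    have hn : x * u ∈ Subgroup.normalizer (K : Set U) := by
      rw [Subgroup.mem_normalizer_iff_map_conj_eq]
      refine Subgroup.eq_of_le_of_card_ge ?_ ?_
      · rintro _ ⟨k, hk, rfl⟩
        have := hxK (Subgroup.smul_mem_pointwise_smul (MulAut.conj u k) (MulAut.conj x) _ ⟨k, hk, rfl⟩)
        simpa [mul_assoc] using this
      · rw [Subgroup.card_map_of_injective]; exact (MulAut.conj (x * u)).injective
    have hximg : π (x * u) = π u := by
      rw [map_mul, hπ, QuotientGroup.mk'_apply _ x, (QuotientGroup.eq_one_iff x).2 hx, one_mul]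
    obtain ⟨s, hs, hsc⟩ := lift_coprime π (x * u) (hximg.symm ▸ hwc)
    have hcen : ((x * u) ^ s : U).1 ∈ Subgroup.centralizer ((K.map U.subtype : Subgroup G) : Set G) := by
      by_contra hne
      exact hbig K inf_le_left hKc ⟨_, Subgroup.le_normalizer_map _ ⟨_, pow_mem hn s, rfl⟩, ⟨b, hord _ hsc⟩, hne⟩
    rw [← hximg, ← hs]
    refine Subgroup.mem_centralizer_iff.2 fun k' hk' => ?_
    obtain ⟨t, ht, rfl⟩ := hKb hk'
    rw [← map_mul, ← map_mul]
    exact congrArg π (Subtype.ext (Subgroup.mem_centralizer_iff.1 hcen t ⟨t, ⟨ht, hk'⟩, rfl⟩))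
  have hall := no_coprime _ rfl hfree (TU.mapSurjective (QuotientGroup.mk'_surjective Q0)) (R.map π)
    (hRn.map π (QuotientGroup.mk'_surjective Q0)) ((hH.comap_of_injective U.subtype U.subtype_injective).map π) hRb hypb
  obtain ⟨QU⟩ : Nonempty (Sylow q U) := inferInstance
  have hQC : (QU : Subgroup U).map U.subtype ≤ C := by
    rintro _ ⟨u, hu, rfl⟩
    have hcop : (orderOf u).Coprime p := by
      obtain ⟨k, hk⟩ := QU.2 ⟨u, hu⟩
      exact Nat.Coprime.coprime_dvd_left (orderOf_dvd_of_pow_eq_one (congrArg Subtype.val hk))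
        (((Nat.coprime_primes hqp hp).2 hpq.symm).pow_left k)
    exact ((hQ0mem u).1 ((QuotientGroup.eq_one_iff u).1 (hall (π u) (hcop.coprime_dvd_left (orderOf_map_dvd π u))))).1
  have hCN : C ⊓ N ≤ N := inf_le_right
  have hd : q ^ b ∣ Nat.card C' := by
    have h1 := Subgroup.card_dvd_of_le (le_inf hQC ((Subgroup.map_subtype_le _).trans hUN))
    rw [Subgroup.card_subtype, QU.card_eq_multiplicity, hUc, hfac.2] at h1
    rw [← Nat.card_congr (Subgroup.subgroupOfEquivOfLe hCN).toEquiv, Subgroup.inf_subgroupOf_right] at h1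
    exact h1
  have hbad : q ^ (b + 1) ∣ Nat.card N := by
    rw [pow_succ, ← Subgroup.card_mul_index C']
    exact Nat.mul_dvd_mul hd ((hasWitness_iff H).1 hW)
  have := (hqp.pow_dvd_iff_le_factorization Nat.card_pos.ne').1 hbad
  omega

end Cfsg.Agent.S4411
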