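import Cfsg.Statements.S4412
import Cfsg.Agent.Lib.Solvable.EigenChain
import Cfsg.Agent.Lib.Solvable.CoprimeGeneration
-- import your own Cfsg.Agent.* helpers here

set_option autoImplicit false
open Cfsg

namespace Cfsg.Agent.S4412

/-- In a cyclic group invariant under an involutory automorphism, the action on one element of
prime order decides the action on the generator. -/
theorem gen_action {P : Type*} [Group P] [Finite P] {p : ℕ} [Fact p.Prime] (hp2 : p ≠ 2)
    (hP : IsPGroup p P) (α : MulAut P) (hα : ∀ x, α (α x) = x) {g y : P}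
    (hαg : α g ∈ Subgroup.zpowers g) (hy : y ∈ Subgroup.zpowers g) (hyo : orderOf y = p) :
    (α y = y → α g = g) ∧ (α y = y⁻¹ → α g = g⁻¹) := by
  have hp := (Fact.out : p.Prime)
  have hy1 : y ≠ 1 := fun h => by rw [h, orderOf_one] at hyo; exact hp.ne_one hyo.symm
  have hinv2 : ∀ x : P, x = x⁻¹ → x = 1 := by
    intro x hx
    obtain ⟨k, hk⟩ := hP x
    have h2 : x ^ 2 = 1 := by rw [pow_two]; nth_rewrite 1 [hx]; exact inv_mul_cancel x
    have hd := Nat.dvd_gcd (orderOf_dvd_of_pow_eq_one h2) (orderOf_dvd_of_pow_eq_one hk)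
    rw [Nat.Coprime.gcd_eq_one (((Nat.coprime_primes Nat.prime_two hp).2 (Ne.symm hp2)).pow_right k),
      Nat.dvd_one, orderOf_eq_one_iff] at hd
    exact hd
  -- every nontrivial element of the cyclic group has y among its powers
  have hpow : ∀ w ∈ Subgroup.zpowers g, w ≠ 1 → ∃ n : ℕ, w ^ n = y := by
    intro w hw hw1
    obtain ⟨k, hk⟩ := hP w
    obtain ⟨j, -, hj⟩ := (Nat.dvd_prime_pow hp).1 (orderOf_dvd_of_pow_eq_one hk)
    have hj0 : j ≠ 0 := fun h => hw1 (orderOf_eq_one_iff.1 (by rw [hj, h, pow_zero]))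
    set v := w ^ p ^ (j - 1)
    have hv : orderOf v = p := by
      rw [orderOf_pow' _ (pow_ne_zero _ hp.ne_zero), hj,
        Nat.gcd_eq_right (pow_dvd_pow p (Nat.sub_le j 1)), Nat.pow_div (Nat.sub_le j 1) hp.pos,
        show j - (j - 1) = 1 by omega, pow_one]
    have heq : Subgroup.zpowers v = Subgroup.zpowers y := by
      obtain ⟨a, ha⟩ := Subgroup.mem_zpowers_iff.1 (Subgroup.pow_mem _ hw (p ^ (j - 1)) : v ∈ Subgroup.zpowers g)
      classical
      haveI := Fintype.ofFinite (Subgroup.zpowers g)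
      have key : Nat.card {w : Subgroup.zpowers g // w ^ p = 1} ≤ p := by
        rw [Nat.card_eq_fintype_card, Fintype.card_subtype]
        exact IsCyclic.card_pow_eq_one_le hp.pos
      have hsub : ∀ t : P, t ∈ Subgroup.zpowers g → orderOf t = p →
          ∀ u ∈ Subgroup.zpowers t, u ∈ Subgroup.zpowers g ∧ u ^ p = 1 := fun t ht hto u hu =>
        ⟨(Subgroup.zpowers_le.2 ht) hu, by
          obtain ⟨i, rfl⟩ := Subgroup.mem_zpowers_iff.1 hu
          rw [← zpow_natCast, ← zpow_mul, mul_comm, zpow_mul, zpow_natCast, ← hto, pow_orderOf_eq_one, one_zpow]⟩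
      have hall : ∀ t : P, t ∈ Subgroup.zpowers g → orderOf t = p →
          ∀ u : P, u ∈ Subgroup.zpowers g → u ^ p = 1 → u ∈ Subgroup.zpowers t := by
        intro t ht hto u hu hup
        let ι : Subgroup.zpowers t → {w : Subgroup.zpowers g // w ^ p = 1} := fun w =>
          ⟨⟨w.1, (hsub t ht hto w.1 w.2).1⟩, Subtype.ext (hsub t ht hto w.1 w.2).2⟩
        have hι : Function.Injective ι := fun c d h =>
          Subtype.ext (congrArg (fun w : {w : Subgroup.zpowers g // w ^ p = 1} => ((w.1 : P))) h)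
        have hb : Function.Bijective ι := (Nat.bijective_iff_injective_and_card ι).2
          ⟨hι, le_antisymm (Nat.card_le_card_of_injective ι hι) (key.trans (by rw [Nat.card_zpowers, hto]))⟩
        obtain ⟨c, hc⟩ := hb.2 ⟨⟨u, hu⟩, Subtype.ext hup⟩
        have e : (c : P) = u := congrArg (fun w : {w : Subgroup.zpowers g // w ^ p = 1} => ((w.1 : P))) hc
        rw [← e]; exact c.2
      have hvg : v ∈ Subgroup.zpowers g := Subgroup.mem_zpowers_iff.2 ⟨a, ha⟩
      refine le_antisymm (fun u hu => hall y hy hyo u (hsub v hvg hv u hu).1 (hsub v hvg hv u hu).2)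
        (fun u hu => hall v hvg hv u (hsub y hy hyo u hu).1 (hsub y hy hyo u hu).2)
    have hym : y ∈ Subgroup.zpowers w :=
      (Subgroup.zpowers_le.2 (Subgroup.pow_mem _ (Subgroup.mem_zpowers w) _)) (heq.ge (Subgroup.mem_zpowers y))
    rwa [← mem_powers_iff_mem_zpowers, Submonoid.mem_powers_iff] at hym
  have hcz : ∀ a ∈ Subgroup.zpowers g, ∀ b ∈ Subgroup.zpowers g, a * b = b * a := by
    intro a ha b hb
    obtain ⟨i, rfl⟩ := Subgroup.mem_zpowers_iff.1 ha
    obtain ⟨j, rfl⟩ := Subgroup.mem_zpowers_iff.1 hb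
    rw [← zpow_add, ← zpow_add, add_comm]
  constructor
  · intro hfix
    by_contra hne
    set w := g⁻¹ * α g with hw
    have hw1 : w ≠ 1 := fun h => hne (inv_mul_eq_one.1 h).symm
    have hwm : w ∈ Subgroup.zpowers g := mul_mem (inv_mem (Subgroup.mem_zpowers g)) hαg
    have hαw : α w = w⁻¹ := by rw [hw, map_mul, map_inv, hα, mul_inv_rev, inv_inv]
    obtain ⟨n, hn⟩ := hpow w hwm hw1
    have e : α y = y⁻¹ := by rw [← hn, map_pow, hαw, inv_pow]
    exact hy1 (hinv2 y (hfix.symm.trans e))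
  · intro hinv
    by_contra hne
    set w := g * α g with hw
    have hw1 : w ≠ 1 := fun h => hne (eq_inv_of_mul_eq_one_right h)
    have hwm : w ∈ Subgroup.zpowers g := mul_mem (Subgroup.mem_zpowers g) hαg
    have hαw : α w = w := by rw [hw, map_mul, hα, hcz _ hαg _ (Subgroup.mem_zpowers g)]
    obtain ⟨n, hn⟩ := hpow w hwm hw1
    have e : α y = y := by rw [← hn, map_pow, hαw]
    exact hy1 (hinv2 y (e.symm.trans hinv))

/-- Let p be an odd prime, P a finite p-group and I an elementary abelian subgroup of order 8 of Aut(P). Call T ∈ I, T ≠ 1, broad when its fixed-point subgroup C_P(T) is not cyclic. Suppose I has a proper subgroup I₀ containing no broad element such that the product of any two broad elements lies in I₀. Then P is abelian of rank exactly 3 (generated by three elements but not by two), there are exactly three broad elements and they generate I, and I₀ is exactly the set of products of two broad elements. -/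
theorem result
    {P : Type*} [Group P] [Finite P] (p : ℕ) (hp : p.Prime) (hp2 : p ≠ 2) (hP : IsPGroup p P)
    (I : Subgroup (MulAut P)) (hI : Cfsg.IsElementaryAbelian 2 I) (hI8 : Nat.card ↥I = 8)
    (I₀ : Subgroup (MulAut P)) (hI₀ : I₀ < I)
    (hdisj : ∀ T ∈ I₀, T ≠ 1 → ∃ g : P, ∀ x : P, (T x = x ↔ x ∈ Subgroup.zpowers g))
    (hprod : ∀ T ∈ I, ∀ T' ∈ I, T ≠ 1 → T' ≠ 1 → (¬ ∃ g : P, ∀ x : P, (T x = x ↔ x ∈ Subgroup.zpowers g)) →
      (¬ ∃ g : P, ∀ x : P, (T' x = x ↔ x ∈ Subgroup.zpowers g)) → T * T' ∈ I₀) :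
    IsMulCommutative P ∧ (∃ a b c : P, Subgroup.closure {a, b, c} = ⊤) ∧ (¬ ∃ a b : P, Subgroup.closure {a, b} = ⊤) ∧
      Nat.card {T : MulAut P // T ∈ I ∧ T ≠ 1 ∧ ¬ ∃ g : P, ∀ x : P, (T x = x ↔ x ∈ Subgroup.zpowers g)} = 3 ∧
      Subgroup.closure {T : MulAut P | T ∈ I ∧ T ≠ 1 ∧ ¬ ∃ g : P, ∀ x : P, (T x = x ↔ x ∈ Subgroup.zpowers g)} = I ∧
      (I₀ : Set (MulAut P)) = {S : MulAut P | ∃ T T' : MulAut P, T ∈ I ∧ T' ∈ I ∧ T ≠ 1 ∧ T' ≠ 1 ∧
        (¬ ∃ g : P, ∀ x : P, (T x = x ↔ x ∈ Subgroup.zpowers g)) ∧ (¬ ∃ g : P, ∀ x : P, (T' x = x ↔ x ∈ Subgroup.zpowers g)) ∧ S = T * T'} := by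
  classical
  haveI := Fact.mk hp
  have hF1 : ∀ i : Fin 3, ∃ j k : Fin 3, j ≠ i ∧ k ≠ i ∧ j ≠ k := by decide
  have hF2 : ∀ i : Fin 3, i ≠ i + 1 ∧ i ≠ i + 2 ∧ i + 1 ≠ i + 2 := by decide
  have hF3 : ∀ i j : Fin 3, ∃ k : Fin 3, k ≠ i ∧ k ≠ j := by decide
  have hF4 : ∀ i j : Fin 3, j ≠ i → (j + 1 = i ∧ j + 2 ≠ i) ∨ (j + 2 = i ∧ j + 1 ≠ i) := by decide
  have hF5 : ∀ i j : Fin 3, j = i ∨ j = i + 1 ∨ j = i + 2 := by decide
  have hsq : ∀ u ∈ I, ∀ x, u (u x) = x := fun u hu x => by
    have := hI.2 u hu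
    rw [pow_two] at this
    exact congrArg (fun f : MulAut P => f x) this
  have hIc : ∀ u ∈ I, ∀ v ∈ I, ∀ x, u (v x) = v (u x) := fun u hu v hv x =>
    congrArg (fun f : MulAut P => f x) (congrArg Subtype.val (hI.1.1.1 ⟨u, hu⟩ ⟨v, hv⟩))
  have hinv2 : ∀ x : P, x = x⁻¹ → x = 1 := by
    intro x hx
    obtain ⟨k, hk⟩ := hP x
    have h2 : x ^ 2 = 1 := by rw [pow_two]; nth_rewrite 1 [hx]; exact inv_mul_cancel x
    have hd := Nat.dvd_gcd (orderOf_dvd_of_pow_eq_one h2) (orderOf_dvd_of_pow_eq_one hk)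
    rw [Nat.Coprime.gcd_eq_one (((Nat.coprime_primes Nat.prime_two hp).2 (Ne.symm hp2)).pow_right k),
      Nat.dvd_one, orderOf_eq_one_iff] at hd
    exact hd
  -- the semidirect product
  let G := P ⋊[I.subtype] ↥I
  haveI : Finite G := Finite.of_equiv _ SemidirectProduct.equivProd.symm
  set inl := (SemidirectProduct.inl : P →* G)
  set inr := (SemidirectProduct.inr : ↥I →* G)
  have hconj : ∀ (u : ↥I) (x : P), inr u * inl x * (inr u)⁻¹ = inl ((u : MulAut P) x) := fun u x => by
    rw [← map_inv]; exact (SemidirectProduct.inl_aut (φ := I.subtype) u x).symm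
  set IG := inr.range with hIG
  have hIG' : Cfsg.IsElementaryAbelian 2 IG := by
    refine ⟨⟨⟨?_⟩⟩, ?_⟩
    · rintro ⟨_, u, rfl⟩ ⟨_, v, rfl⟩
      apply Subtype.ext
      simp only [Subgroup.coe_mul]
      rw [← map_mul, ← map_mul, hI.1.1.1 u v]
    · rintro _ ⟨u, rfl⟩
      rw [← map_pow, show u ^ 2 = 1 from Subtype.ext (by simpa using hI.2 u u.2), map_one]
  set F := inl.range with hF
  have hFn : IG ≤ Subgroup.normalizer (F : Set G) := by
    rintro _ ⟨u, rfl⟩
    refine Subgroup.mem_normalizer_iff.2 fun x => ⟨?_, ?_⟩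
    · rintro ⟨y, rfl⟩; exact ⟨_, (hconj u y).symm⟩
    · rintro ⟨y, hy⟩
      refine ⟨(u : MulAut P) y, ?_⟩
      rw [← hconj, hy]
      calc inr u * (inr u * x * (inr u)⁻¹) * (inr u)⁻¹ = inr (u * u) * x * (inr (u * u))⁻¹ := by
            rw [map_mul]; group
        _ = x := by rw [show u * u = 1 from Subtype.ext (by
              have := hI.2 u u.2; rw [pow_two] at this; simpa using this), map_one]; group
  have hFc : Nat.card F = Nat.card P :=
    (Nat.card_congr (MonoidHom.ofInjective SemidirectProduct.inl_injective).toEquiv).symm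
  have hPodd : Odd (Nat.card P) := by
    obtain ⟨k, hk⟩ := IsPGroup.iff_card.1 hP
    rw [hk]; exact (hp.odd_of_ne_two hp2).pow
  have hFnil : Group.IsNilpotent F := by
    haveI : Group.IsNilpotent P := hP.isNilpotent
    exact Group.nilpotent_of_surjective inl.rangeRestrict inl.rangeRestrict_surjective
  have hfaith : ∀ u ∈ IG, (∀ x ∈ F, u * x = x * u) → u = 1 := by
    rintro _ ⟨u, rfl⟩ h
    have : (u : MulAut P) = 1 := by
      refine MulEquiv.ext fun x => ?_
      have e := hconj u x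
      rw [h _ ⟨x, rfl⟩, mul_inv_cancel_right] at e
      exact (SemidirectProduct.inl_injective e).symm
    rw [show u = 1 from Subtype.ext this, map_one]
  obtain ⟨f, h1, h2, h3, h4, h5, h6, h7⟩ := CfsgLib.Solvable.EigenChain.exists_chain hIG' 3 IG F ⊥ le_rfl
    (by rw [hIG, ← Nat.card_congr (MonoidHom.ofInjective SemidirectProduct.inr_injective).toEquiv, hI8]; norm_num)
    hFn hFnil (by rw [hFc]; exact hPodd) bot_le (fun a ha x _ => by rw [Subgroup.mem_bot.1 ha]; simp)
    (fun u _ a ha => by rw [Subgroup.mem_bot.1 ha]; simp) hfaith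
  have hy : ∀ i, ∃ y : P, orderOf y = p ∧ f i = Subgroup.zpowers (inl y) := by
    intro i
    obtain ⟨w, hw1, hw2⟩ := h4 i
    obtain ⟨y, rfl⟩ := h2 i (hw2 ▸ Subgroup.mem_zpowers w)
    rw [orderOf_injective _ SemidirectProduct.inl_injective] at hw1
    refine ⟨y, ?_, hw2⟩
    obtain ⟨k, hk⟩ := hP y
    exact (Nat.prime_dvd_prime_iff_eq (hw1 ▸ h1 i) hp).1 ((hw1 ▸ h1 i).dvd_of_dvd_pow (orderOf_dvd_of_pow_eq_one hk))
  choose y hyo hyf using hy
  -- the sign of an element of I on each y
  have hsign : ∀ u ∈ I, ∀ i, u (y i) = y i ∨ u (y i) = (y i)⁻¹ := by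
    intro u hu i
    have hm := (Subgroup.mem_normalizer_iff.1 (h3 i ⟨⟨u, hu⟩, rfl⟩) (inl (y i))).1 (hyf i ▸ Subgroup.mem_zpowers _)
    rw [hconj, hyf i, Subgroup.mem_zpowers_iff] at hm
    obtain ⟨k, hk⟩ := hm
    rw [← map_zpow] at hk
    have hk' : y i ^ k = u (y i) := SemidirectProduct.inl_injective hk
    have h2' : y i ^ (k * k) = y i := by
      have e := hsq u hu (y i)
      rwa [← hk', map_zpow, ← hk', ← zpow_mul] at e
    have hd : ((k * k - 1 : ℤ) : ZMod p) = 0 := by
      rw [ZMod.intCast_zmod_eq_zero_iff_dvd, ← hyo i, orderOf_dvd_iff_zpow_eq_one,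
        zpow_sub, h2', zpow_one, mul_inv_cancel]
    push_cast at hd
    rcases mul_eq_zero.1 (show ((k : ZMod p) - 1) * ((k : ZMod p) + 1) = 0 by rw [← hd]; ring) with h | h
    · left
      have hdk : (p : ℤ) ∣ k - 1 := (ZMod.intCast_zmod_eq_zero_iff_dvd _ _).1 (by push_cast; exact h)
      rw [← hyo i, orderOf_dvd_iff_zpow_eq_one, zpow_sub, zpow_one, mul_inv_eq_one] at hdk
      rw [← hk', hdk]
    · right
      have hdk : (p : ℤ) ∣ k + 1 := (ZMod.intCast_zmod_eq_zero_iff_dvd _ _).1 (by push_cast; exact h)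
      rw [← hyo i, orderOf_dvd_iff_zpow_eq_one, zpow_add, zpow_one] at hdk
      rw [← hk']; exact eq_inv_of_mul_eq_one_left hdk
  have hne : ∀ i, (y i)⁻¹ ≠ y i := fun i h => by
    have := hinv2 (y i) h.symm
    have h' := hyo i
    rw [this, orderOf_one] at h'
    exact hp.ne_one h'.symm
  let ε : ↥I → (Fin 3 → Bool) := fun u i => decide ((u : MulAut P) (y i) = y i)
  have hεinj : Function.Injective ε := by
    intro u v huv
    have key : ∀ i, (u : MulAut P) (y i) = (v : MulAut P) (y i) := fun i => by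
      have hi : ((u : MulAut P) (y i) = y i) ↔ ((v : MulAut P) (y i) = y i) := by
        have := congrFun huv i
        simpa [ε] using this
      rcases hsign u u.2 i with h | h <;> rcases hsign v v.2 i with h' | h'
      · rw [h, h']
      · exact absurd (h'.symm.trans (hi.1 h)) (hne i)
      · exact absurd (h.symm.trans (hi.2 h')) (hne i)
      · rw [h, h']
    have hmem : inr (u * v) ∈ IG ⊓ Subgroup.centralizer ((⨆ i, f i : Subgroup G) : Set G) := by
      refine ⟨⟨_, rfl⟩, ?_⟩
      have hle : (⨆ i, f i) ≤ Subgroup.centralizer ({inr (u * v)} : Set G) := iSup_le fun i => by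
        rw [hyf i, Subgroup.zpowers_le, Subgroup.mem_centralizer_singleton_iff]
        have e := hconj (u * v) (y i)
        rw [Subgroup.coe_mul, MulAut.mul_apply, ← key i, hsq u u.2] at e
        calc inl (y i) * inr (u * v) = (inr (u * v) * inl (y i) * (inr (u * v))⁻¹) * inr (u * v) := by rw [e]
          _ = inr (u * v) * inl (y i) := by group
      exact Subgroup.mem_centralizer_iff.2 fun w hw => (Subgroup.mem_centralizer_singleton_iff.1 (hle hw))
    rw [h7, Subgroup.mem_bot] at hmem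
    have huv1 : u * v = 1 := SemidirectProduct.inr_injective (hmem.trans (map_one inr).symm)
    have hvv : v * v = 1 := Subtype.ext (by have := hI.2 v v.2; rw [pow_two] at this; simpa using this)
    exact mul_right_cancel (huv1.trans hvv.symm)
  have hεb : Function.Bijective ε := (Nat.bijective_iff_injective_and_card ε).2 ⟨hεinj, by
    rw [hI8, Nat.card_eq_fintype_card, Fintype.card_fun]; rfl⟩
  -- the basic elements
  have hT : ∀ i, ∃ T ∈ I, ∀ j, (j = i → T (y j) = (y j)⁻¹) ∧ (j ≠ i → T (y j) = y j) := by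
    intro i
    obtain ⟨u, hu⟩ := hεb.2 (fun j => decide (j ≠ i))
    refine ⟨u, u.2, fun j => ⟨fun hj => ?_, fun hj => ?_⟩⟩
    · have := congrFun hu j
      simp [ε, hj] at this
      subst hj
      exact (hsign u u.2 j).resolve_left this
    · have := congrFun hu j
      simpa [ε, hj] using this
  choose T hTI hTy using hT
  have hT1 : ∀ i, T i ≠ 1 := fun i h => by
    have := (hTy i i).1 rfl
    rw [h] at this
    exact hne i this.symm
  have hindep : ∀ i j, i ≠ j → y j ∉ Subgroup.zpowers (y i) := by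
    intro i j hij hm
    obtain ⟨k, hk⟩ := Subgroup.mem_zpowers_iff.1 hm
    have e := (hTy j j).1 rfl
    rw [← hk, map_zpow, (hTy j i).2 hij, hk] at e
    exact hne j e.symm
  have hbroad : ∀ i, ¬ ∃ g : P, ∀ x : P, (T i x = x ↔ x ∈ Subgroup.zpowers g) := by
    rintro i ⟨g, hg⟩
    obtain ⟨j, k, hj, hk, hjk⟩ := hF1 i
    have hgj := (hg (y j)).1 ((hTy i j).2 hj)
    have hgk := (hg (y k)).1 ((hTy i k).2 hk)
    -- an involution fixing y k and inverting y j contradicts the cyclic structure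
    have hTg : T j g ∈ Subgroup.zpowers g := by
      rw [← hg, hIc _ (hTI i) _ (hTI j), (hg g).2 (Subgroup.mem_zpowers g)]
    have hfix := (gen_action hp2 hP (T j) (hsq _ (hTI j)) hTg hgk (hyo k)).1 ((hTy j k).2 hjk.symm)
    obtain ⟨m, hm⟩ := Subgroup.mem_zpowers_iff.1 hgj
    have e := (hTy j j).1 rfl
    rw [← hm, map_zpow, hfix, hm] at e
    exact hne j e.symm
  -- the three narrow elements
  have hS : ∀ i : Fin 3, T (i + 1) * T (i + 2) ∈ I₀ ∧ T (i + 1) * T (i + 2) ≠ 1 ∧
      (T (i + 1) * T (i + 2)) (y i) = y i := by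
    intro i
    obtain ⟨d1, d2, d3⟩ := hF2 i
    refine ⟨hprod _ (hTI _) _ (hTI _) (hT1 _) (hT1 _) (hbroad _) (hbroad _), fun h => ?_, ?_⟩
    · have e : (T (i + 1) * T (i + 2)) (y (i + 1)) = y (i + 1) := by rw [h]; rfl
      rw [MulAut.mul_apply, (hTy (i + 2) (i + 1)).2 d3, (hTy (i + 1) (i + 1)).1 rfl] at e
      exact hne _ e
    · rw [MulAut.mul_apply, (hTy (i + 2) i).2 d2, (hTy (i + 1) i).2 d1]
  have hg : ∀ i : Fin 3, ∃ g : P, ∀ x : P, (T (i + 1) * T (i + 2)) x = x ↔ x ∈ Subgroup.zpowers g := fun i =>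
    hdisj _ (hS i).1 (hS i).2.1
  choose g hg using hg
  have hyg : ∀ i, y i ∈ Subgroup.zpowers (g i) := fun i => (hg i (y i)).1 (hS i).2.2
  have hTg : ∀ i j, (j = i → T j (g i) = (g i)⁻¹) ∧ (j ≠ i → T j (g i) = g i) := by
    intro i j
    have hmem : T j (g i) ∈ Subgroup.zpowers (g i) := by
      rw [← hg, MulAut.mul_apply, hIc _ (hTI (i + 2)) _ (hTI j), hIc _ (hTI (i + 1)) _ (hTI j)]
      congr 1
      exact (hg i (g i)).2 (Subgroup.mem_zpowers _)
    have h := gen_action hp2 hP (T j) (hsq _ (hTI j)) hmem (hyg i) (hyo i)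
    exact ⟨fun e => h.2 ((hTy j i).1 e.symm), fun e => h.1 ((hTy j i).2 (Ne.symm e))⟩
  have hgcomm : ∀ i j, g i * g j = g j * g i := by
    intro i j
    rcases eq_or_ne i j with rfl | hij
    · rfl
    obtain ⟨k, hki, hkj⟩ := hF3 i j
    set s := T (k + 1) * T (k + 2)
    let Q : Subgroup P :=
      { carrier := {x | T k x = x}
        one_mem' := map_one _
        mul_mem' := fun {a b} (ha : T k a = a) (hb : T k b = b) => show T k (a * b) = a * b by rw [map_mul, ha, hb]
        inv_mem' := fun {a} (ha : T k a = a) => show T k a⁻¹ = a⁻¹ by rw [map_inv, ha] }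
    have hsI : s ∈ I := mul_mem (hTI _) (hTI _)
    have hsQ : ∀ x : Q, s x ∈ Q := fun x => show T k (s x) = s x by rw [hIc _ (hTI k) _ hsI, x.2]
    let φ : Q → Q := fun x => ⟨(x : P)⁻¹ * s x, mul_mem (inv_mem x.2) (hsQ x)⟩
    have hφ : Function.Injective φ := by
      intro a b hab
      have e : (a : P)⁻¹ * s a = (b : P)⁻¹ * s b := congrArg Subtype.val hab
      have hfix : s ((b : P) * (a : P)⁻¹) = (b : P) * (a : P)⁻¹ := by
        rw [map_mul, map_inv]
        calc s b * (s a)⁻¹ = (b : P) * ((b : P)⁻¹ * s b) * ((a : P) * ((a : P)⁻¹ * s a))⁻¹ := by group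
          _ = _ := by rw [e]; group
      obtain ⟨m, hm⟩ := Subgroup.mem_zpowers_iff.1 ((hg k _).1 hfix)
      have hQm : T k ((b : P) * (a : P)⁻¹) = (b : P) * (a : P)⁻¹ := mul_mem b.2 (inv_mem a.2)
      rw [← hm, map_zpow, (hTg k k).1 rfl, inv_zpow] at hQm
      have h0 := hinv2 _ hQm.symm
      rw [hm] at h0
      exact Subtype.ext (mul_inv_eq_one.1 h0).symm
    have hinv : ∀ x : P, T k x = x → s x = x⁻¹ := by
      intro x hx
      obtain ⟨a, ha⟩ := Finite.injective_iff_surjective.1 hφ ⟨x, hx⟩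
      have e : (a : P)⁻¹ * s a = x := congrArg Subtype.val ha
      rw [← e, map_mul, map_inv, hsq s hsI, mul_inv_rev, inv_inv]
    have hi := hinv (g i) ((hTg i k).2 hki)
    have hj := hinv (g j) ((hTg j k).2 hkj)
    have hij' := hinv (g i * g j) (by rw [map_mul, (hTg i k).2 hki, (hTg j k).2 hkj])
    rw [map_mul, hi, hj, mul_inv_rev] at hij'
    calc g i * g j = ((g j)⁻¹ * (g i)⁻¹)⁻¹ := by group
      _ = ((g i)⁻¹ * (g j)⁻¹)⁻¹ := by rw [hij']
      _ = g j * g i := by group
  set M := Subgroup.closure (Set.range g) with hM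
  haveI hMc : IsMulCommutative M := Subgroup.isMulCommutative_closure (by
    rintro _ ⟨i, rfl⟩ _ ⟨j, rfl⟩; exact hgcomm i j)
  -- I₀ is the four-group of products
  have hI0 : ∀ u ∈ I₀, u = 1 ∨ ∃ i : Fin 3, u = T (i + 1) * T (i + 2) := by
    let φ : Option (Fin 3) → ↥I₀ := fun o => o.elim 1 fun i => ⟨_, (hS i).1⟩
    have hφ : Function.Injective φ := by
      rintro (_ | i) (_ | j) h
      · rfl
      · exact absurd (congrArg Subtype.val h).symm (hS j).2.1
      · exact absurd (congrArg Subtype.val h) (hS i).2.1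
      · have e : T (i + 1) * T (i + 2) = T (j + 1) * T (j + 2) := congrArg Subtype.val h
        by_contra hne'
        have hji : j ≠ i := fun e' => hne' (by rw [e'])
        have e2 := congrArg (fun a : MulAut P => a (y i)) e
        rw [(hS i).2.2, MulAut.mul_apply] at e2
        obtain ⟨d1, d2⟩ | ⟨d1, d2⟩ := hF4 i j (fun e' => hne' (by rw [e']))
        · rw [(hTy (j + 2) i).2 (Ne.symm d2), (hTy (j + 1) i).1 d1.symm] at e2
          exact hne i e2.symm
        · rw [(hTy (j + 2) i).1 d1.symm, map_inv, (hTy (j + 1) i).2 (Ne.symm d2)] at e2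
          exact hne i e2.symm
    have hcard : Nat.card ↥I₀ ≤ 4 := by
      have hd := Subgroup.card_dvd_of_le hI₀.le
      rw [hI8] at hd
      obtain ⟨k, hk, hk'⟩ := (Nat.dvd_prime_pow Nat.prime_two).1 (show Nat.card ↥I₀ ∣ 2 ^ 3 from hd)
      have hk3 : k ≠ 3 := fun e => hI₀.ne (Subgroup.eq_of_le_of_card_ge hI₀.le (by rw [hI8, hk', e]; norm_num))
      rw [hk']
      calc 2 ^ k ≤ 2 ^ 2 := Nat.pow_le_pow_right (by norm_num) (by omega)
        _ = 4 := rfl
    have hb : Function.Bijective φ := (Nat.bijective_iff_injective_and_card φ).2 ⟨hφ, le_antisymm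
      (Nat.card_le_card_of_injective φ hφ) (by rw [Finite.card_option, Nat.card_fin]; exact hcard)⟩
    intro u hu
    obtain ⟨o, ho⟩ := hb.2 ⟨u, hu⟩
    cases o with
    | none => exact Or.inl (congrArg Subtype.val ho).symm
    | some i => exact Or.inr ⟨i, (congrArg Subtype.val ho).symm⟩
  have hMtop : M = ⊤ := by
    set J : Subgroup G := ((I₀.subgroupOf I).map inr) with hJ
    haveI : IsMulCommutative J := ⟨⟨fun a b => by
      have := congrArg Subtype.val (hIG'.1.1.1 ⟨a, Subgroup.map_le_range _ _ a.2⟩ ⟨b, Subgroup.map_le_range _ _ b.2⟩)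
      exact Subtype.ext this⟩⟩
    have hJ4 : Nat.card J = Nat.card I₀ := by
      rw [hJ, Subgroup.card_map_of_injective SemidirectProduct.inr_injective,
        Nat.card_congr (Subgroup.subgroupOfEquivOfLe hI₀.le).toEquiv]
    have hJnc : ¬ IsCyclic J := by
      intro hc
      obtain ⟨⟨w, hw⟩, hgen⟩ := IsCyclic.exists_generator (α := J)
      have hle : Nat.card J ≤ 2 := by
        rw [← orderOf_eq_card_of_forall_mem_zpowers hgen, Subgroup.orderOf_mk]
        exact orderOf_le_of_pow_eq_one two_pos (hIG'.2 w (Subgroup.map_le_range _ _ hw))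
      rw [hJ4] at hle
      have h4 : Nat.card (Fin 2) < Nat.card ↥I₀ := by
        refine lt_of_lt_of_le (b := Nat.card (Fin 3)) (by simp) ?_
        exact Nat.card_le_card_of_injective (fun i => (⟨_, (hS i).1⟩ : ↥I₀)) fun i j h => by
          have e : T (i + 1) * T (i + 2) = T (j + 1) * T (j + 2) := congrArg Subtype.val h
          have e2 := congrArg (fun a : MulAut P => a (y i)) e
          rw [(hS i).2.2, MulAut.mul_apply] at e2
          by_contra hne'
          obtain ⟨d1, d2⟩ | ⟨d1, d2⟩ := hF4 i j (fun e' => hne' (by rw [e']))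
          · rw [(hTy (j + 2) i).2 (Ne.symm d2), (hTy (j + 1) i).1 d1.symm] at e2
            exact hne i e2.symm
          · rw [(hTy (j + 2) i).1 d1.symm, map_inv, (hTy (j + 1) i).2 (Ne.symm d2)] at e2
            exact hne i e2.symm
      rw [Nat.card_fin] at h4
      omega
    have hgenF := CfsgLib.CoprimeGeneration.iSup_centralizer_eq J F hJnc
      (le_trans (Subgroup.map_le_range _ _) hFn) (by
        rw [hJ4, hFc]
        obtain ⟨k, -, hk⟩ := (Nat.dvd_prime_pow Nat.prime_two).1
          (show Nat.card ↥I₀ ∣ 2 ^ 3 by have := Subgroup.card_dvd_of_le hI₀.le; rw [hI8] at this; exact this)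
        rw [hk]
        exact ((Nat.coprime_two_left).2 hPodd).pow_left k)
    rw [eq_top_iff]
    intro x _
    have hx : inl x ∈ M.map inl := by
      have : F ≤ M.map inl := by
        rw [← hgenF]
        refine iSup₂_le ?_
        rintro _ ⟨⟨u, hu, rfl⟩, hu1⟩ _ ⟨⟨z, rfl⟩, hzc⟩
        rw [SetLike.mem_coe, Subgroup.mem_subgroupOf] at hu
        have e := hconj u z
        rw [← Subgroup.mem_centralizer_singleton_iff.1 hzc, mul_inv_cancel_right] at e
        have hfix : (u : MulAut P) z = z := (SemidirectProduct.inl_injective e).symm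
        rcases hI0 _ hu with h | ⟨i, h⟩
        · exact absurd (by rw [show u = 1 from Subtype.ext h, map_one]) hu1
        · rw [h] at hfix
          refine ⟨z, ?_, rfl⟩
          exact (Subgroup.zpowers_le.2 (show g i ∈ M from Subgroup.subset_closure (Set.mem_range_self i))) ((hg i z).1 hfix)
      exact this ⟨x, rfl⟩
    obtain ⟨z, hz, hzx⟩ := hx
    rwa [← SemidirectProduct.inl_injective hzx]
  have hPc : ∀ a b : P, a * b = b * a := fun a b =>
    congrArg Subtype.val (hMc.1.1 ⟨a, hMtop ▸ Subgroup.mem_top a⟩ ⟨b, hMtop ▸ Subgroup.mem_top b⟩)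
  -- broad elements are the T i
  have hclass : ∀ u ∈ I, u ≠ 1 → (¬ ∃ g : P, ∀ x : P, (u x = x ↔ x ∈ Subgroup.zpowers g)) → ∃ i, u = T i := by
    intro u hu hu1 hb
    by_contra hno
    push Not at hno
    apply hb
    have hall : ∀ i, (fun j => decide (j ≠ i)) ≠ ε ⟨u, hu⟩ := by
      intro i h
      apply hno i
      have : ε ⟨u, hu⟩ = ε ⟨T i, hTI i⟩ := by
        rw [← h]
        funext j
        by_cases hj : j = i
        · subst hj; simp [ε, (hTy j j).1 rfl, hne]
        · simp [ε, hj, (hTy i j).2 hj]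
      exact congrArg Subtype.val (hεinj this)
    have hpat : ∀ φ : Fin 3 → Bool, (∀ i, (fun j => decide (j ≠ i)) ≠ φ) → φ = (fun _ => true) ∨
        φ = (fun _ => false) ∨ ∃ i : Fin 3, φ = fun j => decide (j = i) := by decide
    rcases hpat _ hall with h | h | ⟨i, h⟩
    · exact absurd (congrArg Subtype.val (hεinj (a₂ := 1) (by rw [h]; funext j; simp [ε]))) hu1
    · refine ⟨1, fun x => ⟨fun hx => ?_, fun hx => by
        rw [Subgroup.zpowers_one_eq_bot, Subgroup.mem_bot] at hx; rw [hx, map_one]⟩⟩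
      have hgi : ∀ i, u (g i) = (g i)⁻¹ := by
        intro i
        have hmem : u (g i) ∈ Subgroup.zpowers (g i) := by
          rw [← hg, MulAut.mul_apply, hIc _ (hTI (i + 2)) _ hu, hIc _ (hTI (i + 1)) _ hu]
          congr 1
          exact (hg i (g i)).2 (Subgroup.mem_zpowers _)
        refine (gen_action hp2 hP u (hsq u hu) hmem (hyg i) (hyo i)).2 ?_
        have := congrFun h i
        exact (hsign u hu i).resolve_left (by simpa [ε] using this)
      have hall' : ∀ z ∈ M, u z = z⁻¹ := by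
        intro z hz
        induction hz using Subgroup.closure_induction with
        | mem z hz => obtain ⟨i, rfl⟩ := hz; exact hgi i
        | one => simp
        | mul a b _ _ ia ib => rw [map_mul, ia, ib, mul_inv_rev, hPc]
        | inv a _ ia => rw [map_inv, ia]
      rw [Subgroup.zpowers_one_eq_bot, Subgroup.mem_bot]
      exact hinv2 x ((hall' x (hMtop ▸ Subgroup.mem_top x)).symm.trans hx).symm
    · refine hdisj u ?_ hu1
      have : ε ⟨u, hu⟩ = ε ⟨_, hI₀.le (hS i).1⟩ := by
        rw [h]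
        funext j
        obtain rfl | rfl | rfl := hF5 i j
        · simp [ε, (hS j).2.2]
        · have d := (hF2 i).2.2
          have d' := (hF2 i).1.symm
          simp only [ε, d', decide_false]
          rw [MulAut.mul_apply, (hTy (i + 2) (i + 1)).2 d, (hTy (i + 1) (i + 1)).1 rfl]
          simp [hne]
        · have d := (hF2 i).2.2.symm
          have d' := (hF2 i).2.1.symm
          simp only [ε, d', decide_false]
          rw [MulAut.mul_apply, (hTy (i + 2) (i + 2)).1 rfl, map_inv, (hTy (i + 1) (i + 2)).2 d]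
          simp [hne]
      rw [show u = _ from congrArg Subtype.val (hεinj this)]
      exact (hS i).1
  have hTinj : Function.Injective T := by
    intro i j h
    by_contra hij
    have e := (hTy i i).1 rfl
    rw [h, (hTy j i).2 hij] at e
    exact hne i e.symm
  refine ⟨⟨⟨hPc⟩⟩, ⟨g 0, g 1, g 2, ?_⟩, ?_, ?_, ?_, ?_⟩
  · rw [← hMtop, hM]
    congr 1
    ext z
    simp only [Set.mem_insert_iff, Set.mem_singleton_iff, Set.mem_range]
    constructor
    · rintro (rfl | rfl | rfl) <;> exact ⟨_, rfl⟩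
    · rintro ⟨i, rfl⟩; fin_cases i <;> simp
  · rintro ⟨a, b, hab⟩
    let K : Subgroup P :=
      { carrier := {x | x ^ p = 1}
        one_mem' := one_pow p
        mul_mem' := fun {a b} (ha : a ^ p = 1) (hb : b ^ p = 1) => show (a * b) ^ p = 1 by
          rw [Commute.mul_pow (hPc a b), ha, hb, one_mul]
        inv_mem' := fun {a} (ha : a ^ p = 1) => show a⁻¹ ^ p = 1 by rw [inv_pow, ha, inv_one] }
    have hK3 : p * p * p ≤ Nat.card K := by
      have h := h6
      rw [bot_sup_eq, Subgroup.card_bot, one_mul, Fin.prod_univ_three, hyf 0, hyf 1, hyf 2] at h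
      simp only [Nat.card_zpowers, orderOf_injective inl SemidirectProduct.inl_injective, hyo] at h
      rw [← h, ← Subgroup.card_map_of_injective (K := K) (f := inl) SemidirectProduct.inl_injective]
      refine Subgroup.card_le_of_le (iSup_le fun i => ?_)
      rw [hyf i, Subgroup.zpowers_le]
      refine ⟨y i, ?_, rfl⟩
      show (y i) ^ p = 1
      rw [← hyo i]; exact pow_orderOf_eq_one _
    letI : CommGroup P := { (inferInstance : Group P) with mul_comm := hPc }
    set ψ := powMonoidHom (α := P) p with hψ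
    have hcover : Nat.card P ≤ p * p * Nat.card ψ.range := by
      have hs : Function.Surjective (fun t : (Fin p × Fin p) × ψ.range => a ^ (t.1.1 : ℕ) * b ^ (t.1.2 : ℕ) * (t.2 : P)) := by
        intro x
        have hxm : x ∈ Subgroup.closure ({a, b} : Set P) := hab ▸ Subgroup.mem_top x
        obtain ⟨i, j, rfl⟩ := Subgroup.mem_closure_pair.1 hxm
        have hpos : (0 : ℤ) < p := by exact_mod_cast hp.pos
        refine ⟨((⟨(i % p).toNat, by have := Int.emod_lt_of_pos i hpos; have := Int.emod_nonneg i hpos.ne'; omega⟩,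
          ⟨(j % p).toNat, by have := Int.emod_lt_of_pos j hpos; have := Int.emod_nonneg j hpos.ne'; omega⟩),
          ⟨_, (a ^ (i / p) * b ^ (j / p)), rfl⟩), ?_⟩
        simp only [hψ, powMonoidHom_apply, mul_pow]
        rw [← zpow_natCast a, ← zpow_natCast b, Int.toNat_of_nonneg (Int.emod_nonneg i hpos.ne'),
          Int.toNat_of_nonneg (Int.emod_nonneg j hpos.ne'), ← zpow_natCast (a ^ (i / (p : ℤ))),
          ← zpow_natCast (b ^ (j / (p : ℤ))), ← zpow_mul, ← zpow_mul, mul_mul_mul_comm, ← zpow_add, ← zpow_add,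
          mul_comm (i / (p : ℤ)), mul_comm (j / (p : ℤ)), Int.emod_add_mul_ediv, Int.emod_add_mul_ediv]
      have := Nat.card_le_card_of_surjective _ hs
      simpa [Nat.card_prod] using this
    have e := Subgroup.card_eq_card_quotient_mul_card_subgroup ψ.ker
    rw [Nat.card_congr (QuotientGroup.quotientKerEquivRange ψ).toEquiv] at e
    have h3 : p * p * p ≤ Nat.card ψ.ker :=
      hK3.trans (le_of_eq (Nat.card_congr (Equiv.subtypeEquivRight fun x => Iff.rfl)))
    have hpos : 0 < Nat.card ψ.range := Nat.card_pos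
    have h4 : Nat.card ψ.range * (p * p * p) ≤ Nat.card P := by rw [e]; exact Nat.mul_le_mul_left _ h3
    have hp2' := hp.two_le
    have h5 : p * (Nat.card ψ.range * (p * p)) ≤ Nat.card ψ.range * (p * p) := by
      calc p * (Nat.card ψ.range * (p * p)) = Nat.card ψ.range * (p * p * p) := by ring
        _ ≤ _ := h4.trans (hcover.trans_eq (by ring))
    have h6' : 0 < Nat.card ψ.range * (p * p) := by positivity
    nlinarith
  · rw [← Nat.card_fin 3]
    refine (Nat.card_congr (Equiv.ofBijective (fun i => ⟨T i, hTI i, hT1 i, hbroad i⟩) ⟨?_, ?_⟩)).symm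
    · intro i j h; exact hTinj (congrArg Subtype.val h)
    · rintro ⟨u, hu, hu1, hb⟩
      obtain ⟨i, rfl⟩ := hclass u hu hu1 hb
      exact ⟨i, rfl⟩
  · refine le_antisymm ((Subgroup.closure_le _).2 fun u hu => hu.1) ?_
    intro u hu
    -- peel off the signs one at a time
    set C := Subgroup.closure {T : MulAut P | T ∈ I ∧ T ≠ 1 ∧ ¬ ∃ g : P, ∀ x : P, (T x = x ↔ x ∈ Subgroup.zpowers g)}
    have hTC : ∀ i, T i ∈ C := fun i => Subgroup.subset_closure ⟨hTI i, hT1 i, hbroad i⟩
    have h0I := hI₀.le (hS 0).1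
    let pick : Fin 3 → ↥I := fun i => if (u (y i) = y i) then 1 else ⟨T i, hTI i⟩
    have hval : ∀ i j, ((pick i : ↥I) : MulAut P) (y j) = if j = i then u (y j) else y j := by
      intro i j
      by_cases hfix : u (y i) = y i
      · simp only [pick, hfix, if_true, Subgroup.coe_one, MulAut.one_apply]
        split_ifs with hji
        · rw [hji, hfix]
        · rfl
      · simp only [pick, hfix, if_false]
        split_ifs with hji
        · subst hji
          rw [(hTy j j).1 rfl, (hsign u hu j).resolve_left hfix]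
        · rw [(hTy i j).2 hji]
    have hiu : (⟨u, hu⟩ : ↥I) = pick 0 * pick 1 * pick 2 := by
      apply hεinj
      funext j
      simp only [ε, Subgroup.coe_mul, MulAut.mul_apply]
      fin_cases j
      · rcases hsign u hu 0 with e | e <;> simp [hval, e, map_inv]
      · rcases hsign u hu 1 with e | e <;> simp [hval, e, map_inv]
      · rcases hsign u hu 2 with e | e <;> simp [hval, e, map_inv]
    have : u = ((pick 0 * pick 1 * pick 2 : ↥I) : MulAut P) := congrArg Subtype.val hiu
    rw [this, Subgroup.coe_mul, Subgroup.coe_mul]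
    have hpC : ∀ i, ((pick i : ↥I) : MulAut P) ∈ C := fun i => by
      simp only [pick]; split_ifs
      · exact one_mem C
      · exact hTC i
    exact mul_mem (mul_mem (hpC 0) (hpC 1)) (hpC 2)
  · ext u
    constructor
    · intro hu
      rcases hI0 u hu with rfl | ⟨i, rfl⟩
      · exact ⟨T 0, T 0, hTI 0, hTI 0, hT1 0, hT1 0, hbroad 0, hbroad 0, by
          have := hI.2 _ (hTI 0); rw [pow_two] at this; exact this.symm⟩
      · exact ⟨T (i + 1), T (i + 2), hTI _, hTI _, hT1 _, hT1 _, hbroad _, hbroad _, rfl⟩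
    · rintro ⟨a, b, ha, hb, ha1, hb1, hab, hbb, rfl⟩
      exact hprod a ha b hb ha1 hb1 hab hbb

end Cfsg.Agent.S4412
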