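import Cfsg.Statements.S4413
import Cfsg.Agent.S4416
-- import your own Cfsg.Agent.* helpers here

set_option autoImplicit false
open Cfsg

namespace Cfsg.Agent.S4413

open CfsgLib.ExtraModel

/-- The model of minus type of order 32. -/
abbrev G0 := Ext (Cfsg.Agent.S4416.model false 1)

/-- Equality in the model is decidable. -/
instance instDecEqG0 : DecidableEq G0 := equivProd.injective.decidableEq

/-- The five singular points. -/
def pt : Fin 5 → Vec 2
  | 0 => ![(0, 0), (1, 0)]
  | 1 => ![(0, 0), (0, 1)]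
  | 2 => ![(1, 0), (1, 1)]
  | 3 => ![(0, 1), (1, 1)]
  | 4 => ![(1, 1), (1, 1)]

/-- Coordinates in the first four singular points. -/
def coord (v : Vec 2) : Fin 4 → ZMod 2 :=
  ![(v 1).1 + (v 0).1 + (v 0).2, (v 1).2 + (v 0).1 + (v 0).2, (v 0).1, (v 0).2]

/-- The linear map of a permutation of the singular points. -/
def lin (π : Equiv.Perm (Fin 5)) (v : Vec 2) : Vec 2 :=
  fun k => ∑ i : Fin 4, (coord v i * (pt (π i.castSucc) k).1, coord v i * (pt (π i.castSucc) k).2)

/-- The correction of the central bit. -/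
def corr (π : Equiv.Perm (Fin 5)) (v : Vec 2) : ZMod 2 :=
  ∑ i : Fin 4, ∑ j : Fin 4, if i < j then coord v i * coord v j *
    (beta (Cfsg.Agent.S4416.model false 1) (pt (π i.castSucc)) (pt (π j.castSucc)) +
      beta (Cfsg.Agent.S4416.model false 1) (pt i.castSucc) (pt j.castSucc)) else 0

/-- The map of the model attached to a transposition. -/
def amap (i : Fin 5) (g : G0) : G0 :=
  ⟨lin (Equiv.swap 0 i) g.vec, g.bit + corr (Equiv.swap 0 i) g.vec⟩

theorem lin_lin : ∀ i : Fin 5, ∀ v : Vec 2, lin (Equiv.swap 0 i) (lin (Equiv.swap 0 i) v) = v := by decide +kernel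

theorem lin_add : ∀ i : Fin 5, ∀ v w : Vec 2, lin (Equiv.swap 0 i) (v + w) = lin (Equiv.swap 0 i) v + lin (Equiv.swap 0 i) w ∧
    corr (Equiv.swap 0 i) (v + w) + beta (Cfsg.Agent.S4416.model false 1) v w = corr (Equiv.swap 0 i) v +
      corr (Equiv.swap 0 i) w + beta (Cfsg.Agent.S4416.model false 1) (lin (Equiv.swap 0 i) v) (lin (Equiv.swap 0 i) w) := by
  decide +kernel

theorem lin_pt : ∀ i : Fin 5, ∀ j : Fin 5, lin (Equiv.swap 0 i) (pt j) = pt (Equiv.swap 0 i j) := by decide +kernel

theorem pt_inj : Function.Injective pt := by unfold Function.Injective; decide +kernel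

theorem pt_sq : ∀ i : Fin 5, (⟨pt i, 0⟩ : G0) * ⟨pt i, 0⟩ = 1 := by decide +kernel

theorem singular : ∀ v : Vec 2, v ≠ 0 → beta (Cfsg.Agent.S4416.model false 1) v v = 0 → ∃ j, v = pt j := by decide +kernel

theorem span_pt : ∀ v : Vec 2, ∀ b : ZMod 2, ∃ t : ZMod 2, (⟨v, b⟩ : G0) =
    (⟨pt 0, 0⟩ : G0) ^ (coord v 0).val * (⟨pt 1, 0⟩ : G0) ^ (coord v 1).val *
      (⟨pt 2, 0⟩ : G0) ^ (coord v 2).val * (⟨pt 3, 0⟩ : G0) ^ (coord v 3).val * ⟨0, t⟩ := by decide +kernel

attribute [local irreducible] lin corr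

/-- An automorphism for each transposition. -/
theorem exists_aut (i : Fin 5) : ∃ α : MulAut G0, ∀ j, (α ⟨pt j, 0⟩).vec = pt (Equiv.swap 0 i j) := by
  have hmul : ∀ g h : G0, amap i (g * h) = amap i g * amap i h := by
    intro g h
    obtain ⟨e1, e2⟩ := lin_add i g.vec h.vec
    refine Ext.ext ?_ ?_
    · simp only [amap, mul_vec]; exact e1
    · simp only [amap, mul_vec, mul_bit]
      linear_combination e2
  have hinj : Function.Injective (amap i) := by
    intro g h e
    have e0 : lin (Equiv.swap 0 i) g.vec = lin (Equiv.swap 0 i) h.vec := congrArg Ext.vec e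
    have e1 : g.vec = h.vec := by
      calc g.vec = lin (Equiv.swap 0 i) (lin (Equiv.swap 0 i) g.vec) := (lin_lin i g.vec).symm
        _ = lin (Equiv.swap 0 i) (lin (Equiv.swap 0 i) h.vec) := congrArg _ e0
        _ = h.vec := lin_lin i h.vec
    refine Ext.ext e1 ?_
    have e2 : g.bit + corr (Equiv.swap 0 i) g.vec = h.bit + corr (Equiv.swap 0 i) h.vec := congrArg Ext.bit e
    rw [e1] at e2
    exact add_right_cancel e2
  exact ⟨MulEquiv.ofBijective (MonoidHom.mk' (amap i) hmul) ⟨hinj, Finite.injective_iff_surjective.1 hinj⟩,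
    fun j => lin_pt i j⟩

/-- The permutation of the singular points induced by an automorphism. -/
theorem exists_perm : ∃ σ : MulAut G0 →* Equiv.Perm (Fin 5), Function.Surjective σ ∧
    (∀ g, σ (MulAut.conj g) = 1) ∧ Nat.card σ.ker ≤ 16 := by
  classical
  haveI : Finite (MulAut G0) := Finite.of_injective (fun α => (α : G0 → G0)) fun a b h => MulEquiv.ext (congrFun h)
  have hz : ∀ g : G0, g.vec = 0 ↔ g ∈ Subgroup.center G0 := fun g => mem_center_iff.symm
  have hfixc : ∀ α : MulAut G0, ∀ g : G0, g.vec = 0 → α g = g := by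
    intro α g hg
    have h1 := center_cases ((hz g).1 hg)
    have h2 : α g ∈ Subgroup.center G0 := by
      rw [Subgroup.mem_center_iff]
      intro y
      obtain ⟨y, rfl⟩ := α.surjective y
      rw [← map_mul, ← map_mul, (Subgroup.mem_center_iff.1 ((hz g).1 hg)) y]
    rcases h1 with rfl | rfl
    · exact map_one α
    · rcases center_cases h2 with h | h
      · exact absurd (α.map_eq_one_iff.1 h) (by decide)
      · exact h
  have hbit : ∀ α : MulAut G0, ∀ g h : G0, g.vec = h.vec → (α g).vec = (α h).vec := by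
    intro α g h e
    have hq : (g⁻¹ * h).vec = 0 := by rw [mul_vec]; show g.vec + h.vec = 0; rw [e]; exact add_self' _
    calc (α g).vec = (α g * α (g⁻¹ * h)).vec := by rw [mul_vec, hfixc α _ hq, hq, add_zero]
      _ = _ := by rw [← map_mul, mul_inv_cancel_left]
  have hex : ∀ α : MulAut G0, ∀ i, ∃ j, (α ⟨pt i, 0⟩).vec = pt j := by
    intro α i
    apply singular
    · intro h
      have h1 : (α⁻¹ : MulAut G0) (α ⟨pt i, 0⟩) = α ⟨pt i, 0⟩ := hfixc α⁻¹ _ h
      rw [MulAut.inv_apply_self] at h1
      rw [← h1] at h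
      revert h
      exact (by decide : ∀ i, pt i = 0 → False) i
    · have e := congrArg α (pt_sq i)
      rw [map_mul, map_one, ← pow_two, sq_eq] at e
      exact congrArg Ext.bit e
  choose f hf using hex
  have hf1 : ∀ α β : MulAut G0, ∀ i, f (α * β) i = f α (f β i) := by
    intro α β i
    apply pt_inj
    rw [← hf, ← hf, MulAut.mul_apply]
    exact hbit α _ _ (hf β i)
  have hf0 : ∀ i, f 1 i = i := fun i => by apply pt_inj; rw [← hf]; rfl
  let P' : MulAut G0 → Equiv.Perm (Fin 5) := fun α =>
    { toFun := f α, invFun := f α⁻¹,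
      left_inv := fun i => by rw [← hf1, inv_mul_cancel, hf0],
      right_inv := fun i => by rw [← hf1, mul_inv_cancel, hf0] }
  let σ : MulAut G0 →* Equiv.Perm (Fin 5) := MonoidHom.mk' P' fun α β => Equiv.ext (hf1 α β)
  refine ⟨σ, ?_, ?_, ?_⟩
  · have hsw : ∀ i, Equiv.swap 0 i ∈ σ.range := fun i => by
      obtain ⟨α, hα⟩ := exists_aut i
      exact ⟨α, Equiv.ext fun j => pt_inj ((hf α j).symm.trans (hα j))⟩
    rw [← MonoidHom.range_eq_top, eq_top_iff, ← Equiv.Perm.closure_isSwap, Subgroup.closure_le]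
    rintro π ⟨x, y, hxy, rfl⟩
    by_cases hx : x = 0
    · subst hx; exact hsw y
    by_cases hy : y = 0
    · subst hy; rw [Equiv.swap_comm]; exact hsw x
    rw [Equiv.swap_comm x y, ← Equiv.swap_mul_swap_mul_swap (x := x) (y := 0) (z := y) hx hxy, Equiv.swap_comm x 0]
    first
      | exact mul_mem (mul_mem (hsw y) (hsw x)) (hsw y)
      | exact mul_mem (mul_mem (hsw x) (hsw y)) (hsw x)
      | exact SetLike.mem_coe.2 (mul_mem (mul_mem (hsw y) (hsw x)) (hsw y))
  · intro g
    refine Equiv.ext fun j => pt_inj ?_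
    show pt (f (MulAut.conj g) j) = pt j
    rw [← hf, MulAut.conj_apply, mul_vec, mul_vec]
    show g.vec + pt j + g.vec = pt j
    rw [add_comm g.vec, add_assoc, add_self', add_zero]
  · let B : σ.ker → (Fin 4 → ZMod 2) := fun α i => (α.1 ⟨pt i.castSucc, 0⟩).bit
    refine (Nat.card_le_card_of_injective B ?_).trans (by simp [Nat.card_fun])
    rintro ⟨α, hα⟩ ⟨β, hβ⟩ h
    have hvec : ∀ γ ∈ σ.ker, ∀ i, (γ ⟨pt i, 0⟩).vec = pt i := fun γ hγ i => by
      rw [hf, show f γ i = σ γ i from rfl, MonoidHom.mem_ker.1 hγ]; rfl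
    have hgen : ∀ i : Fin 4, α ⟨pt i.castSucc, 0⟩ = β ⟨pt i.castSucc, 0⟩ := fun i =>
      Ext.ext (by rw [hvec α hα, hvec β hβ]) (congrFun h i)
    apply Subtype.ext
    refine MulEquiv.ext fun g => ?_
    obtain ⟨t, ht⟩ := span_pt g.vec g.bit
    rw [show g = ⟨g.vec, g.bit⟩ from rfl, ht]
    simp only [map_mul, map_pow]
    have e0 := hgen 0
    have e1 := hgen 1
    have e2 := hgen 2
    have e3 := hgen 3
    simp only [Fin.castSucc_zero] at e0
    rw [e0, show α ⟨pt 1, 0⟩ = β ⟨pt 1, 0⟩ from e1, show α ⟨pt 2, 0⟩ = β ⟨pt 2, 0⟩ from e2,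
      show α ⟨pt 3, 0⟩ = β ⟨pt 3, 0⟩ from e3, hfixc α ⟨0, t⟩ rfl, hfixc β ⟨0, t⟩ rfl]

/-- Let P be an extraspecial 2-group of order 32 with no elementary abelian subgroup of order 8 (the central product of a dihedral and a quaternion group of order 8). Then the inner automorphism group of P has order 16 and the outer automorphism group Aut(P)/Inn(P) is isomorphic to the symmetric group of degree 5; in particular Aut(P) has order 1920. -/
theorem result {P : Type*} [Group P] [Finite P]
    (hex : Cfsg.IsExtraspecial 2 P) (h32 : Nat.card P = 32)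
    (hminus : ∀ A : Subgroup P, Cfsg.IsElementaryAbelian 2 A → Nat.card ↥A ≤ 4)
    [(MulAut.conj : P →* MulAut P).range.Normal] :
    Nat.card ↥(MulAut.conj : P →* MulAut P).range = 16 ∧ Nat.card (MulAut P) = 1920 ∧
      Nonempty ((MulAut P ⧸ (MulAut.conj : P →* MulAut P).range) ≃* Equiv.Perm (Fin 5)) := by
  classical
  haveI := Fact.mk Nat.prime_two
  obtain ⟨σ', ⟨e⟩⟩ := Cfsg.Agent.S4416.classify 1 hex (by rw [h32]; norm_num)
  cases σ' with
  | true =>
    exfalso
    have hεt : ∀ i, (Cfsg.Agent.S4416.model true 1) i = 0 := fun i => rfl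
    set ψ := part (ε := Cfsg.Agent.S4416.model true 1) (fun _ => true) (fun i _ => hεt i) with hψ
    have hexp : ∀ p : Multiplicative ((Fin 2 → ZMod 2) × ZMod 2), p ^ 2 = 1 := fun p => by
      rw [pow_two]
      exact Multiplicative.toAdd.injective (Prod.ext (funext fun i => CharTwo.add_self_eq_zero _)
        (CharTwo.add_self_eq_zero _))
    have hinj : Function.Injective (e.symm.toMonoidHom.comp ψ) := by
      refine e.symm.injective.comp ?_
      intro p q h
      apply Multiplicative.toAdd.injective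
      refine Prod.ext (funext fun j => ?_) (congrArg Ext.bit h)
      have := congrArg (fun a : Ext (Cfsg.Agent.S4416.model true 1) => (a.vec j).1) h
      simpa [hψ, part] using this
    have hA : Cfsg.IsElementaryAbelian 2 (e.symm.toMonoidHom.comp ψ).range := by
      refine ⟨⟨⟨?_⟩⟩, ?_⟩
      · rintro ⟨_, a, rfl⟩ ⟨_, b, rfl⟩
        apply Subtype.ext
        simp only [Subgroup.coe_mul]
        rw [← map_mul, mul_comm a b, map_mul]
      · rintro _ ⟨a, rfl⟩
        rw [← map_pow, hexp, map_one]
    have h8 := hminus _ hA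
    rw [← Nat.card_congr (MonoidHom.ofInjective hinj).toEquiv, Nat.card_congr Multiplicative.toAdd,
      Nat.card_prod, Nat.card_fun, Nat.card_zmod, Nat.card_fin] at h8
    omega
  | false =>
    haveI : Finite (MulAut P) := Finite.of_injective (fun α => (α : P → P)) fun a b h => MulEquiv.ext (congrFun h)
    haveI : Finite (MulAut G0) := Finite.of_injective (fun α => (α : G0 → G0)) fun a b h => MulEquiv.ext (congrFun h)
    obtain ⟨σ, hσs, hσc, hσk⟩ := exists_perm
    let ψ : MulAut P →* Equiv.Perm (Fin 5) := σ.comp (MulAut.congr e).toMonoidHom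
    have hψs : Function.Surjective ψ := hσs.comp (MulAut.congr e).surjective
    have hinner : (MulAut.conj : P →* MulAut P).range ≤ ψ.ker := by
      rintro _ ⟨g, rfl⟩
      rw [MonoidHom.mem_ker]
      show σ (MulAut.congr e (MulAut.conj g)) = 1
      rw [show MulAut.congr e (MulAut.conj g) = MulAut.conj (e g) from MulEquiv.ext fun x => by
        show e (g * e.symm x * g⁻¹) = e g * x * (e g)⁻¹
        rw [map_mul, map_mul, map_inv, MulEquiv.apply_symm_apply]]
      exact hσc _
    have hker : Nat.card ψ.ker ≤ 16 := by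
      refine le_trans ?_ hσk
      refine Nat.card_le_card_of_injective (fun α => (⟨MulAut.congr e α.1, α.2⟩ : σ.ker)) ?_
      intro a b h
      exact Subtype.ext ((MulAut.congr e).injective (congrArg Subtype.val h))
    have hkc : (MulAut.conj : P →* MulAut P).ker = Subgroup.center P := by
      ext g
      rw [MonoidHom.mem_ker, Subgroup.mem_center_iff]
      constructor
      · intro h x
        have := congrArg (fun f : MulAut P => f x) h
        simp only [MulAut.conj_apply, MulAut.one_apply] at this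
        exact (mul_inv_eq_iff_eq_mul.1 this).symm
      · intro h
        refine MulEquiv.ext fun x => ?_
        rw [MulAut.conj_apply, MulAut.one_apply, ← h x, mul_inv_cancel_right]
    have h16 : Nat.card ↥(MulAut.conj : P →* MulAut P).range = 16 := by
      have := Subgroup.card_eq_card_quotient_mul_card_subgroup (MulAut.conj : P →* MulAut P).ker
      rw [Nat.card_congr (QuotientGroup.quotientKerEquivRange _).toEquiv, h32, hkc, hex.2] at this
      omega
    have heq : (MulAut.conj : P →* MulAut P).range = ψ.ker :=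
      Subgroup.eq_of_le_of_card_ge hinner (by rw [h16]; exact hker)
    let iso := (QuotientGroup.quotientMulEquivOfEq heq).trans (QuotientGroup.quotientKerEquivOfSurjective ψ hψs)
    refine ⟨h16, ?_, ⟨iso⟩⟩
    rw [Subgroup.card_eq_card_quotient_mul_card_subgroup (MulAut.conj : P →* MulAut P).range, h16,
      Nat.card_congr iso.toEquiv, Nat.card_perm, Nat.card_fin]
    rfl

end Cfsg.Agent.S4413
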