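import Cfsg.Statements.S4414
import Cfsg.Agent.H79Linear
-- import your own Cfsg.Agent.* helpers here

set_option autoImplicit false
open Cfsg

namespace Cfsg.Agent.S4414

/-- The algebraic closure of the field with two elements. -/
abbrev K2 := AlgebraicClosure (ZMod 2)

theorem two_eq_zero : ((2 : ℕ) : K2) = 0 := by
  rw [← map_natCast (algebraMap (ZMod 2) K2), show ((2 : ℕ) : ZMod 2) = 0 from rfl, map_zero]

/-- The extension of scalars in coordinates. -/
theorem exists_model {S : Type*} [Group S] {E : Type*} [AddCommGroup E] [Module (ZMod 2) E] [Finite E]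
    (ρ : Representation (ZMod 2) S E) :
    ∃ (n : ℕ) (σ : S →* Module.End K2 (Fin n → K2)) (ι : E →ₗ[ZMod 2] (Fin n → K2)),
      Function.Injective ι ∧ (∀ g e, σ g (ι e) = ι (ρ g e)) ∧
      ∀ (T : Set S) (v : Fin n → K2), (∀ g ∈ T, σ g v = v) →
        v ∈ Submodule.span K2 (ι '' {e | ∀ g ∈ T, ρ g e = e}) := by
  classical
  haveI : Module.Finite (ZMod 2) E := Module.Finite.of_finite
  set n := Module.finrank (ZMod 2) E
  let bs := Module.finBasis (ZMod 2) E
  let σ : S →* Module.End K2 (Fin n → K2) :=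
    (Matrix.toLinAlgEquiv' : Matrix (Fin n) (Fin n) K2 ≃ₐ[K2] _).toMonoidHom.comp
      ((algebraMap (ZMod 2) K2).mapMatrix.toMonoidHom.comp ((LinearMap.toMatrixAlgEquiv bs).toMonoidHom.comp ρ))
  let ι : E →ₗ[ZMod 2] (Fin n → K2) := LinearMap.pi fun i =>
    (Algebra.linearMap (ZMod 2) K2).comp ((Finsupp.lapply i).comp bs.repr.toLinearMap)
  have hι : ∀ e i, ι e i = algebraMap (ZMod 2) K2 (bs.repr e i) := fun e i => rfl
  have hσ : ∀ g v j, σ g v j = ∑ l, algebraMap (ZMod 2) K2 (LinearMap.toMatrixAlgEquiv bs (ρ g) j l) * v l := by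
    intro g v j
    simp [σ, Matrix.toLinAlgEquiv'_apply, Matrix.mulVec, dotProduct]
    rfl
  have hmat : ∀ g e j, bs.repr (ρ g e) j = ∑ l, LinearMap.toMatrixAlgEquiv bs (ρ g) j l * bs.repr e l := by
    intro g e j
    have := congrFun (LinearMap.toMatrix_mulVec_repr bs bs (ρ g) e) j
    simp only [Matrix.mulVec, dotProduct] at this
    exact this.symm
  refine ⟨n, σ, ι, ?_, ?_, ?_⟩
  · intro a b h
    refine bs.repr.injective (Finsupp.ext fun i => (algebraMap (ZMod 2) K2).injective ?_)
    rw [← hι, ← hι, h]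
  · intro g e
    funext j
    rw [hσ, hι, hmat, map_sum]
    simp only [hι, map_mul]
  · intro T v hv
    let b := Module.Free.chooseBasis (ZMod 2) K2
    let ei : Module.Free.ChooseBasisIndex (ZMod 2) K2 → E := fun i => bs.equivFun.symm fun j => b.repr (v j) i
    have hei : ∀ i j, bs.repr (ei i) j = b.repr (v j) i := fun i j => by
      have := congrFun (bs.equivFun.apply_symm_apply fun j => b.repr (v j) i) j
      rwa [Module.Basis.equivFun_apply] at this
    have hfix : ∀ i, ∀ g ∈ T, ρ g (ei i) = ei i := by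
      intro i g hg
      refine bs.repr.injective (Finsupp.ext fun j => ?_)
      rw [hmat, hei]
      simp only [hei]
      calc ∑ l, LinearMap.toMatrixAlgEquiv bs (ρ g) j l * b.repr (v l) i
          = b.repr (∑ l, LinearMap.toMatrixAlgEquiv bs (ρ g) j l • v l) i := by
            simp [map_sum, Finsupp.finset_sum_apply]
        _ = b.repr (v j) i := by
            congr 2
            conv_rhs => rw [← hv g hg, hσ]
            simp [Algebra.smul_def]
    let s := Finset.univ.biUnion fun j => (b.repr (v j)).support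
    have hv' : v = ∑ i ∈ s, b i • ι (ei i) := by
      funext j
      rw [Finset.sum_apply]
      conv_lhs => rw [← b.linearCombination_repr (v j)]
      rw [Finsupp.linearCombination_apply, Finsupp.sum_of_support_subset _ (s := s)
        (fun i hi => Finset.mem_biUnion.2 ⟨j, Finset.mem_univ _, hi⟩) _ (fun i _ => by simp)]
      refine Finset.sum_congr rfl fun i _ => ?_
      rw [Pi.smul_apply, hι, hei, smul_eq_mul, Algebra.smul_def, mul_comm]
    rw [hv']
    exact Submodule.sum_mem _ fun i _ => Submodule.smul_mem _ _ (Submodule.subset_span ⟨ei i, hfix i, rfl⟩)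

/-- Weight projections of an abelian group of odd order. -/
theorem exists_proj {S : Type*} [Group S] [Finite S] (P : Subgroup S) [P.Normal] [IsMulCommutative P]
    (hodd : Odd (Nat.card P)) {V : Type*} [AddCommGroup V] [Module K2 V] (σ : S →* Module.End K2 V) :
    ∃ (_ : Finite (P →* K2ˣ)) (proj : (P →* K2ˣ) → Module.End K2 V),
      (∀ l v, ∀ a : P, σ a (proj l v) = ((l a : K2ˣ) : K2) • proj l v) ∧
      (∀ l v, (∀ a : P, σ a v = ((l a : K2ˣ) : K2) • v) → proj l v = v) ∧
      (∀ l m v, l ≠ m → (∀ a : P, σ a v = ((l a : K2ˣ) : K2) • v) → proj m v = 0) ∧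
      (∀ v, v ≠ 0 → ∃ l, proj l v ≠ 0) := by
  classical
  letI : CommGroup P := { (inferInstance : Group P) with mul_comm := mul_comm' }
  letI := Fintype.ofFinite P
  haveI : NeZero ((Monoid.exponent P : ℕ) : ZMod 2) := ⟨fun h => by
    rw [ZMod.natCast_eq_zero_iff_even] at h
    have := (Odd.of_dvd_nat hodd (Group.exponent_dvd_nat_card (G := P)))
    exact Nat.not_even_iff_odd.2 this h⟩
  haveI hfin : Finite (P →* K2ˣ) :=
    Finite.of_equiv P (CommGroup.monoidHom_mulEquiv_of_hasEnoughRootsOfUnity P K2).some.toEquiv.symm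
  letI := Fintype.ofFinite (P →* K2ˣ)
  have hcast : ((Nat.card P : ℕ) : K2) = 1 := by
    obtain ⟨k, hk⟩ := hodd
    rw [hk, Nat.cast_add, Nat.cast_mul, two_eq_zero, zero_mul, zero_add, Nat.cast_one]
  have hσ : ∀ a b : P, ∀ v, σ (a * b : P) v = σ a (σ b v) := fun a b v => by
    rw [Subgroup.coe_mul, map_mul]; rfl
  let proj : (P →* K2ˣ) → Module.End K2 V := fun l => ∑ a : P, ((l a⁻¹ : K2ˣ) : K2) • σ a
  have hproj : ∀ l v, proj l v = ∑ a : P, ((l a⁻¹ : K2ˣ) : K2) • σ a v := fun l v => by simp [proj]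
  have horth : ∀ χ : P →* K2ˣ, χ ≠ 1 → ∑ a : P, ((χ a : K2ˣ) : K2) = 0 := by
    intro χ hχ
    obtain ⟨c, hc⟩ : ∃ c, χ c ≠ 1 := by
      by_contra h; push Not at h; exact hχ (MonoidHom.ext h)
    have e : ((χ c : K2ˣ) : K2) * ∑ a : P, ((χ a : K2ˣ) : K2) = ∑ a : P, ((χ a : K2ˣ) : K2) := by
      rw [Finset.mul_sum]
      exact Fintype.sum_equiv (Equiv.mulLeft c) _ _ (fun a => by simp)
    by_contra h
    exact hc (Units.ext ((mul_left_eq_self₀.1 e).resolve_right h))
  refine ⟨hfin, proj, ?_, ?_, ?_, ?_⟩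
  · intro l v a
    rw [hproj, map_sum, Finset.smul_sum]
    refine Fintype.sum_equiv (Equiv.mulLeft a) _ _ (fun b => ?_)
    rw [map_smul, ← hσ, smul_smul, Equiv.coe_mulLeft, ← Units.val_mul, ← map_mul, mul_inv_rev,
      mul_comm b⁻¹ a⁻¹, mul_inv_cancel_left]
  · intro l v hv
    rw [hproj]
    simp only [hv, smul_smul, ← Units.val_mul, ← map_mul, inv_mul_cancel, map_one, Units.val_one, one_smul]
    rw [Finset.sum_const, Finset.card_univ, ← Nat.card_eq_fintype_card, ← Nat.cast_smul_eq_nsmul K2, hcast,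
      one_smul]
  · intro l m v hlm hv
    rw [hproj]
    simp only [hv, smul_smul]
    rw [← Finset.sum_smul]
    have hχ : l * m⁻¹ ≠ 1 := fun h => hlm (mul_inv_eq_one.1 h)
    have := horth _ hχ
    simp only [MonoidHom.mul_apply, MonoidHom.inv_apply, Units.val_mul] at this
    rw [show (∑ a : P, ((m a⁻¹ : K2ˣ) : K2) * ((l a : K2ˣ) : K2)) = 0 by
      rw [← this]; exact Finset.sum_congr rfl fun a _ => by rw [map_inv, mul_comm], zero_smul]
  · intro v hv
    by_contra h
    push Not at h
    apply hv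
    have hs : ∑ l : P →* K2ˣ, proj l v = v := by
      simp only [hproj]
      rw [Finset.sum_comm, Finset.sum_eq_single (1 : P)]
      · simp only [inv_one, map_one, Units.val_one, one_smul, Subgroup.coe_one, Module.End.one_apply]
        rw [Finset.sum_const, Finset.card_univ, ← Nat.card_eq_fintype_card,
          CommGroup.card_monoidHom_of_hasEnoughRootsOfUnity, ← Nat.cast_smul_eq_nsmul K2, hcast, one_smul]
      · intro a _ ha
        rw [← Finset.sum_smul]
        obtain ⟨φ, hφ⟩ := CommGroup.exists_apply_ne_one_of_hasEnoughRootsOfUnity P K2 (inv_ne_one.2 ha)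
        have e : ((φ a⁻¹ : K2ˣ) : K2) * ∑ l : P →* K2ˣ, ((l a⁻¹ : K2ˣ) : K2) = ∑ l : P →* K2ˣ, ((l a⁻¹ : K2ˣ) : K2) := by
          rw [Finset.mul_sum]
          exact Fintype.sum_equiv (Equiv.mulLeft φ) _ _ (fun l => by simp)
        rw [(mul_left_eq_self₀.1 e).resolve_left (fun h => hφ (Units.ext h)), zero_smul]
      · simp
    rw [← hs, Finset.sum_eq_zero fun l _ => h l]

/-- Let S be a finite solvable group whose order is divisible only by the primes 2, p, q (p, q distinct odd primes), with a Sylow system S₂, S_p, S_q (pairwise permutable Sylow subgroups) such that: S_p is a minimal normal subgroup of S of order p or p²; S_q has order q and [S_p, S_q] = S_p; and O₂(S) = 1. Let E be an irreducible module for S over the field with two elements on which S_p acts faithfully, and E₀ the subspace of fixed points of S₂. Then either E₀ has at least 8 elements, or E₀ has exactly 4 elements and S_q does not leave E₀ invariant. -/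
theorem result {S : Type*} [Group S] [Finite S]
    [Group.IsSolvable S] (p q : ℕ) (hp : p.Prime) (hq : q.Prime) (hp2 : p ≠ 2) (hq2 : q ≠ 2) (hpq : p ≠ q)
    (hπ : ∀ r : ℕ, r.Prime → r ∣ Nat.card S → r = 2 ∨ r = p ∨ r = q)
    (S₂ : Sylow 2 S) (Sp : Sylow p S) (Sq : Sylow q S)
    (h2q : Nat.card ↥((S₂ : Subgroup S) ⊔ (Sq : Subgroup S)) = Nat.card ↥S₂ * Nat.card ↥Sq)
    (h2p : Nat.card ↥((S₂ : Subgroup S) ⊔ (Sp : Subgroup S)) = Nat.card ↥S₂ * Nat.card ↥Sp)
    (hpq' : Nat.card ↥((Sp : Subgroup S) ⊔ (Sq : Subgroup S)) = Nat.card ↥Sp * Nat.card ↥Sq)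
    (hSpN : (Sp : Subgroup S).Normal) (hSpmin : ∀ N : Subgroup S, N.Normal → N ≤ (Sp : Subgroup S) → N = ⊥ ∨ N = (Sp : Subgroup S))
    (hSpcard : Nat.card ↥Sp = p ∨ Nat.card ↥Sp = p ^ 2)
    (hSq : Nat.card ↥Sq = q) (hcomm : ⁅(Sp : Subgroup S), (Sq : Subgroup S)⁆ = (Sp : Subgroup S))
    (hO2 : Cfsg.pCore 2 S = ⊥)
    {E : Type*} [AddCommGroup E] [Module (ZMod 2) E] [Finite E] (ρ : Representation (ZMod 2) S E) (hE : Nontrivial E)
    (hirr : ∀ N : Submodule (ZMod 2) E, (∀ s : S, ∀ m ∈ N, ρ s m ∈ N) → N = ⊥ ∨ N = ⊤)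
    (hfaith : ∀ x ∈ (Sp : Subgroup S), ρ x = 1 → x = 1) :
    8 ≤ Nat.card {v : E // ∀ s ∈ (S₂ : Subgroup S), ρ s v = v} ∨
      (Nat.card {v : E // ∀ s ∈ (S₂ : Subgroup S), ρ s v = v} = 4 ∧
        ∃ x ∈ (Sq : Subgroup S), ∃ v : E, (∀ s ∈ (S₂ : Subgroup S), ρ s v = v) ∧ ¬ ∀ s ∈ (S₂ : Subgroup S), ρ s (ρ x v) = ρ x v) := by
  classical
  haveI := Fact.mk hp
  haveI := Fact.mk hq
  set P : Subgroup S := (Sp : Subgroup S) with hPdef
  haveI : P.Normal := hSpN
  have hcard : Nat.card P = p ∨ Nat.card P = p ^ 2 := hSpcard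
  haveI hPc : IsMulCommutative P := by
    rcases hcard with h | h
    · haveI := isCyclic_of_prime_card h
      exact ⟨⟨fun a b => (IsCyclic.commGroup (α := P)).mul_comm a b⟩⟩
    · exact ⟨⟨IsPGroup.commutative_of_card_eq_prime_sq h⟩⟩
  have hodd : Odd (Nat.card P) := by
    rcases hcard with h | h <;> rw [h]
    · exact hp.odd_of_ne_two hp2
    · exact (hp.odd_of_ne_two hp2).pow
  obtain ⟨n, σ, ι, hιi, hισ, hdesc⟩ := exists_model ρ
  obtain ⟨hfin, proj, hpm, hpe, hpo, hps⟩ := exists_proj P hodd σ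
  haveI := hfin
  have hm : ∀ g h v, σ (g * h) v = σ g (σ h v) := fun g h v => by rw [map_mul]; rfl
  have h1 : ∀ v, σ 1 v = v := fun v => by rw [map_one]; rfl
  have hσinj : ∀ g, Function.Injective (σ g) := fun g => Function.LeftInverse.injective
    (g := σ g⁻¹) fun v => by rw [← hm, inv_mul_cancel, h1]
  -- no weight is trivial
  have hfix1 : ∀ v, (∀ a ∈ P, σ a v = v) → v = 0 := by
    intro v hv
    have h := hdesc (P : Set S) v hv
    suffices he : ι '' {e | ∀ g ∈ (P : Set S), ρ g e = e} ⊆ ((⊥ : Submodule K2 (Fin n → K2)) : Set _) from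
      (Submodule.mem_bot K2).1 (Submodule.span_le.2 he h)
    rintro _ ⟨e, he, rfl⟩
    let N : Submodule (ZMod 2) E :=
      { carrier := {e | ∀ g ∈ P, ρ g e = e}
        add_mem' := fun {x y} hx hy g hg => by rw [map_add, hx g hg, hy g hg]
        zero_mem' := fun g _ => map_zero _
        smul_mem' := fun c {x} hx g hg => by rw [map_smul, hx g hg] }
    rcases hirr N (fun s x hx g hg => by
      have := hx (s⁻¹ * g * s) (by simpa using hSpN.conj_mem g hg s⁻¹)
      rw [← Module.End.mul_apply, ← map_mul, show g * s = s * (s⁻¹ * g * s) by group, map_mul,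
        Module.End.mul_apply, this]) with hN | hN
    · have : e ∈ N := he
      rw [hN, Submodule.mem_bot] at this
      simp [this]
    · exfalso
      have hbot : P = ⊥ := by
        rw [eq_bot_iff]
        intro g hg
        refine Subgroup.mem_bot.2 (hfaith g hg (LinearMap.ext fun x => ?_))
        exact (hN ▸ Submodule.mem_top : x ∈ N) g hg
      rw [hbot, Subgroup.card_bot] at hcard
      rcases hcard with h | h
      · exact hp.ne_one h.symm
      · exact hp.ne_one (Nat.eq_one_of_dvd_one (h ▸ dvd_pow_self p two_ne_zero))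
  -- the action on characters
  letI act : MulAction S (P →* K2ˣ) :=
    { smul := fun g l => l.comp (MulAut.conjNormal g⁻¹ : P ≃* P).toMonoidHom
      one_smul := fun l => MonoidHom.ext fun a => by
        show l (MulAut.conjNormal (1 : S)⁻¹ a) = l a
        simp
      mul_smul := fun g h l => MonoidHom.ext fun a => by
        show l (MulAut.conjNormal (g * h)⁻¹ a) = l (MulAut.conjNormal h⁻¹ (MulAut.conjNormal g⁻¹ a))
        simp [mul_inv_rev] }
  have hact : ∀ (g : S) (l : P →* K2ˣ) (a : P), (g • l) a = l (MulAut.conjNormal g⁻¹ a) := fun _ _ _ => rfl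
  have hmove : ∀ (g : S) (l : P →* K2ˣ) v, (∀ a : P, σ a v = ((l a : K2ˣ) : K2) • v) →
      ∀ a : P, σ a (σ g v) = (((g • l) a : K2ˣ) : K2) • σ g v := by
    intro g l v hv a
    rw [hact, ← map_smul, ← hv, ← hm, ← hm]
    congr 2
    rw [MulAut.conjNormal_apply]
    group
  haveI := Fintype.ofFinite (P →* K2ˣ)
  have hequiv : ∀ (g : S) (l : P →* K2ˣ) v, proj (g • l) (σ g v) = σ g (proj l v) := by
    intro g l v
    by_contra hne
    have hd : v - ∑ m, proj m v = 0 := by
      by_contra hd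
      obtain ⟨m, hm'⟩ := hps _ hd
      apply hm'
      rw [map_sub, map_sum, Finset.sum_eq_single m, hpe m _ (hpm m v), sub_self]
      · intro k _ hk; exact hpo k m _ hk (hpm k v)
      · simp
    apply hne
    conv_lhs => rw [sub_eq_zero.1 hd, map_sum, map_sum]
    rw [Finset.sum_eq_single l]
    · exact hpe _ _ (hmove g l _ (hpm l v))
    · intro k _ hk
      exact hpo (g • k) (g • l) _ (fun e => hk (MulAction.injective g e)) (hmove g k _ (hpm k v))
    · simp
  obtain ⟨x, hxS, hxq⟩ : ∃ x, Subgroup.zpowers x = (Sq : Subgroup S) ∧ orderOf x = q := by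
    obtain ⟨⟨x, hx⟩, hgen⟩ := (isCyclic_of_prime_card hSq).exists_generator
    refine ⟨x, le_antisymm (Subgroup.zpowers_le.2 hx) fun y hy => ?_, ?_⟩
    · obtain ⟨i, hi⟩ := Subgroup.mem_zpowers_iff.1 (hgen ⟨y, hy⟩)
      exact Subgroup.mem_zpowers_iff.2 ⟨i, congrArg Subtype.val hi⟩
    · have := orderOf_eq_card_of_forall_mem_zpowers hgen
      rwa [Subgroup.orderOf_mk, hSq] at this
  -- the generator fixes no weight
  have hxfix : ∀ (l : P →* K2ˣ) v, v ≠ 0 → (∀ a : P, σ a v = ((l a : K2ˣ) : K2) • v) → x • l ≠ l := by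
    intro l v hv hlv he
    have hst : ∀ y ∈ (Sq : Subgroup S), y • l = l := fun y hy => by
      rw [← hxS] at hy
      exact (Subgroup.zpowers_le.2 (show x ∈ MulAction.stabilizer S l from he)) hy
    have hl1 : ∀ a : P, l a = 1 := by
      have hle : ⁅P, (Sq : Subgroup S)⁆ ≤ l.ker.map P.subtype := by
        rw [Subgroup.commutator_le]
        intro a ha y hy
        refine ⟨⟨a, ha⟩ * MulAut.conjNormal y (⟨a, ha⟩⁻¹ : P), ?_, ?_⟩
        · have hy' := DFunLike.congr_fun (hst y hy) (MulAut.conjNormal y (⟨a, ha⟩⁻¹ : P))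
          rw [hact] at hy'
          rw [SetLike.mem_coe, MonoidHom.mem_ker, map_mul, ← hy', map_inv MulAut.conjNormal y,
            MulAut.inv_apply_self, map_inv, mul_inv_cancel]
        · simp [commutatorElement_def, mul_assoc]
      intro a
      obtain ⟨k, hk, hka⟩ := hle (hcomm.symm ▸ a.2 : (a : S) ∈ ⁅P, (Sq : Subgroup S)⁆)
      rw [← P.subtype_injective hka]
      exact hk
    exact hv (hfix1 v fun a ha => by have := hlv ⟨a, ha⟩; simpa [hl1] using this)
  -- a fixed vector for each orbit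
  set T : Subgroup S := (S₂ : Subgroup S) with hT
  have horb : ∀ l v, v ≠ 0 → (∀ a : P, σ a v = ((l a : K2ˣ) : K2) • v) →
      ∃ w, (∀ t ∈ T, σ t w = w) ∧ ∀ m, proj m w ≠ 0 ↔ m ∈ MulAction.orbit T l := by
    intro l v hv hlv
    let W : Submodule K2 (Fin n → K2) :=
      { carrier := {v | ∀ a : P, σ a v = ((l a : K2ˣ) : K2) • v}
        add_mem' := fun {x y} hx hy a => by rw [map_add, hx a, hy a, smul_add]
        zero_mem' := fun a => by simp
        smul_mem' := fun c {x} hx a => by rw [map_smul, hx a, smul_comm] }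
    let St := MulAction.stabilizer T l
    let τ : St →* Module.End K2 (Fin n → K2) := σ.comp (T.subtype.comp St.subtype)
    have hinv : ∀ g, ∀ u ∈ W, τ g u ∈ W := fun g u hu a => by
      have e : ((g : T) : S) • l = l := g.2
      have := hmove ((g : T) : S) l u hu a
      rwa [e] at this
    haveI : Nontrivial W := ⟨⟨⟨v, hlv⟩, 0, fun h => hv (congrArg Subtype.val h)⟩⟩
    obtain ⟨⟨v0, hv0⟩, hne, hfix⟩ := H79.exists_fixed_ne_zero (p := 2) ((S₂.2).to_subgroup St) two_eq_zero _ W rfl
      (H79.restrictEndHom τ W hinv)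
    have hv0' : v0 ≠ 0 := fun h => hne (Subtype.ext h)
    have hfix' : ∀ t : T, t • l = l → σ t v0 = v0 := fun t ht => congrArg Subtype.val (hfix ⟨t, ht⟩)
    have hex : ∀ m : MulAction.orbit T l, ∃ t : T, t • l = (m : P →* K2ˣ) := fun m => m.2
    choose tt htt using hex
    haveI := Fintype.ofFinite (MulAction.orbit T l)
    refine ⟨∑ m : MulAction.orbit T l, σ (tt m) v0, fun t ht => ?_, fun m => ?_⟩
    · rw [map_sum]
      refine Fintype.sum_equiv (MulAction.toPerm (⟨t, ht⟩ : T)) _ _ (fun m => ?_)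
      set m' := MulAction.toPerm (⟨t, ht⟩ : T) m
      have e : ((tt m')⁻¹ * (⟨t, ht⟩ * tt m)) • l = l := by
        rw [mul_smul, mul_smul, htt, inv_smul_eq_iff, htt]
        rfl
      have h' := congrArg (σ (tt m' : S)) (hfix' _ e)
      rw [← hm, Subgroup.coe_mul, Subgroup.coe_inv, mul_inv_cancel_left, Subgroup.coe_mul, hm] at h'
      exact h'
    · rw [map_sum]
      constructor
      · intro h
        obtain ⟨k, -, hk⟩ := Finset.exists_ne_zero_of_sum_ne_zero h
        by_contra hn
        refine hk (hpo _ m _ ?_ (hmove _ l v0 hv0))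
        intro e
        have e' : tt k • l = m := e
        exact hn (e' ▸ MulAction.mem_orbit l (tt k))
      · intro hmo
        rw [Finset.sum_eq_single ⟨m, hmo⟩]
        · have e : ((tt ⟨m, hmo⟩ : T) : S) • l = m := htt ⟨m, hmo⟩
          have := hpe _ _ (hmove ((tt ⟨m, hmo⟩ : T) : S) l v0 hv0)
          rw [e] at this
          rw [this]
          exact fun h => hv0' (hσinj _ (h.trans (map_zero _).symm))
        · intro k _ hk
          refine hpo _ m _ ?_ (hmove _ l v0 hv0)
          intro e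
          exact hk (Subtype.ext ((htt k).symm.trans e))
        · simp
  -- the generator stabilizes no orbit
  have hOx : ∀ l w, (∀ m, proj m w ≠ 0 ↔ m ∈ MulAction.orbit T l) →
      ¬ ∀ m, m ∈ MulAction.orbit T l → x • m ∈ MulAction.orbit T l := by
    intro l w hw hall
    haveI := Fintype.ofFinite (MulAction.orbit T l)
    let f : MulAction.orbit T l → MulAction.orbit T l := fun m => ⟨x • m.1, hall m.1 m.2⟩
    have hf : Function.Injective f := fun a b h => Subtype.ext (MulAction.injective x (congrArg Subtype.val h))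
    let π : Equiv.Perm (MulAction.orbit T l) := Equiv.ofBijective f ⟨hf, Finite.injective_iff_surjective.1 hf⟩
    have hpow : ∀ k m, ((π ^ k) m).1 = x ^ k • m.1 := by
      intro k
      induction k with
      | zero => intro m; simp
      | succ k ih => intro m; rw [pow_succ', pow_succ', mul_smul, Equiv.Perm.mul_apply, ← ih]; rfl
    obtain ⟨j, hj⟩ := IsPGroup.iff_card.1 S₂.2
    have hd : Nat.card (MulAction.orbit T l) ∣ 2 ^ j := by
      rw [← hj, Nat.card_congr (MulAction.orbitEquivQuotientStabilizer T l)]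
      exact Subgroup.card_quotient_dvd_card _
    obtain ⟨a, ha⟩ := Equiv.Perm.exists_fixed_point_of_prime (p := q) (n := 1)
      (by
        rw [← Nat.card_eq_fintype_card]
        intro h
        exact hq2 ((Nat.prime_dvd_prime_iff_eq hq Nat.prime_two).1 (hq.dvd_of_dvd_pow (h.trans hd))))
      (σ := π) (Equiv.ext fun m => Subtype.ext (by rw [pow_one, hpow, ← hxq, pow_orderOf_eq_one, one_smul]; rfl))
    exact hxfix a.1 _ ((hw a.1).2 a.2) (hpm _ _) (congrArg Subtype.val ha)
  -- two orbits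
  obtain ⟨e₀, he₀⟩ := exists_ne (0 : E)
  obtain ⟨l, hl⟩ := hps (ι e₀) fun h => he₀ (hιi (h.trans (map_zero ι).symm))
  obtain ⟨w1, hw1f, hw1⟩ := horb l _ hl (hpm l _)
  obtain ⟨m0, hm0, hm0'⟩ : ∃ m, m ∈ MulAction.orbit T l ∧ x • m ∉ MulAction.orbit T l := by
    have := hOx l w1 hw1
    push Not at this
    exact this
  have hm1 : proj (x • m0) (σ x w1) ≠ 0 := by
    rw [hequiv]
    exact fun h => (hw1 m0).2 hm0 (hσinj x (h.trans (map_zero _).symm))
  obtain ⟨w2, hw2f, hw2⟩ := horb (x • m0) _ hm1 (hpm _ _)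
  set O1 := MulAction.orbit T l
  set O2 := MulAction.orbit T (x • m0)
  have hdisj : ∀ m, m ∈ O1 → m ∉ O2 := by
    intro m h1' h2'
    apply hm0'
    show x • m0 ∈ O1
    rw [show O1 = MulAction.orbit T m from (MulAction.orbit_eq_iff.2 h1').symm,
      MulAction.orbit_eq_iff.2 h2']
    exact MulAction.mem_orbit_self _
  have hl1' : l ∈ O1 := MulAction.mem_orbit_self _
  have hl2' : x • m0 ∈ O2 := MulAction.mem_orbit_self _
  have z12 : ∀ m ∈ O1, proj m w2 = 0 := fun m h => by
    by_contra hne; exact hdisj m h ((hw2 m).1 hne)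
  have z21 : ∀ m ∈ O2, proj m w1 = 0 := fun m h => by
    by_contra hne; exact hdisj m ((hw1 m).1 hne) h
  have hli : LinearIndependent K2 ![w1, w2] := by
    rw [LinearIndependent.pair_iff]
    intro a b hab
    refine ⟨?_, ?_⟩
    · have := congrArg (proj l) hab
      rw [map_add, map_smul, map_smul, z12 l hl1', smul_zero, add_zero, map_zero, smul_eq_zero] at this
      exact this.resolve_right ((hw1 l).2 hl1')
    · have := congrArg (proj (x • m0)) hab
      rw [map_add, map_smul, map_smul, z21 _ hl2', smul_zero, zero_add, map_zero, smul_eq_zero] at this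
      exact this.resolve_right ((hw2 _).2 hl2')
  let N0 : Submodule (ZMod 2) E :=
    { carrier := {v | ∀ s ∈ T, ρ s v = v}
      add_mem' := fun {x y} hx hy g hg => by rw [map_add, hx g hg, hy g hg]
      zero_mem' := fun g _ => map_zero _
      smul_mem' := fun c {x} hx g hg => by rw [map_smul, hx g hg] }
  set W := Submodule.span K2 (ι '' {e | ∀ g ∈ (T : Set S), ρ g e = e}) with hW
  have hwW : Submodule.span K2 (Set.range ![w1, w2]) ≤ W := by
    rw [Submodule.span_le]
    rintro _ ⟨i, rfl⟩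
    fin_cases i
    · exact hdesc _ _ hw1f
    · exact hdesc _ _ hw2f
  set k := Module.finrank (ZMod 2) N0 with hk
  have hc : Nat.card {v : E // ∀ s ∈ T, ρ s v = v} = 2 ^ k := by
    have := Module.natCard_eq_pow_finrank (K := ZMod 2) (V := N0)
    rw [Nat.card_zmod] at this
    exact this
  have hWk : Module.finrank K2 W ≤ k := by
    let b := Module.finBasis (ZMod 2) N0
    have hle : W ≤ Submodule.span K2 (Set.range fun i => ι (b i : E)) := by
      rw [hW, Submodule.span_le]
      rintro _ ⟨e, he, rfl⟩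
      have h' := congrArg (fun z : N0 => ι (z : E)) (b.sum_repr ⟨e, he⟩)
      simp only [Submodule.coe_sum, Submodule.coe_smul, map_sum, map_smul] at h'
      rw [SetLike.mem_coe, ← h']
      refine Submodule.sum_mem _ fun i _ => ?_
      rw [← algebraMap_smul K2 (b.repr ⟨e, he⟩ i) (ι (b i : E))]
      exact Submodule.smul_mem _ _ (Submodule.subset_span ⟨i, rfl⟩)
    refine (Submodule.finrank_mono hle).trans ((finrank_range_le_card (R := K2) _).trans ?_)
    rw [Fintype.card_fin]
  have h2k : 2 ≤ Module.finrank K2 W := by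
    refine le_trans ?_ (Submodule.finrank_mono hwW)
    rw [finrank_span_eq_card hli, Fintype.card_fin]
  rcases Nat.lt_or_ge 2 k with h3 | h3
  · left
    rw [hc]
    exact le_trans (by norm_num) (Nat.pow_le_pow_right two_pos h3)
  have hk2 : k = 2 := by omega
  right
  refine ⟨by rw [hc, hk2]; rfl, x, hxS ▸ Subgroup.mem_zpowers x, ?_⟩
  by_contra hno
  push Not at hno
  have hWeq : Submodule.span K2 (Set.range ![w1, w2]) = W :=
    Submodule.eq_of_le_of_finrank_le hwW (by rw [finrank_span_eq_card hli, Fintype.card_fin]; omega)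
  have hxW : ∀ w ∈ W, σ x w ∈ W := by
    intro w hw
    refine (show W ≤ W.comap (σ x) from ?_) hw
    conv_lhs => rw [hW]
    rw [Submodule.span_le]
    rintro _ ⟨e, he, rfl⟩
    rw [SetLike.mem_coe, Submodule.mem_comap, hισ]
    exact Submodule.subset_span ⟨_, hno e he, rfl⟩
  have hswap : ∀ (w : Fin n → K2) (O : Set (P →* K2ˣ)), w ∈ W → (∀ m, proj m w ≠ 0 ↔ m ∈ O) → O.Nonempty →
      (x • ·) '' O = O1 ∨ (x • ·) '' O = O2 ∨ (x • ·) '' O = O1 ∪ O2 := by
    intro w O hwW' hwO hne
    have hu := hxW w hwW'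
    rw [← hWeq, Matrix.range_cons, Matrix.range_cons, Matrix.range_empty, Set.union_empty,
      Set.singleton_union, Submodule.mem_span_pair] at hu
    obtain ⟨a, b, hab⟩ := hu
    have himg : ∀ m, m ∈ (x • ·) '' O ↔ proj m (σ x w) ≠ 0 := by
      intro m
      obtain ⟨k, rfl⟩ := MulAction.surjective x m
      rw [hequiv, (MulAction.injective x).mem_set_image, ← hwO]
      exact ⟨fun h e => h (hσinj x (e.trans (map_zero _).symm)), fun h e => h (by rw [e, map_zero])⟩
    have hsupp : ∀ m, m ∈ (x • ·) '' O ↔ (a ≠ 0 ∧ m ∈ O1) ∨ (b ≠ 0 ∧ m ∈ O2) := by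
      intro m
      rw [himg, ← hab, map_add, map_smul, map_smul]
      by_cases h1' : m ∈ O1
      · rw [z12 m h1', smul_zero, add_zero]
        simp [smul_eq_zero, (hw1 m).2 h1', h1', hdisj m h1']
      · rw [show proj m w1 = 0 by by_contra hne'; exact h1' ((hw1 m).1 hne'), smul_zero, zero_add]
        simp [smul_eq_zero, h1', ← hw2]
    by_cases ha : a = 0 <;> by_cases hb : b = 0
    · exfalso
      obtain ⟨m, hm'⟩ := hne
      have := (hsupp (x • m)).1 ⟨m, hm', rfl⟩
      simp [ha, hb] at this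
    · exact Or.inr (Or.inl (Set.ext fun m => by rw [hsupp]; simp [ha, hb]))
    · exact Or.inl (Set.ext fun m => by rw [hsupp]; simp [ha, hb])
    · exact Or.inr (Or.inr (Set.ext fun m => by rw [hsupp]; simp [ha, hb]))
  have hni : Function.Injective (x • · : (P →* K2ˣ) → _) := MulAction.injective x
  have hx1 := hswap w1 O1 (hdesc _ _ hw1f) hw1 ⟨l, hl1'⟩
  have hx2 := hswap w2 O2 (hdesc _ _ hw2f) hw2 ⟨_, hl2'⟩
  have no1 : (x • ·) '' O1 ≠ O1 := fun h => hOx l w1 hw1 fun m hm' => by
    show x • m ∈ O1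
    rw [← h]; exact ⟨m, hm', rfl⟩
  have no2 : (x • ·) '' O2 ≠ O2 := fun h => hOx (x • m0) w2 hw2 fun m hm' => by
    show x • m ∈ O2
    rw [← h]; exact ⟨m, hm', rfl⟩
  have hlt : ∀ (A B : Set (P →* K2ˣ)), B.Nonempty → (∀ m, m ∈ A → m ∉ B) → A.ncard < (A ∪ B).ncard := by
    intro A B ⟨m, hm'⟩ hd
    exact Set.ncard_lt_ncard ⟨Set.subset_union_left, fun h => hd m (h (Or.inr hm')) hm'⟩ (Set.toFinite _)
  have n1 : ((x • ·) '' O1).ncard = O1.ncard := Set.ncard_image_of_injective _ hni
  have n2 : ((x • ·) '' O2).ncard = O2.ncard := Set.ncard_image_of_injective _ hni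
  have e1 : (x • ·) '' O1 = O2 := by
    rcases hx1 with h | h | h
    · exact absurd h no1
    · exact h
    · exfalso
      have := hlt O1 O2 ⟨_, hl2'⟩ hdisj
      rw [h] at n1; omega
  have e2 : (x • ·) '' O2 = O1 := by
    rcases hx2 with h | h | h
    · exact h
    · exact absurd h no2
    · exfalso
      have := hlt O2 O1 ⟨_, hl1'⟩ fun m ha hb => hdisj m hb ha
      rw [Set.union_comm] at this
      rw [h] at n2; omega
  have heven : ∀ j : ℕ, (fun m : P →* K2ˣ => x ^ (2 * j) • m) '' O1 = O1 := by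
    intro j
    induction j with
    | zero => simp
    | succ j ih =>
      have : (fun m : P →* K2ˣ => x ^ (2 * (j + 1)) • m) = (x • ·) ∘ (x • ·) ∘ (fun m => x ^ (2 * j) • m) := by
        funext m
        simp only [Function.comp, ← mul_smul, show 2 * (j + 1) = 1 + (1 + 2 * j) by ring, pow_add, pow_one]
      rw [this, Set.image_comp, Set.image_comp, ih, e1, e2]
  obtain ⟨j, hj⟩ := hq.odd_of_ne_two hq2
  apply no1
  have hodd' : (fun m : P →* K2ˣ => x ^ (2 * (j + 1)) • m) = (x • ·) := by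
    funext m
    rw [show 2 * (j + 1) = (2 * j + 1) + 1 by ring, pow_succ, ← hj, ← hxq, pow_orderOf_eq_one, one_mul]
  rw [← hodd']
  exact heven (j + 1)

end Cfsg.Agent.S4414
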