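import Cfsg.Statements.S4417
import Cfsg.Agent.H79FiniteLinear
-- import your own Cfsg.Agent.* helpers here

set_option autoImplicit false
open Cfsg

namespace Cfsg.Agent.S4417

/-- Let F be a field with q elements, p a prime not dividing q, and e the multiplicative order of q modulo p; assume e ≤ n. Then every p-subgroup of GL_n(F) has derived length at most ⌊log₂(n/e)⌋ + 1: that term of its derived series is trivial (n/e is the integer quotient). -/
theorem result {F : Type*} [Field F] [Fintype F] (q : ℕ) (hF : Fintype.card F = q) (p : ℕ) [Fact p.Prime] (hpq : ¬ p ∣ q) (n e : ℕ) (he : e = orderOf (q : ZMod p)) (hen : e ≤ n) (P : Subgroup (GL (Fin n) F)) (hP : IsPGroup p P) : derivedSeries ↥P (Nat.log 2 (n / e) + 1) = ⊥ := by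
  classical
  subst hF he
  have hprime := (Fact.out : p.Prime)
  have hne : (Fintype.card F : ZMod p) ≠ 0 := fun h => hpq ((CharP.cast_eq_zero_iff (ZMod p) p _).1 h)
  have he0 : 0 < orderOf (Fintype.card F : ZMod p) := orderOf_pos_iff.2 (isOfFinOrder_iff_pow_eq_one.2
    ⟨p - 1, Nat.sub_pos_of_lt hprime.one_lt, ZMod.pow_card_sub_one_eq_one hne⟩)
  rw [eq_bot_iff]
  intro g hg
  rw [Subgroup.mem_bot]
  let σ : ↥P →* Module.End F (Fin n → F) :=
    (Matrix.toLinAlgEquiv' : Matrix (Fin n) (Fin n) F ≃ₐ[F] _).toMonoidHom.comp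
      ((Units.coeHom _).comp P.subtype)
  have hσ : Function.Injective σ :=
    (Matrix.toLinAlgEquiv' : Matrix (Fin n) (Fin n) F ≃ₐ[F] _).injective.comp
      (Units.val_injective.comp Subtype.val_injective)
  apply hσ
  rw [map_one]
  refine H79.derivedSeries_apply_finite_field hpq n _ (Module.finrank_fin_fun F) _ hP σ _ ?_ g hg
  have h2 := (Nat.lt_pow_succ_log_self one_lt_two (n / orderOf (Fintype.card F : ZMod p))).trans_le
    (Nat.pow_le_pow_left hprime.two_le _)
  exact (Nat.div_lt_iff_lt_mul he0).1 h2 |>.trans_eq (mul_comm _ _)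

end Cfsg.Agent.S4417
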