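import Cfsg.Statements.S4419
import Cfsg.Agent.Lib.H82.AutFrattini
import Cfsg.Agent.Lib.Transfer.NormalComplement
import Cfsg.Agent.Lib.OddOrder41.Metacyclic
import Cfsg.Agent.Lib.PCore.Basic
-- import your own Cfsg.Agent.* helpers here

set_option autoImplicit false
open Cfsg

namespace Cfsg.Agent.S4419

/-- A metacyclic p-group has Frattini index at most p ^ 2. -/
theorem frattini_index_le {Q : Type*} [Group Q] [Finite Q] {p : ℕ} [Fact p.Prime] (hQ : IsPGroup p Q)
    (hm : Cfsg.IsMetacyclic Q) : (frattini Q).index ≤ p ^ 2 := by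
  classical
  obtain ⟨N, hN, hNc, hQc⟩ := hm
  obtain ⟨⟨a, haN⟩, ha⟩ := hNc.exists_generator
  obtain ⟨b', hb'⟩ := hQc.exists_generator
  obtain ⟨b, rfl⟩ := QuotientGroup.mk'_surjective N b'
  have hgen : ∀ x : Q, ∃ i j : ℤ, x = b ^ j * a ^ i := by
    intro x
    obtain ⟨j, hj⟩ := Subgroup.mem_zpowers_iff.1 (hb' (QuotientGroup.mk' N x))
    rw [← map_zpow, QuotientGroup.mk'_apply, QuotientGroup.mk'_apply, QuotientGroup.eq] at hj
    obtain ⟨i, hi⟩ := Subgroup.mem_zpowers_iff.1 (ha ⟨_, hj⟩)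
    refine ⟨i, j, ?_⟩
    have e : a ^ i = (b ^ j)⁻¹ * x := congrArg Subtype.val hi
    rw [e, mul_inv_cancel_left]
  rw [Subgroup.index]
  let φ := QuotientGroup.mk' (frattini Q)
  have hp : ∀ y : Q ⧸ frattini Q, ∀ i : ℤ, y ^ i = y ^ (i % p).toNat := by
    intro y i
    obtain ⟨x, rfl⟩ := QuotientGroup.mk'_surjective _ y
    have h1 : (QuotientGroup.mk' (frattini Q) x) ^ (p : ℤ) = 1 := by
      rw [zpow_natCast, ← map_pow]
      exact (QuotientGroup.eq_one_iff _).2 (CfsgLib.PGroup.pow_mem_frattini hQ x)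
    have hpos : (0 : ℤ) < p := by exact_mod_cast (Fact.out : p.Prime).pos
    rw [← zpow_natCast (QuotientGroup.mk' (frattini Q) x) (i % p).toNat,
      Int.toNat_of_nonneg (Int.emod_nonneg i hpos.ne')]
    conv_lhs => rw [← Int.emod_add_mul_ediv i p, zpow_add, zpow_mul, h1, one_zpow, mul_one]
  have hlt : ∀ i : ℤ, (i % p).toNat < p := fun i => by
    have hpos : (0 : ℤ) < p := by exact_mod_cast (Fact.out : p.Prime).pos
    have := Int.emod_lt_of_pos i hpos
    omega
  have hs : Function.Surjective (fun t : Fin p × Fin p => φ b ^ (t.1 : ℕ) * φ a ^ (t.2 : ℕ)) := by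
    intro y
    obtain ⟨x, rfl⟩ := QuotientGroup.mk'_surjective _ y
    obtain ⟨i, j, rfl⟩ := hgen x
    refine ⟨(⟨_, hlt j⟩, ⟨_, hlt i⟩), ?_⟩
    rw [map_mul, map_zpow, map_zpow, hp _ j, hp _ i]
  refine (Nat.card_le_card_of_surjective _ hs).trans ?_
  rw [Nat.card_prod, Nat.card_fin, pow_two]

/-- Prime divisors of the automorphism group of a metacyclic p-group. -/
theorem prime_dvd_aut {Q : Type*} [Group Q] [Finite Q] {p : ℕ} [Fact p.Prime] (hQ : IsPGroup p Q)
    (hm : Cfsg.IsMetacyclic Q) {r : ℕ} (hr : r.Prime) (hrp : r ≠ p) (hd : r ∣ Nat.card (MulAut Q)) :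
    r ∣ p ^ 2 - 1 := by
  have hp := (Fact.out : p.Prime)
  obtain ⟨n, hn⟩ := IsPGroup.iff_card.1 hQ
  obtain ⟨k, hk⟩ := hQ.index (frattini Q)
  have hk2 : k ≤ 2 := (Nat.pow_le_pow_iff_right hp.one_lt).1 (hk ▸ frattini_index_le hQ hm)
  have h := hd.trans (CfsgLib.AutFrattini82.card_aut_dvd hn hk)
  have hnp : ∀ m, ¬ r ∣ p ^ m := fun m h' => hrp ((Nat.prime_dvd_prime_iff_eq hr hp).1 (hr.dvd_of_dvd_pow h'))
  rcases hr.dvd_mul.1 h with h' | h'
  · exact absurd h' (hnp _)
  obtain ⟨i, hi, hri⟩ := (Prime.dvd_finsetProd_iff hr.prime _).1 h'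
  rw [Finset.mem_range] at hi
  have h1 : p - 1 ∣ p ^ 2 - 1 := by simpa using Nat.sub_dvd_pow_sub_pow p 1 2
  interval_cases k
  · omega
  · obtain rfl : i = 0 := by omega
    rw [pow_one, pow_zero] at hri
    exact hri.trans h1
  · rcases Nat.lt_or_ge i 1 with h0 | h0
    · obtain rfl : i = 0 := by omega
      rwa [pow_zero] at hri
    · obtain rfl : i = 1 := by omega
      rw [pow_one, show p ^ 2 - p = p * (p - 1) by rw [Nat.mul_sub, mul_one, pow_two]] at hri
      rcases hr.dvd_mul.1 hri with h2 | h2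
      · exact absurd h2 (by simpa using hnp 1)
      · exact h2.trans h1

/-- Let p be a prime and G a finite group whose Sylow p-subgroups are metacyclic (a cyclic normal subgroup with cyclic quotient). Then G has a normal p-complement if and only if the order of G/O_{p′,p}(G) is coprime to p² − 1. -/
theorem result {G : Type*} [Group G] [Finite G] (p : ℕ) [Fact p.Prime] (S : Sylow p G) (hS : Cfsg.IsMetacyclic ↥(S : Subgroup G)) : Cfsg.HasNormalPComplement p G ↔ Nat.Coprime (Nat.card (G ⧸ Cfsg.pPrimePCore p G)) (p ^ 2 - 1) := by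
  have hp := (Fact.out : p.Prime)
  constructor
  · rintro ⟨P, N, hN, hc⟩
    have hNc : (Nat.card N).Coprime p := by
      rw [Nat.coprime_comm, hp.coprime_iff_not_dvd, ← hc.index_eq_card]
      exact P.not_dvd_index
    have hle : N ≤ Cfsg.pPrimeCore p G := le_sSup ⟨hN, hNc⟩
    haveI : (Cfsg.pPrimeCore p G).Normal := Subgroup.sSup_normal _ fun _ h => h.1
    have hq : IsPGroup p (G ⧸ Cfsg.pPrimeCore p G) := by
      have h1 : IsPGroup p (G ⧸ N) := by
        intro x
        obtain ⟨k, hk⟩ := IsPGroup.iff_card.1 P.isPGroup'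
        refine ⟨k, ?_⟩
        rw [← hk, ← hc.symm.index_eq_card, Subgroup.index]
        exact pow_card_eq_one'
      refine h1.of_surjective (QuotientGroup.map N _ (MonoidHom.id G) (by simpa using hle)) ?_
      intro y
      obtain ⟨x, rfl⟩ := QuotientGroup.mk'_surjective _ y
      exact ⟨QuotientGroup.mk' N x, rfl⟩
    have htop : Cfsg.pPrimePCore p G = ⊤ := by
      rw [Cfsg.pPrimePCore, eq_top_iff]
      intro x _
      rw [Subgroup.mem_comap]
      exact (le_sSup (show (⊤ : Subgroup (G ⧸ Cfsg.pPrimeCore p G)) ∈ _ from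
        ⟨inferInstance, hq.to_subgroup ⊤⟩) : (⊤ : Subgroup _) ≤ Cfsg.pCore p _) (Subgroup.mem_top _)
    rw [← Subgroup.index, htop, Subgroup.index_top]
    exact Nat.coprime_one_left _
  · intro hcop
    apply CfsgLib.Transfer.hasNormalPComplement_of_frobeniusCond
    intro Q hQ g hg hgc
    by_contra hne
    haveI : (Cfsg.pPrimeCore p G).Normal := Subgroup.sSup_normal _ fun _ h => h.1
    have hQm : Cfsg.IsMetacyclic Q := by
      obtain ⟨R, hR⟩ := hQ.exists_le_sylow
      exact CfsgLib.OddOrder41.isMetacyclic_of_injective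
        ((R.equiv S).toMonoidHom.comp (Subgroup.inclusion hR))
        ((R.equiv S).injective.comp (Subgroup.inclusion_injective hR)) hS
    let φ := Subgroup.normalizerMonoidHom Q
    set α := φ ⟨g, hg⟩ with hα
    have hα1 : α ≠ 1 := by
      intro h
      have : (⟨g, hg⟩ : Subgroup.normalizer (Q : Set G)) ∈ φ.ker := h
      rw [Subgroup.normalizerMonoidHom_ker, Subgroup.mem_subgroupOf] at this
      exact hne this
    obtain ⟨r, hr, hrd⟩ := Nat.exists_prime_and_dvd (fun h => hα1 (orderOf_eq_one_iff.1 h))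
    have hαg : orderOf α ∣ orderOf g := by
      have := orderOf_map_dvd φ ⟨g, hg⟩
      rwa [Subgroup.orderOf_mk] at this
    have hrp : r ≠ p := by
      rintro rfl
      exact hp.ne_one (Nat.eq_one_of_dvd_coprimes hgc (hrd.trans hαg) dvd_rfl)
    haveI : Finite (MulAut Q) := Finite.of_injective (fun f => (f : Q → Q)) fun a b h => MulEquiv.ext (congrFun h)
    have hr2 := prime_dvd_aut hQ hQm hr hrp (hrd.trans (orderOf_dvd_natCard α))
    -- the order of the image of g
    set K := Cfsg.pPrimePCore p G with hK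
    haveI : (Cfsg.pCore p (G ⧸ Cfsg.pPrimeCore p G)).Normal := Subgroup.sSup_normal _ fun _ h => h.1
    haveI : K.Normal := by rw [hK, Cfsg.pPrimePCore]; infer_instance
    set m := orderOf (QuotientGroup.mk' K g)
    have hgm : g ^ m ∈ Cfsg.pPrimeCore p G := by
      have h1 : g ^ m ∈ K := (QuotientGroup.eq_one_iff _).1 (by
        show QuotientGroup.mk' K (g ^ m) = 1
        rw [map_pow]; exact pow_orderOf_eq_one _)
      rw [hK, Cfsg.pPrimePCore, Subgroup.mem_comap] at h1
      have hcp : (orderOf (QuotientGroup.mk' (Cfsg.pPrimeCore p G) (g ^ m))).Coprime p := by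
        refine Nat.Coprime.coprime_dvd_left ((orderOf_map_dvd _ _).trans ?_) hgc
        exact orderOf_pow_dvd m
      obtain ⟨k, hk⟩ := CfsgLib.PCore.pCore_isPGroup (p := p) (G := G ⧸ Cfsg.pPrimeCore p G) ⟨_, h1⟩
      have hk' : (QuotientGroup.mk' (Cfsg.pPrimeCore p G) (g ^ m)) ^ p ^ k = 1 := congrArg Subtype.val hk
      apply (QuotientGroup.eq_one_iff _).1
      exact orderOf_eq_one_iff.1 (Nat.eq_one_of_dvd_coprimes (hcp.pow_right k) dvd_rfl
        (orderOf_dvd_of_pow_eq_one hk'))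
    have hαm : α ^ m = 1 := by
      rw [hα, ← map_pow, ← MonoidHom.mem_ker, Subgroup.normalizerMonoidHom_ker, Subgroup.mem_subgroupOf]
      show g ^ m ∈ Subgroup.centralizer (Q : Set G)
      rw [Subgroup.mem_centralizer_iff]
      intro x (hx : x ∈ Q)
      have hn : g ^ m ∈ Subgroup.normalizer (Q : Set G) := pow_mem hg m
      have hcom : g ^ m * x * (g ^ m)⁻¹ * x⁻¹ ∈ Q ⊓ Cfsg.pPrimeCore p G := by
        refine Subgroup.mem_inf.2 ⟨mul_mem ((Subgroup.mem_normalizer_iff.1 hn x).1 hx) (inv_mem hx), ?_⟩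
        rw [mul_assoc, mul_assoc]
        exact mul_mem hgm (by
          rw [← mul_assoc]
          exact Subgroup.Normal.conj_mem inferInstance _ (inv_mem hgm) x)
      rw [CfsgLib.PCore.inf_eq_bot_of_isPGroup_coprime hQ CfsgLib.PCore.pPrimeCore_coprime, Subgroup.mem_bot,
        mul_inv_eq_one, mul_inv_eq_iff_eq_mul] at hcom
      exact hcom.symm
    have hrm : r ∣ Nat.card (G ⧸ K) :=
      (hrd.trans (orderOf_dvd_of_pow_eq_one hαm)).trans (orderOf_dvd_natCard _)
    exact hr.ne_one (Nat.eq_one_of_dvd_coprimes hcop hrm hr2)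

end Cfsg.Agent.S4419
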