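import Cfsg.Statements.S4420
import Mathlib

set_option autoImplicit false
open Cfsg

namespace Cfsg.Agent.S4420

/-- Structure of groups in which every element outside some proper subgroup has square 1. Let H be a finite group with a proper subgroup A such that every element outside A has square 1. Then H has an abelian normal subgroup B of index 2 such that every element outside B is an involution inverting every element of B; and if H is not an elementary abelian 2-group, B is the only abelian normal subgroup of index 2 with this property. -/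
theorem result {H : Type*} [Group H] [Finite H] (A : Subgroup H) (hA : A ≠ ⊤) (hD : ∀ x : H, x ∉ A → x ^ 2 = 1) :
    ∃ B : Subgroup H, B.Normal ∧ IsMulCommutative ↥B ∧ B.index = 2 ∧
      (∀ x : H, x ∉ B → x ^ 2 = 1 ∧ ∀ b ∈ B, x * b * x⁻¹ = b⁻¹) ∧
      (¬ (IsMulCommutative H ∧ ∀ x : H, x ^ 2 = 1) →
        ∀ B' : Subgroup H, B'.Normal → IsMulCommutative ↥B' → B'.index = 2 →
          (∀ x : H, x ∉ B' → x ^ 2 = 1 ∧ ∀ b ∈ B', x * b * x⁻¹ = b⁻¹) → B' = B) := by
  obtain ⟨x₀, hx₀⟩ : ∃ x, x ∉ A := by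
    by_contra h
    push Not at h
    exact hA (top_unique fun g _ => h g)
  have hinv : ∀ x : H, x ∉ A → x⁻¹ = x := fun x hx =>
    inv_eq_of_mul_eq_one_right (by rw [← pow_two]; exact hD x hx)
  have hconj : ∀ x : H, x ∉ A → ∀ a ∈ A, x * a * x⁻¹ = a⁻¹ := by
    intro x hx a ha
    have hxa : x * a ∉ A := fun h => hx (by simpa using A.mul_mem h (A.inv_mem ha))
    have h := hD _ hxa
    rw [hinv x hx, eq_inv_iff_mul_eq_one, mul_assoc]
    rwa [pow_two] at h
  have hAcomm : ∀ a ∈ A, ∀ b ∈ A, a * b = b * a := by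
    intro a ha b hb
    have h1 := hconj x₀ hx₀ (a * b) (A.mul_mem ha hb)
    have h2 : x₀ * (a * b) * x₀⁻¹ = (x₀ * a * x₀⁻¹) * (x₀ * b * x₀⁻¹) := by group
    rw [h2, hconj x₀ hx₀ a ha, hconj x₀ hx₀ b hb, ← mul_inv_rev, inv_inj] at h1
    exact h1.symm
  obtain ⟨B, hBc, hB2, hBout⟩ : ∃ B : Subgroup H, (∀ a ∈ B, ∀ b ∈ B, a * b = b * a) ∧
      B.index = 2 ∧ ∀ x : H, x ∉ B → x ^ 2 = 1 ∧ ∀ b ∈ B, x * b * x⁻¹ = b⁻¹ := by
    by_cases h3 : ∃ y : H, y ∉ A ∧ x₀ * y ∉ A
    · obtain ⟨y, hy, hxy⟩ := h3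
      have hexp : ∀ g : H, g ^ 2 = 1 := by
        intro g
        by_cases hg : g ∈ A
        · have h1 := hconj _ hxy g hg
          have h2 : x₀ * y * g * (x₀ * y)⁻¹ = x₀ * (y * g * y⁻¹) * x₀⁻¹ := by group
          rw [h2, hconj y hy g hg, hconj x₀ hx₀ g⁻¹ (A.inv_mem hg), inv_inv,
            eq_inv_iff_mul_eq_one] at h1
          rw [pow_two, h1]
        · exact hD g hg
      have hg : ∀ g : H, g⁻¹ = g := fun g =>
        inv_eq_of_mul_eq_one_right (by rw [← pow_two]; exact hexp g)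
      have hcomm : ∀ a b : H, a * b = b * a := fun a b => by
        rw [← hg (a * b), mul_inv_rev, hg, hg]
      have hp : IsPGroup 2 H := fun g => ⟨1, by simpa using hexp g⟩
      obtain ⟨B, hB, -⟩ := (eq_top_or_exists_le_coatom A).resolve_left hA
      haveI : B.Normal := ⟨fun n hn g => by rw [hcomm g n, mul_inv_cancel_right]; exact hn⟩
      refine ⟨B, fun a _ b _ => hcomm a b, ?_, fun x _ => ⟨hexp x, fun b _ => by
        rw [hcomm x b, mul_inv_cancel_right, hg]⟩⟩
      obtain ⟨u, hu⟩ : ∃ u, u ∉ B := by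
        by_contra h
        push Not at h
        exact hB.1 (top_unique fun g _ => h g)
      refine Subgroup.index_eq_two_iff.2 ⟨u, fun v => ?_⟩
      have htop : B ⊔ Subgroup.zpowers u = ⊤ := hB.2 _ (lt_of_le_of_ne le_sup_left fun e =>
        hu (e ▸ Subgroup.mem_sup_right (Subgroup.mem_zpowers u)))
      by_cases hv : v ∈ B
      · exact Or.inr ⟨hv, fun h => hu (by simpa using B.mul_mem (B.inv_mem hv) h)⟩
      · refine Or.inl ⟨?_, hv⟩
        have hv' : v ∈ ((B ⊔ Subgroup.zpowers u : Subgroup H) : Set H) := by rw [htop]; trivial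
        rw [Subgroup.normal_mul] at hv'
        obtain ⟨w, hw, z, hz, rfl⟩ := hv'
        obtain ⟨i, rfl⟩ := Subgroup.mem_zpowers_iff.1 hz
        rcases Int.even_or_odd i with ⟨j, rfl⟩ | ⟨j, rfl⟩
        · exfalso; apply hv
          have : u ^ (j + j) = 1 := by rw [zpow_add, ← pow_two]; exact hexp _
          simpa [this] using hw
        · have : u ^ (2 * j + 1) = u := by
            rw [zpow_add, two_mul, zpow_add, ← pow_two, hexp, one_mul, zpow_one]
          show w * u ^ (2 * j + 1) * u ∈ B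
          rw [this, mul_assoc, ← pow_two, hexp, mul_one]
          exact hw
    · push Not at h3
      refine ⟨A, hAcomm, Subgroup.index_eq_two_iff.2 ⟨x₀, fun v => ?_⟩,
        fun x hx => ⟨hD x hx, hconj x hx⟩⟩
      by_cases hv : v ∈ A
      · exact Or.inr ⟨hv, fun h => hx₀ (by simpa using A.mul_mem (A.inv_mem hv) h)⟩
      · refine Or.inl ⟨?_, hv⟩
        have h := hconj x₀ hx₀ _ (h3 v hv)
        have hvi : (x₀ * v)⁻¹ = v * x₀ := by rw [mul_inv_rev, hinv v hv, hinv x₀ hx₀]
        have : v * x₀ ∈ A := hvi ▸ A.inv_mem (h3 v hv)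
        exact this
  refine ⟨B, Subgroup.normal_of_index_eq_two hB2, ⟨⟨fun a b => Subtype.ext
    (hBc _ a.2 _ b.2)⟩⟩, hB2, hBout, ?_⟩
  intro hne B' _ hB'c hB'2 hB'out
  by_contra hBB'
  obtain ⟨a, haB, haB', ha2⟩ : ∃ a, a ∈ B ∧ a ∈ B' ∧ a ^ 2 ≠ 1 := by
    by_contra h
    push Not at h
    have hexp : ∀ g : H, g ^ 2 = 1 := fun g => by
      by_cases h1 : g ∈ B
      · by_cases h2 : g ∈ B'
        · exact h g h1 h2
        · exact (hB'out g h2).1
      · exact (hBout g h1).1
    have hg : ∀ g : H, g⁻¹ = g := fun g =>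
      inv_eq_of_mul_eq_one_right (by rw [← pow_two]; exact hexp g)
    exact hne ⟨⟨⟨fun a b => by rw [← hg (a * b), mul_inv_rev, hg, hg]⟩⟩, hexp⟩
  obtain ⟨x, hxB', hxB⟩ : ∃ x, x ∈ B' ∧ x ∉ B := by
    by_contra h
    push Not at h
    exact hBB' (Subgroup.eq_of_le_of_card_ge h (by
      have h1 := B.card_mul_index
      have h2 := B'.card_mul_index
      rw [hB2] at h1; rw [hB'2] at h2
      omega))
  have h1 := (hBout x hxB).2 a haB
  have h2 : x * a = a * x := congrArg Subtype.val (hB'c.is_comm.comm ⟨x, hxB'⟩ ⟨a, haB'⟩)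
  rw [h2, mul_inv_cancel_right, eq_inv_iff_mul_eq_one] at h1
  exact ha2 (by rw [pow_two, h1])

end Cfsg.Agent.S4420
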