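import Cfsg.Statements.S4421
import Mathlib

set_option autoImplicit false
open Cfsg

namespace Cfsg.Agent.S4421

/-- A factorization of a normalizer from two-step control of fusion. Let `G` be a finite group and `A ≤ S ≤ H` subgroups of `G` such that: (i) `S` controls the `G`-fusion of `A` in the sense that every `G`-conjugate of `A` lying in `S` is an `S`-conjugate of `A`; (ii) `H` controls the `G`-fusion of `S` in the same sense; (iii) every conjugate of `S` by an element of the normalizer of `A` lies in `H`. Then `N_G(A) = N_H(A) · (N_G(S) ∩ N_G(A))`: every element of the normalizer of `A` is a product of an element of `H` normalizing `A` and an element normalizing both `S` and `A`. -/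
theorem result {G : Type*} [Group G] [Finite G] (A S H : Subgroup G)
    (hAS : A ≤ S) (hSH : S ≤ H)
    (h1 : ∀ g : G, A.map (MulAut.conj g).toMonoidHom ≤ S → ∃ s ∈ S, A.map (MulAut.conj g).toMonoidHom = A.map (MulAut.conj s).toMonoidHom)
    (h2 : ∀ g : G, S.map (MulAut.conj g).toMonoidHom ≤ H → ∃ y ∈ H, S.map (MulAut.conj g).toMonoidHom = S.map (MulAut.conj y).toMonoidHom)
    (h3 : ∀ x ∈ Subgroup.normalizer (A : Set G), S.map (MulAut.conj x).toMonoidHom ≤ H) :
    ∀ x ∈ Subgroup.normalizer (A : Set G), ∃ y ∈ H ⊓ Subgroup.normalizer (A : Set G),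
      ∃ z ∈ Subgroup.normalizer (S : Set G) ⊓ Subgroup.normalizer (A : Set G), x = y * z := by
  intro x hx
  have hmap : ∀ (K : Subgroup G) (g : G), K.map (MulAut.conj g).toMonoidHom = K ↔
      g ∈ Subgroup.normalizer (K : Set G) := by
    intro K g
    rw [Subgroup.mem_normalizer_iff, SetLike.ext_iff]
    constructor
    · intro h w
      constructor
      · intro hw; exact (h _).1 ⟨w, hw, rfl⟩
      · intro hw
        obtain ⟨u, hu, hu'⟩ := (h _).2 hw
        have : u = w := (MulAut.conj g).injective hu'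
        exact this ▸ hu
    · intro h w
      constructor
      · rintro ⟨u, hu, rfl⟩; exact (h u).1 hu
      · intro hw
        refine ⟨g⁻¹ * w * g, (h _).2 ?_, ?_⟩
        · simpa [mul_assoc] using hw
        · simp [mul_assoc]
  have hcomp : ∀ (K : Subgroup G) (g k : G), K.map (MulAut.conj (g * k)).toMonoidHom =
      (K.map (MulAut.conj k).toMonoidHom).map (MulAut.conj g).toMonoidHom := by
    intro K g k
    rw [Subgroup.map_map]
    congr 1
    ext w
    simp [mul_assoc]
  obtain ⟨y, hy, hyx⟩ := h2 x (h3 x hx)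
  have hS : y⁻¹ * x ∈ Subgroup.normalizer (S : Set G) := by
    rw [← hmap, hcomp, hyx, ← hcomp, inv_mul_cancel]
    ext; simp
  have hA : A.map (MulAut.conj (y⁻¹ * x)).toMonoidHom ≤ S := by
    have := Subgroup.map_mono (f := (MulAut.conj (y⁻¹ * x)).toMonoidHom) hAS
    rwa [(hmap S _).2 hS] at this
  obtain ⟨s, hs, hsA⟩ := h1 _ hA
  have hz : s⁻¹ * (y⁻¹ * x) ∈ Subgroup.normalizer (A : Set G) := by
    rw [← hmap, hcomp, hsA, ← hcomp, inv_mul_cancel]
    ext; simp
  refine ⟨y * s, ⟨mul_mem hy (hSH hs), ?_⟩, s⁻¹ * (y⁻¹ * x),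
    ⟨(Subgroup.normalizer (S : Set G)).mul_mem ((Subgroup.normalizer (S : Set G)).inv_mem (Subgroup.le_normalizer hs)) hS, hz⟩, by group⟩
  have : y * s = x * (s⁻¹ * (y⁻¹ * x))⁻¹ := by group
  rw [this]
  exact (Subgroup.normalizer (A : Set G)).mul_mem hx ((Subgroup.normalizer (A : Set G)).inv_mem hz)

end Cfsg.Agent.S4421
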