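import Cfsg.Statements.S4422
import Cfsg.Agent.Lib.NumberTheory.PrimitivePart

set_option autoImplicit false
open Cfsg

namespace Cfsg.Agent.S4422

/-- Primitive divisors of `q^e - 1` are congruent to 1 modulo `e`. Let `q ≥ 2` and `e ≥ 1` be natural numbers and let `m` be a divisor of `q^e - 1` that is coprime to `q^i - 1` for every `1 ≤ i < e` (so `m` divides the primitive part of `q^e - 1`, the largest such divisor). Then `m ≡ 1 (mod e)`. -/
theorem result (q e m : ℕ) (hq : 2 ≤ q) (he : 1 ≤ e)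
    (hm : m ∣ q ^ e - 1) (hcop : ∀ i : ℕ, 1 ≤ i → i < e → Nat.Coprime m (q ^ i - 1)) :
    m % e = 1 % e := by
  have hm0 : m ≠ 0 := by
    rintro rfl
    have : 1 < q ^ e := Nat.one_lt_pow (by omega) (by omega)
    simp at hm
    omega
  have key : ∀ r ∈ m.primeFactorsList, (r : ZMod e) = 1 := by
    intro r hr
    rw [Nat.mem_primeFactorsList hm0] at hr
    exact CfsgLib.PrimitivePart.prime_mod_one hr.1 hq he (hr.2.trans hm) fun i hi hie hri =>
      hr.1.not_dvd_one ((hcop i hi hie).gcd_eq_one ▸ Nat.dvd_gcd hr.2 hri)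
  have h : (m : ZMod e) = ((1 : ℕ) : ZMod e) := by
    conv_lhs => rw [← Nat.prod_primeFactorsList hm0]
    rw [Nat.cast_list_prod, Nat.cast_one]
    apply List.prod_eq_one
    intro x hx
    obtain ⟨r, hr, rfl⟩ := List.mem_map.1 hx
    exact key r hr
  exact (ZMod.natCast_eq_natCast_iff' m 1 e).1 h

end Cfsg.Agent.S4422
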