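import Cfsg.Statements.S4425
import Cfsg.Agent.Lib.BlockCover.Regular
import Cfsg.Agent.Lib.CharCorr.Basic
-- import your own Cfsg.Agent.* helpers here

set_option autoImplicit false
open Cfsg

namespace Cfsg.Agent.S4425

/-- Let χ be an irreducible character of the finite group G, p a prime, p^a the p-part of the order of G and p^b the p-part of the degree χ(1). Let χ̃ be the class function equal to p^a · χ on p-regular elements and zero on p-singular elements. Then p^(−b) · χ̃ is a generalized character of G, while p^(−(b+1)) · χ̃ is not. -/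
theorem result {G : Type*} [Group G] [Finite G] (p : ℕ) [Fact p.Prime] (χ : Cfsg.IrrCharacter G) : Cfsg.IsGeneralizedCharacter G (fun x : G => if p ∣ orderOf x then (0 : ℂ) else ((p ^ ((Nat.card G).factorization p - (Cfsg.charDegree (χ : G → ℂ)).factorization p) : ℕ) : ℂ) * (χ : G → ℂ) x) ∧ ¬ Cfsg.IsGeneralizedCharacter G (fun x : G => if p ∣ orderOf x then (0 : ℂ) else ((p ^ (Nat.card G).factorization p : ℕ) : ℂ) / ((p ^ ((Cfsg.charDegree (χ : G → ℂ)).factorization p + 1) : ℕ) : ℂ) * (χ : G → ℂ) x) := by
  classical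
  letI := Fintype.ofFinite G
  letI : Fintype (ConjClasses G) := Fintype.ofFinite _
  have hp : p.Prime := Fact.out
  set a := (Nat.card G).factorization p with ha
  set b := (charDegree (χ : G → ℂ)).factorization p with hb
  have hbd : p ^ b ∣ charDegree (χ : G → ℂ) := Nat.ordProj_dvd _ p
  have hba : b ≤ a := by
    rw [ha, ← hp.pow_dvd_iff_le_factorization Nat.card_pos.ne']
    exact hbd.trans (CfsgLib.ClassCount.degree_eq χ).2.1
  have hp0 : (p : ℂ) ≠ 0 := Nat.cast_ne_zero.2 hp.ne_zero
  have hgen := CfsgLib.BlockCover.regTrunc_generalized (G := G) hp χ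
  constructor
  · rw [CfsgLib.Characters.isGeneralizedCharacter_iff]
    have hfun : (fun x : G => if p ∣ orderOf x then (0 : ℂ) else ((p ^ (a - b) : ℕ) : ℂ) *
        (χ : G → ℂ) x) = ((p : ℂ) ^ b)⁻¹ • (fun x : G => if p ∣ orderOf x then 0 else
          ((p ^ a : ℕ) : ℂ) * (χ : G → ℂ) x) := by
      funext x
      simp only [Pi.smul_apply, smul_eq_mul]
      split_ifs
      · rw [mul_zero]
      · rw [← mul_assoc]
        congr 1
        push_cast
        rw [← Nat.sub_add_cancel hba, pow_add, Nat.add_sub_cancel]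
        field_simp
    rw [hfun]
    refine ⟨CfsgLib.Characters.isClassFunction_smul
      (CfsgLib.Characters.isClassFunction_of_isGeneralizedCharacter hgen) _, fun ψ => ?_⟩
    obtain ⟨M, hM⟩ := CfsgLib.BlockCover.exists_isPModular hp
    set B := blockOf M (χ : G → ℂ)
    have hB : IsPBlock M B := CfsgLib.Blocks.isPBlock_blockOf χ
    have hχ : χ ∈ B := CfsgLib.Blocks.mem_blockOf_self hM χ
    obtain ⟨z, hz⟩ := CfsgLib.Characters.classInner_generalized_int hgen
      (CfsgLib.Characters.isGeneralizedCharacter_irr ψ)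
    rw [CfsgLib.Characters.classInner_smul_left, hz]
    by_cases hψ : ψ ∈ B
    · have hsym : (z : ℂ) = (charDegree (χ : G → ℂ) : ℂ) * CfsgLib.Contribution.tfac p ψ χ := by
        rw [← (CfsgLib.ClassCount.degree_eq χ).1,
          ← CfsgLib.BlockCover.classInner_regTrunc_eq hM hB ψ hχ,
          CfsgLib.BlockCover.classInner_regTrunc]
        have h : (starRingEnd ℂ) ((z : ℤ) : ℂ) = ((z : ℤ) : ℂ) := map_intCast _ z
        rw [← h, ← hz, CfsgLib.BlockCover.classInner_regTrunc, map_mul, map_mul, map_inv₀,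
          map_pow, Complex.conj_natCast, Complex.conj_natCast]
        congr 1
        simp only [CfsgLib.Contribution.regSum, map_sum, map_mul, Complex.conj_conj]
        exact Finset.sum_congr rfl fun x _ => mul_comm _ _
      obtain ⟨u, hu⟩ := hbd
      obtain ⟨w, hw⟩ := CfsgLib.Contribution.int_pow_dvd hM
        (c := (u : ℂ) * CfsgLib.Contribution.tfac p ψ χ)
        ((CfsgLib.Blocks.lRing hM).mul_mem (natCast_mem _ u) (CfsgLib.Contribution.tfac_mem hM ψ χ))
        (k := b) (z := z) (by rw [hsym, hu]; push_cast; ring)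
      exact ⟨w, by rw [hw]; push_cast; field_simp⟩
    · rw [CfsgLib.BlockCover.classInner_regTrunc_of_notMem hM hB hχ hψ] at hz
      exact ⟨0, by rw [← hz, mul_zero, Int.cast_zero]⟩
  · intro h
    obtain ⟨α, β, hα, hβ, hf⟩ := h
    obtain ⟨P⟩ : Nonempty (Sylow p G) := inferInstance
    have hr : IsGeneralizedCharacter (P : Subgroup G) (fun t : (P : Subgroup G) =>
        if p ∣ orderOf (t : G) then (0 : ℂ) else
          ((p ^ a : ℕ) : ℂ) / ((p ^ (b + 1) : ℕ) : ℂ) * (χ : G → ℂ) t) :=
      ⟨_, _, CfsgLib.CharCorr.isCharacter_comp hα (P : Subgroup G).subtype,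
        CfsgLib.CharCorr.isCharacter_comp hβ (P : Subgroup G).subtype,
        funext fun t => congrFun hf t⟩
    obtain ⟨z, hz⟩ := CfsgLib.Characters.classInner_generalized_int hr
      (CfsgLib.Characters.isGeneralizedCharacter_irr (CfsgLib.Characters.principalIrr (P : Subgroup G)))
    rw [classInner, Finset.sum_eq_single 1] at hz
    · rw [if_neg (by simp [hp.not_dvd_one]), P.card_eq_multiplicity, OneMemClass.coe_one,
        (CfsgLib.ClassCount.degree_eq χ).1] at hz
      simp only [CfsgLib.Characters.principalIrr_apply, map_one, mul_one] at hz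
      rw [← ha] at hz
      push_cast at hz
      field_simp at hz
      have h2 : ((p ^ (b + 1) : ℕ) : ℤ) ∣ ((charDegree (χ : G → ℂ) : ℕ) : ℤ) := ⟨z, by
        have : ((charDegree (χ : G → ℂ) : ℕ) : ℂ) = (((p ^ (b + 1) : ℕ) : ℤ) * z : ℤ) := by
          push_cast; linear_combination hz
        exact_mod_cast this⟩
      exact Nat.pow_succ_factorization_not_dvd (CfsgLib.ClassCount.degree_eq χ).2.2.ne' hp
        (Int.natCast_dvd_natCast.1 h2)
    · intro t _ ht
      obtain ⟨j, hj⟩ := IsPGroup.iff_orderOf.1 P.isPGroup' t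
      rw [if_pos, zero_mul]
      rw [Subgroup.orderOf_coe, hj]
      refine dvd_pow_self p ?_
      rintro rfl
      exact ht (orderOf_eq_one_iff.1 (by rw [hj, pow_zero]))
    · simp

end Cfsg.Agent.S4425
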