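import Cfsg.Statements.S4426
import Cfsg.Agent.Lib.BlockCover.Regular
-- import your own Cfsg.Agent.* helpers here

set_option autoImplicit false
open Cfsg

namespace Cfsg.Agent.S4426

/-- Let χ be an irreducible character in the p-block B of the finite group G (relative to a maximal ideal M of the algebraic integers containing p), let p^a be the p-part of the order of G, and let χ̃ be the class function equal to p^a · χ on p-regular elements and zero elsewhere. For ξ ∈ B the inner product [χ̃, ξ] is an integer. The following are equivalent: (a) χ has height zero in B; (b) for some ξ ∈ B the integer [χ̃, ξ] is nonzero and the exact power of p dividing it equals the exact power of p dividing ξ(1); (c) the same holds for every ξ ∈ B. -/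
theorem result {G : Type*} [Group G] [Fintype G] (p : ℕ) [Fact p.Prime] (M : Ideal Cfsg.AlgInt) (hM : Cfsg.IsPModular p M) (B : Set (Cfsg.IrrCharacter G)) (hB : Cfsg.IsPBlock M B) (χ : Cfsg.IrrCharacter G) (hχ : χ ∈ B) : (Cfsg.blockHeight p B (χ : G → ℂ) = 0 ↔ ∃ ξ ∈ B, ∃ n : ℤ, Cfsg.classInner (fun x : G => if p ∣ orderOf x then (0 : ℂ) else ((p ^ (Nat.card G).factorization p : ℕ) : ℂ) * (χ : G → ℂ) x) (ξ : G → ℂ) = (n : ℂ) ∧ n ≠ 0 ∧ padicValInt p n = (Cfsg.charDegree (ξ : G → ℂ)).factorization p) ∧ (Cfsg.blockHeight p B (χ : G → ℂ) = 0 ↔ ∀ ξ ∈ B, ∃ n : ℤ, Cfsg.classInner (fun x : G => if p ∣ orderOf x then (0 : ℂ) else ((p ^ (Nat.card G).factorization p : ℕ) : ℂ) * (χ : G → ℂ) x) (ξ : G → ℂ) = (n : ℂ) ∧ n ≠ 0 ∧ padicValInt p n = (Cfsg.charDegree (ξ : G → ℂ)).factorization p) := by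
  classical
  letI : Fintype (ConjClasses G) := Fintype.ofFinite _
  have key : ∀ ξ ∈ B, (∃ n : ℤ, classInner (fun x : G => if p ∣ orderOf x then (0 : ℂ) else
      ((p ^ (Nat.card G).factorization p : ℕ) : ℂ) * (χ : G → ℂ) x) (ξ : G → ℂ) = (n : ℂ) ∧ n ≠ 0 ∧
        padicValInt p n = (charDegree (ξ : G → ℂ)).factorization p) ↔
      blockHeight p B (χ : G → ℂ) = 0 := by
    intro ξ hξ
    have hval := CfsgLib.BlockCover.classInner_regTrunc_eq hM hB χ hξ
    rw [(CfsgLib.ClassCount.degree_eq ξ).1] at hval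
    rw [CfsgLib.BlockCover.height_zero_iff_tfac hM hB hχ hξ]
    constructor
    · rintro ⟨n, hn, hn'⟩
      exact (CfsgLib.BlockCover.int_eq_degree_mul_iff hM (CfsgLib.ClassCount.degree_eq ξ).2.2.ne'
        (CfsgLib.Contribution.tfac_mem hM χ ξ) (hn.symm.trans hval)).1 hn'
    · intro ht
      obtain ⟨n, hn⟩ := CfsgLib.Characters.classInner_generalized_int
        (CfsgLib.BlockCover.regTrunc_generalized hM.1 χ)
        (CfsgLib.Characters.isGeneralizedCharacter_irr ξ)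
      exact ⟨n, hn, (CfsgLib.BlockCover.int_eq_degree_mul_iff hM
        (CfsgLib.ClassCount.degree_eq ξ).2.2.ne' (CfsgLib.Contribution.tfac_mem hM χ ξ)
        (hn.symm.trans hval)).2 ht⟩
  obtain ⟨ξ₀, hξ₀⟩ := CfsgLib.Blocks.IsPBlock.nonempty hM hB
  exact ⟨⟨fun h => ⟨ξ₀, hξ₀, (key ξ₀ hξ₀).2 h⟩, fun ⟨ξ, hξ, h⟩ => (key ξ hξ).1 h⟩,
    ⟨fun h ξ hξ => (key ξ hξ).2 h, fun h => (key ξ₀ hξ₀).1 (h ξ₀ hξ₀)⟩⟩

end Cfsg.Agent.S4426
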