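import Cfsg.Statements.S4428
import Cfsg.Agent.Lib.BlockCover.RegularInduced
import Cfsg.Agent.Lib.BlockCover.Induced
import Cfsg.Agent.Lib.BlockCover.PValues
-- import your own Cfsg.Agent.* helpers here

set_option autoImplicit false
open Cfsg

namespace Cfsg.Agent.S4428

/-- Let χ be an irreducible character of height zero in the p-block B of the finite group G (relative to a maximal ideal M of the algebraic integers containing p). Let x be a p-element of G with centralizer C, and let b be a block of C that induces B. Form the class function ϑ(c) = χ(x c) on C and its b-part (the sum over ψ ∈ b of the inner product of ϑ with ψ, times ψ). Then the b-part of ϑ does not vanish identically on the p-regular elements of C. (Compare the second main Theorem, which gives vanishing when b does not induce B.) -/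
theorem result {G : Type*} [Group G] [Finite G] (p : ℕ) [Fact p.Prime] (M : Ideal Cfsg.AlgInt) (hM : Cfsg.IsPModular p M) (B : Set (Cfsg.IrrCharacter G)) (hB : Cfsg.IsPBlock M B) (χ : Cfsg.IrrCharacter G) (hχ : χ ∈ B) (h0 : Cfsg.blockHeight p B (χ : G → ℂ) = 0) (x : G) (hx : ∃ k : ℕ, orderOf x = p ^ k) (b : Set (Cfsg.IrrCharacter (Subgroup.centralizer ({x} : Set G)))) (hb : Cfsg.IsInducedBlock M (Subgroup.centralizer ({x} : Set G)) b B) : ∃ y : Subgroup.centralizer ({x} : Set G), ¬ p ∣ orderOf y ∧ Cfsg.blockPart b (fun c : Subgroup.centralizer ({x} : Set G) => (χ : G → ℂ) (x * (c : G))) y ≠ 0 := by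
  classical
  letI := Fintype.ofFinite G
  letI : Fintype ↥(Subgroup.centralizer ({x} : Set G)) := Fintype.ofFinite _
  letI : Fintype (ConjClasses G) := Fintype.ofFinite _
  have hxc : ∀ c : ↥(Subgroup.centralizer ({x} : Set G)), Commute x (c : G) := fun c =>
    Subgroup.mem_centralizer_iff.1 c.2 x rfl
  have hbB := hb
  obtain ⟨hbb, hBB, -⟩ := hb
  obtain ⟨ψ, hψ⟩ := CfsgLib.Blocks.IsPBlock.nonempty hM hbb
  by_contra hcon
  push Not at hcon
  set θ : ↥(Subgroup.centralizer ({x} : Set G)) → ℂ := fun c => (χ : G → ℂ) (x * (c : G)) with hθ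
  have hθcl : IsClassFunction ↥(Subgroup.centralizer ({x} : Set G)) θ := by
    intro g h
    simp only [hθ, Subgroup.coe_mul, Subgroup.coe_inv]
    have : x * ((h : G) * g * (h : G)⁻¹) = (h : G) * (x * g) * (h : G)⁻¹ := by
      rw [← mul_assoc, ← mul_assoc, (hxc h).eq, mul_assoc (h : G) x g]
    rw [this, CfsgLib.Characters.irr_isClassFunction χ _ (h : G)]
  set reg := Finset.univ.filter (fun y : ↥(Subgroup.centralizer ({x} : Set G)) => ¬ p ∣ orderOf y)
  have hsum : CfsgLib.Contribution.regSum p θ (ψ : ↥(Subgroup.centralizer ({x} : Set G)) → ℂ) = 0 := by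
    rw [CfsgLib.Contribution.regSum]
    conv_lhs => rw [CfsgLib.Characters.classFunction_eq_sum hθcl]
    simp only [Finset.sum_apply, Pi.smul_apply, smul_eq_mul, Finset.sum_mul]
    rw [Finset.sum_comm, ← Finset.sum_filter_add_sum_filter_not _ (fun φ : IrrCharacter ↥(Subgroup.centralizer ({x} : Set G)) => φ ∈ b)]
    have h1 : ∀ φ ∈ Finset.univ.filter (fun φ : IrrCharacter ↥(Subgroup.centralizer ({x} : Set G)) => ¬ φ ∈ b),
        ∑ y ∈ reg, classInner θ (φ : ↥(Subgroup.centralizer ({x} : Set G)) → ℂ) * (φ : ↥(Subgroup.centralizer ({x} : Set G)) → ℂ) y * (starRingEnd ℂ) ((ψ : ↥(Subgroup.centralizer ({x} : Set G)) → ℂ) y) =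
          0 := by
      intro φ hφ
      simp only [mul_assoc, ← Finset.mul_sum]
      rw [CfsgLib.Blocks.sum_regular_eq_zero_of_not_sameBlock hM, mul_zero]
      exact fun hs => (Finset.mem_filter.1 hφ).2
        ((CfsgLib.Blocks.IsPBlock.mem_iff hM hbb hψ φ).2 (CfsgLib.Blocks.SameBlock.symm hM hs))
    rw [Finset.sum_eq_zero h1, add_zero, Finset.sum_comm]
    refine Finset.sum_eq_zero fun y hy => ?_
    rw [← Finset.sum_mul, ← CfsgLib.BlockCover.blockPart_eq_sum,
      hcon y (Finset.mem_filter.1 hy).2, zero_mul]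
  let f : ↥(Subgroup.centralizer ({x} : Set G)) → ℂ := fun y => if p ∣ orderOf y then 0 else θ y⁻¹ - (χ : G → ℂ) ((y : G)⁻¹)
  have hf : IsClassFunction ↥(Subgroup.centralizer ({x} : Set G)) f := by
    intro g h
    simp only [f]
    rw [show orderOf (h * g * h⁻¹) = orderOf g from (MulAut.conj h).orderOf_eq g,
      show (h * g * h⁻¹)⁻¹ = h * g⁻¹ * h⁻¹ by group, hθcl g⁻¹ h]
    congr 2
    simp only [Subgroup.coe_mul, Subgroup.coe_inv, mul_inv_rev, inv_inv]
    rw [← mul_assoc]
    exact CfsgLib.Characters.irr_isClassFunction χ _ (h : G)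
  have hfI : ∀ y, MemLocalIdeal M (f y) := fun y => by
    simp only [f]
    split_ifs
    · exact CfsgLib.Blocks.memLocalIdeal_zero hM
    · exact CfsgLib.BlockCover.irr_mul_pElement_congr hM χ hx (hxc y).inv_right
  have hI : MemLocalIdeal M ((∑ y : ↥(Subgroup.centralizer ({x} : Set G)), f y * (ψ : ↥(Subgroup.centralizer ({x} : Set G)) → ℂ) y) / (ψ : ↥(Subgroup.centralizer ({x} : Set G)) → ℂ) 1) := by
    have h1 := CfsgLib.Blocks.omega_eq_sum_classes ψ (CfsgLib.BlockCover.ofFun_mem_center hf)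
    rw [CfsgLib.Blocks.omega_ofFun] at h1
    simp only [CfsgLib.Blocks.coeff_ofFun] at h1
    rw [h1]
    exact CfsgLib.Blocks.MemLocalIdeal.sum hM _ fun c _ => CfsgLib.Blocks.MemLocalIdeal.mul_right hM
      (hfI _) (CfsgLib.Blocks.centralChar_mem_lRing hM ψ _)
  apply (CfsgLib.BlockCover.regInner_congr (Subgroup.centralizer ({x} : Set G)) hM hbB χ hψ).2 hχ h0
  have heq : ∑ y : ↥(Subgroup.centralizer ({x} : Set G)), f y * (ψ : ↥(Subgroup.centralizer ({x} : Set G)) → ℂ) y = CfsgLib.Contribution.regSum p θ (ψ : ↥(Subgroup.centralizer ({x} : Set G)) → ℂ) -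
      CfsgLib.Contribution.regSum p (fun h : ↥(Subgroup.centralizer ({x} : Set G)) => (χ : G → ℂ) h) (ψ : ↥(Subgroup.centralizer ({x} : Set G)) → ℂ) := by
    rw [CfsgLib.Contribution.regSum, CfsgLib.Contribution.regSum, ← Finset.sum_sub_distrib,
      Finset.sum_filter]
    refine Fintype.sum_equiv (Equiv.inv ↥(Subgroup.centralizer ({x} : Set G))) _ _ fun y => ?_
    simp only [f, Equiv.inv_apply, orderOf_inv, Subgroup.coe_inv]
    split_ifs
    · simp
    · rw [CfsgLib.Characters.irr_apply_inv ψ, Complex.conj_conj]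
      ring
  rw [heq, hsum, zero_sub, neg_div] at hI
  simpa using CfsgLib.Blocks.MemLocalIdeal.neg hM hI

end Cfsg.Agent.S4428
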