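import Cfsg.Statements.S4431
import Cfsg.Agent.Lib.BlockCover.RegularInduced
-- import your own Cfsg.Agent.* helpers here

set_option autoImplicit false
open Cfsg

namespace Cfsg.Agent.S4431

/-- Let H be a subgroup of the finite group G and b a block of H whose induced block B₀ in G is defined (relative to a maximal ideal M of the algebraic integers containing p). Let χ be an irreducible character of G, ψ ∈ b, and let η be the class function on H equal to p^a · χ on the p-regular elements of H and zero elsewhere, p^a being the p-part of the order of H. Then (a) if χ ∉ B₀, the number [η, ψ]/ψ(1) lies in the local ideal at M; (b) if χ ∈ B₀ has height zero, it does not. -/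
theorem result {G : Type*} [Group G] [Fintype G] (p : ℕ) [Fact p.Prime] (M : Ideal Cfsg.AlgInt) (hM : Cfsg.IsPModular p M) (H : Subgroup G) [Fintype H] (b : Set (Cfsg.IrrCharacter H)) (B₀ : Set (Cfsg.IrrCharacter G)) (hind : Cfsg.IsInducedBlock M H b B₀) (χ : Cfsg.IrrCharacter G) (ψ : Cfsg.IrrCharacter H) (hψ : ψ ∈ b) : (χ ∉ B₀ → Cfsg.MemLocalIdeal M (Cfsg.classInner (fun h : H => if p ∣ orderOf h then (0 : ℂ) else ((p ^ (Nat.card H).factorization p : ℕ) : ℂ) * (χ : G → ℂ) h) (ψ : H → ℂ) / (ψ : H → ℂ) 1)) ∧ (χ ∈ B₀ → Cfsg.blockHeight p B₀ (χ : G → ℂ) = 0 → ¬ Cfsg.MemLocalIdeal M (Cfsg.classInner (fun h : H => if p ∣ orderOf h then (0 : ℂ) else ((p ^ (Nat.card H).factorization p : ℕ) : ℂ) * (χ : G → ℂ) h) (ψ : H → ℂ) / (ψ : H → ℂ) 1)) := by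
  classical
  letI : Fintype (ConjClasses G) := Fintype.ofFinite _
  set c : ℂ := ((Nat.card H / p ^ (Nat.card H).factorization p : ℕ) : ℂ)⁻¹ with hc
  have hcR : MemLocalRing M c :=
    CfsgLib.Blocks.inv_natCast_mem_lRing hM (CfsgLib.Contribution.cofactor_not_dvd hM.1)
  have heq : Cfsg.classInner (fun h : H => if p ∣ orderOf h then (0 : ℂ) else
      ((p ^ (Nat.card H).factorization p : ℕ) : ℂ) * (χ : G → ℂ) h) (ψ : H → ℂ) / (ψ : H → ℂ) 1 =
      c * (CfsgLib.Contribution.regSum p (fun h : H => (χ : G → ℂ) h) (ψ : H → ℂ) /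
        (ψ : H → ℂ) 1) := by
    rw [hc, classInner, CfsgLib.Contribution.regSum, Finset.sum_filter,
      CfsgLib.Contribution.cast_card_eq (p := p) (G := H), mul_inv, ← mul_div_assoc]
    congr 1
    rw [Finset.mul_sum, Finset.mul_sum]
    refine Finset.sum_congr rfl fun x _ => ?_
    split_ifs
    · simp
    · have : (p : ℂ) ≠ 0 := Nat.cast_ne_zero.2 hM.1.ne_zero
      push_cast
      field_simp
  rw [heq]
  obtain ⟨h1, h2⟩ := CfsgLib.BlockCover.regInner_congr H hM hind χ hψ
  refine ⟨fun h => CfsgLib.Blocks.MemLocalIdeal.mul_left hM hcR (h1 h), fun h h' hI => h2 h h' ?_⟩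
  have hne : ((Nat.card H / p ^ (Nat.card H).factorization p : ℕ) : ℂ) ≠ 0 :=
    Nat.cast_ne_zero.2 fun h'' =>
      CfsgLib.Contribution.cofactor_not_dvd (G := H) hM.1 (h'' ▸ dvd_zero p)
  have h3 := CfsgLib.Blocks.MemLocalIdeal.mul_left hM
    (natCast_mem (CfsgLib.Blocks.lRing hM) (Nat.card H / p ^ (Nat.card H).factorization p)) hI
  rwa [hc, ← mul_assoc, mul_inv_cancel₀ hne, one_mul] at h3

end Cfsg.Agent.S4431
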