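import Cfsg.Statements.S4435
import Cfsg.Agent.Lib.BlockCover.FongReynoldsBlocks

set_option autoImplicit false
open Cfsg

namespace Cfsg.Agent.S4435

/-- Let N be a normal subgroup of the finite group G, b a block of N (relative to a maximal ideal M of the algebraic integers containing p), and T the stabilizer of b in G (the elements g such that conjugating any member of b by g gives a member of b); N ≤ T. Say that a block of T (or of G) covers b when some member has a constituent in b on restriction to N. Then: (i) every block B′ of T covering b induces a block B of G, B covers b, every ψ ∈ B′ induces to an irreducible character of G, and B consists exactly of the characters induced from members of B′; (ii) distinct blocks of T covering b induce distinct blocks of G; (iii) every block of G covering b is induced by some block of T covering b. -/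
theorem result {G : Type*} [Group G] [Fintype G] (p : ℕ) [Fact p.Prime] (M : Ideal Cfsg.AlgInt) (hM : Cfsg.IsPModular p M) (N : Subgroup G) [hN : N.Normal] [Fintype N] (b : Set (Cfsg.IrrCharacter N)) (hb : Cfsg.IsPBlock M b) (T : Subgroup G) [Fintype T] (hT : ∀ g : G, g ∈ T ↔ ∀ θ ∈ b, ∀ θ' : Cfsg.IrrCharacter N, (∀ n : N, (θ' : N → ℂ) n = (θ : N → ℂ) ⟨g * n * g⁻¹, hN.conj_mem n n.2 g⟩) → θ' ∈ b) (hNT : N ≤ T) : (∀ B' : Set (Cfsg.IrrCharacter T), Cfsg.IsPBlock M B' → (∃ ψ ∈ B', ∃ θ ∈ b, Cfsg.classInner (fun n : N => (ψ : T → ℂ) ⟨(n : G), hNT n.2⟩) (θ : N → ℂ) ≠ 0) → ∃ B : Set (Cfsg.IrrCharacter G), Cfsg.IsInducedBlock M T B' B ∧ (∃ χ ∈ B, ∃ θ ∈ b, Cfsg.classInner (fun n : N => (χ : G → ℂ) n) (θ : N → ℂ) ≠ 0) ∧ (∀ ψ ∈ B', Cfsg.IsIrrCharacter G (Cfsg.indFun T (ψ : T → ℂ))) ∧ ∀ χ : Cfsg.IrrCharacter G, χ ∈ B ↔ ∃ ψ ∈ B', (χ : G → ℂ) = Cfsg.indFun T (ψ : T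 → ℂ)) ∧ (∀ B'₁ B'₂ : Set (Cfsg.IrrCharacter T), Cfsg.IsPBlock M B'₁ → Cfsg.IsPBlock M B'₂ → (∃ ψ ∈ B'₁, ∃ θ ∈ b, Cfsg.classInner (fun n : N => (ψ : T → ℂ) ⟨(n : G), hNT n.2⟩) (θ : N → ℂ) ≠ 0) → (∃ ψ ∈ B'₂, ∃ θ ∈ b, Cfsg.classInner (fun n : N => (ψ : T → ℂ) ⟨(n : G), hNT n.2⟩) (θ : N → ℂ) ≠ 0) → ∀ B : Set (Cfsg.IrrCharacter G), Cfsg.IsInducedBlock M T B'₁ B → Cfsg.IsInducedBlock M T B'₂ B → B'₁ = B'₂) ∧ (∀ B : Set (Cfsg.IrrCharacter G), Cfsg.IsPBlock M B → (∃ χ ∈ B, ∃ θ ∈ b, Cfsg.classInner (fun n : N => (χ : G → ℂ) n) (θ : N → ℂ) ≠ 0) → ∃ B' : Set (Cfsg.IrrCharacter T), Cfsg.IsPBlock M B' ∧ (∃ ψ ∈ B', ∃ θ ∈ b, Cfsg.classInner (fun n : N => (ψ : T → ℂ) ⟨(n : G), hNT n.2⟩) (θ : N → ℂ) ≠ 0) ∧ Cfsg.IsInducedBlock M T B' B) := by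
  have hT' : ∀ g : G, g ∈ T ↔ ∀ θ ∈ b, CfsgLib.CharCorr.conjIrr N g θ ∈ b := fun g =>
    (hT g).trans ⟨fun h θ hθ => h θ hθ _ fun n => CfsgLib.CharCorr.conjIrr_apply N g θ n,
      fun h θ hθ θ' hθ' => by
        rw [show θ' = CfsgLib.CharCorr.conjIrr N g θ from Subtype.ext (funext fun n =>
          (hθ' n).trans (CfsgLib.CharCorr.conjIrr_apply N g θ n).symm)]
        exact h θ hθ⟩
  refine ⟨fun B' hB' ⟨ψ, hψ, hc⟩ => CfsgLib.BlockCover.fongReynolds_induced N b T hNT hT' hM hb hB' hψ hc,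
    fun B₁ B₂ h₁ h₂ ⟨ψ₁, hψ₁, hc₁⟩ ⟨ψ₂, hψ₂, hc₂⟩ B hi₁ hi₂ =>
      CfsgLib.BlockCover.fongReynolds_injective N b T hNT hT' hM hb h₁ h₂ hψ₁ hψ₂ hc₁ hc₂ hi₁ hi₂,
    fun B hB ⟨χ, hχ, hc⟩ => ?_⟩
  obtain ⟨ψ, hψ, hψχ⟩ := CfsgLib.BlockCover.exists_of_covers N b T hT' hNT hM hb hc
  refine ⟨_, CfsgLib.Blocks.isPBlock_blockOf ψ, ⟨ψ, CfsgLib.Blocks.mem_blockOf_self hM ψ, hψ⟩, ?_⟩
  have hind := CfsgLib.Blocks.isInducedBlock_indFun hM T ψ (hψχ ▸ χ.2)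
  rw [← hψχ, ← CfsgLib.Blocks.IsPBlock.eq_blockOf hM hB hχ] at hind
  exact hind

end Cfsg.Agent.S4435
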