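import Cfsg.Statements.S4442
import Cfsg.Agent.Lib.CyclicDefect.Principal

set_option autoImplicit false
open Cfsg

namespace Cfsg.Agent.S4442

/-- Blocks of defect one. Let p be an odd prime and G a finite group whose Sylow p-subgroup P has order p; let C = C_G(P) and N = N_G(P), and fix a maximal ideal M of the algebraic integers containing p. Let B be a block of G with defect group P, b a block of C inducing B, and θ the member of b having P in its kernel (there is exactly one). Let T be the stabilizer of θ in N (the elements g ∈ N with θ(g c g⁻¹) = θ(c) for all c ∈ C) and e the index of C in T. Then e divides p − 1 and B contains exactly e + (p − 1)/e irreducible characters. Moreover B is the disjoint union of a set X of e characters and a set Y of (p − 1)/e characters such that, with f the index of C in N: every χ ∈ X has χ(1) ≡ ±(f/e)·θ(1) (mod p), there is one sign ε with ψ(1) ≡ ε f θ(1) (mod p) for all ψ ∈ Y, and all members of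 Y agree on the p-regular elements of G. -/
theorem result {G : Type*} [Group G] [Finite G] (p : ℕ) [Fact p.Prime] (M : Ideal Cfsg.AlgInt) (hM : Cfsg.IsPModular p M) (hodd : p ≠ 2) (P : Sylow p G) (hP : Nat.card P = p) (B : Set (Cfsg.IrrCharacter G)) (hB : Cfsg.IsPBlock M B) (hBP : Cfsg.IsDefectGroup p M B P) (b : Set (Cfsg.IrrCharacter (Subgroup.centralizer ((P : Subgroup G) : Set G)))) (hind : Cfsg.IsInducedBlock M (Subgroup.centralizer ((P : Subgroup G) : Set G)) b B) (θ : Cfsg.IrrCharacter (Subgroup.centralizer ((P : Subgroup G) : Set G))) (hθ : θ ∈ b) (hθP : ∀ x : Subgroup.centralizer ((P : Subgroup G) : Set G), (x : G) ∈ (P : Subgroup G) → (θ : Subgroup.centralizer ((P : Subgroup G) : Set G) → ℂ) x = (θ : Subgroup.centralizer ((P : Subgroup G) : Set G) → ℂ) 1) (T : Subgroup G) (hT : ∀ g : G, g ∈ T ↔ (g ∈ Subgroup.normalizer ((P : Subgroup G) : Set G) ∧ ∀ c c' : Subgroup.centralizer ((P : Subgroup G) : Set G), (c' : G) = g * c *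 g⁻¹ → (θ : Subgroup.centralizer ((P : Subgroup G) : Set G) → ℂ) c' = (θ : Subgroup.centralizer ((P : Subgroup G) : Set G) → ℂ) c)) (e f : ℕ) (he : (Subgroup.centralizer ((P : Subgroup G) : Set G)).relIndex T = e) (hf : (Subgroup.centralizer ((P : Subgroup G) : Set G)).relIndex (Subgroup.normalizer ((P : Subgroup G) : Set G)) = f) : e ∣ p - 1 ∧ Nat.card B = e + (p - 1) / e ∧ ∃ X Y : Set (Cfsg.IrrCharacter G), B = X ∪ Y ∧ Disjoint X Y ∧ Nat.card X = e ∧ Nat.card Y = (p - 1) / e ∧ (∀ χ ∈ X, (Cfsg.charDegree (χ : G → ℂ) : ℤ) ≡ ((f / e * Cfsg.charDegree (θ : Subgroup.centralizer ((P : Subgroup G) : Set G) → ℂ) : ℕ) : ℤ) [ZMOD p] ∨ (Cfsg.charDegree (χ : G → ℂ) : ℤ) ≡ -((f / e * Cfsg.charDegree (θ : Subgroup.centralizer ((P : Subgroup G) : Set G) → ℂ) : ℕ) : ℤ) [ZMOD p]) ∧ (∃ ε : ℤ, (ε = 1 ∨ ε = -1) ∧ ∀ ψ ∈ Y, (Cfsg.charDegree (ψ : G → ℂ) : ℤ) ≡ ε * ((f * Cfsg.charDegree (θ : Subgroup.centralizer ((P : Subgroup G) : Set G) → ℂ) : ℕ) : ℤ) [ZMOD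 p]) ∧ ∀ ψ ∈ Y, ∀ ψ' ∈ Y, ∀ g : G, ¬ p ∣ orderOf g → (ψ : G → ℂ) g = (ψ' : G → ℂ) g := by
  classical
  haveI := Fintype.ofFinite G
  obtain ⟨L, rfl⟩ := CfsgLib.CyclicDefect.exists_loc P hP
  letI := Fintype.ofFinite L.C
  letI := Fintype.ofFinite L.O
  letI := Fintype.ofFinite L.Dual
  obtain ⟨θO, rfl⟩ := L.exists_xi_one θ hθP
  have hdeg : charDegree (L.xi 1 θO : L.C → ℂ) = charDegree (θO : L.O → ℂ) := by
    simp only [charDegree, L.xi_one_apply_one]
  have hBind : B = L.indB hM θO := by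
    have hb : b = L.blk M θO := CfsgLib.Blocks.IsPBlock.eq_blockOf hM hind.1 hθ
    rw [hb] at hind
    exact CfsgLib.Blocks.IsInducedBlock.unique hM hind (L.indB_spec hM θO)
  have hee : L.eIdx θO = e := by
    rw [L.eIdx_eq_relIndex, ← he]
    congr 1
    exact SetLike.ext fun g => (L.mem_stab_xi_iff θO g).trans (hT g).symm
  have hff : e * L.wOrb θO = f := by
    rw [← hee, ← hf]
    exact L.card_C_mul_wOrb θO
  have hfe : f / e = L.wOrb θO := by
    rw [← hff, Nat.mul_div_cancel_left _ (hee ▸ L.eIdx_pos θO)]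
  obtain ⟨X, Y, εY, hmem, hdisj, hXc, hYc, hεY, hX, hY, hreg, hrel⟩ :=
    L.exists_decomposition hM hodd θO
  rw [← hBind] at hmem
  rw [hdeg]
  refine ⟨⟨_, (hee ▸ (L.eIdx_mul_card θO).symm)⟩, ?_, ↑X, ↑Y,
    Set.ext fun χ => (by simpa using hmem χ), Finset.disjoint_coe.2 hdisj, ?_, ?_, fun χ hχ => ?_,
    ⟨εY, hεY, fun ψ hψ => ?_⟩,
    fun ψ hψ ψ' hψ' g hg => hreg ψ (Finset.mem_coe.1 hψ) ψ' (Finset.mem_coe.1 hψ') g hg⟩
  · rw [show B = ↑(X ∪ Y) from Set.ext fun χ => by simpa using hmem χ,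
      Nat.card_coe_set_eq, Set.ncard_coe_finset, Finset.card_union_of_disjoint hdisj, hXc, hYc,
      L.card_idx, hee]
  · rw [Nat.card_coe_set_eq, Set.ncard_coe_finset, hXc, hee]
  · rw [Nat.card_coe_set_eq, Set.ncard_coe_finset, hYc, L.card_idx, hee]
  · obtain ⟨hs, -, K, hK⟩ := hX χ (Finset.mem_coe.1 hχ)
    rw [hfe]
    rcases hs with hs | hs <;> rw [hs] at hK
    · rw [one_mul] at hK
      exact Or.inl (CfsgLib.CyclicDefect.Loc.modEq_of_eq hK)
    · rw [neg_one_mul] at hK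
      exact Or.inr (CfsgLib.CyclicDefect.Loc.modEq_of_eq hK)
  · obtain ⟨K, hK⟩ := hY ψ (Finset.mem_coe.1 hψ)
    rw [hee, hff] at hK
    exact CfsgLib.CyclicDefect.Loc.modEq_of_eq hK

end Cfsg.Agent.S4442
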