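import Cfsg.Statements.S4444
import Cfsg.Agent.Lib.CharCorr.Solvable

set_option linter.style.haveILetI false

set_option autoImplicit false
open Cfsg

namespace Cfsg.Agent.S4444

/-- The Glauberman correspondence for a p-group of operators. Inside a finite group Γ let S normalise G with the orders of G and S coprime, S a p-group, and let C = G ⊓ C(S) be the fixed points. Call an irreducible character χ of G S-invariant when χ(s g s⁻¹) = χ(g) for s ∈ S, g ∈ G. Then: (i) for every S-invariant χ there is exactly one irreducible character β of C whose multiplicity [χ_C, β] in the restriction of χ is not divisible by p; (ii) that multiplicity is ≡ 1 or ≡ −1 (mod p); (iii) distinct S-invariant χ give distinct β; (iv) every irreducible character of C arises in this way. So χ ↦ β is a bijection from the S-invariant irreducible characters of G onto the irreducible characters of C. -/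
theorem result {Γ : Type*} [Group Γ] [Fintype Γ] (G S : Subgroup Γ) [Fintype G] (hnorm : ∀ s ∈ S, ∀ g ∈ G, s * g * s⁻¹ ∈ G) (hcop : (Nat.card G).Coprime (Nat.card S)) (p : ℕ) (hp : p.Prime) (hS : IsPGroup p S) (C : Subgroup Γ) [Fintype C] (hC : C = G ⊓ Subgroup.centralizer (S : Set Γ)) (hCG : C ≤ G) : (∀ χ : Cfsg.IrrCharacter G, (∀ s ∈ S, ∀ g g' : G, (g' : Γ) = s * g * s⁻¹ → (χ : G → ℂ) g' = (χ : G → ℂ) g) → ∃! β : Cfsg.IrrCharacter C, ∃ m : ℕ, Cfsg.classInner (fun c : C => (χ : G → ℂ) ⟨c, hCG c.2⟩) (β : C → ℂ) = (m : ℂ) ∧ ¬ p ∣ m) ∧ (∀ χ : Cfsg.IrrCharacter G, (∀ s ∈ S, ∀ g g' : G, (g' : Γ) = s * g * s⁻¹ → (χ : G → ℂ) g' = (χ : G → ℂ) g) → ∀ β : Cfsg.IrrCharacter C, ∀ m : ℕ, Cfsg.classInner (fun c : C => (χ : G → ℂ) ⟨c, hCG c.2⟩) (β : C → ℂ) = (m : ℂ) → ¬ p ∣ m → ((m : ℤ) ≡ 1 [ZMOD p] ∨ (m : ℤ) ≡ -1 [ZMOD p])) ∧ (∀ χ χ' : Cfsg.IrrCharacter G, (∀ s ∈ S, ∀ g g' : G, (g' : Γ) = s * g * s⁻¹ → (χ : G → ℂ) g' = (χ : G →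 ℂ) g) → (∀ s ∈ S, ∀ g g' : G, (g' : Γ) = s * g * s⁻¹ → (χ' : G → ℂ) g' = (χ' : G → ℂ) g) → ∀ β : Cfsg.IrrCharacter C, ∀ m m' : ℕ, Cfsg.classInner (fun c : C => (χ : G → ℂ) ⟨c, hCG c.2⟩) (β : C → ℂ) = (m : ℂ) → ¬ p ∣ m → Cfsg.classInner (fun c : C => (χ' : G → ℂ) ⟨c, hCG c.2⟩) (β : C → ℂ) = (m' : ℂ) → ¬ p ∣ m' → χ = χ') ∧ (∀ β : Cfsg.IrrCharacter C, ∃ χ : Cfsg.IrrCharacter G, (∀ s ∈ S, ∀ g g' : G, (g' : Γ) = s * g * s⁻¹ → (χ : G → ℂ) g' = (χ : G → ℂ) g) ∧ ∃ m : ℕ, Cfsg.classInner (fun c : C => (χ : G → ℂ) ⟨c, hCG c.2⟩) (β : C → ℂ) = (m : ℂ) ∧ ¬ p ∣ m) := by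
  classical
  haveI : Fact p.Prime := ⟨hp⟩
  have hf : CfsgLib.CharCorr.IsFixedHom (CfsgLib.CharCorr.subgroupAct G S hnorm)
      (Subgroup.inclusion hCG) := by
    refine ⟨Subgroup.inclusion_injective hCG, fun s c => Subtype.ext ?_, fun x hx => ?_⟩
    · have hc : (c : Γ) ∈ G ⊓ Subgroup.centralizer (S : Set Γ) := by rw [← hC]; exact c.2
      show (s : Γ) * (c : Γ) * (s : Γ)⁻¹ = (c : Γ)
      rw [mul_inv_eq_iff_eq_mul]
      exact Subgroup.mem_centralizer_iff.1 hc.2 s s.2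
    · have hmem : (x : Γ) ∈ C := by
        rw [hC]
        refine ⟨x.2, Subgroup.mem_centralizer_iff.2 fun s hs => ?_⟩
        exact mul_inv_eq_iff_eq_mul.1 (congrArg Subtype.val (hx ⟨s, hs⟩))
      exact ⟨⟨x, hmem⟩, rfl⟩
  have hinv := fun χ => CfsgLib.CharCorr.inv_subgroupAct_iff G S hnorm χ
  have hmult : ∀ (χ : Cfsg.IrrCharacter G) (β : Cfsg.IrrCharacter C) (m : ℕ),
      Cfsg.classInner (fun c : C => (χ : G → ℂ) ⟨c, hCG c.2⟩) (β : C → ℂ) = (m : ℂ) ↔
        CfsgLib.CharCorr.mult (Subgroup.inclusion hCG) χ β = m := by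
    intro χ β m
    refine ⟨fun h => CfsgLib.CharCorr.mult_eq_of_classInner_eq _ _ _ h, fun h => ?_⟩
    exact h ▸ CfsgLib.CharCorr.mult_spec (Subgroup.inclusion hCG) χ β
  have hex : ∀ (χ : Cfsg.IrrCharacter G) (β : Cfsg.IrrCharacter C), (∃ m : ℕ, Cfsg.classInner (fun c : C => (χ : G → ℂ) ⟨c, hCG c.2⟩)
      (β : C → ℂ) = (m : ℂ) ∧ ¬ p ∣ m) ↔
      ¬ p ∣ CfsgLib.CharCorr.mult (Subgroup.inclusion hCG) χ β := fun χ β =>
    ⟨fun ⟨m, h1, h2⟩ => by rwa [(hmult χ β m).1 h1], fun h => ⟨_, (hmult χ β _).2 rfl, h⟩⟩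
  simp only [hex, ← hinv]
  by_cases hpG : p ∣ Nat.card G
  · obtain ⟨k, hk⟩ := IsPGroup.iff_card.1 hS
    have hk0 : k = 0 := by
      by_contra h0
      exact Nat.not_coprime_of_dvd_of_dvd hp.one_lt hpG (hk ▸ dvd_pow_self p h0) hcop
    haveI : Subsingleton S := (Nat.card_eq_one_iff_unique.1 (by rw [hk, hk0, pow_zero])).1
    have hbij : Function.Bijective (Subgroup.inclusion hCG) :=
      ⟨hf.injective, fun x => hf.exists_of_fixed x fun s => by
        rw [Subsingleton.elim s 1, map_one]; rfl⟩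
    have hm := CfsgLib.CharCorr.mult_of_bijective (Subgroup.inclusion hCG) hbij
    have h1 : ¬ p ∣ 1 := hp.not_dvd_one
    refine ⟨fun χ _ => ⟨CfsgLib.CharCorr.twistIrr (MulEquiv.ofBijective _ hbij) χ,
        by show ¬ p ∣ _; rw [hm, if_pos rfl]; exact h1, fun β hβ => ?_⟩, fun χ _ β m h hd => ?_,
      fun χ χ' _ _ β m m' h hd h' hd' => ?_,
      fun β => ⟨CfsgLib.CharCorr.twistIrr (MulEquiv.ofBijective _ hbij).symm β, fun s g => ?_, ?_⟩⟩
    · simp only [hm] at hβ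
      by_contra hne
      exact hβ (by rw [if_neg (Ne.symm hne)]; exact dvd_zero p)
    · rw [hmult, hm] at h
      split_ifs at h
      · subst h; exact Or.inl rfl
      · exact absurd (by rw [← h]; exact dvd_zero p) hd
    · rw [hmult, hm] at h h'
      split_ifs at h h' with a b
      · refine Subtype.ext (funext fun g => ?_)
        obtain ⟨c, rfl⟩ := hbij.2 g
        exact congrFun (congrArg Subtype.val (a.trans b.symm)) c
      all_goals first | exact absurd (by rw [← h]; exact dvd_zero p) hd | exact absurd (by rw [← h']; exact dvd_zero p) hd'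
    · rw [Subsingleton.elim s 1, map_one]; rfl
    · rw [hm, if_pos]
      · exact h1
      · exact Subtype.ext (funext fun c =>
          congrArg (β : C → ℂ) ((MulEquiv.ofBijective _ hbij).symm_apply_apply c))
  · refine ⟨fun χ hχ => CfsgLib.CharCorr.existsUnique_mult hp hS hf hpG hχ,
      fun χ hχ β m h hd => ?_, fun χ χ' hχ hχ' β m m' h hd h' hd' => ?_,
      fun β => CfsgLib.CharCorr.exists_mult hp hS hf hpG β⟩
    · rw [hmult] at h
      subst h
      rcases CfsgLib.CharCorr.mult_eq_one_or_neg_one hp hS hf hpG hχ hd with h1 | h1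
      · left
        exact (ZMod.intCast_eq_intCast_iff _ _ _).1 (by simpa using h1)
      · right
        exact (ZMod.intCast_eq_intCast_iff _ _ _).1 (by simpa using h1)
    · rw [hmult] at h h'
      subst h h'
      exact CfsgLib.CharCorr.mult_injective hp hS hf hpG hχ hχ' hd hd'

end Cfsg.Agent.S4444
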