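import Cfsg.Statements.S4446
import Cfsg.Agent.Lib.CharCorr.CyclicGlauberman

set_option autoImplicit false
open Cfsg

namespace Cfsg.Agent.S4446

/-- Let the finite group Γ be generated by a normal subgroup G and a cyclic subgroup S of coprime orders, C = G ⊓ C(S), and let χ be an S-invariant irreducible character of G with canonical extension χ̂ to Γ (the extension whose determinantal order is coprime to the order of S). Then there are exactly one irreducible character β of C and one sign ε such that χ̂(c s) = ε β(c) for every c ∈ C and every generator s of S; this β is a constituent of the restriction of χ to C; distinct S-invariant χ give distinct β; and every irreducible character of C arises in this way. -/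
theorem result {Γ : Type*} [Group Γ] [Fintype Γ] (G S : Subgroup Γ) [Fintype G] (hnorm : ∀ s ∈ S, ∀ g ∈ G, s * g * s⁻¹ ∈ G) (hcop : (Nat.card G).Coprime (Nat.card S)) (htop : G ⊔ S = ⊤) (hcyc : IsCyclic S) (C : Subgroup Γ) [Fintype C] (hC : C = G ⊓ Subgroup.centralizer (S : Set Γ)) (hCG : C ≤ G) : (∀ (χ : Cfsg.IrrCharacter G) (χh : Cfsg.IrrCharacter Γ), (∀ s ∈ S, ∀ g g' : G, (g' : Γ) = s * g * s⁻¹ → (χ : G → ℂ) g' = (χ : G → ℂ) g) → (∀ g : G, (χh : Γ → ℂ) g = (χ : G → ℂ) g) → (Cfsg.detOrder (χh : Γ → ℂ)).Coprime (Nat.card S) → (∃! βε : Cfsg.IrrCharacter C × ℤ, (βε.2 = 1 ∨ βε.2 = -1) ∧ ∀ c : C, ∀ s : Γ, Subgroup.zpowers s = S → (χh : Γ → ℂ) ((c : Γ) * s) = (βε.2 : ℂ) * (βε.1 : C → ℂ) c) ∧ ∀ β : Cfsg.IrrCharacter C, ∀ ε : ℤ, (ε = 1 ∨ ε = -1) → (∀ c : C, ∀ s : Γ, Subgroup.zpowers s = S → (χh : Γ → ℂ) ((c : Γ) * s) = (ε : ℂ) * (β : C → ℂ) c) → Cfsg.classInner (fun c : C => (χ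 : G → ℂ) ⟨c, hCG c.2⟩) (β : C → ℂ) ≠ 0) ∧ (∀ (χ χ' : Cfsg.IrrCharacter G) (χh χh' : Cfsg.IrrCharacter Γ), (∀ s ∈ S, ∀ g g' : G, (g' : Γ) = s * g * s⁻¹ → (χ : G → ℂ) g' = (χ : G → ℂ) g) → (∀ s ∈ S, ∀ g g' : G, (g' : Γ) = s * g * s⁻¹ → (χ' : G → ℂ) g' = (χ' : G → ℂ) g) → (∀ g : G, (χh : Γ → ℂ) g = (χ : G → ℂ) g) → (∀ g : G, (χh' : Γ → ℂ) g = (χ' : G → ℂ) g) → (Cfsg.detOrder (χh : Γ → ℂ)).Coprime (Nat.card S) → (Cfsg.detOrder (χh' : Γ → ℂ)).Coprime (Nat.card S) → ∀ β : Cfsg.IrrCharacter C, ∀ ε ε' : ℤ, (ε = 1 ∨ ε = -1) → (ε' = 1 ∨ ε' = -1) → (∀ c : C, ∀ s : Γ, Subgroup.zpowers s = S → (χh : Γ → ℂ) ((c : Γ) * s) = (ε : ℂ) * (β : C → ℂ) c) → (∀ c : C, ∀ s : Γ, Subgroup.zpowers s = S → (χh' : Γ → ℂ) ((c : Γ) * s) = (ε' : ℂ) * (β : C → ℂ) c) → χ = χ') ∧ (∀ β : Cfsg.IrrCharacter C, ∃ (χ : Cfsg.IrrCharacter G) (χh : Cfsg.IrrCharacter Γ) (ε : ℤ), (∀ s ∈ S, ∀ g g' : G, (g' : Γ) = s *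 g * s⁻¹ → (χ : G → ℂ) g' = (χ : G → ℂ) g) ∧ (∀ g : G, (χh : Γ → ℂ) g = (χ : G → ℂ) g) ∧ (Cfsg.detOrder (χh : Γ → ℂ)).Coprime (Nat.card S) ∧ (ε = 1 ∨ ε = -1) ∧ ∀ c : C, ∀ s : Γ, Subgroup.zpowers s = S → (χh : Γ → ℂ) ((c : Γ) * s) = (ε : ℂ) * (β : C → ℂ) c) := by
  classical
  haveI : Fintype S := Fintype.ofFinite S
  have hGn : G.Normal := by
    have hle : G ⊔ S ≤ Subgroup.normalizer (G : Set Γ) := by
      refine sup_le Subgroup.le_normalizer fun s hs => Subgroup.mem_normalizer_iff.2 fun g =>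
        ⟨hnorm s hs g, fun hg => ?_⟩
      have := hnorm s⁻¹ (S.inv_mem hs) _ hg
      simpa [mul_assoc] using this
    rw [htop, top_le_iff] at hle
    exact Subgroup.normalizer_eq_top_iff.1 hle
  haveI := hGn
  have hc : Subgroup.IsComplement' G S :=
    Subgroup.isComplement'_of_disjoint_and_mul_eq_univ
      (disjoint_iff.2 (Subgroup.inf_eq_bot_of_coprime hcop)) (by
        rw [← Subgroup.normal_mul, htop, Subgroup.coe_top])
  obtain ⟨s₀, hs₀⟩ : ∃ s : Γ, Subgroup.zpowers s = S := by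
    obtain ⟨g, hg⟩ := IsCyclic.exists_generator (α := S)
    refine ⟨g, le_antisymm (Subgroup.zpowers_le.2 g.2) fun x hx => ?_⟩
    obtain ⟨k, hk⟩ := hg ⟨x, hx⟩
    exact ⟨k, congrArg Subtype.val hk⟩
  have hinvΓ : ∀ χ : Cfsg.IrrCharacter G,
      (∀ s ∈ S, ∀ g g' : G, (g' : Γ) = s * g * s⁻¹ → (χ : G → ℂ) g' = (χ : G → ℂ) g) →
      ∀ (x : Γ) (g : G),
        (χ : G → ℂ) ⟨x * g * x⁻¹, hGn.conj_mem g g.2 x⟩ = (χ : G → ℂ) g := by
    intro χ hχ x g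
    obtain ⟨⟨a, t⟩, hat⟩ := hc.2 x
    have hat' : (a : Γ) * (t : Γ) = x := hat
    rw [← hχ t t.2 g ⟨t * g * (t : Γ)⁻¹, hnorm t t.2 g g.2⟩ rfl]
    refine Eq.trans ?_ (CfsgLib.Characters.irr_isClassFunction χ _ a)
    refine congrArg (χ : G → ℂ) (Subtype.ext ?_)
    simp only [Subgroup.coe_mul, InvMemClass.coe_inv, ← hat', mul_inv_rev, mul_assoc]
  have hbeta : ∀ (χ : Cfsg.IrrCharacter G) (χh : Cfsg.IrrCharacter Γ),
      (∀ g : G, (χh : Γ → ℂ) g = (χ : G → ℂ) g) →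
      (Cfsg.detOrder (χh : Γ → ℂ)).Coprime (Nat.card S) →
      ∃ (β : Cfsg.IrrCharacter C) (ε : ℤ), (ε = 1 ∨ ε = -1) ∧
        Cfsg.classInner (fun c : C => (χ : G → ℂ) ⟨c, hCG c.2⟩) (β : C → ℂ) ≠ 0 ∧
        ∀ (c : C) (s : Γ), Subgroup.zpowers s = S →
          (χh : Γ → ℂ) ((c : Γ) * s) = (ε : ℂ) * (β : C → ℂ) c := by
    intro χ χh hres ho
    obtain ⟨β, ε, hε, hβ, hsl⟩ :=
      CfsgLib.CyclicGlauberman.exists_beta hc hcop hC χh.2 χ.2 hres ho hs₀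
    refine ⟨β, ε, hε, ?_, fun c s hs => congrFun (hsl s hs) c⟩
    have e : (fun c : C => (χh : Γ → ℂ) c) = fun c : C => (χ : G → ℂ) ⟨c, hCG c.2⟩ :=
      funext fun c => hres ⟨c, hCG c.2⟩
    rwa [e] at hβ
  have hne : ∀ ε : ℤ, (ε = 1 ∨ ε = -1) → ε ≠ 0 := fun ε hε => by omega
  have huniq : ∀ (χh : Γ → ℂ) (β β' : Cfsg.IrrCharacter C) (ε ε' : ℤ), (ε = 1 ∨ ε = -1) →
      (ε' = 1 ∨ ε' = -1) →
      (∀ c : C, χh ((c : Γ) * s₀) = (ε : ℂ) * (β : C → ℂ) c) →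
      (∀ c : C, χh ((c : Γ) * s₀) = (ε' : ℂ) * (β' : C → ℂ) c) → β = β' ∧ ε = ε' := by
    intro χh β β' ε ε' hε hε' h h'
    have hf : (ε : ℂ) • (β : C → ℂ) = (ε' : ℂ) • (β' : C → ℂ) :=
      funext fun c => (h c).symm.trans (h' c)
    have h1 := congrArg (fun φ => Cfsg.classInner φ (β : C → ℂ)) hf
    simp only [CfsgLib.Characters.classInner_smul_left, CfsgLib.Characters.classInner_irr] at h1
    by_cases hb : β' = β
    · subst hb
      simp only [if_pos, if_true, mul_one] at h1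
      exact ⟨rfl, by exact_mod_cast h1⟩
    · simp only [if_true, if_neg hb, mul_one, mul_zero] at h1
      exact absurd (by exact_mod_cast h1) (hne ε hε)
  have hinj : ∀ (χ χ' : Cfsg.IrrCharacter G) (χh χh' : Cfsg.IrrCharacter Γ),
      (∀ g : G, (χh : Γ → ℂ) g = (χ : G → ℂ) g) →
      (∀ g : G, (χh' : Γ → ℂ) g = (χ' : G → ℂ) g) → ∀ (β : Cfsg.IrrCharacter C) (ε ε' : ℤ),
      (ε = 1 ∨ ε = -1) → (ε' = 1 ∨ ε' = -1) →
      (∀ c : C, (χh : Γ → ℂ) ((c : Γ) * s₀) = (ε : ℂ) * (β : C → ℂ) c) →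
      (∀ c : C, (χh' : Γ → ℂ) ((c : Γ) * s₀) = (ε' : ℂ) * (β : C → ℂ) c) → χ = χ' :=
    fun χ χ' χh χh' hr hr' β ε ε' hε hε' h h' =>
      CfsgLib.CyclicGlauberman.eq_of_slice hc hcop hC χh.2 χh'.2 χ χ' hr hr' hs₀ β (hne ε hε)
        (hne ε' hε') (funext h) (funext h')
  refine ⟨fun χ χh _ hres ho => ?_, ?_, fun β => ?_⟩
  · obtain ⟨β, ε, hε, hβ, hv⟩ := hbeta χ χh hres ho
    refine ⟨⟨(β, ε), ⟨hε, hv⟩, ?_⟩, fun β' ε' hε' h' => ?_⟩
    · rintro ⟨β', ε'⟩ ⟨hε', h'⟩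
      obtain ⟨h1, h2⟩ := huniq χh β' β ε' ε hε' hε (fun c => h' c s₀ hs₀) (fun c => hv c s₀ hs₀)
      exact Prod.ext h1 h2
    · obtain ⟨h1, -⟩ := huniq χh β' β ε' ε hε' hε (fun c => h' c s₀ hs₀) (fun c => hv c s₀ hs₀)
      rw [h1]
      exact hβ
  · intro χ χ' χh χh' _ _ hr hr' _ _ β ε ε' hε hε' h h'
    exact hinj χ χ' χh χh' hr hr' β ε ε' hε hε' (fun c => h c s₀ hs₀) (fun c => h' c s₀ hs₀)
  · let act := CfsgLib.CharCorr.subgroupAct G S hnorm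
    have hsolv : Group.IsSolvable S := Group.isSolvable_of_comm fun a b =>
      (IsCyclic.commGroup (α := S)).mul_comm a b
    let f : C ≃* CfsgLib.CharCorr.fixedSub act :=
      { toFun := fun x => ⟨⟨(x : Γ), hCG x.2⟩, fun s => Subtype.ext (by
          show (s : Γ) * x * (s : Γ)⁻¹ = x
          rw [← (CfsgLib.CyclicGlauberman.commute_of_mem hC x.2 s.2).eq, mul_inv_cancel_right])⟩
        invFun := fun x => ⟨((x : G) : Γ), by
          rw [hC]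
          exact ⟨(x : G).2, Subgroup.mem_centralizer_iff.2 fun s hs =>
            mul_inv_eq_iff_eq_mul.1 (congrArg Subtype.val (x.2 ⟨s, hs⟩))⟩⟩
        left_inv := fun x => rfl
        right_inv := fun x => rfl
        map_mul' := fun x y => rfl }
    have hcard : Nat.card {χ : Cfsg.IrrCharacter G // CfsgLib.CharCorr.Inv act χ} =
        Nat.card (Cfsg.IrrCharacter C) := by
      rw [CfsgLib.CoprimeDegree.card_inv_eq_card_irr_fixed _ S G act rfl hsolv hcop]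
      exact Nat.card_congr
        { toFun := fun χ => CfsgLib.CharCorr.twistIrr f χ
          invFun := fun χ => CfsgLib.CharCorr.twistIrr f.symm χ
          left_inv := fun χ => Subtype.ext (funext fun g => congrArg (χ : _ → ℂ) (f.apply_symm_apply g))
          right_inv := fun χ => Subtype.ext (funext fun g => congrArg (χ : _ → ℂ) (f.symm_apply_apply g)) }
    have hinvS := fun χ => (CfsgLib.CharCorr.inv_subgroupAct_iff G S hnorm χ).1
    choose E hE hEo using fun χ : {χ : Cfsg.IrrCharacter G // CfsgLib.CharCorr.Inv act χ} =>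
      CfsgLib.CyclicGlauberman.exists_canonical hc hcop χ.1 (hinvΓ χ.1 (hinvS χ.1 χ.2))
    choose B ε hε hB hv using fun χ => hbeta χ.1 (E χ) (hE χ) (hEo χ)
    have hBinj : Function.Injective B := fun a b hab => Subtype.ext
      (hinj a.1 b.1 (E a) (E b) (hE a) (hE b) (B a) (ε a) (ε b) (hε a) (hε b)
        (fun c => hv a c s₀ hs₀) (fun c => hab ▸ hv b c s₀ hs₀))
    obtain ⟨χ, rfl⟩ := (Function.Injective.bijective_of_nat_card_le hBinj hcard.ge).2 β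
    exact ⟨χ.1, E χ, ε χ, hinvS χ.1 χ.2, hE χ, hEo χ, hε χ, hv χ⟩

end Cfsg.Agent.S4446
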