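import Cfsg.Statements.S4448
import Cfsg.Agent.Lib.CharCorr.InvariantLayer
-- import your own Cfsg.Agent.* helpers here

set_option autoImplicit false
open Cfsg
open CfsgLib.Characters CfsgLib.CharCorr

namespace Cfsg.Agent.S4448

/-- Inside a finite group Γ let S normalise G and also normalise a normal subgroup N of G, with the order of S coprime to the index of N in G and G/N solvable. Then for every S-invariant irreducible character ϑ of N, the induced character ϑ^G has an S-invariant irreducible constituent. -/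
theorem result {Γ : Type*} [Group Γ] [Fintype Γ] (G S N : Subgroup Γ) [Fintype G] [Fintype N] (hnorm : ∀ s ∈ S, ∀ g ∈ G, s * g * s⁻¹ ∈ G) (hNG : N ≤ G) [hNn : (N.subgroupOf G).Normal] (hNS : ∀ s ∈ S, ∀ n ∈ N, s * n * s⁻¹ ∈ N) (hcop : (N.relIndex G).Coprime (Nat.card S)) (hsolv : Group.IsSolvable (G ⧸ N.subgroupOf G)) (θ : Cfsg.IrrCharacter N) (hinv : (∀ s ∈ S, ∀ g g' : N, (g' : Γ) = s * g * s⁻¹ → (θ : N → ℂ) g' = (θ : N → ℂ) g)) : ∃ χ : Cfsg.IrrCharacter G, Cfsg.classInner (fun n : N => (χ : G → ℂ) ⟨n, hNG n.2⟩) (θ : N → ℂ) ≠ 0 ∧ (∀ s ∈ S, ∀ g g' : G, (g' : Γ) = s * g * s⁻¹ → (χ : G → ℂ) g' = (χ : G → ℂ) g) := by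
  classical
  let N' := N.subgroupOf G
  haveI : Fintype N' := Fintype.ofFinite _
  let e : N' ≃* N := Subgroup.subgroupOfEquivOfLe hNG
  have hN' : ∀ a, ∀ x ∈ N', subgroupAct G S hnorm a x ∈ N' := fun a x hx => hNS a a.2 x hx
  obtain ⟨χ, hχ, hχi⟩ := CfsgLib.CoprimeFixed.exists_inv_over_solvable _ (subgroupAct G S hnorm) N'
    hN' ⊥ rfl (by rw [Subgroup.index_bot]; exact hcop) hsolv
    (fun b hb => ⟨1, N'.one_mem, fun g => by rw [Subgroup.mem_bot.1 hb, map_one]; simp⟩)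
    (twistIrr e θ) (fun a x => hinv a a.2 (e x) (e (restrictAct _ N' hN' a x)) rfl)
  refine ⟨χ, fun h0 => hχ ?_, (inv_subgroupAct_iff G S hnorm χ).1 hχi⟩
  rw [← h0]
  exact classInner_comp_equiv e (fun n : N => (χ : G → ℂ) ⟨n, hNG n.2⟩) (θ : N → ℂ)

end Cfsg.Agent.S4448
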