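import Cfsg.Statements.S4449
import Cfsg.Agent.Lib.CharCorr.Solvable

set_option autoImplicit false
open Cfsg

namespace Cfsg.Agent.S4449

/-- Inside a finite group Γ let the solvable subgroup S normalise G with the orders of G and S coprime, and let N be a normal subgroup of G normalised by S. Then for every S-invariant irreducible character ϑ of N, the induced character ϑ^G has an S-invariant irreducible constituent. -/
theorem result {Γ : Type*} [Group Γ] [Fintype Γ] (G S N : Subgroup Γ) [Fintype G] [Fintype N] (hnorm : ∀ s ∈ S, ∀ g ∈ G, s * g * s⁻¹ ∈ G) (hNG : N ≤ G) (hNnormal : ∀ g ∈ G, ∀ n ∈ N, g * n * g⁻¹ ∈ N) (hNS : ∀ s ∈ S, ∀ n ∈ N, s * n * s⁻¹ ∈ N) (hcop : (Nat.card G).Coprime (Nat.card S)) (hsolv : Group.IsSolvable S) (θ : Cfsg.IrrCharacter N) (hinv : (∀ s ∈ S, ∀ g g' : N, (g' : Γ) = s * g * s⁻¹ → (θ : N → ℂ) g' = (θ : N → ℂ) g)) : ∃ χ : Cfsg.IrrCharacter G, Cfsg.classInner (fun n :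 N => (χ : G → ℂ) ⟨n, hNG n.2⟩) (θ : N → ℂ) ≠ 0 ∧ (∀ s ∈ S, ∀ g g' : G, (g' : Γ) = s * g * s⁻¹ → (χ : G → ℂ) g' = (χ : G → ℂ) g) := by
  classical
  haveI : (N.subgroupOf G).Normal :=
    ⟨fun n hn g => hNnormal g g.2 n hn⟩
  let e : N.subgroupOf G ≃* N := Subgroup.subgroupOfEquivOfLe hNG
  haveI : Fintype (N.subgroupOf G) := Fintype.ofEquiv N e.toEquiv.symm
  obtain ⟨χ, hχ, hm⟩ := CfsgLib.CharCorr.exists_inv_over _ S G
    (CfsgLib.CharCorr.subgroupAct G S hnorm) (N.subgroupOf G)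
    (fun s x hx => hNS s s.2 x hx) (CfsgLib.CharCorr.twistIrr e θ) rfl hsolv hcop
    (fun s n => hinv s s.2 (e n) _ rfl)
  refine ⟨χ, ?_, (CfsgLib.CharCorr.inv_subgroupAct_iff G S hnorm χ).1 hχ⟩
  have h := CfsgLib.CharCorr.classInner_comp_equiv e
    (fun n : N => (χ : G → ℂ) ⟨n, hNG n.2⟩) (θ : N → ℂ)
  rw [← h]
  have h2 := CfsgLib.CharCorr.mult_spec (N.subgroupOf G).subtype χ (CfsgLib.CharCorr.twistIrr e θ)
  intro h0
  refine hm ?_
  have h3 : Cfsg.classInner ((χ : G → ℂ) ∘ (N.subgroupOf G).subtype)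
      (CfsgLib.CharCorr.twistIrr e θ : N.subgroupOf G → ℂ) = 0 := h0
  rw [h2] at h3
  exact_mod_cast h3

end Cfsg.Agent.S4449
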