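import Cfsg.Statements.S4451
import Cfsg.Agent.Lib.CharCorr.CyclicSigns

set_option autoImplicit false
open Cfsg

namespace Cfsg.Agent.S4451

open CfsgLib.Characters CfsgLib.NormalAvg CfsgLib.CyclicGlauberman
open scoped ComplexConjugate

universe u

/-- The coefficient of a character of the centralised part is a character of the operators. -/
theorem isCharacter_coeff {Γ : Type u} [Group Γ] [Fintype Γ] {G S C : Subgroup Γ} [Fintype C]
    (hC : C = G ⊓ Subgroup.centralizer (S : Set Γ)) {χ : Γ → ℂ} (hχ : IsCharacter Γ χ)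
    (β : IrrCharacter C) :
    IsCharacter S (fun t : S => classInner (slice C χ (t : Γ)) (β : C → ℂ)) := by
  classical
  let j : C × S →* Γ :=
    { toFun := fun p => (p.1 : Γ) * (p.2 : Γ)
      map_one' := by simp
      map_mul' := fun a b => by
        simp only [Prod.fst_mul, Prod.snd_mul, Subgroup.coe_mul]
        exact Commute.mul_mul_mul_comm
          ((Subgroup.mem_centralizer_iff.1 (hC.le b.1.2).2 _ a.2.2).symm : Commute _ _) _ _ }
  let N : Subgroup (C × S) := (MonoidHom.inl C S).range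
  haveI : N.Normal := ⟨by
    rintro _ ⟨c, rfl⟩ g
    exact ⟨g.1 * c * g.1⁻¹, Prod.ext rfl (show (1 : S) = g.2 * 1 * g.2⁻¹ by simp)⟩⟩
  haveI : Fintype N := Fintype.ofFinite N
  haveI : Fintype (C × S) := Fintype.ofFinite _
  have h := CfsgLib.Clifford.isCharacter_pullback (isCharacter_pairAvg N
    (CfsgLib.Clifford.isCharacter_pullback hχ j)
    (CfsgLib.Clifford.isCharacter_pullback (irr_isCharacter β) (MonoidHom.fst C S)))
    (MonoidHom.inr C S)
  convert h using 1
  funext t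
  symm
  rw [pairAvg_apply]
  unfold classInner
  let eN : C ≃* N := MonoidHom.ofInjective (f := MonoidHom.inl C S)
    fun a b h => (Prod.ext_iff.1 h).1
  rw [← Nat.card_congr eN.toEquiv]
  congr 1
  refine (Fintype.sum_equiv eN.toEquiv _ _ fun c => ?_).symm
  show χ ((c : Γ) * t) * conj ((β : C → ℂ) c) =
    χ (j ((c, 1) * (1, t))) * conj ((β : C → ℂ) (c * 1))
  rw [mul_one, show j ((c, 1) * (1, t)) = (c : Γ) * t from
    show ((c * 1 : C) : Γ) * ((1 * t : S) : Γ) = (c : Γ) * t by simp]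

/-- Let the finite group Γ be generated by a normal subgroup G and a cyclic subgroup S of coprime orders such that every non-identity element of S has the same centraliser C = G ⊓ C(S) in G. Let χ be an S-invariant irreducible character of G, χ̂ its canonical extension to Γ (determinantal order coprime to the order of S), and β the irreducible character of C with χ̂(c s) = ε₀ β(c) for c ∈ C and generators s of S (ε₀ = ±1). Then there are a sign ε = ±1, which may differ from ε₀, and a linear character μ of S with μ² = 1, such that: (a) χ̂(c x) = ε β(c) μ(x) for all c ∈ C and all x ∈ S other than 1; (b) the restriction of χ to C equals |S|·ϑ + ε β for some character ϑ of C or ϑ = 0; (c) |S| divides χ(1) − ε β(1). -/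
theorem result {Γ : Type*} [Group Γ] [Fintype Γ] (G S : Subgroup Γ) [Fintype G] (hnorm : ∀ s ∈ S, ∀ g ∈ G, s * g * s⁻¹ ∈ G) (hcop : (Nat.card G).Coprime (Nat.card S)) (htop : G ⊔ S = ⊤) (hcyc : IsCyclic S) (C : Subgroup Γ) [Fintype C] (hC : C = G ⊓ Subgroup.centralizer (S : Set Γ)) (hCG : C ≤ G) (hfpf : ∀ x ∈ S, x ≠ 1 → G ⊓ Subgroup.centralizer ({x} : Set Γ) = C) (χ : Cfsg.IrrCharacter G) (hinv : (∀ s ∈ S, ∀ g g' : G, (g' : Γ) = s * g * s⁻¹ → (χ : G → ℂ) g' = (χ : G → ℂ) g)) (χh : Cfsg.IrrCharacter Γ) (hext : (∀ g : G, (χh : Γ → ℂ) g = (χ : G → ℂ) g)) (hdet : (Cfsg.detOrder (χh : Γ → ℂ)).Coprime (Nat.card S)) (β : Cfsg.IrrCharacter C) (ε₀ : ℤ) (hε₀ : ε₀ = 1 ∨ ε₀ = -1) (hβ : ∀ c : C, ∀ s : Γ, Subgroup.zpowers s = S → (χh : Γ → ℂ) ((c : Γ) * s) = (ε₀ : ℂ) * (β : C → ℂ) c) : ∃ ε : ℤ, (ε = 1 ∨ ε = -1) ∧ (∃ μ : S → ℂ, Cfsg.IsCharacter S μ ∧ μ 1 = 1 ∧ (∀ x : S, μ x * μ x = 1) ∧ ∀ c : C, ∀ x : S, x ≠ 1 → (χh : Γ → ℂ) ((c : Γ) * x) = (ε : ℂ) * (β : C → ℂ) c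 * μ x) ∧ (∃ ϑ : C → ℂ, Cfsg.IsCharacter C ϑ ∧ (fun c : C => (χ : G → ℂ) ⟨c, hCG c.2⟩) = fun c => (Nat.card S : ℂ) * ϑ c + (ε : ℂ) * (β : C → ℂ) c) ∧ (Nat.card S : ℤ) ∣ (Cfsg.charDegree (χ : G → ℂ) : ℤ) - ε * (Cfsg.charDegree (β : C → ℂ) : ℤ) := by
  classical
  haveI : Fintype S := Fintype.ofFinite S
  have hGn : G.Normal := by
    have hle : G ⊔ S ≤ Subgroup.normalizer (G : Set Γ) := by
      refine sup_le Subgroup.le_normalizer fun s hs => Subgroup.mem_normalizer_iff.2 fun g =>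
        ⟨hnorm s hs g, fun hg => ?_⟩
      have := hnorm s⁻¹ (S.inv_mem hs) _ hg
      simpa [mul_assoc] using this
    rw [htop, top_le_iff] at hle
    exact Subgroup.normalizer_eq_top_iff.1 hle
  haveI := hGn
  have hc : Subgroup.IsComplement' G S :=
    Subgroup.isComplement'_of_disjoint_and_mul_eq_univ
      (disjoint_iff.2 (Subgroup.inf_eq_bot_of_coprime hcop)) (by
        rw [← Subgroup.normal_mul, htop, Subgroup.coe_top])
  obtain ⟨g₀, hg₀⟩ := IsCyclic.exists_generator (α := S)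
  have hs₀ : Subgroup.zpowers (g₀ : Γ) = S := by
    refine le_antisymm (Subgroup.zpowers_le.2 g₀.2) fun x hx => ?_
    obtain ⟨k, hk⟩ := hg₀ ⟨x, hx⟩
    exact ⟨k, congrArg Subtype.val hk⟩
  have hnS : orderOf g₀ = Nat.card S := orderOf_eq_card_of_forall_mem_zpowers hg₀
  have hcomm : ∀ a b : S, a * b = b * a := fun a b => (IsCyclic.commGroup (α := S)).mul_comm a b
  let ξ : IrrCharacter C → S → ℂ := fun γ t => classInner (slice C (χh : Γ → ℂ) (t : Γ)) (γ : C → ℂ)
  have hξc : ∀ γ, IsCharacter S (ξ γ) := fun γ => isCharacter_coeff hC (irr_isCharacter χh) γ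
  -- the values only depend on the generated subgroup
  have hgal : ∀ (t : S) (j : ℕ), j.Coprime (Nat.card S) → ∀ c : C,
      (χh : Γ → ℂ) ((c : Γ) * ((t ^ j : S) : Γ)) = (χh : Γ → ℂ) ((c : Γ) * (t : Γ)) := by
    intro t j hj c
    obtain ⟨k, hk1, hk2, hk⟩ := exists_exponent hcop hj
    rw [← card_eq hc] at hk
    haveI : NeZero (Nat.card Γ) := ⟨Nat.card_pos.ne'⟩
    obtain ⟨τ, hτ⟩ := CfsgLib.CharGalois.exists_autComplex (Nat.card Γ) hk
    have hmap : ∀ x, τ ((χh : Γ → ℂ) x) = (χh : Γ → ℂ) (x ^ k) :=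
      CfsgLib.CharGalois.map_char_eq_pow (irr_isCharacter χh) τ hτ
    have hG' : ∀ g : G, (g : Γ) ^ k = g := fun g => by
      have h1 : g ^ k = g := by
        rw [← pow_mod_natCard, show k % Nat.card G = 1 % Nat.card G from hk1, pow_mod_natCard,
          pow_one]
      exact congrArg (fun z : G => (z : Γ)) h1
    have heq : (fun x => τ ((χh : Γ → ℂ) x)) = (χh : Γ → ℂ) :=
      canonical_unique hc hcop (CfsgLib.CharGalois.isIrrCharacter_map τ χh.2) χh.2 χ.2
        (fun g => by show τ ((χh : Γ → ℂ) g) = _; rw [hmap, hG', hext]) hext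
        (by rw [detOrder_map τ χh.2]; exact hdet) hdet
    rw [← congrFun heq ((c : Γ) * (t : Γ))]
    show _ = τ _
    rw [hmap, (commute_of_mem hC c.2 t.2).mul_pow, hG' ⟨(c : Γ), hCG c.2⟩]
    congr 2
    rw [← Subgroup.coe_pow]
    congr 1
    rw [← pow_mod_natCard, ← pow_mod_natCard t k, show k % Nat.card S = j % Nat.card S from hk2]
  have hrat : ∀ γ t, ∃ z : ℤ, ξ γ t = (z : ℂ) := by
    intro γ t
    obtain ⟨q, hq⟩ := CfsgLib.CharGalois.exists_rat_char (hξc γ) t fun j hj =>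
      congrArg (fun φ => classInner φ (γ : C → ℂ)) (funext (hgal t j hj))
    obtain ⟨z, hz⟩ := exists_int_of_isIntegral_rat (q := q)
      (hq ▸ isIntegral_of_isCharacter (hξc γ) t)
    exact ⟨z, by rw [hq, ← hz]; norm_cast⟩
  choose z hz using hrat
  -- the norm on every coset
  have hsq : ∀ t : S, t ≠ 1 → ∑ γ, z γ t ^ 2 = 1 := by
    intro t ht
    have hCt : C = G ⊓ Subgroup.centralizer (Subgroup.zpowers (t : Γ) : Set Γ) := by
      rw [← hfpf t t.2 fun h => ht (Subtype.ext h), Subgroup.zpowers_eq_closure,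
        Subgroup.centralizer_closure]
    have hcopt : (Nat.card G).Coprime (Nat.card (Subgroup.zpowers (t : Γ))) :=
      hcop.coprime_dvd_right (Subgroup.card_dvd_of_le (Subgroup.zpowers_le.2 t.2))
    have hres : IsIrrCharacter G fun g : G => (χh : Γ → ℂ) g := by
      rw [funext hext]; exact χ.2
    have hnorm : classInner (slice C (χh : Γ → ℂ) (t : Γ)) (slice C (χh : Γ → ℂ) (t : Γ)) = 1 := by
      rw [inner_slice hcopt hCt (irr_isCharacter χh) (irr_isCharacter χh) rfl,
        pairAvg_self G (irr_isCharacter χh) hres]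
    have h := classInner_self_eq_sum_sq (isClassFunction_slice hC (irr_isCharacter χh) t.2)
      (m := fun γ => z γ t) (fun γ => hz γ t)
    rw [hnorm] at h
    exact_mod_cast h.symm
  have hzg : z β g₀ = ε₀ := by
    have h : slice C (χh : Γ → ℂ) (g₀ : Γ) = (ε₀ : ℂ) • (β : C → ℂ) :=
      funext fun c => hβ c g₀ hs₀
    have h1 := hz β g₀
    simp only [ξ] at h1
    rw [h, classInner_smul_left, classInner_irr_self β.2, mul_one] at h1
    exact_mod_cast h1.symm
  have hbound : ∀ t : S, t ≠ 1 → z β t ≠ 0 → (z β t = 1 ∨ z β t = -1) ∧ ∀ γ, γ ≠ β → z γ t = 0 := by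
    intro t ht h0
    have hle : z β t ^ 2 ≤ 1 :=
      hsq t ht ▸ Finset.single_le_sum (fun γ _ => sq_nonneg (z γ t)) (Finset.mem_univ β)
    have h1 : -1 ≤ z β t := by nlinarith
    have h2 : z β t ≤ 1 := by nlinarith
    have hε : z β t = 1 ∨ z β t = -1 := by omega
    refine ⟨hε, fun γ hγ => ?_⟩
    have h3 : z β t ^ 2 + z γ t ^ 2 ≤ ∑ δ, z δ t ^ 2 := by
      rw [← Finset.sum_pair (f := fun δ => z δ t ^ 2) hγ.symm]
      exact Finset.sum_le_sum_of_subset_of_nonneg (Finset.subset_univ _) fun δ _ _ => sq_nonneg _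
    rw [hsq t ht] at h3
    have h4 : z β t ^ 2 = 1 := by rcases hε with h' | h' <;> simp [h']
    exact pow_eq_zero_iff two_ne_zero |>.1 (le_antisymm (by omega) (sq_nonneg _))
  -- the same character on all cosets
  have hne0 : ∀ i : ℕ, g₀ ^ i ≠ 1 → z β (g₀ ^ i) ≠ 0 := by
    intro i
    induction i using Nat.strong_induction_on with
    | _ i ih =>
      intro hi
      rcases eq_or_ne i 1 with rfl | h1
      · rw [pow_one, hzg]; omega
      obtain ⟨p, hp, q, rfl⟩ := Nat.exists_prime_and_dvd h1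
      have hq0 : q ≠ 0 := fun h => hi (by rw [h, mul_zero, pow_zero])
      rw [mul_comm, pow_mul] at hi ⊢
      have hne : g₀ ^ q ≠ 1 := fun h => hi (by rw [h, one_pow])
      have hlt : q < p * q := by
        have := hp.two_le
        have : 0 < q := Nat.pos_of_ne_zero hq0
        nlinarith
      have hm := CfsgLib.CyclicSigns.modEq_pow_prime (hξc β) (g₀ ^ q) hp (hz β _) (hz β _)
      intro h0
      rw [h0] at hm
      have hdv : (p : ℤ) ∣ z β (g₀ ^ q) := Int.modEq_zero_iff_dvd.1 hm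
      have hp2 := hp.two_le
      rcases (hbound _ hne (ih q hlt hne)).1 with h | h <;> rw [h] at hdv
      · have := Int.le_of_dvd one_pos hdv; omega
      · have := Int.le_of_dvd one_pos (dvd_neg.1 hdv); omega
  have hmain : ∀ t : S, t ≠ 1 → (z β t = 1 ∨ z β t = -1) ∧ ∀ γ, γ ≠ β → z γ t = 0 := by
    intro t ht
    obtain ⟨i, rfl⟩ := (isOfFinOrder_of_finite g₀).mem_powers_iff_mem_zpowers.2 (hg₀ t)
    exact hbound _ ht (hne0 i ht)
  obtain ⟨m, hm, hmsum⟩ := CfsgLib.Clifford.exists_mult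
    (CfsgLib.Clifford.isCharacter_pullback (irr_isCharacter χ) (Subgroup.inclusion hCG))
  have hξ1 : ∀ γ, ξ γ 1 = (m γ : ℂ) := fun γ => by
    rw [← hm γ]
    show classInner _ (γ : C → ℂ) = classInner _ (γ : C → ℂ)
    congr 1
    funext c
    show (χh : Γ → ℂ) ((c : Γ) * ((1 : S) : Γ)) = (χ : G → ℂ) ⟨c, hCG c.2⟩
    rw [Subgroup.coe_one, mul_one]
    exact hext ⟨c, hCG c.2⟩
  obtain ⟨ε, hε, ⟨μ, hμ2, hμ⟩, hdiv⟩ := CfsgLib.CyclicSigns.exists_sign (hξc β) (fun t => z β t)
    (fun t _ => hz β t) (fun t ht => (hmain t ht).1) (m β : ℤ) (by rw [hξ1, Int.cast_natCast])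
  refine ⟨ε, hε, ⟨fun x => (μ x : ℂ), isCharacter_of_irr (isIrrCharacter_of_hom μ), by simp,
    fun x => by show (μ x : ℂ) * μ x = 1; rw [← Units.val_mul, hμ2, Units.val_one],
    fun c x hx => ?_⟩, ?_⟩
  · have h := congrFun (classFunction_eq_sum
      (isClassFunction_slice hC (irr_isCharacter χh) x.2)) c
    rw [Finset.sum_apply, Finset.sum_eq_single β (fun γ _ hγ => by
        simp only [Pi.smul_apply, smul_eq_mul]
        rw [show classInner (slice C (χh : Γ → ℂ) (x : Γ)) (γ : C → ℂ) = ξ γ x from rfl,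
          hz γ x, (hmain x hx).2 γ hγ, Int.cast_zero, zero_mul])
      (fun h => absurd (Finset.mem_univ β) h), Pi.smul_apply, smul_eq_mul,
      show classInner (slice C (χh : Γ → ℂ) (x : Γ)) (β : C → ℂ) = ξ β x from rfl, hμ x hx] at h
    show (χh : Γ → ℂ) ((c : Γ) * x) = _
    refine h.trans ?_
    ring
  -- the restriction
  set n := Nat.card S
  have hn0 : 0 < n := Nat.card_pos
  have hq : ∀ γ, ∃ q : ℕ, (m γ : ℤ) = (n : ℤ) * q + if γ = β then ε else 0 := by
    intro γ
    have hd : (n : ℤ) ∣ (m γ : ℤ) - if γ = β then ε else 0 := by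
      by_cases hγ : γ = β
      · rw [if_pos hγ, hγ]; exact hdiv
      · rw [if_neg hγ, sub_zero]
        let F : ℕ → ℤ := fun i => if i = 0 then (m γ : ℤ) else 0
        have hd := CfsgLib.CyclicSigns.dvd_sum_coset hcomm (hξc γ) 1 g₀ F (fun i hi => by
          simp only [F, one_mul]
          split_ifs with h0
          · rw [h0, pow_zero, hξ1, Int.cast_natCast]
          · have hne : g₀ ^ i ≠ 1 := fun e =>
              absurd (Nat.le_of_dvd (by omega) (orderOf_dvd_of_pow_eq_one e)) (by omega)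
            rw [hz, (hmain _ hne).2 γ hγ])
        rw [CfsgLib.CyclicSigns.sum_range_const_succ F (orderOf_pos g₀) 0
          (fun i _ h0 => if_neg h0), mul_zero, add_zero, hnS] at hd
        exact hd
    obtain ⟨q, hq⟩ := hd
    have hq0 : 0 ≤ q := by
      by_contra hneg
      have h1 : (n : ℤ) * q ≤ -(n : ℤ) := by
        have h2 : q ≤ -1 := by omega
        have h3 : (n : ℤ) * q ≤ (n : ℤ) * (-1) := mul_le_mul_of_nonneg_left h2 (Int.natCast_nonneg n)
        linarith
      have hm0 : (0 : ℤ) ≤ (m γ : ℤ) := Int.natCast_nonneg _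
      split_ifs at hq with hγ
      · subst hγ
        have hn1 : (n : ℤ) = 1 := by rcases hε with h | h <;> subst h <;> omega
        rcases subsingleton_or_nontrivial S with hss | hnt
        · have h4 := hzg
          have h5 := hz γ g₀
          rw [Subsingleton.elim g₀ 1] at h4 h5
          rw [hξ1] at h5
          have h6 : (m γ : ℤ) = z γ 1 := by exact_mod_cast h5
          rcases hε with h | h <;> subst h <;> omega
        · have : 1 < n := Finite.one_lt_card
          omega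
      · have : (0 : ℤ) < (n : ℤ) := by exact_mod_cast hn0
        omega
    refine ⟨q.toNat, ?_⟩
    rw [Int.toNat_of_nonneg hq0]
    linarith
  choose q hq using hq
  let ϑ : C → ℂ := ∑ γ, (q γ : ℂ) • (γ : C → ℂ)
  have hϑ : IsCharacter C ϑ :=
    isCharacter_sum _ fun γ _ => isCharacter_natCast_smul (irr_isCharacter γ) (q γ)
  have hrest : ∀ c : C, (χ : G → ℂ) ⟨c, hCG c.2⟩ = (n : ℂ) * ϑ c + (ε : ℂ) * (β : C → ℂ) c := by
    intro c
    have h := congrFun hmsum c
    simp only [Finset.sum_apply, Pi.smul_apply, smul_eq_mul] at h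
    refine h.trans ?_
    simp only [ϑ, Finset.sum_apply, Pi.smul_apply, smul_eq_mul, Finset.mul_sum]
    rw [← Finset.sum_ite_eq' Finset.univ β (fun γ => (ε : ℂ) * (γ : C → ℂ) c) |>.trans
      (if_pos (Finset.mem_univ β)), ← Finset.sum_add_distrib]
    refine Finset.sum_congr rfl fun γ _ => ?_
    have h2 : (m γ : ℂ) = (n : ℂ) * (q γ : ℂ) + if γ = β then (ε : ℂ) else 0 := by
      exact_mod_cast congrArg (fun a : ℤ => (a : ℂ)) (hq γ)
    rw [h2]
    split_ifs <;> ring
  refine ⟨⟨ϑ, hϑ, funext hrest⟩, ?_⟩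
  obtain ⟨e, he⟩ := exists_degree hϑ
  have h1 := hrest 1
  rw [he, show (⟨((1 : C) : Γ), hCG (1 : C).2⟩ : G) = 1 from rfl,
    CfsgLib.CharCorr.irr_one_eq_charDegree χ, CfsgLib.CharCorr.irr_one_eq_charDegree β] at h1
  refine ⟨e, ?_⟩
  have h2 : (charDegree (χ : G → ℂ) : ℤ) = (n : ℤ) * e + ε * (charDegree (β : C → ℂ) : ℤ) := by
    exact_mod_cast h1
  linarith

end Cfsg.Agent.S4451
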