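import Cfsg.Statements.S4452
import Cfsg.Agent.Lib.CharCorr.CoprimeDegreeCount

set_option autoImplicit false
open Cfsg

namespace Cfsg.Agent.S4452

/-- Let the finite group G be the product of a normal subgroup K and a solvable subgroup H of coprime orders, and let N = N_G(H). Then the number of irreducible characters of G of degree coprime to the order of H equals the number of irreducible characters of N of degree coprime to the order of H. (The two sets are in fact in a canonical bijection; only the equality of their sizes is stated here.) -/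
theorem result {G : Type*} [Group G] [Finite G] (K H : Subgroup G) [K.Normal] (hKH : K ⊔ H = ⊤) (hcop : (Nat.card K).Coprime (Nat.card H)) (hsolv : Group.IsSolvable H) : Nat.card {χ : Cfsg.IrrCharacter G // (Cfsg.charDegree (χ : G → ℂ)).Coprime (Nat.card H)} = Nat.card {η : Cfsg.IrrCharacter (Subgroup.normalizer (H : Set G)) // (Cfsg.charDegree (η : Subgroup.normalizer (H : Set G) → ℂ)).Coprime (Nat.card H)} := by
  classical
  have hdis : Disjoint K H := disjoint_iff.2 (Subgroup.inf_eq_bot_of_coprime hcop)
  have hc : Subgroup.IsComplement' K H := Subgroup.isComplement'_of_disjoint_and_mul_eq_univ hdis (by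
    rw [← Subgroup.normal_mul, hKH, Subgroup.coe_top])
  set N : Subgroup G := Subgroup.normalizer (H : Set G) with hN
  have hHN : H ≤ N := Subgroup.le_normalizer
  let K' : Subgroup N := K.subgroupOf N
  let H' : Subgroup N := H.subgroupOf N
  haveI : K'.Normal := ‹K.Normal›.subgroupOf N
  let eH : H' ≃* H := Subgroup.subgroupOfEquivOfLe hHN
  have hdis' : Disjoint K' H' := Subgroup.disjoint_def.2 fun {x} hx hy =>
    Subtype.ext (Subgroup.disjoint_def.1 hdis hx hy)
  have hc' : Subgroup.IsComplement' K' H' := Subgroup.isComplement'_of_disjoint_and_mul_eq_univ hdis' (by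
    refine Set.eq_univ_of_forall fun n => ?_
    obtain ⟨⟨a, h⟩, hah⟩ := hc.2 (n : G)
    have hah' : (a : G) * (h : G) = (n : G) := hah
    have ha : (a : G) ∈ N := by
      rw [eq_mul_inv_of_mul_eq hah']
      exact N.mul_mem n.2 (N.inv_mem (hHN h.2))
    exact ⟨⟨a, ha⟩, a.2, ⟨h, hHN h.2⟩, h.2, Subtype.ext hah'⟩)
  have hcardH : Nat.card H' = Nat.card H := Nat.card_congr eH.toEquiv
  have hcop' : (Nat.card K').Coprime (Nat.card H') := by
    rw [hcardH]
    exact hcop.coprime_dvd_left
      (Subgroup.card_dvd_of_injective (K'.subtype.comp (MonoidHom.id _) |> fun _ =>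
        ((N.subtype.comp K'.subtype).codRestrict K fun x => x.2))
        fun a b h => Subtype.ext (Subtype.ext (congrArg (fun z : K => (z : G)) h)))
  have h1 := CfsgLib.CoprimeDegree.card_coprime_degree K H hc hcop
  have h2 := CfsgLib.CoprimeDegree.card_coprime_degree K' H' hc' hcop'
  rw [hcardH] at h2
  rw [h1, h2]
  congr 1
  · -- the complement centralises `K'`
    have hcomm : ∀ (k : K') (h : H'), (h : N) * (k : N) * (h : N)⁻¹ = (k : N) := by
      intro k h
      have hH : ((k : N) : G)⁻¹ * ((h : N) : G) * ((k : N) : G) ∈ H :=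
        (Subgroup.mem_normalizer_iff''.1 (k : N).2 ((h : N) : G)).1 h.2
      have hz : ((h : N) : G)⁻¹ * (((k : N) : G)⁻¹ * ((h : N) : G) * ((k : N) : G)) = 1 := by
        refine Subgroup.disjoint_def.1 hdis ?_ (H.mul_mem (H.inv_mem h.2) hH)
        rw [← mul_assoc, ← mul_assoc]
        refine K.mul_mem ?_ k.2
        have := ‹K.Normal›.conj_mem _ (K.inv_mem k.2) ((h : N) : G)⁻¹
        simpa using this
      refine Subtype.ext ?_
      simp only [Subgroup.coe_mul, InvMemClass.coe_inv]
      rw [inv_mul_eq_one, eq_comm, mul_assoc, inv_mul_eq_iff_eq_mul] at hz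
      rw [mul_inv_eq_iff_eq_mul]
      exact hz
    rw [CfsgLib.CoprimeDegree.card_inv_eq_card_irr_fixed _ H K _ rfl hsolv hcop,
      Nat.card_congr (Equiv.subtypeUnivEquiv (p := fun θ : Cfsg.IrrCharacter K' =>
        CfsgLib.CharCorr.Inv (CfsgLib.CharCorr.subgroupAct K' H'
          fun h _ k hk => (‹K.Normal›.subgroupOf N).conj_mem k hk h) θ)
        fun θ => fun s g => congrArg (θ : K' → ℂ) (Subtype.ext (hcomm g s)))]
    let f : K' ≃* CfsgLib.CharCorr.fixedSub (CfsgLib.CharCorr.subgroupAct K H
        fun h _ k hk => ‹K.Normal›.conj_mem k hk h) :=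
      { toFun := fun x => ⟨⟨((x : N) : G), x.2⟩, fun s =>
          Subtype.ext (congrArg (fun z : N => (z : G)) (hcomm x ⟨⟨s, hHN s.2⟩, s.2⟩))⟩
        invFun := fun x => ⟨⟨((x : K) : G), by
          refine Subgroup.mem_normalizer_iff.2 fun h => ?_
          have hx : ∀ s : H, (s : G) * ((x : K) : G) * (s : G)⁻¹ = ((x : K) : G) :=
            fun s => congrArg Subtype.val (x.2 s)
          constructor
          · intro hh
            have := mul_inv_eq_iff_eq_mul.1 (hx ⟨h, hh⟩)
            rw [show ((x : K) : G) * h = h * ((x : K) : G) from this.symm, mul_inv_cancel_right]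
            exact hh
          · intro hh
            have := mul_inv_eq_iff_eq_mul.1 (hx ⟨_, hh⟩)
            simp only [mul_assoc, inv_mul_cancel, mul_one] at this
            have h3 : ((x : K) : G) * h = ((x : K) : G) * (((x : K) : G) * h * ((x : K) : G)⁻¹) := by
              simpa [mul_assoc] using this
            rw [mul_left_cancel h3]
            exact hh⟩, (x : K).2⟩
        left_inv := fun x => rfl
        right_inv := fun x => rfl
        map_mul' := fun x y => rfl }
    exact Nat.card_congr
      { toFun := fun χ => CfsgLib.CharCorr.twistIrr f χ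
        invFun := fun χ => CfsgLib.CharCorr.twistIrr f.symm χ
        left_inv := fun χ => Subtype.ext (funext fun g => congrArg (χ : _ → ℂ) (f.apply_symm_apply g))
        right_inv := fun χ => Subtype.ext (funext fun g => congrArg (χ : _ → ℂ) (f.symm_apply_apply g)) }
  · exact Nat.card_congr
      { toFun := fun g => g.comp eH.toMonoidHom
        invFun := fun g => g.comp eH.symm.toMonoidHom
        left_inv := fun g => MonoidHom.ext fun x => congrArg g (eH.apply_symm_apply x)
        right_inv := fun g => MonoidHom.ext fun x => congrArg g (eH.symm_apply_apply x) }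

end Cfsg.Agent.S4452
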