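import Cfsg.Statements.S4453
import Cfsg.Agent.Lib.IsaacsOdd.Main
import Cfsg.Agent.Lib.Coprime.Action

set_option autoImplicit false
open Cfsg

namespace Cfsg.Agent.S4453

/-- Inside a finite group Γ let S normalise the solvable subgroup G of odd order with the orders of G and S coprime, let C = G ⊓ C(S), and let L ≤ K be S-invariant normal subgroups of G with K/L abelian, G = KC and H = LC (so C ≤ H ≤ G). Then for each S-invariant irreducible character χ of G there is exactly one S-invariant irreducible character ψ of H whose multiplicity in the restriction of χ to H is odd, and χ ↦ ψ is a bijection from the S-invariant irreducible characters of G onto those of H (distinct χ give distinct ψ, and every S-invariant ψ arises). -/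
theorem result {Γ : Type*} [Group Γ] [Fintype Γ] (G S : Subgroup Γ) [Fintype G] (hnorm : ∀ s ∈ S, ∀ g ∈ G, s * g * s⁻¹ ∈ G) (hcop : (Nat.card G).Coprime (Nat.card S)) (hGsolv : Group.IsSolvable G) (hodd : Odd (Nat.card G)) (C : Subgroup Γ) [Fintype C] (hC : C = G ⊓ Subgroup.centralizer (S : Set Γ)) (hCG : C ≤ G) (K L H : Subgroup Γ) [Fintype H] (hLK : L ≤ K) (hKG : K ≤ G) (hKn : ∀ g ∈ G, ∀ k ∈ K, g * k * g⁻¹ ∈ K) (hLn : ∀ g ∈ G, ∀ l ∈ L, g * l * g⁻¹ ∈ L) (hKS : ∀ s ∈ S, ∀ k ∈ K, s * k * s⁻¹ ∈ K) (hLS : ∀ s ∈ S, ∀ l ∈ L, s * l * s⁻¹ ∈ L) (hab : ∀ a ∈ K, ∀ b ∈ K, a * b * a⁻¹ * b⁻¹ ∈ L) (hGKC : K ⊔ C = G) (hH : H = L ⊔ C) (hHG : H ≤ G) : (∀ χ : Cfsg.IrrCharacter G, (∀ s ∈ S, ∀ g g' : G, (g' : Γ) = s * g * s⁻¹ → (χ : G → ℂ) g' = (χ : G → ℂ) g) → ∃! ψ : Cfsg.IrrCharacter H, (∀ s ∈ S, ∀ g g' : H, (g' : Γ) = s * g * s⁻¹ → (ψ : H → ℂ) g' = (ψ : H → ℂ) g) ∧ ∃ m : ℕ, Cfsg.classInner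 (fun h : H => (χ : G → ℂ) ⟨h, hHG h.2⟩) (ψ : H → ℂ) = (m : ℂ) ∧ Odd m) ∧ (∀ χ χ' : Cfsg.IrrCharacter G, (∀ s ∈ S, ∀ g g' : G, (g' : Γ) = s * g * s⁻¹ → (χ : G → ℂ) g' = (χ : G → ℂ) g) → (∀ s ∈ S, ∀ g g' : G, (g' : Γ) = s * g * s⁻¹ → (χ' : G → ℂ) g' = (χ' : G → ℂ) g) → ∀ ψ : Cfsg.IrrCharacter H, (∀ s ∈ S, ∀ g g' : H, (g' : Γ) = s * g * s⁻¹ → (ψ : H → ℂ) g' = (ψ : H → ℂ) g) → ∀ m m' : ℕ, Cfsg.classInner (fun h : H => (χ : G → ℂ) ⟨h, hHG h.2⟩) (ψ : H → ℂ) = (m : ℂ) → Odd m → Cfsg.classInner (fun h : H => (χ' : G → ℂ) ⟨h, hHG h.2⟩) (ψ : H → ℂ) = (m' : ℂ) → Odd m' → χ = χ') ∧ (∀ ψ : Cfsg.IrrCharacter H, (∀ s ∈ S, ∀ g g' : H, (g' : Γ) = s * g * s⁻¹ → (ψ : H → ℂ) g' = (ψ : H → ℂ) g) → ∃ χ : Cfsg.IrrCharacter G, (∀ s ∈ S, ∀ g g' : G, (g' : Γ) = s * g * s⁻¹ → (χ : G → ℂ) g' = (χ : G → ℂ) g) ∧ ∃ m : ℕ, Cfsg.classInner (fun h : H => (χ : G → ℂ) ⟨h, hHG h.2⟩) (ψ : H → ℂ)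 = (m : ℂ) ∧ Odd m) := by
  classical
  haveI : Fintype S := Fintype.ofFinite _
  subst hC
  set C : Subgroup Γ := G ⊓ Subgroup.centralizer (S : Set Γ) with hCdef
  -- enlarge `L`
  set L' : Subgroup Γ := L ⊔ (K ⊓ C) with hL'
  have hL'K : L' ≤ K := sup_le hLK inf_le_left
  have hL'G : L' ≤ G := hL'K.trans hKG
  have hcomm : ∀ a ∈ K, ∀ b ∈ K, a * b * a⁻¹ * b⁻¹ ∈ L' := fun a ha b hb =>
    (le_sup_left : L ≤ L') (hab a ha b hb)
  have hCnK : C ≤ Subgroup.normalizer (K : Set Γ) := fun c hc =>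
    CfsgLib.Coprime.mem_normalizer_of_forall_conj fun k hk => hKn c (hCG hc) k hk
  -- a closure criterion for normality
  have hconj : ∀ g : Γ, (∀ l ∈ L, g * l * g⁻¹ ∈ L') → (∀ c ∈ K ⊓ C, g * c * g⁻¹ ∈ L') →
      ∀ x ∈ L', g * x * g⁻¹ ∈ L' := by
    intro g h1 h2 x hx
    have hle : L' ≤ L'.comap (MulAut.conj g).toMonoidHom := sup_le h1 h2
    exact hle hx
  have hL'Knorm : ∀ k ∈ K, ∀ x ∈ L', k * x * k⁻¹ ∈ L' := fun k hk x hx => by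
    have h := L'.mul_mem (hcomm k hk x (hL'K hx)) hx
    rwa [inv_mul_cancel_right] at h
  have hL'C : ∀ c ∈ C, ∀ x ∈ L', c * x * c⁻¹ ∈ L' := fun c hc => hconj c
    (fun l hl => (le_sup_left : L ≤ L') (hLn c (hCG hc) l hl))
    (fun d hd => (le_sup_right : K ⊓ C ≤ L')
      ⟨hKn c (hCG hc) d hd.1, C.mul_mem (C.mul_mem hc hd.2) (C.inv_mem hc)⟩)
  have hCnL' : C ≤ Subgroup.normalizer (L' : Set Γ) := fun c hc =>
    CfsgLib.Coprime.mem_normalizer_of_forall_conj fun x hx => hL'C c hc x hx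
  have htop : ∀ g ∈ G, ∃ k ∈ K, ∃ c ∈ C, g = k * c := by
    intro g hg
    rw [← hGKC, sup_comm] at hg
    obtain ⟨c, hc, k, hk, rfl⟩ := CfsgLib.Coprime.exists_mul_of_mem_sup hCnK hg
    exact ⟨c * k * c⁻¹, hKn c (hCG hc) k hk, c, hc, by group⟩
  have hL'n : ∀ g ∈ G, ∀ x ∈ L', g * x * g⁻¹ ∈ L' := by
    intro g hg x hx
    obtain ⟨k, hk, c, hc, rfl⟩ := htop g hg
    have h := hL'Knorm k hk _ (hL'C c hc x hx)
    rwa [show k * (c * x * c⁻¹) * k⁻¹ = k * c * x * (k * c)⁻¹ by group] at h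
  have hfixC : ∀ c ∈ C, ∀ s ∈ S, s * c * s⁻¹ = c := fun c hc s hs => by
    rw [Subgroup.mem_centralizer_iff.1 hc.2 s hs, mul_inv_cancel_right]
  have hL'S : ∀ s ∈ S, ∀ x ∈ L', s * x * s⁻¹ ∈ L' := fun s hs => hconj s
    (fun l hl => (le_sup_left : L ≤ L') (hLS s hs l hl))
    (fun d hd => by rw [hfixC d hd.2 s hs]; exact (le_sup_right : K ⊓ C ≤ L') hd)
  have hHeq : H = L' ⊔ C := by
    rw [hH, hL', sup_assoc, sup_eq_right.2 (inf_le_right : K ⊓ C ≤ C)]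
  have hmemH : ∀ x, x ∈ H ↔ ∃ l ∈ L', ∃ c ∈ C, x = l * c := by
    intro x
    rw [hHeq]
    refine ⟨fun hx => ?_, ?_⟩
    · rw [sup_comm] at hx
      obtain ⟨c, hc, l, hl, rfl⟩ := CfsgLib.Coprime.exists_mul_of_mem_sup hCnL' hx
      exact ⟨c * l * c⁻¹, hL'C c hc l hl, c, hc, by group⟩
    · rintro ⟨l, hl, c, hc, rfl⟩
      exact mul_mem (Subgroup.mem_sup_left hl) (Subgroup.mem_sup_right hc)
  have hKsolv : Group.IsSolvable K := by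
    haveI := hGsolv
    exact solvable_of_solvable_injective (f := Subgroup.inclusion hKG) (Subgroup.inclusion_injective hKG)
  have hSnK : S ≤ Subgroup.normalizer (K : Set Γ) := fun s hs =>
    CfsgLib.Coprime.mem_normalizer_of_forall_conj fun k hk => hKS s hs k hk
  have hSnL' : S ≤ Subgroup.normalizer (L' : Set Γ) := fun s hs =>
    CfsgLib.Coprime.mem_normalizer_of_forall_conj fun k hk => hL'S s hs k hk
  have hfix : ∀ k ∈ K, (∀ s ∈ S, k⁻¹ * (s * k * s⁻¹) ∈ L') → k ∈ L' := by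
    intro k hk hk2
    obtain ⟨c, hc, hkc⟩ := CfsgLib.Coprime.exists_centralizing_rep S K hSnK
      ((hcop.coprime_dvd_left (Subgroup.card_dvd_of_le hKG)).symm) (Or.inr hKsolv) L' hL'K hSnL'
      hk hk2
    have hcL : c ∈ L' := (le_sup_right : K ⊓ C ≤ L') ⟨hc.1, hKG hc.1, hc.2⟩
    have h := L'.mul_mem hcL (L'.inv_mem hkc)
    rwa [mul_inv_rev, inv_inv, mul_inv_cancel_left] at h
  let E : CfsgLib.IsaacsOdd.Config G S :=
    { act := CfsgLib.CharCorr.subgroupAct G S hnorm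
      K := K.subgroupOf G
      N := L'.subgroupOf G
      C := C.subgroupOf G
      H := H.subgroupOf G
      normalK := ⟨fun x hx g => hKn g g.2 x hx⟩
      normalN := ⟨fun x hx g => hL'n g g.2 x hx⟩
      le := fun x hx => hL'K hx
      stableK := fun s x hx => hKS s s.2 x hx
      stableN := fun s x hx => hL'S s s.2 x hx
      fixC := fun c hc s => Subtype.ext (hfixC c hc s s.2)
      top := fun g => by
        obtain ⟨k, hk, c, hc, he⟩ := htop g g.2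
        exact ⟨⟨k, hKG hk⟩, hk, ⟨c, hCG hc⟩, hc, Subtype.ext he⟩
      memH := fun x => by
        refine ⟨fun hx => ?_, ?_⟩
        · obtain ⟨l, hl, c, hc, he⟩ := (hmemH x).1 hx
          exact ⟨⟨l, hL'G hl⟩, hl, ⟨c, hCG hc⟩, hc, Subtype.ext he⟩
        · rintro ⟨l, hl, c, hc, rfl⟩
          exact (hmemH _).2 ⟨l, hl, c, hc, rfl⟩
      comm := fun a ha b hb => hcomm a ha b hb
      fix := fun k hk h => hfix k hk fun s hs => h ⟨s, hs⟩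
      odd := hodd
      cop := hcop
      solv := hGsolv }
  -- transport between the two copies of `H`
  let e : H ≃* E.H := (Subgroup.subgroupOfEquivOfLe hHG).symm
  have hinv : ∀ χ : IrrCharacter G, CfsgLib.CharCorr.Inv E.act χ ↔
      ∀ s ∈ S, ∀ g g' : G, (g' : Γ) = s * g * s⁻¹ → (χ : G → ℂ) g' = (χ : G → ℂ) g :=
    CfsgLib.CharCorr.inv_subgroupAct_iff G S hnorm
  have hinvH : ∀ ψ : IrrCharacter E.H, CfsgLib.CharCorr.Inv E.actH ψ ↔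
      ∀ s ∈ S, ∀ g g' : H, (g' : Γ) = s * g * s⁻¹ →
        (CfsgLib.CharCorr.twistIrr e ψ : H → ℂ) g' = (CfsgLib.CharCorr.twistIrr e ψ : H → ℂ) g := by
    intro ψ
    refine ⟨fun h s hs g g' hg => ?_, fun h s x => ?_⟩
    · refine (congrArg (ψ : E.H → ℂ) ?_).trans (h ⟨s, hs⟩ (e g))
      exact Subtype.ext (Subtype.ext hg)
    · have h2 := h s s.2 (e.symm x) (e.symm (E.actH s x)) rfl
      simp only [CfsgLib.CharCorr.twistIrr_apply, MulEquiv.apply_symm_apply] at h2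
      exact h2
  have hmult : ∀ (χ : IrrCharacter G) (ψ : IrrCharacter E.H),
      @classInner _ _ (CfsgLib.IsaacsOdd.Config.instFintypeH E) (fun h : E.H => (χ : G → ℂ) h)
          (ψ : E.H → ℂ) =
        classInner (fun h : H => (χ : G → ℂ) ⟨h, hHG h.2⟩)
          (CfsgLib.CharCorr.twistIrr e ψ : H → ℂ) :=
    fun χ ψ => (@CfsgLib.CharCorr.classInner_comp_equiv _ _ _ _
      (CfsgLib.IsaacsOdd.Config.instFintypeH E) _ e _ _).symm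
  have hsurj : ∀ ψ : IrrCharacter H, ∃ ψ', CfsgLib.CharCorr.twistIrr e ψ' = ψ := fun ψ =>
    ⟨CfsgLib.CharCorr.twistIrr e.symm ψ, Subtype.ext (funext fun x => by simp)⟩
  refine ⟨fun χ hχ => ?_, fun χ χ' hχ hχ' ψ hψ m m' hm ho hm' ho' => ?_, fun ψ hψ => ?_⟩
  · obtain ⟨ψ, ⟨hψ, m, hm, ho⟩, huniq⟩ := E.existsUnique_odd ((hinv χ).2 hχ)
    refine ⟨CfsgLib.CharCorr.twistIrr e ψ, ⟨(hinvH ψ).1 hψ, m, by rw [← hmult, hm], ho⟩, ?_⟩
    rintro φ ⟨hφ, m', hm', ho'⟩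
    obtain ⟨φ, rfl⟩ := hsurj φ
    rw [huniq φ ⟨(hinvH φ).2 hφ, m', by rw [hmult, hm'], ho'⟩]
  · obtain ⟨ψ, rfl⟩ := hsurj ψ
    exact E.eq_of_odd ((hinv χ).2 hχ) ((hinv χ').2 hχ') ((hinvH ψ).2 hψ)
      (by rw [hmult, hm]) ho (by rw [hmult, hm']) ho'
  · obtain ⟨ψ, rfl⟩ := hsurj ψ
    obtain ⟨χ, hχ, m, hm, ho⟩ := E.exists_inv_odd ((hinvH ψ).2 hψ)
    exact ⟨χ, (hinv χ).1 hχ, m, by rw [← hmult, hm], ho⟩

end Cfsg.Agent.S4453
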