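import Cfsg.Statements.S4454
import Cfsg.Agent.Lib.Characters.Extension
import Cfsg.Agent.Lib.Characters.NormalAvg
import Cfsg.Agent.Lib.Characters.Monomial
import Cfsg.Agent.Lib.CharCorr.QuotientTools

set_option autoImplicit false
open Cfsg

set_option linter.style.haveILetI false
open CfsgLib.Characters
open scoped ComplexConjugate

namespace Cfsg.Agent.S4454

/-- Naturals whose variance is minimal are constant up to one exception. -/
theorem near_constant {ι : Type*} (s : Finset ι) (a : ι → ℕ) {n : ℕ} (hs : s.card = n)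
    (hn : 1 < n) (h : n * ∑ i ∈ s, a i ^ 2 + 1 = (∑ i ∈ s, a i) ^ 2 + n) :
    (n : ℤ) ∣ (∑ i ∈ s, (a i : ℤ)) - 1 ∨ (n : ℤ) ∣ (∑ i ∈ s, (a i : ℤ)) + 1 := by
  classical
  obtain ⟨i₀, hi₀, hmin⟩ := s.exists_min_image a (Finset.card_pos.1 (by omega))
  let b : ι → ℤ := fun i => (a i : ℤ) - a i₀
  have hb0 : ∀ i ∈ s, 0 ≤ b i := fun i hi => sub_nonneg.2 (Int.ofNat_le.2 (hmin i hi))
  have hB : ∑ i ∈ s, b i = ∑ i ∈ s, (a i : ℤ) - n * a i₀ := by
    rw [Finset.sum_sub_distrib, Finset.sum_const, hs, nsmul_eq_mul]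
  have hB2 : ∑ i ∈ s, b i ^ 2 =
      ∑ i ∈ s, (a i : ℤ) ^ 2 - 2 * a i₀ * ∑ i ∈ s, (a i : ℤ) + n * (a i₀ : ℤ) ^ 2 := by
    rw [Finset.sum_congr rfl fun i _ => show b i ^ 2 =
      ((a i : ℤ) ^ 2 - 2 * a i₀ * a i) + (a i₀ : ℤ) ^ 2 by ring, Finset.sum_add_distrib,
      Finset.sum_sub_distrib, ← Finset.mul_sum, Finset.sum_const, hs, nsmul_eq_mul]
  have h' : (n : ℤ) * ∑ i ∈ s, (a i : ℤ) ^ 2 + 1 = (∑ i ∈ s, (a i : ℤ)) ^ 2 + n := by
    exact_mod_cast h
  have key : (n : ℤ) * ∑ i ∈ s, b i ^ 2 - (∑ i ∈ s, b i) ^ 2 = n - 1 := by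
    rw [hB, hB2]
    linear_combination h'
  set S' := s.filter fun i => b i ≠ 0 with hS'
  have hsum' : ∀ f : ℤ → ℤ, f 0 = 0 → ∑ i ∈ s, f (b i) = ∑ i ∈ S', f (b i) := fun f hf => by
    rw [hS', Finset.sum_filter]
    exact Finset.sum_congr rfl fun i _ => by split_ifs with h0 <;> simp_all
  rw [hsum' (fun x => x) rfl, hsum' (fun x => x ^ 2) (by simp)] at key
  have hbS : ∀ i ∈ S', 1 ≤ b i := fun i hi => by
    have := hb0 i (Finset.mem_filter.1 hi).1
    have := (Finset.mem_filter.1 hi).2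
    omega
  have hklt : S'.card < n := by
    rw [← hs]
    refine Finset.card_lt_card (Finset.filter_ssubset.2 ⟨i₀, hi₀, by simp [b]⟩)
  have hCS : (∑ i ∈ S', b i) ^ 2 ≤ (S'.card : ℤ) * ∑ i ∈ S', b i ^ 2 := by
    have := Finset.sum_mul_sq_le_sq_mul_sq S' (fun _ => (1 : ℤ)) b
    simpa using this
  have hQ : (S'.card : ℤ) ≤ ∑ i ∈ S', b i ^ 2 := by
    calc (S'.card : ℤ) = ∑ _i ∈ S', (1 : ℤ) := by simp
      _ ≤ _ := Finset.sum_le_sum fun i hi => one_le_pow₀ (hbS i hi)
  have hsumB : ∑ i ∈ s, (a i : ℤ) = n * a i₀ + ∑ i ∈ S', b i := by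
    rw [← hsum' (fun x => x) rfl, hB]; ring
  set k := (S'.card : ℤ) with hk
  set Q := ∑ i ∈ S', b i ^ 2
  set B := ∑ i ∈ S', b i with hBdef
  have hk0 : k ≠ 0 := by
    intro h0
    rw [hk, Nat.cast_eq_zero] at h0
    have : S' = ∅ := Finset.card_eq_zero.1 h0
    simp [B, Q, this] at key
    omega
  have hkpos : 1 ≤ k := by omega
  have hkn : k ≤ (n : ℤ) - 1 := by omega
  have hcases : k = 1 ∨ k = (n : ℤ) - 1 := by
    by_contra hc
    push Not at hc
    have h1 : 1 ≤ k - 1 := by omega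
    have h2 : 1 ≤ (n : ℤ) - 1 - k := by omega
    have h3 : 0 < (k - 1) * ((n : ℤ) - 1 - k) := mul_pos (by omega) (by omega)
    nlinarith [mul_le_mul_of_nonneg_left hQ (show (0 : ℤ) ≤ (n : ℤ) - k by omega)]
  rcases hcases with h1 | h1
  · rw [hk, Nat.cast_eq_one] at h1
    obtain ⟨i, hi⟩ := Finset.card_eq_one.1 h1
    have hB1 : B = b i := by rw [hBdef, hi, Finset.sum_singleton]
    have hQ1 : Q = b i ^ 2 := by simp only [Q, hi, Finset.sum_singleton]
    have hb1 : b i = 1 := by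
      have h4 : ((n : ℤ) - 1) * (b i ^ 2 - 1) = 0 := by rw [hQ1, hB1] at key; linear_combination key
      have h5 := (mul_eq_zero.1 h4).resolve_left (by omega)
      have h6 := hbS i (by rw [hi]; exact Finset.mem_singleton_self i)
      nlinarith
    left
    rw [hsumB, hB1, hb1]
    exact ⟨a i₀, by ring⟩
  · have hQk : Q ≤ k := by nlinarith
    have hall : ∀ i ∈ S', b i = 1 := by
      intro i hi
      have h4 : ∑ i ∈ S', (b i ^ 2 - 1) = 0 := by
        rw [Finset.sum_sub_distrib]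
        simp only [Finset.sum_const, nsmul_eq_mul, mul_one]
        omega
      have h5 := (Finset.sum_eq_zero_iff_of_nonneg fun i hi =>
        sub_nonneg.2 (one_le_pow₀ (hbS i hi))).1 h4 i hi
      have h6 := hbS i hi
      nlinarith
    right
    rw [hsumB, hBdef, Finset.sum_congr rfl hall, Finset.sum_const, nsmul_eq_mul, mul_one, ← hk, h1]
    exact ⟨a i₀ + 1, by ring⟩

set_option maxHeartbeats 2000000 in
/-- Let N ≤ G be normal subgroups of the finite group Γ with Γ/G cyclic and Γ/N a Frobenius group with kernel G/N: G ≠ Γ, N ≠ G, and no element of Γ outside G fixes a non-identity coset of N in G under conjugation. Let ϑ be an irreducible character of N invariant under conjugation by Γ and suppose ϑ is fully ramified in G: the character of G induced from ϑ equals e·χ for an irreducible character χ of G and a natural number e. Then the index of G in Γ divides e − 1 or e + 1. -/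
theorem result {Γ : Type*} [Group Γ] [Fintype Γ] (G N : Subgroup Γ) [hG : G.Normal] [hN : N.Normal] [Fintype G] [Fintype N] (hNG : N ≤ G) (hGlt : G ≠ ⊤) (hNlt : N ≠ G) (hcyc : IsCyclic (Γ ⧸ G)) (hfrob : ∀ x : Γ, x ∉ G → ∀ g : Γ, g ∈ G → x * g * x⁻¹ * g⁻¹ ∈ N → g ∈ N) (θ : Cfsg.IrrCharacter N) (hinv : ∀ (x : Γ) (n : N), (θ : N → ℂ) ⟨x * n * x⁻¹, hN.conj_mem n n.2 x⟩ = (θ : N → ℂ) n) (χ : Cfsg.IrrCharacter G) (e : ℕ) (hram : Cfsg.indFun (N.subgroupOf G) (fun n : N.subgroupOf G => (θ : N → ℂ) ⟨(n : G), n.2⟩) = fun g => (e : ℂ) * (χ : G → ℂ) g) : (G.index : ℤ) ∣ (e : ℤ) - 1 ∨ (G.index : ℤ) ∣ (e : ℤ) + 1 := by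
  classical
  obtain ⟨x, hx⟩ := IsCyclic.exists_generator (α := Γ ⧸ G)
  obtain ⟨x, rfl⟩ := QuotientGroup.mk_surjective x
  set n := G.index with hn
  have hn1 : 1 < n := Subgroup.one_lt_index_of_ne_top hGlt
  have hxord : orderOf (x : Γ ⧸ G) = n := by
    rw [hn, Subgroup.index_eq_card]
    exact orderOf_eq_card_of_forall_mem_zpowers hx
  have hxG : x ∉ G := fun h => by
    rw [(QuotientGroup.eq_one_iff x).2 h, orderOf_one] at hxord; omega
  let K : Subgroup Γ := Subgroup.zpowers x ⊔ N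
  have hNK : N ≤ K := le_sup_right
  have hKG : ∀ z ∈ K, z ∈ G → z ∈ N := by
    intro z hz hzG
    obtain ⟨a, ⟨j, rfl⟩, m, hm, rfl⟩ := Subgroup.mem_sup_of_normal_right.1 hz
    refine N.mul_mem (hfrob x hxG _ ?_ ?_) hm
    · simpa using G.mul_mem hzG (G.inv_mem (hNG hm))
    · have hc : x * x ^ j * x⁻¹ * (x ^ j)⁻¹ = 1 := by group
      rw [hc]; exact N.one_mem
  have hKtop : ∀ y : Γ, ∃ z ∈ K, z⁻¹ * y ∈ G := fun y => by
    obtain ⟨j, hj⟩ := hx (y : Γ ⧸ G)
    exact ⟨x ^ j, Subgroup.mem_sup_left ⟨j, rfl⟩, QuotientGroup.eq.1 hj⟩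
  letI : Fintype K := Fintype.ofFinite K
  haveI : (N.subgroupOf G).Normal := hN.subgroupOf G
  -- the character of `G`
  let eN : N.subgroupOf G ≃* N := Subgroup.subgroupOfEquivOfLe hNG
  letI : Fintype (N.subgroupOf G) := Fintype.ofFinite _
  have hθc := irr_isCharacter θ
  obtain ⟨dθ, hdθ, hθ1⟩ := irr_exists_degree θ.2
  have hindn : ∀ m : N, ∀ h : (m : Γ) ∈ G,
      (e : ℂ) * (χ : G → ℂ) ⟨m, h⟩ = (N.relIndex G : ℂ) * (θ : N → ℂ) m := by
    intro m h
    have h0 := congrFun hram ⟨m, h⟩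
    rw [← h0, CfsgLib.Induction.indFun_apply]
    rw [Finset.sum_congr rfl fun g _ => show Cfsg.extendByZero (N.subgroupOf G) _
        (g⁻¹ * (⟨m, h⟩ : G) * g) = (θ : N → ℂ) m from ?_, Finset.sum_const, Finset.card_univ,
      nsmul_eq_mul, ← Nat.card_eq_fintype_card, ← (N.subgroupOf G).card_mul_index, Nat.cast_mul,
      show N.relIndex G = (N.subgroupOf G).index from rfl]
    · have : (Nat.card (N.subgroupOf G) : ℂ) ≠ 0 := by simp
      field_simp
    · rw [CfsgLib.Induction.extendByZero_mem _ _ (by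
        show ((g⁻¹ * (⟨m, h⟩ : G) * g : G) : Γ) ∈ N
        simpa using hN.conj_mem' (m : Γ) m.2 (g : Γ))]
      refine Eq.trans (congrArg (θ : N → ℂ) (Subtype.ext ?_)) (hinv (g : Γ)⁻¹ m)
      simp
  have he0 : e ≠ 0 := by
    intro h
    have h1 := hindn 1 (by simp)
    rw [h, Nat.cast_zero, zero_mul, hθ1] at h1
    have : N.relIndex G ≠ 0 := Subgroup.index_ne_zero_of_finite
    simp [this, hdθ.ne'] at h1
  have hee : (N.relIndex G : ℂ) = (e : ℂ) * e := by
    have h1 := congrArg (fun f => Cfsg.classInner f (χ : G → ℂ)) hram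
    rw [CfsgLib.Induction.classInner_indFun _ _ (irr_isClassFunction χ),
      show (fun g : G => (e : ℂ) * (χ : G → ℂ) g) = (e : ℂ) • (χ : G → ℂ) from rfl,
      classInner_smul_left, classInner_irr_self χ.2, mul_one,
      show (fun y : N.subgroupOf G => (χ : G → ℂ) y) = ((N.relIndex G : ℂ) / e) •
        (fun y : N.subgroupOf G => (θ : N → ℂ) ⟨((y : G) : Γ), y.2⟩) from funext fun y => by
          have h2 := hindn ⟨((y : G) : Γ), y.2⟩ (y : G).2
          have : (e : ℂ) ≠ 0 := Nat.cast_ne_zero.2 he0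
          simp only [Pi.smul_apply, smul_eq_mul]
          field_simp
          simpa [mul_comm] using h2,
      classInner_smul_right,
      show Cfsg.classInner (fun y : N.subgroupOf G => (θ : N → ℂ) ⟨((y : G) : Γ), y.2⟩)
          (fun y : N.subgroupOf G => (θ : N → ℂ) ⟨((y : G) : Γ), y.2⟩) = 1 from
        (CfsgLib.CharCorr.classInner_comp_equiv eN (θ : N → ℂ) (θ : N → ℂ)).trans
          (classInner_irr_self θ.2), mul_one, map_div₀, map_natCast, map_natCast,
      div_eq_iff (Nat.cast_ne_zero.2 he0)] at h1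
    exact h1
  have hχN : ∀ m : N, ∀ h : (m : Γ) ∈ G, (χ : G → ℂ) ⟨m, h⟩ = (e : ℂ) * (θ : N → ℂ) m := by
    intro m h
    have h1 := hindn m h
    rw [hee, mul_assoc] at h1
    exact mul_left_cancel₀ (Nat.cast_ne_zero.2 he0) h1
  have hχinv : ∀ (y : Γ) (g : G),
      (χ : G → ℂ) ⟨y * g * y⁻¹, hG.conj_mem g g.2 y⟩ = (χ : G → ℂ) g := by
    intro y g
    refine mul_left_cancel₀ (Nat.cast_ne_zero.2 he0) ?_
    rw [← congrFun hram, ← congrFun hram, CfsgLib.Induction.indFun_apply,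
      CfsgLib.Induction.indFun_apply]
    congr 1
    refine Fintype.sum_equiv (MulAut.conjNormal y⁻¹).toEquiv _ _ fun a => ?_
    have hc : ((a⁻¹ * (⟨y * g * y⁻¹, hG.conj_mem g g.2 y⟩ : G) * a : G) : Γ) =
        y * (((MulAut.conjNormal y⁻¹ a)⁻¹ * g * MulAut.conjNormal y⁻¹ a : G) : Γ) * y⁻¹ := by
      simp; group
    show Cfsg.extendByZero _ _ _ = Cfsg.extendByZero _ _ ((MulAut.conjNormal y⁻¹ a)⁻¹ * g *
      MulAut.conjNormal y⁻¹ a)
    set b' : G := (MulAut.conjNormal y⁻¹ a)⁻¹ * g * MulAut.conjNormal y⁻¹ a with hb'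
    set a' : G := a⁻¹ * (⟨y * g * y⁻¹, hG.conj_mem g g.2 y⟩ : G) * a with ha'
    by_cases hm : (b' : Γ) ∈ N
    · have hm' : (a' : Γ) ∈ N := hc ▸ hN.conj_mem _ hm y
      rw [CfsgLib.Induction.extendByZero_mem _ _ (Subgroup.mem_subgroupOf.2 hm),
        CfsgLib.Induction.extendByZero_mem _ _ (Subgroup.mem_subgroupOf.2 hm')]
      exact (congrArg (θ : N → ℂ) (Subtype.ext hc)).trans (hinv y ⟨_, hm⟩)
    · have hm' : (a' : Γ) ∉ N := fun h => hm (by
        rw [hc] at h
        simpa [mul_assoc] using hN.conj_mem' _ h y)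
      rw [CfsgLib.Induction.extendByZero_notMem _ _ (fun h => hm (Subgroup.mem_subgroupOf.1 h)),
        CfsgLib.Induction.extendByZero_notMem _ _ (fun h => hm' (Subgroup.mem_subgroupOf.1 h))]
  haveI := hcyc
  obtain ⟨χh, hχh, hres⟩ := CfsgLib.CharExtension.extends_of_isCyclic G χ.2 hχinv
  -- the values on `K`
  let η : K → ℂ := fun z => χh z
  have hη : Cfsg.IsCharacter K η :=
    CfsgLib.Clifford.isCharacter_subtype (isCharacter_of_irr hχh) K
  let NK : Subgroup K := N.subgroupOf K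
  haveI hNKn : NK.Normal := hN.subgroupOf K
  letI : Fintype NK := Fintype.ofFinite _
  let eK : NK ≃* N := Subgroup.subgroupOfEquivOfLe hNK
  have hNKidx : NK.index = n := by
    have hbij : Function.Bijective (QuotientGroup.map NK G K.subtype fun z hz => hNG hz) := by
      refine ⟨(injective_iff_map_eq_one _).2 fun y => QuotientGroup.induction_on y fun z hz =>
        (QuotientGroup.eq_one_iff z).2 (hKG z z.2 ((QuotientGroup.eq_one_iff (z : Γ)).1 hz)),
        fun y => QuotientGroup.induction_on y fun y => ?_⟩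
      obtain ⟨z, hz, hzy⟩ := hKtop y
      exact ⟨((⟨z, hz⟩ : K) : K ⧸ NK), QuotientGroup.eq.2 hzy⟩
    rw [hn, Subgroup.index_eq_card, Subgroup.index_eq_card]
    exact Nat.card_congr (Equiv.ofBijective _ hbij)
  have hNKcard : Nat.card NK = Nat.card N := Nat.card_congr eK.toEquiv
  have hKcard : Nat.card K = Nat.card N * n := by rw [← NK.card_mul_index, hNKcard, hNKidx]
  -- the sum of squares outside `N`
  have hout : (N.relIndex G : ℂ) * ∑ z : {z : K // (z : Γ) ∉ N}, η z.1 * conj (η z.1) =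
      (Nat.card G : ℂ) * n - Nat.card G := by
    haveI : Fintype (G ⧸ N.subgroupOf G) := Fintype.ofFinite _
    let r : G ⧸ N.subgroupOf G → G := Quotient.out
    let f : (G ⧸ N.subgroupOf G) × {z : K // (z : Γ) ∉ N} → {y : Γ // y ∉ G} := fun p =>
      ⟨(r p.1 : Γ) * (p.2.1 : Γ) * (r p.1 : Γ)⁻¹, fun h => p.2.2 (hKG _ p.2.1.2 (by
        simpa [mul_assoc] using hG.conj_mem' _ h (r p.1 : Γ)))⟩
    have hinj : Function.Injective f := by
      rintro ⟨q, z⟩ ⟨q', z'⟩ h
      have h' : (r q : Γ) * (z.1 : Γ) * (r q : Γ)⁻¹ = (r q' : Γ) * (z'.1 : Γ) * (r q' : Γ)⁻¹ :=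
        congrArg Subtype.val h
      set a : Γ := (r q' : Γ)⁻¹ * (r q : Γ) with ha
      have haG : a ∈ G := G.mul_mem (G.inv_mem (r q').2) (r q).2
      have hz' : (z'.1 : Γ) = a * (z.1 : Γ) * a⁻¹ := by
        rw [show a * (z.1 : Γ) * a⁻¹ =
          (r q' : Γ)⁻¹ * ((r q : Γ) * (z.1 : Γ) * (r q : Γ)⁻¹) * (r q' : Γ) by rw [ha]; group, h']
        group
      have hzG : (z.1 : Γ) ∉ G := fun h2 => z.2 (hKG _ z.1.2 h2)
      have hd : (z'.1 : Γ) * (z.1 : Γ)⁻¹ ∈ N := by
        refine hKG _ (K.mul_mem z'.1.2 (K.inv_mem z.1.2)) ?_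
        rw [hz', show a * (z.1 : Γ) * a⁻¹ * (z.1 : Γ)⁻¹ = a * ((z.1 : Γ) * a⁻¹ * (z.1 : Γ)⁻¹) by
          group]
        exact G.mul_mem haG (hG.conj_mem _ (G.inv_mem haG) _)
      have haN : a ∈ N := hfrob _ hzG a haG (by
        rw [show (z.1 : Γ) * a * (z.1 : Γ)⁻¹ * a⁻¹ =
          (z.1 : Γ) * (a * (z.1 : Γ)⁻¹ * a⁻¹) by group,
          show a * (z.1 : Γ)⁻¹ * a⁻¹ = (z'.1 : Γ)⁻¹ by rw [hz']; group]
        have := N.inv_mem hd
        rwa [mul_inv_rev, inv_inv] at this)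
      have hq : q' = q := by
        rw [← QuotientGroup.out_eq' q, ← QuotientGroup.out_eq' q']
        exact QuotientGroup.eq.2 haN
      subst hq
      rw [show a = 1 by rw [ha]; group, one_mul, inv_one, mul_one] at hz'
      exact Prod.ext rfl (Subtype.ext (Subtype.ext hz'.symm))
    have hc1 : Nat.card {z : K // (z : Γ) ∉ N} = Nat.card N * n - Nat.card N := by
      rw [Nat.card_eq_fintype_card, Fintype.card_subtype_compl, ← Nat.card_eq_fintype_card,
        ← Nat.card_eq_fintype_card, hKcard]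
      exact congrArg _ hNKcard
    have hc2 : Nat.card {y : Γ // y ∉ G} = Nat.card G * n - Nat.card G := by
      rw [Nat.card_eq_fintype_card, Fintype.card_subtype_compl, ← Nat.card_eq_fintype_card,
        ← Nat.card_eq_fintype_card, hn, G.card_mul_index]
    have hGc : Nat.card G = N.relIndex G * Nat.card N := by
      rw [← (N.subgroupOf G).card_mul_index, Nat.card_congr eN.toEquiv, mul_comm]; rfl
    have hbij : Function.Bijective f := by
      rw [Nat.bijective_iff_injective_and_card]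
      refine ⟨hinj, ?_⟩
      rw [Nat.card_prod, hc1, hc2, hGc, Nat.mul_sub, mul_assoc]
      rfl
    have hconjχ : ∀ p, χh (f p : Γ) = η p.2.1 := fun p =>
      irr_isClassFunction (⟨χh, hχh⟩ : Cfsg.IrrCharacter Γ) _ _
    have h1 : ∑ p : (G ⧸ N.subgroupOf G) × {z : K // (z : Γ) ∉ N}, η p.2.1 * conj (η p.2.1) =
        ∑ y : {y : Γ // y ∉ G}, χh y * conj (χh y) :=
      Fintype.sum_bijective f hbij _ _ fun p => by rw [hconjχ]
    rw [Fintype.sum_prod_type] at h1
    simp only [Finset.sum_const, Finset.card_univ, nsmul_eq_mul, ← Nat.card_eq_fintype_card] at h1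
    rw [show (N.relIndex G : ℂ) = (Nat.card (G ⧸ N.subgroupOf G) : ℂ) from rfl, h1]
    have hΓ := classInner_irr_self hχh
    rw [Cfsg.classInner, inv_mul_eq_one₀ (by simp)] at hΓ
    have hG' := classInner_irr_self χ.2
    rw [Cfsg.classInner, inv_mul_eq_one₀ (by simp)] at hG'
    have hsplit := Fintype.sum_subtype_add_sum_subtype (fun y : Γ => y ∈ G)
      fun y => χh y * conj (χh y)
    rw [← hΓ] at hsplit
    rw [← Nat.cast_mul, hn, G.card_mul_index, eq_sub_iff_add_eq', ← hsplit, hG']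
    congr 1
    refine Finset.sum_congr (by ext; simp) fun y _ => ?_
    rw [← hres y]
  -- the norm of the restriction
  have hnorm : (n : ℂ) * Cfsg.classInner η η = (e : ℂ) * e + n - 1 := by
    rw [Cfsg.classInner, hKcard, Nat.cast_mul,
      ← Fintype.sum_subtype_add_sum_subtype (fun z : K => (z : Γ) ∈ N)]
    have hin : ∑ z : {z : K // (z : Γ) ∈ N}, η z * conj (η z) =
        (e : ℂ) * e * (Nat.card N : ℂ) := by
      have hθn := classInner_irr_self θ.2
      rw [Cfsg.classInner, inv_mul_eq_one₀ (by simp)] at hθn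
      rw [hθn, Finset.mul_sum]
      let eN' : {z : K // (z : Γ) ∈ N} ≃ N :=
        ⟨fun z => ⟨_, z.2⟩, fun m => ⟨⟨_, hNK m.2⟩, m.2⟩, fun z => rfl, fun m => rfl⟩
      refine Fintype.sum_equiv eN' _ _ fun z => ?_
      show χh ((z : K) : Γ) * conj (χh ((z : K) : Γ)) = _
      rw [hres ⟨_, hNG z.2⟩, show (⟨((z : K) : Γ), hNG z.2⟩ : G) =
        ⟨((⟨_, z.2⟩ : N) : Γ), hNG z.2⟩ from rfl, hχN ⟨_, z.2⟩ (hNG z.2), map_mul, map_natCast]
      show _ = (e : ℂ) * e * ((θ : N → ℂ) ⟨_, z.2⟩ * conj ((θ : N → ℂ) ⟨_, z.2⟩))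
      ring
    rw [hin]
    have hri : (N.relIndex G : ℂ) ≠ 0 := Nat.cast_ne_zero.2 Subgroup.index_ne_zero_of_finite
    have hGc : (Nat.card G : ℂ) = (N.relIndex G : ℂ) * Nat.card N := by
      rw [← Nat.cast_mul, ← (N.subgroupOf G).card_mul_index, Nat.card_congr eN.toEquiv, mul_comm]
      rfl
    have hout' : ∑ z : {z : K // (z : Γ) ∉ N}, η z.1 * conj (η z.1) =
        (Nat.card N : ℂ) * n - Nat.card N := by
      refine mul_left_cancel₀ hri ?_
      rw [hout, hGc]; ring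
    rw [hout']
    have hN0 : (Nat.card N : ℂ) ≠ 0 := by simp
    have hn0 : (n : ℂ) ≠ 0 := Nat.cast_ne_zero.2 (by omega)
    field_simp
    ring
  -- the extensions of `θ` to `K`
  let θK : NK → ℂ := fun z => (θ : N → ℂ) ⟨((z : K) : Γ), z.2⟩
  have hθK : Cfsg.IsIrrCharacter NK θK :=
    CfsgLib.Clifford.isIrrCharacter_pullback θ.2 eK.toMonoidHom eK.surjective
  have hθKinv : ∀ (y : K) (z : NK),
      θK ⟨y * z * y⁻¹, hNKn.conj_mem (z : K) z.2 y⟩ = θK z :=
    fun y z => hinv (y : Γ) ⟨_, z.2⟩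
  haveI : IsCyclic (K ⧸ NK) := isCyclic_of_injective
    (QuotientGroup.map NK G K.subtype fun z hz => hNG hz)
    ((injective_iff_map_eq_one _).2 fun y => QuotientGroup.induction_on y fun z hz =>
      (QuotientGroup.eq_one_iff z).2 (hKG z z.2 ((QuotientGroup.eq_one_iff (z : Γ)).1 hz)))
  obtain ⟨θh, hθh, hθhres⟩ := CfsgLib.CharExtension.extends_of_isCyclic NK hθK hθKinv
  have hθhN : Cfsg.IsIrrCharacter NK (fun z : NK => θh z) := by
    rw [show (fun z : NK => θh z) = θK from funext hθhres]; exact hθK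
  obtain ⟨a, ha, hsum⟩ := CfsgLib.Clifford.exists_mult hη
  let S := Finset.univ.filter fun ξ : Cfsg.IrrCharacter K =>
    Cfsg.classInner (fun z : NK => (ξ : K → ℂ) z) θK ≠ 0
  have hext : ∀ ξ ∈ S, ∀ z : NK, (ξ : K → ℂ) z = θK z := by
    intro ξ hξ z
    have hξ' : Cfsg.classInner (fun z : NK => (ξ : K → ℂ) z) (fun z : NK => θh z) ≠ 0 := by
      rw [show (fun z : NK => θh z) = θK from funext hθhres]; exact (Finset.mem_filter.1 hξ).2
    have hμ := CfsgLib.NormalAvg.isIrrCharacter_pairAvg NK ξ.2 (isCharacter_of_irr hθh) hθhN hξ'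
    have hμN : ∀ (w : NK) (y : K), CfsgLib.NormalAvg.pairAvg NK (ξ : K → ℂ) θh ((w : K) * y) =
        CfsgLib.NormalAvg.pairAvg NK (ξ : K → ℂ) θh y :=
      fun w y => CfsgLib.NormalAvg.avgN_mul_left NK _ w y
    have hμ1 : CfsgLib.NormalAvg.pairAvg NK (ξ : K → ℂ) θh 1 = 1 :=
      CfsgLib.CharMonomial.degree_one_of_commutator hμ fun u v => by
        haveI := IsCyclic.isMulCommutative (α := K ⧸ NK)
        have hm : u * v * (v * u)⁻¹ ∈ NK := by
          rw [← QuotientGroup.eq_one_iff, QuotientGroup.mk_mul, QuotientGroup.mk_inv,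
            QuotientGroup.mk_mul, QuotientGroup.mk_mul, mul_inv_eq_one]
          exact mul_comm' _ _
        have := hμN ⟨_, hm⟩ 1
        rwa [mul_one] at this
    have h := congrFun (CfsgLib.CharCorrQ.mul_pairAvg_eq NK (isCharacter_of_irr hθh) hθhN ξ.2 hξ')
      (z : K)
    have h2 := hμN z 1
    rw [mul_one] at h2
    rw [← h, Pi.mul_apply, h2, hμ1, mul_one, hθhres]
  have hScard : S.card = n := by
    have hind := CfsgLib.Induction.isCharacter_indFun NK (isCharacter_of_irr hθK)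
    obtain ⟨b, hb, hbsum⟩ := CfsgLib.Clifford.exists_mult hind
    have hbS : ∀ ξ, (b ξ : ℂ) = if ξ ∈ S then 1 else 0 := by
      intro ξ
      rw [← hb, CfsgLib.Induction.classInner_indFun NK _ (irr_isClassFunction ξ)]
      split_ifs with hξ
      · rw [show (fun z : NK => (ξ : K → ℂ) z) = θK from funext (hext ξ hξ),
          classInner_irr_self hθK]
      · rw [classInner_conj_symm]
        simp only [S, Finset.mem_filter, Finset.mem_univ, true_and, not_not] at hξ
        rw [hξ, map_zero]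
    have h1 := congrFun hbsum 1
    rw [CfsgLib.Induction.indFun_one_apply, hNKidx, show θK 1 = (θ : N → ℂ) 1 from rfl, hθ1] at h1
    simp only [Finset.sum_apply, Pi.smul_apply, smul_eq_mul, hbS, ite_mul, one_mul, zero_mul] at h1
    rw [← Finset.sum_filter, Finset.filter_mem_eq_inter, Finset.univ_inter,
      Finset.sum_congr (g := fun _ : Cfsg.IrrCharacter K => (dθ : ℂ)) rfl fun ξ hξ => by
        rw [show (1 : K) = ((1 : NK) : K) from rfl, hext ξ hξ]; exact hθ1,
      Finset.sum_const, nsmul_eq_mul] at h1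
    have hd0 : (dθ : ℂ) ≠ 0 := Nat.cast_ne_zero.2 hdθ.ne'
    exact_mod_cast (mul_right_cancel₀ hd0 h1).symm
  have hηN : (fun z : NK => η z) = (e : ℂ) • θK := funext fun z => by
    show χh ((z : K) : Γ) = _
    exact (hres ⟨((z : K) : Γ), hNG z.2⟩).trans (hχN ⟨((z : K) : Γ), z.2⟩ (hNG z.2))
  have haS : ∀ ξ, ξ ∉ S → a ξ = 0 := by
    intro ξ hξ
    by_contra h0
    apply hξ
    simp only [S, Finset.mem_filter, Finset.mem_univ, true_and]
    intro h1
    obtain ⟨ν, hν⟩ := CfsgLib.CharCorrQ.exists_mult_ne_zero NK.subtype ξ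
    have hνne : Cfsg.classInner (fun z : NK => (ξ : K → ℂ) z) (ν : NK → ℂ) ≠ 0 := by
      rw [show Cfsg.classInner (fun z : NK => (ξ : K → ℂ) z) (ν : NK → ℂ) =
        (CfsgLib.CharCorr.mult NK.subtype ξ ν : ℂ) from CfsgLib.CharCorr.mult_spec NK.subtype ξ ν,
        Nat.cast_ne_zero]
      exact hν
    have h2 := CfsgLib.Clifford.classInner_ne_zero_of_constituent hη ξ.2 ν.2
      (by rw [ha]; exact Nat.cast_ne_zero.2 h0) hνne
    rw [hηN, classInner_smul_left] at h2
    have h3 : (ν : NK → ℂ) = θK := by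
      by_contra hne
      apply h2
      have h4 := classInner_irr ⟨θK, hθK⟩ ν
      rw [if_neg (fun h5 => hne (congrArg Subtype.val h5).symm)] at h4
      rw [show Cfsg.classInner θK (ν : NK → ℂ) = 0 from h4, mul_zero]
    rw [h3] at hνne
    exact hνne h1
  have he_sum : e = ∑ ξ ∈ S, a ξ := by
    have h1 := congrFun hsum 1
    have h2 := congrFun hηN 1
    change η 1 = (e : ℂ) * θK 1 at h2
    rw [h2, show θK 1 = (dθ : ℂ) from hθ1] at h1
    simp only [Finset.sum_apply, Pi.smul_apply, smul_eq_mul] at h1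
    rw [← Finset.sum_subset (Finset.subset_univ S) fun ξ _ hξ => by
        rw [haS ξ hξ, Nat.cast_zero, zero_mul],
      Finset.sum_congr rfl fun ξ hξ => by
        rw [show (1 : K) = ((1 : NK) : K) from rfl, hext ξ hξ,
          show θK 1 = (dθ : ℂ) from hθ1],
      ← Finset.sum_mul] at h1
    have hd0 : (dθ : ℂ) ≠ 0 := Nat.cast_ne_zero.2 hdθ.ne'
    exact_mod_cast mul_right_cancel₀ hd0 h1
  have hsq : n * ∑ ξ ∈ S, a ξ ^ 2 + 1 = e ^ 2 + n := by
    have h1 : Cfsg.classInner η η = ((∑ ξ ∈ S, a ξ ^ 2 : ℕ) : ℂ) := by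
      conv_lhs => arg 1; rw [hsum]
      rw [classInner_sum_left, Finset.sum_congr rfl fun ξ _ => by
        rw [classInner_smul_left, classInner_conj_symm, ha, map_natCast],
        ← Finset.sum_subset (Finset.subset_univ S) fun ξ _ hξ => by simp [haS ξ hξ]]
      push_cast
      exact Finset.sum_congr rfl fun ξ _ => (sq _).symm
    rw [h1] at hnorm
    have h3 : ((n * ∑ ξ ∈ S, a ξ ^ 2 + 1 : ℕ) : ℂ) = ((e ^ 2 + n : ℕ) : ℂ) := by
      push_cast at hnorm ⊢
      rw [hnorm]; ring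
    exact_mod_cast h3
  rw [he_sum, Nat.cast_sum]
  exact near_constant S a hScard hn1 (by rw [← he_sum]; exact hsq)

end Cfsg.Agent.S4454
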