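import Cfsg.Statements.S4460
import Cfsg.Agent.Lib.ThreeDegrees.Main

set_option autoImplicit false
open Cfsg

namespace Cfsg.Agent.S4460

/-- A finite group with exactly three distinct irreducible character degrees is solvable of derived length at most 3: its third derived subgroup is trivial. -/
theorem result {G : Type*} [Group G] [Finite G] (hcd : Nat.card {n : ℕ // ∃ χ : Cfsg.IrrCharacter G, Cfsg.charDegree (χ : G → ℂ) = n} = 3) : derivedSeries G 3 = ⊥ := by
  classical
  haveI := Fintype.ofFinite G
  set S := {n : ℕ // ∃ χ : Cfsg.IrrCharacter G, Cfsg.charDegree (χ : G → ℂ) = n}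
  haveI : Finite S := Nat.finite_of_card_ne_zero (by rw [hcd]; omega)
  haveI := Fintype.ofFinite S
  rw [Nat.card_eq_fintype_card] at hcd
  let o : S := ⟨1, CfsgLib.Characters.principalIrr G,
    CfsgLib.LinearTwist.charDegree_eq_of_apply_one
      (by rw [CfsgLib.Characters.principalIrr_apply, Nat.cast_one])⟩
  obtain ⟨a, b, -, hab⟩ := Finset.card_eq_two.1
    (show (Finset.univ.erase o).card = 2 by
      rw [Finset.card_erase_of_mem (Finset.mem_univ o), Finset.card_univ, hcd])
  refine CfsgLib.ThreeDegrees.main (Nat.card G) G rfl a.1 b.1 fun χ => ?_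
  by_cases h : (⟨_, χ, rfl⟩ : S) = o
  · exact Or.inl (congrArg Subtype.val h)
  · have hmem : (⟨_, χ, rfl⟩ : S) ∈ Finset.univ.erase o :=
      Finset.mem_erase.2 ⟨h, Finset.mem_univ _⟩
    rw [hab, Finset.mem_insert, Finset.mem_singleton] at hmem
    exact Or.inr (hmem.imp (congrArg Subtype.val) (congrArg Subtype.val))

end Cfsg.Agent.S4460
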