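import Cfsg.Statements.S4464
import Cfsg.Agent.Lib.Blk7.DegreeLtPrime

set_option autoImplicit false
open Cfsg

namespace Cfsg.Agent.S4464

/-- Let p be a prime and G a finite group all of whose irreducible character degrees are less than p. Then G has a normal abelian Sylow p-subgroup. -/
theorem result {G : Type*} [Group G] [Finite G] (p : ℕ) (hp : p.Prime) (hb : ∀ χ : Cfsg.IrrCharacter G, Cfsg.charDegree (χ : G → ℂ) < p) : ∃ P : Subgroup G, P.Normal ∧ (∀ x ∈ P, ∀ y ∈ P, x * y = y * x) ∧ IsPGroup p P ∧ ¬ p ∣ P.index := by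
  have : Fact p.Prime := ⟨hp⟩
  have hs := CfsgLib.DegreeLtPrime.isPSolvable (p := p) (Nat.card G) G rfl hb
  have hdeg : ∀ χ : Cfsg.IrrCharacter G, ¬ p ∣ Cfsg.charDegree (χ : G → ℂ) := by
    intro χ hdvd
    obtain ⟨m, hm, hm0, -⟩ := CfsgLib.Characters.irr_degree_dvd_card χ
    have h1 := hb χ
    rw [CfsgLib.LinearTwist.charDegree_eq_of_apply_one hm] at h1 hdvd
    exact absurd (Nat.le_of_dvd hm0 hdvd) (by omega)
  obtain ⟨P⟩ : Nonempty (Sylow p G) := inferInstance
  have hn := CfsgLib.ItoMichler.normal_sylow hs hdeg P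
  exact ⟨P, hn, CfsgLib.ItoMichler.comm_of_normal_pgroup hdeg _ P.isPGroup', P.isPGroup',
    P.not_dvd_index⟩

end Cfsg.Agent.S4464
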