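import Cfsg.Statements.S4471
import Cfsg.Agent.Lib.Blocks12.FeitTwoP

set_option autoImplicit false
open Cfsg

set_option linter.style.haveILetI false

namespace Cfsg.Agent.S4471

/-- Let p ≥ 7 be a prime and let the finite group G have a faithful irreducible character of degree n with n < 2p and n ≠ p. If the Sylow p-subgroups of G are non-abelian then p² does not divide the index of O_p(G) in G; consequently, in every case G/O_p(G) has abelian Sylow p-subgroups. -/
theorem result {G : Type*} [Group G] [Finite G] (χ : Cfsg.IrrCharacter G) (hfaith : ∀ g : G, (χ : G → ℂ) g = (χ : G → ℂ) 1 → g = 1) (n : ℕ) (hn : Cfsg.charDegree (χ : G → ℂ) = n) (p : ℕ) (hp : p.Prime) (h7 : 7 ≤ p) (hn2 : n < 2 * p) (hnp : n ≠ p) : ((∃ P : Sylow p G, ∃ x ∈ (P : Subgroup G), ∃ y ∈ (P : Subgroup G), x * y ≠ y * x) → ¬ p ^ 2 ∣ (Cfsg.pCore p G).index) ∧ ∀ Q : Sylow p (G ⧸ Cfsg.pCore p G), ∀ x ∈ (Q : Subgroup (G ⧸ Cfsg.pCore p G)), ∀ y ∈ (Q : Subgroup (G ⧸ Cfsg.pCore p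 G)), x * y = y * x := by
  classical
  letI := Fintype.ofFinite G
  haveI : Fact p.Prime := ⟨hp⟩
  haveI : (Cfsg.pCore p G).Normal := CfsgLib.Fitting.pCore_normal p
  have hmain : ∀ P : Sylow p G, (∃ x ∈ (P : Subgroup G), ∃ y ∈ (P : Subgroup G), x * y ≠ y * x) →
      ¬ p ^ 2 ∣ (Cfsg.pCore p G).index := by
    rintro P ⟨x, hx, y, hy, hxy⟩
    exact CfsgLib.FeitTwoP.not_sq_dvd_index hfaith hn h7 hn2 hnp P fun h => hxy (h x hx y hy)
  refine ⟨fun ⟨P, hP⟩ => hmain P hP, fun Q x hx y hy => ?_⟩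
  obtain ⟨P, rfl⟩ := Sylow.mapSurjective_surjective (QuotientGroup.mk'_surjective (Cfsg.pCore p G)) p Q
  rw [Sylow.coe_mapSurjective] at hx hy
  by_cases hab : ∃ a ∈ (P : Subgroup G), ∃ b ∈ (P : Subgroup G), a * b ≠ b * a
  · have h2 := hmain P hab
    set S := (P : Subgroup G).map (QuotientGroup.mk' (Cfsg.pCore p G))
    obtain ⟨k, hk⟩ := IsPGroup.iff_card.mp (P.2.map (QuotientGroup.mk' (Cfsg.pCore p G)))
    have hk1 : k ≤ 1 := by
      by_contra h
      refine h2 ((pow_dvd_pow p (by omega : 2 ≤ k)).trans ?_)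
      rw [← hk, Subgroup.index_eq_card]
      exact Subgroup.card_subgroup_dvd_card _
    haveI : IsCyclic S := by
      rcases k with _ | _ | k
      · rw [pow_zero] at hk
        haveI : Subsingleton S := (Nat.card_eq_one_iff_unique.mp hk).1
        infer_instance
      · exact isCyclic_of_prime_card (by rw [hk, pow_one])
      · omega
    letI := IsCyclic.commGroup (α := S)
    exact congrArg Subtype.val (mul_comm (⟨x, hx⟩ : S) ⟨y, hy⟩)
  · push Not at hab
    obtain ⟨a, ha, rfl⟩ := hx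
    obtain ⟨b, hb, rfl⟩ := hy
    rw [← map_mul, hab a ha b hb, map_mul]


end Cfsg.Agent.S4471
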