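import Cfsg.Statements.S4478
import Cfsg.Agent.S0914
import Cfsg.Agent.Lib.Blk4.Modular
import Cfsg.Agent.Lib.Characters.FrobSchur
import Cfsg.Agent.Lib.Blocks.CentralChar
import Cfsg.Agent.Lib.Blocks.ClassCount

set_option autoImplicit false
open Cfsg

namespace Cfsg.Agent.S4478

/-- Let G be a finite group of even order and χ an irreducible character of G whose degree x is divisible by the full power of 2 dividing the order of G and, for every odd prime p such that G has an element of order 2p, by the full power of p dividing the order of G. Then all involutions of G are conjugate, the centralizer of every involution has order exactly x with x coprime to its index, and the Frobenius–Schur indicator of χ equals 1. -/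
theorem result {G : Type*} [Group G] [Fintype G] (heven : Even (Nat.card G)) (χ : Cfsg.IrrCharacter G) (h2 : 2 ^ (Nat.card G).factorization 2 ∣ Cfsg.charDegree (χ : G → ℂ)) (hp : ∀ p : ℕ, p.Prime → p ≠ 2 → (∃ g : G, orderOf g = 2 * p) → p ^ (Nat.card G).factorization p ∣ Cfsg.charDegree (χ : G → ℂ)) : (∀ s t : G, orderOf s = 2 → orderOf t = 2 → IsConj s t) ∧ (∀ s : G, orderOf s = 2 → Nat.card (Subgroup.centralizer ({s} : Set G)) = Cfsg.charDegree (χ : G → ℂ) ∧ (Nat.card (Subgroup.centralizer ({s} : Set G))).Coprime (Subgroup.centralizer ({s} : Set G)).index) ∧ (Nat.card G : ℂ)⁻¹ * ∑ g : G, (χ : G → ℂ) (g * g) = 1 := by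
  classical
  set x := Cfsg.charDegree (χ : G → ℂ) with hxdef
  obtain ⟨hx1, hxdvd, hx0⟩ := CfsgLib.ClassCount.degree_eq χ
  have h2G : 2 ∣ Nat.card G := even_iff_two_dvd.mp heven
  have hG0 : Nat.card G ≠ 0 := Nat.card_pos.ne'
  have hxeven : 2 ∣ x :=
    dvd_trans (dvd_pow_self 2 (Nat.Prime.factorization_pos_of_dvd Nat.prime_two hG0 h2G).ne') h2
  have hfull : ∀ p : ℕ, p.Prime → (p = 2 ∨ ∃ g : G, orderOf g = 2 * p) →
      p ^ (Nat.card G).factorization p ∣ x := by
    intro p hpp h
    rcases eq_or_ne p 2 with rfl | hne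
    · exact h2
    · exact hp p hpp hne (h.resolve_left hne)
  -- vanishing
  have hvan : ∀ p : ℕ, p.Prime → p ^ (Nat.card G).factorization p ∣ x → ∀ y : G, p ∣ orderOf y →
      (χ : G → ℂ) y = 0 := by
    intro p hpp hpow y hy
    haveI := Fact.mk hpp
    obtain ⟨M, hM⟩ := CfsgLib.Blk4.Modular.exists_isPModular p hpp
    have hndvd : ¬ p ∣ Nat.card G / x := by
      intro h
      have : p ^ ((Nat.card G).factorization p + 1) ∣ x * (Nat.card G / x) := by
        rw [pow_succ]; exact mul_dvd_mul hpow h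
      rw [Nat.mul_div_cancel' hxdvd] at this
      exact Nat.pow_succ_factorization_not_dvd hG0 hpp this
    have hblk := (Cfsg.Agent.S0914.result p M hM χ).mp hndvd
    have hB : Cfsg.IsPBlock M ({χ} : Set (Cfsg.IrrCharacter G)) := ⟨χ, hblk.symm⟩
    have h1 := CfsgLib.Blocks.blockCoeff_eq_zero_of_singular hM hB hy
    rw [Cfsg.blockCoeff, finsum_mem_singleton] at h1
    simpa [hG0, CfsgLib.Characters.irr_one_ne_zero χ] using h1
  -- the square map on elements of odd order
  have hsq : ∀ g : G, (χ : G → ℂ) (g * g) ≠ 0 → ¬ 2 ∣ orderOf g ∨ orderOf g = 2 := by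
    intro g hg
    by_contra hcon
    push Not at hcon
    obtain ⟨m, hm⟩ := hcon.1
    have hgg : orderOf (g * g) = m := by
      rw [← pow_two, orderOf_pow' g two_ne_zero, hm, Nat.gcd_mul_right_left, Nat.mul_div_cancel_left m two_pos]
    have hm1 : m ≠ 1 := fun h => hcon.2 (by rw [hm, h, mul_one])
    obtain ⟨p, hpp, hpm⟩ := Nat.exists_prime_and_dvd hm1
    refine hg (hvan p hpp ?_ _ (hgg ▸ hpm))
    rcases eq_or_ne p 2 with rfl | hne
    · exact h2
    · refine hp p hpp hne ⟨g ^ (m / p), ?_⟩
      have hm0 : 0 < m := by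
        rcases Nat.eq_zero_or_pos m with h | h
        · have := orderOf_pos g; omega
        · exact h
      rw [orderOf_pow' g (Nat.div_pos (Nat.le_of_dvd hm0 hpm) hpp.pos).ne',
        hm, Nat.gcd_eq_right (dvd_mul_of_dvd_right (Nat.div_dvd_of_dvd hpm) 2),
        Nat.mul_div_assoc 2 (Nat.div_dvd_of_dvd hpm), Nat.div_div_self hpm hm0.ne']
  set I := Finset.univ.filter (fun g : G => orderOf g = 2) with hI
  set O := Finset.univ.filter (fun g : G => ¬ 2 ∣ orderOf g) with hO
  have hOsum : ∑ g ∈ O, (χ : G → ℂ) (g * g) = ∑ g ∈ O, (χ : G → ℂ) g := by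
    have hmaps : ∀ g ∈ O, g * g ∈ O := fun g hg => by
      refine Finset.mem_filter.mpr ⟨Finset.mem_univ _, fun h => (Finset.mem_filter.mp hg).2 ?_⟩
      rw [← pow_two] at h
      exact h.trans (orderOf_pow_dvd 2)
    have hinj : Set.InjOn (fun g : G => g * g) O := by
      intro a ha b hb h
      have hc : ∀ c : G, c ∈ O → c = (c * c) ^ ((orderOf c + 1) / 2) := fun c hc => by
        have hodd := (Finset.mem_filter.mp hc).2
        rw [← pow_two, ← pow_mul, Nat.mul_div_cancel' (by omega : 2 ∣ orderOf c + 1), pow_succ,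
          pow_orderOf_eq_one, one_mul]
      have hord : orderOf a = orderOf b := by
        have hcop : ∀ c : G, c ∈ O → orderOf (c ^ 2) = orderOf c := fun c hc =>
          Nat.Coprime.orderOf_pow ((Nat.prime_two.coprime_iff_not_dvd.mpr (Finset.mem_filter.mp hc).2).symm)
        rw [← hcop a ha, ← hcop b hb, pow_two, pow_two]
        exact congrArg orderOf h
      rw [hc a ha, hc b hb, hord]
      exact congrArg (· ^ ((orderOf b + 1) / 2)) h
    exact Finset.sum_nbij (fun g => g * g) hmaps hinj
      ((Finset.surjOn_of_injOn_of_card_le _ (fun a ha => hmaps a ha) hinj le_rfl)) (fun _ _ => rfl)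
  have hOzero : ∑ g ∈ O, (χ : G → ℂ) g = 0 := by
    rw [hO, Finset.sum_filter_of_ne (p := fun g : G => ¬ 2 ∣ orderOf g) (fun g _ hg h => hg (hvan 2 Nat.prime_two h2 g h))]
    have hne : χ ≠ CfsgLib.Characters.principalIrr G := by
      intro h
      have : x = 1 := by simp [hxdef, h, Cfsg.charDegree]
      omega
    have h := CfsgLib.Characters.classInner_irr χ (CfsgLib.Characters.principalIrr G)
    rw [if_neg hne] at h
    simpa [Cfsg.classInner, hG0] using h
  set t := I.card with htdef
  have hsum : ∑ g : G, (χ : G → ℂ) (g * g) = (t : ℂ) * (x : ℂ) := by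
    rw [← Finset.sum_subset (Finset.subset_univ (O ∪ I)), Finset.sum_union, hOsum, hOzero, zero_add,
      Finset.sum_congr rfl (fun g hg => ?_ : ∀ g ∈ I, (χ : G → ℂ) (g * g) = (x : ℂ)),
      Finset.sum_const, nsmul_eq_mul]
    · rw [← pow_two, show g ^ 2 = 1 from (Finset.mem_filter.mp hg).2 ▸ pow_orderOf_eq_one g, hx1]
    · rw [Finset.disjoint_left]
      intro g hgO hgI
      exact (Finset.mem_filter.mp hgO).2 (by rw [(Finset.mem_filter.mp hgI).2])
    · intro g _ hg
      by_contra hne
      rcases hsq g hne with h | h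
      · exact hg (Finset.mem_union_left _ (Finset.mem_filter.mpr ⟨Finset.mem_univ _, h⟩))
      · exact hg (Finset.mem_union_right _ (Finset.mem_filter.mpr ⟨Finset.mem_univ _, h⟩))
  obtain ⟨s₀, hs₀⟩ := exists_prime_orderOf_dvd_card' 2 h2G
  have ht0 : 0 < t := Finset.card_pos.mpr ⟨s₀, Finset.mem_filter.mpr ⟨Finset.mem_univ _, hs₀⟩⟩
  have hGC : (Nat.card G : ℂ) ≠ 0 := Nat.cast_ne_zero.mpr hG0
  have hν : (Nat.card G : ℂ)⁻¹ * ∑ g : G, (χ : G → ℂ) (g * g) = 1 ∧ t * x = Nat.card G := by
    have hc := CfsgLib.FrobSchur.fsInd_cases χ.2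
    rw [CfsgLib.FrobSchur.fsInd_eq_sum] at hc
    rw [hsum] at hc ⊢
    rcases hc with ⟨-, h | h⟩ | ⟨-, h⟩
    all_goals rw [inv_mul_eq_iff_eq_mul₀ hGC] at h
    all_goals first
      | (refine ⟨?_, ?_⟩
         · rw [h]; field_simp
         · rw [mul_one] at h; exact_mod_cast h)
      | (exfalso; rw [mul_zero] at h
         have h' : t * x = 0 := by exact_mod_cast h
         rcases Nat.mul_eq_zero.mp h' with h'' | h'' <;> omega)
      | (exfalso
         have h' : ((t * x + Nat.card G : ℕ) : ℂ) = ((0 : ℕ) : ℂ) := by push_cast; linear_combination h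
         have := Nat.cast_inj.mp h'
         have := Nat.card_pos (α := G)
         omega)
  have hinv : ∀ s : G, orderOf s = 2 → Nat.card (Subgroup.centralizer ({s} : Set G)) = x ∧
      (Subgroup.centralizer ({s} : Set G)).index = t ∧ (∀ u : G, orderOf u = 2 → IsConj s u) := by
    intro s hs
    set C := Subgroup.centralizer ({s} : Set G)
    have hdvd : Nat.card C ∣ x := by
      rw [Nat.dvd_iff_prime_pow_dvd_dvd]
      intro p k hpp hk
      rcases Nat.eq_zero_or_pos k with rfl | hk0
      · simp
      haveI := Fact.mk hpp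
      refine (pow_dvd_pow p ((hpp.pow_dvd_iff_le_factorization hG0).mp
        (hk.trans (Subgroup.card_subgroup_dvd_card C)))).trans (hfull p hpp ?_)
      rcases eq_or_ne p 2 with h | hne
      · exact Or.inl h
      · right
        obtain ⟨u, hu⟩ := exists_prime_orderOf_dvd_card' p ((dvd_pow_self p hk0.ne').trans hk)
        have hcomm : Commute s (u : G) :=
          (Subgroup.mem_centralizer_singleton_iff.mp u.2).symm
        refine ⟨s * u, ?_⟩
        rw [hcomm.orderOf_mul_eq_mul_orderOf_of_coprime, hs, Subgroup.orderOf_coe, hu]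
        rw [hs, Subgroup.orderOf_coe, hu]
        exact (Nat.coprime_primes Nat.prime_two hpp).mpr hne.symm
    have hsub : Finset.univ.filter (fun u : G => IsConj s u) ⊆ I := by
      intro u hu
      obtain ⟨c, hc⟩ := isConj_iff.mp (Finset.mem_filter.mp hu).2
      refine Finset.mem_filter.mpr ⟨Finset.mem_univ _, ?_⟩
      rw [← hc, ← hs]; exact (MulAut.conj c).orderOf_eq s
    have hcard : (Finset.univ.filter (fun u : G => IsConj s u)).card = C.index := by
      rw [← Fintype.card_subtype, ← Nat.card_eq_fintype_card, CfsgLib.Blocks.natCard_isConj]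
    have hle : C.index ≤ t := hcard ▸ Finset.card_le_card hsub
    have hxle : Nat.card C ≤ x := Nat.le_of_dvd hx0 hdvd
    have heq : C.index * Nat.card C = t * x := (Subgroup.index_mul_card C).trans hν.2.symm
    have hx' : Nat.card C = x := by
      by_contra hne
      have h1 : C.index * Nat.card C < t * x :=
        Nat.mul_lt_mul_of_le_of_lt hle (lt_of_le_of_ne hxle hne) ht0
      omega
    have ht' : C.index = t := by
      rw [hx'] at heq; exact Nat.eq_of_mul_eq_mul_right hx0 heq
    refine ⟨hx', ht', fun u hu => ?_⟩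
    have hall := Finset.eq_of_subset_of_card_le hsub (by rw [hcard, ht'])
    have hmem : u ∈ Finset.univ.filter (fun u : G => IsConj s u) := by
      rw [hall]; exact Finset.mem_filter.mpr ⟨Finset.mem_univ _, hu⟩
    exact (Finset.mem_filter.mp hmem).2
  refine ⟨fun s u hs hu => (hinv s hs).2.2 u hu, fun s hs => ⟨(hinv s hs).1, ?_⟩, hν.1⟩
  obtain ⟨hC, hidx, -⟩ := hinv s hs
  refine Nat.coprime_of_dvd fun p hpp hpC hpi => ?_
  have h1 : p ^ (Nat.card G).factorization p ∣ Nat.card (Subgroup.centralizer ({s} : Set G)) := by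
    rw [hC]
    rcases eq_or_ne p 2 with rfl | hne
    · exact h2
    · haveI := Fact.mk hpp
      obtain ⟨u, hu⟩ := exists_prime_orderOf_dvd_card' p hpC
      have hcomm : Commute s (u : G) := (Subgroup.mem_centralizer_singleton_iff.mp u.2).symm
      refine hp p hpp hne ⟨s * u, ?_⟩
      rw [hcomm.orderOf_mul_eq_mul_orderOf_of_coprime, hs, Subgroup.orderOf_coe, hu]
      rw [hs, Subgroup.orderOf_coe, hu]
      exact (Nat.coprime_primes Nat.prime_two hpp).mpr hne.symm
  have h3 := mul_dvd_mul hpi h1
  rw [Subgroup.index_mul_card, ← pow_succ'] at h3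
  exact Nat.pow_succ_factorization_not_dvd hG0 hpp h3

end Cfsg.Agent.S4478
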