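import Cfsg.Statements.S4483
import Cfsg.Agent.Lib.Blocks12.Duality
import Cfsg.Agent.Lib.Characters.BrauerPerm

set_option autoImplicit false
open Cfsg

namespace Cfsg.Agent.S4483

/-- Let G be a finite group of order 2^n·g₀ with g₀ odd, and M a maximal ideal of the algebraic integers containing 2. Every real-valued irreducible character of G of odd degree lies in the principal 2-block; consequently G has at most 2^(2n) real-valued irreducible characters of odd degree. -/
theorem result {G : Type*} [Group G] [Finite G] (M : Ideal Cfsg.AlgInt) (hM : Cfsg.IsPModular 2 M) : (∀ χ : Cfsg.IrrCharacter G, (∀ g : G, ((χ : G → ℂ) g).im = 0) → Odd (Cfsg.charDegree (χ : G → ℂ)) → χ ∈ Cfsg.principalBlock M G) ∧ Nat.card {χ : Cfsg.IrrCharacter G // (∀ g : G, ((χ : G → ℂ) g).im = 0) ∧ Odd (Cfsg.charDegree (χ : G → ℂ))} ≤ 2 ^ (2 * (Nat.card G).factorization 2) := by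
  classical
  have := Fintype.ofFinite G
  have := Fintype.ofFinite (ConjClasses G)
  have key : ∀ χ : Cfsg.IrrCharacter G, (∀ g : G, ((χ : G → ℂ) g).im = 0) →
      Odd (Cfsg.charDegree (χ : G → ℂ)) → χ ∈ Cfsg.principalBlock M G := by
    intro χ hreal hodd
    have hB : IsPBlock M (blockOf M (χ : G → ℂ)) := CfsgLib.Blocks.isPBlock_blockOf χ
    have hmem := CfsgLib.Blocks.mem_blockOf_self hM χ
    rw [← CfsgLib.Contribution.principal_of_pairing hM hB ?_
      ⟨CfsgLib.BrauerPerm.conjIrr, fun χ _ χ' _ h => ?_, fun ψ hψ => ⟨?_, ?_, fun x _ => ?_⟩⟩]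
    · exact hmem
    · have h1 := CfsgLib.Contribution.minExp_le (p := 2) hmem
      rw [Nat.factorization_eq_zero_of_not_dvd (fun h => Nat.not_even_iff_odd.mpr hodd (even_iff_two_dvd.mpr h))] at h1
      omega
    · apply Subtype.ext
      funext k
      have := congrArg (fun φ : IrrCharacter G => (φ : G → ℂ) k) h
      exact (starRingEnd ℂ).injective (by simpa using this)
    · intro g
      have e : centralChar (CfsgLib.BrauerPerm.conjIrr ψ : G → ℂ) g = centralChar (ψ : G → ℂ) g⁻¹ := by
        simp [centralChar, CfsgLib.Contribution.centralizer_singleton_inv, CfsgLib.Characters.irr_apply_inv,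
          ← CfsgLib.Characters.irr_apply_inv ψ (1 : G)]
      have e2 : centralChar (χ : G → ℂ) g⁻¹ = centralChar (χ : G → ℂ) g := by
        rw [centralChar, centralChar, CfsgLib.Contribution.centralizer_singleton_inv,
          CfsgLib.Characters.irr_apply_inv, Complex.conj_eq_iff_im.mpr (hreal g)]
      rw [e, ← e2]
      exact hψ g⁻¹
    · rw [CfsgLib.BrauerPerm.conjIrr_apply, ← CfsgLib.Characters.irr_apply_inv, inv_one]
    · rw [CfsgLib.BrauerPerm.conjIrr_apply, CfsgLib.Characters.irr_apply_inv]
  refine ⟨key, ?_⟩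
  have hP := CfsgLib.Blocks.isPBlock_principalBlock (G := G) M
  have hle : Nat.card {χ : Cfsg.IrrCharacter G // (∀ g : G, ((χ : G → ℂ) g).im = 0) ∧
      Odd (Cfsg.charDegree (χ : G → ℂ))} ≤ Nat.card (Cfsg.principalBlock M G) :=
    Nat.card_le_card_of_injective (fun χ => ⟨χ.1, key χ.1 χ.2.1 χ.2.2⟩) fun a b h =>
      Subtype.ext (by simpa using congrArg Subtype.val h)
  have h4 := CfsgLib.Contribution.card_bound hM hP
  have hd : blockDefect 2 (principalBlock M G) ≤ (Nat.card G).factorization 2 := Nat.sub_le _ _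
  have hpow : 2 ^ (2 * blockDefect 2 (principalBlock M G)) ≤ 2 ^ (2 * (Nat.card G).factorization 2) :=
    Nat.pow_le_pow_right two_pos (by omega)
  have hpos : 0 < 2 ^ (2 * (Nat.card G).factorization 2) := pow_pos two_pos _
  omega

end Cfsg.Agent.S4483
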