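import Cfsg.Statements.S4487
import Cfsg.Agent.Lib.Blocks12.Duality
import Cfsg.Agent.Lib.Blocks.NormalPSubgroup
import Cfsg.Agent.Lib.PCore.Basic

set_option autoImplicit false
open Cfsg

namespace Cfsg.Agent.S4487

/-- Let G be a finite group and p a prime such that G has no non-trivial normal subgroup of order prime to p and C_G(O_p(G)) ≤ O_p(G). Then G has a single p-block: any two irreducible characters lie in the same block relative to every maximal ideal M of the algebraic integers containing p. -/
theorem result {G : Type*} [Group G] [Finite G] (p : ℕ) [Fact p.Prime] (M : Ideal Cfsg.AlgInt) (hM : Cfsg.IsPModular p M) (hcore : Cfsg.pPrimeCore p G = ⊥) (hconstr : Subgroup.centralizer ((Cfsg.pCore p G) : Set G) ≤ Cfsg.pCore p G) (χ ψ : Cfsg.IrrCharacter G) : Cfsg.SameBlock M (χ : G → ℂ) (ψ : G → ℂ) := by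
  classical
  have := Fintype.ofFinite G
  have := Fintype.ofFinite (ConjClasses G)
  have hB : IsPBlock M (blockOf M (χ : G → ℂ)) := CfsgLib.Blocks.isPBlock_blockOf χ
  haveI : (pCore p G).Normal := inferInstance
  have key : ∀ φ : Cfsg.IrrCharacter G,
      (if φ ∈ blockOf M (χ : G → ℂ) then (1 : ℂ) else 0) = blockCoeff (blockOf M (χ : G → ℂ)) 1 := by
    intro φ
    have h := CfsgLib.Blocks.omega_eq_sum_classes φ (CfsgLib.Blocks.blockIdem_mem_center (blockOf M (χ : G → ℂ)))
    rw [CfsgLib.Blocks.omega_blockIdem] at h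
    simp only [CfsgLib.Blocks.coeff_blockIdem] at h
    rw [h]
    have h1 : (ConjClasses.mk (1 : G)).out = 1 :=
      isConj_one_left.mp (ConjClasses.mk_eq_mk_iff_isConj.mp (Quotient.out_eq _))
    rw [Finset.sum_eq_single (ConjClasses.mk (1 : G)) ?_ (by simp), h1]
    · have hc : Subgroup.centralizer ({(1 : G)} : Set G) = ⊤ := by
        rw [eq_top_iff]; intro x _; simp [Subgroup.mem_centralizer_singleton_iff]
      rw [centralChar, hc, Subgroup.index_top, Nat.cast_one, one_mul,
        div_self (CfsgLib.Characters.irr_one_ne_zero φ), mul_one]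
    · intro c _ hc
      suffices blockCoeff (blockOf M (χ : G → ℂ)) c.out = 0 by rw [this, zero_mul]
      by_contra hne
      have hcen : c.out ∈ Subgroup.centralizer ((pCore p G) : Set G) := by
        by_contra h
        exact hne (CfsgLib.BlockNormalP.blockCoeff_eq_zero hM _ CfsgLib.PCore.pCore_isPGroup hB h)
      obtain ⟨k, hk⟩ := IsPGroup.iff_orderOf.1 (CfsgLib.PCore.pCore_isPGroup (p := p) (G := G))
        ⟨c.out, hconstr hcen⟩
      rw [Subgroup.orderOf_mk] at hk
      rcases k with _ | k
      · rw [pow_zero, orderOf_eq_one_iff] at hk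
        exact hc (by rw [← hk]; exact (Quotient.out_eq c).symm)
      · exact hne (CfsgLib.Blocks.blockCoeff_eq_zero_of_singular hM hB
          (hk ▸ dvd_pow_self p (Nat.succ_ne_zero k)))
  by_contra hne
  have h1 := key χ
  have h2 := key ψ
  rw [if_pos (CfsgLib.Blocks.mem_blockOf_self hM χ)] at h1
  rw [if_neg (show ψ ∉ blockOf M (χ : G → ℂ) from hne), ← h1] at h2
  exact zero_ne_one h2

end Cfsg.Agent.S4487
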