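import Cfsg.Statements.S4489
import Cfsg.Agent.Lib.Blk7.FieldBound

set_option autoImplicit false
open Cfsg

namespace Cfsg.Agent.S4489

/-- Let P be a finite p-group of order p^a with a > 0, and χ a faithful irreducible character of P of degree f whose field of values ℚ(χ) has degree (p − 1)·p^t over ℚ. Then a ≤ (f − 1)/(p − 1) + (t + 1)·f; in integer form, (p − 1)·a ≤ (f − 1) + (p − 1)(t + 1)·f. -/
theorem result {P : Type*} [Group P] [Finite P] (p a : ℕ) (hp : p.Prime) (ha : 0 < a) (hP : Nat.card P = p ^ a) (χ : Cfsg.IrrCharacter P) (hfaith : ∀ g : P, (χ : P → ℂ) g = (χ : P → ℂ) 1 → g = 1) (f t : ℕ) (hf : Cfsg.charDegree (χ : P → ℂ) = f) (hfield : Module.finrank ℚ (IntermediateField.adjoin ℚ (Set.range (χ : P → ℂ))) = (p - 1) * p ^ t) : (p - 1) * a ≤ (f - 1) + (p - 1) * (t + 1) * f := by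
  classical
  have := Fintype.ofFinite P
  have : Fact p.Prime := ⟨hp⟩
  have : NeZero (p ^ a) := ⟨pow_ne_zero a hp.ne_zero⟩
  have : Group.IsNilpotent P := (IsPGroup.of_card hP).isNilpotent
  obtain ⟨Hs, lam, hχ⟩ := CfsgLib.CharMonomial.monomial_of_nilpotent _ P rfl (χ : P → ℂ) χ.2
  have hidx : (CfsgLib.FieldBound.fixUnits (χ : P → ℂ) (p ^ a) hP).index = (p - 1) * p ^ t := by
    rw [← CfsgLib.FieldBound.finrank_adjoin_values (χ : P → ℂ) (CfsgLib.Characters.irr_isCharacter χ)
      (p ^ a) hP, hfield]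
  let A := Hs.normalCore
  have hA : A ≤ Hs := Hs.normalCore_le
  have hAn : A.Normal := inferInstance
  have hmem : ∀ (q : P ⧸ Hs) (x : A), q.out⁻¹ * (x : P) * q.out ∈ A := fun q x =>
    hAn.conj_mem' _ x.2 _
  let c : P ⧸ Hs → (A →* ℂˣ) := fun q =>
    { toFun := fun x => lam ⟨q.out⁻¹ * (x : P) * q.out, hA (hmem q x)⟩
      map_one' := by
        rw [← map_one lam]; congr 1; exact Subtype.ext (by simp)
      map_mul' := fun x y => by
        rw [← map_mul]; congr 1; exact Subtype.ext (by simp [mul_assoc]) }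
  have hsum : ∀ x : A, (χ : P → ℂ) (x : P) = ∑ q : P ⧸ Hs, ((c q x : ℂˣ) : ℂ) := by
    intro x
    rw [hχ, Cfsg.indFun]
    have hconst : ∀ (q : P ⧸ Hs) (g : P), (g : P ⧸ Hs) = q →
        Cfsg.extendByZero Hs (fun h => (lam h : ℂ)) (g⁻¹ * (x : P) * g) = ((c q x : ℂˣ) : ℂ) := by
      intro q g hg
      rw [← q.out_eq'] at hg
      have hu : q.out⁻¹ * g ∈ Hs := QuotientGroup.eq.1 hg.symm
      have hy : q.out⁻¹ * (x : P) * q.out ∈ Hs := hA (hmem q x)
      have he : g⁻¹ * (x : P) * g =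
          (((⟨_, hu⟩ : Hs)⁻¹ * ⟨_, hy⟩ * ⟨_, hu⟩ : Hs) : P) := by
        simp [mul_assoc]
      rw [he]
      refine (Subtype.val_injective.extend_apply (fun h : Hs => (lam h : ℂ)) 0 _).trans ?_
      show ((lam _ : ℂˣ) : ℂ) = _
      rw [map_mul, map_mul, map_inv, mul_comm _ (lam ⟨_, hy⟩), mul_assoc, inv_mul_cancel, mul_one]
      rfl
    rw [← Finset.sum_fiberwise Finset.univ (fun g : P => (g : P ⧸ Hs)), Finset.mul_sum]
    refine Finset.sum_congr rfl fun q _ => ?_
    rw [Finset.sum_congr rfl (fun g hg => hconst q g (Finset.mem_filter.1 hg).2), Finset.sum_const,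
      nsmul_eq_mul, ← mul_assoc]
    have hcard : (Finset.univ.filter fun g : P => (g : P ⧸ Hs) = q).card = Nat.card Hs := by
      rw [Nat.card_eq_fintype_card, ← Finset.card_univ]
      refine Finset.card_bij (fun g hg => ⟨q.out⁻¹ * g, by
        have h1 := (Finset.mem_filter.1 hg).2
        rw [← q.out_eq'] at h1
        exact QuotientGroup.eq.1 h1.symm⟩) (fun _ _ => Finset.mem_univ _) ?_ ?_
      · intro g _ g' _ h
        exact mul_left_cancel (congrArg Subtype.val h)
      · intro y _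
        refine ⟨q.out * y, ?_, Subtype.ext (inv_mul_cancel_left _ _)⟩
        rw [Finset.mem_filter]
        refine ⟨Finset.mem_univ _, ?_⟩
        exact (QuotientGroup.mk_mul_of_mem q.out y.2).trans (Quotient.out_eq q)
    rw [hcard, inv_mul_cancel₀ (Nat.cast_ne_zero.2 Nat.card_pos.ne'), one_mul]
  have hdeg : f = Fintype.card (P ⧸ Hs) := by
    have h1 := hsum 1
    simp only [map_one, Units.val_one, Finset.sum_const, Finset.card_univ, nsmul_eq_mul, mul_one,
      OneMemClass.coe_one] at h1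
    rw [← hf, Cfsg.charDegree, h1, Complex.natCast_re, Nat.floor_natCast]
  -- the bound on the core
  let 𝒦 : Finset (Subgroup A) := Finset.univ.image fun q => (c q).ker
  have hm : ∀ K ∈ 𝒦, ∃ m : ℕ, K.index = p ^ m ∧
      m ≤ (Finset.univ.filter fun q => (c q).ker = K).card * (t + 1) := by
    intro K hK
    obtain ⟨q, -, rfl⟩ := Finset.mem_image.1 hK
    exact CfsgLib.FieldBound.exists_kernel_count hP ha (χ : P → ℂ) hidx c hsum q
  choose! m hmi hmle using hm
  let Φ : A → ∀ K : 𝒦, A ⧸ (K : Subgroup A) := fun x _ => QuotientGroup.mk x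
  have hΦ : Function.Injective Φ := by
    intro x y hxy
    have h1 : ∀ q, (c q) (x⁻¹ * y) = 1 := fun q =>
      QuotientGroup.eq.1 (congrFun hxy ⟨(c q).ker, Finset.mem_image_of_mem _ (Finset.mem_univ q)⟩)
    have h2 : (χ : P → ℂ) ((x⁻¹ * y : A) : P) = (χ : P → ℂ) 1 := by
      rw [hsum, show (1 : P) = ((1 : A) : P) from rfl, hsum]
      simp [h1]
    have h3 : x⁻¹ * y = 1 := Subtype.ext (hfaith _ h2)
    exact inv_mul_eq_one.1 h3
  have hcardA : Nat.card A ≤ p ^ (f * (t + 1)) := by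
    calc Nat.card A ≤ Nat.card (∀ K : 𝒦, A ⧸ (K : Subgroup A)) :=
          Nat.card_le_card_of_injective Φ hΦ
      _ = ∏ K : 𝒦, p ^ m (K : Subgroup A) := by
          rw [Nat.card_pi]
          refine Finset.prod_congr rfl fun K _ => ?_
          rw [← hmi _ K.2, Subgroup.index_eq_card]
      _ = p ^ ∑ K ∈ 𝒦, m K := by
          rw [Finset.prod_pow_eq_pow_sum, Finset.sum_coe_sort 𝒦 m]
      _ ≤ p ^ (f * (t + 1)) := by
          refine Nat.pow_le_pow_right hp.pos ?_
          calc ∑ K ∈ 𝒦, m K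
              ≤ ∑ K ∈ 𝒦, (Finset.univ.filter fun q => (c q).ker = K).card * (t + 1) :=
                Finset.sum_le_sum hmle
            _ = f * (t + 1) := by
                rw [← Finset.sum_mul, hdeg]
                congr 1
                exact (Finset.card_eq_sum_card_image (fun q => (c q).ker) Finset.univ).symm
  -- the quotient
  have hquot : A.index ∣ f.factorial := by
    rw [show A = (MulAction.toPermHom P (P ⧸ Hs)).ker from Hs.normalCore_eq_ker,
      Subgroup.index_ker, hdeg, ← Fintype.card_perm, ← Nat.card_eq_fintype_card]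
    exact Subgroup.card_subgroup_dvd_card _
  obtain ⟨i, -, hi⟩ := (Nat.dvd_prime_pow hp).1 (hP ▸ A.index_dvd_card)
  obtain ⟨j, -, hj⟩ := (Nat.dvd_prime_pow hp).1 (hP ▸ A.card_subgroup_dvd_card)
  have hij : a = i + j := by
    have h1 := A.index_mul_card
    rw [hi, hj, hP, ← pow_add] at h1
    exact (Nat.pow_right_injective hp.two_le h1).symm
  have hf0 : f ≠ 0 := by rw [hdeg]; exact Fintype.card_ne_zero
  have hiv : (p - 1) * i ≤ f - 1 := by
    have h1 : i ≤ padicValNat p f.factorial :=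
      (padicValNat_dvd_iff_le (Nat.factorial_ne_zero f)).1 (hi ▸ hquot)
    have h2 := sub_one_mul_padicValNat_factorial_lt_of_ne_zero p hf0
    have h3 := Nat.mul_le_mul_left (p - 1) h1
    omega
  have hjv : j ≤ f * (t + 1) := (Nat.pow_le_pow_iff_right hp.one_lt).1 (hj ▸ hcardA)
  rw [hij, mul_add, mul_assoc, mul_comm (t + 1)]
  exact add_le_add hiv (Nat.mul_le_mul_left _ hjv)

end Cfsg.Agent.S4489
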