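import Cfsg.Statements.S4490
import Cfsg.Agent.Lib.Blocks12.Duality
import Cfsg.Agent.Lib.Characters.BrauerPerm

set_option autoImplicit false
open Cfsg

namespace Cfsg.Agent.S4490

/-- Let G be a finite group and M a maximal ideal of the algebraic integers containing 2. Every 2-block B of G whose defect groups are the Sylow 2-subgroups of G (a block of full defect) and which is not the principal block is different from its complex-conjugate block, the block formed by the complex conjugates of the members of B. -/
theorem result {G : Type*} [Group G] [Finite G] (M : Ideal Cfsg.AlgInt) (hM : Cfsg.IsPModular 2 M) (B : Set (Cfsg.IrrCharacter G)) (hB : Cfsg.IsPBlock M B) (P : Sylow 2 G) (hfull : Cfsg.IsDefectGroup 2 M B (P : Subgroup G)) (hnp : B ≠ Cfsg.principalBlock M G) : {ψ : Cfsg.IrrCharacter G | ∃ χ ∈ B, (ψ : G → ℂ) = fun g => (starRingEnd ℂ) ((χ : G → ℂ) g)} ≠ B := by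
  classical
  have := Fintype.ofFinite G
  have := Fintype.ofFinite (ConjClasses G)
  intro hset
  apply hnp
  obtain ⟨g, ⟨-, hg, -⟩, Q, hQ⟩ := hfull
  refine CfsgLib.Contribution.principal_of_pairing hM hB ?_
    ⟨CfsgLib.BrauerPerm.conjIrr, fun χ _ χ' _ h => ?_, fun χ hχ => ⟨?_, ?_, fun x _ => ?_⟩⟩
  · have h1 := CfsgLib.Contribution.minExp_le_of_coeff hM hB hg
    have h2 := CfsgLib.Contribution.index_factorization (G := G) Nat.prime_two g
    have h3 : 2 ^ (Nat.card G).factorization 2 =
        2 ^ (Nat.card (Subgroup.centralizer ({g} : Set G))).factorization 2 := by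
      rw [← P.card_eq_multiplicity, ← Q.card_eq_multiplicity, hQ]
      exact Subgroup.card_map_of_injective (Subgroup.subtype_injective _)
    have h4 := Nat.pow_right_injective le_rfl h3
    omega
  · apply Subtype.ext
    funext k
    have := congrArg (fun φ : IrrCharacter G => (φ : G → ℂ) k) h
    exact (starRingEnd ℂ).injective (by simpa using this)
  · rw [← hset]
    exact ⟨χ, hχ, rfl⟩
  · rw [CfsgLib.BrauerPerm.conjIrr_apply, ← CfsgLib.Characters.irr_apply_inv, inv_one]
  · rw [CfsgLib.BrauerPerm.conjIrr_apply, CfsgLib.Characters.irr_apply_inv]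

end Cfsg.Agent.S4490
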