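import Cfsg.Statements.S4492
import Cfsg.Agent.Lib.Blk7.Fong

open CfsgLib.Characters CfsgLib.Blocks in
open scoped ComplexConjugate in
/-- Same block for two characters over the invariant character. -/
theorem CfsgLib.Fong.sameBlock_over {G : Type*} [Group G] [Fintype G] {p : ℕ} [Fact p.Prime]
    {M : Ideal Cfsg.AlgInt} (hM : Cfsg.IsPModular p M) (hsolv : Cfsg.IsPSolvable p G)
    (N : Subgroup G) [hN : N.Normal] [Fintype N] (hNdef : N = Cfsg.pPrimeCore p G)
    (θ : Cfsg.IrrCharacter N)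
    (hinv : ∀ (g : G) (n : N), (θ : N → ℂ) ⟨g * n * g⁻¹, hN.conj_mem n n.2 g⟩ = (θ : N → ℂ) n)
    {χ ψ : Cfsg.IrrCharacter G}
    (hχ : Cfsg.classInner (fun n : N => (χ : G → ℂ) n) (θ : N → ℂ) ≠ 0)
    (hψ : Cfsg.classInner (fun n : N => (ψ : G → ℂ) n) (θ : N → ℂ) ≠ 0) :
    Cfsg.SameBlock M (χ : G → ℂ) (ψ : G → ℂ) := by
  classical
  have hNp : ¬ p ∣ Nat.card N := by rw [hNdef]; exact CfsgLib.PCore.not_dvd_card_pPrimeCore
  have hover : ∀ {χ : Cfsg.IrrCharacter G},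
      Cfsg.classInner (fun n : N => (χ : G → ℂ) n) (θ : N → ℂ) ≠ 0 →
      ∀ ξ ∈ Cfsg.blockOf M (χ : G → ℂ), ∀ n : N,
        (ξ : G → ℂ) n * (θ : N → ℂ) 1 = (ξ : G → ℂ) 1 * (θ : N → ℂ) n :=
    fun {χ} h ξ hξ n => CfsgLib.Fong.restrict_eq N θ.2 hinv
      (constituent_of_sameBlock hM hNp hξ θ h) n
  have hdχ := CfsgLib.Fong.blockDefect_eq N hM hsolv hNdef θ hinv (isPBlock_blockOf χ) (hover hχ)
  have hdψ := CfsgLib.Fong.blockDefect_eq N hM hsolv hNdef θ hinv (isPBlock_blockOf ψ) (hover hψ)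
  refine CfsgLib.Contribution.sameBlock_of_agree hM (hdψ.trans hdχ.symm) fun x hx hc => ?_
  rw [hdχ] at hc
  obtain ⟨K, Q, hKn, hNK', hQK, hQp, hKq, hCQ, -⟩ := CfsgLib.Fong.exists_setup (p := p) hsolv
  subst hNdef
  -- the centraliser of `x` contains a Sylow subgroup, hence a conjugate of `Q`
  obtain ⟨S⟩ : Nonempty (Sylow p (Subgroup.centralizer ({x} : Set G))) := inferInstance
  have hcard : Nat.card ((S : Subgroup (Subgroup.centralizer ({x} : Set G))).map
      (Subgroup.centralizer ({x} : Set G)).subtype) = p ^ (Nat.card G).factorization p := by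
    rw [CfsgLib.BlockCover.natCard_sylow_centralizer, hc]
  let P : Sylow p G := Sylow.ofCard _ hcard
  obtain ⟨R, hR⟩ := hQp.exists_le_sylow
  obtain ⟨t, ht⟩ := MulAction.exists_smul_eq G P R
  have hxN : x ∈ Cfsg.pPrimeCore p G := by
    have hy : t * x * t⁻¹ ∈ Subgroup.centralizer (Q : Set G) := by
      refine Subgroup.mem_centralizer_iff.2 fun q hq => ?_
      have hq' : q ∈ (t • P : Sylow p G) := ht ▸ hR hq
      rw [← SetLike.mem_coe, Sylow.coe_smul] at hq'
      obtain ⟨r, hr, rfl⟩ := hq'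
      have hr' := Subgroup.mem_centralizer_iff.1
        (Subgroup.map_subtype_le _ (show r ∈ Subgroup.map (Subgroup.centralizer ({x} : Set G)).subtype
          (S : Subgroup (Subgroup.centralizer ({x} : Set G))) from hr)) x rfl
      show t * r * t⁻¹ * (t * x * t⁻¹) = t * x * t⁻¹ * (t * r * t⁻¹)
      calc t * r * t⁻¹ * (t * x * t⁻¹) = t * (r * x) * t⁻¹ := by group
        _ = t * (x * r) * t⁻¹ := by rw [hr']
        _ = _ := by group
    have hyN : t * x * t⁻¹ ∈ Cfsg.pPrimeCore p G := by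
      rw [← QuotientGroup.eq_one_iff, ← QuotientGroup.mk'_apply]
      obtain ⟨i, hi⟩ := hKq ⟨_, _, hCQ hy, rfl⟩
      refine eq_one_of_pow_order_dvd hM.1 (orderOf_dvd_of_pow_eq_one (congrArg Subtype.val hi))
        fun h => hx ?_
      have h2 := h.trans (orderOf_map_dvd _ _)
      rwa [show t * x * t⁻¹ = MulAut.conj t x from rfl, MulEquiv.orderOf_eq] at h2
    have := hN.conj_mem' _ hyN t
    simpa [mul_assoc] using this
  have h1 := CfsgLib.Fong.restrict_eq (Cfsg.pPrimeCore p G) θ.2 hinv hχ ⟨x, hxN⟩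
  have h2 := CfsgLib.Fong.restrict_eq (Cfsg.pPrimeCore p G) θ.2 hinv hψ ⟨x, hxN⟩
  have hθ1 := irr_one_ne_zero θ
  have : Cfsg.centralChar (χ : G → ℂ) x = Cfsg.centralChar (ψ : G → ℂ) x := by
    rw [Cfsg.centralChar, Cfsg.centralChar]
    field_simp [irr_one_ne_zero χ, irr_one_ne_zero ψ]
    apply mul_right_cancel₀ hθ1
    simp only at h1 h2
    linear_combination ((Subgroup.centralizer ({x} : Set G)).index : ℂ) *
      ((ψ : G → ℂ) 1 * h1 - (χ : G → ℂ) 1 * h2)
  rw [this, sub_self]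
  exact memLocalIdeal_zero hM

set_option autoImplicit false
open Cfsg

namespace Cfsg.Agent.S4492

/-- Let G be a finite p-solvable group, N = O_{p'}(G) its largest normal subgroup of order prime to p, and θ an irreducible character of N invariant under conjugation by G; fix a maximal ideal M of the algebraic integers containing p. Then the irreducible characters of G lying over θ (those whose restriction to N contains θ) form a single p-block of G, and the defect groups of that block are exactly the Sylow p-subgroups of G. -/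
theorem result {G : Type*} [Group G] [Fintype G] (p : ℕ) [Fact p.Prime] (M : Ideal Cfsg.AlgInt) (hM : Cfsg.IsPModular p M) (hsolv : Cfsg.IsPSolvable p G) (N : Subgroup G) [hN : N.Normal] [Fintype N] (hNdef : N = Cfsg.pPrimeCore p G) (θ : Cfsg.IrrCharacter N) (hinv : ∀ (g : G) (n : N), (θ : N → ℂ) ⟨g * n * g⁻¹, hN.conj_mem n n.2 g⟩ = (θ : N → ℂ) n) : ∃ B : Set (Cfsg.IrrCharacter G), Cfsg.IsPBlock M B ∧ (∀ χ : Cfsg.IrrCharacter G, χ ∈ B ↔ Cfsg.classInner (fun n : N => (χ : G → ℂ) n) (θ : N → ℂ) ≠ 0) ∧ (∀ P : Sylow p G, Cfsg.IsDefectGroup p M B (P : Subgroup G)) ∧ ∀ D : Subgroup G, Cfsg.IsDefectGroup p M B D → ∃ P : Sylow p G, D = (P : Subgroup G) := by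
  classical
  have hNp : ¬ p ∣ Nat.card N := by rw [hNdef]; exact CfsgLib.PCore.not_dvd_card_pPrimeCore
  obtain ⟨χ, hχ⟩ := CfsgLib.CharCorr.exists_over N θ
  have hχ' : Cfsg.classInner (fun n : N => (χ : G → ℂ) n) (θ : N → ℂ) ≠ 0 := by
    have h := CfsgLib.CharCorr.mult_spec N.subtype χ θ
    intro h0
    apply hχ
    have h' : ((CfsgLib.CharCorr.mult N.subtype χ θ : ℕ) : ℂ) = 0 := h.symm.trans h0
    exact_mod_cast h'
  set B := Cfsg.blockOf M (χ : G → ℂ) with hBdef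
  have hB : Cfsg.IsPBlock M B := CfsgLib.Blocks.isPBlock_blockOf χ
  have hmem : ∀ ξ : Cfsg.IrrCharacter G, ξ ∈ B ↔
      Cfsg.classInner (fun n : N => (ξ : G → ℂ) n) (θ : N → ℂ) ≠ 0 := fun ξ =>
    ⟨fun h => CfsgLib.Blocks.constituent_of_sameBlock hM hNp h θ hχ',
      fun h => CfsgLib.Fong.sameBlock_over hM hsolv N hNdef θ hinv hχ' h⟩
  have hd := CfsgLib.Fong.blockDefect_eq N hM hsolv hNdef θ hinv hB fun ξ hξ n =>
    CfsgLib.Fong.restrict_eq N θ.2 hinv ((hmem ξ).1 hξ) n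
  have hsyl : ∀ D : Subgroup G, Cfsg.IsDefectGroup p M B D → ∃ P : Sylow p G, D = (P : Subgroup G) := by
    intro D hD
    exact ⟨Sylow.ofCard D (by rw [CfsgLib.BlockCover.natCard_defect hM hB hD, hd]), rfl⟩
  refine ⟨B, hB, hmem, fun P => ?_, hsyl⟩
  obtain ⟨D, hD⟩ := CfsgLib.Blocks.exists_isDefectGroup hM hB
  obtain ⟨Q, rfl⟩ := hsyl D hD
  obtain ⟨t, ht⟩ := MulAction.exists_smul_eq G Q P
  rw [← ht]
  exact CfsgLib.BlockCover.isDefectGroup_conj hM hB hD t

end Cfsg.Agent.S4492
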