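import Cfsg.Statements.S4493
import Cfsg.Agent.Lib.Characters.ItoMichlerPSolvable
import Cfsg.Agent.Lib.Characters.Ito

set_option autoImplicit false
open Cfsg

namespace Cfsg.Agent.S4493

/-- Let G be a finite solvable group and p a prime. Then G has a normal abelian Sylow p-subgroup if and only if no irreducible character degree of G is divisible by p. -/
theorem result {G : Type*} [Group G] [Finite G] (hsolv : Group.IsSolvable G) (p : ℕ) (hp : p.Prime) : (∃ P : Subgroup G, P.Normal ∧ (∀ x ∈ P, ∀ y ∈ P, x * y = y * x) ∧ IsPGroup p P ∧ ¬ p ∣ P.index) ↔ ∀ χ : Cfsg.IrrCharacter G, ¬ p ∣ Cfsg.charDegree (χ : G → ℂ) := by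
  have := Fact.mk hp
  have := hsolv
  constructor
  · rintro ⟨P, hPn, hab, -, hidx⟩ χ hdvd
    have : IsMulCommutative P := ⟨⟨fun a b => Subtype.ext (hab a a.2 b b.2)⟩⟩
    obtain ⟨d, hd, hd'⟩ := CfsgLib.CharIto.degree_dvd_index_of_abelian_normal χ.2 P hPn hab
    rw [Cfsg.charDegree, hd, Complex.natCast_re, Nat.floor_natCast] at hdvd
    exact hidx (hdvd.trans hd')
  · intro hdeg
    obtain ⟨P⟩ : Nonempty (Sylow p G) := inferInstance
    have := CfsgLib.ItoMichler.normal_sylow CfsgLib.PCore.isPSolvable_of_isSolvable hdeg P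
    exact ⟨P, inferInstance, CfsgLib.ItoMichler.comm_of_normal_pgroup hdeg P P.isPGroup',
      P.isPGroup', P.not_dvd_index⟩

end Cfsg.Agent.S4493
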