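import Cfsg.Statements.S4498
import Cfsg.Agent.Lib.Blocks.WeakOrth

set_option autoImplicit false
open Cfsg

namespace Cfsg.Agent.S4498

/-- Let p and q be distinct primes dividing the order of the finite group G, and suppose G has no element of order p·q. Fix maximal ideals M_p over p and M_q over q of the algebraic integers. Then the principal p-block and the principal q-block of G have a non-principal irreducible character in common. -/
theorem result {G : Type*} [Group G] [Finite G] (p q : ℕ) [Fact p.Prime] [Fact q.Prime] (hpq : p ≠ q) (hp : p ∣ Nat.card G) (hq : q ∣ Nat.card G) (hno : ∀ g : G, orderOf g ≠ p * q) (Mp Mq : Ideal Cfsg.AlgInt) (hMp : Cfsg.IsPModular p Mp) (hMq : Cfsg.IsPModular q Mq) : ∃ χ : Cfsg.IrrCharacter G, (χ : G → ℂ) ≠ (fun _ => 1) ∧ χ ∈ Cfsg.principalBlock Mp G ∧ χ ∈ Cfsg.principalBlock Mq G := by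
  classical
  have := Fintype.ofFinite G
  obtain ⟨x, hx⟩ := exists_prime_orderOf_dvd_card' p hp
  obtain ⟨y, hy⟩ := exists_prime_orderOf_dvd_card' q hq
  by_contra hcon
  push Not at hcon
  have hBp := CfsgLib.Blocks.isPBlock_principalBlock (G := G) Mp
  have hBq := CfsgLib.Blocks.isPBlock_principalBlock (G := G) Mq
  let F : G → ℂ := ∑ φ ∈ Finset.univ.filter (· ∈ Cfsg.principalBlock Mp G),
    (starRingEnd ℂ) ((φ : G → ℂ) x) • (φ : G → ℂ)
  let K : G → ℂ := ∑ φ ∈ Finset.univ.filter (· ∈ Cfsg.principalBlock Mq G),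
    (starRingEnd ℂ) ((φ : G → ℂ) y) • (φ : G → ℂ)
  have hF : ∀ g : G, ¬ p ∣ orderOf g → F g = 0 := fun g hg => by
    simp only [F, Finset.sum_apply, Pi.smul_apply, smul_eq_mul]
    rw [← CfsgLib.Blocks.weak_orth hMp hBp hg (show p ∣ orderOf x by rw [hx])]
    exact Finset.sum_congr rfl fun φ _ => mul_comm _ _
  have hK : ∀ g : G, ¬ q ∣ orderOf g → K g = 0 := fun g hg => by
    simp only [K, Finset.sum_apply, Pi.smul_apply, smul_eq_mul]
    rw [← CfsgLib.Blocks.weak_orth hMq hBq hg (show q ∣ orderOf y by rw [hy])]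
    exact Finset.sum_congr rfl fun φ _ => mul_comm _ _
  have h0 : classInner F K = 0 := by
    rw [Cfsg.classInner, Finset.sum_eq_zero, mul_zero]
    intro g _
    by_cases hgp : p ∣ orderOf g
    · by_cases hgq : q ∣ orderOf g
      · exfalso
        have hdvd : p * q ∣ orderOf g :=
          ((Nat.coprime_primes Fact.out Fact.out).mpr hpq).mul_dvd_of_dvd_of_dvd hgp hgq
        refine hno (g ^ (orderOf g / (p * q))) ?_
        exact orderOf_pow_orderOf_div (orderOf_pos g).ne' hdvd
      · rw [hK g hgq, map_zero, mul_zero]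
    · rw [hF g hgp, zero_mul]
  have h1 : classInner F K = 1 := by
    simp only [F, K, CfsgLib.Characters.classInner_sum_left, CfsgLib.Characters.classInner_sum_right,
      CfsgLib.Characters.classInner_smul_left, CfsgLib.Characters.classInner_smul_right,
      CfsgLib.Characters.classInner_irr, mul_ite, mul_one, mul_zero, Complex.conj_conj]
    have h1p : CfsgLib.Characters.principalIrr G ∈ Cfsg.principalBlock Mp G :=
      by rw [CfsgLib.Blocks.principalBlock_eq]; exact CfsgLib.Blocks.mem_blockOf_self hMp _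
    have h1q : CfsgLib.Characters.principalIrr G ∈ Cfsg.principalBlock Mq G :=
      by rw [CfsgLib.Blocks.principalBlock_eq]; exact CfsgLib.Blocks.mem_blockOf_self hMq _
    rw [Finset.sum_eq_single (CfsgLib.Characters.principalIrr G)]
    · rw [Finset.sum_eq_single (CfsgLib.Characters.principalIrr G)]
      · simp
      · intro ψ _ hψ; rw [if_neg hψ]
      · intro h; exact absurd (Finset.mem_filter.mpr ⟨Finset.mem_univ _, h1p⟩) h
    · intro φ hφ hne
      apply mul_eq_zero_of_right
      refine Finset.sum_eq_zero fun ψ hψ => ?_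
      rw [if_neg]
      rintro rfl
      exact hcon ψ (fun h => hne (Subtype.ext (h.trans rfl))) (Finset.mem_filter.mp hψ).2 (Finset.mem_filter.mp hφ).2
    · intro h; exact absurd (Finset.mem_filter.mpr ⟨Finset.mem_univ _, h1q⟩) h
  exact zero_ne_one (h0.symm.trans h1)

end Cfsg.Agent.S4498
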