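import Cfsg.Statements.S4500
import Cfsg.Agent.Lib.Blocks12.Bounds
import Cfsg.Agent.Lib.Blk4.Modular
import Cfsg.Agent.Lib.Characters.Values
import Cfsg.Agent.Lib.Characters.Decomp

set_option autoImplicit false
open Cfsg

namespace Cfsg.Agent.S4500

/-- Let G be a non-trivial finite group of order p^a · q^b · r^c with p, q, r distinct primes and a ≤ 2. Then G has a non-principal irreducible character whose degree is a power of q, and a non-principal irreducible character whose degree is a power of r; the power may be the zeroth, so a non-principal linear character serves for both. -/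
theorem result {G : Type*} [Group G] [Finite G] [Nontrivial G] (p q r a b c : ℕ) (hp : p.Prime) (hq : q.Prime) (hr : r.Prime) (hpq : p ≠ q) (hpr : p ≠ r) (hqr : q ≠ r) (ha : a ≤ 2) (hG : Nat.card G = p ^ a * q ^ b * r ^ c) : (∃ χ : Cfsg.IrrCharacter G, (χ : G → ℂ) ≠ (fun _ => 1) ∧ ∃ k : ℕ, Cfsg.charDegree (χ : G → ℂ) = q ^ k) ∧ ∃ χ : Cfsg.IrrCharacter G, (χ : G → ℂ) ≠ (fun _ => 1) ∧ ∃ k : ℕ, Cfsg.charDegree (χ : G → ℂ) = r ^ k := by
  classical
  have := Fintype.ofFinite G
  have := Fintype.ofFinite (ConjClasses G)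
  have hG0 : Nat.card G ≠ 0 := Nat.card_pos.ne'
  have key : ∀ q' r' b' c' : ℕ, q'.Prime → r'.Prime → p ≠ q' → p ≠ r' → q' ≠ r' →
      Nat.card G = p ^ a * q' ^ b' * r' ^ c' →
      ∃ χ : Cfsg.IrrCharacter G, (χ : G → ℂ) ≠ (fun _ => 1) ∧ ∃ k : ℕ, Cfsg.charDegree (χ : G → ℂ) = q' ^ k := by
    intro q' r' b' c' hq' hr' hpq' hpr' hqr' hcard
    have hfac : ∀ n : ℕ, n ∣ Nat.card G → ¬ p ∣ n → ¬ r' ∣ n → ∃ k, n = q' ^ k := by
      intro n hn h1 h2
      rw [hcard] at hn
      have h3 : n ∣ p ^ a * q' ^ b' :=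
        (Nat.Coprime.dvd_of_dvd_mul_right ((hr'.coprime_iff_not_dvd.mpr h2).symm.pow_right c') hn)
      have h4 : n ∣ q' ^ b' :=
        Nat.Coprime.dvd_of_dvd_mul_left ((hp.coprime_iff_not_dvd.mpr h1).symm.pow_right a) h3
      obtain ⟨k, -, hk⟩ := (Nat.dvd_prime_pow hq').mp h4
      exact ⟨k, hk⟩
    suffices h : ∃ χ : Cfsg.IrrCharacter G, χ ≠ CfsgLib.Characters.principalIrr G ∧
        ¬ p ∣ Cfsg.charDegree (χ : G → ℂ) ∧ ¬ r' ∣ Cfsg.charDegree (χ : G → ℂ) by
      obtain ⟨χ, h1, h2, h3⟩ := h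
      exact ⟨χ, fun h => h1 (Subtype.ext (h.trans rfl)), hfac _ (CfsgLib.ClassCount.degree_eq χ).2.1 h2 h3⟩
    have hne : ∀ (S : Finset (Cfsg.IrrCharacter G)) (w : Cfsg.IrrCharacter G → ℂ),
        CfsgLib.Characters.principalIrr G ∈ S →
        (∀ φ ∈ S, IsIntegral ℤ (w φ)) → w (CfsgLib.Characters.principalIrr G) = 1 →
        ∑ φ ∈ S, (Cfsg.charDegree (φ : G → ℂ) : ℂ) * w φ = 0 →
        ∃ χ ∈ S, χ ≠ CfsgLib.Characters.principalIrr G ∧ ¬ r' ∣ Cfsg.charDegree (χ : G → ℂ) := by
      intro S w h1 hw hw1 hsum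
      by_contra hcon
      push Not at hcon
      rw [← Finset.add_sum_erase _ _ h1] at hsum
      have hd1 : Cfsg.charDegree (CfsgLib.Characters.principalIrr G : G → ℂ) = 1 := by simp [Cfsg.charDegree]
      rw [hd1, Nat.cast_one, one_mul, hw1] at hsum
      choose! e he using fun φ (hφ : φ ∈ S.erase (CfsgLib.Characters.principalIrr G)) =>
        hcon φ (Finset.mem_of_mem_erase hφ) (Finset.ne_of_mem_erase hφ)
      have hI : IsIntegral ℤ (∑ φ ∈ S.erase (CfsgLib.Characters.principalIrr G), (e φ : ℂ) * w φ) :=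
        IsIntegral.sum _ fun φ hφ => (isIntegral_algebraMap (R := ℤ) (x := (e φ : ℤ))).mul (hw φ (Finset.mem_of_mem_erase hφ))
      have hdiv : IsIntegral ℤ (((1 : ℕ) : ℂ) / (r' : ℂ)) := by
        convert hI.neg using 1
        rw [div_eq_iff (Nat.cast_ne_zero.mpr hr'.ne_zero)]
        have h2 : ∑ φ ∈ S.erase (CfsgLib.Characters.principalIrr G), (Cfsg.charDegree (φ : G → ℂ) : ℂ) * w φ =
            (r' : ℂ) * ∑ φ ∈ S.erase (CfsgLib.Characters.principalIrr G), (e φ : ℂ) * w φ := by
          rw [Finset.mul_sum]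
          refine Finset.sum_congr rfl fun φ hφ => ?_
          rw [he φ hφ]; push_cast; ring
        rw [h2] at hsum
        push_cast
        linear_combination hsum
      exact hr'.not_dvd_one (CfsgLib.Characters.nat_dvd_of_isIntegral_div hr'.ne_zero hdiv)
    by_cases hpG : p ∣ Nat.card G
    · haveI := Fact.mk hp
      obtain ⟨M, hM⟩ := CfsgLib.Blk4.Modular.exists_isPModular p hp
      obtain ⟨x, hx⟩ := exists_prime_orderOf_dvd_card' p hpG
      have hB := CfsgLib.Blocks.isPBlock_principalBlock (G := G) M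
      have h1 : CfsgLib.Characters.principalIrr G ∈ Cfsg.principalBlock M G := by
        rw [CfsgLib.Blocks.principalBlock_eq]; exact CfsgLib.Blocks.mem_blockOf_self hM _
      have hm : CfsgLib.Contribution.minExp p (Cfsg.principalBlock M G) = 0 := by
        have := CfsgLib.Contribution.minExp_le (p := p) h1
        rw [show Cfsg.charDegree (CfsgLib.Characters.principalIrr G : G → ℂ) = 1 by simp [Cfsg.charDegree],
          Nat.factorization_one, Finsupp.coe_zero, Pi.zero_apply] at this
        omega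
      have hd : blockDefect p (Cfsg.principalBlock M G) ≤ 2 := by
        have h2 : blockDefect p (Cfsg.principalBlock M G) ≤ (Nat.card G).factorization p := Nat.sub_le _ _
        have h3 : (Nat.card G).factorization p = a := by
          rw [hcard, Nat.factorization_mul (Nat.mul_ne_zero (pow_ne_zero _ hp.ne_zero) (pow_ne_zero _ hq'.ne_zero))
            (pow_ne_zero _ hr'.ne_zero), Nat.factorization_mul (pow_ne_zero _ hp.ne_zero) (pow_ne_zero _ hq'.ne_zero),
            hp.factorization_pow, hq'.factorization_pow, hr'.factorization_pow]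
          simp [hpq'.symm, hpr'.symm, Finsupp.single_apply]
        omega
      obtain ⟨χ, hχS, hχ1, hχr⟩ := hne (Finset.univ.filter (· ∈ Cfsg.principalBlock M G))
        (fun φ => (starRingEnd ℂ) ((φ : G → ℂ) x)) (Finset.mem_filter.mpr ⟨Finset.mem_univ _, h1⟩)
        (fun φ _ => CfsgLib.Characters.isIntegral_conj (CfsgLib.ClassCount.irr_isIntegral φ x))
        (by simp) (by
          rw [← CfsgLib.Blocks.weak_orth hM hB (x := (1 : G)) (y := x) (by rw [orderOf_one]; exact hp.not_dvd_one)
            (by rw [hx])]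
          exact Finset.sum_congr rfl fun φ _ => by rw [(CfsgLib.ClassCount.degree_eq φ).1])
      refine ⟨χ, hχ1, ?_, hχr⟩
      rw [hp.dvd_iff_one_le_factorization (CfsgLib.ClassCount.degree_eq χ).2.2.ne',
        CfsgLib.Contribution.exp_eq_of_defect_le_two hM hB hd (Finset.mem_filter.mp hχS).2, hm]
      omega
    · have hpd : ∀ χ : Cfsg.IrrCharacter G, ¬ p ∣ Cfsg.charDegree (χ : G → ℂ) := fun χ h =>
        hpG (h.trans (CfsgLib.ClassCount.degree_eq χ).2.1)
      obtain ⟨χ, hχ⟩ : ∃ χ : Cfsg.IrrCharacter G, χ ≠ CfsgLib.Characters.principalIrr G := by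
        by_contra h
        push Not at h
        have hs := CfsgLib.Characters.sum_sq_degrees (G := G)
        rw [Finset.sum_eq_single (CfsgLib.Characters.principalIrr G) (fun b _ hb => absurd (h b) hb) (by simp)] at hs
        simp at hs
        have hcard1 : Nat.card G = 1 := by
          rw [Nat.card_eq_fintype_card]; exact_mod_cast hs.symm
        exact absurd hcard1 (Finite.one_lt_card (α := G)).ne'
      by_cases hrG : r' ∣ Nat.card G
      · by_contra hcon
        push Not at hcon
        have hs := CfsgLib.Characters.sum_sq_degrees (G := G)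
        have h2 : ∑ φ : Cfsg.IrrCharacter G, (Cfsg.charDegree (φ : G → ℂ)) ^ 2 = Nat.card G := by
          have h3 : ((∑ φ : Cfsg.IrrCharacter G, (Cfsg.charDegree (φ : G → ℂ)) ^ 2 : ℕ) : ℂ) = (Nat.card G : ℂ) := by
            rw [← hs]; push_cast
            exact Finset.sum_congr rfl fun φ _ => by rw [(CfsgLib.ClassCount.degree_eq φ).1]
          exact_mod_cast h3
        rw [← Finset.add_sum_erase _ _ (Finset.mem_univ (CfsgLib.Characters.principalIrr G))] at h2
        have h4 : r' ∣ ∑ φ ∈ (Finset.univ : Finset (Cfsg.IrrCharacter G)).erase (CfsgLib.Characters.principalIrr G),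
            (Cfsg.charDegree (φ : G → ℂ)) ^ 2 :=
          Finset.dvd_sum fun φ hφ => dvd_pow (hcon φ (Finset.ne_of_mem_erase hφ) (hpd φ)) two_ne_zero
        rw [← h2] at hrG
        have h5 := (Nat.dvd_add_left h4).mp hrG
        rw [show Cfsg.charDegree (CfsgLib.Characters.principalIrr G : G → ℂ) = 1 by simp [Cfsg.charDegree]] at h5
        exact hr'.not_dvd_one (by simpa using h5)
      · exact ⟨χ, hχ, hpd χ, fun h => hrG (h.trans (CfsgLib.ClassCount.degree_eq χ).2.1)⟩
  exact ⟨key q r b c hq hr hpq hpr hqr hG,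
    key r q c b hr hq hpr hpq hqr.symm (by rw [hG]; ring)⟩

end Cfsg.Agent.S4500
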