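import Cfsg.Statements.S4501
import Cfsg.Agent.Lib.PQOrders.Klein
import Cfsg.Agent.Lib.PQOrders.Three
import Cfsg.Agent.Lib.FewOrders.Prime
import Cfsg.Agent.S0494
import Cfsg.Agent.S0495

set_option autoImplicit false
open Cfsg

namespace Cfsg.Agent.S4501

/-- Let G be a non-abelian finite simple group and p, q distinct primes. If the order of G is 4·p^a·q^b with a ≤ 2, then G is isomorphic to the alternating group of degree 5. If the order of G is 3·p^a·q^b with a ≤ 2, then G is isomorphic to the alternating group of degree 5 or to PSL(2,7). -/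
theorem result {G : Type*} [Group G] [Finite G] [IsSimpleGroup G] (hna : ∃ x y : G, x * y ≠ y * x) (p q a b : ℕ) (hp : p.Prime) (hq : q.Prime) (hpq : p ≠ q) (ha : a ≤ 2) : (Nat.card G = 4 * p ^ a * q ^ b → Nonempty (G ≃* alternatingGroup (Fin 5))) ∧ (Nat.card G = 3 * p ^ a * q ^ b → Nonempty (G ≃* alternatingGroup (Fin 5)) ∨ Nonempty (G ≃* Matrix.ProjectiveSpecialLinearGroup (Fin 2) (ZMod 7))) := by
  classical
  haveI := Fintype.ofFinite G
  have hnc : ¬ IsMulCommutative G := CfsgLib.Small.nc_iff.2 fun h =>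
    let ⟨x, y, hxy⟩ := hna; hxy (h x y)
  -- more than two prime divisors
  have htwo : ∀ r s : ℕ, r.Prime → s.Prime →
      ¬ ∀ t : ℕ, t.Prime → t ∣ Nat.card G → t = r ∨ t = s := by
    intro r s hr hs h
    have hsol := CfsgLib.FewOrders.isSolvable_of_two_primes hr hs h
    exact CfsgLib.Small.nc_iff.1 hnc (IsSimpleGroup.comm_iff_isSolvable.2 hsol)
  -- no cyclic Sylow subgroup for the smallest prime
  have hcyc : ∀ r : ℕ, r.Prime → (Nat.card G).minFac = r → r ∣ Nat.card G →
      ¬ r ^ 2 ∣ Nat.card G → False := by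
    intro r hr hmin hd h2
    haveI := Fact.mk hr
    obtain ⟨P⟩ : Nonempty (Sylow r G) := inferInstance
    obtain ⟨m, hm⟩ := hd
    have hP : Nat.card (P : Subgroup G) = r := by
      simpa using CfsgLib.Small.card_sylow_of_card_eq (k := 1) (m := m) (by rw [hm, pow_one])
        (fun h => h2 (by rw [hm, sq]; exact Nat.mul_dvd_mul_left r h)) P
    haveI : IsCyclic (P : Subgroup G) := isCyclic_of_prime_card hP
    exact CfsgLib.Small.not_normalizer_le_centralizer hnc ⟨m, hm⟩ P
      (IsCyclic.normalizer_le_centralizer hmin inferInstance)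
  have hpos : ∀ (r : ℕ), r.Prime → ∀ k, r ∣ r ^ k → 1 ≤ k := by
    intro r hr k h
    by_contra hk
    rw [show k = 0 by omega, pow_zero] at h
    exact hr.not_dvd_one h
  constructor
  · intro hG
    have hsupp : ∀ l : ℕ, l.Prime → l ∣ p ^ a * q ^ b → l = p ∨ l = q := by
      intro l hl h
      rcases hl.dvd_mul.1 h with h | h
      · exact Or.inl ((Nat.prime_dvd_prime_iff_eq hl hp).1 (hl.dvd_of_dvd_pow h))
      · exact Or.inr ((Nat.prime_dvd_prime_iff_eq hl hq).1 (hl.dvd_of_dvd_pow h))
    have hall : ∀ l : ℕ, l.Prime → l ∣ Nat.card G → l = 2 ∨ l = p ∨ l = q := by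
      intro l hl h
      rw [hG, mul_assoc, show (4 : ℕ) = 2 ^ 2 by norm_num] at h
      rcases hl.dvd_mul.1 h with h | h
      · exact Or.inl ((Nat.prime_dvd_prime_iff_eq hl Nat.prime_two).1 (hl.dvd_of_dvd_pow h))
      · exact Or.inr (hsupp l hl h)
    by_cases hp2 : p = 2
    · exact absurd (fun l hl h => by rcases hall l hl h with h | h | h <;> simp [h, hp2])
        (htwo 2 q Nat.prime_two hq)
    by_cases hq2 : q = 2
    · exact absurd (fun l hl h => by rcases hall l hl h with h | h | h <;> simp [h, hq2])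
        (htwo 2 p Nat.prime_two hp)
    refine S0494.result (CfsgLib.PQOrders.card_eq_sixty hnc hp hq hpq hp2 hq2 (g₀ := p ^ a * q ^ b)
      ?_ (by rw [hG, mul_assoc]) hsupp)
    exact ((hp.odd_of_ne_two hp2).pow).mul ((hq.odd_of_ne_two hq2).pow)
  · intro hG
    have hall : ∀ l : ℕ, l.Prime → l ∣ Nat.card G → l = 3 ∨ (l = p ∧ 1 ≤ a) ∨ (l = q ∧ 1 ≤ b) := by
      intro l hl h
      rw [hG] at h
      rcases hl.dvd_mul.1 h with h | h
      · rcases hl.dvd_mul.1 h with h | h
        · exact Or.inl ((Nat.prime_dvd_prime_iff_eq hl Nat.prime_three).1 h)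
        · obtain rfl := (Nat.prime_dvd_prime_iff_eq hl hp).1 (hl.dvd_of_dvd_pow h)
          exact Or.inr (Or.inl ⟨rfl, hpos l hl a h⟩)
      · obtain rfl := (Nat.prime_dvd_prime_iff_eq hl hq).1 (hl.dvd_of_dvd_pow h)
        exact Or.inr (Or.inr ⟨rfl, hpos l hl b h⟩)
    have hp3 : p ≠ 3 := fun e => htwo 3 q Nat.prime_three hq fun l hl h => by
      rcases hall l hl h with h | ⟨h, -⟩ | ⟨h, -⟩ <;> simp [h, e]
    have hq3 : q ≠ 3 := fun e => htwo 3 p Nat.prime_three hp fun l hl h => by
      rcases hall l hl h with h | ⟨h, -⟩ | ⟨h, -⟩ <;> simp [h, e]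
    have ha1 : 1 ≤ a := by
      by_contra h0
      refine htwo 3 q Nat.prime_three hq fun l hl h => ?_
      rcases hall l hl h with h | ⟨-, h⟩ | ⟨h, -⟩
      · exact Or.inl h
      · exact absurd h h0
      · exact Or.inr h
    have hb1 : 1 ≤ b := by
      by_contra h0
      refine htwo 3 p Nat.prime_three hp fun l hl h => ?_
      rcases hall l hl h with h | ⟨h, -⟩ | ⟨-, h⟩
      · exact Or.inl h
      · exact Or.inr h
      · exact absurd h h0
    by_cases hq2 : q = 2
    · subst hq2
      rcases CfsgLib.PQOrders.card_three hnc hp hpq hp3 ha1 ha hb1 hG with h | h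
      · exact Or.inl (S0494.result h)
      · haveI : Fact (Nat.Prime 7) := ⟨by norm_num⟩
        exact Or.inr (S0495.result h (ZMod.card 7))
    have hqodd := Nat.odd_iff.1 (hq.odd_of_ne_two hq2)
    have hqbodd := Nat.odd_iff.1 ((hq.odd_of_ne_two hq2).pow (n := b))
    by_cases hp2 : p = 2
    · subst hp2
      rcases (show a = 1 ∨ a = 2 by omega) with rfl | rfl
      · exfalso
        refine hcyc 2 Nat.prime_two ((Nat.minFac_eq_two_iff _).2 ?_) ?_ ?_
        · rw [hG]; exact ⟨3 * q ^ b, by ring⟩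
        · rw [hG]; exact ⟨3 * q ^ b, by ring⟩
        · rw [hG]; omega
      · refine Or.inl (S0494.result (CfsgLib.PQOrders.card_eq_sixty hnc Nat.prime_three hq hq3.symm
          (by norm_num) hq2 (g₀ := 3 * q ^ b) ?_ (by rw [hG]; ring) fun l hl h => ?_))
        · exact (by decide : Odd 3).mul ((hq.odd_of_ne_two hq2).pow)
        · rcases hl.dvd_mul.1 h with h | h
          · exact Or.inl ((Nat.prime_dvd_prime_iff_eq hl Nat.prime_three).1 h)
          · exact Or.inr ((Nat.prime_dvd_prime_iff_eq hl hq).1 (hl.dvd_of_dvd_pow h))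
    · exfalso
      have hodd : Odd (Nat.card G) := by
        rw [hG]
        exact ((by decide : Odd 3).mul ((hp.odd_of_ne_two hp2).pow)).mul ((hq.odd_of_ne_two hq2).pow)
      have h3 : 3 ∣ Nat.card G := by rw [hG]; exact ⟨p ^ a * q ^ b, by ring⟩
      refine hcyc 3 Nat.prime_three ?_ h3 ?_
      · have hle := Nat.minFac_le_of_dvd (by norm_num) h3
        have hpr := Nat.minFac_prime (n := Nat.card G) (by
          rintro e; rw [e] at h3; norm_num at h3)
        have h2 := hpr.two_le
        rcases (show (Nat.card G).minFac = 2 ∨ (Nat.card G).minFac = 3 by omega) with h | h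
        · exfalso
          have := Nat.minFac_dvd (Nat.card G)
          rw [h] at this
          exact Nat.not_odd_iff_even.2 (even_iff_two_dvd.2 this) hodd
        · exact h
      · intro h
        rw [hG, sq, mul_assoc 3] at h
        have h' := Nat.dvd_of_mul_dvd_mul_left (by norm_num : 0 < 3) h
        rcases Nat.prime_three.dvd_mul.1 h' with h' | h'
        · exact hp3 ((Nat.prime_dvd_prime_iff_eq Nat.prime_three hp).1 (Nat.prime_three.dvd_of_dvd_pow h')).symm
        · exact hq3 ((Nat.prime_dvd_prime_iff_eq Nat.prime_three hq).1 (Nat.prime_three.dvd_of_dvd_pow h')).symm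

end Cfsg.Agent.S4501
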