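import Cfsg.Statements.S4502
import Cfsg.Agent.Lib.PrimeDefect.PPrimeCount
import Cfsg.Agent.Lib.KGV.Ito
import Cfsg.Agent.Lib.Characters.Decomp

set_option autoImplicit false
set_option linter.style.haveILetI false
open Cfsg

namespace Cfsg.Agent.S4502

open CfsgLib.PrimeDefect CfsgLib.SelfCentralPrime

universe u

variable {G : Type u} [Group G] {p : ℕ} [hp : Fact p.Prime] {x : G} {C V : Subgroup G}
variable (D : CfsgLib.PrimeDefect.Data p x C V)

include D

/-- The data inside the normaliser. -/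
theorem dataN [Finite G] :
    Data p (⟨x, Subgroup.le_normalizer (Subgroup.mem_zpowers x)⟩ : nrm x)
      (C.subgroupOf (nrm x)) (V.subgroupOf (nrm x)) := by
  refine ⟨?_, fun h => D.hsq (h.trans (Subgroup.card_subgroup_dvd_card _)), ?_, fun g => ?_⟩
  · rw [← Subgroup.orderOf_coe]
    exact D.hx
  · ext g
    rw [Subgroup.mem_centralizer_singleton_iff, Subgroup.mem_subgroupOf, D.mem_C_iff,
      Subtype.ext_iff]
    exact Iff.rfl
  · rw [Subgroup.mem_subgroupOf, Subgroup.mem_subgroupOf, D.hV, Subgroup.orderOf_coe]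

theorem nrm_top [Finite G] :
    nrm (⟨x, Subgroup.le_normalizer (Subgroup.mem_zpowers x)⟩ : nrm x) = ⊤ := by
  rw [eq_top_iff]
  rintro ⟨n, hn⟩ -
  refine Subgroup.mem_normalizer_fintype fun y hy => ?_
  obtain ⟨k, rfl⟩ := Subgroup.mem_zpowers_iff.1 hy
  obtain ⟨m, hm⟩ := Subgroup.mem_zpowers_iff.1
    ((Subgroup.mem_normalizer_iff.1 hn _).1 (Subgroup.zpow_mem _ (Subgroup.mem_zpowers x) k))
  exact ⟨m, Subtype.ext hm⟩

theorem mu_eq [Finite G] (n : nrm (⟨x, Subgroup.le_normalizer (Subgroup.mem_zpowers x)⟩ : nrm x)) :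
    (dataN D).mu n = D.mu (n : nrm x) := by
  refine Units.ext (D.pw_inj ?_)
  have h : (((n : nrm x) * ⟨x, Subgroup.le_normalizer (Subgroup.mem_zpowers x)⟩ *
      (n : nrm x)⁻¹ : nrm x) : G) = pw x ((dataN D).mu n : ZMod p) := by
    rw [(dataN D).mu_spec n, pw, pw, SubmonoidClass.coe_pow]
  rw [← h, ← D.mu_spec]
  rfl

end Cfsg.Agent.S4502

namespace Cfsg.Agent.S4502

open CfsgLib.PrimeDefect

/-- Let G be a finite group whose order is divisible by the prime p exactly once, and let P be a Sylow p-subgroup. Then the number of irreducible characters of G of degree not divisible by p equals the number of conjugacy classes of the normalizer of P. -/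
theorem result {G : Type*} [Group G] [Finite G] (p : ℕ) [Fact p.Prime] (hdiv : p ∣ Nat.card G) (hsq : ¬ p ^ 2 ∣ Nat.card G) (P : Sylow p G) : Nat.card {χ : Cfsg.IrrCharacter G // ¬ p ∣ Cfsg.charDegree (χ : G → ℂ)} = Nat.card (ConjClasses (Subgroup.normalizer ((P : Subgroup G) : Set G))) := by
  classical
  obtain ⟨M, hM⟩ := CfsgLib.KGV.exists_isPModular p Fact.out
  have h1 : (Nat.card G).factorization p = 1 := by
    have h2 := ((Fact.out : p.Prime).dvd_iff_one_le_factorization Nat.card_pos.ne').1 hdiv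
    have h3 : ¬ 2 ≤ (Nat.card G).factorization p := fun h =>
      hsq (((Fact.out : p.Prime).pow_dvd_iff_le_factorization Nat.card_pos.ne').2 h)
    omega
  have hPc : Nat.card (P : Subgroup G) = p := by rw [P.card_eq_multiplicity, h1, pow_one]
  obtain ⟨⟨x, hxP⟩, hxord⟩ := exists_prime_orderOf_dvd_card' (G := (P : Subgroup G)) p
    (dvd_of_eq hPc.symm)
  rw [Subgroup.orderOf_mk] at hxord
  have hPx : (P : Subgroup G) = Subgroup.zpowers x :=
    (Subgroup.eq_of_le_of_card_ge (Subgroup.zpowers_le.2 hxP)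
      (by rw [Nat.card_zpowers, hxord, hPc])).symm
  rw [hPx]
  change _ = Nat.card (ConjClasses (nrm x))
  obtain ⟨V, D⟩ := exists_data hxord hsq
  haveI := Fintype.ofFinite G
  set C := Subgroup.centralizer ({x} : Set G)
  haveI := Fintype.ofFinite C
  haveI := Fintype.ofFinite V
  haveI := Fintype.ofFinite (nrm x)
  have D' := dataN D
  haveI := Fintype.ofFinite (C.subgroupOf (nrm x))
  haveI := Fintype.ofFinite (V.subgroupOf (nrm x))
  have hG := D.card_pPrime hM
  have hN := D'.card_pPrime hM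
  -- all degrees of the normaliser are prime to `p`
  have hall : ∀ θ : Cfsg.IrrCharacter (nrm x), ¬ p ∣ Cfsg.charDegree (θ : nrm x → ℂ) := by
    intro θ hd
    set x' : nrm x := ⟨x, Subgroup.le_normalizer (Subgroup.mem_zpowers x)⟩
    have hnorm : (Subgroup.zpowers x').Normal :=
      Subgroup.normalizer_eq_top_iff.1 (nrm_top D)
    have hab : ∀ a ∈ Subgroup.zpowers x', ∀ b ∈ Subgroup.zpowers x', a * b = b * a := by
      intro a ha b hb
      obtain ⟨i, rfl⟩ := Subgroup.mem_zpowers_iff.1 ha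
      obtain ⟨j, rfl⟩ := Subgroup.mem_zpowers_iff.1 hb
      exact (Commute.refl x').zpow_zpow i j
    have hdvd := hd.trans (CfsgLib.KGV.irrDegree_dvd_abelian_index _ hnorm hab θ _
      (CfsgLib.LinearTwist.apply_one_eq_charDegree (CfsgLib.Characters.irr_isCharacter θ)))
    refine D'.hsq ?_
    rw [← (Subgroup.zpowers x').card_mul_index, Nat.card_zpowers, D'.hx, pow_two]
    exact mul_dvd_mul_left p hdvd
  rw [Nat.card_congr (Equiv.subtypeUnivEquiv hall),
    CfsgLib.Characters.card_irr_eq_card_conjClasses] at hN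
  -- both counts agree
  have hmem : ∀ n : nrm x, n ∈ nrm (⟨x, Subgroup.le_normalizer (Subgroup.mem_zpowers x)⟩ : nrm x) :=
    fun n => by rw [nrm_top D]; trivial
  have hrange : D'.muHom.range = D.muHom.range := by
    ext u
    constructor
    · rintro ⟨n, rfl⟩; exact ⟨(n : nrm x), (mu_eq D n).symm⟩
    · rintro ⟨n, rfl⟩; exact ⟨⟨n, hmem n⟩, mu_eq D _⟩
  let eV : V.subgroupOf (nrm x) ≃* V := Subgroup.subgroupOfEquivOfLe (D.V_le.trans D.C_le)
  let f : Cfsg.IrrCharacter V → Cfsg.IrrCharacter (V.subgroupOf (nrm x)) := fun β =>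
    ⟨fun v => (β : V → ℂ) (eV v),
      CfsgLib.Clifford.isIrrCharacter_pullback β.2 eV.toMonoidHom eV.surjective⟩
  let g : Cfsg.IrrCharacter (V.subgroupOf (nrm x)) → Cfsg.IrrCharacter V := fun β =>
    ⟨fun v => (β : V.subgroupOf (nrm x) → ℂ) (eV.symm v),
      CfsgLib.Clifford.isIrrCharacter_pullback β.2 eV.symm.toMonoidHom eV.symm.surjective⟩
  let eI : Cfsg.IrrCharacter V ≃ Cfsg.IrrCharacter (V.subgroupOf (nrm x)) :=
    { toFun := f
      invFun := g
      left_inv := fun β => Subtype.ext (funext fun v => congrArg (β : V → ℂ) (eV.apply_symm_apply v))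
      right_inv := fun β => Subtype.ext (funext fun v =>
        congrArg (β : V.subgroupOf (nrm x) → ℂ) (eV.symm_apply_apply v)) }
  have hcj : ∀ (n : nrm (⟨x, Subgroup.le_normalizer (Subgroup.mem_zpowers x)⟩ : nrm x))
      (β : Cfsg.IrrCharacter V), D'.cj n (eI β) = eI (D.cj (n : nrm x) β) := fun n β =>
    Subtype.ext (funext fun v => congrArg (β : V → ℂ) (Subtype.ext rfl))
  have hexp : ∀ β, D'.expH (eI β) = D.expH β := by
    intro β
    ext u
    rw [D'.mem_expH, D.mem_expH]
    constructor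
    · rintro ⟨n, hn, rfl⟩
      exact ⟨(n : nrm x), eI.injective ((hcj n β).symm.trans hn), (mu_eq D n).symm⟩
    · rintro ⟨n, hn, rfl⟩
      exact ⟨⟨n, hmem n⟩, (hcj _ β).trans (congrArg eI hn), mu_eq D _⟩
  refine mul_left_cancel₀ (Nat.card_pos (α := D.muHom.range)).ne' ?_
  rw [hG]
  rw [hrange] at hN
  rw [hN, ← eI.sum_comp]
  simp only [hexp]

end Cfsg.Agent.S4502
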