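import Cfsg.Statements.S4506
import Cfsg.Agent.Lib.Blk7.PConjugate
import Cfsg.Agent.Lib.BlockCover.Regular
import Cfsg.Agent.Lib.Blocks.WeakOrth

set_option autoImplicit false
open Cfsg

namespace Cfsg.Agent.S4506

/-- Let G be a finite group, p a prime, p^a the p-part of the order of G and g′ its p′-part. Call two irreducible characters p-conjugate when one is obtained from the other by applying a field automorphism of ℂ that fixes the g′-th roots of unity, and let r be the number of characters p-conjugate to the irreducible character χ (χ included). Then the exponent of p in r·χ(1) is at most a; and if p^a divides r·χ(1) then p^a already divides χ(1). -/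
theorem result {G : Type*} [Group G] [Finite G] (p : ℕ) (hp : p.Prime) (χ : Cfsg.IrrCharacter G) (r : ℕ) (hr : Nat.card {ψ : Cfsg.IrrCharacter G // ∃ σ : ℂ ≃+* ℂ, σ (Complex.exp (2 * Real.pi * Complex.I / ((Nat.card G / p ^ (Nat.card G).factorization p) : ℕ))) = Complex.exp (2 * Real.pi * Complex.I / ((Nat.card G / p ^ (Nat.card G).factorization p) : ℕ)) ∧ (ψ : G → ℂ) = fun g => σ ((χ : G → ℂ) g)} = r) : (r * Cfsg.charDegree (χ : G → ℂ)).factorization p ≤ (Nat.card G).factorization p ∧ (p ^ (Nat.card G).factorization p ∣ r * Cfsg.charDegree (χ : G → ℂ) → p ^ (Nat.card G).factorization p ∣ Cfsg.charDegree (χ : G → ℂ)) := by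
  classical
  have := Fintype.ofFinite G
  have : Fact p.Prime := ⟨hp⟩
  have hro : r = (CfsgLib.PConj.orbit p χ).card := by
    rw [← hr, CfsgLib.PConj.orbit, Nat.card_eq_fintype_card, Fintype.card_subtype]
    rfl
  have hd := CfsgLib.ClassCount.degree_eq χ
  rcases Nat.eq_zero_or_eq_succ_pred ((Nat.card G).factorization p) with ha | hb
  · have h1 : (CfsgLib.PConj.orbit p χ).card = 1 := by
      rw [Finset.card_eq_one]
      refine ⟨χ, Finset.eq_singleton_iff_unique_mem.2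
        ⟨CfsgLib.PConj.mem_orbit.2 (CfsgLib.PConj.conj_self p χ), fun ψ hψ =>
          CfsgLib.PConj.eq_of_conj_of_factorization_eq_zero ha (CfsgLib.PConj.mem_orbit.1 hψ)⟩⟩
    rw [hro, h1, one_mul, ha]
    have hv : (Cfsg.charDegree (χ : G → ℂ)).factorization p ≤ (Nat.card G).factorization p :=
      (Nat.factorization_le_iff_dvd hd.2.2.ne' Nat.card_pos.ne').2 hd.2.1 p
    exact ⟨ha ▸ hv, fun _ => by simp⟩
  set b := ((Nat.card G).factorization p).pred
  have hb' : (Nat.card G).factorization p = b + 1 := hb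
  have hdvd := CfsgLib.PConj.orbit_mul_degree_dvd hp hb' χ
  rw [← hro] at hdvd
  have hp1 : ¬ p ∣ p - 1 := fun h => by
    have := hp.two_le
    have h2 := Nat.le_of_dvd (by omega) h
    omega
  have hr0 : r ≠ 0 := by rw [hro]; exact (CfsgLib.PConj.orbit_card_pos p χ).ne'
  refine ⟨?_, fun hpa => ?_⟩
  · have hpm : p - 1 ≠ 0 := by have := hp.two_le; omega
    have h := (Nat.factorization_le_iff_dvd (Nat.mul_ne_zero hr0 hd.2.2.ne')
      (Nat.mul_ne_zero Nat.card_pos.ne' hpm)).2 hdvd p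
    rwa [Nat.factorization_mul Nat.card_pos.ne' hpm, Finsupp.add_apply,
      Nat.factorization_eq_zero_of_not_dvd hp1, add_zero] at h
  obtain ⟨t, ht⟩ := hpa
  obtain ⟨M, hM⟩ := CfsgLib.BlockCover.exists_isPModular hp
  choose w hwi hw using CfsgLib.PConj.orbitSum_divisible hp hb' χ
  set Y : Set (Cfsg.IrrCharacter G) := ↑(CfsgLib.PConj.orbit p χ)
  set q := Nat.card G / p ^ (Nat.card G).factorization p
  have hq : ¬ p ∣ q * (p - 1) := hp.not_dvd_mul (Nat.not_dvd_ordCompl hp Nat.card_pos.ne') hp1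
  have hY1 : ∀ ψ ∈ CfsgLib.PConj.orbit p χ, (ψ : G → ℂ) 1 = (χ : G → ℂ) 1 := fun ψ hψ =>
    CfsgLib.PConj.conj_apply_one (CfsgLib.PConj.mem_orbit.1 hψ)
  have hcoeff : ∀ g : G, Cfsg.blockCoeff Y g =
      (Nat.card G : ℂ)⁻¹ * ((χ : G → ℂ) 1 * starRingEnd ℂ (CfsgLib.PConj.orbitSum p χ g)) := by
    intro g
    rw [CfsgLib.Blocks.blockCoeff_eq_sum, CfsgLib.PConj.orbitSum, map_sum, Finset.mul_sum (a := (χ : G → ℂ) 1)]
    congr 1
    refine Finset.sum_congr (by ext ψ; simp [Y]) fun ψ hψ => ?_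
    rw [hY1 ψ hψ]
  have hYint : ∀ g : G, Cfsg.MemLocalRing M (Cfsg.blockCoeff Y g) := by
    intro g
    have h2 : Cfsg.blockCoeff Y g =
        ((t : ℕ) : ℂ) * ((q * (p - 1) : ℕ) : ℂ)⁻¹ * starRingEnd ℂ (w g) := by
      have hw' := congrArg (starRingEnd ℂ) (hw g)
      rw [map_mul, map_mul, Complex.conj_natCast, Complex.conj_natCast, ← hro] at hw'
      have ht' : (r : ℂ) * (χ : G → ℂ) 1 = (p : ℂ) ^ (Nat.card G).factorization p * t := by
        rw [hd.1]; exact_mod_cast ht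
      have hn : (Nat.card G : ℂ) = (p : ℂ) ^ (Nat.card G).factorization p * q := by
        exact_mod_cast CfsgLib.PConj.card_eq_mul (G := G) p
      have hP : (p : ℂ) ^ (Nat.card G).factorization p ≠ 0 :=
        pow_ne_zero _ (Nat.cast_ne_zero.2 hp.ne_zero)
      have hq0 : (q : ℂ) ≠ 0 := Nat.cast_ne_zero.2 fun h => hq (by rw [h, zero_mul]; exact dvd_zero p)
      have hp0 : ((p - 1 : ℕ) : ℂ) ≠ 0 :=
        Nat.cast_ne_zero.2 fun h => hq (by rw [h, mul_zero]; exact dvd_zero p)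
      rw [hcoeff, hn, Nat.cast_mul]
      field_simp
      linear_combination (χ : G → ℂ) 1 * hw' + starRingEnd ℂ (w g) * ht'
    rw [h2]
    exact (CfsgLib.Blocks.lRing hM).mul_mem ((CfsgLib.Blocks.lRing hM).mul_mem
      (natCast_mem (CfsgLib.Blocks.lRing hM) _) (CfsgLib.Blocks.inv_natCast_mem_lRing hM hq))
      (CfsgLib.Blocks.isIntegral_mem_lRing hM (CfsgLib.Characters.isIntegral_conj (hwi g)))
  -- the orbit sum vanishes on the singular elements
  have hsing : ∀ y : G, p ∣ orderOf y → CfsgLib.PConj.orbitSum p χ y = 0 := by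
    intro y hy
    have h0 : ∑ ψ ∈ CfsgLib.PConj.orbit p χ, (ψ : G → ℂ) 1 * starRingEnd ℂ ((ψ : G → ℂ) y) = 0 := by
      rw [← Finset.sum_fiberwise_of_maps_to (g := fun ψ : Cfsg.IrrCharacter G =>
        Cfsg.blockOf M (ψ : G → ℂ)) (t := (CfsgLib.PConj.orbit p χ).image fun ψ : Cfsg.IrrCharacter G =>
        Cfsg.blockOf M (ψ : G → ℂ)) (fun ψ hψ => Finset.mem_image_of_mem _ hψ)]
      refine Finset.sum_eq_zero fun B hB => ?_
      obtain ⟨ψ₀, hψ₀, rfl⟩ := Finset.mem_image.1 hB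
      rw [← CfsgLib.Blocks.weak_orth hM (CfsgLib.Blocks.isPBlock_blockOf ψ₀) (x := 1)
        (by rw [orderOf_one]; exact hp.not_dvd_one) hy]
      refine Finset.sum_congr ?_ fun _ _ => rfl
      ext ψ
      simp only [Finset.mem_filter, Finset.mem_univ, true_and]
      refine ⟨fun h => h.2 ▸ CfsgLib.Blocks.mem_blockOf_self hM ψ, fun h => ⟨?_, ?_⟩⟩
      · exact Finset.mem_coe.1 (CfsgLib.Blocks.blockOf_subset_of_coeff hM hYint
          (Finset.mem_coe.2 hψ₀) h)
      · exact (CfsgLib.Blocks.blockOf_eq_of_sameBlock hM h).symm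
    have h1 : starRingEnd ℂ (CfsgLib.PConj.orbitSum p χ y) * (χ : G → ℂ) 1 = 0 := by
      rw [← h0, CfsgLib.PConj.orbitSum, map_sum, Finset.sum_mul]
      refine Finset.sum_congr rfl fun ψ hψ => ?_
      rw [hY1 ψ hψ, mul_comm]
    simpa [CfsgLib.Characters.irr_one_ne_zero χ] using h1
  -- restrict to a Sylow subgroup
  obtain ⟨P⟩ : Nonempty (Sylow p G) := inferInstance
  obtain ⟨m, hm⟩ := CfsgLib.ClassCount.exists_mult χ (P : Subgroup G)
  have hsame : ∀ ψ ∈ CfsgLib.PConj.orbit p χ,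
      ∑ s : (P : Subgroup G), (ψ : G → ℂ) (s : G)⁻¹ = ∑ s : (P : Subgroup G), (χ : G → ℂ) (s : G)⁻¹ := by
    intro ψ hψ
    obtain ⟨k, -, hk, -, hkψ⟩ := CfsgLib.PConj.exists_exp (CfsgLib.PConj.mem_orbit.1 hψ)
    have hcop : (Nat.card (P : Subgroup G)).Coprime k :=
      (hk.coprime_dvd_right (Subgroup.card_subgroup_dvd_card _)).symm
    refine Fintype.sum_equiv (powCoprime hcop) _ _ fun s => ?_
    rw [hkψ, CfsgLib.PConj.twist, inv_pow]
    simp
  have h2 : ∑ s : (P : Subgroup G), CfsgLib.PConj.orbitSum p χ (s : G)⁻¹ =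
      CfsgLib.PConj.orbitSum p χ 1 := by
    rw [Finset.sum_eq_single (1 : (P : Subgroup G))]
    · simp
    · intro s _ hs
      refine hsing _ ?_
      obtain ⟨j, hj⟩ := IsPGroup.iff_orderOf.1 P.isPGroup' s
      rw [orderOf_inv, Subgroup.orderOf_coe, hj]
      refine dvd_pow_self p ?_
      rintro rfl
      exact hs (orderOf_eq_one_iff.1 (by rw [hj, pow_zero]))
    · simp
  simp only [CfsgLib.PConj.orbitSum] at h2
  rw [Finset.sum_comm, Finset.sum_congr rfl hsame, Finset.sum_congr rfl hY1, Finset.sum_const,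
    Finset.sum_const, hm, hd.1, P.card_eq_multiplicity, nsmul_eq_mul, nsmul_eq_mul, ← hro] at h2
  refine ⟨m, ?_⟩
  have h3 := mul_left_cancel₀ (Nat.cast_ne_zero.2 hr0 : (r : ℂ) ≠ 0) h2
  exact_mod_cast h3.symm

end Cfsg.Agent.S4506
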