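import Cfsg.Statements.S4507
import Cfsg.Agent.Lib.PrimeDefect.Galois

set_option autoImplicit false
open Cfsg

namespace Cfsg.Agent.S4507

/-- Let G be a finite group whose order g is divisible by the prime p exactly once, g′ = g/p, and fix a maximal ideal M of the algebraic integers containing p. Call two irreducible characters p-conjugate when a field automorphism of ℂ fixing the g′-th roots of unity carries one to the other. Let B be a p-block of positive defect (its defect group is a Sylow p-subgroup). Then B contains a subset Y (the exceptional family) such that: Y is a full p-conjugacy class (its members are pairwise p-conjugate and every p-conjugate of a member of Y lies in Y); every member of B outside Y is p-conjugate only to itself; the size t of Y divides p − 1 and B has exactly t + (p − 1)/t members; and there are signs δ_χ = ±1 (χ ∈ B) such that for every p-regular element x and every θ ∈ Y, Σ_{χ ∈ B ∖ Y} δ_χ χ(x) + δ_θ θ(x)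 = 0. -/
theorem result {G : Type*} [Group G] [Finite G] (p : ℕ) [Fact p.Prime] (M : Ideal Cfsg.AlgInt) (hM : Cfsg.IsPModular p M) (hdiv : p ∣ Nat.card G) (hsq : ¬ p ^ 2 ∣ Nat.card G) (B : Set (Cfsg.IrrCharacter G)) (hB : Cfsg.IsPBlock M B) (hd : 0 < Cfsg.blockDefect p B) : ∃ Y : Set (Cfsg.IrrCharacter G), Y ⊆ B ∧ Y.Nonempty ∧ (∀ θ ∈ Y, ∀ ψ : Cfsg.IrrCharacter G, (∃ σ : ℂ ≃+* ℂ, σ (Complex.exp (2 * Real.pi * Complex.I / ((Nat.card G / p ^ (Nat.card G).factorization p) : ℕ))) = Complex.exp (2 * Real.pi * Complex.I / ((Nat.card G / p ^ (Nat.card G).factorization p) : ℕ)) ∧ (ψ : G → ℂ) = fun g => σ ((θ : G → ℂ) g)) ↔ ψ ∈ Y) ∧ (∀ χ ∈ B, χ ∉ Y → ∀ ψ : Cfsg.IrrCharacter G, (∃ σ : ℂ ≃+* ℂ, σ (Complex.exp (2 * Real.pi * Complex.I / ((Nat.card G / p ^ (Nat.card G).factorization p) : ℕ))) = Complex.exp (2 * Real.pi * Complex.I / ((Nat.card G / p ^ (Nat.card G).factorization p) : ℕ)) ∧ (ψ : G → ℂ) = fun g => σ ((χ : G → ℂ) g)) → ψ = χ) ∧ Nat.card Y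 ∣ p - 1 ∧ Nat.card B = Nat.card Y + (p - 1) / Nat.card Y ∧ ∃ δ : Cfsg.IrrCharacter G → ℤ, (∀ χ ∈ B, δ χ = 1 ∨ δ χ = -1) ∧ ∀ x : G, ¬ p ∣ orderOf x → ∀ θ ∈ Y, (∑ᶠ χ ∈ B \ Y, (δ χ : ℂ) * (χ : G → ℂ) x) + (δ θ : ℂ) * (θ : G → ℂ) x = 0 := by
  classical
  obtain ⟨x, hx⟩ := exists_prime_orderOf_dvd_card' p hdiv
  obtain ⟨V, D⟩ := CfsgLib.PrimeDefect.exists_data hx hsq
  have := Fintype.ofFinite G
  have := Fintype.ofFinite (Subgroup.centralizer ({x} : Set G))
  have := Fintype.ofFinite V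
  obtain ⟨β, hβ⟩ := D.exists_hits_of_defect hM hB hd
  obtain ⟨F⟩ := D.exists_family hM hB hd hβ
  have := Fintype.ofFinite (D.Orbits β)
  have hYcard : Nat.card (Set.range F.θ) = Nat.card (D.Orbits β) :=
    Nat.card_range_of_injective F.θ_injective
  have hmul := D.card_expH_mul β
  have hpos : 0 < Nat.card (D.Orbits β) := Nat.card_pos
  refine ⟨Set.range F.θ, ?_, Set.range_nonempty _, ?_, ?_, ?_, ?_,
    fun χ => if χ ∈ Set.range F.θ then -F.ε else F.sign χ, fun χ hχ => ?_, ?_⟩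
  · rintro _ ⟨q, rfl⟩
    exact F.θ_mem q
  · rintro _ ⟨q, rfl⟩ ψ
    constructor
    · intro h
      obtain ⟨k, -, hcop, hk, hψ⟩ := CfsgLib.PConj.exists_exp (p := p) (χ := F.θ q) (ψ := ψ) h
      have hk0 : (k : ZMod p) ≠ 0 := fun h0 => (Fact.out : p.Prime).ne_one (Nat.eq_one_of_dvd_one
        (hcop ▸ Nat.dvd_gcd ((ZMod.natCast_eq_zero_iff k p).1 h0)
          (D.hx ▸ orderOf_dvd_natCard x)))
      exact ⟨_, (F.twist_θ hM hB hd hβ q hk hψ (Units.mk0 _ hk0) (Units.val_mk0 hk0)).symm⟩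
    · rintro ⟨r, rfl⟩
      obtain ⟨κ, hκ⟩ := QuotientGroup.mk_surjective (r * q⁻¹)
      obtain ⟨k, hcop, hk, hκk⟩ := D.exists_power κ
      obtain ⟨ψ, hconj, hψ⟩ := CfsgLib.PConj.conj_twist (F.θ q) hcop hk
      have he := F.twist_θ hM hB hd hβ q hk hψ κ hκk
      rw [hκ, inv_mul_cancel_right] at he
      rw [he] at hconj
      exact hconj
  · intro χ hχ hχY ψ h
    refine F.twist_X hM hB hd hβ ?_ h
    exact ((F.mem_iff χ).1 hχ).resolve_right hχY
  · rw [hYcard]
    exact Dvd.intro_left _ hmul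
  · rw [hYcard, F.card_block, ← hmul, Nat.mul_div_left _ hpos, add_comm]
  · dsimp only
    by_cases h : χ ∈ Set.range F.θ
    · rw [if_pos h]
      rcases F.ε_spec with h' | h' <;> simp [h']
    · rw [if_neg h]
      exact F.sign_spec χ (((F.mem_iff χ).1 hχ).resolve_right h)
  · rintro y hy _ ⟨q, rfl⟩
    have hset : B \ Set.range F.θ = ↑F.X := by
      ext χ
      simp only [Set.mem_sdiff, Finset.mem_coe]
      refine ⟨fun h => ((F.mem_iff χ).1 h.1).resolve_right h.2,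
        fun h => ⟨F.mem_of_mem_X h, ?_⟩⟩
      rintro ⟨r, rfl⟩
      exact F.θ_notMem r h
    dsimp only
    rw [hset, finsum_mem_coe_finset, if_pos (Set.mem_range_self q)]
    rw [Finset.sum_congr rfl (g := fun χ : Cfsg.IrrCharacter G => (F.sign χ : ℂ) * (χ : G → ℂ) y)
      fun χ hχ => by rw [if_neg (by rintro ⟨r, rfl⟩; exact F.θ_notMem r hχ)], F.relation y hy q]
    push_cast
    ring

end Cfsg.Agent.S4507
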