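import Cfsg.Statements.S4514
import Cfsg.Agent.Lib.ConstDiff.Final
import Cfsg.Agent.Lib.ConstDiff.Converse
import Cfsg.Agent.Lib.Blocks.Kernel
import Cfsg.Agent.S0967

set_option autoImplicit false
open Cfsg

namespace Cfsg.Agent.S4514

open CfsgLib CfsgLib.Characters CfsgLib.Blocks

universe v

/-- The condition on the nonprincipal characters of the principal block passes to the quotient by a
normal subgroup of odd order. -/
theorem reduce_quotient {G : Type v} [Group G] [Fintype G] {M : Ideal AlgInt} (hM : IsPModular 2 M)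
    (N : Subgroup G) [N.Normal] (hN : ¬ 2 ∣ Nat.card N) (u : G) (k : ℂ) :
    (∀ χ : IrrCharacter G, χ ∈ principalBlock M G → (χ : G → ℂ) ≠ (fun _ => 1) →
        (χ : G → ℂ) 1 - (χ : G → ℂ) u = k) ↔
    (∀ φ : IrrCharacter (G ⧸ N), φ ∈ principalBlock M (G ⧸ N) →
        (φ : G ⧸ N → ℂ) ≠ (fun _ => 1) →
        (φ : G ⧸ N → ℂ) 1 - (φ : G ⧸ N → ℂ) (u : G ⧸ N) = k) := by
  classical
  haveI : Fact (Nat.Prime 2) := ⟨Nat.prime_two⟩
  constructor
  · intro h φ hφ hne
    let χ : IrrCharacter G := ⟨_, Clifford.isIrrCharacter_pullback φ.2 (QuotientGroup.mk' N)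
      (QuotientGroup.mk'_surjective N)⟩
    have hmem : χ ∈ principalBlock M G :=
      Cfsg.Agent.S4736.inflation_mem hM N φ hφ χ fun g => rfl
    have h1 := h χ hmem fun e => hne (funext fun l => by
      obtain ⟨g, rfl⟩ := QuotientGroup.mk'_surjective N l
      exact congrFun e g)
    exact h1
  · intro h χ hχ hne
    have hpr : (principalIrr (G ⧸ N) : G ⧸ N → ℂ) = fun _ => 1 :=
      funext fun _ => principalIrr_apply _
    obtain ⟨φ, hφ, hsame⟩ := Cfsg.Agent.S0967.result 2 M hM N hN (principalIrr (G ⧸ N)) χ (by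
      rw [hpr]; exact hχ)
    have hmem : φ ∈ principalBlock M (G ⧸ N) := by rw [hpr] at hsame; exact hsame
    have hne' : (φ : G ⧸ N → ℂ) ≠ fun _ => 1 :=
      fun e => hne (hφ.trans (funext fun g => congrFun e _))
    have h1 := h φ hmem hne'
    rw [hφ]
    exact h1

/-- Let G be a finite group, u an element of G, and fix a maximal ideal M of the algebraic integers containing 2 (defining the 2-blocks). There is a complex number k with χ(1) − χ(u) = k for every non-principal irreducible character χ in the principal 2-block if and only if one of the following holds: u lies in O(G); or G/O(G) has order 2 and u ∉ O(G); or G/O(G) ≅ PSL(2, 2ⁿ) for some n ≥ 2, u ∉ O(G) and u² ∈ O(G). -/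
theorem result {G : Type*} [Group G] [Finite G] (M : Ideal Cfsg.AlgInt) (hM : Cfsg.IsPModular 2 M) (u : G) :
    (∃ k : ℂ, ∀ χ : Cfsg.IrrCharacter G, χ ∈ Cfsg.principalBlock M G → (χ : G → ℂ) ≠ (fun _ => 1) →
        (χ : G → ℂ) 1 - (χ : G → ℂ) u = k) ↔
      (u ∈ Cfsg.oddCore G ∨ (Nat.card (G ⧸ Cfsg.oddCore G) = 2 ∧ u ∉ Cfsg.oddCore G) ∨
        (∃ (F : Type) (_ : Field F) (_ : Fintype F) (n : ℕ), 2 ≤ n ∧ Fintype.card F = 2 ^ n ∧
          Nonempty (G ⧸ Cfsg.oddCore G ≃* Matrix.ProjectiveSpecialLinearGroup (Fin 2) F) ∧ u ∉ Cfsg.oddCore G ∧ u ^ 2 ∈ Cfsg.oddCore G)) := by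
  classical
  haveI : Fintype G := Fintype.ofFinite G
  haveI : Fact (Nat.Prime 2) := ⟨Nat.prime_two⟩
  have hN : ¬ 2 ∣ Nat.card (Cfsg.oddCore G) := CfsgLib.PCore.not_dvd_card_pPrimeCore
  have hmk : ∀ g : G, (g : G ⧸ Cfsg.oddCore G) = 1 ↔ g ∈ Cfsg.oddCore G := fun g =>
    QuotientGroup.eq_one_iff g
  constructor
  · rintro ⟨k, hk⟩
    by_cases hu : u ∈ Cfsg.oddCore G
    · exact Or.inl hu
    rw [reduce_quotient hM _ hN] at hk
    have hpr : ∀ φ : IrrCharacter (G ⧸ Cfsg.oddCore G), φ ≠ principalIrr _ →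
        (φ : G ⧸ Cfsg.oddCore G → ℂ) ≠ fun _ => 1 := fun φ h e =>
      h (Subtype.ext (e.trans (funext fun g => (principalIrr_apply g).symm)))
    have H : CfsgLib.ConstDiff.Hyp M (u : G ⧸ Cfsg.oddCore G) k :=
      ⟨hM, CfsgLib.PCore.pPrimeCore_quotient_pPrimeCore, fun e => hu ((hmk u).1 e),
        fun φ hφ => hk φ (CfsgLib.ConstDiff.mem_rest.1 hφ).2
          (hpr φ (CfsgLib.ConstDiff.mem_rest.1 hφ).1)⟩
    rcases H.forward with h2 | ⟨husq, F, iF, iFF, n, hn, hF, hiso⟩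
    · exact Or.inr (Or.inl ⟨h2, hu⟩)
    · refine Or.inr (Or.inr ⟨F, iF, iFF, n, hn, hF, hiso, hu, (hmk _).1 ?_⟩)
      rw [QuotientGroup.mk_pow, husq]
  · intro h
    rcases h with hu | ⟨h2, hu⟩ | ⟨F, iF, iFF, n, hn, hF, ⟨e⟩, hu, hu2⟩
    · refine ⟨0, (reduce_quotient hM _ hN u 0).2 fun φ _ _ => ?_⟩
      rw [(hmk u).2 hu, sub_self]
    · refine ⟨2, (reduce_quotient hM _ hN u 2).2 fun φ _ hne => ?_⟩
      haveI : IsCyclic (G ⧸ Cfsg.oddCore G) := isCyclic_of_prime_card (p := 2) h2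
      have hdeg : (φ : G ⧸ Cfsg.oddCore G → ℂ) 1 = 1 := CfsgLib.CharIto.degree_one_of_comm φ.2
      obtain ⟨f, hf⟩ := CfsgLib.LinearExt.exists_unitsHom (irr_isCharacter φ) hdeg
      have hv1 : (u : G ⧸ Cfsg.oddCore G) ≠ 1 := fun e => hu ((hmk u).1 e)
      have hall : ∀ l : G ⧸ Cfsg.oddCore G, l = 1 ∨ l = (u : G ⧸ Cfsg.oddCore G) := by
        intro l
        by_contra hc
        push Not at hc
        have h3 : ({1, (u : G ⧸ Cfsg.oddCore G), l} : Finset _).card ≤ 2 :=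
          le_trans (Finset.card_le_univ _) (le_of_eq ((Nat.card_eq_fintype_card).symm.trans h2))
        rw [Finset.card_eq_three.2 ⟨1, (u : G ⧸ Cfsg.oddCore G), l, hv1.symm, hc.1.symm,
          hc.2.symm, rfl⟩] at h3
        omega
      have hvv : (u : G ⧸ Cfsg.oddCore G) ^ 2 = 1 := by
        have h := pow_card_eq_one' (x := (u : G ⧸ Cfsg.oddCore G))
        rwa [h2] at h
      have hfu : ((f (u : G ⧸ Cfsg.oddCore G) : ℂˣ) : ℂ) = -1 := by
        have h4 : ((f (u : G ⧸ Cfsg.oddCore G) : ℂˣ) : ℂ) *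
            (f (u : G ⧸ Cfsg.oddCore G) : ℂˣ) = 1 := by
          rw [← Units.val_mul, ← map_mul, ← pow_two, hvv, map_one, Units.val_one]
        refine (mul_self_eq_one_iff.1 h4).resolve_left fun h5 => hne ?_
        rw [hf]
        funext l
        rcases hall l with rfl | rfl
        · simp
        · exact h5
      rw [hdeg, congrFun hf (u : G ⧸ Cfsg.oddCore G), hfu]
      norm_num
    · refine ⟨((2 ^ n : ℕ) : ℂ), (reduce_quotient hM _ hN u _).2 fun φ _ hne => ?_⟩
      exact CfsgLib.ConstDiff.diff_of_psl hn hF e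
        (by rw [← QuotientGroup.mk_pow]; exact (hmk _).2 hu2) (fun h => hu ((hmk u).1 h)) φ hne

end Cfsg.Agent.S4514
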