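import Cfsg.Statements.S4518
import Cfsg.Agent.Lib.Characters.Clifford
import Cfsg.Agent.Lib.Characters.Galois
import Mathlib.GroupTheory.Perm.Cycle.Type

set_option autoImplicit false
open Cfsg

namespace Cfsg.Agent.S4518

/-- Let N be a normal subgroup of the finite group G whose index is not divisible by the prime p, and let k be coprime to the order of G with k ^ (p ^ e) ≡ 1 modulo the order of G for some e (so g ↦ g ^ k induces a field automorphism of p-power order on character values). If an irreducible character χ of G satisfies χ (g ^ k) = χ g for all g, then every irreducible constituent θ of the restriction of χ to N satisfies θ (n ^ k) = θ n for all n. -/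
theorem result {G : Type*} [Group G] [Fintype G] (p : ℕ) [Fact p.Prime] (N : Subgroup G) [N.Normal] [Fintype N] (hidx : ¬ p ∣ N.index) (k e : ℕ) (hk : Nat.Coprime k (Nat.card G)) (hke : k ^ (p ^ e) ≡ 1 [MOD Nat.card G]) (χ : Cfsg.IrrCharacter G) (hχ : ∀ g : G, (χ : G → ℂ) (g ^ k) = (χ : G → ℂ) g) (θ : Cfsg.IrrCharacter N) (hθ : Cfsg.classInner (fun n : N => (χ : G → ℂ) n) (θ : N → ℂ) ≠ 0) : ∀ n : N, (θ : N → ℂ) (n ^ k) = (θ : N → ℂ) n := by
  classical
  have hN : N.Normal := inferInstance
  have hp : p.Prime := Fact.out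
  have hkN : k.Coprime (Nat.card N) := hk.coprime_dvd_right (Subgroup.card_subgroup_dvd_card N)
  let e0 : N ≃ N := powCoprime hkN.symm
  have hcl : IsClassFunction G (χ : G → ℂ) := CfsgLib.Characters.irr_isClassFunction χ
  let S := (CfsgLib.Clifford.conjOrbit_finite hN (θ : N → ℂ)).toFinset
  have hS : ∀ ψ : N → ℂ, ψ ∈ S ↔ ∃ g : G, ψ = CfsgLib.Clifford.conjChar hN (θ : N → ℂ) g := by
    intro ψ; exact (CfsgLib.Clifford.conjOrbit_finite hN (θ : N → ℂ)).mem_toFinset
  have hT : ∀ ψ ∈ S, (fun n : N => ψ (n ^ k)) ∈ S := by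
    intro ψ hψ
    obtain ⟨g, rfl⟩ := (hS ψ).1 hψ
    rw [hS]
    have hirr := CfsgLib.Clifford.isIrrCharacter_conjChar hN θ.2 g
    refine CfsgLib.Clifford.exists_conj_of_constituent hN χ.2 θ.2
      (CfsgLib.CharGalois.isIrrCharacter_pow hirr hkN) hθ ?_
    have h1 : classInner (fun n : N => (χ : G → ℂ) n)
        (fun n : N => CfsgLib.Clifford.conjChar hN (θ : N → ℂ) g (n ^ k)) =
        classInner (fun n : N => (χ : G → ℂ) n) (CfsgLib.Clifford.conjChar hN (θ : N → ℂ) g) := by
      unfold Cfsg.classInner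
      congr 1
      refine Fintype.sum_equiv e0 _ _ fun n => ?_
      simp only [e0, powCoprime_apply, SubgroupClass.coe_pow, hχ]
    rw [h1, CfsgLib.Clifford.classInner_res_conjChar hN hcl]
    exact hθ
  let F : S → S := fun ψ => ⟨fun n => ψ.1 (n ^ k), hT ψ.1 ψ.2⟩
  have hiter : ∀ (j : ℕ) (ψ : S) (n : N), (F^[j] ψ).1 n = ψ.1 (n ^ k ^ j) := by
    intro j
    induction j with
    | zero => intro ψ n; simp
    | succ j ih =>
      intro ψ n
      rw [Function.iterate_succ_apply, ih, pow_succ, pow_mul]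
  have hid : F^[p ^ e] = id := by
    funext ψ
    apply Subtype.ext
    funext n
    rw [hiter, id]
    congr 1
    have h1 : orderOf n ∣ Nat.card G := (orderOf_dvd_natCard n).trans (Subgroup.card_subgroup_dvd_card N)
    have h2 := hke.of_dvd h1
    rw [pow_eq_pow_iff_modEq.mpr h2, pow_one]
  have hbij : Function.Bijective F := by
    have hpos : 0 < p ^ e := pow_pos hp.pos _
    obtain ⟨j, hj⟩ : ∃ j, p ^ e = j + 1 := ⟨p ^ e - 1, by omega⟩
    rw [hj] at hid
    exact ⟨Function.Injective.of_comp (f := F^[j]) (by rw [← Function.iterate_succ, hid]; exact Function.injective_id),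
      Function.Surjective.of_comp (g := F^[j]) (by rw [← Function.iterate_succ', hid]; exact Function.surjective_id)⟩
  let σ : Equiv.Perm S := Equiv.ofBijective F hbij
  have hσpow : ∀ (j : ℕ) (ψ : S), (σ ^ j) ψ = F^[j] ψ := by
    intro j ψ
    rw [Equiv.Perm.coe_pow]; rfl
  have hσ : σ ^ p ^ e = 1 := Equiv.ext fun ψ => by rw [hσpow, hid]; rfl
  have hmod := Equiv.Perm.card_compl_support_modEq (p := p) (n := e) hσ
  have hne : σ.supportᶜ.Nonempty := by
    rw [← Finset.card_pos]
    by_contra h0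
    have h1 : σ.supportᶜ.card = 0 := by omega
    rw [h1, Fintype.card_coe] at hmod
    have h2 : p ∣ S.card := Nat.modEq_zero_iff_dvd.mp hmod.symm
    rw [CfsgLib.Clifford.card_conjOrbit] at h2
    exact hidx (h2.trans (Subgroup.index_dvd_of_le (CfsgLib.Clifford.le_inertia hN
      (CfsgLib.Characters.irr_isClassFunction θ))))
  obtain ⟨ψ, hψ⟩ := hne
  rw [Finset.mem_compl, Equiv.Perm.notMem_support] at hψ
  obtain ⟨g, hg⟩ := (hS ψ.1).1 ψ.2
  intro m
  have h := congrFun (congrArg Subtype.val hψ) ⟨g⁻¹ * m * g, hN.conj_mem' m m.2 g⟩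
  change ψ.1 (_ ^ k) = ψ.1 _ at h
  rw [hg] at h
  simp only [CfsgLib.Clifford.conjChar, SubgroupClass.coe_pow] at h
  convert h using 2
  · apply Subtype.ext
    simp only [SubgroupClass.coe_pow]
    rw [← conj_pow]
    congr 1
    group
  · apply Subtype.ext
    simp [mul_assoc]

end Cfsg.Agent.S4518
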