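import Cfsg.Statements.S4519
import Cfsg.Agent.Lib.Blk7.OddExtensionGlobal

set_option autoImplicit false
open Cfsg

namespace Cfsg.Agent.S4519

/-- Let N be a normal subgroup of odd index in the finite group G, and let k be coprime to the order of G with k ^ (2 ^ e) ≡ 1 modulo the order of G for some e and g ^ k = g⁻¹ for every element g of odd order (so g ↦ g ^ k induces a field automorphism of 2-power order inverting the roots of unity of odd order). If an irreducible character θ of N satisfies θ (n ^ k) = θ n for all n, then there is exactly one irreducible character χ of G with θ a constituent of its restriction to N and χ (g ^ k) = χ g for all g; moreover, if θ is invariant under conjugation by G, that χ restricts to θ. -/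
theorem result {G : Type*} [Group G] [Fintype G] (N : Subgroup G) [hN : N.Normal] [Fintype N] (hidx : Odd N.index) (k e : ℕ) (hk : Nat.Coprime k (Nat.card G)) (hke : k ^ (2 ^ e) ≡ 1 [MOD Nat.card G]) (hk₂ : ∀ g : G, Odd (orderOf g) → g ^ k = g⁻¹) (θ : Cfsg.IrrCharacter N) (hθ : ∀ n : N, (θ : N → ℂ) (n ^ k) = (θ : N → ℂ) n) : ∃ χ : Cfsg.IrrCharacter G, (Cfsg.classInner (fun n : N => (χ : G → ℂ) n) (θ : N → ℂ) ≠ 0 ∧ (∀ g : G, (χ : G → ℂ) (g ^ k) = (χ : G → ℂ) g) ∧ ((∀ g : G, ∀ n : N, (θ : N → ℂ) ⟨g * n * g⁻¹, hN.conj_mem n n.2 g⟩ = (θ : N → ℂ) n) → ∀ n : N, (χ : G → ℂ) n = (θ : N → ℂ) n)) ∧ ∀ χ' : Cfsg.IrrCharacter G, Cfsg.classInner (fun n : N => (χ' : G → ℂ) n) (θ : N → ℂ) ≠ 0 → (∀ g : G, (χ' : G → ℂ) (g ^ k) = (χ' : G → ℂ) g) → χ' = χ := by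
  classical
  have hD : CfsgLib.OddExt.PowData k G := ⟨hk, hk₂⟩
  set T := CfsgLib.Clifford.inertia hN (θ : N → ℂ) with hT
  have hNT : N ≤ T := CfsgLib.Clifford.le_inertia hN (CfsgLib.Characters.irr_isClassFunction θ)
  let e : N.subgroupOf T ≃* N := Subgroup.subgroupOfEquivOfLe hNT
  have hθ' : Cfsg.IsIrrCharacter (N.subgroupOf T) (fun x => (θ : N → ℂ) (e x)) :=
    CfsgLib.Clifford.isIrrCharacter_pullback θ.2 e.toMonoidHom e.surjective
  have hodd' : Odd (N.subgroupOf T).index :=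
    hidx.of_dvd_nat (Subgroup.relIndex_dvd_index_of_normal N T)
  obtain ⟨ψ, hψ, hψn, hψf⟩ := CfsgLib.OddExt.exists_fixed (hD.sub T) (N.subgroupOf T) hodd'
    (θ := fun x => (θ : N → ℂ) (e x)) hθ'
    (fun x => by rw [map_pow, hθ])
    (fun g x => CfsgLib.Clifford.mem_inertia.1 g.2 (e x))
  have hres : ∀ n : N, ψ (Subgroup.inclusion hNT n) = (θ : N → ℂ) n := fun n =>
    hψn ⟨⟨(n : G), hNT n.2⟩, n.2⟩
  obtain ⟨hirr, -, hmult, -⟩ := CfsgLib.LinearTwist.indFun_irr_of_inertia hN θ.2 T hT hNT hψ hres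
  -- the power map on an induced character
  have hind : ∀ (f : T → ℂ) (g : G),
      Cfsg.indFun T f (g ^ k) = Cfsg.indFun T (fun y => f (y ^ k)) g := by
    intro f g
    show (Nat.card T : ℂ)⁻¹ * _ = (Nat.card T : ℂ)⁻¹ * _
    congr 1
    refine Finset.sum_congr rfl fun x _ => ?_
    have hc : x⁻¹ * g ^ k * x = (x⁻¹ * g * x) ^ k := by
      have := (conj_pow (i := k) (a := x⁻¹) (b := g))
      rw [inv_inv] at this
      exact this.symm
    rw [hc, Cfsg.extendByZero, Cfsg.extendByZero]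
    by_cases hm : x⁻¹ * g * x ∈ T
    · exact (Subtype.val_injective.extend_apply f 0 ⟨_, T.pow_mem hm k⟩).trans
        (Subtype.val_injective.extend_apply (fun y : T => f (y ^ k)) 0 ⟨_, hm⟩).symm
    · have hm' : (x⁻¹ * g * x) ^ k ∉ T := fun hp => hm (by
        obtain ⟨m, hm'⟩ := exists_pow_eq_self_of_coprime (x := x⁻¹ * g * x)
          (hD.cop.coprime_dvd_right (orderOf_dvd_natCard _))
        rw [← hm']
        exact T.pow_mem hp m)
      exact (Function.extend_apply' f (0 : G → ℂ) ((x⁻¹ * g * x) ^ k) fun ⟨y, hy⟩ => hm' (hy ▸ y.2)).trans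
        (Function.extend_apply' (fun y : T => f (y ^ k)) (0 : G → ℂ) (x⁻¹ * g * x)
          fun ⟨y, hy⟩ => hm (hy ▸ y.2)).symm
  have hfix : ∀ g : G, Cfsg.indFun T ψ (g ^ k) = Cfsg.indFun T ψ g := fun g => by
    rw [hind, funext hψf]
  refine ⟨⟨_, hirr⟩, ⟨?_, hfix, fun hinv n => ?_⟩, fun χ' hover' hf' => ?_⟩
  · show Cfsg.classInner (fun n : N => Cfsg.indFun T ψ n) (θ : N → ℂ) ≠ 0
    rw [hmult]
    exact one_ne_zero
  · have horb : (CfsgLib.Clifford.conjOrbit_finite hN (θ : N → ℂ)).toFinset = {(θ : N → ℂ)} := by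
      ext φ
      rw [Set.Finite.mem_toFinset, Finset.mem_singleton]
      refine ⟨?_, fun h => ⟨1, h.trans (CfsgLib.Clifford.conjChar_one hN _).symm⟩⟩
      rintro ⟨g, rfl⟩
      exact funext (hinv g)
    have h := CfsgLib.Clifford.clifford hN hirr θ.2 (by rw [hmult]; exact one_ne_zero)
    rw [horb, Finset.sum_singleton, hmult, one_smul] at h
    exact congrFun h n
  · obtain ⟨ψ', hψ', hind', hmult'⟩ :=
      CfsgLib.Clifford.correspondence hN θ.2 T hT hNT χ'.2 hover'
    have hpow : Cfsg.IsIrrCharacter T (fun y => ψ' (y ^ k)) :=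
      CfsgLib.CharGalois.isIrrCharacter_pow hψ' (hD.sub T).cop
    have o1 : Cfsg.classInner (fun n : N => ψ' (Subgroup.inclusion hNT n)) (θ : N → ℂ) ≠ 0 := by
      rw [show (fun n : N => ψ' (Subgroup.inclusion hNT n)) =
        fun n : N => ψ' ⟨(n : G), hNT n.2⟩ from rfl, hmult']
      exact hover'
    have hcopN : (Nat.card N).Coprime k :=
      (hD.cop.coprime_dvd_right (Subgroup.card_subgroup_dvd_card N)).symm
    have o2 : Cfsg.classInner (fun n : N => ψ' ((Subgroup.inclusion hNT n) ^ k)) (θ : N → ℂ) ≠ 0 := by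
      have heq : Cfsg.classInner (fun n : N => ψ' ((Subgroup.inclusion hNT n) ^ k)) (θ : N → ℂ) =
          Cfsg.classInner (fun n : N => ψ' (Subgroup.inclusion hNT n)) (θ : N → ℂ) := by
        unfold Cfsg.classInner
        congr 1
        refine Fintype.sum_equiv (powCoprime hcopN) _ _ fun n => ?_
        simp only [powCoprime_apply]
        rw [map_pow, hθ]
      rw [heq]; exact o1
    have hind'' : Cfsg.indFun T (fun y => ψ' (y ^ k)) = (χ' : G → ℂ) := funext fun g => by
      rw [← hind, hind', hf']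
    have hψeq := CfsgLib.OddExt.indFun_inj N θ.2 T hT hNT χ'.2
      (ψ := ⟨_, hpow⟩) (ψ' := ⟨ψ', hψ'⟩) hind'' hind' o2 o1
    have hf'' : ∀ y : T, ψ' (y ^ k) = ψ' y := fun y => congrFun (congrArg Subtype.val hψeq) y
    have hkey := CfsgLib.OddExt.eq_of_fixed (hD.sub T) (N.subgroupOf T) hodd' hψ'
      (CfsgLib.Characters.isCharacter_of_irr hψ)
      ((funext hψn : (fun x : N.subgroupOf T => ψ x) = fun x => (θ : N → ℂ) (e x)) ▸ hθ')
      hf'' hψf (by
        rw [(funext hψn : (fun x : N.subgroupOf T => ψ x) = fun x => (θ : N → ℂ) (e x))]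
        have heq : Cfsg.classInner (fun x : N.subgroupOf T => ψ' x)
            (fun x => (θ : N → ℂ) (e x)) =
            Cfsg.classInner (fun n : N => ψ' (Subgroup.inclusion hNT n)) (θ : N → ℂ) := by
          unfold Cfsg.classInner
          rw [Nat.card_congr e.toEquiv]
          congr 1
          exact Fintype.sum_equiv e.toEquiv _ _ fun x => rfl
        rw [heq]; exact o1)
    exact Subtype.ext (hind'.symm.trans (by rw [hkey]))

end Cfsg.Agent.S4519
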