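import Cfsg.Statements.S4520
import Cfsg.Agent.Lib.Blk4.PrincipalTwo
import Cfsg.Agent.Lib.BlockCover.Basic
import Cfsg.Agent.Lib.Characters.Counting

set_option autoImplicit false
set_option linter.style.haveILetI false
open Cfsg

namespace Cfsg.Agent.S4520

open CfsgLib.Blocks CfsgLib.Characters CfsgLib.PrincipalSq CfsgLib.BlockCover
open scoped ComplexConjugate

theorem classInner_principal {G : Type*} [Group G] [Fintype G] (N : Subgroup G) [Fintype N] :
    classInner (fun n : N => (principalIrr G : G → ℂ) n) (principalIrr N : N → ℂ) ≠ 0 := by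
  have h := classInner_irr_self (χ := (principalIrr N : N → ℂ)) (principalIrr N).2
  have e : (fun n : N => (principalIrr G : G → ℂ) n) = (principalIrr N : N → ℂ) := by
    funext n; simp [principalIrr_apply]
  rw [e, h]; exact one_ne_zero

theorem result {G : Type*} [Group G] [Fintype G] (M : Ideal Cfsg.AlgInt) (hM : Cfsg.IsPModular 2 M) (N : Subgroup G) [N.Normal] [Fintype N] (hidx : Odd N.index) (k e : ℕ) (hk : Nat.Coprime k (Nat.card G)) (hke : k ^ (2 ^ e) ≡ 1 [MOD Nat.card G]) (hk₂ : ∀ g : G, Odd (orderOf g) → g ^ k = g⁻¹) (θ : Cfsg.IrrCharacter N) (hθ : ∀ n : N, (θ : N → ℂ) (n ^ k) = (θ : N → ℂ) n) (χ : Cfsg.IrrCharacter G) (hχ : ∀ g : G, (χ : G → ℂ) (g ^ k) = (χ : G → ℂ) g) (hover : Cfsg.classInner (fun n : N => (χ : G → ℂ) n) (θ : N → ℂ) ≠ 0) : χ ∈ Cfsg.principalBlock M G ↔ θ ∈ Cfsg.principalBlock M N := by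
  classical
  have hBG := isPBlock_principalBlock (G := G) M
  have hBN := isPBlock_principalBlock (G := N) M
  have h1G : principalIrr G ∈ principalBlock M G := by
    rw [principalBlock_eq]; exact mem_blockOf_self hM _
  have h1N : principalIrr N ∈ principalBlock M N := by
    rw [principalBlock_eq]; exact mem_blockOf_self hM _
  constructor
  · intro h
    have hsb : SameBlock M (χ : G → ℂ) (principalIrr G : G → ℂ) :=
      (IsPBlock.mem_iff hM hBG h _).1 h1G
    obtain ⟨g, θ', hθ', heq⟩ := mem_orbitSet_of_congr N hM hBN h1N (ψ := θ)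
      (fun n => induced_congr_of_cover N hM
        (CfsgLib.Blocks.SameBlock.symm hM hsb) (classInner_principal N) hover n)
    rw [← heq]
    rw [principalBlock_eq] at hθ' ⊢
    have h3 := sameBlock_twistIrr (M := M) (MulAut.conjNormal (H := N) g) hθ'
    intro n
    have h4 := h3 n
    exact h4
  · intro h
    have hN : ∀ n : N, MemLocalIdeal M (centralChar (χ : G → ℂ) (n : G) -
        centralChar (principalIrr G : G → ℂ) (n : G)) := by
      intro n
      rw [(CfsgLib.CharCorr.constituent_iff_centralChar N χ θ).1 hover n]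
      have := MemLocalIdeal.neg hM
        (congr_of_covers N hM hBG hBN h1G h1N (classInner_principal N) h1G h n)
      rwa [neg_sub] at this
    by_contra hχB
    haveI := IsPModular.isMaximal hM
    haveI := charP_residue hM
    set a := blockCoeff (principalBlock M G)
    have hz := blockIdem_mem_center (principalBlock M G)
    have h2 := omega_blockIdem (principalBlock M G) χ
    rw [if_neg hχB, omega_eq_sum_classes χ hz] at h2
    have h3 := omega_blockIdem (principalBlock M G) (principalIrr G)
    rw [if_pos h1G, omega_eq_sum_classes _ hz] at h3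
    simp only [coeff_blockIdem] at h2 h3
    have ht : ∀ c : ConjClasses G, a c.out * (centralChar (χ : G → ℂ) c.out -
        centralChar (principalIrr G : G → ℂ) c.out) ∈ lRing hM := fun c =>
      mul_mem (memLocalRing_blockCoeff hM hBG _)
        (sub_mem (centralChar_mem_lRing hM χ _) (centralChar_mem_lRing hM _ _))
    let f : ConjClasses G → AlgInt ⧸ M := fun c => lRes hM ⟨_, ht c⟩
    let iv : ConjClasses G → ConjClasses G := fun c => ConjClasses.mk c.out⁻¹
    have hiv : ∀ c, IsConj (iv c).out c.out⁻¹ := fun c =>
      ConjClasses.mk_eq_mk_iff_isConj.1 (Quotient.out_eq _)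
    -- classes meeting `N` contribute nothing
    have hfN : ∀ c, c.out ∈ N → f c = 0 := by
      intro c hc
      refine (lRes_eq_zero_iff hM _).2 ?_
      exact MemLocalIdeal.mul_left hM (memLocalRing_blockCoeff hM hBG _) (hN ⟨c.out, hc⟩)
    have hfinv : ∀ c, f (iv c) = f c := by
      intro c
      refine congrArg (lRes hM) (Subtype.ext ?_)
      show a (iv c).out * _ = a c.out * _
      have ha : a (iv c).out = a c.out := by
        simp only [a]
        rw [blockCoeff_of_isConj _ (hiv c), CfsgLib.Blk4.blockCoeff_principal_inv]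
      rw [ha, centralChar_of_isConj χ (hiv c), centralChar_of_isConj (principalIrr G) (hiv c)]
      by_cases hreg : Odd (orderOf c.out)
      · congr 1
        simp only [centralChar, CfsgLib.Blk4.index_centralizer_inv, principalIrr_apply]
        rw [← hk₂ _ hreg, hχ]
      · have : a c.out = 0 := blockCoeff_eq_zero_of_singular hM hBG
          (even_iff_two_dvd.1 (Nat.not_odd_iff_even.1 hreg))
        rw [this, zero_mul, zero_mul]
    have hsum : ∑ c, f c = 0 := by
      refine Finset.sum_involution (fun c _ => iv c) (fun c _ => ?_) (fun c _ hc hfix => hc ?_)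
        (fun c _ => Finset.mem_univ _) (fun c _ => ?_)
      · rw [hfinv]; exact CharTwo.add_self_eq_zero _
      · apply hfN
        have hconj : IsConj c.out c.out⁻¹ := by
          have := hiv c
          rwa [show iv c = c from hfix] at this
        rw [← QuotientGroup.eq_one_iff]
        refine CfsgLib.Characters.eq_one_of_isConj_inv ?_ ?_
        · rw [← Subgroup.index_eq_card]; exact hidx
        · have := (QuotientGroup.mk' N).map_isConj hconj
          simpa using this
      · show iv (iv c) = c
        conv_rhs => rw [← Quotient.out_eq c]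
        refine ConjClasses.mk_eq_mk_iff_isConj.2 ?_
        obtain ⟨w, hw⟩ := isConj_iff.1 (hiv c)
        exact isConj_iff.2 ⟨w, by rw [← conj_inv, hw, inv_inv]⟩
    have h4 : (∑ c, (⟨_, ht c⟩ : lRing hM)) = -1 := by
      refine Subtype.ext ?_
      simp only [AddSubmonoidClass.coe_finset_sum, NegMemClass.coe_neg, OneMemClass.coe_one, a,
        mul_sub, Finset.sum_sub_distrib, h2, h3, zero_sub]
    have h5 := congrArg (lRes hM) h4
    rw [map_sum, map_neg, map_one] at h5
    change ∑ c, f c = -1 at h5
    rw [hsum, eq_comm, neg_eq_zero] at h5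
    exact one_ne_zero h5

end Cfsg.Agent.S4520
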