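import Cfsg.Statements.S4521
import Cfsg.Agent.Lib.Blk4.CentralProduct

set_option autoImplicit false
open Cfsg

namespace Cfsg.Agent.S4521

open CfsgLib.Blocks CfsgLib.Blk4.CentralProduct CfsgLib.PrincipalSq

/-- Let the finite group G be generated by subgroups U₁ and U₂ that commute elementwise and whose intersection is a p-group, and let M be a maximal ideal of the algebraic integers containing the prime p. If the irreducible character χ of G has the irreducible constituents ψ₁ on U₁ and ψ₂ on U₂, then χ lies in the principal block of G if and only if ψ₁ and ψ₂ lie in the principal blocks of U₁ and U₂. -/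
theorem result {G : Type*} [Group G] [Fintype G] (p : ℕ) [Fact p.Prime] (M : Ideal Cfsg.AlgInt) (hM : Cfsg.IsPModular p M) (U₁ U₂ : Subgroup G) [Fintype U₁] [Fintype U₂] (hcomm : ∀ u ∈ U₁, ∀ v ∈ U₂, u * v = v * u) (hgen : U₁ ⊔ U₂ = ⊤) (hZ : IsPGroup p ↥(U₁ ⊓ U₂)) (χ : Cfsg.IrrCharacter G) (ψ₁ : Cfsg.IrrCharacter U₁) (ψ₂ : Cfsg.IrrCharacter U₂) (h₁ : Cfsg.classInner (fun u : U₁ => (χ : G → ℂ) u) (ψ₁ : U₁ → ℂ) ≠ 0) (h₂ : Cfsg.classInner (fun u : U₂ => (χ : G → ℂ) u) (ψ₂ : U₂ → ℂ) ≠ 0) : χ ∈ Cfsg.principalBlock M G ↔ (ψ₁ ∈ Cfsg.principalBlock M U₁ ∧ ψ₂ ∈ Cfsg.principalBlock M U₂) := by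
  classical
  have hgen' : U₂ ⊔ U₁ = ⊤ := sup_comm U₁ U₂ ▸ hgen
  have hcomm' : ∀ v ∈ U₂, ∀ u ∈ U₁, v * u = u * v := fun v hv u hu => (hcomm u hu v hv).symm
  refine ⟨fun h => ⟨principal_left U₁ U₂ hcomm hgen χ ψ₁ h₁ h,
    principal_left U₂ U₁ hcomm' hgen' χ ψ₂ h₂ h⟩, fun ⟨hb₁, hb₂⟩ => ?_⟩
  refine CfsgLib.Blk4.CentralizedPQuot.mem_principal_of_regular hM χ fun g hg => ?_
  obtain ⟨u, v, rfl, hu, hv⟩ := exists_regular_mul U₁ U₂ hcomm hgen hg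
  have h1 := hb₁ u
  have h2 := hb₂ v
  rw [centralChar_principal] at h1 h2 ⊢
  have hmem : centralChar (ψ₂ : U₂ → ℂ) v ∈ lRing hM := centralChar_mem_lRing hM ψ₂ v
  have key := MemLocalIdeal.add hM
    (MemLocalIdeal.mul_left hM hmem h1)
    (MemLocalIdeal.mul_left hM
      (x := (((Subgroup.centralizer ({u} : Set U₁)).index : ℕ) : ℂ)) (natCast_mem (lRing hM) _) h2)
  convert key using 1
  have hval : (χ : G → ℂ) ((u : G) * v) / (χ : G → ℂ) 1 =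
      ((ψ₁ : U₁ → ℂ) u / (ψ₁ : U₁ → ℂ) 1) * ((ψ₂ : U₂ → ℂ) v / (ψ₂ : U₂ → ℂ) 1) := by
    rw [value_mul U₁ U₂ hcomm hgen χ u v, ← ratio_left U₁ U₂ hcomm hgen χ ψ₁ h₁ u,
      ← ratio_left U₂ U₁ hcomm' hgen' χ ψ₂ h₂ v]
    ring
  simp only [centralChar]
  rw [index_mul U₁ U₂ hcomm hgen hZ u v hu, mul_div_assoc _ ((χ : G → ℂ) _), hval, Nat.cast_mul]
  ring

end Cfsg.Agent.S4521
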