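import Cfsg.Statements.S4530
import Cfsg.Agent.Lib.QuatDefect.Main
-- import your own Cfsg.Agent.* helpers here

set_option autoImplicit false
open Cfsg

namespace Cfsg.Agent.S4530

/-- Let B be a 2-block of the finite group G (relative to a maximal ideal M of the algebraic integers containing 2) whose defect group D is generalized quaternion of order 2 ^ n, n ≥ 3. Then its 2-regular rank l is between 1 and 3, the number of irreducible characters in B is l + 2 ^ (n - 2) + 2, exactly four members have height zero, and every other member has height one or height n - 2; when n ≥ 4 exactly 2 ^ (n - 2) - 1 members have height one. -/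
theorem result {G : Type*} [Group G] [Finite G] (M : Ideal Cfsg.AlgInt) (hM : Cfsg.IsPModular 2 M) (B : Set (Cfsg.IrrCharacter G)) (hB : Cfsg.IsPBlock M B) (D : Subgroup G) (hD : Cfsg.IsDefectGroup 2 M B D) (n : ℕ) (hn : 3 ≤ n) (hq : Nonempty (D ≃* QuaternionGroup (2 ^ (n - 2)))) : 1 ≤ Cfsg.blockRank 2 B ∧ Cfsg.blockRank 2 B ≤ 3 ∧ Nat.card B = Cfsg.blockRank 2 B + 2 ^ (n - 2) + 2 ∧ Nat.card {χ : Cfsg.IrrCharacter G // χ ∈ B ∧ Cfsg.blockHeight 2 B (χ : G → ℂ) = 0} = 4 ∧ (∀ χ ∈ B, Cfsg.blockHeight 2 B (χ : G → ℂ) = 0 ∨ Cfsg.blockHeight 2 B (χ : G → ℂ) = 1 ∨ Cfsg.blockHeight 2 B (χ : G → ℂ) = n - 2) ∧ (4 ≤ n → Nat.card {χ : Cfsg.IrrCharacter G // χ ∈ B ∧ Cfsg.blockHeight 2 B (χ : G → ℂ) = 1} = 2 ^ (n - 2) - 1) := by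
  have := hM.2.1
  haveI : Fact (Nat.Prime 2) := ⟨Nat.prime_two⟩
  letI : Fintype G := Fintype.ofFinite G
  obtain ⟨m, hm, rfl⟩ : ∃ m, 1 ≤ m ∧ n = m + 2 := ⟨n - 2, by omega, by omega⟩
  simp only [Nat.add_sub_cancel] at hq ⊢
  obtain ⟨e⟩ := hq
  haveI : NeZero (2 ^ m) := ⟨(Nat.two_pow_pos m).ne'⟩
  set φ : QuaternionGroup (2 ^ m) →* G := D.subtype.comp e.symm.toMonoidHom
  have hφ : Function.Injective φ := D.subtype_injective.comp e.symm.injective
  have hrel : φ (QuaternionGroup.xa 0) * φ (QuaternionGroup.a 1) * (φ (QuaternionGroup.xa 0))⁻¹ =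
      φ (QuaternionGroup.a 1) ^ (-1 : ℤ) := by
    rw [zpow_neg_one, ← map_inv, ← map_inv, ← map_mul, ← map_mul]
    refine congrArg φ (mul_inv_eq_iff_eq_mul.2 ?_)
    rw [QuaternionGroup.xa_mul_a, show (QuaternionGroup.a (1 : ZMod (2 * 2 ^ m)))⁻¹ =
      QuaternionGroup.a (-1) from rfl, QuaternionGroup.a_mul_xa]
    simp
  have hsq : φ (QuaternionGroup.xa 0) * φ (QuaternionGroup.xa 0) =
      φ (QuaternionGroup.a 1) ^ (2 ^ m) := by
    rw [← map_mul, ← map_pow, QuaternionGroup.a_one_pow, ← sq, QuaternionGroup.xa_sq]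
  let S : CfsgLib.QuatDefect.QD D m :=
    { σ := φ (QuaternionGroup.a 1)
      τ := φ (QuaternionGroup.xa 0)
      a := -1
      one_le := hm
      a_eq := Or.inl rfl
      σ_mem := (e.symm _).2
      τ_mem := (e.symm _).2
      ord := by rw [orderOf_injective φ hφ, QuaternionGroup.orderOf_a_one]
      rel := hrel
      τ_sq := Or.inr hsq
      notMem := fun h => by
        obtain ⟨k, hk⟩ := mem_powers_iff_mem_zpowers.2 h
        simp only at hk
        rw [← map_pow, QuaternionGroup.a_one_pow] at hk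
        exact absurd (hφ hk) (by simp)
      card := by
        rw [Nat.card_congr e.toEquiv, Nat.card_eq_fintype_card, QuaternionGroup.card, Nat.add_sub_cancel] }
  have hτ : S.τ * S.τ = S.z := by
    rw [CfsgLib.QuatDefect.QD.z, S.rot_natCast]; exact hsq
  obtain ⟨h1, h2, h3, h4, h5, h6⟩ := CfsgLib.QuatDefect.main_quaternion hM hB hD S rfl hτ
  exact ⟨h1, h2, h3, h4, h5, fun h => h6 (by omega)⟩

end Cfsg.Agent.S4530
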