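import Cfsg.Statements.S4531
import Cfsg.Agent.Lib.DihedralBlk.Solvable

set_option autoImplicit false
open Cfsg

namespace Cfsg.Agent.S4531

/-- Let the finite group G have a 2-block B (relative to a maximal ideal M of the algebraic integers containing 2) of 2-regular rank three (three irreducible Brauer characters) whose defect group D is dihedral of order 2 ^ n with n ≥ 3 or semidihedral. Then the centre of G has odd order and G is not solvable. -/
theorem result {G : Type*} [Group G] [Finite G] (M : Ideal Cfsg.AlgInt) (hM : Cfsg.IsPModular 2 M) (B : Set (Cfsg.IrrCharacter G)) (hB : Cfsg.IsPBlock M B) (D : Subgroup G) (hD : Cfsg.IsDefectGroup 2 M B D) (hD' : (∃ n : ℕ, 3 ≤ n ∧ Nonempty (D ≃* DihedralGroup (2 ^ (n - 1)))) ∨ Cfsg.IsQuasiDihedral D) (hl : Cfsg.blockRank 2 B = 3) : Odd (Nat.card (Subgroup.center G)) ∧ ¬ Group.IsSolvable G := by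
  classical
  have := hM.2.1
  have : Fact (Nat.Prime 2) := ⟨Nat.prime_two⟩
  let _ : Fintype G := Fintype.ofFinite G
  refine ⟨?_, fun hs => ?_⟩
  · rw [← Nat.not_even_iff_odd, even_iff_two_dvd]
    intro h2
    obtain ⟨t, ht⟩ := exists_prime_orderOf_dvd_card' 2 h2
    have hto : orderOf (t : G) = 2 := by rw [Subgroup.orderOf_coe, ht]
    have : (Subgroup.zpowers (t : G)).Normal := ⟨fun n hn g => by
      rwa [Subgroup.mem_center_iff.1 ((Subgroup.zpowers_le.2 t.2) hn) g, mul_inv_cancel_right]⟩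
    have htp : IsPGroup 2 (Subgroup.zpowers (t : G)) :=
      IsPGroup.of_card (n := 1) (by rw [Nat.card_zpowers, hto, pow_one])
    have htD : (t : G) ∈ D :=
      CfsgLib.Blocks.normal_le_defect hM hB htp hD (Subgroup.mem_zpowers _)
    rcases hD' with ⟨n, hn, ⟨e⟩⟩ | hq
    · obtain ⟨k, rfl⟩ : ∃ k, n = k + 3 := ⟨n - 3, by omega⟩
      have := CfsgLib.DihedralBlk.rank_one_of_central (k := k) hM hB hD e t.2 htD hto
      omega
    · obtain ⟨r, x, y, hsd⟩ := CfsgLib.TwoGroups.SD.exists_sd hq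
      have := CfsgLib.DihedralBlk.rank_le_two_of_central hM hB hD hsd t.2 htD hto
      omega
  · have ht : CfsgLib.DihedralBlk.Tame D := by
      rcases hD' with ⟨n, hn, hd⟩ | hq
      · obtain ⟨k, rfl⟩ : ∃ k, n = k + 3 := ⟨n - 3, by omega⟩
        exact Or.inl ⟨k, hd⟩
      · exact Or.inr hq
    have := CfsgLib.DihedralBlk.rank_le_two_of_solvable hM hs hB hD ht
    omega

end Cfsg.Agent.S4531
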