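import Cfsg.Statements.S4540
import Cfsg.Agent.Lib.Blk4.TwoContrib
import Cfsg.Agent.Lib.BlockCover.DefectGroup

set_option autoImplicit false
set_option linter.style.haveILetI false
open Cfsg CfsgLib.Blocks CfsgLib.Contribution CfsgLib.Blk4

namespace Cfsg.Agent.S4540

/-- Let B be a 2-block of the finite group G (relative to a maximal ideal M of the algebraic integers containing 2) of defect d with defect group D. Let z be an element of D commuting with every element of D, and let b be a block of the centralizer C of z with defect group D that induces B (a major subsection (z, b)). If b has 2-regular rank at most three, then 3·k(B) ≤ 3·k₀(B) + 2·Σ 2 ^ h(χ), where k(B) is the number of members of B, k₀(B) the number of members of height zero, and the sum runs over the members χ of B of positive height h(χ); this bound is at most 3·2 ^ d, so in particular B contains at most 2 ^ d irreducible characters. -/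
theorem result {G : Type*} [Group G] [Finite G] (M : Ideal Cfsg.AlgInt) (hM : Cfsg.IsPModular 2 M) (B : Set (Cfsg.IrrCharacter G)) (hB : Cfsg.IsPBlock M B) (D : Subgroup G) (hD : Cfsg.IsDefectGroup 2 M B D) (z : G) (hzD : z ∈ D) (hzc : ∀ d ∈ D, d * z = z * d) (b : Set (Cfsg.IrrCharacter ↥(Subgroup.centralizer ({z} : Set G)))) (hb : Cfsg.IsInducedBlock M (Subgroup.centralizer ({z} : Set G)) b B) (hbD : Cfsg.IsDefectGroup 2 M b (D.subgroupOf (Subgroup.centralizer ({z} : Set G)))) (hl : Cfsg.blockRank 2 b ≤ 3) : 3 * Nat.card B ≤ 3 * Nat.card {χ : Cfsg.IrrCharacter G // χ ∈ B ∧ Cfsg.blockHeight 2 B (χ : G → ℂ) = 0} + 2 * (∑ᶠ χ ∈ {χ : Cfsg.IrrCharacter G | χ ∈ B ∧ 1 ≤ Cfsg.blockHeight 2 B (χ : G → ℂ)}, 2 ^ Cfsg.blockHeight 2 B (χ : G → ℂ)) ∧ 3 * Nat.card {χ : Cfsg.IrrCharacter G // χ ∈ B ∧ Cfsg.blockHeight 2 B (χ : G → ℂ) = 0} + 2 * (∑ᶠ χ ∈ {χ : Cfsg.IrrCharacter G | χ ∈ B ∧ 1 ≤ Cfsg.blockHeight 2 B (χ : G → ℂ)}, 2 ^ Cfsg.blockHeight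 2 B (χ : G → ℂ)) ≤ 3 * 2 ^ Cfsg.blockDefect 2 B := by
  classical
  haveI : Fintype G := Fintype.ofFinite G
  haveI : Fintype (ConjClasses G) := Fintype.ofFinite _
  haveI : Fintype (Subgroup.centralizer ({z} : Set G)) := Fintype.ofFinite _
  haveI : Fintype (ConjClasses (Subgroup.centralizer ({z} : Set G))) := Fintype.ofFinite _
  haveI : Fact (Nat.Prime 2) := ⟨Nat.prime_two⟩
  have hcD := CfsgLib.BlockCover.natCard_defect hM hB hD
  have hd : blockDefect 2 b = blockDefect 2 B := by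
    have hle : D ≤ Subgroup.centralizer ({z} : Set G) := fun x hx =>
      Subgroup.mem_centralizer_singleton_iff.2 (hzc x hx)
    have h1 := CfsgLib.BlockCover.natCard_defect hM hb.1 hbD
    rw [Nat.card_congr (Subgroup.subgroupOfEquivOfLe hle).toEquiv, hcD] at h1
    exact (Nat.pow_right_injective le_rfl h1).symm
  obtain ⟨m, -, hm⟩ := (Nat.dvd_prime_pow Nat.prime_two).1
    (hcD ▸ (Subgroup.orderOf_dvd_natCard D hzD))
  set h : IrrCharacter G → ℕ := fun χ => blockHeight 2 B (χ : G → ℂ) with hh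
  set a : IrrCharacter G → ℤ := fun χ => TwoContrib.cof z b hM hm hb χ χ 0 with ha
  set S0 := (members B).filter (fun χ => h χ = 0) with hS0
  set S1 := (members B).filter (fun χ => ¬ h χ = 0) with hS1
  have hk0 : Nat.card {χ : Cfsg.IrrCharacter G // χ ∈ B ∧ Cfsg.blockHeight 2 B (χ : G → ℂ) = 0} = S0.card := by
    rw [Nat.card_eq_fintype_card, Fintype.card_subtype]
    congr 1
    ext χ
    simp [hS0, hh, mem_members]
  have hsum : (∑ᶠ χ ∈ {χ : Cfsg.IrrCharacter G | χ ∈ B ∧ 1 ≤ Cfsg.blockHeight 2 B (χ : G → ℂ)},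
      2 ^ Cfsg.blockHeight 2 B (χ : G → ℂ)) = ∑ χ ∈ S1, 2 ^ h χ := by
    rw [finsum_mem_eq_sum_of_inter_support_eq]
    ext χ
    simp [hS1, hh, mem_members, Nat.one_le_iff_ne_zero]
  have hsplit : ∀ {R : Type} [AddCommMonoid R] (f : IrrCharacter G → R),
      ∑ χ ∈ S0, f χ + ∑ χ ∈ S1, f χ = ∑ χ ∈ members B, f χ := fun f => by
    rw [hS0, hS1]; exact Finset.sum_filter_add_sum_filter_not _ _ _
  have hk : Nat.card B = S0.card + S1.card := by
    rw [CfsgLib.Contribution.card_members, hS0, hS1, Finset.card_filter_add_card_filter_not]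
  rw [hk0, hsum, hk]
  constructor
  · have : S1.card * 4 ≤ 2 * ∑ χ ∈ S1, 2 ^ h χ := by
      rw [Finset.mul_sum, ← smul_eq_mul]
      refine Finset.card_nsmul_le_sum _ _ _ fun χ hχ => ?_
      have h1 : 2 ^ 1 ≤ 2 ^ h χ :=
        Nat.pow_le_pow_right (by norm_num) (Nat.one_le_iff_ne_zero.2 (Finset.mem_filter.1 hχ).2)
      omega
    omega
  have hB' : ∀ {χ}, χ ∈ members B → χ ∈ B := fun hχ => mem_members.1 hχ
  have hdvd : ∀ {χ}, χ ∈ B → 2 ^ h χ ∣ red 2 B χ := by
    intro χ hχ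
    rw [pow_dvd_red Nat.prime_two hχ]
    have := minExp_le (p := 2) hχ
    simp only [hh, blockHeight]
    unfold minExp at *
    omega
  have hz0 : ∀ {χ}, χ ∈ B → (¬ 2 ∣ red 2 B χ ↔ h χ = 0) := fun hχ =>
    (CfsgLib.BlockCover.blockHeight_eq_zero_iff hM.1 hχ).symm
  have heq : ∀ χ {φ}, φ ∈ B → Major.cz z b 2 (blockDefect 2 b) χ φ =
      (red 2 B φ : ℂ) * Major.tz z b 2 χ φ := fun χ φ hφ => by
    rw [hd]; exact Major.cz_eq z b hM hm hb.1 hB χ hφ
  have hsame : ∀ {φ ψ}, φ ∈ B → ψ ∈ B → SameBlock M (φ : G → ℂ) (ψ : G → ℂ) :=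
    fun {φ ψ} hφ hψ => (IsPBlock.mem_iff hM hB hφ ψ).1 hψ
  have htm := fun χ ψ => Major.tz_mem z b hM hm χ ψ
  obtain ⟨χ₀, hχ₀, hr0, -⟩ := CfsgLib.Contribution.exists_height_zero hM hB
  -- the local factor of a height zero character is a unit
  have htu : ∀ {χ φ}, χ ∈ B → φ ∈ B → ¬ 2 ∣ red 2 B χ → ¬ MemLocalIdeal M (Major.tz z b 2 χ φ) := by
    intro χ φ hχ hφ h0 hI
    refine (Major.cz_unit_iff z b hM hm hb hχ hχ).2 ⟨h0, h0⟩ ?_
    rw [heq χ hχ]
    exact MemLocalIdeal.mul_left hM (natCast_mem (lRing hM) _) (by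
      simpa using MemLocalIdeal.add hM (Major.tz_congr z b hM hm χ (hsame hχ hφ)) hI)
  have hne : ∀ {χ φ}, χ ∈ B → φ ∈ B → ¬ 2 ∣ red 2 B χ →
      Major.cz z b 2 (blockDefect 2 b) χ φ ≠ 0 := fun {χ φ} hχ hφ h0 => by
    rw [heq χ hφ]
    exact mul_ne_zero (Nat.cast_ne_zero.mpr (red_pos hφ).ne') fun h' =>
      htu hχ hφ h0 (h' ▸ memLocalIdeal_zero hM)
  have hfac : ∀ χ {φ}, φ ∈ B → ∃ r : ℂ, MemLocalRing M r ∧
      Major.cz z b 2 (blockDefect 2 b) χ φ = (2 : ℂ) ^ h φ * r ∧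
      (MemLocalIdeal M (Major.tz z b 2 χ φ) → MemLocalIdeal M r) := by
    intro χ φ hφ
    obtain ⟨w, hw⟩ := hdvd hφ
    refine ⟨(w : ℂ) * Major.tz z b 2 χ φ, (lRing hM).mul_mem (natCast_mem (lRing hM) _) (htm χ φ), ?_,
      fun h' => MemLocalIdeal.mul_left hM (natCast_mem (lRing hM) _) h'⟩
    rw [heq χ hφ, hw]; push_cast; ring
  have hsq : ∀ {χ φ}, χ ∈ B → φ ∈ B → ¬ 2 ∣ red 2 B χ →
      ((4 : ℤ) ^ h φ) ≤ TwoContrib.sq z b hM hm hb χ φ := by
    intro χ φ hχ hφ h0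
    obtain ⟨r, hr, he, -⟩ := hfac χ hφ
    obtain ⟨a', ha', hev⟩ := TwoContrib.pow_dvd_coeff hr
      ((TwoContrib.ev_cof z b hM hm hb χ φ).trans he) hM
    obtain ⟨j, hj, hj0⟩ : ∃ j ∈ Finset.range (2 ^ m), a' j ≠ 0 := by
      by_contra h'
      push Not at h'
      apply hne hχ hφ h0
      rw [he, ← hev, TwoCyc.ev_apply, Finset.sum_eq_zero fun j hj => by simp [h' j hj], mul_zero]
    refine le_trans ?_ (Finset.single_le_sum
      (fun i _ => sq_nonneg (TwoContrib.cof z b hM hm hb χ φ i)) hj)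
    rw [ha' j (Finset.mem_range.1 hj), mul_pow, ← pow_mul, mul_comm (h φ), pow_mul]
    have : 0 < a' j ^ 2 := pow_two_pos_of_ne_zero hj0
    exact le_mul_of_one_le_right (by positivity) (by omega)
  set N : ℤ := 2 ^ blockDefect 2 b with hN
  suffices hmain : 3 * (S0.card : ℤ) + 2 * ∑ χ ∈ S1, (2 : ℤ) ^ h χ ≤ 3 * N by
    rw [hN, hd] at hmain
    exact_mod_cast hmain
  by_cases hone : ∃ χ ∈ S0, a χ ≤ 1
  · obtain ⟨χ, hχ, hle⟩ := hone
    have hχ' := Finset.mem_filter.1 hχ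
    have h0 := (hz0 (hB' hχ'.1)).2 hχ'.2
    have hrow : ∑ φ ∈ members B, (4 : ℤ) ^ h φ ≤ N := by
      refine le_trans (Finset.sum_le_sum fun φ hφ => hsq (hB' hχ'.1) (hB' hφ) h0) ?_
      rw [TwoContrib.row z b hM hm hb χ]
      exact mul_le_of_le_one_right (by positivity) hle
    rw [← hsplit] at hrow
    have h3 : ∑ φ ∈ S0, (4 : ℤ) ^ h φ = (S0.card : ℤ) := by
      rw [Finset.sum_congr rfl fun φ hφ => by rw [(Finset.mem_filter.1 hφ).2, pow_zero]]
      simp
    have h4 : ∑ φ ∈ S1, (2 : ℤ) ^ h φ ≤ ∑ φ ∈ S1, (4 : ℤ) ^ h φ :=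
      Finset.sum_le_sum fun φ _ => pow_le_pow_left₀ (by norm_num) (by norm_num) _
    have h5 : 0 ≤ ∑ φ ∈ S1, (2 : ℤ) ^ h φ := Finset.sum_nonneg fun φ _ => by positivity
    rw [h3] at hrow
    linarith
  · push Not at hone
    have htr : ∑ χ ∈ S0, a χ + ∑ χ ∈ S1, a χ ≤ 3 * N := by
      rw [hsplit, TwoContrib.trace z b hM hm hb, mul_comm (3 : ℤ)]
      exact mul_le_mul_of_nonneg_left (by exact_mod_cast hl) (by positivity)
    refine le_trans (add_le_add ?_ ?_) htr
    · rw [mul_comm, ← nsmul_eq_mul]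
      refine Finset.card_nsmul_le_sum _ _ _ fun χ hχ => ?_
      have hχ' := Finset.mem_filter.1 hχ
      have h1 := hone χ hχ
      have h2 := TwoContrib.diag_odd z b hM hm hb (hB' hχ'.1) ((hz0 (hB' hχ'.1)).2 hχ'.2)
      simp only [ha] at h1 ⊢
      omega
    · rw [Finset.mul_sum]
      refine Finset.sum_le_sum fun χ hχ => ?_
      have hχ' := Finset.mem_filter.1 hχ
      have hχB := hB' hχ'.1
      have h0 : 2 ∣ red 2 B χ := by
        by_contra h'; exact hχ'.2 ((hz0 hχB).1 h')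
      obtain ⟨r, hr, he, hri⟩ := hfac χ hχB
      obtain ⟨a', ha', hev⟩ := TwoContrib.pow_dvd_coeff hr
        ((TwoContrib.ev_cof z b hM hm hb χ χ).trans he) hM
      have hI : MemLocalIdeal M r := by
        refine hri ?_
        have h1 : MemLocalIdeal M (Major.cz z b 2 (blockDefect 2 b) χ χ₀) := by
          by_contra h'
          exact ((Major.cz_unit_iff z b hM hm hb hχB hχ₀).1 h').1 h0
        rw [heq χ hχ₀] at h1
        have h3 := (MemLocalIdeal.mul_cases hM (natCast_mem (lRing hM) _) (htm _ _) h1).resolve_left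
          fun h' => hr0 ((memLocalIdeal_natCast_iff hM _).1 h')
        simpa using MemLocalIdeal.add hM (Major.tz_congr z b hM hm χ (hsame hχB hχ₀)) h3
      have hreal : (starRingEnd ℂ) (TwoCyc.ev m a') = TwoCyc.ev m a' := by
        have h5 := Major.cz_conj z b (p := 2) (blockDefect 2 b) χ χ
        rw [he, map_mul, map_pow, map_ofNat, ← hev] at h5
        exact mul_left_cancel₀ (pow_ne_zero _ (two_ne_zero (α := ℂ))) h5
      obtain ⟨q, hq⟩ := (TwoCyc.real_mem_iff hM m hreal).1 (hev ▸ hI)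
      have hcof := ha' 0 (by positivity)
      have hpos : 0 < a χ := by
        by_contra hle
        have hrow := TwoContrib.row z b hM hm hb χ
        have h6 : TwoContrib.sq z b hM hm hb χ χ₀ ≤ ∑ φ ∈ members B, TwoContrib.sq z b hM hm hb χ φ :=
          Finset.single_le_sum (fun φ _ => TwoContrib.sq_nonneg' z b hM hm hb χ φ) (mem_members.2 hχ₀)
        have h7 : 1 ≤ TwoContrib.sq z b hM hm hb χ χ₀ :=
          TwoContrib.one_le_sq z b hM hm hb fun h' => hne hχ₀ hχB hr0 (by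
            rw [← Major.cz_conj z b, h', map_zero])
        have h8 : (2 : ℤ) ^ blockDefect 2 b * TwoContrib.cof z b hM hm hb χ χ 0 ≤ 0 :=
          mul_nonpos_of_nonneg_of_nonpos (by positivity) (not_lt.1 hle)
        omega
      simp only [ha] at hpos ⊢
      rw [hcof, hq] at hpos ⊢
      have hq1 : 0 < q := by
        rcases lt_or_ge 0 q with h' | h'
        · exact h'
        · have : (2 : ℤ) ^ h χ * (2 * q) ≤ 0 := mul_nonpos_of_nonneg_of_nonpos (by positivity) (by omega)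
          omega
      calc 2 * (2 : ℤ) ^ h χ = (2 : ℤ) ^ h χ * 2 := by ring
        _ ≤ (2 : ℤ) ^ h χ * (2 * q) := mul_le_mul_of_nonneg_left (by omega) (by positivity)

end Cfsg.Agent.S4540
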