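import Cfsg.Statements.S4541
import Cfsg.Agent.Lib.Blk4.TwoContrib

set_option autoImplicit false
set_option linter.style.haveILetI false
open Cfsg CfsgLib.Blocks CfsgLib.Contribution CfsgLib.Blk4

namespace Cfsg.Agent.S4541

/-- Let B be a 2-block of the finite group G (relative to a maximal ideal M of the algebraic integers containing 2), u a 2-element, and b a block of the centralizer of u inducing B (a subsection (u, b)), of defect q and 2-regular rank l; write s for the integer square root of l and k₀(B) for the number of members of B of height zero. If s is odd then k₀(B) ≤ s·2 ^ q, and otherwise (s + 1)·k₀(B) ≤ l·2 ^ q; in particular k₀(B) ≤ 2 ^ q when l ≤ 3. -/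
theorem result {G : Type*} [Group G] [Finite G] (M : Ideal Cfsg.AlgInt) (hM : Cfsg.IsPModular 2 M) (B : Set (Cfsg.IrrCharacter G)) (hB : Cfsg.IsPBlock M B) (u : G) (hu : ∃ j : ℕ, orderOf u = 2 ^ j) (b : Set (Cfsg.IrrCharacter ↥(Subgroup.centralizer ({u} : Set G)))) (hb : Cfsg.IsInducedBlock M (Subgroup.centralizer ({u} : Set G)) b B) : (Odd (Nat.sqrt (Cfsg.blockRank 2 b)) → Nat.card {χ : Cfsg.IrrCharacter G // χ ∈ B ∧ Cfsg.blockHeight 2 B (χ : G → ℂ) = 0} ≤ Nat.sqrt (Cfsg.blockRank 2 b) * 2 ^ Cfsg.blockDefect 2 b) ∧ (¬ Odd (Nat.sqrt (Cfsg.blockRank 2 b)) → (Nat.sqrt (Cfsg.blockRank 2 b) + 1) * Nat.card {χ : Cfsg.IrrCharacter G // χ ∈ B ∧ Cfsg.blockHeight 2 B (χ : G → ℂ) = 0} ≤ Cfsg.blockRank 2 b * 2 ^ Cfsg.blockDefect 2 b) ∧ (Cfsg.blockRank 2 b ≤ 3 → Nat.card {χ : Cfsg.IrrCharacter G // χ ∈ B ∧ Cfsg.blockHeight 2 B (χ : G → ℂ) = 0} ≤ 2 ^ Cfsg.blockDefect 2 b) := by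
  classical
  haveI : Fintype G := Fintype.ofFinite G
  haveI : Fintype (ConjClasses G) := Fintype.ofFinite _
  haveI : Fintype (Subgroup.centralizer ({u} : Set G)) := Fintype.ofFinite _
  haveI : Fintype (ConjClasses (Subgroup.centralizer ({u} : Set G))) := Fintype.ofFinite _
  obtain ⟨m, hm⟩ := hu
  set a : IrrCharacter G → ℤ := fun χ => TwoContrib.cof u b hM hm hb χ χ 0 with ha
  set S := (members B).filter (fun χ => ¬ 2 ∣ red 2 B χ) with hS
  have hcard : Nat.card {χ : Cfsg.IrrCharacter G // χ ∈ B ∧ Cfsg.blockHeight 2 B (χ : G → ℂ) = 0} = S.card := by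
    rw [Nat.card_eq_fintype_card, Fintype.card_subtype]
    congr 1
    ext χ
    simp only [hS, Finset.mem_filter, Finset.mem_univ, true_and, mem_members]
    exact and_congr_right fun hχ => CfsgLib.BlockCover.blockHeight_eq_zero_iff hM.1 hχ
  rw [hcard]
  generalize hl : blockRank 2 b = l at *
  set N : ℤ := 2 ^ blockDefect 2 b with hN
  have hNpos : 0 < N := by positivity
  have hcount : ∀ χ ∈ S, (S.card : ℤ) ≤ N * a χ := fun χ hχ =>
    TwoContrib.count_le u b hM hm hb (mem_members.1 (Finset.mem_filter.1 hχ).1) (Finset.mem_filter.1 hχ).2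
  have hodd : ∀ χ ∈ S, ¬ (2 : ℤ) ∣ a χ := fun χ hχ =>
    TwoContrib.diag_odd u b hM hm hb (mem_members.1 (Finset.mem_filter.1 hχ).1) (Finset.mem_filter.1 hχ).2
  have hsum : ∑ χ ∈ S, a χ ≤ N * l := by
    refine le_trans (Finset.sum_le_sum_of_subset_of_nonneg (Finset.filter_subset _ _)
      fun χ _ _ => TwoContrib.diag_nonneg u b hM hm hb χ) (le_of_eq ?_)
    rw [TwoContrib.trace u b hM hm hb, hl]
  set s := Nat.sqrt l with hs
  have hs1 : (l : ℤ) ≤ (s : ℤ) * s + 2 * s := by
    have := Nat.lt_succ_sqrt l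
    have : l ≤ s * s + 2 * s := by rw [hs]; nlinarith
    exact_mod_cast this
  have hs2 : (s : ℤ) * s ≤ l := by exact_mod_cast (hs ▸ Nat.sqrt_le l)
  -- either a diagonal entry is small, or all are large
  have hdich : ∀ t : ℤ, ((S.card : ℤ) ≤ N * t) ∨ ((t + 1) * (S.card : ℤ) ≤ N * l ∧ ∀ χ ∈ S, t < a χ) := by
    intro t
    by_cases h : ∃ χ ∈ S, a χ ≤ t
    · obtain ⟨χ, hχ, hle⟩ := h
      exact Or.inl ((hcount χ hχ).trans (mul_le_mul_of_nonneg_left hle hNpos.le))
    · push Not at h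
      refine Or.inr ⟨?_, h⟩
      refine le_trans ?_ hsum
      rw [mul_comm, ← nsmul_eq_mul]
      exact Finset.card_nsmul_le_sum _ _ _ fun χ hχ => h χ hχ
  have h1 : Odd s → (S.card : ℤ) ≤ s * N := by
    intro hso
    rcases hdich s with h | ⟨-, h⟩
    · rwa [mul_comm]
    · have h3 : ((s : ℤ) + 2) * (S.card : ℤ) ≤ N * l := by
        refine le_trans ?_ hsum
        rw [mul_comm, ← nsmul_eq_mul]
        refine Finset.card_nsmul_le_sum _ _ _ fun χ hχ => ?_
        have h4 := h χ hχ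
        have h5 := hodd χ hχ
        obtain ⟨r, hr⟩ := hso
        omega
      have h4 : N * (l : ℤ) ≤ N * (((s : ℤ) + 2) * s) := by
        refine mul_le_mul_of_nonneg_left ?_ hNpos.le
        linarith
      by_contra hlt
      have : ((s : ℤ) + 2) * ((s : ℤ) * N) < ((s : ℤ) + 2) * S.card :=
        mul_lt_mul_of_pos_left (not_le.1 hlt) (by positivity)
      linarith
  have h2 : ¬ Odd s → ((s : ℤ) + 1) * S.card ≤ l * N := by
    intro hso
    rcases hdich s with h | ⟨h, -⟩
    · -- a diagonal entry is at most s, hence at most s - 1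
      rcases hdich ((s : ℤ) - 1) with h' | ⟨-, h'⟩
      · have : ((s : ℤ) + 1) * S.card ≤ ((s : ℤ) + 1) * (N * ((s : ℤ) - 1)) :=
          mul_le_mul_of_nonneg_left h' (by positivity)
        nlinarith
      · rw [mul_comm (l : ℤ)]
        refine le_trans ?_ hsum
        rw [mul_comm, ← nsmul_eq_mul]
        refine Finset.card_nsmul_le_sum _ _ _ fun χ hχ => ?_
        have h4 := h' χ hχ
        have h5 := hodd χ hχ
        obtain ⟨r, hr⟩ := Nat.not_odd_iff_even.1 hso
        omega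
    · rwa [mul_comm (l : ℤ)]
  rw [hN] at h1 h2
  refine ⟨fun hso => by exact_mod_cast h1 hso, fun hso => by exact_mod_cast h2 hso, fun hl3 => ?_⟩
  rcases Nat.eq_zero_or_pos l with h0 | hpos
  · have hz : s = 0 := by rw [hs, h0]; rfl
    have := h2 (by rw [hz]; decide)
    rw [h0, hz] at this
    simp at this
    simp [this]
  · have hs11 : s = 1 := by
      rw [hs]; exact (Nat.eq_sqrt.2 ⟨by omega, by omega⟩).symm
    have := h1 (by rw [hs11]; exact odd_one)
    rw [hs11] at this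
    have h' : (S.card : ℤ) ≤ 2 ^ blockDefect 2 b := by simpa using this
    exact_mod_cast h'

end Cfsg.Agent.S4541
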