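import Cfsg.Statements.S4549
import Cfsg.Agent.Lib.Blk4.PrincipalTwo
import Cfsg.Agent.Lib.Blocks.PrincipalNilpotent
import Cfsg.Agent.Lib.Transfer.Tate
import Cfsg.Agent.Lib.PGroup.Frattini

set_option autoImplicit false
open Cfsg

namespace Cfsg.Agent.S4549

open CfsgLib.Characters

theorem result {G : Type*} [Group G] [Finite G] (M : Ideal Cfsg.AlgInt) (hM : Cfsg.IsPModular 2 M) (k : ℕ) (hk₁ : ∀ g : G, (∃ j : ℕ, orderOf g = 2 ^ j) → g ^ k = g ^ 3) (hk₂ : ∀ g : G, Odd (orderOf g) → g ^ k = g) : Cfsg.HasNormalPComplement 2 G ↔ ∀ χ ∈ Cfsg.principalBlock M G, Odd (Cfsg.charDegree (χ : G → ℂ)) → (∀ g : G, (χ : G → ℂ) (g ^ k) = (χ : G → ℂ) g) → Cfsg.charDegree (χ : G → ℂ) = 1 := by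
  classical
  haveI := Fintype.ofFinite G
  haveI : Fact (Nat.Prime 2) := ⟨Nat.prime_two⟩
  constructor
  · intro h χ hχ hodd _
    exact CfsgLib.PrincipalSq.charDegree_eq_one_of_complement hM h χ hχ
      (Nat.two_dvd_ne_zero.2 (Nat.odd_iff.1 hodd))
  · intro h
    obtain ⟨P⟩ : Nonempty (Sylow 2 G) := inferInstance
    haveI := Fintype.ofFinite (P : Subgroup G)
    refine CfsgLib.Transfer.hasNormalPComplement_of_inf_le_frattini P ?_
    rintro x ⟨hxP, hxR⟩
    refine ⟨⟨x, hxP⟩, ?_, rfl⟩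
    by_contra hxF
    obtain ⟨K, hK, hxK⟩ : ∃ K : Subgroup (P : Subgroup G), IsCoatom K ∧ ⟨x, hxP⟩ ∉ K := by
      simp only [frattini, Order.radical, SetLike.mem_coe, Subgroup.mem_iInf, not_forall] at hxF
      obtain ⟨K, hK, hxK⟩ := hxF
      exact ⟨K, hK, hxK⟩
    have hidx := CfsgLib.PGroup.index_of_isCoatom P.2 hK
    -- the linear character with kernel K
    let l : (P : Subgroup G) →* ℂˣ :=
      { toFun := fun y => if y ∈ K then 1 else -1
        map_one' := if_pos K.one_mem
        map_mul' := fun a b => by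
          have hm := Subgroup.mul_mem_iff_of_index_two hidx (a := a) (b := b)
          by_cases ha : a ∈ K <;> by_cases hb : b ∈ K <;> simp [hm, ha, hb] }
    obtain ⟨χ, hχB, hχodd, hχfix, hχl⟩ := CfsgLib.Blk4.exists_fixed_odd_over k hk₁ hk₂ hM P l
      (fun y => by simp only [l, MonoidHom.coe_mk, OneHom.coe_mk]; split_ifs <;> simp)
    obtain ⟨f, hf⟩ := CfsgLib.LinearTwist.exists_hom_of_charDegree_one (irr_isCharacter χ)
      (h χ hχB hχodd hχfix)
    have hres : ∀ y : (P : Subgroup G), f y = l y := by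
      have e : (fun y => (l y : ℂ)) = fun y : (P : Subgroup G) => (χ : G → ℂ) y := by
        by_contra hne
        refine hχl (classInner_irr_ne (isIrrCharacter_of_hom l) ?_ hne)
        rw [hf]
        exact isIrrCharacter_of_hom (f.comp (P : Subgroup G).subtype)
      intro y
      have := congrFun e y
      rw [hf] at this
      exact (Units.ext this).symm
    obtain ⟨a, m, hm, hn⟩ := Nat.exists_eq_two_pow_mul_odd (Nat.card_pos (α := G)).ne'
    -- the 2-part of f kills all elements of odd order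
    have hker : Cfsg.pResidual 2 G ≤ (f ^ m).ker := by
      rw [CfsgLib.Transfer.pResidual_le_iff]
      intro g hg
      rw [MonoidHom.mem_ker, MonoidHom.pow_apply]
      have h1 : (f g ^ m) ^ orderOf g = 1 := by
        rw [← pow_mul, mul_comm, pow_mul, ← map_pow, pow_orderOf_eq_one, map_one, one_pow]
      have h2 : (f g ^ m) ^ 2 ^ a = 1 := by
        rw [← pow_mul, mul_comm, ← hn, ← map_pow, pow_card_eq_one', map_one]
      have h3 := pow_gcd_eq_one.2 ⟨h1, h2⟩
      rwa [(Nat.Coprime.pow_right a hg).gcd_eq_one, pow_one] at h3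
    have h1 := hker hxR
    rw [MonoidHom.mem_ker, MonoidHom.pow_apply, hres ⟨x, hxP⟩] at h1
    have h2 : l ⟨x, hxP⟩ = -1 := if_neg hxK
    rw [h2, hm.neg_one_pow] at h1
    have := congrArg Units.val h1
    norm_num at this

end Cfsg.Agent.S4549
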