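import Cfsg.Statements.S4550
import Cfsg.Agent.Lib.Blk4.PrincipalTwo

set_option autoImplicit false
open Cfsg

namespace Cfsg.Agent.S4550

theorem result {G : Type*} [Group G] [Finite G] (M : Ideal Cfsg.AlgInt) (hM : Cfsg.IsPModular 2 M) (hev : Even (Nat.card G)) (k : ℕ) (hk₁ : ∀ g : G, (∃ j : ℕ, orderOf g = 2 ^ j) → g ^ k = g ^ 3) (hk₂ : ∀ g : G, Odd (orderOf g) → g ^ k = g) : Even (Nat.card {χ : Cfsg.IrrCharacter G // χ ∈ Cfsg.principalBlock M G ∧ Odd (Cfsg.charDegree (χ : G → ℂ)) ∧ ∀ g : G, (χ : G → ℂ) (g ^ k) = (χ : G → ℂ) g}) := by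
  classical
  haveI := Fintype.ofFinite G
  haveI := Fintype.ofFinite (IrrCharacter G)
  haveI : Fact (Nat.Prime 2) := ⟨Nat.prime_two⟩
  have hB := CfsgLib.Blocks.isPBlock_principalBlock (G := G) M
  have h := CfsgLib.PrincipalSq.dvd_sum_sq hM (even_iff_two_dvd.1 hev) hB
  set S := Finset.univ.filter (fun χ : IrrCharacter G => χ ∈ principalBlock M G)
  have hfix := CfsgLib.Blk4.sum_zmod_two_eq_fixed (CfsgLib.Blk4.cubeIrr k hk₁ hk₂)
    (fun χ => ((charDegree (χ : G → ℂ) ^ 2 : ℕ) : ZMod 2)) (Nat.card G) S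
    (fun χ hχ => by
      simp only [S, Finset.mem_filter, Finset.mem_univ, true_and] at hχ ⊢
      exact CfsgLib.Blk4.cubeIrr_mem k hk₁ hk₂ χ hχ)
    (fun χ _ => CfsgLib.Blk4.cubeIrr_period k hk₁ hk₂ χ)
    (fun χ _ => by simp only [CfsgLib.Blk4.charDegree_cubeIrr])
  have h0 : ∑ χ ∈ S, ((charDegree (χ : G → ℂ) ^ 2 : ℕ) : ZMod 2) = 0 := by
    rw [← Nat.cast_sum, ZMod.natCast_eq_zero_iff_even, even_iff_two_dvd]
    exact h
  rw [hfix] at h0
  set F := S.filter (fun χ => CfsgLib.Blk4.cubeIrr k hk₁ hk₂ χ = χ) with hF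
  have hind : ∀ χ : IrrCharacter G, ((charDegree (χ : G → ℂ) ^ 2 : ℕ) : ZMod 2) =
      if Odd (charDegree (χ : G → ℂ)) then 1 else 0 := by
    intro χ
    split_ifs with hd
    · rw [ZMod.natCast_eq_one_iff_odd]; exact hd.pow
    · rw [ZMod.natCast_eq_zero_iff_even]; exact (Nat.not_odd_iff_even.1 hd).pow_of_ne_zero two_ne_zero
  simp only [hind, Finset.sum_boole] at h0
  rw [ZMod.natCast_eq_zero_iff_even] at h0
  rw [Nat.card_eq_fintype_card, Fintype.card_subtype]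
  convert h0 using 2
  ext χ
  simp only [hF, S, Finset.mem_filter, Finset.mem_univ, true_and]
  constructor
  · rintro ⟨h1, h2, h3⟩
    exact ⟨⟨h1, Subtype.ext (funext h3)⟩, h2⟩
  · rintro ⟨⟨h1, h3⟩, h2⟩
    exact ⟨h1, h2, fun g => congrFun (congrArg Subtype.val h3) g⟩

end Cfsg.Agent.S4550
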