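import Cfsg.Statements.S4553
import Cfsg.Agent.Lib.Blk4.ResidualExtensions

set_option autoImplicit false
open Cfsg

namespace Cfsg.Agent.S4553

/-- Let G be a finite group, p a prime, P a Sylow p-subgroup, N the p-residual of G (the subgroup generated by the elements of order prime to p, the smallest normal subgroup with G/N a p-group), and M a maximal ideal of the algebraic integers containing p; suppose G/N is cyclic and nontrivial. Let k be a natural number with g ^ k = g ^ (1 + p) for every p-element g and g ^ k = g for every element g of order prime to p (so that χ (g ^ k) is the image of χ g under the field automorphism that raises p-power roots of unity to the power 1 + p and fixes the roots of unity of order prime to p). Then the number of members χ of the principal block of G of degree prime to p with χ (g ^ k) = χ g for all g equals p times the number of members θ of the principal block of N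 of degree prime to p that are invariant under conjugation by P and satisfy θ (n ^ k) = θ n for all n. -/
theorem result {G : Type*} [Group G] [Finite G] (p : ℕ) [Fact p.Prime] (M : Ideal Cfsg.AlgInt) (hM : Cfsg.IsPModular p M) (P : Sylow p G) (N : Subgroup G) [hN : N.Normal] (hNres : N = Cfsg.pResidual p G) (hcyc : IsCyclic (G ⧸ N)) (hnt : N ≠ ⊤) (k : ℕ) (hk₁ : ∀ g : G, (∃ j : ℕ, orderOf g = p ^ j) → g ^ k = g ^ (1 + p)) (hk₂ : ∀ g : G, Nat.Coprime (orderOf g) p → g ^ k = g) : Nat.card {χ : Cfsg.IrrCharacter G // χ ∈ Cfsg.principalBlock M G ∧ ¬ p ∣ Cfsg.charDegree (χ : G → ℂ) ∧ ∀ g : G, (χ : G → ℂ) (g ^ k) = (χ : G → ℂ) g} = p * Nat.card {θ : Cfsg.IrrCharacter ↥N // θ ∈ Cfsg.principalBlock M ↥N ∧ ¬ p ∣ Cfsg.charDegree (θ : ↥N → ℂ) ∧ (∀ x ∈ (P : Subgroup G), ∀ n : ↥N, (θ : ↥N → ℂ) ⟨x * n * x⁻¹, hN.conj_mem n n.2 x⟩ = (θ : ↥N → ℂ) n) ∧ ∀ n : ↥N, (θ : ↥N → ℂ) (n ^ k) = (θ : ↥N → ℂ) n} := by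
  classical
  letI := Fintype.ofFinite G
  set S := {χ : Cfsg.IrrCharacter G // χ ∈ Cfsg.principalBlock M G ∧ ¬ p ∣ Cfsg.charDegree (χ : G → ℂ) ∧
    ∀ g : G, (χ : G → ℂ) (g ^ k) = (χ : G → ℂ) g}
  set T := {θ : Cfsg.IrrCharacter ↥N // θ ∈ Cfsg.principalBlock M ↥N ∧ ¬ p ∣ Cfsg.charDegree (θ : ↥N → ℂ) ∧
    (∀ x ∈ (P : Subgroup G), ∀ n : ↥N, (θ : ↥N → ℂ) ⟨x * n * x⁻¹, hN.conj_mem n n.2 x⟩ = (θ : ↥N → ℂ) n) ∧
    ∀ n : ↥N, (θ : ↥N → ℂ) (n ^ k) = (θ : ↥N → ℂ) n}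
  letI : Fintype T := Fintype.ofFinite T
  have hdeg : ∀ (χ : G → ℂ) (θ : N → ℂ), (∀ n : N, χ n = θ n) → Cfsg.charDegree χ = Cfsg.charDegree θ := by
    intro χ θ h
    simp only [Cfsg.charDegree, ← OneMemClass.coe_one N, h]
  have hres : ∀ χ : S, ∃ θ : T, ∀ n : N, (χ.1 : G → ℂ) n = (θ.1 : N → ℂ) n := by
    rintro ⟨χ, hB, hd, hk⟩
    let θ : Cfsg.IrrCharacter ↥N := ⟨_, CfsgLib.Blk4.ResidualExt.res_isIrr hNres χ hd⟩
    refine ⟨⟨θ, (CfsgLib.Blk4.ResidualExt.principal_iff hM hNres χ θ fun _ => rfl).1 hB,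
      (hdeg (χ : G → ℂ) (θ : N → ℂ) fun _ => rfl) ▸ hd, fun x _ n => ?_, fun n => ?_⟩, fun n => rfl⟩
    · exact CfsgLib.Characters.irr_isClassFunction χ n x
    · show (χ : G → ℂ) ((n ^ k : N) : G) = (χ : G → ℂ) n
      rw [SubmonoidClass.coe_pow, hk]
  choose r hr using hres
  have hfib : ∀ θ : T, Nat.card {χ : S // r χ = θ} = p := by
    rintro ⟨θ, hB, hd, hinv, hk⟩
    have htop : (P : Subgroup G) ⊔ N = ⊤ := hNres ▸ CfsgLib.Transfer.sylow_sup_pResidual P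
    have hinvG : ∀ (g : G) (n : N),
        (θ : N → ℂ) ⟨g * n * g⁻¹, hN.conj_mem (n : G) n.2 g⟩ = (θ : N → ℂ) n := by
      intro g n
      obtain ⟨x, hx, m, hm, rfl⟩ := Subgroup.mem_sup_of_normal_right.1 (htop ▸ Subgroup.mem_top g : g ∈ (P : Subgroup G) ⊔ N)
      have e : (⟨x * m * n * (x * m)⁻¹, hN.conj_mem (n : G) n.2 (x * m)⟩ : N) =
          ⟨x * ((⟨m, hm⟩ * n * (⟨m, hm⟩ : N)⁻¹ : N) : G) * x⁻¹, hN.conj_mem _ (Subtype.coe_prop _) x⟩ :=
        Subtype.ext (by simp [mul_assoc])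
      rw [e, hinv x hx]
      exact CfsgLib.Characters.irr_isClassFunction θ n ⟨m, hm⟩
    haveI := hcyc
    obtain ⟨χ₁, hχ₁, hext⟩ := CfsgLib.CharExtension.extends_of_isCyclic N θ.2 hinvG
    have hd₁ : ¬ p ∣ Cfsg.charDegree χ₁ := by rwa [hdeg χ₁ (θ : N → ℂ) hext]
    obtain ⟨χ₀, h0, h0k⟩ := CfsgLib.Blk4.ResidualExt.exists_fixed hk₁ hk₂ hNres ⟨χ₁, hχ₁⟩ θ hext hd₁ hk
    refine Eq.trans (Nat.card_congr ?_)
      (CfsgLib.Blk4.ResidualExt.card_fixed_extensions hk₁ hk₂ hNres hcyc hnt χ₀ θ h0 h0k)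
    refine
      { toFun := fun χ => ⟨χ.1.1, fun n => ?_, χ.1.2.2.2⟩
        invFun := fun χ => ⟨⟨χ.1, ?_, ?_, χ.2.2⟩, ?_⟩
        left_inv := fun χ => rfl
        right_inv := fun χ => rfl }
    · have h := hr χ.1 n
      rwa [χ.2] at h
    · exact (CfsgLib.Blk4.ResidualExt.principal_iff hM hNres χ.1 θ χ.2.1).2 hB
    · rwa [hdeg (χ.1 : G → ℂ) (θ : N → ℂ) χ.2.1]
    · refine Subtype.ext (Subtype.ext (funext fun n => ?_))
      rw [← hr, ← χ.2.1 n]
  rw [← Nat.card_congr (Equiv.sigmaFiberEquiv r), Nat.card_sigma, Finset.sum_congr rfl (fun θ _ => hfib θ),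
    Finset.sum_const, Finset.card_univ, smul_eq_mul, Nat.card_eq_fintype_card, mul_comm]

end Cfsg.Agent.S4553
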