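import Cfsg.Statements.S4558
import Cfsg.Agent.Lib.Blk4.Modular
import Cfsg.Agent.Lib.Blocks.PrincipalSq

namespace Cfsg.Agent.S4558

theorem result {G : Type*} [Group G] [Finite G] (p : ℕ) [Fact p.Prime] (χ : G → ℂ) (hχ : Cfsg.IsCharacter G χ) (g : G) (hg : ∃ j : ℕ, orderOf g = p ^ j) (h0 : χ g = 0) : p ∣ Cfsg.charDegree χ := by
  obtain ⟨j, hj⟩ := hg
  obtain ⟨M, hM⟩ := CfsgLib.Blk4.Modular.exists_isPModular p Fact.out
  have h := CfsgLib.PrincipalSq.char_congr_of_pow_eq hM hχ (g := (1 : G)) (y := g) (k := j)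
    (by rw [one_pow, ← hj, pow_orderOf_eq_one])
  rw [h0, sub_zero, CfsgLib.LinearTwist.apply_one_eq_charDegree hχ] at h
  exact (CfsgLib.Blocks.memLocalIdeal_natCast_iff hM _).1 h

end Cfsg.Agent.S4558
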