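import Cfsg.Statements.S4560
import Cfsg.Agent.Lib.Blk4.AltMoments

set_option autoImplicit false
open Cfsg

namespace Cfsg.Agent.S4560

open CfsgLib.Blk4.AltMoments

/-- For n ≥ 7 the alternating group on n letters has an irreducible character that vanishes at some 2-element and is the restriction of an irreducible character of the symmetric group, and an irreducible character that vanishes at some element of order 3 and is the restriction of an irreducible character of the symmetric group. -/
theorem result (n : ℕ) (hn : 7 ≤ n) : (∃ χ : Cfsg.IrrCharacter (alternatingGroup (Fin n)), (∃ x : alternatingGroup (Fin n), (∃ j : ℕ, orderOf x = 2 ^ j) ∧ (χ : alternatingGroup (Fin n) → ℂ) x = 0) ∧ ∃ ψ : Cfsg.IrrCharacter (Equiv.Perm (Fin n)), ∀ x : alternatingGroup (Fin n), (ψ : Equiv.Perm (Fin n) → ℂ) x = (χ : alternatingGroup (Fin n) → ℂ) x) ∧ (∃ χ : Cfsg.IrrCharacter (alternatingGroup (Fin n)), (∃ y : alternatingGroup (Fin n), orderOf y = 3 ∧ (χ : alternatingGroup (Fin n) → ℂ) y = 0) ∧ ∃ ψ : Cfsg.IrrCharacter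 (Equiv.Perm (Fin n)), ∀ x : alternatingGroup (Fin n), (ψ : Equiv.Perm (Fin n) → ℂ) x = (χ : alternatingGroup (Fin n) → ℂ) x) := by
  constructor
  · -- a `2`-element
    rcases Nat.even_or_odd n with hev | hodd
    · -- cycles of length `4` and `8` only
      obtain ⟨e, he⟩ := hev
      obtain ⟨m, hsum, h2, hn2, hlcm, hpar⟩ : ∃ m : Multiset ℕ, m.sum = 4 * (n / 4) ∧
          (∀ a ∈ m, 2 ≤ a) ∧ 2 ∉ m ∧ m.lcm ∣ 2 ^ 3 ∧ Even (m.sum + Multiset.card m) := by
        rcases Nat.even_or_odd (n / 4) with ⟨a, ha⟩ | ⟨a, ha⟩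
        · refine ⟨Multiset.replicate (n / 4) 4, by simp [mul_comm],
            fun b hb => by rw [Multiset.eq_of_mem_replicate hb]; norm_num,
            fun h => by simpa using Multiset.eq_of_mem_replicate h,
            Multiset.lcm_dvd.2 fun b hb => by rw [Multiset.eq_of_mem_replicate hb]; norm_num, ?_⟩
          simp only [Multiset.sum_replicate, Multiset.card_replicate, smul_eq_mul]
          exact ⟨5 * a, by omega⟩
        · refine ⟨8 ::ₘ Multiset.replicate (n / 4 - 2) 4, ?_, ?_, ?_, ?_, ?_⟩
          · simp only [Multiset.sum_cons, Multiset.sum_replicate, smul_eq_mul]; omega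
          · intro b hb
            rcases Multiset.mem_cons.1 hb with rfl | hb
            · norm_num
            · rw [Multiset.eq_of_mem_replicate hb]; norm_num
          · intro h
            rcases Multiset.mem_cons.1 h with h | h
            · omega
            · have := Multiset.eq_of_mem_replicate h; omega
          · refine Multiset.lcm_dvd.2 fun b hb => ?_
            rcases Multiset.mem_cons.1 hb with rfl | hb
            · norm_num
            · rw [Multiset.eq_of_mem_replicate hb]; norm_num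
          · simp only [Multiset.sum_cons, Multiset.sum_replicate, Multiset.card_cons,
              Multiset.card_replicate, smul_eq_mul]
            exact ⟨5 * a + 2, by omega⟩
      obtain ⟨g, hg, hord⟩ := exists_alt (n := n) m (by omega) h2 hpar
      have hj : ∃ j, orderOf g = 2 ^ j := by
        obtain ⟨j, -, hj⟩ := (Nat.dvd_prime_pow Nat.prime_two).1 (hord ▸ hlcm)
        exact ⟨j, hj⟩
      have hf : fx (g : Equiv.Perm (Fin n)) = n % 4 := by
        rw [fx_of_cycleType, hg, hsum]; omega
      have hf2 : fx2 (g : Equiv.Perm (Fin n)) = n % 4 := by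
        rw [fx2_of_cycleType _ (hg ▸ hn2), hf]
      rcases (show n % 4 = 0 ∨ n % 4 = 2 by omega) with h4 | h4
      · obtain ⟨χ, hχ, hψ⟩ := pair_sym hn
        exact ⟨χ, ⟨g, hj, by simp [hχ, chiSym, fix_sym2_cast, hf, hf2, h4]⟩, hψ⟩
      · obtain ⟨χ, hχ, hψ⟩ := pair_ext hn
        exact ⟨χ, ⟨g, hj, by simp [hχ, chiExt, fix_sym2_cast, hf, hf2, h4]; norm_num⟩, hψ⟩
    · -- one fixed point
      obtain ⟨b, hb⟩ := hodd
      obtain ⟨m, hsum, h2, hlcm, hpar⟩ : ∃ m : Multiset ℕ, m.sum = 2 * b ∧
          (∀ a ∈ m, 2 ≤ a) ∧ m.lcm ∣ 2 ^ 2 ∧ Even (m.sum + Multiset.card m) := by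
        rcases Nat.even_or_odd b with ⟨a, ha⟩ | ⟨a, ha⟩
        · refine ⟨Multiset.replicate b 2, by simp [mul_comm],
            fun c hc => by rw [Multiset.eq_of_mem_replicate hc],
            Multiset.lcm_dvd.2 fun c hc => by rw [Multiset.eq_of_mem_replicate hc]; norm_num, ?_⟩
          simp only [Multiset.sum_replicate, Multiset.card_replicate, smul_eq_mul]
          exact ⟨3 * a, by omega⟩
        · refine ⟨4 ::ₘ Multiset.replicate (b - 2) 2, ?_, ?_, ?_, ?_⟩
          · simp only [Multiset.sum_cons, Multiset.sum_replicate, smul_eq_mul]; omega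
          · intro c hc
            rcases Multiset.mem_cons.1 hc with rfl | hc
            · norm_num
            · rw [Multiset.eq_of_mem_replicate hc]
          · refine Multiset.lcm_dvd.2 fun c hc => ?_
            rcases Multiset.mem_cons.1 hc with rfl | hc
            · norm_num
            · rw [Multiset.eq_of_mem_replicate hc]; norm_num
          · simp only [Multiset.sum_cons, Multiset.sum_replicate, Multiset.card_cons,
              Multiset.card_replicate, smul_eq_mul]
            exact ⟨3 * a + 1, by omega⟩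
      obtain ⟨g, hg, hord⟩ := exists_alt (n := n) m (by omega) h2 hpar
      have hj : ∃ j, orderOf g = 2 ^ j := by
        obtain ⟨j, -, hj⟩ := (Nat.dvd_prime_pow Nat.prime_two).1 (hord ▸ hlcm)
        exact ⟨j, hj⟩
      have hf : fx (g : Equiv.Perm (Fin n)) = 1 := by
        rw [fx_of_cycleType, hg, hsum]; omega
      obtain ⟨χ, hχ, hψ⟩ := pair_std hn
      exact ⟨χ, ⟨g, hj, by simp [hχ, chiStd, hf]⟩, hψ⟩
  · -- an element of order three
    obtain ⟨g, hg, hord⟩ := exists_alt (n := n) (Multiset.replicate (n / 3) 3)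
      (by simp; omega) (fun b hb => by rw [Multiset.eq_of_mem_replicate hb]; norm_num)
      ⟨2 * (n / 3), by simp; omega⟩
    have h3 : orderOf g = 3 := by
      rw [hord]
      refine Nat.dvd_antisymm (Multiset.lcm_dvd.2 fun b hb => by
        rw [Multiset.eq_of_mem_replicate hb]) (Multiset.dvd_lcm ?_)
      exact Multiset.mem_replicate.2 ⟨by omega, rfl⟩
    have hf : fx (g : Equiv.Perm (Fin n)) = n % 3 := by
      rw [fx_of_cycleType, hg]; simp; omega
    have hf2 : fx2 (g : Equiv.Perm (Fin n)) = n % 3 := by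
      rw [fx2_of_cycleType _ (by
        rw [hg]; intro h; have := Multiset.eq_of_mem_replicate h; omega), hf]
    rcases (show n % 3 = 0 ∨ n % 3 = 1 ∨ n % 3 = 2 by omega) with h | h | h
    · obtain ⟨χ, hχ, hψ⟩ := pair_sym hn
      exact ⟨χ, ⟨g, h3, by simp [hχ, chiSym, fix_sym2_cast, hf, hf2, h]⟩, hψ⟩
    · obtain ⟨χ, hχ, hψ⟩ := pair_std hn
      exact ⟨χ, ⟨g, h3, by simp [hχ, chiStd, hf, h]⟩, hψ⟩
    · obtain ⟨χ, hχ, hψ⟩ := pair_ext hn
      exact ⟨χ, ⟨g, h3, by simp [hχ, chiExt, fix_sym2_cast, hf, hf2, h]; norm_num⟩, hψ⟩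

end Cfsg.Agent.S4560
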