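import Cfsg.Statements.S4561
import Cfsg.Agent.Lib.Blk4.RamifiedEmbedding

set_option autoImplicit false
universe u
open Cfsg

namespace Cfsg.Agent.S4561

open CfsgLib.Characters in
theorem aux (n : ℕ) : ∀ (G : Type u) [Group G] [Finite G], Group.IsSolvable G → Nat.card G = n →
    ∃ (H : Type u) (_ : Group H) (_ : Finite H) (χ : Cfsg.IrrCharacter H),
      (∀ h : H, (χ : H → ℂ) h = (χ : H → ℂ) 1 → h = 1) ∧
      (Cfsg.charDegree (χ : H → ℂ)) ^ 2 = (Subgroup.center H).index ∧
      (∃ f : G →* H ⧸ Subgroup.center H, Function.Injective f) ∧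
      (∀ p : ℕ, p.Prime → ((p ∣ Nat.card H ↔ p ∣ Nat.card G) ∧
        (p ∣ Nat.card (Subgroup.center H) ↔ p ∣ Nat.card G))) ∧
      Squarefree (Nat.card (Subgroup.center H)) := by
  induction n using Nat.strong_induction_on with
  | _ n ih =>
  intro G _ _ hs hn
  classical
  by_cases ht : Nontrivial G
  swap
  · haveI : Subsingleton G := not_nontrivial_iff_subsingleton.1 ht
    haveI := Fintype.ofFinite G
    have hG : Nat.card G = 1 := Nat.card_of_subsingleton (1 : G)
    have hZ : Nat.card (Subgroup.center G) = 1 := Nat.card_of_subsingleton (1 : Subgroup.center G)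
    refine ⟨G, inferInstance, inferInstance, ⟨_, isIrrCharacter_of_hom (1 : G →* ℂˣ)⟩,
      fun h _ => Subsingleton.elim _ _, ?_, ⟨QuotientGroup.mk' _, fun a b _ => Subsingleton.elim a b⟩,
      fun q _ => by rw [hG, hZ]; exact ⟨Iff.rfl, Iff.rfl⟩, by rw [hZ]; exact squarefree_one⟩
    rw [Subgroup.eq_top_iff' (Subgroup.center G) |>.2 fun x => by
      rw [Subsingleton.elim x 1]; exact one_mem _, Subgroup.index_top]
    simp [Cfsg.charDegree]
  haveI := hs
  obtain ⟨N, hN, hp⟩ : ∃ N : Subgroup G, N.Normal ∧ N.index.Prime := by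
    have hne : commutator G ≠ ⊤ := (Group.IsSolvable.commutator_lt_top_of_nontrivial G).ne
    haveI : Nontrivial (G ⧸ commutator G) := QuotientGroup.nontrivial_iff.2 hne
    haveI : Nontrivial (Abelianization G) := this
    obtain ⟨q, hq, hqd⟩ := Nat.exists_prime_and_dvd
      (Finite.one_lt_card (α := Abelianization G)).ne'
    haveI := Fact.mk hq
    obtain ⟨S, hS⟩ := CfsgLib.Techniques.Fusion.exists_index_eq_prime hqd
    refine ⟨S.comap Abelianization.of, Subgroup.Normal.comap inferInstance _, ?_⟩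
    rw [Subgroup.index_comap_of_surjective S (f := Abelianization.of) (fun a => Quotient.exists_rep a),
      hS]
    exact hq
  haveI := hN
  have hlt : Nat.card N < n := by
    rw [← hn, ← N.card_mul_index]
    exact lt_mul_of_one_lt_right Nat.card_pos hp.one_lt
  obtain ⟨H₀, _, _, χ₀, hf₀, hd₀, ⟨f₀, hf₀i⟩, hp₀, hs₀⟩ := ih _ hlt N inferInstance rfl
  haveI := Fintype.ofFinite H₀
  obtain ⟨f₁, hf₁⟩ := CfsgLib.Blk4.MWreath.exists_embedding N f₀ hf₀i
  haveI := Fact.mk hp
  obtain ⟨H, _, _, χ, hf, hd, hsq, hprimes, hpr, f, hfi⟩ :=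
    CfsgLib.Blk4.RamifiedEmbedding.step χ₀ hf₀ hd₀ hs₀
      (fun q hq h => ((hp₀ q hq).2).2 ((hp₀ q hq).1.1 h)) (p := N.index) (G ⧸ N)
      (N.index_eq_card).symm
  have key : ∀ q : ℕ, q.Prime → (q ∣ Nat.card (Subgroup.center H) ↔ q ∣ Nat.card G) := by
    intro q hq
    rw [hprimes q hq, (hp₀ q hq).2, ← N.card_mul_index, hq.dvd_mul]
    exact or_congr Iff.rfl ⟨fun h => h ▸ dvd_rfl, fun h => (Nat.prime_dvd_prime_iff_eq hq hp).1 h⟩
  exact ⟨H, inferInstance, inferInstance, χ, hf, hd, ⟨f.comp f₁, hfi.comp hf₁⟩, fun q hq =>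
    ⟨⟨fun h => (key q hq).1 (hpr q hq h),
      fun h => ((key q hq).2 h).trans (Subgroup.card_subgroup_dvd_card _)⟩, key q hq⟩, hsq⟩

/-- For every finite solvable group G there is a finite group H with a faithful irreducible character χ whose degree squared equals the index of the centre Z(H) (so χ is fully ramified over the centre), such that G is isomorphic to a subgroup of H/Z(H), the primes dividing the orders of H, of Z(H) and of G are the same, and the order of Z(H) is squarefree. -/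
theorem result {G : Type u} [Group G] [Finite G] (hsolv : Group.IsSolvable G) : ∃ (H : Type u) (_ : Group H) (_ : Finite H) (χ : Cfsg.IrrCharacter H), (∀ h : H, (χ : H → ℂ) h = (χ : H → ℂ) 1 → h = 1) ∧ (Cfsg.charDegree (χ : H → ℂ)) ^ 2 = (Subgroup.center H).index ∧ (∃ f : G →* H ⧸ Subgroup.center H, Function.Injective f) ∧ (∀ p : ℕ, p.Prime → ((p ∣ Nat.card H ↔ p ∣ Nat.card G) ∧ (p ∣ Nat.card (Subgroup.center H) ↔ p ∣ Nat.card G))) ∧ Squarefree (Nat.card (Subgroup.center H)) := by
  exact aux _ G hsolv rfl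

end Cfsg.Agent.S4561
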