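import Cfsg.Statements.S4564
import Cfsg.Agent.Lib.Blk4.FullyRamifiedHall

set_option autoImplicit false
open Cfsg

namespace Cfsg.Agent.S4564

/-- Let χ be an irreducible character of the finite group H that is fully ramified over the normal subgroup Z: the restriction of χ to Z is e times an irreducible character of Z with e ^ 2 equal to the index of Z. Let K be a normal subgroup of H containing Z and P a cyclic Sylow p-subgroup of H/K. Then P has a complement in H/K: a subgroup meeting P trivially whose product with P is the whole group. -/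
theorem result {H : Type*} [Group H] [Finite H] (Z : Subgroup H) [Z.Normal] (χ : Cfsg.IrrCharacter H) (hfr : ∃ (θ : Cfsg.IrrCharacter ↥Z) (e : ℕ), e ^ 2 = Z.index ∧ ∀ z : ↥Z, (χ : H → ℂ) z = (e : ℂ) * (θ : ↥Z → ℂ) z) (K : Subgroup H) [K.Normal] (hZK : Z ≤ K) (p : ℕ) [Fact p.Prime] (P : Sylow p (H ⧸ K)) (hcyc : IsCyclic P) : ∃ M : Subgroup (H ⧸ K), M.IsComplement' (P : Subgroup (H ⧸ K)) := by
  classical
  haveI := Fintype.ofFinite H
  haveI := Fintype.ofFinite Z
  obtain ⟨θ, e, he, hres⟩ := hfr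
  obtain ⟨T, hZT, hTp, hTi, hTK, hN⟩ := CfsgLib.Blk4.FullyRamified.exists_setup p Z K hZK
  haveI := Fintype.ofFinite T
  haveI := Fintype.ofFinite (K.subgroupOf T)
  let j : T ⧸ K.subgroupOf T →* H ⧸ K :=
    QuotientGroup.map (K.subgroupOf T) K T.subtype fun x hx => hx
  have hinj : Function.Injective j := by
    rw [injective_iff_map_eq_one]
    intro a ha
    obtain ⟨a, rfl⟩ := QuotientGroup.mk_surjective a
    exact (QuotientGroup.eq_one_iff a).2
      ((QuotientGroup.eq_one_iff (a : H)).1 (show ((a : H) : H ⧸ K) = 1 from ha))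
  have hp : IsPGroup p j.range := by
    obtain ⟨k, hk⟩ := hTp
    obtain ⟨i, -, hi⟩ := (Nat.dvd_prime_pow (Fact.out : p.Prime)).1
      (show (K.subgroupOf T).index ∣ p ^ k from hk ▸ Subgroup.relIndex_dvd_of_le_left T hZK)
    exact IsPGroup.of_card (n := i) (by
      rw [← Nat.card_congr (MonoidHom.ofInjective hinj).toEquiv, ← Subgroup.index_eq_card, hi])
  obtain ⟨R, hR⟩ := hp.exists_le_sylow
  have hRc : IsCyclic (R : Subgroup (H ⧸ K)) :=
    isCyclic_of_surjective (Sylow.equiv P R).toMonoidHom (Sylow.equiv P R).surjective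
  have hcyc' : IsCyclic (T ⧸ K.subgroupOf T) :=
    isCyclic_of_injective ((Subgroup.inclusion hR).comp j.rangeRestrict) (by
      intro a b h
      exact hinj (congrArg Subtype.val (Subgroup.inclusion_injective hR h)))
  obtain ⟨η, c, f, hc, hcf, hχη, hη1, hη⟩ :=
    CfsgLib.Blk4.FullyRamified.restrict_sylow Z χ θ e he hres p T hZT hTp hTi
  obtain ⟨ω, m, hm0, hm⟩ :=
    CfsgLib.Blk4.FullyRamified.exists_omega Z χ θ e he hres p T hZT hTp hTi K hZK η
  have hm1 := CfsgLib.Blk4.FullyRamified.mult_eq_one_of_cyclic Z χ θ e he hres p T hZT hTp hTi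
    K hZK hcyc' η ω m hm hm0
  obtain ⟨M, hM⟩ := CfsgLib.Blk4.FullyRamified.exists_complement_of_mult_one Z χ θ e he hres p T
    hZT hTp hTi K hZK hTK hN η c hc hχη hη ω (by rw [hm, hm1, Nat.cast_one])
  refine ⟨M, ?_⟩
  have hPc : Nat.card (P : Subgroup (H ⧸ K)) = M.index := by rw [hM]; exact P.card_eq_multiplicity
  refine Subgroup.isComplement'_of_coprime (by rw [hPc, M.card_mul_index]) ?_
  rw [hPc, hM]
  refine Nat.Coprime.pow_right _ ((Fact.out : p.Prime).coprime_iff_not_dvd.2 fun h => ?_).symm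
  obtain ⟨a, ha⟩ := h
  have := Nat.pow_succ_factorization_not_dvd (n := Nat.card (H ⧸ K)) Nat.card_pos.ne'
    (Fact.out : p.Prime)
  refine this ⟨a, ?_⟩
  calc Nat.card (H ⧸ K) = Nat.card M * M.index := M.card_mul_index.symm
    _ = _ := by rw [ha, hM, pow_succ]; ring

end Cfsg.Agent.S4564
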