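import Cfsg.Statements.S4565
import Cfsg.Agent.Lib.Blk4.FullyRamified
import Cfsg.Agent.Lib.Characters.Extension
import Cfsg.Agent.Lib.Characters.NormalAvg
import Cfsg.Agent.Lib.CharCorr.Basic

set_option autoImplicit false
set_option linter.style.haveILetI false
open Cfsg
open scoped ComplexConjugate

namespace Cfsg.Agent.S4565

/-- Let χ be an irreducible character of the finite group H that is fully ramified over the normal subgroup Z: the restriction of χ to Z is e times an irreducible character of Z with e ^ 2 equal to the index of Z. If Z ≠ H, then H/Z has no cyclic subgroup that is its own centralizer. -/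
theorem result {H : Type*} [Group H] [Finite H] (Z : Subgroup H) [Z.Normal] (χ : Cfsg.IrrCharacter H) (hfr : ∃ (θ : Cfsg.IrrCharacter ↥Z) (e : ℕ), e ^ 2 = Z.index ∧ ∀ z : ↥Z, (χ : H → ℂ) z = (e : ℂ) * (θ : ↥Z → ℂ) z) (hZ : Z ≠ ⊤) (C : Subgroup (H ⧸ Z)) (hC : IsCyclic C) : Subgroup.centralizer (C : Set (H ⧸ Z)) ≠ C := by
  classical
  haveI := Fintype.ofFinite H
  haveI := Fintype.ofFinite Z
  obtain ⟨θ, e, he, hres⟩ := hfr
  intro hCC
  obtain ⟨q, hq⟩ := (inferInstance : IsCyclic C).exists_generator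
  obtain ⟨x, hx⟩ := QuotientGroup.mk_surjective (q : H ⧸ Z)
  have hcent : ∀ w : H ⧸ Z, w * (x : H ⧸ Z) = (x : H ⧸ Z) * w → w ∈ C := by
    intro w hw
    rw [← hCC, Subgroup.mem_centralizer_iff]
    intro c hc
    obtain ⟨i, hi⟩ := Subgroup.mem_zpowers_iff.1 (hq ⟨c, hc⟩)
    have : c = (x : H ⧸ Z) ^ i := by
      rw [hx, ← Subgroup.coe_zpow, hi]
    rw [this]
    exact ((Commute.zpow_right (show Commute w (x : H ⧸ Z) from hw) i).eq).symm
  have hxC : (x : H ⧸ Z) ∈ C := hx ▸ q.2
  have hxZ : x ∉ Z := by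
    intro h
    have h1 : (x : H ⧸ Z) = 1 := (QuotientGroup.eq_one_iff x).2 h
    apply hZ
    rw [eq_top_iff]
    intro y _
    have hy := hcent (y : H ⧸ Z) (by rw [h1, one_mul, mul_one])
    obtain ⟨i, hi⟩ := Subgroup.mem_zpowers_iff.1 (hq ⟨_, hy⟩)
    have : (y : H ⧸ Z) = (x : H ⧸ Z) ^ i := by rw [hx, ← Subgroup.coe_zpow, hi]
    rw [h1, one_zpow] at this
    exact (QuotientGroup.eq_one_iff y).1 this
  set A := C.comap (QuotientGroup.mk' Z) with hA
  have hZA : Z ≤ A := fun z hz => by
    show (z : H ⧸ Z) ∈ C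
    rw [(QuotientGroup.eq_one_iff z).2 hz]; exact one_mem C
  set Z' := Z.subgroupOf A with hZ'
  haveI : Fintype A := Fintype.ofFinite A
  haveI : Fintype Z' := Fintype.ofFinite Z'
  let j : A ⧸ Z' →* C :=
    QuotientGroup.lift Z' (((QuotientGroup.mk' Z).comp A.subtype).codRestrict C fun a => a.2)
      fun a ha => Subtype.ext ((QuotientGroup.eq_one_iff (a : H)).2 ha)
  haveI : IsCyclic (A ⧸ Z') := isCyclic_of_injective j (by
    rw [injective_iff_map_eq_one]
    intro a ha
    obtain ⟨a, rfl⟩ := QuotientGroup.mk_surjective a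
    exact (QuotientGroup.eq_one_iff a).2
      ((QuotientGroup.eq_one_iff (a : H)).1 (congrArg Subtype.val ha)))
  set ε := Subgroup.subgroupOfEquivOfLe hZA
  obtain ⟨η, hη, hηv⟩ := CfsgLib.CharExtension.extends_of_isCyclic Z'
    (ϑ := (θ : Z → ℂ) ∘ ε) (CfsgLib.CharCorr.isIrrCharacter_comp_equiv θ.2 ε)
    (fun g n => (congrArg (θ : Z → ℂ) (Subtype.ext rfl)).trans
      (CfsgLib.Blk4.FullyRamified.invariant Z χ θ e he hres (g : H) (ε n)))
  have hηc : IsClassFunction A η :=
    CfsgLib.Characters.isClassFunction_of_isCharacter (CfsgLib.Characters.isCharacter_of_irr hη)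
  let xA : A := ⟨x, hxC⟩
  let f : A → ℂ := fun a => if ((a : H) : H ⧸ Z) = (x : H ⧸ Z) then η a else 0
  have hind : ∀ n : Z', indFun A f ((n : A) * xA : A) = η ((n : A) * xA) := by
    intro n
    set y : A := (n : A) * xA
    have hy : ((y : H) : H ⧸ Z) = (x : H ⧸ Z) := by
      show (((n : A) : H) * x : H) = (x : H ⧸ Z)
      rw [QuotientGroup.mk_mul, (QuotientGroup.eq_one_iff ((n : A) : H)).2 n.2, one_mul]
    have h1 : ∀ h : H, extendByZero A f (h⁻¹ * (y : H) * h) = if h ∈ A then η y else 0 := by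
      intro h
      by_cases hh : h ∈ A
      · rw [if_pos hh, show h⁻¹ * (y : H) * h = (((⟨h, hh⟩ : A)⁻¹ * y * ⟨h, hh⟩ : A) : H) from rfl,
          CfsgLib.Induction.extendByZero_coe]
        have hc : (((( ⟨h, hh⟩ : A)⁻¹ * y * ⟨h, hh⟩ : A) : H) : H ⧸ Z) = (x : H ⧸ Z) := by
          show ((h⁻¹ * (y : H) * h : H) : H ⧸ Z) = _
          rw [QuotientGroup.mk_mul, QuotientGroup.mk_mul, hy, QuotientGroup.mk_inv]
          letI := IsCyclic.commGroup (α := C)
          have := congrArg Subtype.val (mul_comm (⟨_, hxC⟩ : C) ⟨_, hh⟩)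
          change (x : H ⧸ Z) * (h : H ⧸ Z) = (h : H ⧸ Z) * (x : H ⧸ Z) at this
          rw [mul_assoc, this, inv_mul_cancel_left]
        simp only [f]
        rw [if_pos hc]
        have := hηc y (⟨h, hh⟩ : A)⁻¹
        rwa [inv_inv] at this
      · rw [if_neg hh]
        by_cases hm : h⁻¹ * (y : H) * h ∈ A
        · rw [CfsgLib.Induction.extendByZero_mem A _ hm]
          simp only [f]
          rw [if_neg]
          intro hc
          refine hh (hcent _ ?_)
          rw [QuotientGroup.mk_mul, QuotientGroup.mk_mul, hy, QuotientGroup.mk_inv, mul_assoc,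
            inv_mul_eq_iff_eq_mul] at hc
          exact hc.symm
        · exact CfsgLib.Induction.extendByZero_notMem A _ hm
    rw [CfsgLib.Induction.indFun_apply, Finset.sum_congr rfl (fun h _ => h1 h), ← Finset.sum_filter,
      Finset.sum_const, nsmul_eq_mul]
    rw [show (Finset.univ.filter (fun h : H => h ∈ A)).card = Nat.card A from by
      rw [Nat.card_eq_fintype_card, Fintype.card_subtype]]
    rw [inv_mul_cancel_left₀ (Nat.cast_ne_zero.2 Nat.card_pos.ne')]
  have hzero : indFun A f = 0 := by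
    refine CfsgLib.Characters.eq_zero_of_forall_classInner_eq_zero
      (CfsgLib.Induction.isClassFunction_indFun A f) fun ψ => ?_
    rw [CfsgLib.Induction.classInner_indFun A _ (CfsgLib.Characters.irr_isClassFunction ψ)]
    by_cases hψ : (ψ : H → ℂ) = (χ : H → ℂ)
    · rw [classInner, Finset.sum_eq_zero, mul_zero]
      intro a _
      simp only [f]
      split_ifs with hc
      · rw [hψ, CfsgLib.Blk4.FullyRamified.vanish_off Z χ θ e he hres, map_zero, mul_zero]
        intro haZ
        exact hxZ ((QuotientGroup.eq_one_iff x).1 (hc ▸ (QuotientGroup.eq_one_iff (a : H)).2 haZ))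
      · rw [zero_mul]
    · have hψA : IsCharacter A (fun a : A => (ψ : H → ℂ) a) :=
        CfsgLib.Clifford.isCharacter_subtype (CfsgLib.Characters.irr_isCharacter ψ) A
      have h0 := CfsgLib.NormalAvg.pairAvg_eq_zero Z' (ψ := η) (χ := fun a : A => (ψ : H → ℂ) a)
        (CfsgLib.Characters.isCharacter_of_irr hη) hψA (by
          rw [CfsgLib.Characters.classInner_conj_symm,
            show (fun n : Z' => η n) = (θ : Z → ℂ) ∘ ε from funext hηv]
          show conj (classInner ((fun z : Z => (ψ : H → ℂ) z) ∘ ε) ((θ : Z → ℂ) ∘ ε)) = 0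
          rw [CfsgLib.CharCorr.classInner_comp_equiv,
            CfsgLib.Blk4.FullyRamified.inner_res_eq_zero Z χ θ e he hres ψ.2 hψ, map_zero])
      have h1 := congrFun h0 xA
      rw [CfsgLib.NormalAvg.pairAvg_apply, Pi.zero_apply, mul_eq_zero] at h1
      have h2 := h1.resolve_left (inv_ne_zero (Nat.cast_ne_zero.2 Nat.card_pos.ne'))
      rw [classInner]
      simp only [f, ite_mul, zero_mul]
      rw [← Finset.sum_filter]
      refine mul_eq_zero_of_right _ (Eq.trans ?_ h2)
      refine Finset.sum_bij' (fun a ha => (⟨a * xA⁻¹, ?_⟩ : Z')) (fun n _ => (n : A) * xA)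
        (fun a _ => Finset.mem_univ _) (fun n _ => ?_) (fun a _ => by simp) (fun n _ => by simp)
        (fun a _ => by simp)
      · have hc := (Finset.mem_filter.1 ha).2
        show (a : H) * x⁻¹ ∈ Z
        rw [← QuotientGroup.eq_one_iff, QuotientGroup.mk_mul, QuotientGroup.mk_inv, hc,
          mul_inv_cancel]
      · refine Finset.mem_filter.2 ⟨Finset.mem_univ _, ?_⟩
        show ((((n : A) : H) * x : H) : H ⧸ Z) = _
        rw [QuotientGroup.mk_mul, (QuotientGroup.eq_one_iff ((n : A) : H)).2 n.2, one_mul]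
  have hone := congrFun (CfsgLib.NormalAvg.pairAvg_self Z' (CfsgLib.Characters.isCharacter_of_irr hη)
    (show IsIrrCharacter Z' (fun n : Z' => η n) by
      rw [show (fun n : Z' => η n) = (θ : Z → ℂ) ∘ ε from funext hηv]
      exact CfsgLib.CharCorr.isIrrCharacter_comp_equiv θ.2 ε)) xA
  rw [CfsgLib.NormalAvg.pairAvg_apply, Finset.sum_eq_zero (fun n _ => by
    rw [← hind n, hzero, Pi.zero_apply, zero_mul]), mul_zero] at hone
  exact zero_ne_one hone

end Cfsg.Agent.S4565
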