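import Cfsg.Statements.S4566
import Cfsg.Agent.Lib.Characters.Scalar
import Cfsg.Agent.Lib.Characters.Basic

namespace Cfsg.Agent.S4566

open CfsgLib.Characters

theorem result {G : Type*} [Group G] [Fintype G] (N : Subgroup G) [Fintype N] (hN : N ≤ Subgroup.center G) (ψ : Cfsg.IrrCharacter ↥N) (hfaith : ∀ n : ↥N, (ψ : ↥N → ℂ) n = (ψ : ↥N → ℂ) 1 → n = 1) (χ : Cfsg.IrrCharacter G) (hover : Cfsg.classInner (fun n : ↥N => (χ : G → ℂ) n) (ψ : ↥N → ℂ) ≠ 0) (g x : G) (hcomm : x⁻¹ * g⁻¹ * x * g ∈ N) (hne : x⁻¹ * g⁻¹ * x * g ≠ 1) : (χ : G → ℂ) g = 0 := by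
  obtain ⟨χ, n, ρ, hρ, rfl⟩ := χ
  obtain ⟨ψ, m, σ, hσ, rfl⟩ := ψ
  haveI := hρ
  haveI := hσ
  set z := x⁻¹ * g⁻¹ * x * g with hz
  obtain ⟨c, hc⟩ := CfsgLib.CharScalar.center_scalar ρ (hN hcomm)
  have hc1 : c ≠ 1 := by
    intro h
    subst h
    rw [one_smul] at hc
    apply hne
    have hn : (⟨z, hcomm⟩ : N) = 1 := by
      apply hfaith
      obtain ⟨d, hd⟩ := CfsgLib.CharScalar.center_scalar σ (z := (⟨z, hcomm⟩ : N))
        (Subgroup.mem_center_iff.2 fun b => Subtype.ext (Subgroup.mem_center_iff.1 (hN hcomm) b))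
      by_cases hd1 : d = 1
      · subst hd1
        show σ.character _ = σ.character 1
        unfold Representation.character
        rw [hd, one_smul, map_one σ]
      · exfalso
        apply hover
        have key : ∀ b : N, ρ.character ((⟨z, hcomm⟩ * b : N) : G) *
            (starRingEnd ℂ) (σ.character (⟨z, hcomm⟩ * b)) =
            (starRingEnd ℂ) d * (ρ.character (b : G) * (starRingEnd ℂ) (σ.character b)) := by
          intro b
          simp only [Representation.character, map_mul, hd, Subgroup.coe_mul, hc, one_mul,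
            smul_one_mul, map_smul, smul_eq_mul]
          ring
        have hS : (∑ b : N, ρ.character (b : G) * (starRingEnd ℂ) (σ.character b)) = 0 := by
          have h1 : (∑ b : N, ρ.character (b : G) * (starRingEnd ℂ) (σ.character b)) =
              (starRingEnd ℂ) d * ∑ b : N, ρ.character (b : G) * (starRingEnd ℂ) (σ.character b) := by
            rw [Finset.mul_sum, ← Equiv.sum_comp (Equiv.mulLeft (⟨z, hcomm⟩ : N))]
            exact Finset.sum_congr rfl fun b _ => key b
          by_contra hne0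
          have h2 : (starRingEnd ℂ) d = 1 := mul_right_cancel₀ hne0 (by rw [one_mul]; exact h1.symm)
          exact hd1 (by simpa using congrArg (starRingEnd ℂ) h2)
        show (Nat.card N : ℂ)⁻¹ * ∑ b : N, ρ.character (b : G) * (starRingEnd ℂ) (σ.character b) = 0
        rw [hS, mul_zero]
    exact congrArg Subtype.val hn
  have h1 : ρ.character (g * z⁻¹) = ρ.character g := by
    have he : g * z⁻¹ = x⁻¹ * g * x⁻¹⁻¹ := by rw [hz]; group
    rw [he]
    exact ρ.char_conj g x⁻¹
  have h2 : ρ.character g = c * ρ.character (g * z⁻¹) := by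
    conv_lhs => rw [show g = g * z⁻¹ * z by group]
    unfold Representation.character
    rw [map_mul, hc, mul_smul_one, map_smul, smul_eq_mul]
  rw [h1] at h2
  have h3 : (c - 1) * ρ.character g = 0 := by rw [sub_mul, one_mul, ← h2, sub_self]
  exact (mul_eq_zero.1 h3).resolve_left (sub_ne_zero.2 hc1)

end Cfsg.Agent.S4566
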