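import Cfsg.Statements.S4567
import Cfsg.Agent.Lib.Characters.Decomp
import Cfsg.Agent.Lib.Characters.Ito
import Cfsg.Agent.Lib.Characters.Ramified
import Cfsg.Agent.Lib.Characters.Scalar

set_option autoImplicit false
set_option linter.style.haveILetI false
open Cfsg
open scoped ComplexConjugate

namespace Cfsg.Agent.S4567

open CfsgLib.Characters

/-- Central elements multiply character values by a constant. -/
theorem central_mul {G : Type*} [Group G] [Finite G] (χ : IrrCharacter G) {z : G}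
    (hz : z ∈ Subgroup.center G) :
    ∃ c : ℂ, c * conj c = 1 ∧ ∀ g, (χ : G → ℂ) (z * g) = c * (χ : G → ℂ) g := by
  obtain ⟨χ, n, ρ, hρ, rfl⟩ := χ
  haveI := hρ
  obtain ⟨c, hc⟩ := CfsgLib.CharScalar.center_scalar ρ hz
  have hm : ∀ g, ρ.character (z * g) = c * ρ.character g := fun g => by
    simp [Representation.character, map_mul, hc]
  refine ⟨c, ?_, hm⟩
  have h0 : ρ.character 1 ≠ 0 := irr_one_ne_zero ⟨ρ.character, n, ρ, hρ, rfl⟩
  have h1 : ρ.character z = c * ρ.character 1 := by simpa using hm 1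
  have h2 := hm z⁻¹
  rw [mul_inv_cancel, char_inv_eq_conj, h1, map_mul] at h2
  have h3 : conj (ρ.character 1) = ρ.character 1 := by rw [← char_inv_eq_conj, inv_one]
  rw [h3, ← mul_assoc] at h2
  exact (mul_eq_right₀ h0).1 h2.symm

set_option maxHeartbeats 1000000 in
/-- Let N be a central subgroup of the finite group G and ψ a faithful irreducible (hence degree-one) character of N. Call a coset g N special when every x ∈ G whose commutator x⁻¹ g⁻¹ x g lies in N actually commutes with g (this depends only on the coset). Then the number of irreducible characters of G whose restriction to N contains ψ equals the number of conjugacy classes of G/N consisting of special cosets. -/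
theorem result {G : Type*} [Group G] [Fintype G] (N : Subgroup G) [N.Normal] [Fintype N] (hN : N ≤ Subgroup.center G) (ψ : Cfsg.IrrCharacter ↥N) (hfaith : ∀ n : ↥N, (ψ : ↥N → ℂ) n = (ψ : ↥N → ℂ) 1 → n = 1) : Nat.card {χ : Cfsg.IrrCharacter G // Cfsg.classInner (fun n : ↥N => (χ : G → ℂ) n) (ψ : ↥N → ℂ) ≠ 0} = Nat.card {C : ConjClasses (G ⧸ N) // ∃ g : G, ConjClasses.mk (g : G ⧸ N) = C ∧ ∀ x : G, x⁻¹ * g⁻¹ * x * g ∈ N → x * g = g * x} := by
  classical
  have hab : IsMulCommutative N :=
    ⟨⟨fun a b => Subtype.ext (Subgroup.mem_center_iff.1 (hN b.2) a)⟩⟩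
  have hψ1 : (ψ : N → ℂ) 1 = 1 := CfsgLib.CharIto.degree_one_of_comm ψ.2
  have hψm : ∀ a b : N, (ψ : N → ℂ) (a * b) = (ψ : N → ℂ) a * (ψ : N → ℂ) b :=
    CfsgLib.CharIto.map_mul_of_degree_one (irr_isCharacter ψ) hψ1
  have hψ0 : ∀ n : N, (ψ : N → ℂ) n ≠ 0 := fun n h => by
    have := hψm n n⁻¹
    rw [mul_inv_cancel, hψ1, h, zero_mul] at this
    exact one_ne_zero this
  have hinv : ∀ (g : G) (n : N) (h : g * n * g⁻¹ ∈ N),
      (ψ : N → ℂ) ⟨g * n * g⁻¹, h⟩ = (ψ : N → ℂ) n := fun g n h => by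
    refine congrArg _ (Subtype.ext ?_)
    show g * (n : G) * g⁻¹ = n
    rw [Subgroup.mem_center_iff.1 (hN n.2) g, mul_inv_cancel_right]
  set O := {χ : IrrCharacter G // classInner (fun n : N => (χ : G → ℂ) n) (ψ : N → ℂ) ≠ 0}
  have htw : ∀ χ : O, ∀ (n : N) (g : G),
      (χ.1 : G → ℂ) ((n : G) * g) = (ψ : N → ℂ) n * (χ.1 : G → ℂ) g := by
    intro χ n g
    obtain ⟨c, -, hc⟩ := central_mul χ.1 (hN n.2)
    have hres := CfsgLib.Ramified.res_eq_smul_of_invariant N χ.1.2 ψ.2 (fun g n => hinv g n _) χ.2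
    have h1 := congrFun hres n
    have h2 := congrFun hres 1
    simp only [Pi.smul_apply, smul_eq_mul, hψ1, mul_one, OneMemClass.coe_one] at h1 h2
    have h3 := hc 1
    rw [mul_one, h1, ← h2] at h3
    rw [hc g]
    congr 1
    exact mul_right_cancel₀ (irr_one_ne_zero χ.1) (by rw [← h3, mul_comm])
  let Sp : G → Prop := fun g => ∀ x : G, x⁻¹ * g⁻¹ * x * g ∈ N → x * g = g * x
  set S := {C : ConjClasses (G ⧸ N) // ∃ g : G, ConjClasses.mk (g : G ⧸ N) = C ∧ Sp g}
  show Nat.card O = Nat.card S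
  choose r hr hrs using fun C : S => C.2
  have hsp : ∀ (C : S) (g : G), ConjClasses.mk (g : G ⧸ N) = C.1 →
      ∃ (n : N) (a : G), g = (n : G) * (a * r C * a⁻¹) := by
    intro C g hg
    obtain ⟨q, hq⟩ := isConj_iff.1 (ConjClasses.mk_eq_mk_iff_isConj.1 ((hr C).trans hg.symm))
    obtain ⟨a, rfl⟩ := QuotientGroup.mk_surjective q
    rw [← QuotientGroup.mk_mul, ← QuotientGroup.mk_inv, ← QuotientGroup.mk_mul] at hq
    have := QuotientGroup.eq.1 hq
    exact ⟨⟨_, this⟩, a, by
      rw [← Subgroup.mem_center_iff.1 (hN this) (a * r C * a⁻¹)]; group⟩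
  have huniq : ∀ (C : S) (n m : N) (a b : G),
      (n : G) * (a * r C * a⁻¹) = (m : G) * (b * r C * b⁻¹) → n = m := by
    intro C n m a b h
    set g := r C
    set x := b⁻¹ * a with hx
    have hz : ∀ y : G, y * ((n⁻¹ * m : N) : G) = ((n⁻¹ * m : N) : G) * y := fun y =>
      Subgroup.mem_center_iff.1 (hN (n⁻¹ * m : N).2) y
    have h1 : x * g * x⁻¹ = ((n⁻¹ * m : N) : G) * g := by
      have h2 : a * g * a⁻¹ = ((n⁻¹ * m : N) : G) * (b * g * b⁻¹) := by
        rw [Subgroup.coe_mul, Subgroup.coe_inv, mul_assoc ((n : G)⁻¹) (m : G), ← h]; group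
      calc x * g * x⁻¹ = b⁻¹ * (a * g * a⁻¹) * b := by rw [hx]; group
        _ = (b⁻¹ * ((n⁻¹ * m : N) : G)) * (b * g * b⁻¹) * b := by rw [h2]; group
        _ = _ := by rw [hz b⁻¹]; group
    have h3 : x⁻¹ * g⁻¹ * x * g ∈ N := by
      have : x⁻¹ * g⁻¹ * x * g = ((n⁻¹ * m : N) : G) := by
        calc x⁻¹ * g⁻¹ * x * g = x⁻¹ * g⁻¹ * (x * g * x⁻¹) * x := by group
          _ = x⁻¹ * (g⁻¹ * ((n⁻¹ * m : N) : G)) * g * x := by rw [h1]; group
          _ = (x⁻¹ * ((n⁻¹ * m : N) : G)) * x := by rw [hz g⁻¹]; group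
          _ = _ := by rw [hz x⁻¹]; group
      rw [this]; exact SetLike.coe_mem _
    rw [hrs C x h3, mul_inv_cancel_right] at h1
    exact inv_mul_eq_one.1 (Subtype.ext (mul_eq_right.1 h1.symm) : n⁻¹ * m = 1)
  have hvan : ∀ (f : G → ℂ), IsClassFunction G f →
      (∀ (n : N) (g : G), f ((n : G) * g) = (ψ : N → ℂ) n * f g) →
      (∀ C : S, f (r C) = 0) → f = 0 := by
    intro f hf hft h0
    funext g
    show f g = 0
    by_cases hg : Sp g
    · obtain ⟨n, a, hn⟩ := hsp ⟨_, g, rfl, hg⟩ g rfl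
      rw [hn, hft, hf, h0, mul_zero]
    · simp only [Sp, not_forall] at hg
      obtain ⟨x, hx, hxg⟩ := hg
      set n : N := ⟨_, hx⟩
      have h2 : x⁻¹ * g * x = (n : G)⁻¹ * g * 1 := by
        show x⁻¹ * g * x = (x⁻¹ * g⁻¹ * x * g)⁻¹ * g * 1
        rw [mul_one]
        have hc := Subgroup.mem_center_iff.1 (hN (N.inv_mem hx)) g
        rw [← hc]
        group
      have h3 : f g = (ψ : N → ℂ) n⁻¹ * f g := by
        conv_lhs => rw [← hf g x⁻¹, inv_inv, h2, mul_one, ← Subgroup.coe_inv, hft]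
      by_contra hne
      have h4 : (ψ : N → ℂ) n⁻¹ = 1 := (mul_eq_right₀ hne).1 h3.symm
      have h5 : n⁻¹ = 1 := hfaith _ (h4.trans hψ1.symm)
      have h6 : x⁻¹ * g⁻¹ * x * g = 1 := congrArg Subtype.val (inv_eq_one.1 h5)
      refine hxg ?_
      calc x * g = g * x * (x⁻¹ * g⁻¹ * x * g) := by group
        _ = g * x := by rw [h6, mul_one]
  let L : (O → ℂ) →ₗ[ℂ] (S → ℂ) :=
    { toFun := fun v C => ∑ χ : O, v χ * (χ.1 : G → ℂ) (r C)
      map_add' := fun v w => funext fun C => by simp [add_mul, Finset.sum_add_distrib]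
      map_smul' := fun c v => funext fun C => by simp [Finset.mul_sum, mul_assoc] }
  have hinj : Function.Injective L := by
    rw [injective_iff_map_eq_zero]
    intro v hv
    have hf := hvan (∑ χ : O, v χ • (χ.1 : G → ℂ))
      (isClassFunction_sum _ fun χ _ => isClassFunction_smul (irr_isClassFunction χ.1) _)
      (fun n g => by
        simp only [Finset.sum_apply, Pi.smul_apply, smul_eq_mul, htw, Finset.mul_sum]
        exact Finset.sum_congr rfl fun χ _ => by ring)
      (fun C => by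
        have := congrFun hv C
        simpa [L] using this)
    funext χ
    have h := congrArg (fun f => classInner f (χ.1 : G → ℂ)) hf
    simp only [classInner_sum_left, classInner_smul_left, classInner_zero_left] at h
    rw [Finset.sum_eq_single χ (fun χ' _ hne => by
      rw [classInner_irr_ne χ'.1.2 χ.1.2 fun e => hne (Subtype.ext (Subtype.ext e)), mul_zero])
      (fun h' => absurd (Finset.mem_univ _) h'), classInner_irr_self χ.1.2, mul_one] at h
    exact h
  have hsurj : Function.Surjective L := by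
    intro v
    let f : G → ℂ := fun g =>
      if h : ∃ C : S, ConjClasses.mk (g : G ⧸ N) = C.1 then
        (ψ : N → ℂ) (hsp h.choose g h.choose_spec).choose * v h.choose
      else 0
    have hval : ∀ (g : G) (C : S) (n : N) (a : G), g = (n : G) * (a * r C * a⁻¹) →
        f g = (ψ : N → ℂ) n * v C := by
      intro g C n a hg
      have hC : ConjClasses.mk (g : G ⧸ N) = C.1 := by
        rw [← hr C, hg, QuotientGroup.mk_mul, (QuotientGroup.eq_one_iff (n : G)).2 n.2, one_mul]
        exact (ConjClasses.mk_eq_mk_iff_isConj.2 (isConj_iff.2 ⟨(a : G ⧸ N), by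
          rw [← QuotientGroup.mk_inv, ← QuotientGroup.mk_mul, ← QuotientGroup.mk_mul]⟩)).symm
      have h : ∃ C : S, ConjClasses.mk (g : G ⧸ N) = C.1 := ⟨C, hC⟩
      simp only [f, dif_pos h]
      obtain ⟨a', ha'⟩ := (hsp h.choose g h.choose_spec).choose_spec
      generalize hn' : (hsp h.choose g h.choose_spec).choose = n' at ha' ⊢
      have hCC : h.choose = C := Subtype.ext (h.choose_spec.symm.trans hC)
      rw [hCC] at ha' ⊢
      rw [huniq C n' n a' a (ha'.symm.trans hg)]
    have hval0 : ∀ g : G, (¬ ∃ C : S, ConjClasses.mk (g : G ⧸ N) = C.1) → f g = 0 :=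
      fun g h => by simp only [f, dif_neg h]
    have hft : ∀ (m : N) (g : G), f ((m : G) * g) = (ψ : N → ℂ) m * f g := by
      intro m g
      have hq : (((m : G) * g : G) : G ⧸ N) = (g : G ⧸ N) := by
        rw [QuotientGroup.mk_mul, (QuotientGroup.eq_one_iff (m : G)).2 m.2, one_mul]
      by_cases h : ∃ C : S, ConjClasses.mk (g : G ⧸ N) = C.1
      · obtain ⟨C, hC⟩ := h
        obtain ⟨n, a, hn⟩ := hsp C g hC
        rw [hval g C n a hn, hval _ C (m * n) a (by rw [Subgroup.coe_mul, mul_assoc, ← hn]), hψm]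
        ring
      · rw [hval0 g h, hval0 _ (by rw [hq]; exact h), mul_zero]
    have hcl : IsClassFunction G f := by
      intro g b
      have hq : ConjClasses.mk ((b * g * b⁻¹ : G) : G ⧸ N) = ConjClasses.mk (g : G ⧸ N) :=
        (ConjClasses.mk_eq_mk_iff_isConj.2 (isConj_iff.2 ⟨(b : G ⧸ N), by
          rw [← QuotientGroup.mk_inv, ← QuotientGroup.mk_mul, ← QuotientGroup.mk_mul]⟩)).symm
      by_cases h : ∃ C : S, ConjClasses.mk (g : G ⧸ N) = C.1
      · obtain ⟨C, hC⟩ := h
        obtain ⟨n, a, hn⟩ := hsp C g hC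
        rw [hval g C n a hn, hval _ C n (b * a) ?_]
        rw [hn]
        calc b * ((n : G) * (a * r C * a⁻¹)) * b⁻¹
            = (b * (n : G)) * (a * r C * a⁻¹) * b⁻¹ := by group
          _ = ((n : G) * b) * (a * r C * a⁻¹) * b⁻¹ := by
              rw [Subgroup.mem_center_iff.1 (hN n.2) b]
          _ = _ := by group
      · rw [hval0 g h, hval0 _ (by rw [hq]; exact h)]
    refine ⟨fun χ => classInner f (χ.1 : G → ℂ), funext fun C => ?_⟩
    have hfr : f (r C) = v C := by
      rw [hval (r C) C 1 1 (by simp), hψ1, one_mul]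
    rw [← hfr]
    conv_rhs => rw [classFunction_eq_sum hcl, Finset.sum_apply]
    show ∑ χ : O, classInner f (χ.1 : G → ℂ) * (χ.1 : G → ℂ) (r C) = _
    simp only [Pi.smul_apply, smul_eq_mul]
    rw [← Finset.sum_filter_of_ne
      (p := fun χ : IrrCharacter G => classInner (fun n : N => (χ : G → ℂ) n) (ψ : N → ℂ) ≠ 0)]
    · exact (Finset.sum_subtype
        (p := fun χ : IrrCharacter G => classInner (fun n : N => (χ : G → ℂ) n) (ψ : N → ℂ) ≠ 0) _
        (fun χ => Finset.mem_filter.trans (and_iff_right (Finset.mem_univ χ)))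
        (fun χ : IrrCharacter G => classInner f (χ : G → ℂ) * (χ : G → ℂ) (r C))).symm
    intro χ _ hne
    have hne' : classInner f (χ : G → ℂ) ≠ 0 := left_ne_zero_of_mul hne
    have hc : ∀ n : N, (χ : G → ℂ) n = (ψ : N → ℂ) n * (χ : G → ℂ) 1 := by
      intro n
      obtain ⟨c, hc1, hc⟩ := central_mul χ (hN n.2)
      have h1 : classInner f (χ : G → ℂ) =
          (ψ : N → ℂ) n * conj c * classInner f (χ : G → ℂ) := by
        conv_lhs => rw [classInner, ← Equiv.sum_comp (Equiv.mulLeft (n : G))]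
        rw [classInner, ← mul_assoc ((ψ : N → ℂ) n * conj c), mul_comm ((ψ : N → ℂ) n * conj c),
          mul_assoc, Finset.mul_sum Finset.univ _ ((ψ : N → ℂ) n * conj c)]
        congr 1
        refine Finset.sum_congr rfl fun g _ => ?_
        rw [Equiv.coe_mulLeft, hft, hc, map_mul]
        ring
      have h2 : (ψ : N → ℂ) n * conj c = 1 := (mul_eq_right₀ hne').1 h1.symm
      have h3 : c = (ψ : N → ℂ) n := by
        have h4 : c * ((ψ : N → ℂ) n * conj c) = (ψ : N → ℂ) n * (c * conj c) := by ring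
        rw [h2, hc1, mul_one, mul_one] at h4
        exact h4
      have h5 := hc 1
      rw [mul_one, h3] at h5
      exact h5
    rw [show (fun n : N => (χ : G → ℂ) n) = (χ : G → ℂ) 1 • (ψ : N → ℂ) from
      funext fun n => by rw [hc n, Pi.smul_apply, smul_eq_mul, mul_comm],
      classInner_smul_left, classInner_irr_self ψ.2, mul_one]
    exact irr_one_ne_zero χ
  have e := (LinearEquiv.ofBijective L ⟨hinj, hsurj⟩).finrank_eq
  rw [Module.finrank_pi, Module.finrank_pi] at e
  rw [Nat.card_eq_fintype_card, Nat.card_eq_fintype_card]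
  exact e

end Cfsg.Agent.S4567
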