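import Cfsg.Statements.S4570
import Cfsg.Agent.Lib.AbelTwo.Reduce

set_option autoImplicit false
open Cfsg

namespace Cfsg.Agent.S4570

/-- Let G be a finite group with a commutative Sylow 2-subgroup P and M a maximal ideal of the algebraic integers containing 2, and suppose some involution x of G has the property that the principal 2-block of its centralizer has 2-regular rank one. If P has order 8 then the principal 2-block of G contains exactly 8 irreducible characters, and if P has order 16 it contains 8 or 16. -/
theorem result {G : Type*} [Group G] [Finite G] (M : Ideal Cfsg.AlgInt) (hM : Cfsg.IsPModular 2 M) (P : Sylow 2 G) (hab : IsMulCommutative P) (x : G) (hx : orderOf x = 2) (hl : Cfsg.blockRank 2 (Cfsg.principalBlock M ↥(Subgroup.centralizer ({x} : Set G))) = 1) : (Nat.card P = 8 → Nat.card (Cfsg.principalBlock M G) = 8) ∧ (Nat.card P = 16 → Nat.card (Cfsg.principalBlock M G) = 8 ∨ Nat.card (Cfsg.principalBlock M G) = 16) := by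
  classical
  have : Fintype G := Fintype.ofFinite G
  have : Fact (Nat.Prime 2) := ⟨Nat.prime_two⟩
  obtain ⟨S, hS⟩ := (IsPGroup.of_card (n := 1) (by rw [Nat.card_zpowers, hx, pow_one]) :
    IsPGroup 2 (Subgroup.zpowers x)).exists_le_sylow
  have hcard : Nat.card S = Nat.card P := Nat.card_congr (S.equiv P).toEquiv
  have habS : ∀ a ∈ (S : Subgroup G), ∀ b ∈ (S : Subgroup G), a * b = b * a := fun a ha b hb =>
    congrArg Subtype.val ((S.equiv P).injective (by
      rw [map_mul, map_mul]; exact hab.is_comm.comm _ _) :
        (⟨a, ha⟩ : (S : Subgroup G)) * ⟨b, hb⟩ = ⟨b, hb⟩ * ⟨a, ha⟩)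
  have h := CfsgLib.AbelTwo.block_count hM S habS (hS (Subgroup.mem_zpowers x)) hx hl
  exact ⟨fun h8 => h.1 (hcard.trans h8), fun h16 => h.2 (hcard.trans h16)⟩

end Cfsg.Agent.S4570
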