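import Cfsg.Statements.S4574
import Cfsg.Agent.Lib.KGV.CharTools
import Cfsg.Agent.Lib.Characters.Basic

set_option autoImplicit false
open Cfsg
open scoped ComplexConjugate

namespace Cfsg.Agent.S4574

/-- Let χ be an irreducible character of the finite group G, of degree d, and let Z(χ) be the set of elements g with |χ g| = d (the centre of χ). Then χ vanishes on at least (d ^ 2 - 1) · |Z(χ)| elements of G, with equality when every value |χ g| is 0, 1 or d. -/
theorem result {G : Type*} [Group G] [Fintype G] [DecidableEq G] (χ : G → ℂ) (hχ : Cfsg.IsIrrCharacter G χ) : (Cfsg.charDegree χ ^ 2 - 1) * (Finset.univ.filter (fun g : G => ‖χ g‖ = (Cfsg.charDegree χ : ℝ))).card ≤ (Finset.univ.filter (fun g : G => χ g = 0)).card ∧ ((∀ g : G, ‖χ g‖ = 0 ∨ ‖χ g‖ = 1 ∨ ‖χ g‖ = (Cfsg.charDegree χ : ℝ)) → (Cfsg.charDegree χ ^ 2 - 1) * (Finset.univ.filter (fun g : G => ‖χ g‖ = (Cfsg.charDegree χ : ℝ))).card = (Finset.univ.filter (fun g : G => χ g = 0)).card) := by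
  classical
  obtain ⟨d, hd, hd1⟩ := CfsgLib.Characters.irr_exists_degree hχ
  have hdeg : Cfsg.charDegree χ = d := by simp [Cfsg.charDegree, hd1]
  rw [hdeg]
  set Z := Finset.univ.filter (fun g : G => ‖χ g‖ = (d : ℝ)) with hZ
  set W := Finset.univ.filter (fun g : G => χ g = 0) with hW
  set s := Finset.univ.filter (fun g : G => ¬ ‖χ g‖ = (d : ℝ)) with hs
  set T := s.filter (fun g => χ g ≠ 0) with hT
  have hsum : ∑ g : G, χ g * conj (χ g) = (Fintype.card G : ℂ) := by
    have h := CfsgLib.Characters.classInner_irr_self hχ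
    rw [classInner, Nat.card_eq_fintype_card, inv_mul_eq_one₀
      (Nat.cast_ne_zero.2 Fintype.card_ne_zero)] at h
    exact h.symm
  have hsZ : ∑ g ∈ Z, χ g * conj (χ g) = (Z.card * d ^ 2 : ℕ) := by
    rw [Finset.sum_congr rfl (g := fun _ => ((d : ℂ)) ^ 2) fun g hg => by
      rw [Complex.mul_conj', (Finset.mem_filter.1 hg).2, Complex.ofReal_natCast]]
    simp
  have hss : ∑ g ∈ s, χ g * conj (χ g) = (((Fintype.card G : ℚ) - (Z.card * d ^ 2 : ℕ) : ℚ) : ℂ) := by
    rw [hs, ← Finset.sum_filter_add_sum_filter_not Finset.univ (fun g : G => ‖χ g‖ = (d : ℝ))] at *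
    push_cast
    rw [eq_sub_iff_add_eq, ← hsum, add_comm]
    rw [hsZ]
    push_cast
    rfl
  have hchar : Cfsg.IsCharacter G χ := CfsgLib.Characters.isCharacter_of_irr hχ
  have hle := CfsgLib.KGV.card_ne_zero_le_sum_normSq s Nat.card_pos χ
    (fun g _ => CfsgLib.KGV.char_mem_rootField hchar g)
    (fun g _ => CfsgLib.KGV.char_isIntegral hchar g) _ hss
  rw [← hT] at hle
  push_cast at hle
  have hcard1 : Z.card + s.card = Fintype.card G := by
    rw [hZ, hs, Finset.card_filter_add_card_filter_not]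
    rfl
  have hcard2 : T.card + W.card = s.card := by
    rw [hT, ← Finset.card_filter_add_card_filter_not (s := s) (fun g => χ g ≠ 0)]
    congr 2
    ext g
    simp only [hW, hs, Finset.mem_filter, Finset.mem_univ, true_and, not_not]
    exact ⟨fun h => ⟨by rw [h, norm_zero]; exact_mod_cast hd.ne, h⟩, fun h => h.2⟩
  have hTle : T.card + Z.card * d ^ 2 ≤ Fintype.card G := by
    have : ((T.card + Z.card * d ^ 2 : ℕ) : ℝ) ≤ ((Fintype.card G : ℕ) : ℝ) := by
      push_cast
      linarith
    exact_mod_cast this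
  have hd2 : 1 ≤ d ^ 2 := Nat.one_le_pow _ _ hd
  have e : (d ^ 2 - 1) * Z.card + Z.card = Z.card * d ^ 2 := by
    rw [Nat.sub_mul, one_mul, Nat.sub_add_cancel (Nat.le_mul_of_pos_left _ hd2), mul_comm]
  refine ⟨by omega, fun hall => ?_⟩
  have hexact : ∑ g ∈ s, χ g * conj (χ g) = (T.card : ℂ) := by
    rw [← Finset.sum_filter_add_sum_filter_not s (fun g => χ g ≠ 0), ← hT,
      Finset.sum_eq_zero (s := s.filter fun g => ¬ χ g ≠ 0) (fun g hg => by
        rw [not_not.1 (Finset.mem_filter.1 hg).2, zero_mul]), add_zero,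
      Finset.sum_congr rfl (g := fun _ => (1 : ℂ)) fun g hg => by
        obtain ⟨hgs, hg0⟩ := Finset.mem_filter.1 hg
        rcases hall g with h | h | h
        · exact absurd (norm_eq_zero.1 h) hg0
        · rw [Complex.mul_conj', h]; simp
        · exact absurd h (Finset.mem_filter.1 hgs).2]
    simp
  have hE : T.card + Z.card * d ^ 2 = Fintype.card G := by
    rw [hexact] at hss
    have h2 : ((T.card : ℚ) : ℂ) = (((Fintype.card G : ℚ) - (Z.card * d ^ 2 : ℕ) : ℚ) : ℂ) := by
      rw [← hss]; simp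
    have h3 := Rat.cast_injective h2
    have : ((T.card + Z.card * d ^ 2 : ℕ) : ℚ) = ((Fintype.card G : ℕ) : ℚ) := by
      push_cast at h3 ⊢
      linarith
    exact_mod_cast this
  omega

end Cfsg.Agent.S4574
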