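import Cfsg.Statements.S4575
import Cfsg.Agent.Lib.Blk4.MajorSection
import Cfsg.Agent.Lib.Blk4.TwoCyclotomic
import Cfsg.Agent.Lib.BlockCover.DefectGroup

set_option autoImplicit false
set_option linter.style.haveILetI false
open Cfsg CfsgLib.Blocks CfsgLib.Contribution CfsgLib.Blk4
open scoped ComplexConjugate

namespace Cfsg.Agent.S4575

/-- Let B be a 2-block of the finite group G (relative to a maximal ideal M of the algebraic integers containing 2) of defect d with defect group D. Let z be an element of D commuting with every element of D, and let b be a block of the centralizer of z with defect group D that induces B (a major subsection (z, b)). If the number of irreducible characters in B exceeds the 2-regular rank of b by at most three, then B contains at most 2 ^ d irreducible characters. -/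
theorem result {G : Type*} [Group G] [Finite G] (M : Ideal Cfsg.AlgInt) (hM : Cfsg.IsPModular 2 M) (B : Set (Cfsg.IrrCharacter G)) (hB : Cfsg.IsPBlock M B) (D : Subgroup G) (hD : Cfsg.IsDefectGroup 2 M B D) (z : G) (hzD : z ∈ D) (hzc : ∀ d ∈ D, d * z = z * d) (b : Set (Cfsg.IrrCharacter ↥(Subgroup.centralizer ({z} : Set G)))) (hb : Cfsg.IsInducedBlock M (Subgroup.centralizer ({z} : Set G)) b B) (hbD : Cfsg.IsDefectGroup 2 M b (D.subgroupOf (Subgroup.centralizer ({z} : Set G)))) (h : Nat.card B ≤ Cfsg.blockRank 2 b + 3) : Nat.card B ≤ 2 ^ Cfsg.blockDefect 2 B := by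
  classical
  haveI : Fintype G := Fintype.ofFinite G
  haveI : Fintype (ConjClasses G) := Fintype.ofFinite _
  haveI : Fintype (Subgroup.centralizer ({z} : Set G)) := Fintype.ofFinite _
  haveI : Fintype (ConjClasses (Subgroup.centralizer ({z} : Set G))) := Fintype.ofFinite _
  haveI : Fact (Nat.Prime 2) := ⟨Nat.prime_two⟩
  have hcD := CfsgLib.BlockCover.natCard_defect hM hB hD
  -- the defects agree
  have hd : blockDefect 2 b = blockDefect 2 B := by
    have hle : D ≤ Subgroup.centralizer ({z} : Set G) := fun x hx =>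
      Subgroup.mem_centralizer_singleton_iff.2 (hzc x hx)
    have h1 := CfsgLib.BlockCover.natCard_defect hM hb.1 hbD
    rw [Nat.card_congr (Subgroup.subgroupOfEquivOfLe hle).toEquiv, hcD] at h1
    exact (Nat.pow_right_injective le_rfl h1).symm
  obtain ⟨m, -, hm⟩ := (Nat.dvd_prime_pow Nat.prime_two).1
    (hcD ▸ (Subgroup.orderOf_dvd_natCard D hzD))
  set d := blockDefect 2 B with hdef
  rcases Nat.eq_zero_or_pos d with h0 | hd1
  · have := CfsgLib.Contribution.card_bound hM hB
    rw [← hdef, h0] at this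
    rw [h0]; simp at this ⊢; omega
  obtain ⟨χ₀, hχ₀, hχ₀red, hodd, heven⟩ := Major.shape z b hM hm hb hd
  let c : IrrCharacter G → IrrCharacter G → ℂ := fun χ φ => Major.cz z b 2 d χ φ
  let A : IrrCharacter G → IrrCharacter G → ℂ := fun χ φ =>
    (if χ = φ then (2 : ℂ) ^ d else 0) - c χ φ
  have hpow : z ^ 2 ^ m = 1 := hm ▸ pow_orderOf_eq_one z
  have hrange : ∀ χ φ, A χ φ ∈ (TwoCyc.ev m).range := by
    intro χ φ
    refine sub_mem ?_ ?_
    · split_ifs
      · simpa using TwoCyc.intCast_mem m (2 ^ d)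
      · exact zero_mem _
    · simp only [c, Major.cz_expand]
      refine sum_mem fun ξ hξ => sum_mem fun η hη => ?_
      rw [← hd, ← contribInt_cast hM hb.1 ξ (Finset.mem_filter.1 hη).2, Major.w, Major.w, map_mul,
        Complex.conj_natCast]
      rw [show (Major.nm z χ ξ : ℂ) * Major.lam z ξ * ((Major.nm z φ η : ℂ) * conj (Major.lam z η)) *
          (contribInt 2 b ξ η : ℂ) =
        ((Major.nm z χ ξ * Major.nm z φ η * contribInt 2 b ξ η : ℤ) : ℂ) *
          (Major.lam z ξ * conj (Major.lam z η)) by push_cast; ring]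
      refine TwoCyc.natCast_mul_root_mem m ?_ _
      rw [pow_succ, pow_mul, mul_pow, ← map_pow, Major.lam_pow z hpow, Major.lam_pow z hpow]
      simp
  choose a ha using hrange
  have hconj : ∀ χ φ, conj (A χ φ) = A φ χ := by
    intro χ φ
    simp only [A, c, map_sub, Major.cz_conj, eq_comm (a := χ) (b := φ)]
    split_ifs <;> simp [map_ofNat]
  have hmul : ∀ χ ∈ members B, ∑ φ ∈ members B, A χ φ * A φ χ = (2 : ℂ) ^ d * A χ χ := by
    intro χ hχ
    have h2 := Major.cz_mul z b hM hm hb hd χ χ
    push_cast at h2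
    rw [← hdef] at h2
    have e : ∀ φ, A χ φ * A φ χ =
        (if χ = φ then ((2 : ℂ) ^ d * 2 ^ d - 2 * 2 ^ d * c χ χ) else 0) + c χ φ * c φ χ := by
      intro φ
      by_cases hφ : χ = φ
      · subst hφ; simp only [A, if_pos]; ring
      · simp only [A, if_neg hφ, if_neg (Ne.symm hφ)]; ring
    simp only [e, Finset.sum_add_distrib, Finset.sum_ite_eq, if_pos hχ]
    simp only [c, members] at h2 ⊢
    rw [h2]
    simp only [A, c, if_pos]
    ring
  have hrow : ∀ χ ∈ members B,
      ∑ φ ∈ members B, ∑ j ∈ Finset.range (2 ^ m), a χ φ j ^ 2 = 2 ^ d * a χ χ 0 := by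
    intro χ hχ
    have h2 := congrArg (TwoCyc.tau m) (hmul χ hχ)
    rw [map_sum, show (2 : ℂ) ^ d * A χ χ = (((2 : ℤ) ^ d : ℤ) : ℂ) * A χ χ by push_cast; rfl,
      TwoCyc.tau_intCast_mul, ← ha χ χ, TwoCyc.tau_ev] at h2
    simp only [← hconj χ] at h2
    simp only [← ha, TwoCyc.tau_ev_norm] at h2
    exact_mod_cast h2
  have htr : ∑ χ ∈ members B, a χ χ 0 + 2 ^ d * (blockRank 2 b : ℤ) = 2 ^ d * (Nat.card B : ℤ) := by
    have h2 := Major.cz_trace z b hM hm hb d
    have h3 : ∑ χ ∈ members B, A χ χ + ((2 ^ d * blockRank 2 b : ℕ) : ℂ) =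
        ((2 ^ d * Nat.card B : ℕ) : ℂ) := by
      push_cast at h2 ⊢
      simp only [A, if_pos, Finset.sum_sub_distrib, c, members, Finset.sum_const, nsmul_eq_mul,
        CfsgLib.Contribution.card_members]
      simp only [members] at *
      rw [h2]; ring
    have h4 := congrArg (TwoCyc.tau m) h3
    rw [map_add, map_sum, TwoCyc.tau_natCast, TwoCyc.tau_natCast] at h4
    simp only [← ha, TwoCyc.tau_ev] at h4
    exact_mod_cast h4
  -- nonzero entries count
  have hone : ∀ χ φ, A χ φ ≠ 0 → 1 ≤ ∑ j ∈ Finset.range (2 ^ m), a χ φ j ^ 2 := by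
    intro χ φ hne
    obtain ⟨j, hj, hj0⟩ : ∃ j ∈ Finset.range (2 ^ m), a χ φ j ≠ 0 := by
      by_contra h'
      push Not at h'
      apply hne
      rw [← ha, TwoCyc.ev_apply]
      exact Finset.sum_eq_zero fun j hj => by simp [h' j hj]
    exact le_trans (by have : 0 < a χ φ j ^ 2 := pow_two_pos_of_ne_zero hj0; omega)
      (Finset.single_le_sum (fun i _ => sq_nonneg (a χ φ i)) hj)
  have hreal : ∀ χ, conj (TwoCyc.ev m (a χ χ)) = TwoCyc.ev m (a χ χ) := fun χ => by
    rw [ha, hconj]
  have h2d : MemLocalIdeal M ((2 : ℂ) ^ d) := by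
    rw [show (2 : ℂ) ^ d = ((2 ^ d : ℕ) : ℂ) by push_cast; rfl, memLocalIdeal_natCast_iff hM]
    exact dvd_pow_self 2 hd1.ne'
  by_contra hlt
  push Not at hlt
  rw [CfsgLib.Contribution.card_members] at hlt htr h
  have hkey : ∀ χ ∈ members B, 3 ≤ a χ χ 0 := by
    intro χ hχ
    have hχ' := mem_members.1 hχ
    have hr := hrow χ hχ
    by_cases hh : 2 ∣ red 2 B χ
    · obtain ⟨hne, e, he, hce⟩ := heven χ hχ' hh
      push_cast at hce
      have hd2 : 3 ≤ d := CfsgLib.Contribution.height_bound hM hB hχ' 1 one_pos (by simpa using hh)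
      have heq : TwoCyc.ev m (a χ χ) = 2 * ((2 : ℂ) ^ (d - 1) - e) := by
        rw [ha, mul_sub, ← pow_succ', Nat.sub_add_cancel hd1]
        simp only [A, if_pos, c, ← hce]
        rfl
      have hI : MemLocalIdeal M ((2 : ℂ) ^ (d - 1) - e) := by
        refine MemLocalIdeal.sub hM ?_ he
        rw [show (2 : ℂ) ^ (d - 1) = ((2 ^ (d - 1) : ℕ) : ℂ) by push_cast; rfl, memLocalIdeal_natCast_iff hM]
        exact dvd_pow_self 2 (by omega)
      have hev := TwoCyc.even_of_two_mul hM m (MemLocalIdeal.memLocalRing hI) heq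
      set a' : ℕ → ℤ := fun j => a χ χ j / 2 with ha'
      have hhalf : TwoCyc.ev m a' = (2 : ℂ) ^ (d - 1) - e := by
        refine mul_left_cancel₀ (two_ne_zero (α := ℂ)) ?_
        rw [← heq, TwoCyc.ev_apply, TwoCyc.ev_apply, Finset.mul_sum]
        refine Finset.sum_congr rfl fun j hj => ?_
        obtain ⟨q, hq⟩ := hev j (Finset.mem_range.1 hj)
        simp only [a', hq, Int.mul_ediv_cancel_left _ (two_ne_zero (α := ℤ))]
        push_cast; ring
      have hreal' : conj (TwoCyc.ev m a') = TwoCyc.ev m a' := by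
        have h5 := hreal χ
        rw [heq, map_mul, map_ofNat] at h5
        rw [hhalf]
        exact mul_left_cancel₀ (two_ne_zero (α := ℂ)) h5
      have h6 := (TwoCyc.real_mem_iff hM m hreal').1 (hhalf ▸ hI)
      have h7 := hev 0 (by positivity)
      simp only [a'] at h6
      have hAne : A χ χ₀ ≠ 0 := by
        have hne' : χ ≠ χ₀ := fun he => hχ₀red (he ▸ hh)
        simpa [A, if_neg hne', c] using hne
      have h8 : (1 : ℤ) ≤ 2 ^ d * a χ χ 0 := by
        rw [← hr]
        exact (hone χ χ₀ hAne).trans (Finset.single_le_sum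
          (f := fun φ => ∑ j ∈ Finset.range (2 ^ m), a χ φ j ^ 2)
          (fun φ _ => Finset.sum_nonneg fun j _ => sq_nonneg _) (mem_members.2 hχ₀))
      have h9 : 0 < a χ χ 0 := by
        by_contra hle
        nlinarith [pow_pos (show (0:ℤ) < 2 by norm_num) d]
      omega
    · obtain ⟨hu, hne⟩ := hodd χ hχ' hh
      have hA : ∀ φ ∈ members B, A χ φ ≠ 0 := by
        intro φ hφ
        by_cases he : χ = φ
        · subst he
          intro h0
          apply hu
          have : c χ χ = (2 : ℂ) ^ d := by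
            simp only [A, if_pos] at h0
            exact (sub_eq_zero.1 h0).symm
          simp only [c] at this
          rw [this]; exact h2d
        · simpa [A, if_neg he, c] using hne φ (mem_members.1 hφ)
      have h8 : ((members B).card : ℤ) ≤ 2 ^ d * a χ χ 0 := by
        rw [← hr, Finset.card_eq_sum_ones, Nat.cast_sum]
        exact Finset.sum_le_sum fun φ hφ => by simpa using hone χ φ (hA φ hφ)
      have hodd0 : ¬ (2 : ℤ) ∣ a χ χ 0 := by
        rw [← TwoCyc.real_mem_iff hM m (hreal χ), ha]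
        intro h0
        apply hu
        have h1 := MemLocalIdeal.sub hM h2d h0
        simpa [A, c] using h1
      have hlt' : (2 : ℤ) ^ d < (members B).card := by exact_mod_cast hlt
      have h9 : 1 < a χ χ 0 := by
        by_contra hle
        nlinarith [pow_pos (show (0:ℤ) < 2 by norm_num) d]
      omega
  have h10 : 3 * ((members B).card : ℤ) ≤ ∑ χ ∈ members B, a χ χ 0 := by
    refine le_trans ?_ (Finset.card_nsmul_le_sum _ _ _ hkey)
    simp [mul_comm]
  have hlt' : (2 : ℤ) ^ d < (members B).card := by exact_mod_cast hlt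
  have h11 : ((members B).card : ℤ) ≤ blockRank 2 b + 3 := by exact_mod_cast h
  nlinarith [pow_pos (show (0:ℤ) < 2 by norm_num) d]

end Cfsg.Agent.S4575
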