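import Cfsg.Statements.S4580
import Cfsg.Agent.Lib.Blk4.PrincipalTwo
import Cfsg.Agent.Lib.Blk4.RealExtension

set_option autoImplicit false
open Cfsg

namespace Cfsg.Agent.S4580

open CfsgLib.Blocks CfsgLib.Characters CfsgLib.LinearTwist
open scoped ComplexConjugate

theorem sub_one_mem {M : Ideal AlgInt} (hM : IsPModular 2 M) {z : ℂ} {a : ℕ}
    (hz : z ^ 2 ^ a = 1) : z ∈ lRing hM ∧ MemLocalIdeal M (z - 1) := by
  haveI := IsPModular.isMaximal hM
  letI := Ideal.Quotient.field M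
  haveI := charP_residue hM
  haveI : Fact (Nat.Prime 2) := ⟨Nat.prime_two⟩
  have hmem : z ∈ lRing hM := isIntegral_mem_lRing hM
    (IsIntegral.of_pow (pow_pos two_pos a) (by rw [hz]; exact isIntegral_one))
  refine ⟨hmem, (lRes_eq_iff hM ⟨z, hmem⟩ 1).1 ?_⟩
  have h : (lRes hM ⟨z, hmem⟩ - 1) ^ 2 ^ a = 0 := by
    rw [sub_pow_char_pow, one_pow, ← map_pow, show (⟨z, hmem⟩ : lRing hM) ^ 2 ^ a = 1 from
      Subtype.ext (by simpa using hz), map_one, sub_self]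
  rw [map_one]
  exact sub_eq_zero.1 (pow_eq_zero_iff (pow_ne_zero a two_ne_zero) |>.1 h)

theorem result {G : Type*} [Group G] [Finite G] (N : Subgroup G) [N.Normal] (M : Ideal Cfsg.AlgInt) (hM : Cfsg.IsPModular 2 M) (θ : Cfsg.IrrCharacter N) (hreal : ∀ n : N, ((θ : N → ℂ) n).im = 0) (hodd : Odd (Cfsg.charDegree (θ : N → ℂ))) (hext : ∃ η : Cfsg.IrrCharacter G, ∀ n : N, (η : G → ℂ) n = (θ : N → ℂ) n) :
    ∃ η : Cfsg.IrrCharacter G, (∀ n : N, (η : G → ℂ) n = (θ : N → ℂ) n) ∧ η ∈ Cfsg.principalBlock M G := by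
  haveI := Fintype.ofFinite G
  obtain ⟨η, hη⟩ := hext
  have hθ1 : (θ : N → ℂ) 1 = (charDegree (θ : N → ℂ) : ℂ) :=
    apply_one_eq_charDegree (irr_isCharacter θ)
  obtain ⟨ν, hνreal, hνN⟩ := CfsgLib.Blk4.exists_real_twist N θ.2
    (fun n => Complex.conj_eq_iff_im.2 (hreal n)) hθ1 hodd η.2 hη
  have hη1 : (η : G → ℂ) 1 = (charDegree (θ : N → ℂ) : ℂ) := by
    rw [← hθ1, ← hη 1, OneMemClass.coe_one]
  let η₀ : IrrCharacter G := ⟨_, isIrr_mul_hom η.2 ν⟩
  have hη0 : η₀ ∈ principalBlock M G := by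
    refine CfsgLib.Blk4.mem_principal_of_real_odd hM η₀ hνreal ?_
    rw [charDegree_eq_of_apply_one (n := charDegree (θ : N → ℂ)) (by simp [η₀, hη1])]
    exact hodd
  obtain ⟨a, m, hm, hn⟩ := Nat.exists_eq_two_pow_mul_odd (Nat.card_pos (α := G)).ne'
  obtain ⟨j, hj1, hj2⟩ := Nat.chineseRemainder
    (Nat.Coprime.pow_left (a + 1) (Nat.coprime_two_left.2 hm)) 0 1
  refine ⟨⟨_, isIrr_mul_hom η.2 (ν ^ j)⟩, fun n => ?_, fun g => ?_⟩
  · have hje : 2 ∣ j := (dvd_pow_self 2 (Nat.succ_ne_zero a)).trans (Nat.modEq_zero_iff_dvd.1 hj1)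
    obtain ⟨i, rfl⟩ := hje
    simp [MonoidHom.pow_apply, pow_mul, hνN, hη]
  · set z : ℂˣ := ν g ^ j * (ν g)⁻¹ with hzdef
    have hz : (z : ℂ) ^ 2 ^ a = 1 := by
      rw [← Units.val_pow_eq_pow_val, ← Units.val_one]
      congr 1
      have he : ν g ^ (2 ^ a * j) = ν g ^ (2 ^ a * 1) := by
        have h1 : 2 ^ a * j ≡ 2 ^ a * 1 [MOD Nat.card G] := hn ▸ Nat.ModEq.mul_left' _ hj2
        rw [← map_pow, ← map_pow]
        congr 1
        rw [pow_eq_pow_iff_modEq]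
        exact h1.of_dvd (orderOf_dvd_natCard g)
      rw [hzdef, mul_pow, ← pow_mul, mul_comm j, he, mul_one, inv_pow, mul_inv_cancel]
    obtain ⟨hzR, hzI⟩ := sub_one_mem hM hz
    have h0 := hη0 g
    have hc : centralChar (fun x => (η : G → ℂ) x * ((ν ^ j) x : ℂ)) g =
        centralChar (η₀ : G → ℂ) g * (z : ℂ) := by
      have hne : ((ν g : ℂˣ) : ℂ) ≠ 0 := Units.ne_zero _
      simp only [centralChar, η₀, MonoidHom.pow_apply, map_one, one_pow, Units.val_one, mul_one,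
        hzdef, Units.val_mul, Units.val_inv_eq_inv_val]
      field_simp
    rw [hc]
    set A := centralChar (fun _ : G => (1 : ℂ)) g with hA
    have hAR : A ∈ lRing hM := by
      rw [hA, CfsgLib.PrincipalSq.centralChar_principal]; exact natCast_mem _ _
    have h1 := MemLocalIdeal.sub hM (MemLocalIdeal.mul_left hM hzR h0)
      (MemLocalIdeal.mul_left hM hAR hzI)
    convert h1 using 1
    ring

end Cfsg.Agent.S4580
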