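import Cfsg.Statements.S4582
import Cfsg.Agent.Lib.Blk4.Transfer

namespace Cfsg.Agent.S4582

open Subgroup CfsgLib.Blk4.Transfer

theorem core {G A : Type*} [Group G] [Finite G] [CommGroup A] (N P : Subgroup G) [N.Normal]
    (hsup : N ⊔ P = ⊤) (ϕ : P →* A)
    (hidx : Odd P.index) (hodd : Odd (Nat.card (Abelianization N)))
    (hA2 : IsPGroup 2 A)
    (hQ : ∀ x : P, x ∈ N.subgroupOf P → ϕ x ^ 2 = 1) (x : P)
    (hP : x ^ 2 ∈ N.subgroupOf P ⊔ commutator P) : ϕ (x ^ 2) = 1 := by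
  obtain ⟨V, hV⟩ : ∃ V : G →* A, V = MonoidHom.transfer ϕ := ⟨_, rfl⟩
  -- the transfer kills N
  have hVN : ∀ n : N, V n = 1 := by
    intro n
    let f : Abelianization N →* A := Abelianization.lift (V.comp N.subtype)
    have h1 : V n = f (Abelianization.of n) := (Abelianization.lift_apply_of _ _).symm
    obtain ⟨k, hk⟩ := hA2 (V n)
    have h2 : orderOf (V n) ∣ Nat.card (Abelianization N) := by
      rw [h1]
      exact (orderOf_map_dvd f _).trans (orderOf_dvd_natCard _)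
    have h3 : orderOf (V n) ∣ 2 ^ k := orderOf_dvd_of_pow_eq_one hk
    have h4 : (Nat.card (Abelianization N)).Coprime (2 ^ k) :=
      Nat.Coprime.pow_right k (Nat.coprime_two_right.2 hodd)
    exact orderOf_eq_one_iff.1 (Nat.eq_one_of_dvd_coprimes h4 h2 h3)
  let f : P →* G ⧸ N := (QuotientGroup.mk' N).comp P.subtype
  have hf : Function.Surjective f := by
    intro q
    obtain ⟨g, rfl⟩ := QuotientGroup.mk_surjective q
    have hg : g ∈ N ⊔ P := by rw [hsup]; exact mem_top g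
    obtain ⟨n, hn, p, hp, rfl⟩ := mem_sup_of_normal_left.1 hg
    refine ⟨⟨p, hp⟩, ?_⟩
    show (QuotientGroup.mk p : G ⧸ N) = QuotientGroup.mk (n * p)
    rw [QuotientGroup.mk_mul, (QuotientGroup.eq_one_iff n).2 hn, one_mul]
  let π : A →* A := powMonoidHom 2
  have hker : f.ker ≤ (π.comp ϕ).ker := by
    intro p hp
    rw [MonoidHom.mem_ker] at hp ⊢
    exact hQ p ((QuotientGroup.eq_one_iff (p : G)).1 hp)
  let φ : G →* A := (MonoidHom.liftOfSurjective f hf ⟨_, hker⟩).comp (QuotientGroup.mk' N)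
  have hφ : ∀ p : P, φ p = (π.comp ϕ) p := fun p =>
    MonoidHom.liftOfRightInverse_comp_apply f (Function.surjInv hf)
      (Function.rightInverse_surjInv hf) ⟨π.comp ϕ, hker⟩ p
  have hπ : π (V x) = π (ϕ x) ^ P.index := by
    rw [hV, comp_transfer π ϕ (x : G), transfer_of_extends (π.comp ϕ) φ hφ (x : G), hφ,
      MonoidHom.comp_apply]
  -- V (x²) = 1
  have hV2 : V x ^ 2 = 1 := by
    rw [← map_pow]
    have hle : N.subgroupOf P ⊔ commutator P ≤ (V.comp P.subtype).ker := by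
      refine sup_le (fun p hp => hVN ⟨p, hp⟩) ?_
      exact Abelianization.commutator_subset_ker _
    have h := hle hP
    rw [MonoidHom.mem_ker, MonoidHom.comp_apply, map_pow] at h
    simpa using h
  simp only [π, powMonoidHom_apply, hV2] at hπ
  rw [← map_pow] at hπ
  obtain ⟨k, hk⟩ := hA2 (ϕ (x ^ 2))
  have h1 : orderOf (ϕ (x ^ 2)) ∣ 2 ^ k := orderOf_dvd_of_pow_eq_one hk
  have h2 : orderOf (ϕ (x ^ 2)) ∣ P.index := orderOf_dvd_of_pow_eq_one hπ.symm
  have h4 : P.index.Coprime (2 ^ k) := Nat.Coprime.pow_right k (Nat.coprime_two_right.2 hidx)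
  exact orderOf_eq_one_iff.1 (Nat.eq_one_of_dvd_coprimes h4 h2 h1)

theorem result {G : Type*} [Group G] [Finite G] (N : Subgroup G) [N.Normal] (P : Sylow 2 G)
    (hP : ∀ x ∈ (P : Subgroup G), x ^ 2 ∈ ((P : Subgroup G) ⊓ N) ⊔ ⁅(P : Subgroup G), (P : Subgroup G)⁆)
    (hQ : ∀ x ∈ (P : Subgroup G) ⊓ N, x ^ 2 ∈ ⁅(P : Subgroup G) ⊓ N, (P : Subgroup G) ⊓ N⁆)
    (hodd : Odd (Nat.card (Abelianization N))) :
    ∀ x ∈ (P : Subgroup G), x ^ 2 ∈ ⁅(P : Subgroup G), (P : Subgroup G)⁆ := by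
  set P' : Subgroup G := (P : Subgroup G)
  let G₀ : Subgroup G := N ⊔ P'
  have hN0 : N ≤ G₀ := le_sup_left
  have hP0 : P' ≤ G₀ := le_sup_right
  let eP : P'.subgroupOf G₀ ≃* P' := subgroupOfEquivOfLe hP0
  have hidx : Odd (P'.subgroupOf G₀).index := by
    rw [Nat.odd_iff, ← Nat.two_dvd_ne_zero]
    exact fun h => P.not_dvd_index (h.trans ⟨G₀.index, (relIndex_mul_index hP0).symm⟩)
  have hsup : N.subgroupOf G₀ ⊔ P'.subgroupOf G₀ = ⊤ := by
    rw [← subgroupOf_sup hN0 hP0, subgroupOf_self]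
  have hcomm : ∀ y : P'.subgroupOf G₀, y ∈ commutator (P'.subgroupOf G₀) ↔
      ((y : G₀) : G) ∈ ⁅P', P'⁆ := by
    intro y
    have h1 := Subgroup.map_subtype_commutator (P'.subgroupOf G₀)
    have h2 : ⁅P'.subgroupOf G₀, P'.subgroupOf G₀⁆.map G₀.subtype = ⁅P', P'⁆ := by
      rw [map_commutator, subgroupOf_map_subtype, inf_eq_left.2 hP0]
    rw [← h2, ← h1]
    rw [Subgroup.map_map]
    exact (mem_map_iff_mem (f := G₀.subtype.comp (P'.subgroupOf G₀).subtype)
      (fun a b h => Subtype.ext (Subtype.ext h))).symm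
  intro x hx
  have hA2 : IsPGroup 2 (Abelianization (P'.subgroupOf G₀)) :=
    (P.2.of_equiv eP.symm).of_surjective Abelianization.of QuotientGroup.mk_surjective
  set y : P'.subgroupOf G₀ := ⟨⟨x, hP0 hx⟩, hx⟩
  have key := core (N.subgroupOf G₀) (P'.subgroupOf G₀) hsup Abelianization.of hidx
    (by rwa [Nat.card_congr (subgroupOfEquivOfLe hN0).abelianizationCongr.toEquiv]) hA2
    (fun z hz => ?_) y ?_
  · rw [← MonoidHom.mem_ker, Abelianization.ker_of] at key
    exact (hcomm _).1 key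
  · rw [← map_pow, ← MonoidHom.mem_ker, Abelianization.ker_of, hcomm]
    have h := hQ ((z : G₀) : G) ⟨z.2, hz⟩
    simpa using commutator_mono inf_le_left inf_le_left h
  · have h := hP ((y : G₀) : G) y.2
    have hle : P' ⊓ N ⊔ ⁅P', P'⁆ ≤
        ((N.subgroupOf G₀).subgroupOf (P'.subgroupOf G₀) ⊔ commutator (P'.subgroupOf G₀)).map
          (G₀.subtype.comp (P'.subgroupOf G₀).subtype) := by
      refine sup_le (fun a ha => ?_) (fun a ha => ?_)
      · exact ⟨⟨⟨a, hP0 ha.1⟩, ha.1⟩, mem_sup_left ha.2, rfl⟩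
      · have haP : a ∈ P' := commutator_le_self P' ha
        exact ⟨⟨⟨a, hP0 haP⟩, haP⟩, mem_sup_right ((hcomm _).2 ha), rfl⟩
    obtain ⟨z, hz, hzy⟩ := hle h
    have : z = y ^ 2 := Subtype.ext (Subtype.ext (by simpa using hzy))
    rwa [this] at hz

end Cfsg.Agent.S4582
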