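import Cfsg.Statements.S4583
import Cfsg.Agent.Lib.Blocks.ThirdMain
import Cfsg.Agent.Lib.Characters.Induction
import Cfsg.Agent.Lib.Characters.NormalRes
import Cfsg.Agent.Lib.CharCorr.InvariantAbelian

set_option autoImplicit false
open Cfsg

namespace Cfsg.Agent.S4583

/-- Let N be a normal subgroup of the finite group G, p a prime, M a maximal ideal of the algebraic integers containing p, and P a Sylow p-subgroup of G. Let θ be an irreducible character of N of degree prime to p lying in the principal p-block of N, and suppose θ extends to the subgroup NP (some irreducible character of NP restricts to θ). Then some irreducible character χ of G of degree prime to p in the principal p-block of G lies over θ (θ is a constituent of the restriction of χ to N). -/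
theorem result {G : Type*} [Group G] [Finite G] (N : Subgroup G) [N.Normal] (p : ℕ) [Fact p.Prime] (M : Ideal Cfsg.AlgInt) (hM : Cfsg.IsPModular p M) (P : Sylow p G)
    (θ : Cfsg.IrrCharacter N) (hθ : θ ∈ Cfsg.principalBlock M N) (hdeg : ¬ p ∣ Cfsg.charDegree (θ : N → ℂ))
    (hext : ∃ η : Cfsg.IrrCharacter ↥(N ⊔ (P : Subgroup G)), ∀ n : N, (η : ↥(N ⊔ (P : Subgroup G)) → ℂ) (Subgroup.inclusion le_sup_left n) = (θ : N → ℂ) n) :
    ∃ χ : Cfsg.IrrCharacter G, χ ∈ Cfsg.principalBlock M G ∧ ¬ p ∣ Cfsg.charDegree (χ : G → ℂ) ∧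
      haveI := Fintype.ofFinite N; Cfsg.classInner (fun n : N => (χ : G → ℂ) n) (θ : N → ℂ) ≠ 0 := by
  classical
  letI := Fintype.ofFinite G
  letI := Fintype.ofFinite N
  set H := N ⊔ (P : Subgroup G)
  letI : Fintype H := Fintype.ofFinite _
  obtain ⟨η, hη⟩ := hext
  let f : G → ℂ := fun g => if ¬ p ∣ orderOf g then 1 else 0
  have hf : Cfsg.IsClassFunction G f := fun g x => by
    simp only [f]
    rw [show x * g * x⁻¹ = MulAut.conj x g from rfl, MulEquiv.orderOf_eq]
  -- a regular element of `H` lies in `N`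
  have hreg : ∀ h ∈ H, ¬ p ∣ orderOf h → h ∈ N := by
    intro h hh hr
    rw [← QuotientGroup.eq_one_iff, ← orderOf_eq_one_iff]
    obtain ⟨n, hn, y, hy, rfl⟩ := Subgroup.mem_sup_of_normal_left.1 hh
    obtain ⟨k, hk⟩ := IsPGroup.iff_orderOf.1 P.2 ⟨y, hy⟩
    rw [Subgroup.orderOf_mk] at hk
    have e : (QuotientGroup.mk' N) (n * y) = QuotientGroup.mk' N y := by
      rw [map_mul, (QuotientGroup.eq_one_iff n).2 hn |> (show QuotientGroup.mk' N n = 1 from ·), one_mul]
    have h1 : orderOf (QuotientGroup.mk' N (n * y)) ∣ p ^ k := by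
      rw [e, ← hk]; exact orderOf_map_dvd _ _
    have h2 : orderOf (QuotientGroup.mk' N (n * y)) ∣ orderOf (n * y) := orderOf_map_dvd _ _
    exact Nat.eq_one_of_dvd_coprimes
      (Nat.Coprime.pow_left k ((Fact.out : p.Prime).coprime_iff_not_dvd.2 hr)) h1 h2
  have hsumH : ∑ h : H, (η : H → ℂ) h * f h = (θ : N → ℂ) 1 *
      CfsgLib.Blocks.omega (θ : N → ℂ) (CfsgLib.Blocks.regSum ℂ N p) := by
    rw [CfsgLib.Blocks.omega_regSum, mul_div_cancel₀ _ (CfsgLib.Characters.irr_one_ne_zero θ)]
    simp only [f, mul_ite, mul_one, mul_zero]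
    rw [← Finset.sum_filter]
    symm
    refine Finset.sum_bij (fun n _ => Subgroup.inclusion le_sup_left n) (fun n hn => ?_)
      (fun _ _ _ _ he => Subgroup.inclusion_injective le_sup_left he) (fun h hh => ?_) (fun n _ => (hη n).symm)
    · refine Finset.mem_filter.2 ⟨Finset.mem_univ _, ?_⟩
      rw [Subgroup.coe_inclusion, Subgroup.orderOf_coe]
      exact (Finset.mem_filter.1 hn).2
    · have hh' := (Finset.mem_filter.1 hh).2
      refine ⟨⟨(h : G), hreg h h.2 hh'⟩, Finset.mem_filter.2 ⟨Finset.mem_univ _, ?_⟩, Subtype.ext rfl⟩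
      rw [← Subgroup.orderOf_coe]
      exact hh'
  set Ψ := Cfsg.indFun H (η : H → ℂ)
  choose m hm using fun χ : Cfsg.IrrCharacter G => CfsgLib.Characters.classInner_char_nat
    (CfsgLib.Induction.isCharacter_indFun H (CfsgLib.Characters.irr_isCharacter η)) (CfsgLib.Characters.irr_isCharacter χ)
  -- some constituent has unit regular sum and degree prime to `p`
  obtain ⟨χ, hm0, hB, hd⟩ : ∃ χ, m χ ≠ 0 ∧ χ ∈ Cfsg.principalBlock M G ∧
      ¬ p ∣ Cfsg.charDegree (χ : G → ℂ) := by
    by_contra hcon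
    push Not at hcon
    have hlhs : Cfsg.MemLocalIdeal M (∑ g : G, Ψ g * f g) := by
      have hΨ := CfsgLib.Characters.classFunction_eq_sum (CfsgLib.Induction.isClassFunction_indFun H (η : H → ℂ))
      have e : ∑ g : G, Ψ g * f g = ∑ χ : Cfsg.IrrCharacter G, (m χ : ℂ) *
          ((χ : G → ℂ) 1 * CfsgLib.Blocks.omega (χ : G → ℂ) (CfsgLib.Blocks.regSum ℂ G p)) := by
        rw [show Ψ = _ from hΨ]
        simp only [Finset.sum_apply, Pi.smul_apply, smul_eq_mul, Finset.sum_mul, hm]
        rw [Finset.sum_comm]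
        refine Finset.sum_congr rfl fun χ _ => ?_
        rw [CfsgLib.Blocks.omega_regSum, mul_div_cancel₀ _ (CfsgLib.Characters.irr_one_ne_zero χ),
          Finset.sum_filter, Finset.mul_sum]
        refine Finset.sum_congr rfl fun g _ => ?_
        simp only [f]
        split_ifs <;> simp
      rw [e]
      refine CfsgLib.Blocks.MemLocalIdeal.sum hM _ fun χ _ => ?_
      by_cases h0 : m χ = 0
      · rw [h0, Nat.cast_zero, zero_mul]; exact CfsgLib.Blocks.memLocalIdeal_zero hM
      refine CfsgLib.Blocks.MemLocalIdeal.mul_left hM (natCast_mem (CfsgLib.Blocks.lRing hM) _) ?_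
      by_cases hB : χ ∈ Cfsg.principalBlock M G
      · obtain ⟨d, hd0, hd⟩ := CfsgLib.Characters.irr_exists_degree χ.2
        have hdd : Cfsg.charDegree (χ : G → ℂ) = d := by
          rw [Cfsg.charDegree, hd, Complex.natCast_re, Nat.floor_natCast]
        rw [hd, ← hdd]
        refine CfsgLib.Blocks.MemLocalIdeal.mul_right hM
          ((CfsgLib.Blocks.memLocalIdeal_natCast_iff hM _).2 (hcon χ h0 hB)) ?_
        exact CfsgLib.Blocks.omega_mem_lRing hM χ (CfsgLib.Blocks.regSum_mem_center ℂ p)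
          (CfsgLib.Blocks.coeff_regSum_memLocalRing hM)
      · rw [CfsgLib.Blocks.omega_regSum_eq_zero hM hB, mul_zero]
        exact CfsgLib.Blocks.memLocalIdeal_zero hM
    have h1 := CfsgLib.Induction.sum_indFun_mul H (η : H → ℂ) hf
    rw [hsumH] at h1
    have hidx : ¬ p ∣ H.index := fun h => P.not_dvd_index (h.trans (Subgroup.index_dvd_of_le le_sup_right))
    have h2 : ∑ g : G, Ψ g * f g = ((θ : N → ℂ) 1 * (H.index : ℂ)) *
        CfsgLib.Blocks.omega (θ : N → ℂ) (CfsgLib.Blocks.regSum ℂ N p) := by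
      have hH0 : (Nat.card H : ℂ) ≠ 0 := Nat.cast_ne_zero.2 Nat.card_pos.ne'
      have hi0 : (H.index : ℂ) ≠ 0 := Nat.cast_ne_zero.2 Subgroup.index_ne_zero_of_finite
      rw [← Subgroup.card_mul_index H] at h1
      push_cast at h1
      field_simp at h1
      rw [show Ψ = Cfsg.indFun H (η : H → ℂ) from rfl]
      linear_combination h1
    obtain ⟨d, hd0, hd⟩ := CfsgLib.Characters.irr_exists_degree θ.2
    have hdd : Cfsg.charDegree (θ : N → ℂ) = d := by
      rw [Cfsg.charDegree, hd, Complex.natCast_re, Nat.floor_natCast]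
    rw [h2, hd, ← hdd, ← Nat.cast_mul] at hlhs
    refine CfsgLib.Blocks.omega_regSum_not_mem hM hθ ?_
    have hnd : ¬ p ∣ Cfsg.charDegree (θ : N → ℂ) * H.index :=
      fun h => ((Fact.out : p.Prime).dvd_mul.1 h).elim hdeg hidx
    have h3 := CfsgLib.Blocks.MemLocalIdeal.mul_left hM (CfsgLib.Blocks.inv_natCast_mem_lRing hM hnd) hlhs
    have h4 : Cfsg.charDegree (θ : N → ℂ) * H.index ≠ 0 := fun h0 => hnd (by rw [h0]; exact dvd_zero p)
    rwa [inv_mul_cancel_left₀ (Nat.cast_ne_zero.2 h4)] at h3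
  refine ⟨χ, hB, hd, ?_⟩
  have h1 : Cfsg.classInner (fun h : H => (χ : G → ℂ) h) (η : H → ℂ) ≠ 0 := by
    intro h0
    have h := hm χ
    rw [CfsgLib.Induction.classInner_indFun H _ (CfsgLib.Characters.irr_isClassFunction χ),
      CfsgLib.Induction.classInner_swap, h0, map_zero] at h
    exact hm0 (Nat.cast_eq_zero.1 h.symm)
  have h2 : Cfsg.classInner (fun n : N => (η : H → ℂ) ⟨n, (le_sup_left : N ≤ H) n.2⟩) (θ : N → ℂ) ≠ 0 := by
    rw [show (fun n : N => (η : H → ℂ) ⟨n, (le_sup_left : N ≤ H) n.2⟩) = (θ : N → ℂ) from funext hη,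
      CfsgLib.Characters.classInner_irr]
    simp
  exact CfsgLib.InvariantAbelian.constituent_trans (le_sup_left : N ≤ H) (CfsgLib.Characters.irr_isCharacter χ) η θ h1 h2

end Cfsg.Agent.S4583
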