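import Cfsg.Statements.S4584
import Cfsg.Agent.Lib.Blk4.PGroup

namespace Cfsg.Agent.S4584

open CfsgLib.Blk4.PGroup Subgroup

theorem result {P : Type*} [Group P] [Finite P] (p : ℕ) [Fact p.Prime] (hP : Nat.card P = p ^ 4) :
    Nat.card (commutator P) = p ↔ (Subgroup.center P).index = p ^ 2 := by
  have hp := (Fact.out : p.Prime)
  have hpg : IsPGroup p P := IsPGroup.of_card hP
  constructor
  · intro hc
    have hcbot : commutator P ≠ ⊥ := fun h => hp.ne_one (by rw [← hc, h, card_bot])
    have hcl : ∀ x : P, x ∉ center P → (centralizer {x}).index = p := by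
      intro x hx
      have hle : (centralizer {x}).index ≤ p := by
        rw [← hc, index_eq_card]
        refine Nat.card_le_card_of_injective (fun q => Quotient.liftOn' q
          (fun g => (⟨g * x * g⁻¹ * x⁻¹, commutator_mem_commutator (mem_top g) (mem_top x)⟩ :
            commutator P)) (fun a b hab => Subtype.ext ?_)) ?_
        · rw [QuotientGroup.leftRel_apply, mem_centralizer_singleton_iff] at hab
          show a * x * a⁻¹ * x⁻¹ = b * x * b⁻¹ * x⁻¹
          calc a * x * a⁻¹ * x⁻¹ = a * ((a⁻¹ * b * x) * (b⁻¹ * a)) * a⁻¹ * x⁻¹ := by rw [hab]; group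
            _ = b * x * b⁻¹ * x⁻¹ := by group
        · intro q r hqr
          induction q using QuotientGroup.induction_on with | _ a => ?_
          induction r using QuotientGroup.induction_on with | _ b => ?_
          rw [QuotientGroup.eq, mem_centralizer_singleton_iff]
          have h1 : a * x * a⁻¹ * x⁻¹ = b * x * b⁻¹ * x⁻¹ := congrArg Subtype.val hqr
          have h2 : a * x * a⁻¹ = b * x * b⁻¹ := mul_right_cancel h1
          calc a⁻¹ * b * x = a⁻¹ * (b * x * b⁻¹) * b := by group
            _ = a⁻¹ * (a * x * a⁻¹) * b := by rw [h2]
            _ = x * (a⁻¹ * b) := by group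
      obtain ⟨k, hk⟩ := hpg.index (centralizer {x})
      rcases k with _ | k
      · exfalso
        rw [pow_zero, index_eq_one, centralizer_eq_top_iff_subset] at hk
        exact hx (hk rfl)
      · rw [hk] at hle ⊢
        rcases k with _ | k
        · simp
        · have : p ^ 1 < p ^ (k + 1 + 1) := Nat.pow_lt_pow_right hp.one_lt (by omega)
          rw [pow_one] at this
          omega
    obtain ⟨x, hx⟩ : ∃ x, x ∉ center P := by
      by_contra h
      push Not at h
      refine hcbot ?_
      letI : CommGroup P := { ‹Group P› with mul_comm := fun a b => (mem_center_iff.1 (h b) a) }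
      exact commutator_eq_bot P
    have hA := hcl x hx
    obtain ⟨y, hy⟩ : ∃ y, y ∉ centralizer {x} := by
      by_contra h
      push Not at h
      rw [(eq_top_iff' _).2 h, index_top] at hA
      exact hp.ne_one hA.symm
    have hyz : y ∉ center P := fun h => hy (mem_centralizer_singleton_iff.2 (mem_center_iff.1 h x).symm)
    have hB := hcl y hyz
    have hyy : y ∈ centralizer {y} := mem_centralizer_singleton_iff.2 rfl
    have hxx : x ∈ centralizer {x} := mem_centralizer_singleton_iff.2 rfl
    have hxy : x ∉ centralizer {y} := fun h =>
      hy (mem_centralizer_singleton_iff.2 (mem_centralizer_singleton_iff.1 h).symm)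
    have hDcard : Nat.card (centralizer {x} ⊓ centralizer {y} : Subgroup P) = p ^ 2 := by
      obtain ⟨k, hk⟩ := hpg.index (centralizer {x} ⊓ centralizer {y})
      have h1 : (centralizer {x} ⊓ centralizer {y}).index ≤ p ^ 2 := by
        have := index_inf_le (H := centralizer {x}) (K := centralizer {y})
        rw [hA, hB] at this; rw [pow_two]; exact this
      have h2 : p < (centralizer {x} ⊓ centralizer {y}).index := by
        rw [← hA]
        exact index_strictAnti (lt_of_le_of_ne inf_le_left (fun h => hxy (inf_le_right (a := centralizer {x}) (h.symm ▸ hxx))))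
      have hk2 : k = 2 := by
        rw [hk] at h1 h2
        have ha : k ≤ 2 := (Nat.pow_le_pow_iff_right hp.one_lt).1 h1
        interval_cases k
        · simp at h2; have := hp.one_lt; omega
        · simp at h2
        · rfl
      have := card_mul_index (centralizer {x} ⊓ centralizer {y})
      rw [hk, hk2, hP, show p ^ 4 = p ^ 2 * p ^ 2 by ring] at this
      exact Nat.eq_of_mul_eq_mul_right (pow_pos hp.pos 2) this
    set D := centralizer {x} ⊓ centralizer {y} with hD
    have hDle : D ≤ center P := by
      have hT : centralizer (D : Set P) = ⊤ := by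
        have hDT : D ≤ centralizer (D : Set P) := by
          intro a ha
          rw [mem_centralizer_iff]
          intro b hb
          exact congrArg Subtype.val
            (IsPGroup.commutative_of_card_eq_prime_sq hDcard (⟨b, hb⟩ : D) ⟨a, ha⟩)
        have hxT : x ∈ centralizer (D : Set P) :=
          mem_centralizer_iff.2 fun b hb => mem_centralizer_singleton_iff.1 hb.1
        have hyT : y ∈ centralizer (D : Set P) :=
          mem_centralizer_iff.2 fun b hb => mem_centralizer_singleton_iff.1 hb.2
        have hlt : D < centralizer (D : Set P) ⊓ centralizer {x} :=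
          lt_of_le_of_ne (le_inf hDT inf_le_left)
            (fun h => hxy (inf_le_right (a := centralizer {x}) (show x ∈ D by rw [h]; exact ⟨hxT, hxx⟩)))
        obtain ⟨k, hk⟩ := hpg.index (centralizer (D : Set P) ⊓ centralizer {x})
        have hCT : centralizer {x} ≤ centralizer (D : Set P) := by
          have h1 := index_strictAnti hlt
          have h3 : D.index = p ^ 2 := by
            have := card_mul_index D
            rw [hDcard, hP, show p ^ 4 = p ^ 2 * p ^ 2 by ring] at this
            exact Nat.eq_of_mul_eq_mul_left (pow_pos hp.pos 2) this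
          rw [hk, h3] at h1
          have h4 := index_dvd_of_le (inf_le_right : centralizer (D : Set P) ⊓ centralizer {x} ≤ centralizer {x})
          rw [hk, hA] at h4
          have hk1 : k = 1 := by
            have := (Nat.pow_lt_pow_iff_right hp.one_lt).1 h1
            interval_cases k
            · simp at h4; exact absurd h4 hp.ne_one
            · rfl
          have h5 : (centralizer (D : Set P) ⊓ centralizer {x}).relIndex (centralizer {x}) = 1 := by
            have := relIndex_mul_index (inf_le_right : centralizer (D : Set P) ⊓ centralizer {x} ≤ centralizer {x})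
            rw [hk, hA, hk1, pow_one] at this
            exact Nat.eq_of_mul_eq_mul_right hp.pos (by rw [this, one_mul])
          exact fun a ha => (relIndex_eq_one.1 h5 ha).1
        haveI : (centralizer ({x} : Set P)).Normal := normal_of_index_eq_minFac_card (by
          rw [hA, hP, Nat.pow_minFac (by norm_num), hp.minFac_eq])
        exact top_of_index_prime_lt (centralizer {x}) p hA hy _ hCT hyT
      intro a ha
      rw [mem_center_iff]
      intro b
      have : b ∈ centralizer (D : Set P) := hT ▸ mem_top b
      exact (mem_centralizer_iff.1 this a ha).symm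
    obtain ⟨k, hk⟩ := hpg.index (center P)
    have hle : (center P).index ≤ p ^ 2 := by
      have h3 : D.index = p ^ 2 := by
        have := card_mul_index D
        rw [hDcard, hP, show p ^ 4 = p ^ 2 * p ^ 2 by ring] at this
        exact Nat.eq_of_mul_eq_mul_left (pow_pos hp.pos 2) this
      rw [← h3]; exact index_antitone hDle
    rw [hk] at hle ⊢
    have := (Nat.pow_le_pow_iff_right hp.one_lt).1 hle
    interval_cases k
    · exfalso; rw [pow_zero, index_eq_one] at hk; exact hx (hk ▸ mem_top x)
    · exfalso; rw [pow_one] at hk; exact center_index_ne_prime hk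
    · rfl
  · intro hZ
    obtain ⟨N, hNn, hN, hZN, hNc⟩ := exists_abelian_of_center_index hZ
    obtain ⟨y, hy⟩ : ∃ y, y ∉ N := by
      by_contra h
      push Not at h
      rw [(eq_top_iff' _).2 h, index_top] at hN
      exact hp.ne_one hN.symm
    have hind := index_commutator_eq N y (top_of_index_prime_lt N p hN hy)
    have hK := card_conjDiff_ker N y
    have hN' : commutator N = ⊥ := by
      letI : CommGroup N := { (inferInstance : Group N) with
        mul_comm := fun a b => Subtype.ext (hNc a a.2 b b.2) }
      exact commutator_eq_bot N
    rw [hN', card_bot, mul_one] at hK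
    have hge : p ^ 2 ≤ Nat.card (conjDiff N y).ker := by
      rw [← hK]
      have hZc : Nat.card (center P) = p ^ 2 := by
        have := card_mul_index (center P)
        rw [hZ, hP, show p ^ 4 = p ^ 2 * p ^ 2 by ring] at this
        exact Nat.eq_of_mul_eq_mul_right (pow_pos hp.pos 2) this
      rw [← hZc]
      refine Nat.card_le_card_of_injective (fun z => ⟨⟨z, hZN z.2⟩, ?_⟩) ?_
      · rw [show y * (z : P) * y⁻¹ * (z : P)⁻¹ = 1 by rw [mem_center_iff.1 z.2 y]; group]
        exact one_mem _
      · intro a b h
        have := congrArg (fun c => ((Subtype.val c : N) : P)) h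
        exact Subtype.ext this
    rw [hN] at hind
    have htot := card_mul_index (commutator P)
    rw [hind, hP] at htot
    have hle : Nat.card (commutator P) ≤ p := by
      have h1 : Nat.card (commutator P) * (p * p ^ 2) ≤ p * (p * p ^ 2) := by
        calc _ ≤ Nat.card (commutator P) * (p * Nat.card (conjDiff N y).ker) := by gcongr
          _ = _ := by rw [htot]; ring
      exact Nat.le_of_mul_le_mul_right h1 (mul_pos hp.pos (pow_pos hp.pos 2))
    obtain ⟨k, hk⟩ := IsPGroup.iff_card.1 (hpg.to_subgroup (commutator P))
    rcases k with _ | k
    · exfalso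
      rw [pow_zero, card_eq_one] at hk
      have : center P = ⊤ := by
        rw [eq_top_iff']
        intro a
        rw [mem_center_iff]
        intro b
        have h : b * a * b⁻¹ * a⁻¹ ∈ commutator P :=
          commutator_mem_commutator (mem_top b) (mem_top a)
        rw [hk, mem_bot] at h
        calc b * a = (b * a * b⁻¹ * a⁻¹) * (a * b) := by group
          _ = a * b := by rw [h, one_mul]
      rw [this, index_top] at hZ
      exact (Nat.one_lt_pow two_ne_zero hp.one_lt).ne hZ
    · rw [hk] at hle ⊢
      rcases k with _ | k
      · simp
      · have : p ^ 1 < p ^ (k + 1 + 1) := Nat.pow_lt_pow_right hp.one_lt (by omega)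
        rw [pow_one] at this
        omega

end Cfsg.Agent.S4584
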