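import Cfsg.Statements.S4585
import Cfsg.Agent.S4584

namespace Cfsg.Agent.S4585

open CfsgLib.Blk4.PGroup Subgroup
open scoped commutatorElement

theorem lcs_stable {P : Type*} [Group P] {n : ℕ}
    (h : (⊤ : Subgroup P).lowerCentralSeries (n + 1) = (⊤ : Subgroup P).lowerCentralSeries n) :
    ∀ m, n ≤ m → (⊤ : Subgroup P).lowerCentralSeries m = (⊤ : Subgroup P).lowerCentralSeries n := by
  intro m hm
  induction m, hm using Nat.le_induction with
  | base => rfl
  | succ m _ ih => rw [Subgroup.lowerCentralSeries_succ, ih, ← Subgroup.lowerCentralSeries_succ, h]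

theorem lcs_lt {P : Type*} [Group P] [Group.IsNilpotent P] {n : ℕ}
    (h : (⊤ : Subgroup P).lowerCentralSeries n ≠ ⊥) :
    (⊤ : Subgroup P).lowerCentralSeries (n + 1) < (⊤ : Subgroup P).lowerCentralSeries n := by
  refine lt_of_le_of_ne (Subgroup.lowerCentralSeries_antitone ⊤ (Nat.le_succ n)) (fun he => h ?_)
  have h1 := lcs_stable he (max n (Group.nilpotencyClass P)) (le_max_left _ _)
  rw [← h1]
  exact (Subgroup.lowerCentralSeries_eq_bot_iff_nilpotencyClass_le).2 (le_max_right _ _)

theorem result {P : Type*} [Group P] [Finite P] (p : ℕ) [Fact p.Prime] (hP : Nat.card P = p ^ 4) :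
    (commutator P).index = p ^ 2 ↔ Group.nilpotencyClass P = 3 := by
  have hp := (Fact.out : p.Prime)
  have hpg : IsPGroup p P := IsPGroup.of_card hP
  haveI := hpg.isNilpotent
  let L := fun n => (⊤ : Subgroup P).lowerCentralSeries n
  have hL1 : L 1 = commutator P := Subgroup.top_lowerCentralSeries_one
  have hiff : Group.nilpotencyClass P = 3 ↔ L 3 = ⊥ ∧ L 2 ≠ ⊥ := by
    constructor
    · intro h
      exact ⟨Subgroup.lowerCentralSeries_eq_bot_iff_nilpotencyClass_le.2 h.le, fun h2 => by
        have := Subgroup.lowerCentralSeries_eq_bot_iff_nilpotencyClass_le.1 h2; omega⟩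
    · rintro ⟨h3, h2⟩
      have a := Subgroup.lowerCentralSeries_eq_bot_iff_nilpotencyClass_le.1 h3
      have b : ¬ Group.nilpotencyClass P ≤ 2 := fun h =>
        h2 (Subgroup.lowerCentralSeries_eq_bot_iff_nilpotencyClass_le.2 h)
      omega
  have hexp : ∀ H : Subgroup P, ∃ k, Nat.card H = p ^ k := fun H =>
    IsPGroup.iff_card.1 (hpg.to_subgroup H)
  have hlt : ∀ {A B : Subgroup P} {a b : ℕ}, Nat.card A = p ^ a → Nat.card B = p ^ b → A < B →
      a < b := by
    intro A B a b ha hb hAB
    have h1 := Nat.card_mono (Set.toFinite (B : Set P)) hAB.le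
    by_contra hc
    push Not at hc
    have h2 : Nat.card B ≤ Nat.card A := by rw [ha, hb]; exact Nat.pow_le_pow_right hp.pos hc
    exact hAB.ne (eq_of_le_of_card_ge hAB.le h2)
  have hci := card_mul_index (commutator P)
  rw [hP] at hci
  rw [hiff]
  constructor
  · intro h
    have hcard : Nat.card (commutator P) = p ^ 2 := by
      rw [h, show p ^ 4 = p ^ 2 * p ^ 2 by ring] at hci
      exact Nat.eq_of_mul_eq_mul_right (pow_pos hp.pos 2) hci
    have hne1 : L 1 ≠ ⊥ := by
      rw [hL1]; intro hb
      rw [hb, card_bot] at hcard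
      exact (Nat.one_lt_pow two_ne_zero hp.one_lt).ne hcard
    have h2ne : L 2 ≠ ⊥ := by
      intro h2
      have hcz : commutator P ≤ center P := by
        rw [← hL1]
        intro a ha
        rw [mem_center_iff]
        intro b
        have hh : ⁅a, b⁆ ∈ L 2 := commutator_mem_commutator ha (mem_top b)
        rw [h2, mem_bot, commutatorElement_eq_one_iff_mul_comm] at hh
        exact hh.symm
      obtain ⟨k, hk⟩ := hpg.index (center P)
      have h4 := index_antitone hcz
      rw [h, hk, Nat.pow_le_pow_iff_right hp.one_lt] at h4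
      interval_cases k
      · rw [pow_zero, index_eq_one] at hk
        refine hne1 ?_
        rw [hL1, eq_bot_iff, _root_.commutator_def, commutator_le]
        intro a _ b _
        rw [mem_bot, commutatorElement_eq_one_iff_mul_comm]
        have : b ∈ center P := hk ▸ mem_top b
        exact mem_center_iff.1 this a
      · rw [pow_one] at hk; exact center_index_ne_prime hk
      · have := (Cfsg.Agent.S4584.result p hP).2 hk
        rw [hcard] at this
        nth_rw 2 [← pow_one p] at this
        have := Nat.pow_right_injective hp.two_le this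
        omega
    refine ⟨?_, h2ne⟩
    by_contra h3
    obtain ⟨b, hb⟩ := hexp (L 2)
    obtain ⟨c, hc⟩ := hexp (L 3)
    have hcard1 : Nat.card (L 1) = p ^ 2 := by rw [hL1]; exact hcard
    have x1 := hlt hb hcard1 (lcs_lt hne1)
    have x2 := hlt hc hb (lcs_lt h2ne)
    have hc0 : c = 0 := by omega
    rw [hc0, pow_zero, card_eq_one] at hc
    exact h3 hc
  · rintro ⟨-, h2⟩
    have hne1 : L 1 ≠ ⊥ := fun h => h2 (le_bot_iff.1 (h ▸ Subgroup.lowerCentralSeries_antitone ⊤ (by norm_num : (1:ℕ) ≤ 2)))
    obtain ⟨a, ha⟩ := hexp (L 1)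
    obtain ⟨b, hb⟩ := hexp (L 2)
    have x1 := hlt hb ha (lcs_lt hne1)
    have hb0 : b ≠ 0 := fun h => h2 (by rw [h, pow_zero, card_eq_one] at hb; exact hb)
    obtain ⟨k, hk⟩ := hpg.index (commutator P)
    rw [hk, ← hL1, ha, ← pow_add] at hci
    have hak := Nat.pow_right_injective hp.two_le hci
    rw [hk]
    have hk0 : k ≠ 0 := by
      intro h0
      rw [h0, pow_zero, index_eq_one, ← hL1] at hk
      haveI : Nontrivial P := Finite.one_lt_card_iff_nontrivial.1 (hP ▸ Nat.one_lt_pow (by norm_num) hp.one_lt)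
      have htop : L 0 = ⊤ := Subgroup.lowerCentralSeries_zero _
      exact (lcs_lt (n := 0) (P := P) (by rw [show (⊤ : Subgroup P).lowerCentralSeries 0 = ⊤ from htop]; exact top_ne_bot)).ne
        (by rw [show (⊤ : Subgroup P).lowerCentralSeries 0 = ⊤ from htop]; exact hk)
    have hk1 : k ≠ 1 := by
      intro h1
      rw [h1, pow_one] at hk
      have := card_eq_of_index_commutator_eq_prime hpg hk
      rw [hP] at this
      nth_rw 2 [← pow_one p] at this
      have := Nat.pow_right_injective hp.two_le this
      omega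
    have : k = 2 := by omega
    rw [this]

end Cfsg.Agent.S4585
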