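import Cfsg.Statements.S4586
import Cfsg.Agent.Lib.Blk4.PGroup

namespace Cfsg.Agent.S4586

open CfsgLib.Blk4.PGroup

theorem result {P : Type*} [Group P] [Finite P] (p : ℕ) [Fact p.Prime] (hP : IsPGroup p P) (N : Subgroup P) [N.Normal] (hN : N.index = p) :
    ((commutator P).index = p ^ 2 ↔ ∀ x : P, x ∉ N →
        Nat.card {n : N // x * n * x⁻¹ * (n : P)⁻¹ ∈ (commutator N).map N.subtype} = p * Nat.card (commutator N)) ∧
    ((commutator P).index = p ^ 2 ↔ ∃ x : P, x ∉ N ∧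
        Nat.card {n : N // x * n * x⁻¹ * (n : P)⁻¹ ∈ (commutator N).map N.subtype} = p * Nat.card (commutator N)) := by
  have key : ∀ x : P, x ∉ N → ((commutator P).index = p ^ 2 ↔
      Nat.card {n : N // x * n * x⁻¹ * (n : P)⁻¹ ∈ (commutator N).map N.subtype} = p * Nat.card (commutator N)) := by
    intro x hx
    rw [card_conjDiff_ker, index_commutator_eq N x (top_of_index_prime_lt N p hN hx), hN, pow_two,
      Nat.mul_right_inj (Fact.out : p.Prime).ne_zero, Nat.mul_left_inj Nat.card_pos.ne']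
  obtain ⟨x, hx⟩ : ∃ x, x ∉ N := by
    by_contra h
    push Not at h
    rw [(Subgroup.eq_top_iff' N).2 h, Subgroup.index_top] at hN
    exact (Fact.out : p.Prime).ne_one hN.symm
  refine ⟨⟨fun h y hy => (key y hy).1 h, fun h => (key x hx).2 (h x hx)⟩,
    ⟨fun h => ⟨x, hx, (key x hx).1 h⟩, fun ⟨y, hy, h⟩ => (key y hy).2 h⟩⟩

end Cfsg.Agent.S4586
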