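import Cfsg.Statements.S4587
import Cfsg.Agent.Lib.Blk4.SmallCentralizerMain

set_option autoImplicit false
open Cfsg

namespace Cfsg.Agent.S4587

/-- Let G be a finite group, p a prime and P a Sylow p-subgroup of order at least p². Assume that G has no nontrivial normal subgroup of order prime to p, that the derived subgroup P' of P contains no nontrivial normal subgroup of G, and that G is not almost simple (there is no non-abelian simple normal subgroup of G with trivial centralizer). Then [P : P'] = p² if and only if some p-element x of G has centralizer whose order has p-part exactly p². -/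
theorem result {G : Type*} [Group G] [Finite G] (p : ℕ) [Fact p.Prime] (P : Sylow p G) (hbig : p ^ 2 ∣ Nat.card G) (hcore : Cfsg.pPrimeCore p G = ⊥)
    (hcore' : (⁅(P : Subgroup G), (P : Subgroup G)⁆).normalCore = ⊥) (hnas : ¬ ∃ S : Subgroup G, S.Normal ∧ IsSimpleGroup S ∧ ¬ IsMulCommutative S ∧ Subgroup.centralizer (S : Set G) = ⊥) :
    (⁅(P : Subgroup G), (P : Subgroup G)⁆).relIndex (P : Subgroup G) = p ^ 2 ↔
      ∃ x : G, (∃ k : ℕ, orderOf x = p ^ k) ∧ (Nat.card (Subgroup.centralizer ({x} : Set G))).factorization p = 2 := by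
  classical
  have hp : p.Prime := Fact.out
  have hidx : (⁅(P : Subgroup G), (P : Subgroup G)⁆).relIndex (P : Subgroup G) =
      (commutator (P : Subgroup G)).index := by
    rw [Subgroup.relIndex, ← Subgroup.map_subtype_commutator, Subgroup.subgroupOf,
      Subgroup.comap_map_eq_self_of_injective (P : Subgroup G).subtype_injective]
  rw [hidx]
  refine ⟨CfsgLib.Blk4.SmallCentralizer.exists_small_centralizer P hbig hcore hcore' hnas, ?_⟩
  rintro ⟨x, ⟨k, hk⟩, hx⟩
  have hbigP : p ^ 2 ∣ Nat.card (P : Subgroup G) := by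
    rw [P.card_eq_multiplicity]
    exact pow_dvd_pow p ((hp.pow_dvd_iff_le_factorization Nat.card_pos.ne').1 hbig)
  set C := Subgroup.centralizer ({x} : Set G)
  obtain ⟨R⟩ : Nonempty (Sylow p C) := inferInstance
  obtain ⟨Q, hQ⟩ := (R.2.map C.subtype : IsPGroup p ((R : Subgroup C).map C.subtype)).exists_le_sylow
  obtain ⟨g, hg⟩ := MulAction.exists_smul_eq G Q P
  have hxC : x ∈ C := Subgroup.mem_centralizer_singleton_iff.2 rfl
  haveI : (Subgroup.zpowers (⟨x, hxC⟩ : C)).Normal := ⟨fun u hu c => by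
    obtain ⟨i, rfl⟩ := hu
    have hc : Commute c (⟨x, hxC⟩ : C) := Subtype.ext (Subgroup.mem_centralizer_singleton_iff.1 c.2)
    simp only [(hc.zpow_right i).eq, mul_inv_cancel_right]
    exact zpow_mem (Subgroup.mem_zpowers _) i⟩
  have hpg : IsPGroup p (Subgroup.zpowers (⟨x, hxC⟩ : C)) :=
    IsPGroup.of_card (n := k) (by rw [Nat.card_zpowers, Subgroup.orderOf_mk, hk])
  have hxR : x ∈ (R : Subgroup C).map C.subtype :=
    ⟨⟨x, hxC⟩, hpg.le_sylow_of_normal R (Subgroup.mem_zpowers _), rfl⟩
  have hconj : ∀ w ∈ (R : Subgroup C).map C.subtype, g * w * g⁻¹ ∈ (P : Subgroup G) := fun w hw => by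
    rw [← hg, Sylow.coe_subgroup_smul]
    exact ⟨w, hQ hw, rfl⟩
  refine CfsgLib.Blk4.PGroup.index_commutator_eq_sq P.2 hbigP ⟨_, hconj x hxR⟩ ?_
  set y : (P : Subgroup G) := ⟨_, hconj x hxR⟩
  refine le_antisymm ?_ ?_
  · have h1 : ((Subgroup.centralizer ({y} : Set (P : Subgroup G))).map (P : Subgroup G).subtype).map
        (MulAut.conj g⁻¹).toMonoidHom ≤ C := by
      rintro _ ⟨_, ⟨w, hw, rfl⟩, rfl⟩
      rw [Subgroup.mem_centralizer_singleton_iff]
      have h2 : (w : G) * (g * x * g⁻¹) = (g * x * g⁻¹) * (w : G) :=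
        congrArg Subtype.val (Subgroup.mem_centralizer_singleton_iff.1 hw)
      show g⁻¹ * (w : G) * g⁻¹⁻¹ * x = x * (g⁻¹ * (w : G) * g⁻¹⁻¹)
      rw [show g⁻¹ * (w : G) * g⁻¹⁻¹ * x = g⁻¹ * ((w : G) * (g * x * g⁻¹)) * g by group, h2]
      group
    obtain ⟨j, hj⟩ := IsPGroup.iff_card.1 (P.2.to_subgroup (Subgroup.centralizer ({y} : Set (P : Subgroup G))))
    have h3 := Subgroup.card_dvd_of_le h1
    rw [Subgroup.card_map_of_injective (MulAut.conj g⁻¹).injective,
      Subgroup.card_map_of_injective (P : Subgroup G).subtype_injective, hj,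
      hp.pow_dvd_iff_le_factorization Nat.card_pos.ne', hx] at h3
    rw [hj]
    exact Nat.pow_le_pow_right hp.pos h3
  · have hR : Nat.card ((R : Subgroup C).map C.subtype) = p ^ 2 := by
      rw [Subgroup.card_map_of_injective C.subtype_injective, R.card_eq_multiplicity, hx]
    have e1 : Nat.card (((R : Subgroup C).map C.subtype).map (MulAut.conj g).toMonoidHom) =
        Nat.card ((R : Subgroup C).map C.subtype) :=
      Subgroup.card_map_of_injective (MulAut.conj g).injective
    have e2 : Nat.card ((Subgroup.centralizer ({y} : Set (P : Subgroup G))).map (P : Subgroup G).subtype) =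
        Nat.card (Subgroup.centralizer ({y} : Set (P : Subgroup G))) :=
      Subgroup.card_map_of_injective (P : Subgroup G).subtype_injective
    rw [← hR, ← e1, ← e2]
    refine Subgroup.card_le_of_le ?_
    rintro _ ⟨w, hw, rfl⟩
    refine ⟨⟨_, hconj w hw⟩, Subgroup.mem_centralizer_singleton_iff.2 (Subtype.ext ?_), rfl⟩
    have h2 : w * x = x * w := Subgroup.mem_centralizer_singleton_iff.1 (Subgroup.map_subtype_le _ hw : w ∈ C)
    show g * w * g⁻¹ * (g * x * g⁻¹) = g * x * g⁻¹ * (g * w * g⁻¹)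
    rw [show g * w * g⁻¹ * (g * x * g⁻¹) = g * (w * x) * g⁻¹ by group, h2]
    group

end Cfsg.Agent.S4587
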