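import Cfsg.Statements.S4588
import Cfsg.Agent.Lib.Blk4.SmallCount

set_option autoImplicit false
set_option linter.style.haveILetI false
open Cfsg

namespace Cfsg.Agent.S4588

/-- Let G be a finite group, p a prime and M a maximal ideal of the algebraic integers containing p. If some p-element x of G (possibly x = 1) has centralizer whose order has p-part at most p², then the principal p-block of G contains at most p² irreducible characters of degree prime to p. -/
theorem result {G : Type*} [Group G] [Finite G] (p : ℕ) [Fact p.Prime] (M : Ideal Cfsg.AlgInt) (hM : Cfsg.IsPModular p M)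
    (hx : ∃ x : G, (∃ k : ℕ, orderOf x = p ^ k) ∧ (Nat.card (Subgroup.centralizer ({x} : Set G))).factorization p ≤ 2) :
    Nat.card {χ : Cfsg.IrrCharacter G // χ ∈ Cfsg.principalBlock M G ∧ ¬ p ∣ Cfsg.charDegree (χ : G → ℂ)} ≤ p ^ 2 := by
  classical
  haveI := Fintype.ofFinite G
  have hp : p.Prime := Fact.out
  obtain ⟨x, ⟨a, ha⟩, hC⟩ := hx
  rcases Nat.eq_zero_or_pos a with h0 | h0
  · rw [h0, pow_zero, orderOf_eq_one_iff] at ha
    subst ha
    have hG : (Nat.card G).factorization p ≤ 2 := by
      have htop : Subgroup.centralizer ({(1 : G)} : Set G) = ⊤ := by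
        rw [eq_top_iff]
        intro g _
        rw [Subgroup.mem_centralizer_singleton_iff, one_mul, mul_one]
      rwa [htop, Subgroup.card_top] at hC
    by_cases hdvd : p ∣ Nat.card G
    · obtain ⟨y, hy⟩ := exists_prime_orderOf_dvd_card' p hdvd
      refine CfsgLib.Blk4.SmallCount.card_le_sq hM (x := y) le_rfl (by rw [hy, pow_one]) ?_
      have := (Nat.factorization_le_iff_dvd Nat.card_pos.ne' Nat.card_pos.ne').2
        (Subgroup.card_subgroup_dvd_card (Subgroup.centralizer ({y} : Set G))) p
      omega
    · haveI : Subsingleton {χ : Cfsg.IrrCharacter G // χ ∈ Cfsg.principalBlock M G ∧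
          ¬ p ∣ Cfsg.charDegree (χ : G → ℂ)} := ⟨fun a b => Subtype.ext
        ((CfsgLib.Blk4.SmallFrame.eq_principal_of_not_dvd hM hdvd a.2.1).trans
          (CfsgLib.Blk4.SmallFrame.eq_principal_of_not_dvd hM hdvd b.2.1).symm)⟩
      exact (Finite.card_le_one_iff_subsingleton.2 this).trans (Nat.one_le_pow _ _ hp.pos)
  · exact CfsgLib.Blk4.SmallCount.card_le_sq hM h0 ha hC

end Cfsg.Agent.S4588
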