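import Cfsg.Statements.S4591
import Cfsg.Agent.Lib.Characters.InvariantOrbit
import Cfsg.Agent.Lib.Characters.Extension
import Cfsg.Agent.Lib.Characters.Clifford
import Cfsg.Agent.Lib.Characters.Values
import Cfsg.Agent.Lib.Chars17.IrrBasic
import Cfsg.Agent.Lib.Transfer.Tate
import Cfsg.Agent.Lib.PGroup.Frattini
import Mathlib.GroupTheory.Abelianization.Defs
import Mathlib.GroupTheory.FiniteAbelian.Duality

set_option autoImplicit false
open Cfsg

namespace Cfsg.Agent.S4591

open CfsgLib.Characters CfsgLib.Chars17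
open scoped ComplexConjugate

universe u

variable {G : Type u} [Group G] [Finite G] {p : ℕ} [hp : Fact p.Prime]

/-- Common kernel of the characters of degree prime to `p`. -/
noncomputable def commonKer (p : ℕ) (G : Type u) [Group G] [Finite G] : Subgroup G :=
  ⨅ (χ : IrrCharacter G) (_ : ¬ p ∣ charDegree (χ : G → ℂ)), irrKer χ

omit hp in
theorem mem_commonKer {g : G} : g ∈ commonKer p G ↔
    ∀ χ : IrrCharacter G, ¬ p ∣ charDegree (χ : G → ℂ) → (χ : G → ℂ) g = (χ : G → ℂ) 1 := by
  simp only [commonKer, Subgroup.mem_iInf, mem_irrKer]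

omit hp in
theorem commonKer_normal : (commonKer p G).Normal :=
  Subgroup.normal_iInf_normal fun χ => Subgroup.normal_iInf_normal fun _ => irrKer_normal χ

theorem apply_mul_of_mem_irrKer (χ : IrrCharacter G) (g : G) {r : G} (hr : r ∈ irrKer χ) :
    (χ : G → ℂ) (g * r) = (χ : G → ℂ) g := by
  obtain ⟨n, ρ, -, hχ⟩ := χ.2
  rw [mem_irrKer, ← hχ, character_eq_one_iff] at hr
  rw [← hχ]
  simp only [Representation.character, map_mul, hr, mul_one]

/-- A character of `p'`-degree of a subgroup of `p'`-index is trivial on the common kernel. -/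
theorem subgroupOf_commonKer_le (H : Subgroup G) (hi : ¬ p ∣ H.index) (ψ : IrrCharacter H)
    (hψ : ¬ p ∣ charDegree (ψ : H → ℂ)) : (commonKer p G).subgroupOf H ≤ irrKer ψ := by
  classical
  haveI := commonKer_normal (G := G) (p := p)
  have := Fintype.ofFinite G
  have := Fintype.ofFinite H
  have := Fintype.ofFinite ((commonKer p G).subgroupOf H)
  have hf := CfsgLib.Induction.isCharacter_indFun H (irr_isCharacter ψ)
  obtain ⟨m, hm, hsum⟩ := CfsgLib.Clifford.exists_mult hf
  have h1 := congrFun hsum 1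
  rw [CfsgLib.Induction.indFun_one_apply] at h1
  simp only [Finset.sum_apply, Pi.smul_apply, smul_eq_mul] at h1
  simp only [← cast_irrDegree] at h1
  have h2 : H.index * charDegree (ψ : H → ℂ) =
      ∑ χ : IrrCharacter G, m χ * charDegree (χ : G → ℂ) := by exact_mod_cast h1
  obtain ⟨χ, hχ⟩ : ∃ χ : IrrCharacter G, ¬ p ∣ m χ * charDegree (χ : G → ℂ) := by
    by_contra hc
    push Not at hc
    exact (Nat.Prime.not_dvd_mul hp.out hi hψ) (h2 ▸ Finset.dvd_sum fun χ _ => hc χ)
  have hKχ : commonKer p G ≤ irrKer χ :=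
    (iInf_le _ χ).trans (iInf_le _ fun h => hχ (h.mul_left _))
  by_contra hle
  have hne : classInner (ψ : H → ℂ) (fun h : H => (χ : G → ℂ) h) ≠ 0 := by
    rw [← CfsgLib.Induction.classInner_indFun H _ (irr_isClassFunction χ), hm]
    exact Nat.cast_ne_zero.2 fun h0 => hχ (by rw [h0, zero_mul]; exact dvd_zero p)
  apply hne
  rw [classInner]
  set S := ∑ h : H, (ψ : H → ℂ) h * conj ((χ : G → ℂ) h) with hS
  suffices (Fintype.card ((commonKer p G).subgroupOf H) : ℂ) * S = 0 by
    rw [(mul_eq_zero.1 this).resolve_left (Nat.cast_ne_zero.2 Fintype.card_ne_zero), mul_zero]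
  calc (Fintype.card ((commonKer p G).subgroupOf H) : ℂ) * S
      = ∑ r : (commonKer p G).subgroupOf H, S := by
        rw [Finset.sum_const, Finset.card_univ, nsmul_eq_mul]
    _ = ∑ r : (commonKer p G).subgroupOf H, ∑ h : H,
          (ψ : H → ℂ) (h * r) * conj ((χ : G → ℂ) h) := by
        refine Finset.sum_congr rfl fun r _ => ?_
        rw [hS, ← Equiv.sum_comp (Equiv.mulRight (r : H))]
        refine Finset.sum_congr rfl fun h _ => ?_
        simp only [Equiv.coe_mulRight, Subgroup.coe_mul]
        rw [apply_mul_of_mem_irrKer χ _ (hKχ (Subgroup.mem_subgroupOf.1 r.2))]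
    _ = 0 := by
        rw [Finset.sum_comm]
        refine Finset.sum_eq_zero fun h _ => ?_
        rw [← Finset.sum_mul, sum_coset_eq_zero hle, zero_mul]

/-- Coprime extension of an invariant character. -/
theorem exists_extension_of_coprime {H : Type u} [Group H] [Finite H] (N : Subgroup H) [hN : N.Normal]
    (θ : IrrCharacter N)
    (hinv : ∀ (g : H) (n : N), (θ : N → ℂ) ⟨g * n * g⁻¹, hN.conj_mem (n : H) n.2 g⟩ = (θ : N → ℂ) n)
    (hcop : Nat.Coprime N.index (Nat.card N)) :
    ∃ χ : IrrCharacter H, ∀ n : N, (χ : H → ℂ) n = (θ : N → ℂ) n := by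
  obtain ⟨_, d, ρ, hρ, rfl⟩ := θ
  haveI := hρ
  let f : N →* ℂˣ := (LinearMap.det.comp ρ).toHomUnits
  have hf : ∀ n, (f n : ℂ) = LinearMap.det (ρ n) := fun n => rfl
  have hinvf : CfsgLib.LinearExt.InvHom N f := by
    intro g n
    obtain ⟨T, hT⟩ := CfsgLib.CharExtension.exists_unit_conj ρ
      (ρ.comp (MulAut.conjNormal g : N ≃* N).toMonoidHom) (funext fun n => hinv g n)
    apply Units.ext
    rw [hf, hf]
    have h1 := congrArg LinearMap.det (hT n)
    rw [map_mul, map_mul, mul_comm] at h1
    have hdet : IsUnit (LinearMap.det T.1) := (Units.isUnit T).map LinearMap.det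
    have h2 : LinearMap.det (ρ n) = LinearMap.det (ρ (MulAut.conjNormal g n)) :=
      mul_right_cancel₀ hdet.ne_zero h1
    rw [h2]
    rfl
  have ha : CfsgLib.LinearExt.PowExtends N f N.index :=
    CfsgLib.LinearExt.powExtends_index hinvf le_rfl f fun n => rfl
  have hb : CfsgLib.LinearExt.PowExtends N f (Nat.card N : ℕ) :=
    CfsgLib.LinearExt.powExtends_of_pow_eq_one (MonoidHom.ext fun n => by
      rw [MonoidHom.pow_apply, ← map_pow, pow_card_eq_one', map_one, MonoidHom.one_apply])
  obtain ⟨μ, hμ⟩ := CfsgLib.LinearExt.extends_of_coprime hcop ha hb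
  obtain ⟨n, hn, -, hdvd⟩ := irr_degree_dvd_card (⟨ρ.character, d, ρ, hρ, rfl⟩ : IrrCharacter N)
  obtain ⟨χ, hχ, hres⟩ := CfsgLib.CharExtension.extends_of_det N ⟨d, ρ, hρ, rfl⟩ hinv n hn
    (hcop.coprime_dvd_right hdvd) (fun g => (μ g : ℂ))
    (isCharacter_of_irr (isIrrCharacter_of_hom μ)) (by simp) (fun n => by
      show (μ (n : H) : ℂ) = _
      rw [hμ n, CfsgLib.CharExtension.detChar_eq, hf])
  exact ⟨⟨χ, hχ⟩, hres⟩

/-- A nonzero vector fixed by the derived group of a Sylow subgroup. -/
theorem exists_fixed_vector (P : Sylow p G) {n : ℕ} (ρ : Representation ℂ G (Fin n → ℂ))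
    (hn : ¬ p ∣ n) :
    ∃ v : Fin n → ℂ, v ≠ 0 ∧ ∀ u ∈ ⁅(P : Subgroup G), (P : Subgroup G)⁆, ρ u v = v := by
  classical
  have := Fintype.ofFinite (P : Subgroup G)
  let σ : Representation ℂ (P : Subgroup G) (Fin n → ℂ) := ρ.comp (P : Subgroup G).subtype
  have hσ : IsCharacter (P : Subgroup G) σ.character := ⟨n, σ, rfl⟩
  obtain ⟨m, hm, hsum⟩ := CfsgLib.Clifford.exists_mult hσ
  have h1 := congrFun hsum 1
  rw [Representation.char_one, Module.finrank_fin_fun] at h1
  simp only [Finset.sum_apply, Pi.smul_apply, smul_eq_mul] at h1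
  simp only [← cast_irrDegree] at h1
  have h2 : n = ∑ θ : IrrCharacter (P : Subgroup G), m θ * charDegree (θ : ↥(P : Subgroup G) → ℂ) := by
    exact_mod_cast h1
  obtain ⟨θ, hθ⟩ : ∃ θ : IrrCharacter (P : Subgroup G), ¬ p ∣ m θ * charDegree (θ : ↥(P : Subgroup G) → ℂ) := by
    by_contra hc
    push Not at hc
    exact hn (h2 ▸ Finset.dvd_sum fun χ _ => hc χ)
  have hlin : charDegree (θ : ↥(P : Subgroup G) → ℂ) = 1 := by
    obtain ⟨k, hk⟩ := IsPGroup.iff_card.1 P.2
    have hd : charDegree (θ : ↥(P : Subgroup G) → ℂ) ∣ p ^ k := hk ▸ irrDegree_dvd_card θ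
    exact Nat.eq_one_of_dvd_coprimes ((hp.out.coprime_iff_not_dvd.2
      fun h => hθ (h.mul_left _)).pow_left k) hd dvd_rfl
  have hθ1 : (θ : ↥(P : Subgroup G) → ℂ) 1 = 1 := by rw [← cast_irrDegree, hlin, Nat.cast_one]
  obtain ⟨φ, hφ⟩ := CfsgLib.LinearExt.exists_unitsHom (irr_isCharacter θ) hθ1
  obtain ⟨d, τ, -, hτ⟩ := θ.2
  have hne : classInner σ.character τ.character ≠ 0 := by
    rw [hτ, hm]
    exact Nat.cast_ne_zero.2 fun h0 => hθ (by rw [h0, zero_mul]; exact dvd_zero p)
  rw [classInner_char_eq_finrank] at hne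
  obtain ⟨F, hF⟩ : ∃ F : Representation.IntertwiningMap τ σ, F ≠ 0 := by
    have : Nontrivial (Representation.IntertwiningMap τ σ) :=
      Module.nontrivial_of_finrank_pos (R := ℂ) (Nat.pos_of_ne_zero fun h => hne (by rw [h, Nat.cast_zero]))
    exact exists_ne 0
  obtain ⟨w, hw⟩ : ∃ w, F.toLinearMap w ≠ 0 := by
    by_contra hc
    push Not at hc
    exact hF (Representation.IntertwiningMap.ext (LinearMap.ext hc))
  refine ⟨F.toLinearMap w, hw, fun u hu => ?_⟩
  rw [← Subgroup.map_subtype_commutator] at hu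
  obtain ⟨y, hy, rfl⟩ := hu
  have hy1 : τ y = 1 := by
    rw [← character_eq_one_iff, hτ, hφ]
    simp only [map_one, Units.val_one, Units.val_eq_one]
    exact Abelianization.commutator_subset_ker φ hy
  have h3 := LinearMap.congr_fun (F.isIntertwining' y) w
  simp only [LinearMap.comp_apply, hy1, Module.End.one_apply] at h3
  exact h3.symm


/-- Let G be a finite group, p a prime and P a Sylow p-subgroup, and let N be the largest normal subgroup of G in which P has trivial centralizer (N is normal with C_N(P) = 1 and contains every normal subgroup with that property). Then the intersection of the kernels of the irreducible characters of G of degree prime to p is the normal core in G of the subgroup N·P' (P' the derived subgroup of P). In particular, when G has no nontrivial normal subgroup of order prime to p, that intersection is the normal core of P'. -/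
theorem result {G : Type*} [Group G] [Finite G] (p : ℕ) [Fact p.Prime] (P : Sylow p G) (N : Subgroup G) [N.Normal]
    (hN : N ⊓ Subgroup.centralizer ((P : Subgroup G) : Set G) = ⊥)
    (hmax : ∀ L : Subgroup G, L.Normal → L ⊓ Subgroup.centralizer ((P : Subgroup G) : Set G) = ⊥ → L ≤ N) :
    {g : G | ∀ χ : Cfsg.IrrCharacter G, ¬ p ∣ Cfsg.charDegree (χ : G → ℂ) → (χ : G → ℂ) g = (χ : G → ℂ) 1} =
      ((N ⊔ ⁅(P : Subgroup G), (P : Subgroup G)⁆).normalCore : Set G) := by
  classical
  have := Fintype.ofFinite G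
  have := Fintype.ofFinite N
  haveI := commonKer_normal (G := G) (p := p)
  set L := (N ⊔ ⁅(P : Subgroup G), (P : Subgroup G)⁆).normalCore with hL
  suffices h : commonKer p G = L by
    rw [← h]
    ext g
    exact mem_commonKer.symm
  have hPp : IsPGroup p (P : Subgroup G) := P.2
  refine le_antisymm ?_ (le_iInf fun χ => le_iInf fun hχ => ?_)
  · -- the common kernel lies in the core
    refine Subgroup.normal_le_normalCore.2 ?_
    set K := commonKer p G with hK
    have hKP : ∀ x ∈ K, x ∈ (P : Subgroup G) → x ∈ ⁅(P : Subgroup G), (P : Subgroup G)⁆ := by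
      intro x hxK hxP
      rw [← Subgroup.map_subtype_commutator]
      refine ⟨⟨x, hxP⟩, ?_, rfl⟩
      by_contra hx
      have hx' : Abelianization.of (⟨x, hxP⟩ : (P : Subgroup G)) ≠ 1 := fun h =>
        hx ((QuotientGroup.eq_one_iff _).1 h)
      obtain ⟨φ, hφ⟩ := CommGroup.exists_apply_ne_one_of_hasEnoughRootsOfUnity
        (Abelianization (P : Subgroup G)) ℂ hx'
      let ψ : IrrCharacter (P : Subgroup G) :=
        ⟨_, isIrrCharacter_of_hom (φ.comp Abelianization.of)⟩
      have hψ : ¬ p ∣ charDegree (ψ : ↥(P : Subgroup G) → ℂ) := by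
        rw [show charDegree (ψ : ↥(P : Subgroup G) → ℂ) = 1 by
          have h := cast_irrDegree ψ
          rw [show (ψ : ↥(P : Subgroup G) → ℂ) 1 = 1 by simp [ψ]] at h
          exact_mod_cast h]
        exact (Fact.out : p.Prime).not_dvd_one
      have h2 := subgroupOf_commonKer_le (P : Subgroup G) P.not_dvd_index ψ hψ
        (Subgroup.mem_subgroupOf.2 hxK : (⟨x, hxP⟩ : (P : Subgroup G)) ∈ K.subgroupOf _)
      rw [mem_irrKer] at h2
      exact hφ (Units.ext (by simpa [ψ] using h2))
    set H := K ⊔ (P : Subgroup G) with hH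
    set PH : Sylow p H := P.subtype le_sup_right
    have hPH : ∀ x : H, x ∈ (PH : Subgroup H) ↔ (x : G) ∈ (P : Subgroup G) := fun x => Iff.rfl
    have hRK : Cfsg.pResidual p H ≤ K.subgroupOf H := by
      refine CfsgLib.Transfer.pResidual_le_of_isPGroup_quotient _ ?_
      obtain ⟨k, hk⟩ := IsPGroup.iff_card.1 hPp
      obtain ⟨j, -, hj⟩ := (Nat.dvd_prime_pow (Fact.out : p.Prime)).1
        (hk ▸ Subgroup.index_dvd_card (K.subgroupOf (P : Subgroup G)))
      refine IsPGroup.of_card (n := j) ?_
      show K.relIndex H = _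
      rw [hH, Subgroup.relIndex_sup_left]
      exact hj
    have hcompl : Cfsg.HasNormalPComplement p H := by
      refine CfsgLib.Transfer.hasNormalPComplement_of_inf_le_frattini PH ?_
      rintro x ⟨hxP, hxR⟩
      have h1 := hKP x (Subgroup.mem_subgroupOf.1 (hRK hxR)) ((hPH x).1 hxP)
      rw [← Subgroup.map_subtype_commutator] at h1
      obtain ⟨y, hy, hyx⟩ := h1
      let e : (P : Subgroup G) →* (PH : Subgroup H) :=
        { toFun := fun u => ⟨⟨u, Subgroup.mem_sup_right u.2⟩, (hPH _).2 u.2⟩
          map_one' := rfl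
          map_mul' := fun _ _ => rfl }
      refine ⟨e y, CfsgLib.PGroup.commutator_le_frattini PH.2 ?_, Subtype.ext hyx⟩
      have hmap : (commutator (P : Subgroup G)).map e ≤ commutator (PH : Subgroup H) := by
        rw [commutator_def, commutator_def, Subgroup.map_commutator]
        exact Subgroup.commutator_mono le_top le_top
      exact hmap (Subgroup.mem_map_of_mem e hy)
    have hndvd := CfsgLib.Transfer.hasNormalPComplement_iff.1 hcompl
    haveI := CfsgLib.Transfer.pResidual_normal (G := H) (p := p)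
    set R := (Cfsg.pResidual p H).map H.subtype with hR
    have hRK' : R ≤ K := by
      rintro _ ⟨r, hr, rfl⟩
      exact Subgroup.mem_subgroupOf.1 (hRK hr)
    have hRn : R.Normal := by
      refine ⟨?_⟩
      rintro _ ⟨r, hr, rfl⟩ g
      have hmem : g * (r : G) * g⁻¹ ∈ K :=
        (inferInstance : K.Normal).conj_mem _ (Subgroup.mem_subgroupOf.1 (hRK hr)) g
      refine ⟨⟨_, Subgroup.mem_sup_left hmem⟩, CfsgLib.Transfer.mem_pResidual ?_, rfl⟩
      rw [← Subgroup.orderOf_coe]
      show Nat.Coprime (orderOf (MulAut.conj g (r : G))) p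
      rw [(MulAut.conj g).orderOf_eq, Subgroup.orderOf_coe]
      exact CfsgLib.Transfer.coprime_orderOf_of_not_dvd hndvd hr
    haveI := hRn
    have hRp : ¬ p ∣ Nat.card R := by
      rw [hR, Subgroup.card_map_of_injective H.subtype_injective]
      exact hndvd
    have hRN : R ≤ N := by
      refine hmax R hRn (CfsgLib.InvariantOrbit.centralizer_eq_bot_of_fixed hPp fun θ hθ => ?_)
      have := Fintype.ofFinite R
      set T := R ⊔ (P : Subgroup G) with hT
      have hRT : R ≤ T := le_sup_left
      have hTI : T ≤ CfsgLib.Clifford.inertia hRn (θ : R → ℂ) :=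
        sup_le (CfsgLib.Clifford.le_inertia hRn (irr_isClassFunction θ))
          fun u hu => CfsgLib.Clifford.mem_inertia.2 (hθ u hu)
      let e : R.subgroupOf T ≃* R := Subgroup.subgroupOfEquivOfLe hRT
      let θ' : IrrCharacter (R.subgroupOf T) :=
        ⟨_, CfsgLib.Clifford.isIrrCharacter_pullback θ.2 e.toMonoidHom e.surjective⟩
      have hcop : Nat.Coprime (R.subgroupOf T).index (Nat.card (R.subgroupOf T)) := by
        obtain ⟨k, hk⟩ := IsPGroup.iff_card.1 hPp
        rw [Nat.card_congr e.toEquiv]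
        show Nat.Coprime (R.relIndex T) _
        rw [hT, Subgroup.relIndex_sup_left]
        exact Nat.Coprime.coprime_dvd_left (hk ▸ Subgroup.index_dvd_card _)
          (((Fact.out : p.Prime).coprime_iff_not_dvd.2 hRp).pow_left k)
      obtain ⟨χT, hχT⟩ := exists_extension_of_coprime (R.subgroupOf T) θ' (fun t r => by
        refine Eq.trans ?_ (CfsgLib.Clifford.mem_inertia.1 (hTI t.2) (e r))
        rfl) hcop
      have hi : ¬ p ∣ T.index := fun h =>
        P.not_dvd_index (h.trans (Subgroup.index_dvd_of_le le_sup_right))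
      have hdeg : ¬ p ∣ charDegree (χT : T → ℂ) := by
        intro h
        obtain ⟨d, hd, -, hdvd⟩ := irr_degree_dvd_card θ
        have h1 : (charDegree (χT : T → ℂ) : ℂ) = d := by
          rw [cast_irrDegree, ← hd]
          have := hχT 1
          rw [Subgroup.coe_one] at this
          rw [this]
          show (θ : R → ℂ) (e 1) = _
          rw [map_one]
        exact hRp ((h.trans (by rw [show charDegree (χT : T → ℂ) = d by exact_mod_cast h1])).trans hdvd)
      have hker := subgroupOf_commonKer_le T hi χT hdeg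
      let χθ : IrrCharacter R := θ
      refine (irrKer_eq_top_iff χθ).1 (top_le_iff.1 fun r _ => ?_)
      rw [mem_irrKer]
      have h1 := hker (Subgroup.mem_subgroupOf.2 (hRK' r.2) :
        (⟨r, hRT r.2⟩ : T) ∈ K.subgroupOf T)
      rw [mem_irrKer] at h1
      have h2 := hχT ⟨⟨r, hRT r.2⟩, r.2⟩
      have h3 := hχT 1
      rw [Subgroup.coe_one] at h3
      rw [h2, h3] at h1
      show (θ : R → ℂ) r = (θ : R → ℂ) 1
      have h4 : (θ' : R.subgroupOf T → ℂ) 1 = (θ : R → ℂ) 1 := by
        show (θ : R → ℂ) (e 1) = _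
        rw [map_one]
      rw [← h4, ← h1]
      rfl
    intro k hk
    have h1 : (⟨k, Subgroup.mem_sup_left hk⟩ : H) ∈ (PH : Subgroup H) ⊔ Cfsg.pResidual p H := by
      rw [CfsgLib.Transfer.sylow_sup_pResidual]; exact Subgroup.mem_top _
    rw [← SetLike.mem_coe, Subgroup.mul_normal] at h1
    obtain ⟨a, ha, r, hr, hark⟩ := h1
    have hk' : k = (a : G) * (r : G) := (congrArg Subtype.val hark).symm
    have hrR : (r : G) ∈ R := Subgroup.mem_map_of_mem _ hr
    have haK : (a : G) ∈ K := by
      have := K.mul_mem hk (K.inv_mem (hRK' hrR))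
      rwa [hk', mul_inv_cancel_right] at this
    rw [hk']
    exact Subgroup.mul_mem _ (Subgroup.mem_sup_right (hKP _ haK ((hPH a).1 ha)))
      (Subgroup.mem_sup_left (hRN hrR))
  · -- the core acts trivially
    obtain ⟨n, ρ, hρ, hχρ⟩ := χ.2
    haveI := hρ
    have hn : (χ : G → ℂ) 1 = n := by rw [← hχρ, Representation.char_one, Module.finrank_fin_fun]
    have hdeg : charDegree (χ : G → ℂ) = n := by
      have h := cast_irrDegree χ
      rw [hn] at h
      exact_mod_cast h
    rw [hdeg] at hχ
    have hNker : N ≤ irrKer χ := by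
      obtain ⟨θ, hθ, hfix⟩ := CfsgLib.InvariantOrbit.exists_fixed_constituent (N := N) hPp χ hn hχ
      have h1 := CfsgLib.InvariantOrbit.eq_one_of_fixed hPp hN θ hfix
      by_contra hle
      apply hθ
      unfold CfsgLib.NormalRes.mult
      rw [h1]
      have h2 := sum_coset_eq_zero hle 1
      simp only [one_mul] at h2
      simp [classInner, h2]
    obtain ⟨v, hv, hvfix⟩ := exists_fixed_vector P ρ hχ
    let St : Subgroup G :=
      { carrier := {g | ρ g v = v}
        one_mem' := by simp
        mul_mem' := fun {a b} (ha : ρ a v = v) (hb : ρ b v = v) => by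
          show ρ (a * b) v = v
          rw [map_mul, Module.End.mul_apply, hb, ha]
        inv_mem' := fun {a} (ha : ρ a v = v) => by
          show ρ a⁻¹ v = v
          conv_lhs => rw [← ha, ← Module.End.mul_apply, ← map_mul, inv_mul_cancel, map_one]
          rfl }
    have hLSt : L ≤ St := (Subgroup.normalCore_le _).trans (sup_le (fun x hx => by
      have := hNker hx
      rw [mem_irrKer, ← hχρ, character_eq_one_iff] at this
      show ρ x v = v
      rw [this]
      rfl) hvfix)
    let W : Submodule ℂ (Fin n → ℂ) :=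
      { carrier := {w | ∀ l ∈ L, ρ l w = w}
        zero_mem' := fun l _ => map_zero _
        add_mem' := fun {a b} ha hb l hl => by rw [map_add, ha l hl, hb l hl]
        smul_mem' := fun c a ha l hl => by rw [map_smul, ha l hl] }
    have hW : W = ⊤ := by
      refine (CfsgLib.CharScalar.eq_bot_or_eq_top ρ W fun g w hw l hl => ?_).resolve_left fun h => ?_
      · have := hw (g⁻¹ * l * g) (by
          simpa using (Subgroup.normalCore_normal _).conj_mem l hl g⁻¹)
        calc ρ l (ρ g w) = ρ (g * (g⁻¹ * l * g)) w := by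
              rw [← Module.End.mul_apply, ← map_mul]; congr 2; group
          _ = ρ g w := by rw [map_mul, Module.End.mul_apply, this]
      · have hmem : v ∈ W := fun l hl => hLSt hl
        rw [h, Submodule.mem_bot] at hmem
        exact hv hmem
    intro l hl
    rw [mem_irrKer, ← hχρ, character_eq_one_iff]
    refine LinearMap.ext fun w => ?_
    exact (hW ▸ Submodule.mem_top (x := w) : w ∈ W) l hl

end Cfsg.Agent.S4591
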