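import Cfsg.Statements.S4604
import Cfsg.Agent.Lib.Characters.Galois
import Cfsg.Agent.Lib.Characters.Values
import Cfsg.Agent.Lib.Characters.Scalar
import Mathlib.Algebra.CharP.Lemmas
import Mathlib.LinearAlgebra.PID

set_option autoImplicit false
open Cfsg
open scoped ComplexConjugate

namespace Cfsg.Agent.S4604

open CfsgLib.Characters

/-- Raising a sum to a power `p ^ a` is congruent modulo `p` to the sum of the powers. -/
theorem exists_sum_pow {p : ℕ} (hp : p.Prime) (a : ℕ) {ι : Type*} (s : Finset ι) (z : ι → AlgInt) :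
    ∃ r : AlgInt, (∑ i ∈ s, z i) ^ p ^ a = ∑ i ∈ s, z i ^ p ^ a + p * r := by
  classical
  induction s using Finset.induction with
  | empty => exact ⟨0, by simp [zero_pow (pow_ne_zero a hp.ne_zero)]⟩
  | insert i s hi ih =>
    obtain ⟨r, hr⟩ := ih
    obtain ⟨r', hr'⟩ := exists_add_pow_prime_pow_eq hp (z i) (∑ j ∈ s, z j) a
    refine ⟨r + z i * (∑ j ∈ s, z j) * r', ?_⟩
    rw [Finset.sum_insert hi, Finset.sum_insert hi, hr', hr]
    ring

theorem exists_char_pow {G : Type*} [Group G] [Finite G] {p : ℕ} (hp : p.Prime) (a : ℕ)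
    {χ : G → ℂ} (hχ : IsCharacter G χ) (g : G) :
    ∃ r : AlgInt, χ g ^ p ^ a = χ (g ^ p ^ a) + (p : ℂ) * (r : ℂ) := by
  obtain ⟨N, z, hz, h⟩ := CfsgLib.CharGalois.exists_root_decomp hχ g
  have hint : ∀ i, z i ∈ AlgInt := fun i =>
    IsIntegral.of_pow Nat.card_pos (by rw [hz i]; exact isIntegral_one)
  obtain ⟨r, hr⟩ := exists_sum_pow hp a Finset.univ (fun i => (⟨z i, hint i⟩ : AlgInt))
  refine ⟨r, ?_⟩
  have h1 := h 1
  simp only [pow_one] at h1
  rw [h1, h (p ^ a)]
  simpa using congrArg Subtype.val hr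

/-- The average of a character over a coset of a subgroup centralised by its representative. -/
theorem isIntegral_average {G : Type*} [Group G] [Finite G] (P : Subgroup G) [Fintype P] {s : G}
    (hs : ∀ u ∈ P, s * u = u * s) {χ : G → ℂ} (hχ : IsCharacter G χ) :
    IsIntegral ℤ ((Nat.card P : ℂ)⁻¹ * ∑ u : P, χ (s * u)) := by
  obtain ⟨n, ρ, rfl⟩ := hχ
  set W : Submodule ℂ (Fin n → ℂ) := Representation.invariants (ρ.comp P.subtype) with hW
  have hmem : ∀ v, v ∈ W ↔ ∀ u : P, ρ (u : G) v = v := fun v => Iff.rfl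
  have hZ : ∀ z ∈ Subgroup.zpowers s, ∀ v ∈ W, ρ z v ∈ W := by
    intro z hz v hv
    rw [hmem] at hv ⊢
    intro u
    have hc : Commute z (u : G) := by
      obtain ⟨i, rfl⟩ := Subgroup.mem_zpowers_iff.1 hz
      exact (show Commute s (u : G) from hs u u.2).zpow_left i
    rw [← Module.End.mul_apply, ← map_mul, ← hc.eq, map_mul, Module.End.mul_apply, hv]
  let σ : Representation ℂ (Subgroup.zpowers s) W :=
    { toFun := fun z => (ρ (z : G)).restrict (hZ z z.2)
      map_one' := LinearMap.ext fun v => Subtype.ext (by simp)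
      map_mul' := fun x y => LinearMap.ext fun v => Subtype.ext (by simp) }
  set f : (Fin n → ℂ) →ₗ[ℂ] (Fin n → ℂ) := (Nat.card P : ℂ)⁻¹ • ∑ u : P, ρ (s * u) with hf
  have hfW : ∀ v, f v ∈ W := by
    intro v
    rw [hmem]
    intro w
    simp only [hf, LinearMap.smul_apply, map_smul, LinearMap.sum_apply, map_sum]
    congr 1
    refine Fintype.sum_equiv (Equiv.mulLeft w) _ _ fun u => ?_
    rw [← Module.End.mul_apply, ← map_mul, Equiv.coe_mulLeft, Subgroup.coe_mul, ← mul_assoc,
      ← hs w w.2, mul_assoc]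
  have htr : LinearMap.trace ℂ _ f = σ.character ⟨s, Subgroup.mem_zpowers s⟩ := by
    rw [← LinearMap.trace_restrict_eq_of_forall_mem W f hfW]
    refine congrArg (LinearMap.trace ℂ W) (LinearMap.ext fun v => Subtype.ext ?_)
    show f (v : Fin n → ℂ) = ρ s v
    have hv := (hmem v).1 v.2
    simp only [hf, LinearMap.smul_apply, LinearMap.sum_apply, map_mul, Module.End.mul_apply, hv,
      Finset.sum_const, Finset.card_univ, ← Nat.card_eq_fintype_card, ← Nat.cast_smul_eq_nsmul ℂ,
      smul_smul]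
    rw [inv_mul_cancel₀ (Nat.cast_ne_zero.2 Nat.card_pos.ne'), one_smul]
  have h2 : LinearMap.trace ℂ _ f = (Nat.card P : ℂ)⁻¹ * ∑ u : P, ρ.character (s * u) := by
    rw [hf, map_smul, map_sum, smul_eq_mul]
    rfl
  rw [← h2, htr]
  exact CfsgLib.CharScalar.isIntegral_character σ _

theorem exists_coe_eq_of_pow {G : Type*} [Group G] [Finite G] {p : ℕ} [Fact p.Prime] {x x' : G}
    (hx : (∃ k : ℕ, orderOf (x * x'⁻¹) = p ^ k) ∧ Commute (x * x'⁻¹) x' ∧ ¬ p ∣ orderOf x') :
    x ^ p ^ (Nat.card G).factorization p = x' ^ p ^ (Nat.card G).factorization p := by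
  obtain ⟨⟨k, hk⟩, hc, -⟩ := hx
  have hk' : k ≤ (Nat.card G).factorization p :=
    ((Fact.out : p.Prime).pow_dvd_iff_le_factorization Nat.card_pos.ne').1
      (hk ▸ orderOf_dvd_natCard _)
  conv_lhs => rw [show x = x * x'⁻¹ * x' by rw [inv_mul_cancel_right], hc.mul_pow]
  rw [orderOf_dvd_iff_pow_eq_one.1 (hk ▸ pow_dvd_pow p hk'), one_mul]


/-- Let G be a finite group, p a prime and p^a the p-part of the order of G. Let x, y ∈ G and let x′, y′ be their p-regular parts: x′ has order prime to p, commutes with x·x′⁻¹, and x·x′⁻¹ has p-power order (likewise for y). Then x′ and y′ are conjugate in G if and only if for every irreducible character χ of G the algebraic integer χ(x)^(p^a) − χ(y)^(p^a) is p times an algebraic integer. -/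
theorem result {G : Type*} [Group G] [Finite G] (p : ℕ) [Fact p.Prime] (x y x' y' : G)
    (hx : (∃ k : ℕ, orderOf (x * x'⁻¹) = p ^ k) ∧ Commute (x * x'⁻¹) x' ∧ ¬ p ∣ orderOf x')
    (hy : (∃ k : ℕ, orderOf (y * y'⁻¹) = p ^ k) ∧ Commute (y * y'⁻¹) y' ∧ ¬ p ∣ orderOf y') :
    IsConj x' y' ↔ ∀ χ : Cfsg.IrrCharacter G, ∃ γ : Cfsg.AlgInt,
      (χ : G → ℂ) x ^ (p ^ (Nat.card G).factorization p) - (χ : G → ℂ) y ^ (p ^ (Nat.card G).factorization p) = (p : ℂ) * (γ : ℂ) := by
  classical
  have : Fintype G := Fintype.ofFinite G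
  have hp : p.Prime := Fact.out
  set m := p ^ (Nat.card G).factorization p with hm
  have hxm := exists_coe_eq_of_pow hx
  have hym := exists_coe_eq_of_pow hy
  rw [← hm] at hxm hym
  constructor
  · intro h χ
    obtain ⟨r, hr⟩ := exists_char_pow hp ((Nat.card G).factorization p) (irr_isCharacter χ) x
    obtain ⟨r', hr'⟩ := exists_char_pow hp ((Nat.card G).factorization p) (irr_isCharacter χ) y
    refine ⟨r - r', ?_⟩
    rw [← hm] at hr hr'
    rw [hr, hr', hxm, hym, classFunction_eq_of_isConj (irr_isClassFunction χ) (IsConj.pow m h)]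
    push_cast
    ring
  · intro H
    by_contra hne
    set s := x' ^ m
    set t := y' ^ m
    have hdiff : ∀ χ : IrrCharacter G, ∃ γ : AlgInt,
        (χ : G → ℂ) s - (χ : G → ℂ) t = (p : ℂ) * γ := by
      intro χ
      obtain ⟨γ, hγ⟩ := H χ
      obtain ⟨r, hr⟩ := exists_char_pow hp ((Nat.card G).factorization p) (irr_isCharacter χ) x
      obtain ⟨r', hr'⟩ := exists_char_pow hp ((Nat.card G).factorization p) (irr_isCharacter χ) y
      rw [← hm, hxm] at hr
      rw [← hm, hym] at hr'
      rw [hr, hr'] at hγ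
      refine ⟨γ - r + r', ?_⟩
      push_cast
      linear_combination hγ
    have hreg : ∀ z : G, ¬ p ∣ orderOf z → (orderOf (z ^ m) = orderOf z) := fun z hz =>
      Nat.Coprime.orderOf_pow ((hp.coprime_iff_not_dvd.2 hz).symm.pow_right _)
    have hst : ¬ IsConj s t := by
      intro hc
      obtain ⟨n, hn⟩ : ∃ n : ℕ, x' ^ (m * n) = x' ∧ y' ^ (m * n) = y' := by
        have hcop : Nat.Coprime m (orderOf x' * orderOf y') :=
          (Nat.Coprime.mul_right (hp.coprime_iff_not_dvd.2 hx.2.2)
            (hp.coprime_iff_not_dvd.2 hy.2.2)).pow_left _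
        obtain ⟨n, hn⟩ := exists_pow_eq_self_of_coprime (x := ((x', y') : G × G)) (n := m)
          (hcop.coprime_dvd_right (by rw [Prod.orderOf]; exact Nat.lcm_dvd_mul _ _))
        exact ⟨n, by rw [pow_mul]; exact congrArg Prod.fst hn,
          by rw [pow_mul]; exact congrArg Prod.snd hn⟩
      exact hne (by simpa only [s, t, ← pow_mul, hn.1, hn.2] using IsConj.pow n hc)
    set C := Subgroup.centralizer ({s} : Set G)
    obtain ⟨P0⟩ : Nonempty (Sylow p C) := inferInstance
    set P : Subgroup G := (P0 : Subgroup C).map C.subtype with hP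
    have hPC : P ≤ C := Subgroup.map_subtype_le _
    have hPp : IsPGroup p P := P0.2.map _
    have hcomm : ∀ u ∈ P, s * u = u * s := fun u hu =>
      Subgroup.mem_centralizer_iff.1 (hPC hu) s rfl
    -- a p-regular element conjugate to an element of the coset is conjugate to its representative
    have hcoset : ∀ z : G, ¬ p ∣ orderOf z → ∀ u ∈ P, IsConj z (s * u) → u = 1 := by
      intro z hz u hu hc
      obtain ⟨g, hg⟩ := isConj_iff.1 hc
      have hord : orderOf (s * u) = orderOf z := by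
        rw [← hg]; exact orderOf_injective (MulAut.conj g).toMonoidHom (MulAut.conj g).injective z
      have hus : orderOf s ∣ orderOf x' := orderOf_pow_dvd m
      have h1 : u ^ (orderOf x' * orderOf z) = 1 := by
        have h2 : (s * u) ^ (orderOf x' * orderOf z) = 1 :=
          orderOf_dvd_iff_pow_eq_one.1 (hord ▸ dvd_mul_left _ _)
        rwa [(show Commute s u from hcomm u hu).mul_pow,
          orderOf_dvd_iff_pow_eq_one.1 (hus.trans (dvd_mul_right _ _)), one_mul] at h2
      obtain ⟨k, hk⟩ := IsPGroup.iff_orderOf.1 hPp ⟨u, hu⟩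
      rw [Subgroup.orderOf_mk] at hk
      have h3 : orderOf u = 1 := Nat.eq_one_of_dvd_coprimes
        (((Nat.Coprime.mul_right (hp.coprime_iff_not_dvd.2 hx.2.2)
          (hp.coprime_iff_not_dvd.2 hz)).pow_left k)) (hk.symm ▸ dvd_rfl)
        (orderOf_dvd_of_pow_eq_one h1)
      exact orderOf_eq_one_iff.1 h3
    let a : IrrCharacter G → ℂ := fun χ =>
      conj ((Nat.card P : ℂ)⁻¹ * ∑ u : P, (χ : G → ℂ) (s * u))
    have hval : ∀ g : G, ¬ p ∣ orderOf g → ∑ χ : IrrCharacter G, (χ : G → ℂ) g * a χ =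
        if IsConj g s then (Nat.card P : ℂ)⁻¹ * Nat.card (Subgroup.centralizer ({g} : Set G))
        else 0 := by
      intro g hg
      simp only [a, map_mul, map_sum, map_inv₀, map_natCast, Finset.mul_sum]
      rw [Finset.sum_comm]
      simp only [mul_left_comm _ (Nat.card P : ℂ)⁻¹, ← Finset.mul_sum, column_orth]
      rw [Finset.sum_eq_single (1 : P)]
      · simp only [Subgroup.coe_one, mul_one]; split_ifs <;> simp
      · intro u _ hu
        rw [if_neg fun hc => hu (Subtype.ext (hcoset g hg u u.2 hc))]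
      · exact fun h => absurd (Finset.mem_univ _) h
    have hs' : ¬ p ∣ orderOf s := by rw [hreg x' hx.2.2]; exact hx.2.2
    have ht' : ¬ p ∣ orderOf t := by rw [hreg y' hy.2.2]; exact hy.2.2
    have hfs := hval s hs'
    have hft := hval t ht'
    rw [if_pos (IsConj.refl s)] at hfs
    rw [if_neg fun h => hst h.symm] at hft
    have hidx : (Nat.card P : ℂ)⁻¹ * Nat.card C = (P0 : Subgroup C).index := by
      have := (P0 : Subgroup C).card_mul_index
      rw [hP, Subgroup.card_map_of_injective C.subtype_injective, ← this, Nat.cast_mul,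
        ← mul_assoc, inv_mul_cancel₀ (Nat.cast_ne_zero.2 Nat.card_pos.ne'), one_mul]
    choose γ hγ using hdiff
    have hkey : ((P0 : Subgroup C).index : ℂ) / (p : ℂ) =
        ∑ χ : IrrCharacter G, ((γ χ : AlgInt) : ℂ) * a χ := by
      rw [div_eq_iff (Nat.cast_ne_zero.2 hp.ne_zero), ← hidx, ← hfs,
        ← sub_zero (∑ χ : IrrCharacter G, (χ : G → ℂ) s * a χ), ← hft, ← Finset.sum_sub_distrib,
        Finset.sum_mul]
      refine Finset.sum_congr rfl fun χ _ => ?_
      rw [← sub_mul, hγ χ]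
      ring
    have hint : IsIntegral ℤ (((P0 : Subgroup C).index : ℂ) / (p : ℂ)) := by
      rw [hkey]
      exact IsIntegral.sum _ fun χ _ => (γ χ).2.mul
        (CfsgLib.Characters.isIntegral_conj (isIntegral_average P hcomm (irr_isCharacter χ)))
    exact P0.not_dvd_index (CfsgLib.Characters.nat_dvd_of_isIntegral_div hp.ne_zero hint)

end Cfsg.Agent.S4604
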