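import Cfsg.Statements.S4607
import Cfsg.Agent.Lib.TwoChars.Main

set_option autoImplicit false
open Cfsg

namespace Cfsg.Agent.S4607

/-- Let G be a finite group, p a prime, M a maximal ideal of the algebraic integers containing p, and B a p-block of G with defect group D. Then B contains exactly two irreducible characters if and only if D has order 2. -/
theorem result {G : Type*} [Group G] [Finite G] (p : ℕ) [Fact p.Prime] (M : Ideal Cfsg.AlgInt) (hM : Cfsg.IsPModular p M) (B : Set (Cfsg.IrrCharacter G)) (hB : Cfsg.IsPBlock M B) (D : Subgroup G) (hD : Cfsg.IsDefectGroup p M B D) : Nat.card B = 2 ↔ Nat.card D = 2 := by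
  classical
  have : Fintype G := Fintype.ofFinite G
  have hDc := CfsgLib.BlockCover.natCard_defect hM hB hD
  constructor
  · intro h
    obtain ⟨rfl, hd⟩ := CfsgLib.TwoChars.defect_of_card_two hM hB h
    rw [hDc, hd, pow_one]
  · intro h
    rw [hDc] at h
    have hd0 : blockDefect p B ≠ 0 := fun h0 => by rw [h0, pow_zero] at h; omega
    have hp2 : p = 2 := (Nat.prime_dvd_prime_iff_eq Fact.out Nat.prime_two).1 (h ▸ dvd_pow_self p hd0)
    subst hp2
    have hd : blockDefect 2 B = 1 := Nat.pow_right_injective le_rfl (h.trans (pow_one 2).symm)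
    obtain ⟨χ, hχ⟩ := CfsgLib.Blocks.IsPBlock.nonempty hM hB
    obtain ⟨ψ, -, hne, hset, -, -, -⟩ := CfsgLib.Blk7.defect_one_block hM hB hd hχ
    rw [hset, Nat.card_coe_set_eq, Set.ncard_pair hne.symm]

end Cfsg.Agent.S4607
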