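import Cfsg.Statements.S4608
import Cfsg.Agent.Lib.LocalSym5.Block
import Cfsg.Agent.Lib.LocalSym5.Eight
import Cfsg.Agent.Lib.BrauerPairs.Normalizer
import Cfsg.Agent.Lib.BlockCover.Defect

set_option autoImplicit false
open Cfsg
open CfsgLib CfsgLib.BrauerPairs MonoidAlgebra

namespace Cfsg.Agent.S4608

/-- Let G be a finite group, p a prime, M a maximal ideal of the algebraic integers containing p, and B a p-block of G with defect group D. If B has p-regular rank one and exactly five irreducible characters, then D is cyclic of order 5, or D has order 8 and is non-abelian (dihedral or quaternion). -/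
theorem result {G : Type*} [Group G] [Finite G] (p : ℕ) [Fact p.Prime] (M : Ideal Cfsg.AlgInt) (hM : Cfsg.IsPModular p M) (B : Set (Cfsg.IrrCharacter G)) (hB : Cfsg.IsPBlock M B) (D : Subgroup G) (hD : Cfsg.IsDefectGroup p M B D)
    (hl : Cfsg.blockRank p B = 1) (hk : Nat.card B = 5) :
    (Nat.card D = 5) ∨ (Nat.card D = 8 ∧ ¬ IsMulCommutative D) := by
  classical
  have : Fintype G := Fintype.ofFinite G
  let _ : ∀ K : Subgroup G, Fintype K := fun K => Fintype.ofFinite K
  haveI : M.IsMaximal := hM.2.1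
  have := charP_res hM
  have hcard := BlockCover.natCard_defect hM hB hD
  rcases LocalSym5.pow_defect_five hM hB hl hk with h | h
  · exact Or.inl (hcard.trans h)
  · refine Or.inr ⟨hcard.trans h, fun hcomm => ?_⟩
    have hd0 : blockDefect p B ≠ 0 := fun h0 => by rw [h0, pow_zero] at h; omega
    obtain rfl : p = 2 := (Nat.prime_dvd_prime_iff_eq Fact.out Nat.prime_two).1
      ((Fact.out : p.Prime).dvd_of_dvd_pow (m := 2) (n := 3) (by
        rw [show 2 ^ 3 = p ^ blockDefect p B by rw [h]; norm_num]; exact dvd_pow_self p hd0))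
    have hab : ∀ x ∈ D, ∀ y ∈ D, x * y = y * x := fun x hx y hy =>
      congrArg Subtype.val (hcomm.is_comm.comm (⟨x, hx⟩ : D) ⟨y, hy⟩)
    have hPc : D ≤ cz D := BPStar.le_cz_of_comm hab
    have hD0 := (isDefectGroup_iff hM hB D).1 hD
    have hEb := isBlockIdem_eG hM hB
    have hfix : eG hM B ∈ fixAlg (ResK M) D := fixAlg_anti le_top hEb.fixed
    obtain ⟨e, he, hcov⟩ := exists_block_le (hasBlocks hM) (brMap_mem_suppAlg D (eG hM B))
      (brMap_mem_fixAlg (cz_le_normalizer D) (fixAlg_anti le_top hEb.fixed))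
      (by rw [← brMap_mul hD0.pgroup hfix hfix, hEb.idem]) hD0.br_ne
    obtain ⟨c, hc, rfl⟩ := exists_eA_eq hM he
    have hind : IsInducedBlock M (cz D) c B :=
      CyclicDefectBound.induced_of_cover hM hD0.pgroup hPc rfl hB hc hcov
    have hmax : IsMaximalBrauerPair 2 M B D c :=
      (isMaximalBrauerPair_iff hM B D c).2 ⟨isBrauerPairOf_of_isInducedBlock hM hD0.pgroup hind, hD0⟩
    exact LocalSym5.card_ne_five (hM := hM) ⟨hmax, hPc⟩ (hcard.trans h) hl hk

end Cfsg.Agent.S4608
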