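import Cfsg.Statements.S4733
import Cfsg.Agent.Lib.Blocks.RankOrth
import Cfsg.Agent.S0914

set_option autoImplicit false
open Cfsg

namespace Cfsg.Agent.S4733

/-- Let p be a prime, M a maximal ideal of the algebraic integers containing p, and B a p-block of the finite group G with k irreducible characters and p-regular rank l (the number of irreducible Brauer characters). Then l ≤ k, and the following are equivalent: B has defect 0; k = l = 1; k = l. -/
theorem result {G : Type*} [Group G] [Finite G] (p : ℕ) [Fact p.Prime] (M : Ideal Cfsg.AlgInt) (hM : Cfsg.IsPModular p M) (B : Set (Cfsg.IrrCharacter G)) (hB : Cfsg.IsPBlock M B) : Cfsg.blockRank p B ≤ Nat.card B ∧ (Cfsg.blockDefect p B = 0 ↔ (Nat.card B = 1 ∧ Cfsg.blockRank p B = 1)) ∧ (Cfsg.blockDefect p B = 0 ↔ Nat.card B = Cfsg.blockRank p B) := by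
  classical
  have : Fintype G := Fintype.ofFinite G
  have hne := CfsgLib.Blocks.IsPBlock.nonempty hM hB
  have h0 : Cfsg.blockDefect p B = 0 → ∃ χ, B = {χ} := by
    intro h
    obtain ⟨χ, hχ⟩ := hne
    refine ⟨χ, ?_⟩
    rw [CfsgLib.Blocks.IsPBlock.eq_blockOf hM hB hχ]
    exact (Cfsg.Agent.S0914.result p M hM χ).1 ((CfsgLib.RankOrth.defect_zero_iff ⟨χ, hχ⟩).1 h χ hχ)
  have hrank : ∀ χ : Cfsg.IrrCharacter G, Cfsg.blockRank p {χ} = 1 := by
    intro χ
    rw [Cfsg.blockRank, Set.image_singleton]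
    exact finrank_span_singleton (CfsgLib.RankOrth.pRegularPart_one_ne_zero Fact.out χ)
  have hsingle : ∀ χ : Cfsg.IrrCharacter G, B = {χ} → Nat.card B = 1 := by
    intro χ h; subst h; simp
  have hback : Nat.card B = Cfsg.blockRank p B → Cfsg.blockDefect p B = 0 := by
    intro heq
    exact (CfsgLib.RankOrth.defect_zero_iff hne).2 fun χ hχ =>
      CfsgLib.RankOrth.not_dvd_cofDegree_of_vanish χ
        (CfsgLib.RankOrth.vanish_of_rank_eq hM hB heq χ hχ)
  refine ⟨CfsgLib.RankOrth.blockRank_le B, ⟨fun h => ?_, fun h => hback (h.1.trans h.2.symm)⟩,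
    ⟨fun h => ?_, hback⟩⟩
  · obtain ⟨χ, hχ⟩ := h0 h
    exact ⟨hsingle χ hχ, hχ ▸ hrank χ⟩
  · obtain ⟨χ, hχ⟩ := h0 h
    rw [hsingle χ hχ, hχ, hrank χ]

end Cfsg.Agent.S4733
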