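import Cfsg.Statements.S4609
import Cfsg.Agent.Lib.ThreeBlock9.Quotient
import Cfsg.Agent.Lib.CyclicBlock.Main
import Cfsg.Agent.Lib.BrauerPairs.Nilpotent
import Cfsg.Agent.S4733

set_option autoImplicit false
set_option linter.style.haveILetI false
open Cfsg MonoidAlgebra CfsgLib CfsgLib.BrauerPairs

namespace Cfsg.Agent.S4609

/-- Three characters with cyclic defect group. -/
theorem card_eq_three_of_cyclic {G : Type*} [Group G] [Fintype G] {p : ℕ} [hp : Fact p.Prime]
    {M : Ideal AlgInt} (hM : IsPModular p M) {B : Set (IrrCharacter G)} (hB : IsPBlock M B)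
    {D : Subgroup G} (hD : IsDefectGroup p M B D) (hcyc : IsCyclic D) (hD1 : D ≠ ⊥)
    (hk : Nat.card B = 3) : Nat.card D = 3 := by
  classical
  haveI := hM.2.1
  haveI := charP_res (M := M) hM
  have hDd := (isDefectGroup_iff hM hB D).1 hD
  have hfix : eG hM B ∈ fixAlg (ResK M) D := fixAlg_anti le_top (isBlockIdem_eG hM hB).fixed
  obtain ⟨e, he, hcov⟩ := exists_block_le (hasBlocks hM) (brMap_mem_suppAlg D (eG hM B))
    (brMap_mem_fixAlg (cz_le_normalizer D) (fixAlg_anti le_top (isBlockIdem_eG hM hB).fixed))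
    (by rw [← brMap_mul hDd.pgroup hfix hfix, (isBlockIdem_eG hM hB).idem]) hDd.br_ne
  obtain ⟨n, hn⟩ := IsPGroup.iff_card.1 hDd.pgroup
  have hn0 : 1 ≤ n := by
    rcases Nat.eq_zero_or_pos n with rfl | h
    · rw [pow_zero, Subgroup.card_eq_one] at hn
      exact absurd hn hD1
    · exact h
  obtain ⟨L, rfl, -⟩ := CyclicBlock.exists_data hB hD hcyc hn0 hn he hcov
  letI : Fintype L.K := Fintype.ofFinite _
  obtain ⟨-, X, Y, hXY, hdis, hX, hY, -⟩ := L.exists_relation L.blockRank_eq.ge
  have hdvd := L.inertia_dvd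
  have hsum : Nat.card B = Nat.card X + Nat.card Y := by
    rw [hXY, Nat.card_coe_set_eq, Nat.card_coe_set_eq, Nat.card_coe_set_eq,
      Set.ncard_union_eq hdis]
  rw [hk, hX, hY] at hsum
  rw [hn] at hsum ⊢
  have hp2 := hp.out.two_le
  have hpn : p ≤ p ^ n := Nat.le_self_pow (by omega) p
  have he0 : L.inertia ≠ 0 := fun h => by
    rw [h] at hdvd
    have := Nat.eq_zero_of_zero_dvd hdvd
    omega
  have hele : L.inertia ≤ p - 1 := Nat.le_of_dvd (by omega) hdvd
  generalize hi : L.inertia = i at hsum hdvd he0 hele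
  have hile : i ≤ 3 := hsum ▸ Nat.le_add_right _ _
  obtain rfl | rfl | rfl : i = 1 ∨ i = 2 ∨ i = 3 := by omega
  · omega
  · have hpd : ¬ 2 ∣ p ^ n := fun h => by
      have := (Nat.prime_dvd_prime_iff_eq Nat.prime_two hp.out).1
        (Nat.prime_two.dvd_of_dvd_pow h)
      omega
    omega
  · omega

/-- Let G be a finite group, p a prime, M a maximal ideal of the algebraic integers containing p, and B a p-block of G with defect group D containing exactly three irreducible characters. Suppose the number of height-zero characters of B equals the number of height-zero characters of its Brauer correspondent b, the block of N_G(D) with defect group D inducing B (as the Alperin–McKay conjecture predicts). Then D has order 3. -/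
theorem result {G : Type*} [Group G] [Finite G] (p : ℕ) [Fact p.Prime] (M : Ideal Cfsg.AlgInt) (hM : Cfsg.IsPModular p M) (B : Set (Cfsg.IrrCharacter G)) (hB : Cfsg.IsPBlock M B) (D : Subgroup G) (hD : Cfsg.IsDefectGroup p M B D) (hk : Nat.card B = 3)
    (b : Set (Cfsg.IrrCharacter (Subgroup.normalizer (D : Set G)))) (hbB : Cfsg.IsInducedBlock M (Subgroup.normalizer (D : Set G)) b B)
    (hbD : Cfsg.IsDefectGroup p M b (D.subgroupOf (Subgroup.normalizer (D : Set G))))
    (hAM : Nat.card {χ : Cfsg.IrrCharacter G // χ ∈ B ∧ Cfsg.blockHeight p B (χ : G → ℂ) = 0} =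
           Nat.card {ψ : Cfsg.IrrCharacter (Subgroup.normalizer (D : Set G)) // ψ ∈ b ∧ Cfsg.blockHeight p b (ψ : Subgroup.normalizer (D : Set G) → ℂ) = 0}) :
    Nat.card D = 3 := by
  classical
  letI : Fintype G := Fintype.ofFinite G
  haveI := hM.2.1
  have hD1 : D ≠ ⊥ := by
    intro h
    have hd : blockDefect p B = 0 := by
      have h1 := CfsgLib.BlockCover.natCard_defect hM hB hD
      rw [h, Subgroup.card_bot] at h1
      exact ((Nat.pow_eq_one.1 h1.symm).resolve_left (Fact.out : p.Prime).ne_one)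
    have := ((Cfsg.Agent.S4733.result p M hM B hB).2.1.1 hd).1
    omega
  by_cases hcyc : IsCyclic D
  · exact card_eq_three_of_cyclic hM hB hD hcyc hD1 hk
  set N := Subgroup.normalizer (D : Set G)
  letI : Fintype N := Fintype.ofFinite _
  haveI : (D.subgroupOf N).Normal := Subgroup.normal_in_normalizer
  have hle : D ≤ N := Subgroup.le_normalizer
  have h4 := CfsgLib.ThreeBlock9.four_le_card_height_zero hM hbB.1 hbD fun h =>
    hcyc ((Subgroup.subgroupOfEquivOfLe hle).isCyclic.1 h)
  have h3 : Nat.card {χ : IrrCharacter G // χ ∈ B ∧ blockHeight p B (χ : G → ℂ) = 0} ≤ Nat.card B :=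
    Nat.card_le_card_of_injective (fun χ => (⟨χ.1, χ.2.1⟩ : B))
      fun a b e => Subtype.ext (congrArg (fun z : B => (z : IrrCharacter G)) e)
  omega

end Cfsg.Agent.S4609
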