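import Cfsg.Statements.S4611
import Cfsg.Agent.Lib.Blocks.NormalPSubgroup
import Cfsg.Agent.Lib.Blocks.WeakOrth
import Cfsg.Agent.Lib.Blocks.Kernel
import Cfsg.Agent.Lib.PCore.PSolvable
import Cfsg.Agent.Lib.Chars17.IrrBasic

set_option autoImplicit false
open Cfsg

namespace Cfsg.Agent.S4611

open CfsgLib.Chars17

universe u

/-- A constrained group without `p'`-core has only the principal block. -/
theorem mem_principal_of_constrained {G : Type u} [Group G] [Finite G] {p : ℕ} [hp : Fact p.Prime]
    {M : Ideal AlgInt} (hM : IsPModular p M)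
    (hC : Subgroup.centralizer (pCore p G : Set G) ≤ pCore p G) (χ : IrrCharacter G) :
    χ ∈ principalBlock M G := by
  classical
  have : Fintype G := Fintype.ofFinite G
  have hP : IsPGroup p (pCore p G) := CfsgLib.PCore.pCore_isPGroup
  haveI : (pCore p G).Normal := pCore_normal p G
  set B := principalBlock M G with hBdef
  have hB : IsPBlock M B := CfsgLib.Blocks.isPBlock_principalBlock M
  have hzero : ∀ g : G, g ≠ 1 → blockCoeff B g = 0 := by
    intro g hg
    by_cases hgC : g ∈ Subgroup.centralizer (pCore p G : Set G)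
    · refine CfsgLib.Blocks.blockCoeff_eq_zero_of_singular hM hB ?_
      obtain ⟨k, hk⟩ := IsPGroup.iff_orderOf.1 hP ⟨g, hC hgC⟩
      rw [Subgroup.orderOf_mk] at hk
      rw [hk]
      refine dvd_pow_self p fun h0 => hg (orderOf_eq_one_iff.1 ?_)
      rw [hk, h0, pow_zero]
    · exact CfsgLib.BlockNormalP.blockCoeff_eq_zero hM _ hP hB hgC
  have hval : ∀ ψ : IrrCharacter G,
      CfsgLib.Blocks.omega (ψ : G → ℂ) (CfsgLib.Blocks.blockIdem B) = blockCoeff B 1 := by
    intro ψ
    rw [CfsgLib.Blocks.omega_apply, Finset.sum_eq_single 1 (fun g _ hg => by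
      rw [CfsgLib.Blocks.coeff_blockIdem, hzero g hg, zero_mul])
      (fun h => absurd (Finset.mem_univ _) h), CfsgLib.Blocks.coeff_blockIdem,
      mul_div_assoc, div_self (CfsgLib.Characters.irr_one_ne_zero ψ), mul_one]
  have htriv : CfsgLib.Characters.principalIrr G ∈ B := by
    rw [hBdef, CfsgLib.Blocks.principalBlock_eq]
    exact CfsgLib.Blocks.mem_blockOf_self hM (CfsgLib.Characters.principalIrr G)
  have h1 := hval (CfsgLib.Characters.principalIrr G)
  rw [CfsgLib.Blocks.omega_blockIdem, if_pos htriv] at h1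
  have h2 := hval χ
  rw [CfsgLib.Blocks.omega_blockIdem, ← h1] at h2
  by_contra h
  rw [if_neg h] at h2
  exact zero_ne_one h2

/-- Inflations of members of the principal block of a quotient are in the principal block. -/
theorem infl_mem_principal {G : Type u} [Group G] [Finite G] {p : ℕ} [hp : Fact p.Prime]
    {M : Ideal AlgInt} (hM : IsPModular p M) (N : Subgroup G) [N.Normal]
    {η : IrrCharacter (G ⧸ N)} (hη : η ∈ principalBlock M (G ⧸ N)) :
    infl N η ∈ principalBlock M G := by
  intro g
  have h := hη (g : G ⧸ N)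
  have hdvd : (Subgroup.centralizer ({(g : G ⧸ N)} : Set (G ⧸ N))).index ∣
      (Subgroup.centralizer ({g} : Set G)).index := by
    refine (Subgroup.index_dvd_of_le ?_).trans
      (Subgroup.index_map_dvd _ (QuotientGroup.mk'_surjective N))
    rintro _ ⟨c, hc, rfl⟩
    rw [Subgroup.mem_centralizer_singleton_iff]
    exact congrArg (QuotientGroup.mk' N) (Subgroup.mem_centralizer_singleton_iff.1 hc)
  obtain ⟨m, hm⟩ := hdvd
  have hm' : MemLocalRing M (m : ℂ) := natCast_mem (CfsgLib.Blocks.lRing hM) m
  convert CfsgLib.Blocks.MemLocalIdeal.mul_left hM hm' h using 1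
  simp only [centralChar, infl_apply, hm, Nat.cast_mul, QuotientGroup.mk_one]
  ring


/-- Let G be a finite solvable group and π a nonempty set of primes, each dividing the order of G; fix for each p in π a maximal ideal M p of the algebraic integers containing p. Then the only irreducible character lying in the principal p-block for every p in π is the principal character if and only if G is generated by the subgroups O_{p'}(G), p in π (the largest normal subgroups of order prime to p). -/
theorem result {G : Type*} [Group G] [Finite G] [Group.IsSolvable G] (π : Set ℕ) (hπ : ∀ p ∈ π, p.Prime ∧ p ∣ Nat.card G) (hne : π.Nonempty) (M : ℕ → Ideal Cfsg.AlgInt) (hM : ∀ p ∈ π, Cfsg.IsPModular p (M p)) :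
    (∀ χ : Cfsg.IrrCharacter G, (∀ p ∈ π, χ ∈ Cfsg.principalBlock (M p) G) → (χ : G → ℂ) = fun _ => 1) ↔
      ⨆ p ∈ π, Cfsg.pPrimeCore p G = ⊤ := by
  classical
  set W := ⨆ p ∈ π, pPrimeCore p G with hW
  constructor
  · intro h
    by_contra hne
    have hWn : W.Normal := Subgroup.biSup_normal π _ fun p _ => pPrimeCore_normal p G
    haveI := hWn
    haveI : Nontrivial (G ⧸ W) := QuotientGroup.nontrivial_iff.2 hne
    obtain ⟨x, hx⟩ := exists_ne (1 : G ⧸ W)
    obtain ⟨η, hη⟩ : ∃ η : IrrCharacter (G ⧸ W), (η : G ⧸ W → ℂ) x ≠ (η : G ⧸ W → ℂ) 1 := by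
      by_contra hc
      push Not at hc
      exact hx (eq_one_of_forall_irr hc)
    have h1 := h (infl W η) fun p hp => by
      haveI : Fact p.Prime := ⟨(hπ p hp).1⟩
      haveI := pPrimeCore_normal p G
      have hle : pPrimeCore p G ≤ irrKer (infl W η) :=
        (le_iSup₂ (f := fun p (_ : p ∈ π) => pPrimeCore p G) p hp).trans (le_irrKer_infl W η)
      obtain ⟨ζ, hζ⟩ := exists_infl_eq (pPrimeCore p G) hle
      rw [← hζ]
      refine infl_mem_principal (hM p hp) _ (mem_principal_of_constrained (hM p hp) ?_ ζ)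
      exact CfsgLib.PCore.centralizer_pCore_le CfsgLib.PCore.isPSolvable_of_isSolvable
        CfsgLib.PCore.pPrimeCore_quotient_pPrimeCore
    obtain ⟨g, rfl⟩ := QuotientGroup.mk_surjective x
    have e1 := congrFun h1 g
    have e2 := congrFun h1 1
    rw [infl_apply] at e1 e2
    exact hη (by rw [e1, ← e2, QuotientGroup.mk_one])
  · intro h χ hχ
    refine (irrKer_eq_top_iff χ).1 (top_le_iff.1 ?_)
    rw [← h]
    refine iSup₂_le fun p hp g hg => ?_
    haveI : Fact p.Prime := ⟨(hπ p hp).1⟩
    haveI := pPrimeCore_normal p G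
    have : Fintype G := Fintype.ofFinite G
    exact CfsgLib.Blocks.principalBlock_kernel (hM p hp) (hχ p hp)
      CfsgLib.PCore.not_dvd_card_pPrimeCore hg

end Cfsg.Agent.S4611
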