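import Cfsg.Statements.S4614
import Cfsg.Agent.Lib.ThreeChars.Principal

set_option autoImplicit false
open Cfsg

namespace Cfsg.Agent.S4614

/-- Let G be a finite group, p a prime and M a maximal ideal of the algebraic integers containing p. If the principal p-block of G contains exactly three irreducible characters, then a Sylow p-subgroup of G has order 3 (so p = 3). -/
theorem result {G : Type*} [Group G] [Finite G] (p : ℕ) [Fact p.Prime] (M : Ideal Cfsg.AlgInt) (hM : Cfsg.IsPModular p M) (hk : Nat.card (Cfsg.principalBlock M G) = 3) (D : Sylow p G) : Nat.card (D : Subgroup G) = 3 := by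
  haveI : Fintype G := Fintype.ofFinite G
  exact CfsgLib.ThreeChars.card_sylow_eq_three hM hk D

end Cfsg.Agent.S4614
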