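import Cfsg.Statements.S4620
import Cfsg.Agent.Lib.Structure.MinimalNormal
import Cfsg.Agent.Lib.PCore.Basic

set_option autoImplicit false
open scoped Pointwise
open Cfsg

namespace Cfsg.Agent.S4620

open CfsgLib.Structure CfsgLib.PCore

variable {H : Type*} [Group H] [Finite H] {p : ℕ} [Fact p.Prime]

/-- A trivial-intersection Sylow subgroup. -/
def TI (P : Sylow p H) : Prop :=
  ∀ g : H, g ∉ Subgroup.normalizer ((P : Subgroup H) : Set H) →
    (P : Subgroup H) ⊓ (MulAut.conj g • (P : Subgroup H)) = ⊥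

theorem TI.mem_normalizer {P : Sylow p H} (h : TI P) {g x : H} (hx : x ∈ (P : Subgroup H))
    (hgx : g⁻¹ * x * g ∈ (P : Subgroup H)) (hx1 : x ≠ 1) :
    g ∈ Subgroup.normalizer ((P : Subgroup H) : Set H) := by
  by_contra hg
  have hmem : x ∈ (P : Subgroup H) ⊓ (MulAut.conj g • (P : Subgroup H)) :=
    ⟨hx, Subgroup.mem_smul_pointwise_iff_exists _ _ _ |>.2
      ⟨g⁻¹ * x * g, hgx, by rw [MulAut.smul_def, MulAut.conj_apply]; group⟩⟩
  rw [h g hg] at hmem
  exact hx1 (Subgroup.mem_bot.1 hmem)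

theorem TI.conj {P : Sylow p H} (h : TI P) (a : H) : TI (a • P) := by
  intro g hg
  rw [Subgroup.eq_bot_iff_forall]
  rintro x ⟨hx, hx'⟩
  by_contra hx1
  obtain ⟨y, hy, hyx⟩ := (Subgroup.mem_smul_pointwise_iff_exists _ _ _).1 hx'
  rw [Sylow.coe_subgroup_smul] at hx hy hg
  obtain ⟨u, hu, rfl⟩ := (Subgroup.mem_smul_pointwise_iff_exists _ _ _).1 hx
  obtain ⟨v, hv, rfl⟩ := (Subgroup.mem_smul_pointwise_iff_exists _ _ _).1 hy
  simp only [MulAut.smul_def, MulAut.conj_apply] at hyx hx1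
  have h2 := h.mem_normalizer (g := a⁻¹ * g * a) hu (by
    rw [show u = a⁻¹ * (g * (a * v * a⁻¹) * g⁻¹) * a by rw [hyx]; group]
    simpa [mul_assoc] using hv) (fun h1 => hx1 (by rw [h1]; simp))
  apply hg
  rw [← Sylow.coe_subgroup_smul]
  refine Sylow.smul_eq_iff_mem_normalizer.1 ?_
  have h2 := Sylow.smul_eq_iff_mem_normalizer.2 h2
  calc g • a • P = a • ((a⁻¹ * g * a) • P) := by
        rw [← mul_smul, ← mul_smul]; congr 1; group
    _ = a • P := by rw [h2]

theorem inf_ne_bot (hOp' : pPrimeCore p H = ⊥) (P : Sylow p H) {N : Subgroup H} (hN : N.Normal)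
    (hne : N ≠ ⊥) : (P : Subgroup H) ⊓ N ≠ ⊥ := by
  intro h
  refine hne (pPrimeCore_eq_bot_iff.1 hOp' N hN (coprime_of_not_dvd_card fun hd => ?_))
  obtain ⟨x, hx⟩ := exists_prime_orderOf_dvd_card' (G := N) p hd
  have hxp : IsPGroup p (Subgroup.zpowers (x : H)) :=
    IsPGroup.of_card (n := 1) (by rw [Nat.card_zpowers, Subgroup.orderOf_coe, hx, pow_one])
  obtain ⟨Q, hQ⟩ := hxp.exists_le_sylow
  obtain ⟨g, rfl⟩ := MulAction.exists_smul_eq H P Q
  have hxQ : (x : H) ∈ ((g • P : Sylow p H) : Subgroup H) := hQ (Subgroup.mem_zpowers _)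
  rw [Sylow.coe_subgroup_smul] at hxQ
  obtain ⟨y, hy, hyx⟩ := (Subgroup.mem_smul_pointwise_iff_exists _ _ _).1 hxQ
  simp only [MulAut.smul_def, MulAut.conj_apply] at hyx
  have hyN : y ∈ N := by
    have := hN.conj_mem (x : H) x.2 g⁻¹
    rw [← hyx] at this
    simpa [mul_assoc] using this
  have hy1 : y = 1 := Subgroup.mem_bot.1 (h ▸ ⟨hy, hyN⟩)
  rw [hy1, mul_one, mul_inv_cancel] at hyx
  have hx1 : x = 1 := Subtype.ext hyx.symm
  rw [hx1, orderOf_one] at hx
  exact (Fact.out : p.Prime).ne_one hx.symm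

omit [Fact p.Prime] in
theorem pCore_normal_sub (hOp : pCore p H = ⊥) (N : Subgroup H) [N.Normal] : pCore p N = ⊥ := by
  have h := map_pCore_subtype_of_normal (p := p) N
  rw [hOp, inf_bot_eq] at h
  exact (Subgroup.map_eq_bot_iff_of_injective _ N.subtype_injective).1 h

theorem pPrimeCore_normal_sub (hOp' : pPrimeCore p H = ⊥) (N : Subgroup H) [N.Normal] :
    pPrimeCore p N = ⊥ := by
  have h := map_pPrimeCore_subtype_of_normal (p := p) N
  rw [hOp', inf_bot_eq] at h
  exact (Subgroup.map_eq_bot_iff_of_injective _ N.subtype_injective).1 h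

omit [Fact p.Prime] in
theorem false_of_le_normalizer (hOp : pCore p H = ⊥) (P : Sylow p H) {N : Subgroup H} [N.Normal]
    (hle : N ≤ Subgroup.normalizer ((P : Subgroup H) : Set H))
    (hne : (P : Subgroup H) ⊓ N ≠ ⊥) : False := by
  have hnorm : ((P : Subgroup H).subgroupOf N).Normal :=
    Subgroup.normal_subgroupOf_of_le_normalizer hle
  have h := le_pCore hnorm (P.2.comap_subtype (K := N))
  rw [pCore_normal_sub hOp N, le_bot_iff, Subgroup.subgroupOf_eq_bot] at h
  exact hne h.eq_bot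

theorem minNormal_unique (hOp : pCore p H = ⊥) (hOp' : pPrimeCore p H = ⊥) {P : Sylow p H}
    (hTI : TI P) {N M : Subgroup H} (hN : IsMinNormal N) (hM : IsMinNormal M) : N = M := by
  by_contra hne
  haveI := hM.normal
  have hR := inf_ne_bot hOp' P hN.normal hN.ne_bot
  refine false_of_le_normalizer hOp P (fun g hg => ?_) (inf_ne_bot hOp' P hM.normal hM.ne_bot)
  obtain ⟨⟨x, hx⟩, hx1⟩ := (Subgroup.ne_bot_iff_exists_ne_one).1 hR
  refine hTI.mem_normalizer hx.1 ?_ (fun h => hx1 (Subtype.ext h))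
  have hc : x * g = g * x := (hN.commute hM hne x hx.2 g hg).eq
  rw [mul_assoc, hc, inv_mul_cancel_left]
  exact hx.1

theorem TI.restrict {P : Sylow p H} (h : TI P) (N : Subgroup H) [N.Normal] (Q : Sylow p N) :
    TI Q := by
  obtain ⟨P', hP'⟩ := (Q.2.map N.subtype).exists_le_sylow
  obtain ⟨a, rfl⟩ := MulAction.exists_smul_eq H P P'
  have hQ : ∀ x : N, x ∈ (Q : Subgroup N) ↔ (x : H) ∈ ((a • P : Sylow p H) : Subgroup H) := by
    have hle : (Q : Subgroup N) ≤ ((a • P : Sylow p H) : Subgroup H).subgroupOf N :=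
      fun x hx => hP' (Subgroup.mem_map_of_mem _ hx)
    have := Q.3 ((a • P).2.comap_subtype) hle
    intro x
    constructor
    · exact fun hx => hle hx
    · intro hx
      rw [← this]
      exact hx
  intro n hn
  rw [Subgroup.eq_bot_iff_forall]
  rintro x ⟨hx, hx'⟩
  by_contra hx1
  apply hn
  obtain ⟨y, hy, hyx⟩ := (Subgroup.mem_smul_pointwise_iff_exists _ _ _).1 hx'
  simp only [MulAut.smul_def, MulAut.conj_apply] at hyx
  have hmem := (h.conj a).mem_normalizer (g := (n : H)) ((hQ x).1 hx) (by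
    have h2 := (hQ y).1 hy
    rw [← hyx]
    simpa [mul_assoc] using h2) (fun h1 => hx1 (Subtype.ext h1))
  rw [Subgroup.mem_normalizer_iff]
  intro z
  rw [hQ, hQ, Subgroup.coe_mul, Subgroup.coe_mul, Subgroup.coe_inv]
  exact Subgroup.mem_normalizer_iff.1 hmem z


/-- Let H be a finite group with no nontrivial normal p-subgroup and no nontrivial normal subgroup of order prime to p, whose Sylow p-subgroup P is nontrivial and a trivial-intersection set (P meets its conjugates by elements outside N_H(P) trivially). Then H has a unique minimal normal subgroup N; N is non-abelian simple with trivial centralizer in H (so H embeds in Aut(N)), and a Sylow p-subgroup of N is again a nontrivial trivial-intersection set in N. -/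
theorem result {H : Type*} [Group H] [Finite H] (p : ℕ) [Fact p.Prime] (hOp : Cfsg.pCore p H = ⊥) (hOp' : Cfsg.pPrimeCore p H = ⊥) (P : Sylow p H) (hP1 : (P : Subgroup H) ≠ ⊥)
    (hTI : ∀ g : H, g ∉ Subgroup.normalizer ((P : Subgroup H) : Set H) → (P : Subgroup H) ⊓ (MulAut.conj g • (P : Subgroup H)) = ⊥) :
    ∃ N : Subgroup H, N.Normal ∧ N ≠ ⊥ ∧ (∀ K : Subgroup H, K.Normal → K ≠ ⊥ → N ≤ K) ∧
      IsSimpleGroup N ∧ ¬ IsMulCommutative N ∧ Subgroup.centralizer (N : Set H) = ⊥ ∧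
      ∀ Q : Sylow p N, (Q : Subgroup N) ≠ ⊥ ∧
        ∀ n : N, n ∉ Subgroup.normalizer ((Q : Subgroup N) : Set N) → (Q : Subgroup N) ⊓ (MulAut.conj n • (Q : Subgroup N)) = ⊥ := by
  classical
  have hTI' : TI P := hTI
  haveI : Nontrivial H := by
    obtain ⟨⟨x, hx⟩, hx1⟩ := Subgroup.ne_bot_iff_exists_ne_one.1 hP1
    exact ⟨x, 1, fun h => hx1 (Subtype.ext h)⟩
  obtain ⟨N, hN⟩ := exists_isMinNormal (G := H)
  haveI := hN.normal
  have hmin : ∀ K : Subgroup H, K.Normal → K ≠ ⊥ → N ≤ K := by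
    intro K hK hne
    obtain ⟨M, hM, hMK⟩ := exists_isMinNormal_le hK hne
    rw [minNormal_unique hOp hOp' hTI' hN hM]
    exact hMK
  have hna : ¬ IsMulCommutative N := by
    intro hab
    refine false_of_le_normalizer hOp P (fun g hg => ?_) (inf_ne_bot hOp' P hN.normal hN.ne_bot)
    obtain ⟨⟨x, hx⟩, hx1⟩ :=
      Subgroup.ne_bot_iff_exists_ne_one.1 (inf_ne_bot hOp' P hN.normal hN.ne_bot)
    refine hTI'.mem_normalizer hx.1 ?_ (fun h => hx1 (Subtype.ext h))
    have hc : x * g = g * x :=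
      congrArg Subtype.val (hab.is_comm.comm (⟨x, hx.2⟩ : N) ⟨g, hg⟩)
    rw [mul_assoc, hc, inv_mul_cancel_left]
    exact hx.1
  have hcent : Subgroup.centralizer (N : Set H) = ⊥ := by
    by_contra hne
    have hle := hmin _ inferInstance hne
    exact hna ⟨⟨fun a b => Subtype.ext ((Subgroup.mem_centralizer_iff.1 (hle b.2)) a a.2)⟩⟩
  have hOpN := pCore_normal_sub hOp N
  have hOp'N := pPrimeCore_normal_sub hOp' N
  haveI : Nontrivial N := (Subgroup.nontrivial_iff_ne_bot N).2 hN.ne_bot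
  have hQ1 : ∀ Q : Sylow p N, (Q : Subgroup N) ≠ ⊥ := by
    intro Q h
    exact inf_ne_bot hOp'N Q (N := ⊤) inferInstance top_ne_bot (by rw [h, bot_inf_eq])
  obtain ⟨S, hS⟩ := exists_isMinNormal (G := N)
  have hTIN : TI (default : Sylow p N) := TI.restrict hTI' N _
  have hStop : S = ⊤ := by
    have hmap : ∀ g : H, S.map (conjAut N g).toMonoidHom = S := fun g =>
      minNormal_unique hOpN hOp'N hTIN (hS.map_equiv (conjAut N g)) hS
    have h := hN.iSup_conj_eq_top hS.ne_bot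
    rw [iSup_congr hmap, iSup_const] at h
    exact h
  have hsimple : IsSimpleGroup N := by
    refine ⟨fun K hK => ?_⟩
    by_cases hK1 : K = ⊥
    · exact Or.inl hK1
    obtain ⟨M, hM, hMK⟩ := exists_isMinNormal_le hK hK1
    refine Or.inr (top_le_iff.1 ?_)
    rw [← hStop, minNormal_unique hOpN hOp'N hTIN hS hM]
    exact hMK
  exact ⟨N, hN.normal, hN.ne_bot, hmin, hsimple, hna, hcent,
    fun Q => ⟨hQ1 Q, TI.restrict hTI' N Q⟩⟩

end Cfsg.Agent.S4620
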