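import Cfsg.Statements.S4624
import Cfsg.Agent.Lib.TwoGroups.WreathMatrix
import Cfsg.Agent.Lib.Sp.Card
import Cfsg.Agent.Lib.ClassicalGroups.SL2
import Cfsg.Agent.S4623

set_option autoImplicit false
open Cfsg

namespace Cfsg.Agent.S4624

open Matrix CfsgLib.WreathAb

variable {F : Type*} [Field F] {n : ℕ}

/-- The diagonal block matrix of a tuple of two by two matrices. -/
def blk (f : Fin n → SpecialLinearGroup (Fin 2) F) : Matrix (Fin n ⊕ Fin n) (Fin n ⊕ Fin n) F :=
  fromBlocks (diagonal fun i => (f i).1 0 0) (diagonal fun i => (f i).1 0 1)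
    (diagonal fun i => (f i).1 1 0) (diagonal fun i => (f i).1 1 1)

theorem det_two (A : SpecialLinearGroup (Fin 2) F) :
    A.1 0 0 * A.1 1 1 - A.1 0 1 * A.1 1 0 = 1 := (Matrix.det_fin_two A.1).symm.trans A.2

/-- The block embedding. -/
def blkHom : (Fin n → SpecialLinearGroup (Fin 2) F) →* Matrix.symplecticGroup (Fin n) F where
  toFun f := ⟨blk f, by
    rw [SymplecticGroup.mem_iff, Matrix.J, blk, fromBlocks_multiply, fromBlocks_transpose,
      fromBlocks_multiply]
    simp only [mul_zero, zero_add, add_zero, mul_one, mul_neg, diagonal_transpose, neg_mul,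
      diagonal_mul_diagonal, diagonal_neg, diagonal_add, ← diagonal_one, ← diagonal_zero]
    congr 1 <;> congr 1 <;> funext i <;> have h := det_two (f i)
    · ring
    · linear_combination -h
    · linear_combination h
    · ring⟩
  map_one' := by
    refine Subtype.ext ?_
    show blk 1 = 1
    simp [blk, fromBlocks_one]
  map_mul' f g := by
    refine Subtype.ext ?_
    show blk (f * g) = blk f * blk g
    rw [blk, blk, blk, fromBlocks_multiply]
    have key : ∀ (i : Fin n) (a b : Fin 2), ((f * g) i).1 a b =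
        (f i).1 a 0 * (g i).1 0 b + (f i).1 a 1 * (g i).1 1 b := fun i a b => by
      show ((f i).1 * (g i).1) a b = _
      rw [Matrix.mul_apply, Fin.sum_univ_two]
    simp only [diagonal_mul_diagonal, diagonal_add, key]

/-- Permutations of the hyperbolic pairs. -/
def permHom : Equiv.Perm (Fin n) →* Matrix.symplecticGroup (Fin n) F where
  toFun π := ⟨fromBlocks (permMat F π) 0 0 (permMat F π), by
    rw [SymplecticGroup.mem_iff, Matrix.J, fromBlocks_multiply, fromBlocks_transpose,
      fromBlocks_multiply]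
    simp [permMat_mul_transpose]⟩
  map_one' := Subtype.ext (by
    show fromBlocks _ 0 0 _ = 1
    rw [permMat_one, fromBlocks_one])
  map_mul' π τ := Subtype.ext (by
    show fromBlocks _ 0 0 _ = fromBlocks _ 0 0 _ * fromBlocks _ 0 0 _
    rw [fromBlocks_multiply]
    simp [permMat_mul])

theorem perm_rel (π : Equiv.Perm (Fin n)) (f : Fin n → SpecialLinearGroup (Fin 2) F) :
    permHom π * blkHom f * (permHom (F := F) π)⁻¹ = blkHom (f ∘ ⇑π.symm) := by
  rw [mul_inv_eq_iff_eq_mul]
  refine Subtype.ext ?_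
  show fromBlocks _ 0 0 _ * blk f = blk _ * fromBlocks _ 0 0 _
  rw [blk, blk, fromBlocks_multiply, fromBlocks_multiply]
  simp only [zero_mul, add_zero, zero_add, mul_zero, permMat_mul_diagonal]
  rfl

theorem perm_inj (f : Fin n → SpecialLinearGroup (Fin 2) F) (π : Equiv.Perm (Fin n))
    (h : blkHom f * permHom π = 1) : f = 1 ∧ π = 1 := by
  have h' : blk f * fromBlocks (permMat F π) 0 0 (permMat F π) = fromBlocks 1 0 0 1 := by
    rw [fromBlocks_one]; exact congrArg Subtype.val h
  rw [blk, fromBlocks_multiply] at h'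
  simp only [mul_zero, add_zero, zero_add] at h'
  obtain ⟨h1, h2, h3, h4⟩ := fromBlocks_inj.1 h'
  obtain ⟨e1, hπ⟩ := eq_one_of_diagonal_mul_permMat h1
  subst hπ
  rw [permMat_one, mul_one] at h2 h3 h4
  refine ⟨funext fun i => Subtype.ext ?_, rfl⟩
  ext a b
  have e2 := congrFun (congrFun h2 i) i
  have e3 := congrFun (congrFun h3 i) i
  have e4 := congrFun (congrFun h4 i) i
  simp only [diagonal_apply_eq, Matrix.zero_apply, Matrix.one_apply_eq] at e2 e3 e4
  have e1' := congrFun e1 i
  fin_cases a <;> fin_cases b <;> simp_all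

/-- Let F be a finite field of odd order and n ≥ 1. A Sylow 2-subgroup P of the symplectic group Sp_{2n}(F) has P/P' elementary abelian: the square of every element of P lies in the derived subgroup of P. -/
theorem result {F : Type*} [Field F] [Fintype F] (hF : Odd (Fintype.card F)) (n : ℕ) (hn : 1 ≤ n) (P : Sylow 2 (Matrix.symplecticGroup (Fin n) F)) :
    ∀ x : (P : Subgroup (Matrix.symplecticGroup (Fin n) F)), x ^ 2 ∈ commutator (P : Subgroup (Matrix.symplecticGroup (Fin n) F)) := by
  classical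
  set q := Fintype.card F
  have h1 : 1 < q := Fintype.one_lt_card
  obtain ⟨Q⟩ : Nonempty (Sylow 2 (SpecialLinearGroup (Fin 2) F)) := inferInstance
  obtain ⟨k, hk, ⟨e⟩⟩ := CfsgLib.ClassicalGroups.SL2.sylow_two_quaternion hF Q
  have hQ : ElemAb (Q : Subgroup (SpecialLinearGroup (Fin 2) F)) := by
    haveI : NeZero (2 ^ k) := ⟨pow_ne_zero _ two_ne_zero⟩
    exact ElemAb.of_equiv e.symm
      (elemAb_quaternion _ ((Nat.even_pow).2 ⟨even_two, by omega⟩))
  obtain ⟨S, hS, -, hcardS⟩ := Cfsg.Agent.S4623.exists_gens 2 n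
  refine sylow_elemAb blkHom permHom perm_rel perm_inj
    (D := Subgroup.pi Set.univ fun _ => (Q : Subgroup _)) (elemAb_pi hQ)
    (K := Subgroup.closure S) (elemAb_closure S hS) (fun π _ f hf i _ => hf (π.symm i) trivial)
    ?_ P
  have hD : Nat.card (Subgroup.pi (Set.univ : Set (Fin n))
      fun _ => (Q : Subgroup (SpecialLinearGroup (Fin 2) F))) =
      Nat.card (Q : Subgroup (SpecialLinearGroup (Fin 2) F)) ^ n := by
    rw [← Nat.card_congr ((Equiv.subtypePiEquivPi
      (p := fun (_ : Fin n) a => a ∈ (Q : Subgroup (SpecialLinearGroup (Fin 2) F)))).symm.trans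
      (Equiv.subtypeEquivRight fun f => by simp [Subgroup.mem_pi])), Nat.card_fun, Nat.card_fin]
  rw [hD, hcardS, Q.card_eq_multiplicity, ← pow_mul, ← pow_add]
  congr 1
  have hq2 : ¬ 2 ∣ q := Nat.two_dvd_ne_zero.2 (Nat.odd_iff.1 hF)
  have hne : ∀ i : ℕ, i ≠ 0 → q ^ i - 1 ≠ 0 := fun i hi => by
    have : 1 < q ^ i := Nat.one_lt_pow hi h1
    omega
  have hqf : ∀ i : ℕ, (q ^ i).factorization 2 = 0 := fun i => by
    rw [Nat.factorization_pow, Finsupp.smul_apply, Nat.factorization_eq_zero_of_not_dvd hq2,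
      smul_zero]
  have hsl : (Nat.card (SpecialLinearGroup (Fin 2) F)).factorization 2 =
      (q ^ 2 - 1).factorization 2 := by
    rw [CfsgLib.ClassicalGroups.slTwo_card, show q * (q - 1) * (q + 1) = q ^ 1 * (q ^ 2 - 1) by
      rw [show q ^ 2 - 1 = (q + 1) * (q - 1) by
        simpa using Nat.sq_sub_sq q 1]
      ring, Nat.factorization_mul (pow_ne_zero _ (by omega)) (hne 2 two_ne_zero),
      Finsupp.add_apply, hqf, zero_add]
  rw [CfsgLib.Sp.card_symplecticGroup (F := F) rfl, Nat.factorization_mul (pow_ne_zero _ (by omega))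
    (Finset.prod_ne_zero_iff.2 fun i _ => hne _ (by omega)), Finsupp.add_apply, hqf, zero_add,
    factorization_prod _ _ _ (fun i _ => hne _ (by omega)),
    Finset.sum_congr rfl fun i _ => factorization_two_pow_sub_one hF h1 i.succ_ne_zero,
    Finset.sum_add_distrib, Finset.sum_const, Finset.card_range, smul_eq_mul,
    sum_factorization_succ, hsl, mul_comm]

end Cfsg.Agent.S4624
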