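import Cfsg.Statements.S4625
import Cfsg.Agent.Lib.SylSq.Classical
import Cfsg.Agent.Lib.SylSq.Twisted
import Cfsg.Agent.Lib.ChevStr.InstanceTables

set_option autoImplicit false
open Cfsg

namespace Cfsg.Agent.S4625

/-- Let G be a finite simple group of Lie type in characteristic 2, not counting the Tits group ²F₄(2)′. Then a Sylow 2-subgroup P of G has P/P' elementary abelian: the square of every element of P lies in the derived subgroup of P. -/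
theorem result {G : Type*} [Group G] [Finite G] [IsSimpleGroup G] (hG : Cfsg.IsLieTypeChar 2 G) (P : Sylow 2 G) :
    ∀ x : (P : Subgroup G), x ^ 2 ∈ commutator (P : Subgroup G) := by
  open CfsgLib.ChevStr in
  rcases hG with h | h | h | h | h | h | h | h | ⟨-, h⟩ | ⟨-, h⟩ | ⟨h, -⟩
  · obtain ⟨F, _, _, _, n, hn, -, ⟨e⟩⟩ := h
    exact CfsgLib.SylSq.psl (by omega) e P
  · obtain ⟨F, _, _, _, m, -, -, ⟨e⟩⟩ := h
    exact CfsgLib.SylSq.psp e P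
  · obtain ⟨F, _, _, _, n, q, hF, -, -, ⟨e⟩⟩ := h
    exact CfsgLib.SylSq.psu hF e P
  · obtain ⟨F, _, _, _, m, -, hodd, -⟩ := h
    obtain ⟨k, -, hk⟩ := FiniteField.card F 2
    rw [hk] at hodd
    exact absurd hodd (Nat.not_odd_iff_even.2 (Nat.even_pow.2 ⟨even_two, k.ne_zero⟩))
  · obtain ⟨F, _, _, _, m, hm, ⟨e⟩⟩ := h
    exact CfsgLib.SylSq.pomega_plus (by omega) e P
  · obtain ⟨F, _, _, _, m, a, b, -, hab, ⟨e⟩⟩ := h
    exact CfsgLib.SylSq.pomega_minus hab e P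
  · obtain ⟨F, _, _, _, ⟨-, ⟨e⟩⟩ | ⟨⟨e⟩⟩ | ⟨⟨e⟩⟩ | ⟨⟨e⟩⟩ | ⟨⟨e⟩⟩⟩ := h
    · exact CfsgLib.SylSq.chev (coreG2 F) e P
    · exact CfsgLib.SylSq.chev (coreF4 F) e P
    · exact CfsgLib.SylSq.chev (coreE6 F) e P
    · exact CfsgLib.SylSq.chev (coreE7 F) e P
    · exact CfsgLib.SylSq.chev (coreE8 F) e P
  · obtain ⟨K, _, _, _, q, hq, ⟨hK, ⟨e⟩⟩ | ⟨hK, ⟨e⟩⟩⟩ := h
    · exact CfsgLib.SylSq.twistedE6 hq hK e P
    · exact CfsgLib.SylSq.twistedD4 hq hK e P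
  · exact CfsgLib.SylSq.suzuki h P
  · obtain ⟨K, _, _, m, hm, hK, ⟨e⟩⟩ := h
    exact CfsgLib.SylSq.twistedF4 hm hK e P
  · exact absurd h (by decide)

end Cfsg.Agent.S4625
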