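import Cfsg.Statements.S4626
import Cfsg.Agent.Lib.Blocks.CentralChar
import Cfsg.Agent.Lib.Chars17.IrrBasic

set_option autoImplicit false
open Cfsg

namespace Cfsg.Agent.S4626

/-- Let G be a finite group, p a prime, M a maximal ideal of the algebraic integers containing p, P a Sylow p-subgroup of G and N a normal subgroup of index prime to p containing the centralizer C_G(P). Then every irreducible character of G whose kernel contains N lies in the principal p-block of G. -/
theorem result {G : Type*} [Group G] [Finite G] (p : ℕ) [Fact p.Prime] (M : Ideal Cfsg.AlgInt) (hM : Cfsg.IsPModular p M) (P : Sylow p G) (N : Subgroup G) [N.Normal] (hidx : ¬ p ∣ N.index)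
    (hC : Subgroup.centralizer ((P : Subgroup G) : Set G) ≤ N) (χ : Cfsg.IrrCharacter G) (hker : ∀ n ∈ N, (χ : G → ℂ) n = (χ : G → ℂ) 1) :
    χ ∈ Cfsg.principalBlock M G := by
  have hker' : N ≤ CfsgLib.Chars17.irrKer χ := fun n hn => hker n hn
  have hdeg : ¬ p ∣ Cfsg.charDegree (χ : G → ℂ) := fun hd =>
    hidx ((hd.trans (CfsgLib.Chars17.irrDegree_dvd_index_irrKer χ)).trans
      (Subgroup.index_dvd_of_le hker'))
  intro g
  set n := (Subgroup.centralizer ({g} : Set G)).index with hn
  by_cases hd : p ∣ n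
  · have h0 : Cfsg.MemLocalIdeal M (n : ℂ) := (CfsgLib.Blocks.memLocalIdeal_natCast_iff hM n).2 hd
    have h1 : Cfsg.MemLocalIdeal M (Cfsg.centralChar (χ : G → ℂ) g) := by
      have hv : Cfsg.MemLocalRing M ((χ : G → ℂ) g * ((Cfsg.charDegree (χ : G → ℂ) : ℕ) : ℂ)⁻¹) := by
        refine (CfsgLib.Blocks.lRing hM).mul_mem ?_ (CfsgLib.Blocks.inv_natCast_mem_lRing hM hdeg)
        obtain ⟨_, m, ρ, hρ, rfl⟩ := χ
        exact CfsgLib.Blocks.isIntegral_mem_lRing hM (CfsgLib.CharScalar.isIntegral_character ρ g)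
      have := CfsgLib.Blocks.MemLocalIdeal.mul_right hM h0 hv
      rw [CfsgLib.Chars17.cast_irrDegree] at this
      simpa [Cfsg.centralChar, ← hn, div_eq_mul_inv, mul_assoc] using this
    have h2 : Cfsg.MemLocalIdeal M (Cfsg.centralChar (fun _ : G => (1 : ℂ)) g) := by
      simpa [Cfsg.centralChar, ← hn] using h0
    exact CfsgLib.Blocks.MemLocalIdeal.sub hM h2 h1
  · obtain ⟨S⟩ : Nonempty (Sylow p (Subgroup.centralizer ({g} : Set G))) := inferInstance
    have hcard : Nat.card ((S : Subgroup _).map (Subgroup.centralizer ({g} : Set G)).subtype) =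
        p ^ (Nat.card G).factorization p := by
      rw [Subgroup.card_map_of_injective (Subgroup.subtype_injective _), S.card_eq_multiplicity]
      congr 1
      conv_rhs => rw [← (Subgroup.centralizer ({g} : Set G)).card_mul_index]
      rw [Nat.factorization_mul Nat.card_pos.ne' Subgroup.index_ne_zero_of_finite, Finsupp.add_apply,
        Nat.factorization_eq_zero_of_not_dvd hd, add_zero]
    obtain ⟨t, ht⟩ := MulAction.exists_smul_eq G P (Sylow.ofCard _ hcard)
    have hmem : t⁻¹ * g * t ∈ Subgroup.centralizer ((P : Subgroup G) : Set G) := by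
      rw [Subgroup.mem_centralizer_iff]
      intro u hu
      have h1 : t * u * t⁻¹ ∈ (Sylow.ofCard _ hcard : Sylow p G).toSubgroup := by
        rw [← ht]
        exact ⟨u, hu, by simp⟩
      rw [Sylow.coe_ofCard] at h1
      have h2 := Subgroup.mem_centralizer_iff.1 (Subgroup.map_subtype_le _ h1) g rfl
      calc u * (t⁻¹ * g * t) = t⁻¹ * (t * u * t⁻¹ * g) * t := by group
        _ = t⁻¹ * (g * (t * u * t⁻¹)) * t := by rw [h2]
        _ = t⁻¹ * g * t * u := by group
    have hg : (χ : G → ℂ) g = (χ : G → ℂ) 1 := by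
      rw [← hker _ (hC hmem)]
      have := CfsgLib.Characters.irr_isClassFunction χ g t⁻¹
      simpa using this.symm
    have : Cfsg.centralChar (fun _ : G => (1 : ℂ)) g - Cfsg.centralChar (χ : G → ℂ) g = 0 := by
      simp [Cfsg.centralChar, hg, CfsgLib.Characters.irr_one_ne_zero χ]
    rw [this]
    exact CfsgLib.Blocks.memLocalIdeal_zero hM

end Cfsg.Agent.S4626
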