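import Cfsg.Statements.S4627
import Cfsg.Agent.Lib.TwoGroups.WreathGL
import Cfsg.Agent.Lib.ClassicalGroups.SL2
import Cfsg.Agent.S4623

set_option autoImplicit false
open Cfsg

namespace Cfsg.Agent.S4627

open Matrix CfsgLib.WreathAb

universe u

/-- A semidirect product of the right order is a Sylow subgroup with elementary abelian
abelianization. -/
theorem sylow_elemAb_of_homs {D K H : Type*} [Group D] [Group K] [Group H] [Finite H]
    (jD : D →* H) (jK : K →* H) (hrel : ∀ k d, ∃ d', jK k * jD d * (jK k)⁻¹ = jD d')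
    (hinj : ∀ d k, jD d * jK k = 1 → d = 1 ∧ k = 1) (hD : ElemAb D) (hK : ElemAb K)
    (hcard : Nat.card D * Nat.card K = 2 ^ (Nat.card H).factorization 2) (P : Sylow 2 H) :
    ElemAb (P : Subgroup H) := by
  let W : Subgroup H :=
    { carrier := Set.range fun x : D × K => jD x.1 * jK x.2
      one_mem' := ⟨1, by simp⟩
      mul_mem' := by
        rintro _ _ ⟨⟨d, k⟩, rfl⟩ ⟨⟨e, l⟩, rfl⟩
        obtain ⟨e', he⟩ := hrel k e
        refine ⟨(d * e', k * l), ?_⟩
        simp only [map_mul, ← he]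
        group
      inv_mem' := by
        rintro _ ⟨⟨d, k⟩, rfl⟩
        obtain ⟨e', he⟩ := hrel k⁻¹ d⁻¹
        refine ⟨(e', k⁻¹), ?_⟩
        simp only [← he, map_inv]
        group }
  have hbij : Function.Bijective fun x : D × K => (⟨jD x.1 * jK x.2, x, rfl⟩ : W) := by
    constructor
    · rintro ⟨d, k⟩ ⟨e, l⟩ h
      have h' : jD d * jK k = jD e * jK l := congrArg Subtype.val h
      obtain ⟨e1, e2⟩ := hinj (e⁻¹ * d) (k * l⁻¹) (by
        rw [map_mul, map_mul, map_inv, map_inv]
        calc (jD e)⁻¹ * jD d * (jK k * (jK l)⁻¹) = (jD e)⁻¹ * (jD d * jK k) * (jK l)⁻¹ := by group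
          _ = 1 := by rw [h']; group)
      exact Prod.ext (inv_mul_eq_one.1 e1).symm (mul_inv_eq_one.1 e2)
    · rintro ⟨_, x, rfl⟩
      exact ⟨x, rfl⟩
  have hW : Nat.card W = 2 ^ (Nat.card H).factorization 2 := by
    rw [← hcard, ← Nat.card_prod]
    exact (Nat.card_congr (Equiv.ofBijective _ hbij)).symm
  refine ElemAb.of_equiv ((Sylow.ofCard W hW).equiv P) ?_
  rw [elemAb_iff]
  intro w
  obtain ⟨⟨d, k⟩, rfl⟩ := hbij.2 w
  let aD : D →* W := jD.codRestrict W fun d => ⟨(d, 1), by simp⟩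
  let aK : K →* W := jK.codRestrict W fun k => ⟨(1, k), by simp⟩
  show Abelianization.of (aD d * aK k) ^ 2 = 1
  rw [map_mul]
  refine ((Commute.all _ _).mul_pow 2).trans ?_
  exact (congrArg₂ (· * ·) (hD.map_sq (Abelianization.of.comp aD) d)
    (hK.map_sq (Abelianization.of.comp aK) k)).trans (one_mul _)

variable {F : Type u} [Field F] [Fintype F]

/-- The product of the determinants. -/
noncomputable def detProd (m : ℕ) : (Fin m → GL (Fin 2) F) →* Fˣ where
  toFun g := ∏ i, Matrix.GeneralLinearGroup.det (g i)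
  map_one' := by simp
  map_mul' f g := by simp [Finset.prod_mul_distrib]

theorem zmod2_cases : ∀ a : ZMod 2, a = 0 ∨ a = 1 := by decide

theorem detProd_apply {m : ℕ} (g : Fin m → GL (Fin 2) F) :
    detProd m g = ∏ i, Matrix.GeneralLinearGroup.det (g i) := rfl

theorem units_sq_eq (h3 : Fintype.card F % 4 = 3) {u : Fˣ} {k : ℕ} (hu : orderOf u = 2 ^ k) :
    u = 1 ∨ u = -1 := by
  classical
  have h2 : u ^ 2 = 1 := by
    apply orderOf_dvd_iff_pow_eq_one.1
    have hd : orderOf u ∣ Fintype.card F - 1 :=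
      Fintype.card_units F ▸ orderOf_dvd_card
    rw [hu] at hd ⊢
    rcases k with _ | _ | k
    · exact one_dvd _
    · exact dvd_rfl
    · obtain ⟨c, hc⟩ := (pow_dvd_pow 2 (show 2 ≤ k + 2 by omega)).trans hd
      norm_num at hc
      omega
  rw [← Units.val_inj, ← Units.val_inj, Units.val_neg, Units.val_one]
  refine mul_self_eq_one_iff.1 ?_
  rw [← Units.val_mul, ← pow_two, h2, Units.val_one]

theorem case_three (h3 : Fintype.card F % 4 = 3) (m : ℕ) (hm : 1 ≤ m)
    (P : Sylow 2 (SpecialLinearGroup (Fin (2 * m)) F)) :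
    ElemAb (P : Subgroup (SpecialLinearGroup (Fin (2 * m)) F)) := by
  classical
  haveI : Fact (Nat.Prime 2) := ⟨Nat.prime_two⟩
  obtain ⟨m, rfl⟩ : ∃ n, m = n + 1 := ⟨m - 1, by omega⟩
  have hF : Odd (Fintype.card F) := Nat.odd_iff.2 (by omega)
  have h2 : (2 : F) ≠ 0 := CfsgLib.ClassicalGroups.SL2.two_ne_zero_of_odd hF
  have hne : (-1 : Fˣ) ≠ 1 := fun h => h2 (by
    have := congrArg (fun x : Fˣ => (x : F)) h
    simp only [Units.val_neg, Units.val_one] at this
    linear_combination -this)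
  have hord : orderOf (-1 : Fˣ) = 2 := orderOf_eq_prime (p := 2) (neg_one_sq) hne
  -- a Sylow subgroup of GL₂ containing a reflection
  let y : GL (Fin 2) F := CfsgLib.TwoGroups.ClassicalSylow.diagHom (-1, 1)
  have hy2 : y * y = 1 := by
    show CfsgLib.TwoGroups.ClassicalSylow.diagHom _ * CfsgLib.TwoGroups.ClassicalSylow.diagHom _ = 1
    rw [← map_mul, show ((-1, 1) : Fˣ × Fˣ) * (-1, 1) = 1 by simp, map_one]
  have hydet : Matrix.GeneralLinearGroup.det y = -1 := by
    refine Units.ext ?_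
    rw [Matrix.GeneralLinearGroup.val_det_apply]
    show Matrix.det (CfsgLib.TwoGroups.ClassicalSylow.diagHom (-1, 1)).val = _
    rw [CfsgLib.TwoGroups.ClassicalSylow.val_diagHom, Matrix.det_fin_two]
    simp
  obtain ⟨Q, hQy⟩ := (IsPGroup.of_card (p := 2) (n := 1) (G := Subgroup.zpowers y) (by
    rw [Nat.card_zpowers, pow_one, orderOf_eq_prime (by rw [pow_two, hy2]) fun h => hne
      (by rw [← hydet, h, map_one])])).exists_le_sylow
  have hyQ : y ∈ (Q : Subgroup _) := hQy (Subgroup.mem_zpowers y)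
  have hdetQ : ∀ a ∈ (Q : Subgroup (GL (Fin 2) F)),
      Matrix.GeneralLinearGroup.det a = 1 ∨ Matrix.GeneralLinearGroup.det a = -1 := by
    intro a ha
    obtain ⟨k, hk⟩ := IsPGroup.iff_orderOf.1 Q.2 ⟨a, ha⟩
    rw [Subgroup.orderOf_mk] at hk
    obtain ⟨l, -, hl⟩ := (Nat.dvd_prime_pow Nat.prime_two).1
      (hk ▸ orderOf_map_dvd Matrix.GeneralLinearGroup.det a)
    exact units_sq_eq h3 hl
  -- its part of determinant one
  set δ : (Q : Subgroup (GL (Fin 2) F)) →* Fˣ :=
    Matrix.GeneralLinearGroup.det.comp (Q : Subgroup (GL (Fin 2) F)).subtype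
  have hrange : Nat.card δ.range = 2 := by
    have : δ.range = Subgroup.zpowers (-1 : Fˣ) := by
      refine le_antisymm ?_ (Subgroup.zpowers_le.2 ⟨⟨y, hyQ⟩, hydet⟩)
      rintro _ ⟨a, rfl⟩
      rcases hdetQ a a.2 with h | h
      · rw [show δ a = 1 from h]; exact one_mem _
      · rw [show δ a = -1 from h]; exact Subgroup.mem_zpowers _
    rw [this, Nat.card_zpowers, hord]
  set Qs : Subgroup (SpecialLinearGroup (Fin 2) F) :=
    (Q : Subgroup (GL (Fin 2) F)).comap SpecialLinearGroup.toGL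
  have hinjGL : Function.Injective (SpecialLinearGroup.toGL (n := Fin 2) (R := F)) :=
    fun a b h => Subtype.ext (congrArg Units.val h)
  have hker : Nat.card δ.ker = Nat.card Qs := by
    let f : Qs → δ.ker := fun a => ⟨⟨SpecialLinearGroup.toGL a.1, a.2⟩,
      MonoidHom.mem_ker.2 (Units.ext (by rw [Units.val_one]; exact a.1.2))⟩
    refine (Nat.card_congr (Equiv.ofBijective f ⟨fun a b h => ?_, fun a => ?_⟩)).symm
    · exact Subtype.ext (hinjGL (congrArg (fun z : δ.ker => (z.1 : GL (Fin 2) F)) h))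
    · let z : SpecialLinearGroup (Fin 2) F :=
        ⟨(a.1.1 : GL (Fin 2) F).1, congrArg Units.val (MonoidHom.mem_ker.1 a.2)⟩
      have hz : SpecialLinearGroup.toGL z = a.1.1 := Units.ext rfl
      exact ⟨⟨z, show SpecialLinearGroup.toGL z ∈ (Q : Subgroup _) from hz ▸ a.1.2⟩,
        Subtype.ext (Subtype.ext hz)⟩
  have hslcard : (Nat.card (SpecialLinearGroup (Fin 2) F)).factorization 2 = v2 F 2 := by
    have h := factorization_card_SL (F := F) hF 1
    rw [← factorization_card_GL hF, factorization_card_GL_two h3,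
      show v2 F 1 = 1 from v2_odd h3 0] at h
    exact Nat.add_right_cancel (h.trans (add_comm 1 _))
  have hQs : Nat.card Qs = 2 ^ v2 F 2 := by
    have h := δ.ker.card_mul_index
    rw [Subgroup.index_ker, hrange, hker, Q.card_eq_multiplicity, factorization_card_GL_two h3,
      pow_add, pow_one] at h
    linarith
  have hQsAb : ElemAb Qs := by
    obtain ⟨k, hk, ⟨e⟩⟩ := CfsgLib.ClassicalGroups.SL2.sylow_two_quaternion hF
      (Sylow.ofCard Qs (by rw [hQs, hslcard]))
    haveI : NeZero (2 ^ k) := ⟨pow_ne_zero _ two_ne_zero⟩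
    exact ElemAb.of_equiv e.symm (elemAb_quaternion _ ((Nat.even_pow).2 ⟨even_two, by omega⟩))
  -- the base group
  let B : Subgroup (Fin (m + 1) → GL (Fin 2) F) :=
    Subgroup.pi Set.univ fun _ => (Q : Subgroup (GL (Fin 2) F))
  let D : Subgroup (Fin (m + 1) → GL (Fin 2) F) := B ⊓ (detProd (m + 1)).ker
  have hsingle : ∀ (i : Fin (m + 1)) (a : GL (Fin 2) F), detProd (F := F) (m + 1)
      (Pi.mulSingle i a) = Matrix.GeneralLinearGroup.det a := by
    intro i a
    rw [detProd_apply]
    rw [Finset.prod_eq_single i (fun k _ hk => by rw [Pi.mulSingle_eq_of_ne hk, map_one])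
      (by simp), Pi.mulSingle_eq_same]
  let jQ : Fin (m + 1) → Qs →* D := fun i =>
    ((MonoidHom.mulSingle (fun _ : Fin (m + 1) => GL (Fin 2) F) i).comp
      (SpecialLinearGroup.toGL.comp Qs.subtype)).codRestrict D fun a => ⟨fun k _ => by
        show (Pi.mulSingle i (SpecialLinearGroup.toGL (a : SpecialLinearGroup (Fin 2) F)) :
          Fin (m + 1) → GL (Fin 2) F) k ∈ (Q : Subgroup (GL (Fin 2) F))
        by_cases hk : k = i
        · subst hk; rw [Pi.mulSingle_eq_same]; exact a.2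
        · rw [Pi.mulSingle_eq_of_ne hk]; exact one_mem _,
      MonoidHom.mem_ker.2 ((hsingle i _).trans (Units.ext (by
        rw [Units.val_one]; exact (a : SpecialLinearGroup (Fin 2) F).2)))⟩
  -- powers of the reflection
  let rf : ZMod 2 → GL (Fin 2) F := fun e => if e = 0 then 1 else y
  have hrf : ∀ a b, rf (a + b) = rf a * rf b := by
    intro a b
    rcases zmod2_cases a with rfl | rfl <;>
      rcases zmod2_cases b with rfl | rfl <;>
      simp [rf, hy2, show ((1 : ZMod 2) + 1) = 0 from rfl]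
  let Φ : Multiplicative (Fin (m + 1) → ZMod 2) →* (Fin (m + 1) → GL (Fin 2) F) :=
    { toFun := fun e i => rf (Multiplicative.toAdd e i)
      map_one' := by funext i; simp [rf]
      map_mul' := fun a b => by funext i; exact hrf _ _ }
  have hrfQ : ∀ e, rf e ∈ (Q : Subgroup (GL (Fin 2) F)) := fun e => by
    simp only [rf]; split_ifs <;> [exact one_mem _; exact hyQ]
  have hrfdet : ∀ e : ZMod 2, Matrix.GeneralLinearGroup.det (rf e) = (-1 : Fˣ) ^ e.val := by
    intro e
    rcases zmod2_cases e with rfl | rfl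
    · simp [rf]
    · show Matrix.GeneralLinearGroup.det (rf 1) = (-1 : Fˣ) ^ (1 : ℕ)
      simp [rf, hydet]
  have hdetΦ : ∀ e, detProd (F := F) (m + 1) (Φ e) =
      (-1 : Fˣ) ^ (∑ i, Multiplicative.toAdd e i).val := by
    intro e
    rw [detProd_apply]
    show ∏ i, Matrix.GeneralLinearGroup.det (rf (Multiplicative.toAdd e i)) = _
    simp only [hrfdet, Finset.prod_pow_eq_pow_sum]
    have h : ((∑ i, (Multiplicative.toAdd e i).val : ℕ) : ZMod 2) =
        ((∑ i, Multiplicative.toAdd e i).val : ℕ) := by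
      push_cast
      simp
    rw [ZMod.natCast_eq_natCast_iff] at h
    exact pow_eq_pow_iff_modEq.2 (by rwa [hord])
  have hD : ElemAb D := by
    refine elemAb_of_sq_eq_one ((⋃ i, Set.range (jQ i)) ∪ {d | d * d = 1}) ?_ ?_
    · rw [eq_top_iff]
      rintro ⟨f, hfB, hfker⟩ -
      set V := (Subgroup.closure ((⋃ i, Set.range (jQ i)) ∪ {d : D | d * d = 1})).map D.subtype
      have hV : ∀ g : Fin (m + 1) → GL (Fin 2) F, g ∈ D → g * g = 1 → g ∈ V := fun g hg h =>
        ⟨⟨g, hg⟩, Subgroup.subset_closure (Or.inr (Subtype.ext h)), rfl⟩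
      let e : Fin (m + 1) → ZMod 2 := fun i =>
        if Matrix.GeneralLinearGroup.det (f i) = 1 then 0 else 1
      set g := Φ (Multiplicative.ofAdd e)
      have hgB : g ∈ B := fun i _ => hrfQ _
      have hdet : ∀ i, Matrix.GeneralLinearGroup.det ((f * g⁻¹) i) = 1 := by
        intro i
        show Matrix.GeneralLinearGroup.det (f i * (rf (e i))⁻¹) = 1
        rw [map_mul, map_inv, mul_inv_eq_one]
        simp only [e]
        split_ifs with h
        · simpa [rf] using h
        · rcases hdetQ _ (hfB i trivial) with h' | h'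
          · exact absurd h' h
          · simp [rf, h', hydet]
      have hq : f * g⁻¹ ∈ V := by
        refine Subgroup.pi_mem_of_mulSingle_mem _ fun i => ?_
        have hmem : (f * g⁻¹) i ∈ (Q : Subgroup (GL (Fin 2) F)) :=
          mul_mem (hfB i trivial) (inv_mem (hgB i trivial))
        let a : SpecialLinearGroup (Fin 2) F := ⟨((f * g⁻¹) i).1, congrArg Units.val (hdet i)⟩
        have ha : SpecialLinearGroup.toGL a = (f * g⁻¹) i := Units.ext rfl
        exact ⟨jQ i ⟨a, show SpecialLinearGroup.toGL a ∈ (Q : Subgroup _) from ha ▸ hmem⟩,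
          Subgroup.subset_closure (Or.inl (Set.mem_iUnion.2 ⟨i, Set.mem_range_self _⟩)),
          congrArg (Pi.mulSingle i) ha⟩
      have hgker : detProd (F := F) (m + 1) g = 1 := by
        have h1 : detProd (F := F) (m + 1) (f * g⁻¹) = 1 := by
          rw [detProd_apply]; exact Finset.prod_eq_one fun i _ => hdet i
        rwa [map_mul, map_inv, show detProd (F := F) (m + 1) f = 1 from hfker, one_mul,
          inv_eq_one] at h1
      have hg2 : g * g = 1 := funext fun i => by
        show rf _ * rf _ = 1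
        rw [← hrf, CharTwo.add_self_eq_zero]
        simp [rf]
      have hfV : f ∈ V := by simpa using mul_mem hq (hV g ⟨hgB, hgker⟩ hg2)
      obtain ⟨d, hd, hdf⟩ := hfV
      exact (Subtype.ext hdf : d = ⟨f, hfB, hfker⟩) ▸ hd
    · rintro d (hd | hd)
      · obtain ⟨i, a, rfl⟩ := Set.mem_iUnion.1 hd
        exact hQsAb.map_sq (Abelianization.of.comp (jQ i)) a
      · rw [← map_pow, pow_two, hd, map_one]
  have hBcard : Nat.card B = Nat.card D * 2 := by
    let δB : B →* Fˣ := (detProd (F := F) (m + 1)).comp B.subtype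
    have hr : δB.range = Subgroup.zpowers (-1 : Fˣ) := by
      refine le_antisymm ?_ (Subgroup.zpowers_le.2 ?_)
      · rintro _ ⟨⟨f, hf⟩, rfl⟩
        show detProd (F := F) (m + 1) f ∈ _
        rw [detProd_apply]
        refine Subgroup.prod_mem _ fun i _ => ?_
        rcases hdetQ _ (hf i trivial) with h | h <;> rw [h]
        · exact one_mem _
        · exact Subgroup.mem_zpowers _
      · refine ⟨⟨Pi.mulSingle 0 y, fun k _ => ?_⟩, (hsingle 0 y).trans hydet⟩
        by_cases hk : k = 0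
        · subst hk; rw [Pi.mulSingle_eq_same]; exact hyQ
        · rw [Pi.mulSingle_eq_of_ne hk]; exact (Q : Subgroup (GL (Fin 2) F)).one_mem
    have h := δB.ker.card_mul_index
    rw [Subgroup.index_ker, hr, Nat.card_zpowers, hord] at h
    rw [← h]
    congr 1
    exact Nat.card_congr ⟨fun a => ⟨a.1.1, a.1.2, a.2⟩, fun a => ⟨⟨a.1, a.2.1⟩, a.2.2⟩,
      fun a => rfl, fun a => rfl⟩
  -- the permutations
  obtain ⟨S, hS, -, hcardS⟩ := Cfsg.Agent.S4623.exists_gens 2 (m + 1)
  let jD : D →* SpecialLinearGroup (Fin 2 × Fin (m + 1)) F :=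
    { toFun := fun f => ⟨bdiag (f : Fin (m + 1) → GL (Fin 2) F), by
        rw [det_bdiag]
        have h := congrArg Units.val (show detProd (F := F) (m + 1) f = 1 from f.2.2)
        simpa [detProd, Units.coe_prod] using h⟩
      map_one' := Subtype.ext (map_one bdiag)
      map_mul' := fun a b => Subtype.ext (map_mul bdiag _ _) }
  let jK : Subgroup.closure S →* SpecialLinearGroup (Fin 2 × Fin (m + 1)) F :=
    { toFun := fun π => ⟨blockPerm (π : Equiv.Perm (Fin (m + 1))), det_blockPerm _⟩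
      map_one' := Subtype.ext (map_one blockPerm)
      map_mul' := fun a b => Subtype.ext (map_mul blockPerm _ _) }
  obtain ⟨R⟩ : Nonempty (Sylow 2 (SpecialLinearGroup (Fin 2 × Fin (m + 1)) F)) := inferInstance
  have hR : ElemAb (R : Subgroup (SpecialLinearGroup (Fin 2 × Fin (m + 1)) F)) := by
    refine sylow_elemAb_of_homs jD jK (fun k f => ?_) (fun f k h => ?_) hD
      (elemAb_closure S hS) ?_ R
    · obtain ⟨π, hπ⟩ := k
      refine ⟨⟨(f : Fin (m + 1) → GL (Fin 2) F) ∘ ⇑π.symm, fun i _ => f.2.1 _ trivial, ?_⟩, ?_⟩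
      · exact (Equiv.prod_comp π.symm fun i =>
          Matrix.GeneralLinearGroup.det ((f : Fin (m + 1) → GL (Fin 2) F) i)).trans f.2.2
      · rw [mul_inv_eq_iff_eq_mul]
        exact Subtype.ext (blockPerm_mul π _)
    · obtain ⟨h1, h2⟩ := bdiag_mul_blockPerm_eq_one (congrArg Subtype.val h :)
      exact ⟨Subtype.ext h1, Subtype.ext h2⟩
    · have hB' : Nat.card B = Nat.card Qs ^ (m + 1) * 2 ^ (m + 1) := by
        rw [natCard_pi, Q.card_eq_multiplicity, factorization_card_GL_two h3, hQs, ← mul_pow]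
        congr 1
        rw [pow_add, pow_one, mul_comm]
      rw [hBcard, pow_succ 2 m, ← mul_assoc] at hB'
      rw [Nat.eq_of_mul_eq_mul_right two_pos hB', hcardS, hQs, ← pow_mul, ← pow_add, ← pow_add,
        Nat.card_congr (slEquiv (F := F) (finProdFinEquiv (m := 2) (n := m + 1))).toEquiv]
      congr 1
      have h := factorization_card_SL (F := F) hF (2 * m + 1)
      rw [show 2 * m + 1 + 1 = 2 * (m + 1) by ring, sum_v2 h3,
        show v2 F 1 = 1 from v2_odd h3 0] at h
      rw [mul_comm (v2 F 2)]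
      linarith
  let φ := slEquiv (F := F) (finProdFinEquiv (m := 2) (n := m + 1))
  exact ElemAb.of_equiv ((φ.subgroupMap (R : Subgroup (SpecialLinearGroup (Fin 2 × Fin (m + 1)) F))).trans
    ((MulEquiv.subgroupCongr (Sylow.coe_mapSurjective (f := φ.toMonoidHom) φ.surjective R).symm).trans
      ((R.mapSurjective (f := φ.toMonoidHom) φ.surjective).equiv P))) hR

/-- A diagonal matrix times a permutation matrix. -/
def mono {k : Type*} [Fintype k] [DecidableEq k] (t : k → Fˣ) (π : Equiv.Perm k) : Matrix k k F :=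
  diagonal (fun i => (t i : F)) * permMat F π

theorem mono_mul {k : Type*} [Fintype k] [DecidableEq k] (t t' : k → Fˣ) (π π' : Equiv.Perm k) :
    mono t π * mono t' π' = mono (t * t' ∘ ⇑π.symm) (π * π') := by
  rw [mono, mono, mono, ← mul_assoc, mul_assoc (diagonal _) (permMat F π), permMat_mul_diagonal,
    ← mul_assoc, diagonal_mul_diagonal, mul_assoc, ← permMat_mul]
  rfl

theorem det_mono {k : Type*} [Fintype k] [DecidableEq k] (t : k → Fˣ) (π : Equiv.Perm k) :
    (mono t π).det = (∏ i, (t i : F)) * ((Equiv.Perm.sign π : ℤ) : F) := by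
  rw [mono, det_mul, det_diagonal, permMat, det_permute, det_one, mul_one, Equiv.Perm.sign_symm]

theorem mono_one {k : Type*} [Fintype k] [DecidableEq k] : mono (1 : k → Fˣ) 1 = 1 := by
  rw [mono, permMat_one, mul_one]
  simp

theorem mono_injective {k : Type*} [Fintype k] [DecidableEq k] {t t' : k → Fˣ}
    {π π' : Equiv.Perm k} (h : mono t π = mono t' π') : t = t' ∧ π = π' := by
  have h1 : mono (t'⁻¹ ∘ ⇑π') π'⁻¹ * mono t' π' = 1 := by
    rw [mono_mul, inv_mul_cancel, ← mono_one]
    congr 1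
    funext i
    show (t' (π' i))⁻¹ * t' (π'⁻¹.symm i) = 1
    rw [show π'⁻¹.symm i = π' i from rfl, inv_mul_cancel]
  rw [← h, mono_mul] at h1
  obtain ⟨e1, e2⟩ := eq_one_of_diagonal_mul_permMat (show _ = (1 : Matrix k k F) from h1)
  have hπ : π = π' := (inv_mul_eq_one.1 e2).symm
  refine ⟨funext fun i => ?_, hπ⟩
  have h2 : (((t'⁻¹ ∘ ⇑π') * t ∘ ⇑(π'⁻¹).symm) (π'.symm i) : F) = 1 := congrFun e1 (π'.symm i)
  rw [Units.val_eq_one, Pi.mul_apply] at h2
  simp only [Function.comp_apply, Pi.inv_apply, Equiv.apply_symm_apply] at h2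
  rw [show (π'⁻¹).symm (π'.symm i) = i from π'.apply_symm_apply i] at h2
  exact (inv_mul_eq_one.1 h2).symm

theorem v2_one_mod (h1 : Fintype.card F % 4 = 1) {i : ℕ} (hi : i ≠ 0) :
    v2 F i = v2 F 1 + i.factorization 2 := by
  have hF : Odd (Fintype.card F) := Nat.odd_iff.2 (by omega)
  have hone := Fintype.one_lt_card (α := F)
  have h2 : v2 F 2 = v2 F 1 + 1 := by
    rw [v2, v2, pow_one, show Fintype.card F ^ 2 - 1 = (Fintype.card F - 1) * (Fintype.card F + 1) by
      rw [mul_comm]; simpa using Nat.sq_sub_sq (Fintype.card F) 1,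
      Nat.factorization_mul (by omega) (by omega), Finsupp.add_apply]
    congr 1
    obtain ⟨c, hc⟩ : ∃ c, Fintype.card F + 1 = 2 * (2 * c + 1) := ⟨Fintype.card F / 4, by omega⟩
    rw [hc, Nat.factorization_mul two_ne_zero (by omega), Finsupp.add_apply,
      Nat.prime_two.factorization_self, Nat.factorization_eq_zero_of_not_dvd (by omega)]
  rcases Nat.even_or_odd i with ⟨j, rfl⟩ | hodd
  · rw [show j + j = 2 * j by ring, v2_two_mul hF (by omega), h2,
      Nat.factorization_mul two_ne_zero (by omega), Finsupp.add_apply,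
      Nat.prime_two.factorization_self]
    ring
  · rw [Nat.factorization_eq_zero_of_not_dvd (fun h => Nat.not_even_iff_odd.2 hodd
      (even_iff_two_dvd.2 h)), add_zero, v2, v2, pow_one]
    obtain ⟨j, rfl⟩ := hodd
    have hgeo : Fintype.card F ^ (2 * j + 1) - 1 =
        (Fintype.card F - 1) * ∑ x ∈ Finset.range (2 * j + 1), Fintype.card F ^ x := by
      have := geom_sum_mul_add (Fintype.card F - 1) (2 * j + 1)
      rw [show Fintype.card F - 1 + 1 = Fintype.card F by omega] at this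
      rw [← this, Nat.add_sub_cancel, mul_comm]
    have hsum : (∑ x ∈ Finset.range (2 * j + 1), Fintype.card F ^ x) % 2 = 1 := by
      rw [Finset.sum_nat_mod]
      simp [Nat.pow_mod, Nat.odd_iff.1 hF]
    rw [hgeo, Nat.factorization_mul (by omega) (by omega), Finsupp.add_apply,
      Nat.factorization_eq_zero_of_not_dvd (p := 2)
        (n := ∑ x ∈ Finset.range (2 * j + 1), Fintype.card F ^ x) (by omega), add_zero]

section One

variable {V : Type*} [Fintype V] [DecidableEq V]

/-- The sign of a permutation as a unit of the field. -/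
def sgnF (F : Type u) [Field F] : Equiv.Perm V →* Fˣ :=
  (Units.map (Int.castRingHom F).toMonoidHom).comp Equiv.Perm.sign

theorem det_mono' (t : V → Fˣ) (π : Equiv.Perm V) :
    (mono t π).det = (((∏ i, t i) * sgnF F π : Fˣ) : F) := by
  rw [det_mono, Units.val_mul, Units.coe_prod]
  rfl

/-- The elements of two-power order of `Fˣ`. -/
noncomputable def twoPart (F : Type u) [Field F] [Fintype F] : Subgroup Fˣ :=
  (powMonoidHom (2 ^ v2 F 1) : Fˣ →* Fˣ).ker

theorem natCard_twoPart : Nat.card (twoPart F) = 2 ^ v2 F 1 := by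
  rw [twoPart, IsCyclic.card_powMonoidHom_ker, Nat.card_units, Nat.card_eq_fintype_card]
  refine Nat.gcd_eq_right ?_
  rw [v2, pow_one]
  exact Nat.ordProj_dvd _ 2

theorem neg_one_sqrt (h1 : Fintype.card F % 4 = 1) (u : Fˣ) (hu : u = 1 ∨ u = -1) :
    ∃ c ∈ twoPart F, c * c = u ∧ u ∈ twoPart F := by
  rcases hu with rfl | rfl
  · exact ⟨1, one_mem _, one_mul 1, one_mem _⟩
  obtain ⟨w, hw⟩ := (FiniteField.isSquare_neg_one_iff (F := F)).2 (by omega)
  have hw0 : w ≠ 0 := by rintro rfl; simp at hw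
  have hc : Units.mk0 w hw0 * Units.mk0 w hw0 = -1 := Units.ext (by simpa using hw.symm)
  have ha : 2 ≤ v2 F 1 := by
    rw [v2, pow_one]
    refine (Nat.Prime.pow_dvd_iff_le_factorization Nat.prime_two ?_).1 ⟨Fintype.card F / 4, ?_⟩ <;>
    · have := Fintype.one_lt_card (α := F)
      omega
  have hmem : Units.mk0 w hw0 ∈ twoPart F := by
    refine MonoidHom.mem_ker.2 ?_
    rw [powMonoidHom_apply, show 2 ^ v2 F 1 = 2 * (2 * 2 ^ (v2 F 1 - 2)) by
      rw [← mul_assoc, show 2 * 2 = 2 ^ 2 from rfl, ← pow_add]; congr 1; omega,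
      pow_mul, pow_mul, pow_two (Units.mk0 w hw0), hc]
    simp
  exact ⟨_, hmem, hc, hc ▸ mul_mem hmem hmem⟩

/-- The monomial matrix `A` lies over the permutation `π`. -/
def Over (A : SpecialLinearGroup V F) (π : Equiv.Perm V) : Prop :=
  ∃ t : V → Fˣ, (∀ x, t x ∈ twoPart F) ∧ (A : Matrix V V F) = mono t π

theorem Over.mul {A B : SpecialLinearGroup V F} {π σ : Equiv.Perm V} (hA : Over A π)
    (hB : Over B σ) : Over (A * B) (π * σ) := by
  obtain ⟨t, ht, hA⟩ := hA
  obtain ⟨s, hs, hB⟩ := hB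
  refine ⟨t * s ∘ ⇑π.symm, fun x => mul_mem (ht x) (hs _), ?_⟩
  show (A : Matrix V V F) * (B : Matrix V V F) = _
  rw [hA, hB, mono_mul]

theorem Over.inv {A : SpecialLinearGroup V F} {π : Equiv.Perm V} (hA : Over A π) :
    Over A⁻¹ π⁻¹ := by
  obtain ⟨t, ht, hA⟩ := hA
  refine ⟨t⁻¹ ∘ ⇑π, fun x => inv_mem (ht _), left_inv_eq_right_inv (a := (A : Matrix V V F)) ?_ ?_⟩
  · exact congrArg Subtype.val (inv_mul_cancel A)
  · rw [hA, mono_mul, mul_inv_cancel, ← mono_one]
    congr 1
    funext x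
    show t x * (t (π (π.symm x)))⁻¹ = 1
    rw [Equiv.apply_symm_apply, mul_inv_cancel]

theorem over_one : Over (1 : SpecialLinearGroup V F) 1 :=
  ⟨1, fun _ => one_mem _, mono_one.symm⟩

/-- Monomial matrices over a group of permutations. -/
noncomputable def monoGroup (F : Type u) [Field F] [Fintype F] (K : Subgroup (Equiv.Perm V)) :
    Subgroup (SpecialLinearGroup V F) where
  carrier := {A | ∃ π ∈ K, Over A π}
  one_mem' := ⟨1, one_mem K, over_one⟩
  mul_mem' := by
    rintro A B ⟨π, hπ, hA⟩ ⟨σ, hσ, hB⟩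
    exact ⟨π * σ, mul_mem hπ hσ, hA.mul hB⟩
  inv_mem' := by
    rintro A ⟨π, hπ, hA⟩
    exact ⟨π⁻¹, inv_mem hπ, hA.inv⟩

variable (V) in
/-- The diagonals of determinant one. -/
noncomputable def diagGroup (F : Type u) [Field F] [Fintype F] : Subgroup (V → Fˣ) :=
  Subgroup.pi Set.univ (fun _ => twoPart F) ⊓
    (MonoidHom.mk' (fun t : V → Fˣ => ∏ i, t i) fun a b => by
      simp [Finset.prod_mul_distrib]).ker

theorem mem_diagGroup {t : V → Fˣ} :
    t ∈ diagGroup V F ↔ (∀ x, t x ∈ twoPart F) ∧ ∏ i, t i = 1 :=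
  ⟨fun h => ⟨fun x => h.1 x trivial, h.2⟩, fun h => ⟨fun x _ => h.1 x, h.2⟩⟩

theorem natCard_diagGroup (x₀ : V) :
    Nat.card (diagGroup V F) * 2 ^ v2 F 1 = (2 ^ v2 F 1) ^ Fintype.card V := by
  let δ : Subgroup.pi (Set.univ : Set V) (fun _ => twoPart F) →* Fˣ :=
    MonoidHom.mk' (fun t => ∏ i, (t : V → Fˣ) i) fun a b => by simp [Finset.prod_mul_distrib]
  have hr : δ.range = twoPart F := by
    refine le_antisymm ?_ fun u hu => ?_
    · rintro _ ⟨t, rfl⟩
      exact Subgroup.prod_mem _ fun i _ => t.2 i trivial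
    · refine ⟨⟨Pi.mulSingle x₀ u, fun x _ => ?_⟩, Finset.prod_pi_mulSingle' x₀ u Finset.univ |>.trans
        (if_pos (Finset.mem_univ _))⟩
      by_cases hx : x = x₀
      · subst hx; rw [Pi.mulSingle_eq_same]; exact hu
      · rw [Pi.mulSingle_eq_of_ne hx]; exact (twoPart F).one_mem
  have h := δ.ker.card_mul_index
  have hker : Nat.card δ.ker = Nat.card (diagGroup V F) :=
    Nat.card_congr ⟨fun a => ⟨a.1.1, a.1.2, a.2⟩, fun a => ⟨⟨a.1, a.2.1⟩, a.2.2⟩,
      fun a => rfl, fun a => rfl⟩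
  have hpi : Nat.card (Subgroup.pi (Set.univ : Set V) fun _ => twoPart F) =
      Nat.card (twoPart F) ^ Fintype.card V := by
    rw [Nat.card_congr (⟨fun f x => ⟨f.1 x, f.2 x trivial⟩, fun g => ⟨fun x => g x, fun x _ => (g x).2⟩,
      fun f => rfl, fun g => rfl⟩ :
        Subgroup.pi (Set.univ : Set V) (fun _ => twoPart F) ≃ (V → twoPart F)),
      Nat.card_fun, Nat.card_eq_fintype_card (α := V)]
  rw [Subgroup.index_ker, hr, hker, hpi, natCard_twoPart] at h
  exact h

/-- A diagonal of determinant one as an element of the monomial group. -/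
noncomputable def diagW (K : Subgroup (Equiv.Perm V)) : diagGroup V F →* monoGroup F K :=
  MonoidHom.mk' (fun t => ⟨⟨mono (t : V → Fˣ) 1, by
      rw [det_mono', map_one, mul_one, (mem_diagGroup.1 t.2).2, Units.val_one]⟩,
    1, one_mem K, (t : V → Fˣ), (mem_diagGroup.1 t.2).1, rfl⟩)
    fun a b => Subtype.ext (Subtype.ext (by
      show mono ((a : V → Fˣ) * (b : V → Fˣ)) 1 = mono (a : V → Fˣ) 1 * mono (b : V → Fˣ) 1
      rw [mono_mul, mul_one]
      rfl))

theorem exists_diagW (K : Subgroup (Equiv.Perm V)) (g : monoGroup F K)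
    (h : Over (g : SpecialLinearGroup V F) 1) : ∃ d, diagW K d = g := by
  obtain ⟨t, ht, hg⟩ := h
  have hdet := (g : SpecialLinearGroup V F).2
  rw [hg, det_mono', map_one, mul_one, Units.val_eq_one] at hdet
  exact ⟨⟨t, mem_diagGroup.2 ⟨ht, hdet⟩⟩, Subtype.ext (Subtype.ext hg.symm)⟩

theorem sgnF_eq (π : Equiv.Perm V) : sgnF F π = 1 ∨ sgnF F π = -1 := by
  show Units.map _ (Equiv.Perm.sign π) = 1 ∨ _
  rcases Int.units_eq_one_or (Equiv.Perm.sign π) with h | h <;> rw [h]
  · exact Or.inl (map_one _)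
  · exact Or.inr (Units.ext (by simp [sgnF, h]))

theorem exists_lift (h1 : Fintype.card F % 4 = 1) (a : V) (K : Subgroup (Equiv.Perm V))
    {π : Equiv.Perm V} (hπ : π ∈ K) : ∃ g : monoGroup F K,
      ((g : SpecialLinearGroup V F) : Matrix V V F) = mono (Pi.mulSingle a (sgnF F π)) π := by
  refine ⟨⟨⟨mono (Pi.mulSingle a (sgnF F π)) π, ?_⟩, π, hπ, Pi.mulSingle a (sgnF F π), fun x => ?_,
    rfl⟩, rfl⟩
  · rw [det_mono', Finset.prod_pi_mulSingle', if_pos (Finset.mem_univ _), Units.val_eq_one]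
    rcases sgnF_eq (F := F) π with h | h <;> simp [h]
  · obtain ⟨c, -, -, hc⟩ := neg_one_sqrt h1 _ (sgnF_eq (F := F) π)
    by_cases hx : x = a
    · subst hx; rw [Pi.mulSingle_eq_same]; exact hc
    · rw [Pi.mulSingle_eq_of_ne hx]; exact one_mem _

theorem natCard_monoGroup (h1 : Fintype.card F % 4 = 1) (x₀ : V) (K : Subgroup (Equiv.Perm V)) :
    Nat.card (monoGroup F K) = Nat.card (diagGroup V F) * Nat.card K := by
  choose g hg using fun π : K => exists_lift (F := F) h1 x₀ K π.2
  rw [← Nat.card_prod]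
  refine (Nat.card_congr (Equiv.ofBijective (fun x : diagGroup V F × K => diagW K x.1 * g x.2)
    ⟨?_, ?_⟩)).symm
  · rintro ⟨d, π⟩ ⟨e, σ⟩ h
    have h' : mono (d : V → Fˣ) 1 * ((g π : SpecialLinearGroup V F) : Matrix V V F) =
        mono (e : V → Fˣ) 1 * ((g σ : SpecialLinearGroup V F) : Matrix V V F) :=
      congrArg (fun z : monoGroup F K => ((z : SpecialLinearGroup V F) : Matrix V V F)) h
    rw [hg, hg, mono_mul, mono_mul, one_mul, one_mul] at h'
    obtain ⟨e1, e2⟩ := mono_injective h'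
    have hπ : π = σ := Subtype.ext e2
    subst hπ
    exact Prod.ext (Subtype.ext (mul_right_cancel e1)) rfl
  · intro z
    obtain ⟨π, hπ, hz⟩ := z.2
    obtain ⟨d, hd⟩ := exists_diagW K (z * (g ⟨π, hπ⟩)⁻¹) (by
      have hl : Over ((g ⟨π, hπ⟩ : monoGroup F K) : SpecialLinearGroup V F) π := by
        refine ⟨_, fun x => ?_, hg _⟩
        obtain ⟨c, -, -, hc⟩ := neg_one_sqrt h1 _ (sgnF_eq (F := F) π)
        by_cases hx : x = x₀
        · subst hx; rw [Pi.mulSingle_eq_same]; exact hc
        · rw [Pi.mulSingle_eq_of_ne hx]; exact one_mem _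
      have := hz.mul hl.inv
      rwa [mul_inv_cancel] at this)
    exact ⟨(d, ⟨π, hπ⟩), by show diagW K d * _ = z; rw [hd, inv_mul_cancel_right]⟩

variable [AddCommGroup V]

/-- A permutation group generated by involutions and containing the translations of an
elementary abelian group gives monomial groups with elementary abelian abelianization. -/
theorem elemAb_monoGroup (h1 : Fintype.card F % 4 = 1) (h2 : ∀ x : V, x + x = 0)
    (K : Subgroup (Equiv.Perm V)) (htr : ∀ u : V, Equiv.addLeft u ∈ K)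
    (S : Set (Equiv.Perm V)) (hS : ∀ s ∈ S, s * s = 1) (hgen : Subgroup.closure S = K) :
    ElemAb (monoGroup F K) := by
  have hsgn : ∀ π : Equiv.Perm V, sgnF F π ∈ twoPart F := fun π => by
    obtain ⟨c, -, -, hc⟩ := neg_one_sqrt h1 _ (sgnF_eq (F := F) π)
    exact hc
  let φ : diagGroup V F →* Abelianization (monoGroup F K) := Abelianization.of.comp (diagW K)
  let e : V → V → twoPart F → diagGroup V F := fun x y a =>
    ⟨Pi.mulSingle x (a : Fˣ) * (Pi.mulSingle y (a : Fˣ))⁻¹, mem_diagGroup.2 ⟨fun z => by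
      have hm : ∀ w, (Pi.mulSingle w (a : Fˣ) : V → Fˣ) z ∈ twoPart F := fun w => by
        by_cases hz : z = w
        · subst hz; rw [Pi.mulSingle_eq_same]; exact a.2
        · rw [Pi.mulSingle_eq_of_ne hz]; exact one_mem _
      exact mul_mem (hm x) (inv_mem (hm y)), by
      simp [Finset.prod_mul_distrib, Finset.prod_inv_distrib]⟩⟩
  -- invariance under translations
  have hconj : ∀ u x y a, φ (e (u + x) (u + y) a) = φ (e x y a) := by
    intro u x y a
    obtain ⟨g, hg⟩ := exists_lift (F := F) h1 x K (htr u)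
    have h : diagW K (e (u + x) (u + y) a) = g * diagW K (e x y a) * g⁻¹ := by
      rw [eq_mul_inv_iff_mul_eq]
      refine Subtype.ext (Subtype.ext ?_)
      show mono _ 1 * ((g : SpecialLinearGroup V F) : Matrix V V F) =
        ((g : SpecialLinearGroup V F) : Matrix V V F) * mono _ 1
      rw [hg, mono_mul, mono_mul, one_mul, mul_one]
      congr 1
      rw [mul_comm]
      congr 1
      funext z
      simp only [e, Function.comp_apply, Pi.mul_apply, Pi.inv_apply, Pi.mulSingle_apply]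
      simp only [show (Equiv.addLeft u).symm z = -u + z from rfl, neg_add_eq_iff_eq_add]
    show Abelianization.of _ = Abelianization.of _
    rw [h, map_mul, map_mul, map_inv, mul_inv_cancel_comm]
  have hadd : ∀ x y z a, φ (e x y a) * φ (e y z a) = φ (e x z a) := by
    intro x y z a
    rw [← map_mul]
    congr 1
    refine Subtype.ext ?_
    show _ * (_ : V → Fˣ)⁻¹ * (_ * (_)⁻¹) = _ * (_)⁻¹
    group
  have hneg : ∀ x : V, -x = x := fun x => neg_eq_of_add_eq_zero_left (h2 x)
  have hsq : ∀ x y a, φ (e x y a) ^ 2 = 1 := by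
    intro x y a
    have hflip : φ (e y x a) = φ (e x y a) := by
      have := hconj (x + y) y x a
      rwa [show x + y + y = x by rw [add_assoc, h2, add_zero],
        show x + y + x = y by rw [add_comm x y, add_assoc, h2, add_zero], eq_comm] at this
    rw [pow_two]
    nth_rw 2 [← hflip]
    rw [hadd, show e x x a = 1 from Subtype.ext (mul_inv_cancel _), map_one]
  have hdiag : ∀ d, φ d ^ 2 = 1 := by
    intro d
    obtain ⟨hd1, hd2⟩ := mem_diagGroup.1 d.2
    have hd : d = ∏ y, e y 0 ⟨(d : V → Fˣ) y, hd1 y⟩ := by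
      refine Subtype.ext ?_
      rw [Subgroup.val_finsetProd]
      show (d : V → Fˣ) = ∏ y, Pi.mulSingle y ((d : V → Fˣ) y) * (Pi.mulSingle 0 ((d : V → Fˣ) y))⁻¹
      rw [Finset.prod_mul_distrib, Finset.univ_prod_mulSingle, Finset.prod_inv_distrib,
        show ∏ y, (Pi.mulSingle (0 : V) ((d : V → Fˣ) y) : V → Fˣ) =
          Pi.mulSingle 0 (∏ y, (d : V → Fˣ) y) from
          (map_prod (MonoidHom.mulSingle (fun _ : V => Fˣ) 0) _ _).symm,
        hd2, Pi.mulSingle_one, inv_one, mul_one]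
    rw [hd, map_prod, ← Finset.prod_pow]
    exact Finset.prod_eq_one fun y _ => hsq _ _ _
  let M : Subgroup (monoGroup F K) :=
    ((powMonoidHom 2).comp (Abelianization.of (G := monoGroup F K))).ker
  let L : Subgroup (Equiv.Perm V) :=
    { carrier := {π | ∃ g ∈ M, Over (g : SpecialLinearGroup V F) π}
      one_mem' := ⟨1, one_mem M, over_one⟩
      mul_mem' := by
        rintro π σ ⟨g, hg, hgπ⟩ ⟨h, hh, hhσ⟩
        exact ⟨g * h, mul_mem hg hh, hgπ.mul hhσ⟩
      inv_mem' := by
        rintro π ⟨g, hg, hgπ⟩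
        exact ⟨g⁻¹, inv_mem hg, hgπ.inv⟩ }
  have hKL : K ≤ L := by
    rw [← hgen, Subgroup.closure_le]
    intro s hs
    obtain ⟨g, hg⟩ := exists_lift (F := F) h1 0 K (hgen ▸ Subgroup.subset_closure hs)
    obtain ⟨c, hc, hcs, -⟩ := neg_one_sqrt h1 _ (sgnF_eq (F := F) s)
    refine ⟨g, ?_, Pi.mulSingle 0 (sgnF F s), fun x => ?_, hg⟩
    · have hgg : g * g = diagW K (e 0 (s 0) ⟨c, hc⟩ * e 0 (s 0) ⟨c, hc⟩) := by
        refine Subtype.ext (Subtype.ext ?_)
        show ((g : SpecialLinearGroup V F) : Matrix V V F) *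
          ((g : SpecialLinearGroup V F) : Matrix V V F) = mono _ 1
        rw [hg, mono_mul, hS s hs]
        congr 1
        have hinv : (sgnF F s)⁻¹ = sgnF F s := by
          rcases sgnF_eq (F := F) s with h | h <;> simp [h]
        show _ = (Pi.mulSingle (0 : V) c : V → Fˣ) * (Pi.mulSingle (s 0) c : V → Fˣ)⁻¹ *
          ((Pi.mulSingle (0 : V) c : V → Fˣ) * (Pi.mulSingle (s 0) c : V → Fˣ)⁻¹)
        rw [mul_mul_mul_comm (Pi.mulSingle (0 : V) c : V → Fˣ), ← Pi.mulSingle_mul, ← mul_inv,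
          ← Pi.mulSingle_mul, hcs]
        funext z
        simp only [Function.comp_apply, Pi.mul_apply, Pi.inv_apply, Pi.mulSingle_apply,
          Equiv.symm_apply_eq, apply_ite (fun v : Fˣ => v⁻¹), inv_one, hinv]
      refine MonoidHom.mem_ker.2 ?_
      show Abelianization.of g ^ 2 = 1
      rw [pow_two, ← map_mul, hgg]
      show φ _ = 1
      rw [map_mul, ← pow_two, hsq]
    · by_cases hx : x = 0
      · subst hx; rw [Pi.mulSingle_eq_same]; exact hsgn s
      · rw [Pi.mulSingle_eq_of_ne hx]; exact one_mem _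
  rw [elemAb_iff]
  intro z
  obtain ⟨π, hπ, hz⟩ := z.2
  obtain ⟨g, hg, hgπ⟩ := hKL hπ
  obtain ⟨d, hd⟩ := exists_diagW K (z * g⁻¹) (by
    have := hz.mul hgπ.inv
    rwa [mul_inv_cancel] at this)
  have hg2 : Abelianization.of g ^ 2 = 1 := MonoidHom.mem_ker.1 hg
  rw [show z = diagW K d * g by rw [hd, inv_mul_cancel_right], map_mul, mul_pow, hg2, mul_one]
  exact hdiag d

end One

theorem case_one (h1 : Fintype.card F % 4 = 1) (j m : ℕ) (hm : m = 2 ^ j)
    (P : Sylow 2 (SpecialLinearGroup (Fin (2 * m)) F)) :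
    ElemAb (P : Subgroup (SpecialLinearGroup (Fin (2 * m)) F)) := by
  classical
  haveI : Fact (Nat.Prime 2) := ⟨Nat.prime_two⟩
  have hF : Odd (Fintype.card F) := Nat.odd_iff.2 (by omega)
  have h2 : ∀ x : Fin (j + 1) → ZMod 2, x + x = 0 := fun x =>
    funext fun i => CharTwo.add_self_eq_zero (x i)
  have hV : Fintype.card (Fin (j + 1) → ZMod 2) = 2 * m := by
    rw [Fintype.card_fun, ZMod.card, Fintype.card_fin, hm, pow_succ']
  -- a Sylow subgroup of the symmetric group containing the translations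
  let τ : Multiplicative (Fin (j + 1) → ZMod 2) →* Equiv.Perm (Fin (j + 1) → ZMod 2) :=
    MonoidHom.mk' (fun u => Equiv.addLeft (Multiplicative.toAdd u)) fun a b =>
      Equiv.ext fun x => add_assoc _ _ _
  have hτ : IsPGroup 2 τ.range := by
    rintro ⟨_, u, rfl⟩
    refine ⟨1, Subtype.ext ?_⟩
    show τ u ^ (2 ^ 1) = 1
    rw [pow_one, pow_two, ← map_mul, show u * u = 1 from
      Multiplicative.toAdd.injective (h2 (Multiplicative.toAdd u)), map_one]
  obtain ⟨K, hK⟩ := hτ.exists_le_sylow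
  obtain ⟨S₀, hS₀, -, hcard₀⟩ := Cfsg.Agent.S4623.exists_gens 2 (2 * m)
  let θ := (Fintype.equivFinOfCardEq hV).symm.permCongrHom
  have hKcard : Nat.card K = 2 ^ (2 * m).factorial.factorization 2 := by
    rw [K.card_eq_multiplicity, Nat.card_eq_fintype_card, Fintype.card_perm, hV]
  have hR : Nat.card ((Subgroup.closure S₀).map θ.toMonoidHom) =
      2 ^ (Nat.card (Equiv.Perm (Fin (j + 1) → ZMod 2))).factorization 2 := by
    rw [Nat.card_congr (Subgroup.equivMapOfInjective (Subgroup.closure S₀) θ.toMonoidHom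
        θ.injective).toEquiv.symm, hcard₀,
      Nat.card_eq_fintype_card, Fintype.card_perm, hV]
  obtain ⟨g, hg⟩ := MulAction.exists_smul_eq (Equiv.Perm (Fin (j + 1) → ZMod 2)) (Sylow.ofCard _ hR) K
  let ψ := θ.trans (MulAut.conj g)
  have hgen : Subgroup.closure (ψ '' S₀) = (K : Subgroup (Equiv.Perm (Fin (j + 1) → ZMod 2))) := by
    rw [show ⇑ψ = ⇑ψ.toMonoidHom from rfl, ← MonoidHom.map_closure, ← hg, Sylow.coe_subgroup_smul]
    show _ = Subgroup.map (MulAut.conj g).toMonoidHom ((Subgroup.closure S₀).map θ.toMonoidHom)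
    rw [Subgroup.map_map]
    rfl
  have hS : ∀ s ∈ ψ '' S₀, s * s = 1 := by
    rintro _ ⟨s, hs, rfl⟩
    rw [← map_mul, ← pow_two, hS₀ s hs, map_one]
  have hW : ElemAb (monoGroup F (K : Subgroup (Equiv.Perm (Fin (j + 1) → ZMod 2)))) :=
    elemAb_monoGroup h1 h2 _ (fun u => hK ⟨Multiplicative.ofAdd u, rfl⟩) _ hS hgen
  -- it is a Sylow subgroup
  have hWcard : Nat.card (monoGroup F (K : Subgroup (Equiv.Perm (Fin (j + 1) → ZMod 2)))) =
      2 ^ (Nat.card (SpecialLinearGroup (Fin (j + 1) → ZMod 2) F)).factorization 2 := by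
    rw [natCard_monoGroup h1 0, hKcard,
      Nat.card_congr (slEquiv (F := F) (Fintype.equivFinOfCardEq hV)).toEquiv]
    have hD := natCard_diagGroup (V := Fin (j + 1) → ZMod 2) (F := F) 0
    rw [hV, ← pow_mul] at hD
    have hpos : 0 < m := hm ▸ Nat.two_pow_pos j
    obtain ⟨n, hn⟩ : ∃ n, 2 * m = n + 1 := ⟨2 * m - 1, by omega⟩
    have h := factorization_card_SL (F := F) hF n
    rw [Finset.sum_congr rfl fun i _ => v2_one_mod h1 (Nat.succ_ne_zero i),
      Finset.sum_add_distrib, Finset.sum_const, Finset.card_range, smul_eq_mul,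
      sum_factorization_succ, ← hn] at h
    refine Nat.eq_of_mul_eq_mul_right (Nat.two_pow_pos (v2 F 1)) ?_
    rw [mul_right_comm, hD, ← pow_add, ← pow_add, h, mul_comm (2 * m)]
  let φ := slEquiv (F := F) (Fintype.equivFinOfCardEq hV)
  let R := Sylow.ofCard _ hWcard
  exact ElemAb.of_equiv ((φ.subgroupMap (R : Subgroup (SpecialLinearGroup (Fin (j + 1) → ZMod 2) F))).trans
    ((MulEquiv.subgroupCongr (Sylow.coe_mapSurjective (f := φ.toMonoidHom) φ.surjective R).symm).trans
      ((R.mapSurjective (f := φ.toMonoidHom) φ.surjective).equiv P))) hW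

/-- Let F be a finite field of odd order q and m ≥ 1. If 4 divides q + 1, or if 4 divides q − 1 and m is a power of 2, then a Sylow 2-subgroup P of SL_{2m}(F) has P/P' elementary abelian: the square of every element of P lies in the derived subgroup of P. -/
theorem result {F : Type*} [Field F] [Fintype F] (hF : Odd (Fintype.card F)) (m : ℕ) (hm : 1 ≤ m)
    (hq : 4 ∣ Fintype.card F + 1 ∨ (4 ∣ Fintype.card F - 1 ∧ ∃ j : ℕ, m = 2 ^ j)) (P : Sylow 2 (Matrix.SpecialLinearGroup (Fin (2 * m)) F)) :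
    ∀ x : (P : Subgroup (Matrix.SpecialLinearGroup (Fin (2 * m)) F)), x ^ 2 ∈ commutator (P : Subgroup (Matrix.SpecialLinearGroup (Fin (2 * m)) F)) := by
  have h1 := Nat.odd_iff.1 hF
  rcases hq with hq | ⟨hq, j, hj⟩
  · exact case_three (by omega) m hm P
  · exact case_one (by have := Fintype.one_lt_card (α := F); omega) j m hj P

end Cfsg.Agent.S4627
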