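import Cfsg.Statements.S4628
import Cfsg.Agent.Lib.TwoGroups.WreathGL
import Cfsg.Agent.S4623

set_option autoImplicit false
open Cfsg

namespace Cfsg.Agent.S4628

open Matrix CfsgLib.WreathAb

variable {F : Type*} [Field F] {m : ℕ}

/-- The embedding of the base group. -/
def baseHom : (Fin m → GL (Fin 2) F) →* SpecialLinearGroup ((Fin 2 × Fin m) ⊕ Unit) F where
  toFun g := ⟨fromBlocks (bdiag g) 0 0 (diagonal fun _ => (bdiag g).det⁻¹), by
    rw [det_fromBlocks_zero₂₁, det_diagonal, Fintype.prod_unique, mul_inv_cancel₀]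
    rw [det_bdiag]
    exact Finset.prod_ne_zero_iff.2 fun i _ => ((Matrix.isUnit_iff_isUnit_det _).1 (g i).isUnit).ne_zero⟩
  map_one' := Subtype.ext (by
    show fromBlocks _ 0 0 _ = 1
    rw [map_one, det_one, inv_one, diagonal_one, fromBlocks_one])
  map_mul' f g := Subtype.ext (by
    show fromBlocks _ 0 0 _ = fromBlocks _ 0 0 _ * fromBlocks _ 0 0 _
    rw [fromBlocks_multiply]
    simp only [map_mul, det_mul, Matrix.mul_zero, Matrix.zero_mul, mul_zero, zero_add, add_zero, zero_mul, diagonal_mul_diagonal,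
      mul_inv])

/-- The embedding of the permutations. -/
def topHom : Equiv.Perm (Fin m) →* SpecialLinearGroup ((Fin 2 × Fin m) ⊕ Unit) F where
  toFun π := ⟨fromBlocks (blockPerm π) 0 0 1, by
    rw [det_fromBlocks_zero₂₁, det_blockPerm, det_one, one_mul]⟩
  map_one' := Subtype.ext (by
    show fromBlocks _ 0 0 _ = 1
    rw [map_one, fromBlocks_one])
  map_mul' f g := Subtype.ext (by
    show fromBlocks _ 0 0 _ = fromBlocks _ 0 0 _ * fromBlocks _ 0 0 _
    rw [fromBlocks_multiply]
    simp)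

theorem rel (π : Equiv.Perm (Fin m)) (g : Fin m → GL (Fin 2) F) :
    topHom π * baseHom g * (topHom (F := F) π)⁻¹ = baseHom (g ∘ ⇑π.symm) := by
  rw [mul_inv_eq_iff_eq_mul]
  refine Subtype.ext ?_
  show fromBlocks _ 0 0 _ * fromBlocks _ 0 0 _ = fromBlocks _ 0 0 _ * fromBlocks _ 0 0 _
  rw [fromBlocks_multiply, fromBlocks_multiply]
  have hd : (bdiag (g ∘ ⇑π.symm)).det = (bdiag g).det := by
    rw [det_bdiag, det_bdiag]
    exact Equiv.prod_comp π.symm fun i => (g i : Matrix (Fin 2) (Fin 2) F).det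
  simp only [Matrix.mul_zero, Matrix.zero_mul, zero_mul, add_zero, zero_add, mul_zero, one_mul, mul_one, blockPerm_mul, hd]

theorem inj (g : Fin m → GL (Fin 2) F) (π : Equiv.Perm (Fin m))
    (h : baseHom g * topHom π = 1) : g = 1 ∧ π = 1 := by
  have h' : fromBlocks (bdiag g) 0 0 (diagonal fun _ : Unit => (bdiag g).det⁻¹) *
      fromBlocks (blockPerm π) 0 0 1 = fromBlocks 1 0 0 1 := by
    rw [fromBlocks_one]; exact congrArg Subtype.val h
  rw [fromBlocks_multiply] at h'
  simp only [Matrix.mul_zero, add_zero] at h'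
  exact bdiag_mul_blockPerm_eq_one (fromBlocks_inj.1 h').1

/-- Let F be a finite field of odd order q with 4 dividing q + 1, and m ≥ 1. Then a Sylow 2-subgroup P of SL_{2m+1}(F) has P/P' elementary abelian: the square of every element of P lies in the derived subgroup of P. -/
theorem result {F : Type*} [Field F] [Fintype F] (hF : Odd (Fintype.card F)) (hq : 4 ∣ Fintype.card F + 1) (m : ℕ) (hm : 1 ≤ m) (P : Sylow 2 (Matrix.SpecialLinearGroup (Fin (2 * m + 1)) F)) :
    ∀ x : (P : Subgroup (Matrix.SpecialLinearGroup (Fin (2 * m + 1)) F)), x ^ 2 ∈ commutator (P : Subgroup (Matrix.SpecialLinearGroup (Fin (2 * m + 1)) F)) := by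
  classical
  have h3 : Fintype.card F % 4 = 3 := by omega
  obtain ⟨Q⟩ : Nonempty (Sylow 2 (GL (Fin 2) F)) := inferInstance
  obtain ⟨S, hS, -, hcardS⟩ := Cfsg.Agent.S4623.exists_gens 2 m
  let e : (Fin 2 × Fin m) ⊕ Unit ≃ Fin (2 * m + 1) :=
    Fintype.equivFinOfCardEq (by simp)
  obtain ⟨R⟩ : Nonempty (Sylow 2 (SpecialLinearGroup ((Fin 2 × Fin m) ⊕ Unit) F)) := inferInstance
  have hR : ElemAb (R : Subgroup (SpecialLinearGroup ((Fin 2 × Fin m) ⊕ Unit) F)) := by
    refine sylow_elemAb baseHom topHom rel inj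
      (D := Subgroup.pi Set.univ fun _ => (Q : Subgroup _)) (elemAb_pi (elemAb_sylow_GL_two h3 Q))
      (K := Subgroup.closure S) (elemAb_closure S hS) (fun π _ f hf i _ => hf (π.symm i) trivial)
      ?_ R
    rw [natCard_pi, hcardS, Q.card_eq_multiplicity, ← pow_mul, ← pow_add,
      Nat.card_congr (slEquiv (F := F) e).toEquiv]
    congr 1
    have h := factorization_card_SL (F := F) hF (2 * m)
    rw [Finset.sum_range_succ, sum_v2 h3, v2_odd h3, show v2 F 1 = 1 from v2_odd h3 0] at h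
    rw [factorization_card_GL_two h3, mul_comm]
    omega
  let φ := (slEquiv (F := F) e)
  let R' : Sylow 2 (SpecialLinearGroup (Fin (2 * m + 1)) F) :=
    R.mapSurjective (f := φ.toMonoidHom) φ.surjective
  have hR' : (R' : Subgroup (SpecialLinearGroup (Fin (2 * m + 1)) F)) =
      (R : Subgroup (SpecialLinearGroup ((Fin 2 × Fin m) ⊕ Unit) F)).map φ.toMonoidHom :=
    Sylow.coe_mapSurjective _ R
  have e2 := (φ.subgroupMap (R : Subgroup (SpecialLinearGroup ((Fin 2 × Fin m) ⊕ Unit) F))).trans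
    (MulEquiv.subgroupCongr hR'.symm)
  exact ElemAb.of_equiv (e2.trans (R'.equiv P)) hR

end Cfsg.Agent.S4628
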