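import Cfsg.Statements.S4634
import Cfsg.Agent.Lib.CyclicIso.Perfect

set_option autoImplicit false
open Cfsg CfsgLib.BrauerPairs CfsgLib.CyclicBlock

namespace Cfsg.Agent.S4634

/-- Let B be a block of the finite group G relative to a maximal ideal M of the algebraic integers containing the prime p, with a nontrivial cyclic defect group P, let c be a block of C_G(P) inducing B, T the stabilizer of c in N_G(P) and e the index of C_G(P) in T. Let F be any finite group of order #P · e having a cyclic subgroup Q of order #P that is its own centralizer (F is then the semidirect product of Q by a cyclic group of order e acting faithfully). Then there is a perfect isometry from the set of all irreducible characters of F onto B whose signs agree on all the characters of F that do not contain Q in their kernel. -/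
theorem result {G : Type*} [Group G] [Finite G] (p : ℕ) [Fact p.Prime] (M : Ideal Cfsg.AlgInt) (hM : Cfsg.IsPModular p M) (B : Set (Cfsg.IrrCharacter G)) (hB : Cfsg.IsPBlock M B) (P : Subgroup G) (hPD : Cfsg.IsDefectGroup p M B P) (hP1 : P ≠ ⊥) (hcyc : IsCyclic P) (c : Set (Cfsg.IrrCharacter (Subgroup.centralizer (P : Set G)))) (hc : Cfsg.IsInducedBlock M (Subgroup.centralizer (P : Set G)) c B) (T : Subgroup G) (hT : ∀ g : G, g ∈ T ↔ (g ∈ Subgroup.normalizer (P : Set G) ∧ Cfsg.StabilizesBlock (Subgroup.centralizer (P : Set G)) c g)) (e : ℕ) (he : (Subgroup.centralizer (P : Set G)).relIndex T = e) (F : Type*) [Group F] [Finite F] (hF : Nat.card F = Nat.card P * e) (Q : Subgroup F) (hQ : IsCyclic Q) (hQcard : Nat.card Q = Nat.card P) (hQC : Subgroup.centralizer (Q : Set F) = Q) : ∃ (I : Cfsg.IrrCharacter F → Cfsg.IrrCharacter G) (ε : Cfsg.IrrCharacter F → ℤ), Cfsg.IsPerfectIsometry p M (Set.univ : Set (Cfsg.IrrCharacter F)) B I ε ∧ ∀ η η' : Cfsg.IrrCharacter F, (∃ x ∈ Q, (η : F → ℂ) x ≠ (η : F → ℂ) 1) → (∃ x ∈ Q, (η' : F →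 ℂ) x ≠ (η' : F → ℂ) 1) → ε η = ε η' := by
  classical
  letI : Fintype G := Fintype.ofFinite G
  letI : Fintype F := Fintype.ofFinite F
  haveI : M.IsMaximal := hM.2.1
  letI : ∀ H : Subgroup G, Fintype H := fun H => Fintype.ofFinite H
  have := charP_res hM
  obtain ⟨a, ha⟩ := IsPGroup.iff_card.1 ((isDefectGroup_iff hM hB P).1 hPD).pgroup
  have ha1 : 1 ≤ a := by
    rcases Nat.eq_zero_or_pos a with h0 | h0
    · exact absurd (Subgroup.eq_bot_of_card_eq P (by rw [ha, h0, pow_zero])) hP1
    · exact h0
  obtain ⟨L, hLD, hLi⟩ := exists_data_of_induced hM hB hcyc ha1 ha hPD hc (T := T) fun g =>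
    (hT g).trans (and_congr_right fun hg =>
      (forall_conj_mem_iff (normalizer_le_normalizer_cz P hg) c).symm)
  have hle : L.inertia = e := by rw [L.inertia_eq, ← hLi, he]
  have hQD : Nat.card Q = Nat.card L.D := by rw [hLD]; exact hQcard
  have hindex : Q.index = L.inertia := by
    refine Nat.eq_of_mul_eq_mul_left (Nat.card_pos (α := Q)) ?_
    rw [Q.card_mul_index, hle, hF, hQcard]
  have hfrob : CfsgLib.CyclicIso.Frob p Q L.inertia :=
    ⟨hQ, IsPGroup.of_card (hQcard.trans ha), hQC, hindex, L.inertia_dvd⟩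
  exact CfsgLib.CyclicIso.exists_perfect L hfrob hQD

end Cfsg.Agent.S4634
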