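import Cfsg.Statements.S4635
import Cfsg.Agent.Lib.CyclicIso.Compose

set_option autoImplicit false
open Cfsg CfsgLib CfsgLib.BrauerPairs CfsgLib.CyclicBlock

namespace Cfsg.Agent.S4635

/-- Let B be a block of the finite group G relative to a maximal ideal M of the algebraic integers containing the prime p, with a nontrivial cyclic defect group P; let Z be the subgroup of order p of P and H = N_G(Z), which contains N_G(P). Let c be the block of H with defect group P that induces B. Then B and c contain the same number of irreducible characters, have the same p-regular rank, and there is a perfect isometry from c onto B. -/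
theorem result {G : Type*} [Group G] [Finite G] (p : ℕ) [Fact p.Prime] (M : Ideal Cfsg.AlgInt) (hM : Cfsg.IsPModular p M) (B : Set (Cfsg.IrrCharacter G)) (hB : Cfsg.IsPBlock M B) (P : Subgroup G) (hPD : Cfsg.IsDefectGroup p M B P) (hP1 : P ≠ ⊥) (hcyc : IsCyclic P) (Z : Subgroup G) (hZ : Z ≤ P) (hZcard : Nat.card Z = p) (H : Subgroup G) (hH : H = Subgroup.normalizer (Z : Set G)) (c : Set (Cfsg.IrrCharacter H)) (hcD : Cfsg.IsDefectGroup p M c (P.subgroupOf H)) (hc : Cfsg.IsInducedBlock M H c B) : Nat.card c = Nat.card B ∧ Cfsg.blockRank p c = Cfsg.blockRank p B ∧ ∃ (I : Cfsg.IrrCharacter H → Cfsg.IrrCharacter G) (ε : Cfsg.IrrCharacter H → ℤ), Cfsg.IsPerfectIsometry p M c B I ε := by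
  classical
  letI : Fintype G := Fintype.ofFinite G
  letI : ∀ K : Subgroup G, Fintype K := fun K => Fintype.ofFinite K
  letI : ∀ K : Subgroup H, Fintype K := fun K => Fintype.ofFinite K
  haveI : M.IsMaximal := hM.2.1
  have := charP_res hM
  have hPp : IsPGroup p P := ((isDefectGroup_iff hM hB P).1 hPD).pgroup
  obtain ⟨a, ha⟩ := IsPGroup.iff_card.1 hPp
  have ha1 : 1 ≤ a := by
    rcases Nat.eq_zero_or_pos a with h0 | h0
    · exact absurd (Subgroup.eq_bot_of_card_eq P (by rw [ha, h0, pow_zero])) hP1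
    · exact h0
  have hab : ∀ x ∈ P, ∀ y ∈ P, x * y = y * x := fun x hx y hy =>
    congrArg Subtype.val ((IsMulCommutative.is_comm (M := P)).comm ⟨x, hx⟩ ⟨y, hy⟩)
  -- the normaliser of `P` is in `H`
  have hNH : ∀ g ∈ Subgroup.normalizer (P : Set G), g ∈ H := by
    intro g hg
    rw [hH]
    refine Fusion.mem_normalizer_of_forall fun z hz => ?_
    exact Subgroup.zpowers_le.2 hz (CyclicDefectBound.mem_zpowers_of_orderOf_eq hcyc (hZ hz)
      ((Subgroup.mem_normalizer_iff.1 hg z).1 (hZ hz)) ((MulAut.conj g).orderOf_eq z))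
  have hPH : P ≤ H := fun x hx => hNH x (Subgroup.le_normalizer hx)
  have hle : cz P ≤ H := fun x hx => hNH x (cz_le_normalizer P hx)
  set P' := P.subgroupOf H with hP'
  have hiso : P' ≃* P := Subgroup.subgroupOfEquivOfLe hPH
  have hcyc' : IsCyclic P' := isCyclic_of_surjective hiso.symm.toMonoidHom hiso.symm.surjective
  have hP'card : Nat.card P' = p ^ a := (Nat.card_congr hiso.toEquiv).trans ha
  have hPp' : IsPGroup p P' := IsPGroup.of_card hP'card
  -- the pair inside `H`
  have hcb := hc.1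
  have hEc := isBlockIdem_eG hM hcb
  have hcDd := (isDefectGroup_iff hM hcb P').1 hcD
  obtain ⟨eN, heN, heNc⟩ := exists_block_le (hasBlocks hM) (brMap_mem_suppAlg P' (eG hM c))
    (brMap_mem_fixAlg_cz (fixAlg_anti le_top hEc.fixed))
    (by rw [← brMap_mul hPp' (fixAlg_anti le_top hEc.fixed) (fixAlg_anti le_top hEc.fixed),
      hEc.idem])
    hcDd.br_ne
  obtain ⟨cN, hcN, rfl⟩ := exists_eA_eq hM heN
  have hPc' : P' ≤ cz P' := fun x hx => mem_cz.2 fun w hw => Subtype.ext
    (hab _ (Subgroup.mem_subgroupOf.1 hw) _ (Subgroup.mem_subgroupOf.1 hx))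
  have hindN : IsInducedBlock M (cz P') cN c :=
    CyclicDefectBound.induced_of_cover hM hPp' hPc' rfl hcb hcN heNc
  -- the pair in `G`
  have hK := fun x => mem_cz_subgroupOf (H := H) hPH x
  set c0 := CharCorr.twistIrr (inEquiv hle hK).symm '' cN with hc0
  have hc0N : CharCorr.twistIrr (inEquiv hle hK) '' c0 = cN := by
    rw [hc0, Set.image_image]
    refine (Set.image_congr fun ξ _ => ?_).trans (Set.image_id cN)
    exact Subtype.ext (funext fun x => by simp only [CharCorr.twistIrr_apply]; simp)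
  have hc0b : IsPBlock M c0 := isPBlock_twist _ hcN
  have hindG : IsInducedBlock M (cz P) c0 B :=
    (LocalCount.isInducedBlock_trans_iff hM hle hK hc0b (hc0N ▸ hindN)).2 hc
  -- the inertial groups
  let T : Subgroup G := pairStab P (eA hM (cz P) c0)
  have hT : ∀ g : G, g ∈ T ↔ (g ∈ Subgroup.normalizer (P : Set G) ∧
      StabilizesBlock (cz P) c0 g) := fun g =>
    ⟨fun hg => ⟨hg.1,
      (stabilizesBlock_iff_conjA hM (normalizer_le_normalizer_cz P hg.1) hc0b).2 hg.2⟩,
     fun hg => ⟨hg.1,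
      (stabilizesBlock_iff_conjA hM (normalizer_le_normalizer_cz P hg.1) hc0b).1 hg.2⟩⟩
  have hT' : ∀ x : H, x ∈ T.subgroupOf H ↔
      (x ∈ Subgroup.normalizer (P' : Set H) ∧ StabilizesBlock (cz P') cN x) := by
    intro x
    have hxn : x ∈ Subgroup.normalizer (P' : Set H) ↔
        (x : G) ∈ Subgroup.normalizer (P : Set G) := by
      rw [Subgroup.mem_normalizer_iff, Subgroup.mem_normalizer_iff]
      refine ⟨fun h y => ⟨fun hy => (h ⟨y, hPH hy⟩).1 hy, fun hy => ?_⟩, fun h y => h (y : G)⟩
      have hyH : y ∈ H := by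
        simpa [mul_assoc] using H.mul_mem (H.mul_mem (H.inv_mem x.2) (hPH hy)) x.2
      exact (h ⟨y, hyH⟩).2 hy
    rw [Subgroup.mem_subgroupOf, hT, hxn]
    refine and_congr_right fun hg => ?_
    rw [stabilizesBlock_iff_conjA hM (normalizer_le_normalizer_cz P hg) hc0b,
      stabilizesBlock_iff_conjA hM (normalizer_le_normalizer_cz P' (hxn.2 hg)) hcN,
      ← inclA_eA hM hle hK c0, hc0N, ← inclA_conjA, (inclA_injective _).eq_iff]
  have hrel : (cz P').relIndex (T.subgroupOf H) = (cz P).relIndex T := by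
    rw [show cz P' = (cz P).subgroupOf H from Subgroup.ext hK,
      Subgroup.relIndex_subgroupOf (fun g hg => hNH g ((hT g).1 hg).1)]
  obtain ⟨L, hLD, hLi⟩ := exists_data_of_induced hM hB hcyc ha1 ha hPD hindG (T := T) fun g =>
    (hT g).trans (and_congr_right fun hg =>
      (forall_conj_mem_iff (normalizer_le_normalizer_cz P hg) c0).symm)
  obtain ⟨L', hLD', hLi'⟩ := exists_data_of_induced hM hcb hcyc' ha1 hP'card hcD hindN
    (T := T.subgroupOf H) fun g => (hT' g).trans (and_congr_right fun hg =>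
      (forall_conj_mem_iff (normalizer_le_normalizer_cz P' hg) cN).symm)
  have hinertia : L'.inertia = L.inertia := by
    rw [L'.inertia_eq, L.inertia_eq, ← hLi, ← hLi']
    exact hrel
  -- the Frobenius group
  haveI := L.hcyc
  obtain ⟨hfrob, hQ⟩ := CyclicIso.exists_frob L.pgroup _ (CyclicIso.card_range_T L) L.inertia_dvd
  set R := (L.D.normalizerMonoidHom.comp (Subgroup.inclusion
    (fun _ hg => hg.1 : L.T ≤ Subgroup.normalizer (L.D : Set G)))).range
  haveI : Finite (L.D ⋊[R.subtype] R) := Finite.of_equiv _ SemidirectProduct.equivProd.symm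
  letI := Fintype.ofFinite (L.D ⋊[R.subtype] R)
  obtain ⟨I₁, ε₁, h₁, -⟩ := CyclicIso.exists_perfect L hfrob hQ
  obtain ⟨I₂, ε₂, h₂, -⟩ := CyclicIso.exists_perfect L' (hinertia.symm ▸ hfrob) (hQ.trans (by
    rw [hLD, hLD']; exact (Nat.card_congr hiso.toEquiv).symm))
  refine ⟨?_, by rw [L'.blockRank_eq, L.blockRank_eq, hinertia],
    CyclicIso.isPerfectIsometry_comp hM h₁ h₂⟩
  exact (Nat.card_congr h₂.1.equiv).symm.trans (Nat.card_congr h₁.1.equiv)

end Cfsg.Agent.S4635
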