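import Cfsg.Statements.S4636


set_option autoImplicit false
open scoped Pointwise
open Cfsg

namespace Cfsg.Agent.S4636

/-- Let P be a nontrivial cyclic p-subgroup of the finite group G and Z its subgroup of order p. For every x outside N_G(Z), P meets its conjugate xPx⁻¹ trivially; consequently N_G(Q) ≤ N_G(Z) for every nontrivial subgroup Q of P. -/
theorem result {G : Type*} [Group G] [Finite G] (p : ℕ) [Fact p.Prime] (P : Subgroup G) (hP : IsPGroup p P) (hP1 : P ≠ ⊥) (hcyc : IsCyclic P) (Z : Subgroup G) (hZ : Z ≤ P) (hZcard : Nat.card Z = p) : (∀ x : G, x ∉ Subgroup.normalizer (Z : Set G) → P ⊓ MulAut.conj x • P = ⊥) ∧ ∀ Q : Subgroup G, Q ≤ P → Q ≠ ⊥ → Subgroup.normalizer (Q : Set G) ≤ Subgroup.normalizer (Z : Set G) := by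
  have := hcyc
  have hzc : ∀ K : Subgroup G, K ≤ P → K ≠ ⊥ → Z ≤ K := by
    intro K hK hK1
    obtain ⟨n, hn⟩ := IsPGroup.iff_card.1 (hP.to_le hK)
    have hpK : p ∣ Nat.card K := by
      rcases n with _ | n
      · exact absurd (Subgroup.card_eq_one.1 (by simpa using hn)) hK1
      · rw [hn, pow_succ]; exact dvd_mul_left p _
    obtain ⟨x, hx⟩ := exists_prime_orderOf_dvd_card' p hpK
    set X := Subgroup.zpowers (x : G) with hX
    have hxP : (x : G) ∈ P := hK x.2
    have hXP : X ≤ P := Subgroup.zpowers_le.2 hxP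
    have hXc : Nat.card X = p := by rw [Nat.card_zpowers, Subgroup.orderOf_coe, hx]
    have heq : X = Z := by
      have h2 : X.subgroupOf P = Z.subgroupOf P := by
        classical
        letI := Fintype.ofFinite P
        have key : ∀ L : Subgroup P, Nat.card L = p →
            (L : Set P).toFinset = Finset.univ.filter (fun b => b ^ p = 1) := by
          intro L hL
          refine Finset.eq_of_subset_of_card_le (fun b hb => ?_) ?_
          · simp only [Set.mem_toFinset] at hb
            refine Finset.mem_filter.2 ⟨Finset.mem_univ _, ?_⟩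
            have := pow_card_eq_one' (x := (⟨b, hb⟩ : L))
            rw [hL] at this
            exact congrArg Subtype.val this
          · refine le_trans (IsCyclic.card_pow_eq_one_le (α := P) (Fact.out : p.Prime).pos) ?_
            rw [Set.toFinset_card, ← Nat.card_eq_fintype_card]
            exact hL.ge
        refine SetLike.coe_injective (Set.toFinset_inj.1 ?_)
        rw [key _ (by rw [Nat.card_congr (Subgroup.subgroupOfEquivOfLe hXP).toEquiv, hXc]),
          key _ (by rw [Nat.card_congr (Subgroup.subgroupOfEquivOfLe hZ).toEquiv, hZcard])]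
      have h3 := congrArg (Subgroup.map P.subtype) h2
      rwa [Subgroup.map_subgroupOf_eq_of_le hXP, Subgroup.map_subgroupOf_eq_of_le hZ] at h3
    rw [← heq]
    exact Subgroup.zpowers_le.2 x.2
  have hnorm : ∀ x : G, MulAut.conj x • Z ≤ Z → x ∈ Subgroup.normalizer (Z : Set G) := by
    intro x hle
    have heq : MulAut.conj x • Z = Z := Subgroup.eq_of_le_of_card_ge hle
      (le_of_eq (Nat.card_congr (Subgroup.equivSMul (MulAut.conj x) Z).toEquiv))
    rw [Subgroup.mem_normalizer_iff]
    intro z
    conv_rhs => rw [← heq]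
    rw [Subgroup.mem_pointwise_smul_iff_inv_smul_mem]
    simp [mul_assoc]
  have hcardsmul : ∀ x : G, Nat.card (MulAut.conj x • Z : Subgroup G) = p := fun x =>
    ((Nat.card_congr (Subgroup.equivSMul (MulAut.conj x) Z).toEquiv).symm).trans hZcard
  have hZ1 : Z ≠ ⊥ := fun h => by
    rw [h, Subgroup.card_bot] at hZcard
    exact (Fact.out : p.Prime).ne_one hZcard.symm
  have hsub : ∀ x : G, MulAut.conj x • Z ≤ P → x ∈ Subgroup.normalizer (Z : Set G) := by
    intro x hle
    have h1 : Z ≤ MulAut.conj x • Z := hzc _ hle (by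
      intro h; have := hcardsmul x; rw [h, Subgroup.card_bot] at this
      exact (Fact.out : p.Prime).ne_one this.symm)
    exact hnorm x (le_of_eq (Subgroup.eq_of_le_of_card_ge h1 (by rw [hcardsmul x, hZcard])).symm)
  refine ⟨fun x hx => ?_, fun Q hQ hQ1 g hg => hsub g ?_⟩
  · by_contra hne
    apply hx
    have h1 := hzc _ inf_le_left hne
    -- `Z` lies in the conjugate, so its preimage is a subgroup of order `p` of `P`
    have h2 : MulAut.conj x⁻¹ • Z ≤ P := by
      intro z hz
      obtain ⟨w, hw, rfl⟩ := hz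
      have h3 : w ∈ MulAut.conj x • P := (h1 hw).2
      rw [Subgroup.mem_pointwise_smul_iff_inv_smul_mem] at h3
      simpa using h3
    simpa using inv_mem (hsub x⁻¹ h2)
  · refine le_trans ?_ hQ
    rintro _ ⟨z, hz, rfl⟩
    exact (Subgroup.mem_normalizer_iff.1 hg z).1 (hzc Q hQ hQ1 hz)

end Cfsg.Agent.S4636
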