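import Cfsg.Statements.S4638
import Cfsg.Agent.Lib.KleinDefect.Isometry
import Cfsg.Agent.S4637

set_option autoImplicit false
set_option linter.style.haveILetI false
open Cfsg

open CfsgLib CfsgLib.BrauerPairs MonoidAlgebra

namespace Cfsg.Agent.S4638

/-- Let B be a block of the finite group G relative to a maximal ideal M of the algebraic integers containing 2, with a Klein four defect group P, and let c be its Brauer correspondent: the block of N_G(P) with defect group P that induces B. Then there is a perfect isometry from c onto B. -/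
theorem result {G : Type*} [Group G] [Finite G] (M : Ideal Cfsg.AlgInt) (hM : Cfsg.IsPModular 2 M) (B : Set (Cfsg.IrrCharacter G)) (hB : Cfsg.IsPBlock M B) (P : Subgroup G) (hPD : Cfsg.IsDefectGroup 2 M B P) (hV : IsKleinFour P) (c : Set (Cfsg.IrrCharacter (Subgroup.normalizer (P : Set G)))) (hcD : Cfsg.IsDefectGroup 2 M c (P.subgroupOf (Subgroup.normalizer (P : Set G)))) (hc : Cfsg.IsInducedBlock M (Subgroup.normalizer (P : Set G)) c B) : ∃ (I : Cfsg.IrrCharacter (Subgroup.normalizer (P : Set G)) → Cfsg.IrrCharacter G) (ε : Cfsg.IrrCharacter (Subgroup.normalizer (P : Set G)) → ℤ), Cfsg.IsPerfectIsometry 2 M c B I ε := by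
  classical
  have : Fintype G := Fintype.ofFinite G
  let _ : ∀ K : Subgroup G, Fintype K := fun K => Fintype.ofFinite K
  let _ : ∀ K : Subgroup (Subgroup.normalizer (P : Set G)), Fintype K := fun K => Fintype.ofFinite K
  haveI : M.IsMaximal := hM.2.1
  haveI : Fact (Nat.Prime 2) := ⟨Nat.prime_two⟩
  have := charP_res hM
  obtain ⟨h4, -, -, hPp, hab⟩ := KleinDefect.klein_props hV
  have hPN : P ≤ Subgroup.normalizer (P : Set G) := Subgroup.le_normalizer
  set P' := P.subgroupOf (Subgroup.normalizer (P : Set G)) with hP'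
  have hiso : P' ≃* P := Subgroup.subgroupOfEquivOfLe hPN
  have hV' : IsKleinFour P' :=
    ⟨by rw [Nat.card_congr hiso.toEquiv]; exact hV.card_four,
      by rw [Monoid.exponent_eq_of_mulEquiv hiso]; exact hV.exponent_two⟩
  obtain ⟨h4', -, -, hPp', hab'⟩ := KleinDefect.klein_props hV'
  -- the pair inside the normaliser
  have hcb := hc.1
  have hEc := isBlockIdem_eG hM hcb
  have hcDd := (isDefectGroup_iff hM hcb P').1 hcD
  obtain ⟨eN, heN, heNc⟩ := exists_block_le (hasBlocks hM) (brMap_mem_suppAlg P' (eG hM c))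
    (brMap_mem_fixAlg_cz (fixAlg_anti le_top hEc.fixed))
    (by rw [← brMap_mul hPp' (fixAlg_anti le_top hEc.fixed) (fixAlg_anti le_top hEc.fixed),
      hEc.idem])
    hcDd.br_ne
  obtain ⟨cN, hcN, rfl⟩ := exists_eA_eq hM heN
  have hPc' : P' ≤ cz P' := fun x hx => mem_cz.2 fun w hw => hab' w hw x hx
  have hindN : IsInducedBlock M (cz P') cN c :=
    CyclicDefectBound.induced_of_cover hM hPp' hPc' rfl hcb hcN heNc
  -- the pair in G
  have hle : cz P ≤ Subgroup.normalizer (P : Set G) := cz_le_normalizer P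
  have hK := fun x => mem_cz_subgroupOf (H := Subgroup.normalizer (P : Set G)) hPN x
  set c0 := CharCorr.twistIrr (inEquiv hle hK).symm '' cN with hc0
  have hc0N : CharCorr.twistIrr (inEquiv hle hK) '' c0 = cN := by
    rw [hc0, Set.image_image]
    refine (Set.image_congr fun ξ _ => ?_).trans (Set.image_id cN)
    exact Subtype.ext (funext fun x => by simp only [CharCorr.twistIrr_apply]; simp)
  have hc0b : IsPBlock M c0 := isPBlock_twist _ hcN
  have hindG : IsInducedBlock M (cz P) c0 B :=
    (LocalCount.isInducedBlock_trans_iff hM hle hK hc0b (hc0N ▸ hindN)).2 hc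
  obtain ⟨-, -, hO⟩ :=
    (isBrauerPairOf_iff hM B P c0).1 (isBrauerPairOf_of_isInducedBlock hM hPp hindG)
  -- the inertial groups
  let T : Subgroup G := pairStab P (eA hM (cz P) c0)
  have hT : ∀ g : G, g ∈ T ↔ (g ∈ Subgroup.normalizer (P : Set G) ∧
      StabilizesBlock (cz P) c0 g) := fun g =>
    ⟨fun hg => ⟨hg.1,
      (stabilizesBlock_iff_conjA hM (normalizer_le_normalizer_cz P hg.1) hc0b).2 hg.2⟩,
     fun hg => ⟨hg.1,
      (stabilizesBlock_iff_conjA hM (normalizer_le_normalizer_cz P hg.1) hc0b).1 hg.2⟩⟩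
  haveI : P'.Normal := Subgroup.normal_in_normalizer
  have hT' : ∀ x : Subgroup.normalizer (P : Set G),
      x ∈ T.subgroupOf (Subgroup.normalizer (P : Set G)) ↔
        (x ∈ Subgroup.normalizer (P' : Set (Subgroup.normalizer (P : Set G))) ∧
          StabilizesBlock (cz P') cN x) := by
    intro x
    have hxn : x ∈ Subgroup.normalizer (P' : Set (Subgroup.normalizer (P : Set G))) := by
      refine Subgroup.mem_normalizer_iff.2 fun q =>
        ⟨fun hq => ‹P'.Normal›.conj_mem q hq x, fun hq => ?_⟩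
      simpa [mul_assoc] using ‹P'.Normal›.conj_mem _ hq x⁻¹
    have hkey : StabilizesBlock (cz P') cN x ↔
        conjA (x : G) (eA hM (cz P) c0) = eA hM (cz P) c0 := by
      rw [stabilizesBlock_iff_conjA hM (normalizer_le_normalizer_cz P' hxn) hcN,
        ← inclA_eA hM hle hK c0, hc0N, ← inclA_conjA, (inclA_injective _).eq_iff]
    rw [Subgroup.mem_subgroupOf, hkey]
    exact ⟨fun h => ⟨hxn, h.2⟩, fun h => ⟨x.2, h.2⟩⟩
  have hcz : cz P' = (cz P).subgroupOf (Subgroup.normalizer (P : Set G)) := Subgroup.ext hK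
  have hrel : (cz P').relIndex (T.subgroupOf (Subgroup.normalizer (P : Set G))) =
      (cz P).relIndex T := by
    rw [hcz, Subgroup.relIndex_subgroupOf (fun g hg => ((hT g).1 hg).1)]
  obtain ⟨he13, hkB, hlB⟩ :=
    Cfsg.Agent.S4637.result M hM B hB P hPD hV c0 hindG T hT _ rfl
  obtain ⟨-, hkc, hlc⟩ := Cfsg.Agent.S4637.result M hM c hcb P' hcD hV' cN hindN
    (T.subgroupOf (Subgroup.normalizer (P : Set G))) hT' _ hrel
  have hdB : blockDefect 2 B = 2 := Nat.pow_right_injective le_rfl
    (show 2 ^ blockDefect 2 B = 2 ^ 2 by rw [← BlockCover.natCard_defect hM hB hPD, h4])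
  have hdc : blockDefect 2 c = 2 := Nat.pow_right_injective le_rfl
    (show 2 ^ blockDefect 2 c = 2 ^ 2 by rw [← BlockCover.natCard_defect hM hcb hcD, h4'])
  exact KleinDefect.exists_perfect_isometry hM hB hcb hdB hdc hkB hkc
    (KleinDefect.decomp_of_klein hM hB hPD hV (isBlockIdem_eA hM hc0b) hO.cover hdB hkB)
    (KleinDefect.decomp_of_klein hM hcb hcD hV' (isBlockIdem_eA hM hcN) heNc hdc hkc)
    (hlB.trans hlc.symm) (hlc ▸ he13)

end Cfsg.Agent.S4638
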