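import Cfsg.Statements.S4639
import Cfsg.Agent.Lib.FreeInertial.Main

set_option autoImplicit false
set_option linter.style.haveILetI false
open Cfsg

open CfsgLib CfsgLib.Blocks CfsgLib.BrauerPairs CfsgLib.BPStar MonoidAlgebra

namespace Cfsg.Agent.S4639

/-- Let B be a block of the finite group G relative to a maximal ideal M of the algebraic integers containing the prime p, with a nontrivial commutative defect group P. Let c be a block of C_G(P) inducing B, T the stabilizer of c in N_G(P) and e the index of C_G(P) in T. Suppose that T/C_G(P) is commutative (all commutators of elements of T lie in C_G(P)) and acts freely on the non-identity elements of P (an element of T fixing a non-identity element of P under conjugation lies in C_G(P)). Then B has at most e + (#P − 1)/e irreducible characters and p-regular rank at most e; equality holds in the first bound exactly when it holds in the second; and both equalities hold when e ≤ 3. -/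
theorem result {G : Type*} [Group G] [Finite G] (p : ℕ) [Fact p.Prime] (M : Ideal Cfsg.AlgInt) (hM : Cfsg.IsPModular p M) (B : Set (Cfsg.IrrCharacter G)) (hB : Cfsg.IsPBlock M B) (P : Subgroup G) (hPD : Cfsg.IsDefectGroup p M B P) (hP1 : P ≠ ⊥) (hPab : ∀ x ∈ P, ∀ y ∈ P, x * y = y * x) (c : Set (Cfsg.IrrCharacter (Subgroup.centralizer (P : Set G)))) (hc : Cfsg.IsInducedBlock M (Subgroup.centralizer (P : Set G)) c B) (T : Subgroup G) (hT : ∀ g : G, g ∈ T ↔ (g ∈ Subgroup.normalizer (P : Set G) ∧ Cfsg.StabilizesBlock (Subgroup.centralizer (P : Set G)) c g)) (e : ℕ) (he : (Subgroup.centralizer (P : Set G)).relIndex T = e) (hEab : ∀ g ∈ T, ∀ h ∈ T, g * h * g⁻¹ * h⁻¹ ∈ Subgroup.centralizer (P : Set G)) (hfree : ∀ g ∈ T, ∀ x ∈ P, x ≠ 1 → g * x * g⁻¹ = x → g ∈ Subgroup.centralizer (P : Set G)) : Nat.card B ≤ e + (Nat.card P - 1) / e ∧ Cfsg.blockRank p B ≤ e ∧ (Nat.card B = e + (Nat.card P - 1) / e ↔ Cfsg.blockRank p B = e) ∧ (e ≤ 3 → Nat.card B = e + (Nat.card P - 1) / e ∧ Cfsg.blockRank p B = e)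 := by
  classical
  have : Fintype G := Fintype.ofFinite G
  let _ : ∀ K : Subgroup G, Fintype K := fun K => Fintype.ofFinite K
  haveI : M.IsMaximal := hM.2.1
  have := charP_res hM
  have hp : p.Prime := Fact.out
  have hD0 := (isDefectGroup_iff hM hB P).1 hPD
  have hPp : IsPGroup p P := hD0.pgroup
  obtain ⟨a, hn⟩ := IsPGroup.iff_card.1 hPp
  have ha : a ≠ 0 := fun h => hP1 (Subgroup.eq_bot_of_card_eq P (by rw [hn, h, pow_zero]))
  have hpair := isBrauerPairOf_of_isInducedBlock hM hPp hc
  obtain ⟨hcB, -, -⟩ := (isBrauerPairOf_iff hM B P c).1 hpair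
  have hctx : AbCtx hM B P c :=
    ⟨(isMaximalBrauerPair_iff hM B P c).2 ⟨hpair, hD0⟩, le_cz_of_comm hPab⟩
  have hTe : T = pairStab P (eA hM (cz P) c) := by
    ext g
    rw [hT, mem_pairStab]
    exact and_congr_right fun hg =>
      stabilizesBlock_iff_conjA hM (normalizer_le_normalizer_cz P hg) hcB
  have hf : FreeInertial.Free hM P c := fun t ht => hfree t (hTe ▸ ht)
  obtain ⟨m, hm, hee, hnm, hk, hle, h3⟩ :=
    FreeInertial.counts hctx hf hn ha (hTe ▸ he : (cz P).relIndex _ = e)
  have hdiv : (Nat.card P - 1) / e = m := by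
    rw [hnm, Nat.add_sub_cancel, Nat.mul_div_cancel_left _ hee]
  rw [hdiv]
  refine ⟨by omega, hle, by omega, fun he3 => ?_⟩
  suffices h : blockRank p B = e by omega
  have hcyc : IsCyclic P → blockRank p B = e := fun hcy => by
    obtain ⟨L, -, hL⟩ := CyclicBlock.exists_data_of_induced hM hB hcy
      (Nat.one_le_iff_ne_zero.2 ha) hn hPD hc (T := T) (fun g => (hT g).trans
        (and_congr_right fun hg =>
          (CyclicBlock.forall_conj_mem_iff (normalizer_le_normalizer_cz P hg) c).symm))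
    rw [L.blockRank_eq, L.inertia_eq, ← hL, he]
  rcases h3 he3 with h | ⟨rfl, rfl⟩ | ⟨rfl, rfl⟩ | ⟨rfl, rfl⟩
  · exact h
  · haveI : Fact (Nat.Prime 7) := ⟨by norm_num⟩
    exact hcyc (isCyclic_of_prime_card hnm)
  · haveI : Fact (Nat.Prime 13) := ⟨by norm_num⟩
    exact hcyc (isCyclic_of_prime_card hnm)
  · exfalso
    have h10 : p ^ a = 10 := hn.symm.trans hnm
    have hd : p ∣ 10 := h10 ▸ dvd_pow_self p ha
    have h2 : 2 ∣ p ^ a := h10 ▸ (by norm_num)
    have h5 : 5 ∣ p ^ a := h10 ▸ (by norm_num)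
    have e2 := (Nat.prime_dvd_prime_iff_eq Nat.prime_two hp).1 (Nat.prime_two.dvd_of_dvd_pow h2)
    have e5 := (Nat.prime_dvd_prime_iff_eq Nat.prime_five hp).1 (Nat.prime_five.dvd_of_dvd_pow h5)
    omega

end Cfsg.Agent.S4639
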