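import Cfsg.Statements.S4642
import Cfsg.Agent.Lib.Blocks.OverPrimeCore
import Cfsg.Agent.Lib.Blocks.Brauer
import Cfsg.Agent.Lib.BrauerPairs.Induced
import Cfsg.Agent.Lib.CharCorr.PGroup
import Cfsg.Agent.Lib.Components.Local
import Cfsg.Agent.Lib.Large.CharP

set_option autoImplicit false
open Cfsg

namespace Cfsg.Agent.S4642

universe u

open CfsgLib.BlockOver CfsgLib.Characters CfsgLib.Blocks
open scoped ComplexConjugate

/-- A homomorphism onto a group of characteristic `p` gives the constrained data on the source. -/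
theorem constrained_comap {C Y : Type u} [Group C] [Group Y] [Finite C] [Finite Y] {p : ℕ}
    [hp : Fact p.Prime] (π : C →* Y) (hπ : Function.Surjective π) (N : Subgroup C) (hN : π.ker = N)
    (hY : Subgroup.centralizer (pCore p Y : Set Y) ≤ pCore p Y) :
    ∃ L : Subgroup C, L.Normal ∧ N ≤ L ∧ (∀ x ∈ L, ∃ k : ℕ, x ^ p ^ k ∈ N) ∧
      ∀ S : Sylow p L,
        Subgroup.centralizer (((S : Subgroup L).map L.subtype : Subgroup C) : Set C) ≤ L := by
  haveI := pCore_normal p Y
  refine ⟨(pCore p Y).comap π, inferInstance, hN ▸ MonoidHom.ker_le_comap π _, ?_, ?_⟩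
  · intro x hx
    obtain ⟨k, hk⟩ := (CfsgLib.PCore.pCore_isPGroup (p := p) (G := Y)) ⟨π x, hx⟩
    refine ⟨k, hN ▸ ?_⟩
    rw [MonoidHom.mem_ker, map_pow]
    exact congrArg Subtype.val hk
  · intro S x hx
    refine hY (Subgroup.mem_centralizer_iff.2 fun y hy => ?_)
    set f : (pCore p Y).comap π →* pCore p Y :=
      (π.comp ((pCore p Y).comap π).subtype).codRestrict _ fun z => z.2 with hf
    have hfs : Function.Surjective f := fun z => by
      obtain ⟨c, hc⟩ := hπ z
      exact ⟨⟨c, show π c ∈ pCore p Y from hc ▸ z.2⟩, Subtype.ext hc⟩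
    have hY2 : IsPGroup p (⊤ : Subgroup (pCore p Y)) :=
      CfsgLib.PCore.pCore_isPGroup.to_subgroup _
    have htop : (S : Subgroup ((pCore p Y).comap π)).map f = ⊤ := by
      have := (S.mapSurjective hfs).3 hY2 le_top
      rw [Sylow.coe_mapSurjective] at this
      exact this.symm
    obtain ⟨s, hs, hsy⟩ := (htop ▸ Subgroup.mem_top (⟨y, hy⟩ : pCore p Y) :
      (⟨y, hy⟩ : pCore p Y) ∈ (S : Subgroup ((pCore p Y).comap π)).map f)
    have h1 : π (s : C) = y := congrArg Subtype.val hsy
    rw [← h1, ← map_mul, ← map_mul,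
      Subgroup.mem_centralizer_iff.1 hx (s : C) ⟨s, hs, rfl⟩]

variable {G : Type u} [Group G] [Fintype G] (R : Subgroup G) (K : Subgroup G) [hK : K.Normal]
  [Fintype K]

/-- The inclusion of the fixed points. -/
def fixHom : K.subgroupOf (Subgroup.centralizer (R : Set G)) →* K where
  toFun k := ⟨((k : Subgroup.centralizer (R : Set G)) : G), k.2⟩
  map_one' := rfl
  map_mul' _ _ := rfl

theorem isFixedHom :
    CfsgLib.CharCorr.IsFixedHom ((MulAut.conjNormal).comp R.subtype : R →* MulAut K)
      (fixHom R K) := by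
  refine ⟨fun a b h => ?_, fun r c => ?_, fun x hx => ?_⟩
  · exact Subtype.ext (Subtype.ext (congrArg (fun z : K => (z : G)) h))
  · refine Subtype.ext ?_
    rw [MonoidHom.comp_apply, MulAut.conjNormal_apply]
    exact mul_inv_eq_iff_eq_mul.2
      (Subgroup.mem_centralizer_iff.1 (c : Subgroup.centralizer (R : Set G)).2 r r.2)
  · have hxC : (x : G) ∈ Subgroup.centralizer (R : Set G) := by
      refine Subgroup.mem_centralizer_iff.2 fun r hr => ?_
      have := congrArg Subtype.val (hx ⟨r, hr⟩)
      rw [MonoidHom.comp_apply, MulAut.conjNormal_apply] at this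
      exact mul_inv_eq_iff_eq_mul.1 this
    exact ⟨⟨⟨x, hxC⟩, x.2⟩, rfl⟩

variable {θ : IrrCharacter K}

theorem mult_twist (hinv : IsInvariant K (θ : K → ℂ))
    [Fintype (K.subgroupOf (Subgroup.centralizer (R : Set G)))]
    (c : Subgroup.centralizer (R : Set G))
    (φ : IrrCharacter (K.subgroupOf (Subgroup.centralizer (R : Set G)))) :
    CfsgLib.CharCorr.mult (fixHom R K) θ (CfsgLib.CharCorr.twistIrr (MulAut.conjNormal c) φ) =
      CfsgLib.CharCorr.mult (fixHom R K) θ φ := by
  refine CfsgLib.CharCorr.mult_eq_of_classInner_eq _ _ _ ?_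
  rw [← CfsgLib.CharCorr.mult_spec]
  have h : ((θ : K → ℂ) ∘ fixHom R K) ∘ (MulAut.conjNormal c :
      MulAut (K.subgroupOf (Subgroup.centralizer (R : Set G)))) = (θ : K → ℂ) ∘ fixHom R K := by
    funext n
    exact hinv (c : G) (fixHom R K n)
  conv_lhs => rw [← h]
  exact CfsgLib.CharCorr.classInner_comp_equiv _ _ _

/-- The truncated central character at the characters over `θ`. -/
theorem brauerOmega_overSet (hinv : IsInvariant K (θ : K → ℂ))
    [Fintype (Subgroup.centralizer (R : Set G))]
    [Fintype (K.subgroupOf (Subgroup.centralizer (R : Set G)))]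
    (ξ : IrrCharacter (Subgroup.centralizer (R : Set G)))
    {φ₀ : IrrCharacter (K.subgroupOf (Subgroup.centralizer (R : Set G)))}
    (hφ₀ : ξ ∈ {ξ : IrrCharacter (Subgroup.centralizer (R : Set G)) |
      CfsgLib.NormalRes.mult (K.subgroupOf (Subgroup.centralizer (R : Set G)))
        (ξ : Subgroup.centralizer (R : Set G) → ℂ) φ₀ ≠ 0}) :
    brauerOmega R (blockCoeff (overSet K θ)) (ξ : Subgroup.centralizer (R : Set G) → ℂ) *
        ((Nat.card K * charDegree (φ₀ : K.subgroupOf (Subgroup.centralizer (R : Set G)) → ℂ) : ℕ) : ℂ) =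
      ((charDegree (θ : K → ℂ) * Nat.card (K.subgroupOf (Subgroup.centralizer (R : Set G))) *
        CfsgLib.CharCorr.mult (fixHom R K) θ φ₀ : ℕ) : ℂ) := by
  classical
  have hsum : ∑ x : (Subgroup.centralizer (R : Set G)), blockCoeff (overSet K θ) (x : G) * (ξ : (Subgroup.centralizer (R : Set G)) → ℂ) x =
      (θ : K → ℂ) 1 / (Nat.card K : ℂ) *
        ∑ n : (K.subgroupOf (Subgroup.centralizer (R : Set G))), (ξ : (Subgroup.centralizer (R : Set G)) → ℂ) n * conj ((θ : K → ℂ) (fixHom R K n)) := by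
    rw [← Finset.sum_filter_of_ne (p := fun x : (Subgroup.centralizer (R : Set G)) => x ∈ (K.subgroupOf (Subgroup.centralizer (R : Set G)))) fun x _ hne => by
      by_contra hx
      exact hne (by rw [blockCoeff_of_notMem hinv (fun h => hx (Subgroup.mem_subgroupOf.2 h)), zero_mul])]
    rw [Finset.sum_subtype (Finset.univ.filter fun x : (Subgroup.centralizer (R : Set G)) => x ∈ (K.subgroupOf (Subgroup.centralizer (R : Set G)))) (p := (· ∈ (K.subgroupOf (Subgroup.centralizer (R : Set G)))))
      (fun x => by simp), Finset.mul_sum]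
    refine Finset.sum_congr rfl fun n _ => ?_
    rw [show ((n : (Subgroup.centralizer (R : Set G))) : G) = ((fixHom R K n : K) : G) from rfl, blockCoeff_of_mem hinv]
    ring
  have hres : ∀ n : (K.subgroupOf (Subgroup.centralizer (R : Set G))), (ξ : (Subgroup.centralizer (R : Set G)) → ℂ) n =
      ∑ φ : IrrCharacter (K.subgroupOf (Subgroup.centralizer (R : Set G))), CfsgLib.NormalRes.mult (K.subgroupOf (Subgroup.centralizer (R : Set G))) (ξ : (Subgroup.centralizer (R : Set G)) → ℂ) φ * (φ : (K.subgroupOf (Subgroup.centralizer (R : Set G))) → ℂ) n :=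
    fun n => CfsgLib.NormalRes.res_eq_sum (K.subgroupOf (Subgroup.centralizer (R : Set G))) (irr_isClassFunction ξ) n
  have horbit : ∀ φ : IrrCharacter (K.subgroupOf (Subgroup.centralizer (R : Set G))), CfsgLib.NormalRes.mult (K.subgroupOf (Subgroup.centralizer (R : Set G))) (ξ : (Subgroup.centralizer (R : Set G)) → ℂ) φ ≠ 0 →
      CfsgLib.CharCorr.mult (fixHom R K) θ φ = CfsgLib.CharCorr.mult (fixHom R K) θ φ₀ ∧
        (φ : (K.subgroupOf (Subgroup.centralizer (R : Set G))) → ℂ) 1 = (φ₀ : (K.subgroupOf (Subgroup.centralizer (R : Set G))) → ℂ) 1 := by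
    intro φ hφ
    obtain ⟨c, hc⟩ :=
      CfsgLib.NormalRes.exists_conj_of_constituents (K.subgroupOf (Subgroup.centralizer (R : Set G))) ξ hφ₀ hφ
    have hc' : φ = CfsgLib.CharCorr.twistIrr (MulAut.conjNormal c⁻¹) φ₀ := by
      rw [← hc]
      refine Subtype.ext (funext fun n => ?_)
      rw [CfsgLib.BrauerPerm.twistIrr_apply, CfsgLib.CharCorr.twistIrr_apply, map_inv]
      rfl
    subst hc'
    refine ⟨mult_twist R K hinv c⁻¹ φ₀, ?_⟩
    rw [CfsgLib.CharCorr.twistIrr_apply, map_one]
  set μ := ∑ φ : IrrCharacter (K.subgroupOf (Subgroup.centralizer (R : Set G))), CfsgLib.NormalRes.mult (K.subgroupOf (Subgroup.centralizer (R : Set G))) (ξ : (Subgroup.centralizer (R : Set G)) → ℂ) φ with hμ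
  have h1 : (ξ : (Subgroup.centralizer (R : Set G)) → ℂ) 1 = μ * (φ₀ : (K.subgroupOf (Subgroup.centralizer (R : Set G))) → ℂ) 1 := by
    have := hres 1
    rw [Subgroup.coe_one] at this
    rw [this, hμ, Finset.sum_mul]
    refine Finset.sum_congr rfl fun φ _ => ?_
    by_cases h0 : CfsgLib.NormalRes.mult (K.subgroupOf (Subgroup.centralizer (R : Set G))) (ξ : (Subgroup.centralizer (R : Set G)) → ℂ) φ = 0
    · rw [h0, zero_mul, zero_mul]
    · rw [(horbit φ h0).2]
  have h2 : ∑ n : (K.subgroupOf (Subgroup.centralizer (R : Set G))), (ξ : (Subgroup.centralizer (R : Set G)) → ℂ) n * conj ((θ : K → ℂ) (fixHom R K n)) =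
      (Nat.card (K.subgroupOf (Subgroup.centralizer (R : Set G))) : ℂ) * (μ * (CfsgLib.CharCorr.mult (fixHom R K) θ φ₀ : ℂ)) := by
    simp only [hres, Finset.sum_mul]
    rw [Finset.sum_comm, hμ, Finset.sum_mul, Finset.mul_sum]
    refine Finset.sum_congr rfl fun φ _ => ?_
    by_cases h0 : CfsgLib.NormalRes.mult (K.subgroupOf (Subgroup.centralizer (R : Set G))) (ξ : (Subgroup.centralizer (R : Set G)) → ℂ) φ = 0
    · simp [h0]
    have hm := CfsgLib.CharCorr.mult_spec (fixHom R K) θ φ
    rw [(horbit φ h0).1] at hm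
    have hm' := congrArg conj hm
    rw [← classInner_conj_symm, Complex.conj_natCast, classInner] at hm'
    rw [inv_mul_eq_iff_eq_mul₀ (by simp)] at hm'
    simp only [Function.comp_apply] at hm'
    rw [Finset.sum_congr rfl fun n _ => mul_assoc _ _ _, ← Finset.mul_sum, hm']
    ring
  have hξ := irr_one_ne_zero ξ
  have hμ0 : μ ≠ 0 := fun h => hξ (by rw [h1, h, zero_mul])
  have hK0 : (Nat.card K : ℂ) ≠ 0 := by simp
  rw [brauerOmega, finsum_eq_sum_of_fintype, ← Finset.sum_div, hsum, h2, h1,
    CfsgLib.CharCorr.irr_one_eq_charDegree θ, CfsgLib.CharCorr.irr_one_eq_charDegree φ₀]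
  rw [CfsgLib.CharCorr.irr_one_eq_charDegree φ₀] at h1
  have hd0 : (charDegree (φ₀ : (K.subgroupOf (Subgroup.centralizer (R : Set G))) → ℂ) : ℂ) ≠ 0 := fun h => hξ (by rw [h1, h, mul_zero])
  push_cast
  field_simp


/-- In a group of characteristic `p` the centraliser of a `p`-subgroup has characteristic `p`. -/
theorem charP_centralizer' {Y : Type u} [Group Y] [Finite Y] {p : ℕ} [Fact p.Prime]
    (hY : Subgroup.centralizer (pCore p Y : Set Y) ≤ pCore p Y) {A : Subgroup Y}
    (hA : IsPGroup p A) :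
    Subgroup.centralizer (pCore p (Subgroup.centralizer (A : Set Y)) :
        Set (Subgroup.centralizer (A : Set Y))) ≤
      pCore p (Subgroup.centralizer (A : Set Y)) := by
  have hT := CfsgLib.Large.charP_equiv (p := p) (Subgroup.topEquiv (G := Y)).symm hY
  haveI : ((⊤ : Subgroup Y)).Normal := inferInstance
  have hn : A ≤ Subgroup.normalizer (Cfsg.pCoreOf p (⊤ : Subgroup Y) : Set Y) :=
    le_top.trans (CfsgLib.Large.le_normalizer_pCoreOf (⊤ : Subgroup Y))
  have h := CfsgLib.Large.charP_centralizer hT hA hn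
  have key : ∀ X : Subgroup Y, X = Subgroup.centralizer (A : Set Y) →
      Subgroup.centralizer (pCore p X : Set X) ≤ pCore p X →
      Subgroup.centralizer (pCore p (Subgroup.centralizer (A : Set Y)) :
          Set (Subgroup.centralizer (A : Set Y))) ≤
        pCore p (Subgroup.centralizer (A : Set Y)) := by
    rintro X rfl h
    exact h
  exact key _ (top_inf_eq _) h

/-- Principal type: exactly one block of the centraliser of a `p`-subgroup induces the block of
the characters over `θ`. -/
theorem existsUnique_inducing {p : ℕ} [hp : Fact p.Prime] {M : Ideal AlgInt}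
    (hM : IsPModular p M) (hinv : IsInvariant K (θ : K → ℂ)) (hKp : ¬ p ∣ Nat.card K)
    (hY : Subgroup.centralizer (pCore p (G ⧸ K) : Set (G ⧸ K)) ≤ pCore p (G ⧸ K))
    (hB : IsPBlock M (overSet K θ)) (hR : IsPGroup p R) :
    ∃! f : Set (IrrCharacter (Subgroup.centralizer (R : Set G))),
      IsInducedBlock M (Subgroup.centralizer (R : Set G)) f (overSet K θ) := by
  classical
  haveI : Fintype (Subgroup.centralizer (R : Set G)) := Fintype.ofFinite _
  haveI : Fintype (K.subgroupOf (Subgroup.centralizer (R : Set G))) := Fintype.ofFinite _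
  have hf := isFixedHom R K
  have hInv : CfsgLib.CharCorr.Inv ((MulAut.conjNormal).comp R.subtype : R →* MulAut K) θ :=
    fun r k => hinv (r : G) k
  obtain ⟨η, hη, huniq⟩ := CfsgLib.CharCorr.existsUnique_mult hp.out hR hf hKp hInv
  have hKC : ¬ p ∣ Nat.card (K.subgroupOf (Subgroup.centralizer (R : Set G))) :=
    CfsgLib.CharCorr.not_dvd_card_fixed hp.out hR hf hKp
  have hηinv : IsInvariant (K.subgroupOf (Subgroup.centralizer (R : Set G)))
      (η : K.subgroupOf (Subgroup.centralizer (R : Set G)) → ℂ) := by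
    intro c n
    have h := huniq (CfsgLib.CharCorr.twistIrr (MulAut.conjNormal c) η)
      (by simp only [mult_twist R K hinv c η]; exact hη)
    exact congrFun (congrArg Subtype.val h) n
  -- the centraliser is constrained
  set π := QuotientGroup.mk' K with hπ
  have hYR : Subgroup.centralizer (pCore p ((Subgroup.centralizer (R : Set G)).map π) :
      Set ((Subgroup.centralizer (R : Set G)).map π)) ≤
        pCore p ((Subgroup.centralizer (R : Set G)).map π) := by
    have h := charP_centralizer' hY (hR.map π)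
    rw [← CfsgLib.Components.map_centralizer_quotient
      ((Nat.Prime.coprime_iff_not_dvd hp.out).2 hKp).symm hR] at h
    exact h
  obtain ⟨L, hLn, hKL, hLp, hLC⟩ := constrained_comap (p := p)
    (π.subgroupMap (Subgroup.centralizer (R : Set G)))
    (MonoidHom.subgroupMap_surjective π (Subgroup.centralizer (R : Set G)))
    (K.subgroupOf (Subgroup.centralizer (R : Set G))) (by
      ext x
      rw [MonoidHom.mem_ker, Subgroup.mem_subgroupOf, ← QuotientGroup.eq_one_iff, Subtype.ext_iff]
      rfl) hYR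
  haveI := hLn
  have hf0 := isPBlock_of_constrained hηinv hM hKC hKL hLp hLC
  -- the value of the Brauer map
  have hval : ∀ (ξ : IrrCharacter (Subgroup.centralizer (R : Set G))),
      (ξ ∈ overSet (K.subgroupOf (Subgroup.centralizer (R : Set G))) η ↔
        ¬ MemLocalIdeal M (brauerOmega R (blockCoeff (overSet K θ))
          (ξ : Subgroup.centralizer (R : Set G) → ℂ))) := by
    intro ξ
    by_cases hξ : ξ ∈ overSet (K.subgroupOf (Subgroup.centralizer (R : Set G))) η
    · refine iff_of_true hξ fun hI => ?_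
      have h := MemLocalIdeal.mul_right hM hI (natCast_mem (lRing hM)
        (Nat.card K * charDegree (η : K.subgroupOf (Subgroup.centralizer (R : Set G)) → ℂ)))
      rw [brauerOmega_overSet R K hinv ξ hξ, memLocalIdeal_natCast_iff hM] at h
      rcases hp.out.dvd_mul.1 h with h | h
      · rcases hp.out.dvd_mul.1 h with h | h
        · exact hKp (h.trans (CfsgLib.CharCorr.charDegree_irr_dvd_card θ))
        · exact hKC h
      · exact hη h
    · obtain ⟨φ, hφ⟩ := CfsgLib.NormalRes.exists_mult_ne_zero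
        (K.subgroupOf (Subgroup.centralizer (R : Set G))) ξ
      refine iff_of_false hξ (not_not.2 ?_)
      have hm : p ∣ CfsgLib.CharCorr.mult (fixHom R K) θ φ := by
        by_contra h
        exact hξ ((huniq φ h) ▸ hφ)
      have h := brauerOmega_overSet R K hinv ξ hφ
      have hne : ¬ p ∣ Nat.card K *
          charDegree (φ : K.subgroupOf (Subgroup.centralizer (R : Set G)) → ℂ) := by
        rw [hp.out.dvd_mul]
        exact not_or_intro hKp fun hd => hKC (hd.trans (CfsgLib.CharCorr.charDegree_irr_dvd_card φ))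
      have hne0 : ((Nat.card K *
          charDegree (φ : K.subgroupOf (Subgroup.centralizer (R : Set G)) → ℂ) : ℕ) : ℂ) ≠ 0 :=
        Nat.cast_ne_zero.2 fun h0 => hne (h0 ▸ dvd_zero p)
      rw [← eq_mul_inv_iff_mul_eq₀ hne0] at h
      rw [h]
      exact MemLocalIdeal.mul_right hM ((memLocalIdeal_natCast_iff hM _).2 (dvd_mul_of_dvd_right hm _))
        (inv_natCast_mem_lRing hM hne)
  obtain ⟨ξ, hξ⟩ := IsPBlock.nonempty hM hf0
  obtain ⟨χ, hχ⟩ := exists_irr_brauerCentralChar hM hR (le_refl _)
    (Subgroup.centralizer_le_normalizer (R : Set G)) ξ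
  have hbr : ∀ g : G,
      brauerCentralChar R (Subgroup.centralizer (R : Set G))
        (ξ : Subgroup.centralizer (R : Set G) → ℂ) g =
      inducedCentralChar (Subgroup.centralizer (R : Set G))
        (ξ : Subgroup.centralizer (R : Set G) → ℂ) g := by
    intro g
    rw [brauerCentralChar, inducedCentralChar]
    congr 1
    ext h
    simp [h.2]
  simp only [hbr] at hχ
  have hmem : χ ∈ overSet K θ := by
    by_contra hne
    apply (hval ξ).1 hξ
    have h2 := omega_eq_sum_classes χ (blockIdem_mem_center (overSet K θ))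
    rw [omega_blockIdem, if_neg hne] at h2
    simp only [coeff_blockIdem] at h2
    rw [CfsgLib.BrauerPairs.brauerOmega_eq_sum_classes, ← sub_zero (Finset.sum _ _), h2,
      ← Finset.sum_sub_distrib]
    refine MemLocalIdeal.sum hM _ fun d _ => ?_
    rw [← mul_sub]
    exact MemLocalIdeal.mul_left hM (memLocalRing_blockCoeff hM hB _) (hχ _)
  refine ⟨_, isInducedBlock_of_forall hM hf0 hB hξ hmem hχ, fun f hf' => ?_⟩
  obtain ⟨ξ', hξ'⟩ := IsPBlock.nonempty hM hf'.1
  have h1 := (CfsgLib.BrauerPairs.isBrauerPairOf_of_isInducedBlock hM hR hf').2.2 ξ' hξ'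
  have h2 : ξ' ∈ overSet (K.subgroupOf (Subgroup.centralizer (R : Set G))) η := by
    refine (hval ξ').2 fun hI => not_memLocalIdeal_one hM ?_
    simpa using MemLocalIdeal.sub hM hI h1
  rw [IsPBlock.eq_blockOf hM hf'.1 hξ', IsPBlock.eq_blockOf hM hf0 h2]


/-- Let G be a finite group, p a prime, M a maximal ideal of the algebraic integers containing p, K the largest normal subgroup of G of order prime to p, and L the preimage in G of the largest normal p-subgroup of G/K. Let Q be a Sylow p-subgroup of L and suppose C_G(Q) ≤ L. Let θ be an irreducible character of K invariant under conjugation by every element of G, and let B be the set of irreducible characters of G whose restriction to K contains θ. Then B is a block of G, every Sylow p-subgroup of G is a defect group of B, and B is of principal type: for every p-subgroup R of G exactly one block of C_G(R) induces B. -/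
theorem result {G : Type*} [Group G] [Fintype G] (p : ℕ) [Fact p.Prime] (M : Ideal Cfsg.AlgInt) (hM : Cfsg.IsPModular p M) (K : Subgroup G) (hK : K = Cfsg.pPrimeCore p G) [Fintype K] (L : Subgroup G) (hL : L = Cfsg.pPrimePCore p G) (Q : Subgroup G) (hQL : Q ≤ L) (hQp : IsPGroup p Q) (hQS : ¬ p ∣ Q.relIndex L) (hCQ : Subgroup.centralizer (Q : Set G) ≤ L) (θ : Cfsg.IrrCharacter K) (hθ : ∀ g : G, Cfsg.IsConjCharOf K g (θ : K → ℂ) (θ : K → ℂ)) (B : Set (Cfsg.IrrCharacter G)) (hBdef : ∀ χ : Cfsg.IrrCharacter G, χ ∈ B ↔ Cfsg.classInner (fun k : K => (χ : G → ℂ) k) (θ : K → ℂ) ≠ 0) : Cfsg.IsPBlock M B ∧ (∀ S : Sylow p G, Cfsg.IsDefectGroup p M B S) ∧ ∀ R : Subgroup G, IsPGroup p R → ∃! f : Set (Cfsg.IrrCharacter (Subgroup.centralizer (R : Set G))), Cfsg.IsInducedBlock M (Subgroup.centralizer (R : Set G)) f B := by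
  classical
  haveI hKn : K.Normal := hK ▸ pPrimeCore_normal p G
  subst hK hL
  have hinv : IsInvariant (pPrimeCore p G) (θ : pPrimeCore p G → ℂ) := fun g n => hθ g n _ rfl
  have hKp : ¬ p ∣ Nat.card (pPrimeCore p G) := CfsgLib.PCore.not_dvd_card_pPrimeCore
  have hBeq : B = overSet (pPrimeCore p G) θ := Set.ext fun χ => hBdef χ
  subst hBeq
  haveI := pCore_normal p (G ⧸ pPrimeCore p G)
  haveI hLn : (pPrimePCore p G).Normal := by unfold pPrimePCore; infer_instance
  have hKL : pPrimeCore p G ≤ pPrimePCore p G := CfsgLib.PCore.pPrimeCore_le_pPrimePCore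
  have hLp : ∀ x ∈ pPrimePCore p G, ∃ k : ℕ, x ^ p ^ k ∈ pPrimeCore p G := by
    intro x hx
    obtain ⟨k, hk⟩ := (CfsgLib.PCore.pCore_isPGroup (p := p) (G := G ⧸ pPrimeCore p G))
      ⟨QuotientGroup.mk' (pPrimeCore p G) x, hx⟩
    refine ⟨k, (QuotientGroup.eq_one_iff _).1 ?_⟩
    exact congrArg Subtype.val hk
  have hC : ∀ S : Sylow p (pPrimePCore p G),
      Subgroup.centralizer (((S : Subgroup (pPrimePCore p G)).map
        (pPrimePCore p G).subtype : Subgroup G) : Set G) ≤ pPrimePCore p G := by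
    intro S x hx
    obtain ⟨S₀, hS₀⟩ :=
      ((hQp.comap_of_injective _ (pPrimePCore p G).subtype_injective).exists_le_sylow :
        ∃ S₀ : Sylow p (pPrimePCore p G), Q.comap (pPrimePCore p G).subtype ≤ S₀)
    obtain ⟨l, hl⟩ := MulAction.exists_smul_eq (pPrimePCore p G) S₀ S
    have h : (l : G)⁻¹ * x * (l : G) ∈ pPrimePCore p G := by
      refine hCQ (Subgroup.mem_centralizer_iff.2 fun q hq => ?_)
      have hmem : (l : G) * q * (l : G)⁻¹ ∈
          (S : Subgroup (pPrimePCore p G)).map (pPrimePCore p G).subtype := by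
        refine ⟨l * ⟨q, hQL hq⟩ * l⁻¹, ?_, by simp⟩
        rw [← hl, Sylow.coe_subgroup_smul, Subgroup.pointwise_smul_def]
        exact ⟨⟨q, hQL hq⟩, hS₀ hq, rfl⟩
      have h1 := Subgroup.mem_centralizer_iff.1 hx _ hmem
      calc q * ((l : G)⁻¹ * x * l) = (l : G)⁻¹ * ((l * q * (l : G)⁻¹) * x) * l := by group
        _ = (l : G)⁻¹ * (x * (l * q * (l : G)⁻¹)) * l := by rw [h1]
        _ = (l : G)⁻¹ * x * l * q := by group
    have := mul_mem (mul_mem l.2 h) (inv_mem l.2)
    simpa [mul_assoc] using this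
  have hB := isPBlock_of_constrained hinv hM hKp hKL hLp hC
  refine ⟨hB, fun S => isDefectGroup_sylow hinv hM hKp hB S, fun R hR => ?_⟩
  refine existsUnique_inducing R (pPrimeCore p G) hM hinv hKp ?_ hB hR
  intro y hy
  have hQb : IsPGroup p (Q.map (QuotientGroup.mk' (pPrimeCore p G))) := hQp.map _
  have hle : Q.map (QuotientGroup.mk' (pPrimeCore p G)) ≤ pCore p (G ⧸ pPrimeCore p G) := by
    rintro _ ⟨q, hq, rfl⟩
    exact hQL hq
  have := Subgroup.centralizer_le (SetLike.coe_subset_coe.2 hle) hy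
  rw [← CfsgLib.Components.map_centralizer_quotient CfsgLib.PCore.pPrimeCore_coprime hQp] at this
  obtain ⟨x, hx, rfl⟩ := this
  exact hCQ hx

end Cfsg.Agent.S4642
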