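import Cfsg.Statements.S4644
import Cfsg.Agent.Lib.BPStar.Watanabe
import Cfsg.Agent.Lib.BrauerPairs.Induced

set_option autoImplicit false
open Cfsg

namespace Cfsg.Agent.S4644

/-- Let B be a block of the finite group G relative to a maximal ideal M of the algebraic integers containing the prime p, with a commutative defect group P; let c be a block of C_G(P) inducing B and T the stabilizer of c in N_G(P). Let u be an element of P fixed under conjugation by every element of T, H = C_G(u) (so C_G(P) ≤ H), and f the block of H induced by c inside H. Then B and f have the same p-regular rank and the same number of irreducible characters. -/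
theorem result {G : Type*} [Group G] [Finite G] (p : ℕ) [Fact p.Prime] (M : Ideal Cfsg.AlgInt) (hM : Cfsg.IsPModular p M) (B : Set (Cfsg.IrrCharacter G)) (hB : Cfsg.IsPBlock M B) (P : Subgroup G) (hPD : Cfsg.IsDefectGroup p M B P) (hPab : ∀ x ∈ P, ∀ y ∈ P, x * y = y * x) (c : Set (Cfsg.IrrCharacter (Subgroup.centralizer (P : Set G)))) (hc : Cfsg.IsInducedBlock M (Subgroup.centralizer (P : Set G)) c B) (T : Subgroup G) (hT : ∀ g : G, g ∈ T ↔ (g ∈ Subgroup.normalizer (P : Set G) ∧ Cfsg.StabilizesBlock (Subgroup.centralizer (P : Set G)) c g)) (u : G) (hu : u ∈ P) (huT : ∀ g ∈ T, g * u * g⁻¹ = u) (H : Subgroup G) (hH : H = Subgroup.centralizer ({u} : Set G)) (f : Set (Cfsg.IrrCharacter H)) (hf : Cfsg.IsInducedBlockIn M H (Subgroup.centralizer (P : Set G)) c f) : Cfsg.blockRank p B = Cfsg.blockRank p f ∧ Nat.card B = Nat.card f := by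
  classical
  have : M.IsMaximal := hM.2.1
  let _ : Fintype G := Fintype.ofFinite G
  let _ : Fintype H := Fintype.ofFinite H
  have := CfsgLib.BrauerPairs.charP_res hM
  have hPD' := (CfsgLib.BrauerPairs.isDefectGroup_iff hM hB P).1 hPD
  have hbp := CfsgLib.BrauerPairs.isBrauerPairOf_of_isInducedBlock hM hPD'.pgroup hc
  have hmax := (CfsgLib.BrauerPairs.isMaximalBrauerPair_iff hM B P c).2 ⟨hbp, hPD'⟩
  have hPc : P ≤ CfsgLib.BrauerPairs.cz P := CfsgLib.BPStar.le_cz_of_comm hPab
  have ctx : CfsgLib.BPStar.AbCtx hM B P c := ⟨hmax, hPc⟩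
  have hT' : ∀ g : G, g ∈ T ↔ g ∈ CfsgLib.BrauerPairs.pairStab P
      (CfsgLib.BrauerPairs.eA hM (CfsgLib.BrauerPairs.cz P) c) := fun g => by
    rw [hT g, CfsgLib.BrauerPairs.mem_pairStab]
    exact and_congr_right fun hg => CfsgLib.BrauerPairs.stabilizesBlock_iff_conjA hM
      (CfsgLib.BrauerPairs.normalizer_le_normalizer_cz P hg) hc.1
  have hHz : H = CfsgLib.BrauerPairs.cz (Subgroup.zpowers ((⟨u, hu⟩ : P) : G)) :=
    hH.trans (CfsgLib.CyclicDefectBound.centralizer_singleton_eq u)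
  have hPH : P ≤ H := hHz ▸ ctx.le_cz_zpowers ⟨u, hu⟩
  have hle : CfsgLib.BrauerPairs.cz P ≤ H :=
    hHz ▸ CfsgLib.BrauerPairs.cz_anti (Subgroup.zpowers_le.2 hu)
  have hK := CfsgLib.BrauerPairs.mem_cz_subgroupOf (H := H) hPH
  have hind := (CfsgLib.BrauerPairs.isInducedBlock_inside_iff hle hK f hc.1).1 hf
  obtain ⟨-, hfB, hO⟩ := (CfsgLib.BrauerPairs.isBrauerPairOf_iff hM f _ _).1
    (CfsgLib.BrauerPairs.isBrauerPairOf_of_isInducedBlock hM (P := P.subgroupOf H) hPD'.pgroup.comap_subtype hind)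
  refine ctx.watanabe (v := ⟨u, hu⟩) (fun t ht => huT t ((hT' t).2 ht)) hHz hfB ?_
  have h := congrArg (CfsgLib.BrauerPairs.inclA (CfsgLib.BrauerPairs.ResK M) H) hO.cover
  rw [map_mul, CfsgLib.BrauerPairs.inclA_brMap, Subgroup.map_subgroupOf_eq_of_le hPH,
    CfsgLib.BrauerPairs.inclA_eG, CfsgLib.BrauerPairs.inclA_eA hM hle hK] at h
  exact h

end Cfsg.Agent.S4644
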