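import Cfsg.Statements.S4650
import Cfsg.Agent.Lib.BrauerPairs.Inside
import Cfsg.Agent.Lib.BrauerPairs.Induced
import Cfsg.Agent.Lib.BrauerPairs.Normalizer
import Cfsg.Agent.Lib.Blocks.Brauer
import Cfsg.Agent.S4633

set_option autoImplicit false
open Cfsg
open CfsgLib CfsgLib.BrauerPairs MonoidAlgebra

namespace Cfsg.Agent.S4650

/-- Let B be a block of the finite group G relative to a maximal ideal M of the algebraic integers containing the prime p, with a nontrivial commutative defect group P; let c be a block of C_G(P) inducing B and T the stabilizer of c in N_G(P). Then T/C_G(P) acts freely on the non-identity elements of P (an element of T fixing a non-identity element of P under conjugation lies in C_G(P)) if and only if, for every nontrivial subgroup Q of P, the block of C_G(Q) induced by c inside C_G(Q) is a nilpotent block of C_G(Q). -/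
theorem result {G : Type*} [Group G] [Finite G] (p : ℕ) [Fact p.Prime] (M : Ideal Cfsg.AlgInt) (hM : Cfsg.IsPModular p M) (B : Set (Cfsg.IrrCharacter G)) (hB : Cfsg.IsPBlock M B) (P : Subgroup G) (hPD : Cfsg.IsDefectGroup p M B P) (hPab : ∀ x ∈ P, ∀ y ∈ P, x * y = y * x) (hP1 : P ≠ ⊥) (c : Set (Cfsg.IrrCharacter (Subgroup.centralizer (P : Set G)))) (hc : Cfsg.IsInducedBlock M (Subgroup.centralizer (P : Set G)) c B) (T : Subgroup G) (hT : ∀ g : G, g ∈ T ↔ (g ∈ Subgroup.normalizer (P : Set G) ∧ Cfsg.StabilizesBlock (Subgroup.centralizer (P : Set G)) c g)) : (∀ g ∈ T, ∀ x ∈ P, x ≠ 1 → g * x * g⁻¹ = x → g ∈ Subgroup.centralizer (P : Set G)) ↔ ∀ Q : Subgroup G, Q ≤ P → Q ≠ ⊥ → ∀ f : Set (Cfsg.IrrCharacter (Subgroup.centralizer (Q : Set G))), Cfsg.IsInducedBlockIn M (Subgroup.centralizer (Q : Set G)) (Subgroup.centralizer (P : Set G)) c f → Cfsg.IsNilpotentBlock p M f := by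
  classical
  have hp : p.Prime := Fact.out
  have : Fintype G := Fintype.ofFinite G
  let _ : ∀ K : Subgroup G, Fintype K := fun K => Fintype.ofFinite K
  haveI : M.IsMaximal := hM.2.1
  have := charP_res hM
  have hD0 := (isDefectGroup_iff hM hB P).1 hPD
  have hPp : IsPGroup p P := hD0.pgroup
  have hPC : P ≤ cz P := fun x hx => mem_cz.2 fun y hy => hPab y hy x hx
  obtain ⟨hcB, -, hO⟩ :=
    (isBrauerPairOf_iff hM B P c).1 (isBrauerPairOf_of_isInducedBlock hM hPp hc)
  have hb := isBlockIdem_eA hM hcB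
  have hEb := isBlockIdem_eG hM hB
  have hmemT : ∀ g : G, g ∈ T ↔ g ∈ Subgroup.normalizer (P : Set G) ∧
      conjA g (eA hM (cz P) c) = eA hM (cz P) c := fun g => (hT g).trans
    (and_congr_right fun hg => stabilizesBlock_iff_conjA hM (normalizer_le_normalizer_cz P hg) hcB)
  have hST : BrSetup p P (eA hM (cz P) c) T := setup_of_stab hM hPp hcB hT
  have hDS : IsDefect p P (eA hM (cz P) c) T P :=
    isDefect_local hM hB hST hO.cover hD0 hST.le (by rw [brMap_eq_self hb.supp]; exact hb.ne_zero)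
  constructor
  · intro hfree Q hQP hQ1 f hf
    have hPH : P ≤ cz Q := hPC.trans (cz_anti hQP)
    have hCH : cz P ≤ cz Q := cz_anti hQP
    have hQp : IsPGroup p Q := hPp.to_le hQP
    have hK := fun x : cz Q => mem_cz_subgroupOf hPH x
    have hind := (isInducedBlock_inside_iff hCH hK f hcB).1 hf
    have hfB : IsPBlock M f := hind.2.1
    obtain ⟨-, -, hOf⟩ := (isBrauerPairOf_iff hM f (P.subgroupOf (cz Q)) _).1
      (isBrauerPairOf_of_isInducedBlock hM (hPp.comap_subtype (K := cz Q)) hind)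
    have hfb := isBlockIdem_eA hM hfB
    have hS : BrSetup p Q (eA hM (cz Q) f) (cz Q) :=
      ⟨hQp, hfb, cz_le_normalizer Q, le_rfl, hQP.trans hPH, hfb.fixed⟩
    have hcov : brMap (ResK M) P (eA hM (cz Q) f) * eA hM (cz P) c = eA hM (cz P) c := by
      have h := congrArg (inclA (ResK M) (cz Q)) hOf.cover
      rw [map_mul, inclA_brMap, Subgroup.map_subgroupOf_eq_of_le hPH, inclA_eG,
        inclA_eA hM hCH hK] at h
      exact h
    have hOP : OverPair p Q (eA hM (cz Q) f) (cz Q) P (eA hM (cz P) c) :=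
      ⟨hPp, hQP, hPH, hb, hcov⟩
    have hstep : NormalSub p (Q, eA hM (cz Q) f) (P, eA hM (cz P) c) :=
      ⟨hQp, hPp, hfb, hb, hQP, hPH.trans (cz_le_normalizer Q), fixAlg_anti hPH hfb.fixed, hcov⟩
    have hQB : brMap (ResK M) Q (eG hM B) * eA hM (cz Q) f = eA hM (cz Q) f :=
      (brMap_cover_iff (Relation.ReflTransGen.single hstep) hEb.fixed hEb.idem).2 hO.cover
    have hDQ : IsDefect p Q (eA hM (cz Q) f) (cz Q) P :=
      isDefect_local hM hB hS hQB hD0 hPH (hS.brMap_ne_zero hOP)
    refine ⟨hfB, fun R e he x hxN hxst _ => ?_⟩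
    obtain ⟨heB, -, hOR⟩ := (isBrauerPairOf_iff hM f R e).1 he
    set R' : Subgroup G := R.map (cz Q).subtype with hR'
    have hR'H : R' ≤ cz Q := Subgroup.map_subtype_le _
    set R'' : Subgroup G := Q ⊔ R' with hR''
    have hR''H : R'' ≤ cz Q := sup_le (hQP.trans hPH) hR'H
    have hR''p : IsPGroup p R'' :=
      hQp.to_sup_of_normal_left' (hOR.pgroup.map _) (hR'H.trans (cz_le_normalizer Q))
    have hcz : cz R'' ≤ cz Q := cz_anti le_sup_left
    have hKR : ∀ y : cz Q, y ∈ cz R ↔ (y : G) ∈ cz R'' := by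
      intro y
      rw [mem_cz]
      constructor
      · intro h
        have hle : R'' ≤ Subgroup.centralizer ({(y : G)} : Set G) := sup_le
          (fun q hq => Subgroup.mem_centralizer_singleton_iff.2 ((mem_cz.1 y.2 q hq)))
          (by
            rintro _ ⟨r, hr, rfl⟩
            exact Subgroup.mem_centralizer_singleton_iff.2 (congrArg Subtype.val (h r hr)))
        exact mem_cz.2 fun r hr => Subgroup.mem_centralizer_singleton_iff.1 (hle hr)
      · intro h r hr
        exact Subtype.ext (mem_cz.1 h r (Subgroup.mem_sup_right ⟨r, hr, rfl⟩))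
    set h0 : MonoidAlgebra (ResK M) G := inclA (ResK M) (cz Q) (eA hM (cz R) e) with hh0
    have hblk : IsBlockIdem (cz R'') h0 := by
      have him : CharCorr.twistIrr (inEquiv hcz hKR) ''
          (CharCorr.twistIrr (inEquiv hcz hKR).symm '' e) = e := by
        rw [Set.image_image]
        simp only [twistIrr_symm, Set.image_id']
      rw [hh0, ← him, inclA_eA hM hcz hKR]
      exact isBlockIdem_eA hM (isPBlock_twist _ heB)
    have hover : OverPair p Q (eA hM (cz Q) f) (cz Q) R'' h0 := by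
      refine ⟨hR''p, le_sup_left, hR''H, hblk, ?_⟩
      rw [hR'', brMap_sup_of_supp hfb.supp, hR', hh0, ← inclA_eG, ← inclA_brMap, ← map_mul,
        hOR.cover]
    obtain ⟨t, ht, hle⟩ := hS.exists_conj_le (hasBlocks hM) hover hDQ hOP
    set x' : G := t * (x : G) * t⁻¹ with hx'
    set S : Subgroup G := R''.map (MulAut.conj t).toMonoidHom with hSdef
    have hSP : S ≤ P := hle.le
    have hQS : Q ≤ S := (hS.overPair_conj hover ht).le
    have hxh : conjA (x : G) h0 = h0 := by
      rw [hh0, ← inclA_conjA]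
      congr 1
      exact (stabilizesBlock_iff_conjA hM (normalizer_le_normalizer_cz R hxN) heB).1 hxst
    have hxR'' : R''.map (MulAut.conj (x : G)).toMonoidHom = R'' := by
      rw [hR'', Subgroup.map_sup, map_conj_eq_self (cz_le_normalizer Q x.2), hR', Subgroup.map_map]
      congr 1
      conv_rhs => rw [← map_conj_eq_self hxN]
      rw [Subgroup.map_map]
      rfl
    have hx'S : S.map (MulAut.conj x').toMonoidHom = S := by
      rw [hSdef, Subgroup.map_map]
      conv_rhs => rw [← hxR'']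
      rw [Subgroup.map_map]
      congr 1
      ext y
      simp [hx', mul_assoc]
    set h1 := conjA t h0 with hh1
    have hx'h : conjA x' h1 = h1 := by
      rw [hh1, ← conjA_mul_left, hx', inv_mul_cancel_right, conjA_mul_left, hxh]
    have hb1 : IsBlockIdem (cz S) h1 := (hS.overPair_conj hover ht).block
    have hSp : IsPGroup p S := hPp.to_le hSP
    have hPS : P ≤ cz S := hPC.trans (cz_anti hSP)
    have hS1 : BrSetup p S h1 (cz S) :=
      ⟨hSp, hb1, cz_le_normalizer S, le_rfl, hSP.trans hPS, hb1.fixed⟩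
    have hSc : brMap (ResK M) P h1 * eA hM (cz P) c = eA hM (cz P) c := by
      have hN : NormalSub p (S, h1) (P, eA hM (cz P) c) := by
        obtain ⟨g0, hg0⟩ := exists_normalSub (hasBlocks hM) hSP
          (hPS.trans (cz_le_normalizer S)) hPp hb
        have hu : g0 = h1 := pairLE_unique (hasBlocks hM) (b := (P, eA hM (cz P) c)) hb hPp
          (Relation.ReflTransGen.single hg0) hle
        exact hu ▸ hg0
      exact hN.cover
    have hSB : brMap (ResK M) S (eG hM B) * h1 = h1 :=
      (brMap_cover_iff hle hEb.fixed hEb.idem).2 hO.cover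
    have hOS : OverPair p S h1 (cz S) P (eA hM (cz P) c) := ⟨hPp, hSP, hPS, hb, hSc⟩
    have hDS1 : IsDefect p S h1 (cz S) P :=
      isDefect_local hM hB hS1 hSB hD0 hPS (hS1.brMap_ne_zero hOS)
    set P2 : Subgroup G := P.map (MulAut.conj x').toMonoidHom with hP2
    have hSP2 : S ≤ P2 := hx'S.ge.trans (Subgroup.map_mono hSP)
    have hP2S : P2 ≤ cz S := by
      refine (Subgroup.map_mono hPS).trans ?_
      rw [← cz_map_conj, hx'S]
    have hO2 : OverPair p S h1 (cz S) P2 (conjA x' (eA hM (cz P) c)) := by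
      refine ⟨hPp.map _, hSP2, hP2S, ?_, ?_⟩
      · rw [hP2, cz_map_conj]; exact hb.conjA x'
      · conv_lhs => rw [← hx'h]
        rw [hP2, ← conjA_brMap, ← conjA_mul, hSc]
    have hD2 : IsDefect p S h1 (cz S) P2 := isDefect_local hM hB hS1 hSB
      (hD0.conj (brSetup_block hM hB) (Subgroup.mem_top x')) hP2S (hS1.brMap_ne_zero hO2)
    obtain ⟨y, hy, hyP⟩ := hS1.isDefect_conj hDS1 hD2
    have hOy : OverPair p S h1 (cz S) P2 (conjA y (eA hM (cz P) c)) :=
      hyP ▸ hS1.overPair_conj hOS hy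
    obtain ⟨m, hm, hmc⟩ := hS1.exists_conj_eq hD2 hOy hO2
    have hgT : (m * y)⁻¹ * x' ∈ T := by
      refine (hmemT _).2 ⟨Subgroup.mem_normalizer_iff_map_conj_eq.2 ?_, ?_⟩
      · have h2 : P2 = P.map (MulAut.conj (m * y)).toMonoidHom := by
          conv_lhs => rw [← map_conj_eq_self hm.2, hyP, Subgroup.map_map]
          congr 1
          ext z
          simp [mul_assoc]
        have h3 := congrArg (Subgroup.map (MulAut.conj (m * y)⁻¹).toMonoidHom) h2
        rw [hP2, Subgroup.map_map, Subgroup.map_map] at h3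
        convert h3 using 2
        · ext z; simp [mul_assoc]
        · refine ((Subgroup.map_id P).symm.trans ?_)
          congr 1
          ext z; simp [mul_assoc]
      · rw [conjA_mul_left, ← hmc, ← conjA_mul_left m, ← conjA_mul_left, inv_mul_cancel,
          conjA_one_left]
    have hmy : m * y ∈ cz S := Subgroup.mul_mem _ hm.1 hy
    have hgQ : (m * y)⁻¹ * x' ∈ cz Q := Subgroup.mul_mem _
      (Subgroup.inv_mem _ (cz_anti hQS hmy))
      (Subgroup.mul_mem _ (Subgroup.mul_mem _ ht x.2) (Subgroup.inv_mem _ ht))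
    obtain ⟨⟨q, hq⟩, hq1⟩ := Subgroup.ne_bot_iff_exists_ne_one.1 hQ1
    have hgC : (m * y)⁻¹ * x' ∈ cz P := hfree _ hgT q (hQP hq) (fun h => hq1 (Subtype.ext h))
      (by rw [← mem_cz.1 hgQ q hq, mul_inv_cancel_right])
    have hx'C : x' ∈ cz S := by
      have h2 := Subgroup.mul_mem _ hmy (cz_anti hSP hgC)
      rwa [mul_inv_cancel_left] at h2
    rw [hSdef, mem_cz_map_conj_iff] at hx'C
    rw [show t⁻¹ * x' * t = (x : G) by simp [hx', mul_assoc]] at hx'C
    exact (hKR x).2 hx'C
  · intro hnil g hg u hu hu1 hgu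
    set Q : Subgroup G := Subgroup.zpowers u with hQ
    have hQP : Q ≤ P := Subgroup.zpowers_le.2 hu
    have hQ1 : Q ≠ ⊥ := by rwa [hQ, Ne, Subgroup.zpowers_eq_bot]
    have hgQ : g ∈ cz Q := by
      rw [mem_cz]
      intro q hq
      obtain ⟨i, rfl⟩ := Subgroup.mem_zpowers_iff.1 hq
      exact ((show Commute g u from mul_inv_eq_iff_eq_mul.1 hgu).zpow_right i).eq.symm
    have hPH : P ≤ cz Q := hPC.trans (cz_anti hQP)
    have hCH : cz P ≤ cz Q := cz_anti hQP
    have hK := fun x : cz Q => mem_cz_subgroupOf hPH x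
    have hc' := isPBlock_twist (M := M) (inEquiv hCH hK) hcB
    obtain ⟨f, hf⟩ := CfsgLib.Blocks.inducedBlockDefined (p := p) (H := cz (P.subgroupOf (cz Q))) hM
      (hPp.comap_subtype (K := cz Q))
      (fun x hx => (hK x).2 (hPC (Subgroup.mem_subgroupOf.1 hx))) le_rfl
      (cz_le_normalizer _) hc'
    have hN := hnil Q hQP hQ1 f ((isInducedBlock_inside_iff hCH hK f hcB).2 hf)
    have hpair := isBrauerPairOf_of_isInducedBlock hM (hPp.comap_subtype (K := cz Q)) hf
    have hgN : g ∈ Subgroup.normalizer (P : Set G) := hST.le_norm hg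
    set k := (orderOf g).factorization p
    set g0 : cz Q := ⟨g, hgQ⟩ ^ p ^ k with hg0
    have hg0T : (g0 : G) ∈ T := by
      rw [hg0, Subgroup.coe_pow]; exact T.pow_mem hg _
    have hg0N : g0 ∈ Subgroup.normalizer ((P.subgroupOf (cz Q) : Subgroup (cz Q)) : Set (cz Q)) := by
      rw [Subgroup.mem_normalizer_iff]
      intro z
      simp only [Subgroup.mem_subgroupOf, Subgroup.coe_mul, Subgroup.coe_inv]
      exact Subgroup.mem_normalizer_iff.1 (hST.le_norm hg0T) z
    have hreg : IsPRegular p g0 := by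
      rw [IsPRegular, ← Subgroup.orderOf_coe, hg0, Subgroup.coe_pow,
        orderOf_pow_of_dvd (pow_ne_zero _ hp.ne_zero) (Nat.ordProj_dvd _ _)]
      exact hp.coprime_iff_not_dvd.1 (Nat.coprime_ordCompl hp (orderOf_pos g).ne')
    have hstab : StabilizesBlock (cz (P.subgroupOf (cz Q)))
        (CharCorr.twistIrr (inEquiv hCH hK) '' c) g0 := by
      rw [stabilizesBlock_iff_conjA hM (normalizer_le_normalizer_cz _ hg0N) hc']
      apply inclA_injective (cz Q)
      rw [inclA_conjA, inclA_eA hM hCH hK]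
      exact hST.fixed _ hg0T
    have hpow : g ^ p ^ k ∈ cz P := by
      have h2 := (hK g0).1 (hN.2 _ _ hpair g0 hg0N hstab hreg)
      simpa [hg0] using h2
    haveI := hST
    have hndvd : ¬ p ∣ (cz P).relIndex T :=
      Cfsg.Agent.S4633.not_dvd_relIndex_of_trace hST hPC hDS
    haveI : ((cz P).subgroupOf T).Normal := by
      refine Subgroup.normal_subgroupOf_of_le_normalizer ?_
      exact hST.le_norm.trans (normalizer_le_normalizer_cz P)
    have hm : g ^ (cz P).relIndex T ∈ cz P := by
      have h1 : (((⟨g, hg⟩ : T) : T ⧸ (cz P).subgroupOf T)) ^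
          Nat.card (T ⧸ (cz P).subgroupOf T) = 1 := pow_card_eq_one'
      rw [← QuotientGroup.mk_pow, QuotientGroup.eq_one_iff, Subgroup.mem_subgroupOf] at h1
      simpa [Subgroup.relIndex, Subgroup.index] using h1
    have hcop : Nat.Coprime (p ^ k) ((cz P).relIndex T) :=
      (hp.coprime_iff_not_dvd.2 hndvd).pow_left k
    obtain ⟨a, b, hab⟩ := Int.isCoprime_iff_gcd_eq_one.2 (by rwa [Int.gcd_natCast_natCast] :
      Int.gcd ((p ^ k : ℕ) : ℤ) ((cz P).relIndex T : ℤ) = 1)
    rw [← zpow_one g, ← hab, zpow_add, zpow_mul', zpow_mul', zpow_natCast, zpow_natCast]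
    exact (cz P).mul_mem ((cz P).zpow_mem hpow a) ((cz P).zpow_mem hm b)

end Cfsg.Agent.S4650
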