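import Cfsg.Statements.S4645
import Cfsg.Agent.Lib.Blocks.CyclicInertial
import Cfsg.Agent.S4650
import Cfsg.Agent.Lib.BrauerPairs.LocalNilpotent
-- import your own Cfsg.Agent.* helpers here

set_option autoImplicit false
open Cfsg

open CfsgLib CfsgLib.BrauerPairs MonoidAlgebra

namespace Cfsg.Agent.S4645

/-- Let B be a block of the finite group G relative to a maximal ideal M of the algebraic integers containing the prime p, with a nontrivial cyclic defect group P; let c be a block of C_G(P) inducing B and T the stabilizer of c in N_G(P). Let Q be a nontrivial subgroup of P (so C_G(P) ≤ C_G(Q)), f the block of C_G(Q) induced by c inside C_G(Q), and T' the stabilizer of f in N_G(Q). Then T' = T·C_G(Q), the index of C_G(Q) in T' equals the index of C_G(P) in T, f has p-regular rank 1, and f is a nilpotent block of C_G(Q). -/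
theorem result {G : Type*} [Group G] [Finite G] (p : ℕ) [Fact p.Prime] (M : Ideal Cfsg.AlgInt) (hM : Cfsg.IsPModular p M) (B : Set (Cfsg.IrrCharacter G)) (hB : Cfsg.IsPBlock M B) (P : Subgroup G) (hPD : Cfsg.IsDefectGroup p M B P) (hP1 : P ≠ ⊥) (hcyc : IsCyclic P) (c : Set (Cfsg.IrrCharacter (Subgroup.centralizer (P : Set G)))) (hc : Cfsg.IsInducedBlock M (Subgroup.centralizer (P : Set G)) c B) (T : Subgroup G) (hT : ∀ g : G, g ∈ T ↔ (g ∈ Subgroup.normalizer (P : Set G) ∧ Cfsg.StabilizesBlock (Subgroup.centralizer (P : Set G)) c g)) (Q : Subgroup G) (hQP : Q ≤ P) (hQ1 : Q ≠ ⊥) (f : Set (Cfsg.IrrCharacter (Subgroup.centralizer (Q : Set G)))) (hf : Cfsg.IsInducedBlockIn M (Subgroup.centralizer (Q : Set G)) (Subgroup.centralizer (P : Set G)) c f) (T' : Subgroup G) (hT' : ∀ g : G, g ∈ T' ↔ (g ∈ Subgroup.normalizer (Q : Set G) ∧ Cfsg.StabilizesBlock (Subgroup.centralizer (Q : Set G)) f g)) : T' = T ⊔ Subgroup.centralizer (Q : Set G) ∧ (Subgroup.centralizer (Q : Set G)).relIndex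 T' = (Subgroup.centralizer (P : Set G)).relIndex T ∧ Cfsg.blockRank p f = 1 ∧ Cfsg.IsNilpotentBlock p M f := by
  classical
  have : Fintype G := Fintype.ofFinite G
  let _ : ∀ K : Subgroup G, Fintype K := fun K => Fintype.ofFinite K
  haveI : M.IsMaximal := hM.2.1
  have := charP_res hM
  have hD0 := (isDefectGroup_iff hM hB P).1 hPD
  have hPp : IsPGroup p P := hD0.pgroup
  have hab : ∀ x ∈ P, ∀ y ∈ P, x * y = y * x := fun x hx y hy => by
    have := hcyc
    obtain ⟨g, hg⟩ := IsCyclic.exists_generator (α := P)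
    obtain ⟨i, hi⟩ := Subgroup.mem_zpowers_iff.1 (hg ⟨x, hx⟩)
    obtain ⟨j, hj⟩ := Subgroup.mem_zpowers_iff.1 (hg ⟨y, hy⟩)
    have h1 := congrArg Subtype.val ((Commute.zpow_zpow_self g i j).eq)
    rw [hi, hj] at h1
    exact h1
  have hPC : P ≤ cz P := fun x hx => mem_cz.2 fun y hy => hab y hy x hx
  obtain ⟨hcB, -, hO⟩ :=
    (isBrauerPairOf_iff hM B P c).1 (isBrauerPairOf_of_isInducedBlock hM hPp hc)
  have hb := isBlockIdem_eA hM hcB
  have hST : BrSetup p P (eA hM (cz P) c) T := setup_of_stab hM hPp hcB hT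
  have hmemT : ∀ g : G, g ∈ T ↔ g ∈ Subgroup.normalizer (P : Set G) ∧
      conjA g (eA hM (cz P) c) = eA hM (cz P) c := fun g => (hT g).trans
    (and_congr_right fun hg => stabilizesBlock_iff_conjA hM (normalizer_le_normalizer_cz P hg) hcB)
  have hDS : IsDefect p P (eA hM (cz P) c) T P :=
    isDefect_local hM hB hST hO.cover hD0 hST.le (by rw [brMap_eq_self hb.supp]; exact hb.ne_zero)
  have hfree := CyclicDefectBound.free_of_cyclic hST hPC hDS hcyc
  have hPH : P ≤ cz Q := hPC.trans (cz_anti hQP)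
  have hCH : cz P ≤ cz Q := cz_anti hQP
  have hQp : IsPGroup p Q := hPp.to_le hQP
  have hnilf := (Cfsg.Agent.S4650.result p M hM B hB P hPD hab hP1 c hc T hT).1 hfree Q hQP hQ1 f hf
  -- the pair below `(P, c)`
  have hK := fun x : cz Q => mem_cz_subgroupOf hPH x
  have hind := (isInducedBlock_inside_iff hCH hK f hcB).1 hf
  have hfB : IsPBlock M f := hind.2.1
  obtain ⟨hc', -, hOf⟩ := (isBrauerPairOf_iff hM f (P.subgroupOf (cz Q)) _).1
    (isBrauerPairOf_of_isInducedBlock hM (hPp.comap_subtype (K := cz Q)) hind)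
  have hfb := isBlockIdem_eA hM hfB
  have hS : BrSetup p Q (eA hM (cz Q) f) (cz Q) :=
    ⟨hQp, hfb, cz_le_normalizer Q, le_rfl, hQP.trans hPH, hfb.fixed⟩
  have hcov : brMap (ResK M) P (eA hM (cz Q) f) * eA hM (cz P) c = eA hM (cz P) c := by
    have h := congrArg (inclA (ResK M) (cz Q)) hOf.cover
    rw [map_mul, inclA_brMap, Subgroup.map_subgroupOf_eq_of_le hPH, inclA_eG,
      inclA_eA hM hCH hK] at h
    exact h
  have hOP : OverPair p Q (eA hM (cz Q) f) (cz Q) P (eA hM (cz P) c) := ⟨hPp, hQP, hPH, hb, hcov⟩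
  have hstep : NormalSub p (Q, eA hM (cz Q) f) (P, eA hM (cz P) c) :=
    ⟨hQp, hPp, hfb, hb, hQP, hPH.trans (cz_le_normalizer Q), fixAlg_anti hPH hfb.fixed, hcov⟩
  have hle : PairLE p (Q, eA hM (cz Q) f) (P, eA hM (cz P) c) := Relation.ReflTransGen.single hstep
  have hQB : brMap (ResK M) Q (eG hM B) * eA hM (cz Q) f = eA hM (cz Q) f :=
    (brMap_cover_iff hle (isBlockIdem_eG hM hB).fixed (isBlockIdem_eG hM hB).idem).2 hO.cover
  have hDQ : IsDefect p Q (eA hM (cz Q) f) (cz Q) P :=
    isDefect_local hM hB hS hQB hD0 hPH (hS.brMap_ne_zero hOP)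
  have hTN : T ≤ Subgroup.normalizer (Q : Set G) := by
    intro g hg
    refine Fusion.mem_normalizer_of_forall fun x hx => ?_
    exact (Subgroup.zpowers_le.2 hx) (CyclicDefectBound.mem_zpowers_of_orderOf_eq hcyc (hQP hx)
      ((Subgroup.mem_normalizer_iff.1 (hST.le_norm hg) x).1 (hQP hx))
      ((MulAut.conj g).orderOf_eq x))
  have hmemT' : ∀ g : G, g ∈ T' ↔ g ∈ Subgroup.normalizer (Q : Set G) ∧
      conjA g (eA hM (cz Q) f) = eA hM (cz Q) f := fun g => (hT' g).trans
    (and_congr_right fun hg => stabilizesBlock_iff_conjA hM (normalizer_le_normalizer_cz Q hg) hfB)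
  have heqT : T' = T ⊔ cz Q := by
    refine le_antisymm (fun g hg => ?_) (sup_le (fun g hg => ?_) fun g hg =>
      (hmemT' g).2 ⟨cz_le_normalizer Q hg, hfb.fixed g hg⟩)
    · obtain ⟨hgN, hgf⟩ := (hmemT' g).1 hg
      have hmapQ : Q.map (MulAut.conj g).toMonoidHom = Q := map_conj_eq_self hgN
      have hO' : OverPair p Q (eA hM (cz Q) f) (cz Q) (P.map (MulAut.conj g).toMonoidHom)
          (conjA g (eA hM (cz P) c)) := by
        refine ⟨hPp.map _, hmapQ ▸ Subgroup.map_mono hQP, ?_, ?_, ?_⟩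
        · rintro _ ⟨z, hz, rfl⟩
          exact (Subgroup.mem_normalizer_iff.1 (normalizer_le_normalizer_cz Q hgN) z).1 (hPH hz)
        · rw [cz_map_conj]; exact hb.conjA g
        · conv_lhs => rw [← hgf]
          rw [← conjA_brMap, ← conjA_mul, hcov]
      obtain ⟨v, hv, hvle⟩ := hS.exists_conj_le (hasBlocks hM) hO' hDQ hOP
      have hcard : (conjPair v (P.map (MulAut.conj g).toMonoidHom, conjA g (eA hM (cz P) c))).1 = P :=
        Subgroup.eq_of_le_of_card_ge hvle.le (by
          show Nat.card P ≤ Nat.card ((P.map (MulAut.conj g).toMonoidHom).map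
            (MulAut.conj v).toMonoidHom : Subgroup G)
          rw [Subgroup.card_map_of_injective (MulAut.conj v).injective,
            Subgroup.card_map_of_injective (MulAut.conj g).injective])
      have heq : conjPair (v * g) (P, eA hM (cz P) c) = (P, eA hM (cz P) c) := by
        rw [conjPair_mul]
        refine Prod.ext hcard (pairLE_unique (hasBlocks hM) (b := (P, eA hM (cz P) c)) (Q := P) hb
          hPp ?_ Relation.ReflTransGen.refl)
        have h' := hvle
        rw [show conjPair v (P.map (MulAut.conj g).toMonoidHom, conjA g (eA hM (cz P) c)) =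
          (P, (conjPair v (P.map (MulAut.conj g).toMonoidHom, conjA g (eA hM (cz P) c))).2) from
            Prod.ext hcard rfl] at h'
        exact h'
      have hvg : v * g ∈ T := (hmemT _).2 ⟨Fusion.mem_normalizer_of_forall fun z hz =>
        (show P.map (MulAut.conj (v * g)).toMonoidHom = P from congrArg Prod.fst heq).le ⟨z, hz, rfl⟩,
        congrArg Prod.snd heq⟩
      rw [← inv_mul_cancel_left v g]
      exact Subgroup.mul_mem _ (Subgroup.mem_sup_right ((cz Q).inv_mem hv))
        (Subgroup.mem_sup_left hvg)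
    · obtain ⟨hgN, hge⟩ := (hmemT g).1 hg
      refine (hmemT' g).2 ⟨hTN hg, pairLE_unique (hasBlocks hM) (b := (P, eA hM (cz P) c)) hb hPp
        ?_ hle⟩
      have h' := hle.conj g
      rwa [show conjPair g (Q, eA hM (cz Q) f) = (Q, conjA g (eA hM (cz Q) f)) from
          Prod.ext (map_conj_eq_self (hTN hg)) rfl,
        show conjPair g (P, eA hM (cz P) c) = (P, eA hM (cz P) c) from
          Prod.ext (map_conj_eq_self hgN) hge] at h'
  obtain ⟨⟨q, hq⟩, hq1⟩ := Subgroup.ne_bot_iff_exists_ne_one.1 hQ1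
  have hfix : ∀ g ∈ T, g ∈ cz Q → g ∈ cz P := fun g hg hgQ =>
    hfree g hg q (hQP hq) (fun h => hq1 (Subtype.ext h))
      (by rw [← mem_cz.1 hgQ q hq, mul_inv_cancel_right])
  refine ⟨heqT, ?_, ?_, hnilf⟩
  · show (cz Q).relIndex T' = (cz P).relIndex T
    have hnorm : T ≤ Subgroup.normalizer ((cz Q : Subgroup G) : Set G) :=
      hTN.trans (normalizer_le_normalizer_cz Q)
    haveI : ((cz Q).subgroupOf T).Normal := Subgroup.normal_subgroupOf_of_le_normalizer hnorm
    haveI : ((cz Q).subgroupOf (T ⊔ cz Q)).Normal :=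
      Subgroup.normal_subgroupOf_of_le_normalizer (sup_le hnorm Subgroup.le_normalizer)
    have h1 : (cz Q).relIndex (T ⊔ cz Q) = (cz Q).relIndex T :=
      Nat.card_congr (QuotientGroup.quotientInfEquivProdNormalizerQuotient T (cz Q) hnorm).toEquiv.symm
    rw [heqT, h1, ← Subgroup.inf_relIndex_right (cz Q) T, ← Subgroup.inf_relIndex_right (cz P) T]
    congr 1
    exact le_antisymm (fun g hg => ⟨hfix g hg.2 hg.1, hg.2⟩) (inf_le_inf_right T hCH)
  · -- the rank
    set P' := P.subgroupOf (cz Q)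
    have hc0 := isPBlock_twist (M := M) (inEquiv hCH hK) hcB
    refine CyclicDefectBound.blockRank_eq_one (e := eA hM (cz P') (CharCorr.twistIrr (inEquiv hCH hK) '' c))
      hM hfB ?_ ?_ (isBlockIdem_eA hM hc0) hOf.cover ?_
    · rw [isDefectGroup_stabilizer_iff hM hS hfB rfl, Subgroup.map_subgroupOf_eq_of_le hPH]
      exact hDQ
    · have := hcyc
      exact isCyclic_of_injective (Subgroup.subgroupOfEquivOfLe hPH).toMonoidHom
        (Subgroup.subgroupOfEquivOfLe hPH).injective
    · intro g hgN hge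
      refine (hK g).2 (hfix _ ((hmemT _).2 ⟨?_, ?_⟩) g.2)
      · refine Fusion.mem_normalizer_of_forall fun z hz => ?_
        exact Subgroup.mem_subgroupOf.1
          ((Subgroup.mem_normalizer_iff.1 hgN ⟨z, hPH hz⟩).1 (Subgroup.mem_subgroupOf.2 hz))
      · rw [← inclA_eA hM hCH hK c, conjA_inclA, hge]

end Cfsg.Agent.S4645
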