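import Cfsg.Statements.S4651
import Cfsg.Agent.Lib.Blocks.LocalCount

set_option autoImplicit false
open Cfsg

namespace Cfsg.Agent.S4651

universe u

section Chains

variable {G : Type u} [Group G]

open scoped Classical

/-- The stabilizer of a chain. -/
def stab (s : Finset (Subgroup G)) : Subgroup G :=
  ⨅ Q ∈ s, Subgroup.normalizer ((Q : Subgroup G) : Set G)

theorem mem_stab {s : Finset (Subgroup G)} {g : G} :
    g ∈ stab s ↔ ∀ Q ∈ s, g ∈ Subgroup.normalizer ((Q : Subgroup G) : Set G) := by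
  simp [stab, Subgroup.mem_iInf]

/-- A chain of nontrivial `p`-subgroups, all normalised by their join. -/
structure Good (p : ℕ) (s : Finset (Subgroup G)) : Prop where
  chain : ∀ Q ∈ s, ∀ R ∈ s, Q ≤ R ∨ R ≤ Q
  pgroup : ∀ Q ∈ s, Q ≠ ⊥ ∧ IsPGroup p Q
  normal : ∀ Q ∈ s, s.sup id ≤ Subgroup.normalizer ((Q : Subgroup G) : Set G)

theorem sup_mem {s : Finset (Subgroup G)} (hch : ∀ Q ∈ s, ∀ R ∈ s, Q ≤ R ∨ R ≤ Q)
    (hne : s.Nonempty) : s.sup id ∈ s := by
  obtain ⟨T, hT⟩ := s.exists_maximal hne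
  have htop : s.sup id = T := by
    refine le_antisymm (Finset.sup_le fun Q hQ => ?_) (Finset.le_sup (f := id) hT.1)
    rcases hch Q hQ T hT.1 with h | h
    · exact h
    · exact hT.2 hQ h
  exact htop ▸ hT.1

theorem sup_cases {s : Finset (Subgroup G)} (hch : ∀ Q ∈ s, ∀ R ∈ s, Q ≤ R ∨ R ≤ Q) :
    s.sup id = ⊥ ∨ s.sup id ∈ s := by
  rcases s.eq_empty_or_nonempty with rfl | h
  · exact Or.inl Finset.sup_empty
  · exact Or.inr (sup_mem hch h)

theorem normalizer_inf_le_sup (A B : Subgroup G) :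
    Subgroup.normalizer (A : Set G) ⊓ Subgroup.normalizer (B : Set G) ≤
      Subgroup.normalizer ((A ⊔ B : Subgroup G) : Set G) := fun g hg => by
  rw [Subgroup.mem_normalizer_iff_map_conj_eq] at *
  rw [Subgroup.map_sup, Subgroup.mem_normalizer_iff_map_conj_eq.1 hg.1,
    Subgroup.mem_normalizer_iff_map_conj_eq.1 hg.2]

/-- The largest member avoiding `x`. -/
noncomputable def low (s : Finset (Subgroup G)) (x : G) : Subgroup G := (s.filter fun Q => x ∉ Q).sup id

/-- The closure of the conjugates of `x` under a subgroup. -/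
noncomputable def ncl (T : Subgroup G) (x : G) : Subgroup G := Subgroup.closure {y | ∃ t ∈ T, y = t * x * t⁻¹}

/-- The subgroup to be toggled. -/
noncomputable def pivot (s : Finset (Subgroup G)) (x : G) : Subgroup G :=
  low s x ⊔ ncl (s.sup id ⊔ Subgroup.zpowers x) x

/-- The toggle. -/
noncomputable def toggle (s : Finset (Subgroup G)) (x : G) : Finset (Subgroup G) :=
  if pivot s x ∈ s then s.erase (pivot s x) else insert (pivot s x) s

theorem self_mem_ncl (T : Subgroup G) (x : G) : x ∈ ncl T x :=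
  Subgroup.subset_closure ⟨1, one_mem _, by simp⟩

theorem ncl_le {T Q : Subgroup G} {x : G} (hx : x ∈ Q)
    (hT : T ≤ Subgroup.normalizer (Q : Set G)) : ncl T x ≤ Q := by
  refine (Subgroup.closure_le Q).2 ?_
  rintro _ ⟨t, ht, rfl⟩
  exact (Subgroup.mem_normalizer_iff.1 (hT ht) x).1 hx

theorem mem_normalizer_ncl {T : Subgroup G} {x g : G}
    (h : ∀ t ∈ T, ∃ t' ∈ T, g * (t * x * t⁻¹) * g⁻¹ = t' * x * t'⁻¹)
    (h' : ∀ t ∈ T, ∃ t' ∈ T, g⁻¹ * (t * x * t⁻¹) * g = t' * x * t'⁻¹) :
    g ∈ Subgroup.normalizer (ncl T x : Set G) := by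
  have key : ∀ a : G, (∀ t ∈ T, ∃ t' ∈ T, a * (t * x * t⁻¹) * a⁻¹ = t' * x * t'⁻¹) →
      ∀ y ∈ ncl T x, a * y * a⁻¹ ∈ ncl T x := by
    intro a ha
    have : (ncl T x).map (MulAut.conj a).toMonoidHom ≤ ncl T x := by
      rw [ncl, MonoidHom.map_closure, Subgroup.closure_le]
      rintro _ ⟨_, ⟨t, ht, rfl⟩, rfl⟩
      obtain ⟨t', ht', he⟩ := ha t ht
      exact Subgroup.subset_closure ⟨t', ht', he⟩
    exact fun y hy => this ⟨y, hy, rfl⟩
  rw [Subgroup.mem_normalizer_iff]
  refine fun y => ⟨key g h y, fun hy => ?_⟩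
  have := key g⁻¹ (fun t ht => by simpa using h' t ht) _ hy
  simpa [mul_assoc] using this

theorem le_normalizer_ncl (T : Subgroup G) (x : G) :
    T ≤ Subgroup.normalizer (ncl T x : Set G) := fun a ha =>
  mem_normalizer_ncl (fun t ht => ⟨a * t, mul_mem ha ht, by group⟩)
    (fun t ht => ⟨a⁻¹ * t, mul_mem (inv_mem ha) ht, by group⟩)

theorem centralizer_le_normalizer_ncl {T : Subgroup G} {x g : G} (hg : g * x = x * g)
    (hn : g ∈ Subgroup.normalizer (T : Set G)) : g ∈ Subgroup.normalizer (ncl T x : Set G) := by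
  have h1 : g⁻¹ * x * g = x := by rw [mul_assoc, ← hg, inv_mul_cancel_left]
  have h2 : g * x * g⁻¹ = x := by rw [hg, mul_inv_cancel_right]
  refine mem_normalizer_ncl (fun t ht => ⟨g * t * g⁻¹,
    (Subgroup.mem_normalizer_iff.1 hn t).1 ht, ?_⟩) (fun t ht => ⟨g⁻¹ * t * g, ?_, ?_⟩)
  · calc g * (t * x * t⁻¹) * g⁻¹ = g * t * (g⁻¹ * (g * x * g⁻¹) * g) * (g * t)⁻¹ := by group
      _ = g * t * (g⁻¹ * x * g) * (g * t)⁻¹ := by rw [h2]
      _ = g * t * g⁻¹ * x * (g * t * g⁻¹)⁻¹ := by group
  · exact (Subgroup.mem_normalizer_iff''.1 hn t).1 ht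
  · calc g⁻¹ * (t * x * t⁻¹) * g = g⁻¹ * t * (g * (g⁻¹ * x * g) * g⁻¹) * (g⁻¹ * t)⁻¹ := by group
      _ = g⁻¹ * t * (g * x * g⁻¹) * (g⁻¹ * t)⁻¹ := by rw [h1]
      _ = g⁻¹ * t * g * x * (g⁻¹ * t * g)⁻¹ := by group

variable {p : ℕ} [hp : Fact p.Prime] [Finite G] {s : Finset (Subgroup G)} {x : G}
  (hs : Good p s) (hx : x ∈ stab s) (hxp : ∃ k : ℕ, orderOf x = p ^ k)

omit hp [Finite G] in
theorem low_le_sup : low s x ≤ s.sup id := Finset.sup_mono (Finset.filter_subset _ _)

include hs

omit hp [Finite G] in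
theorem low_cases : low s x = ⊥ ∨ (low s x ∈ s ∧ x ∉ low s x) := by
  rcases sup_cases (s := s.filter fun Q => x ∉ Q) fun Q hQ R hR =>
      hs.chain Q (Finset.mem_filter.1 hQ).1 R (Finset.mem_filter.1 hR).1 with h | h
  · exact Or.inl h
  · exact Or.inr (Finset.mem_filter.1 h)

include hx

omit hp [Finite G] in
theorem top_le_normalizer {Q : Subgroup G} (hQ : Q ∈ s) :
    s.sup id ⊔ Subgroup.zpowers x ≤ Subgroup.normalizer (Q : Set G) :=
  sup_le (hs.normal Q hQ) (Subgroup.zpowers_le.2 (mem_stab.1 hx Q hQ))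

omit hp [Finite G] in
theorem pivot_le_top : pivot s x ≤ s.sup id ⊔ Subgroup.zpowers x :=
  sup_le (low_le_sup.trans le_sup_left)
    (ncl_le (Subgroup.mem_sup_right (Subgroup.mem_zpowers x)) Subgroup.le_normalizer)

omit hp [Finite G] in
theorem top_le_normalizer_pivot :
    s.sup id ⊔ Subgroup.zpowers x ≤ Subgroup.normalizer (pivot s x : Set G) := by
  refine (le_inf ?_ (le_normalizer_ncl _ _)).trans (normalizer_inf_le_sup _ _)
  rcases low_cases hs (x := x) with h | h
  · rw [h, Subgroup.normalizer_eq_top (⊥ : Subgroup G)]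
    exact le_top
  · exact top_le_normalizer hs hx h.1

omit hp [Finite G] in
theorem comparable {Q : Subgroup G} (hQ : Q ∈ s) :
    (x ∉ Q ∧ Q ≤ pivot s x) ∨ (x ∈ Q ∧ pivot s x ≤ Q) := by
  by_cases hxQ : x ∈ Q
  · refine Or.inr ⟨hxQ, sup_le ?_ (ncl_le hxQ (top_le_normalizer hs hx hQ))⟩
    rcases low_cases hs (x := x) with h | h
    · rw [h]; exact bot_le
    · rcases hs.chain _ h.1 Q hQ with h' | h'
      · exact h'
      · exact absurd (h' hxQ) h.2
  · exact Or.inl ⟨hxQ, le_sup_of_le_left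
      (Finset.le_sup (f := id) (Finset.mem_filter.2 ⟨hQ, hxQ⟩))⟩

omit hp [Finite G] in
theorem centralizer_le_normalizer_pivot {g : G} (hg : g ∈ stab s) (hgx : g * x = x * g) :
    g ∈ Subgroup.normalizer (pivot s x : Set G) := by
  refine normalizer_inf_le_sup _ _ ⟨?_, centralizer_le_normalizer_ncl hgx
    (normalizer_inf_le_sup _ _ ⟨?_, ?_⟩)⟩
  · rcases low_cases hs (x := x) with h | h
    · rw [h, Subgroup.normalizer_eq_top (⊥ : Subgroup G)]
      exact Subgroup.mem_top g
    · exact mem_stab.1 hg _ h.1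
  · rcases sup_cases hs.chain with h | h
    · rw [h, Subgroup.normalizer_eq_top (⊥ : Subgroup G)]
      exact Subgroup.mem_top g
    · exact mem_stab.1 hg _ h
  · refine Subgroup.centralizer_le_normalizer _ (Subgroup.mem_centralizer_iff.2 ?_)
    intro y hy
    obtain ⟨i, rfl⟩ := Subgroup.mem_zpowers_iff.1 hy
    exact ((Commute.zpow_right hgx i).eq).symm

/-- If the pivot is the top member, the top is generated by `low` and `x`. -/
theorem top_sup_eq (hQ : pivot s x ∈ s) (htop : s.sup id = pivot s x) :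
    s.sup id ⊔ Subgroup.zpowers x = low s x ⊔ Subgroup.zpowers x := by
  refine le_antisymm (sup_le (htop.le.trans ?_) le_sup_right)
    (sup_le (low_le_sup.trans le_sup_left) le_sup_right)
  by_contra hnot
  set T := pivot s x with hTdef
  have hYT : low s x ⊔ Subgroup.zpowers x ≤ T :=
    sup_le le_sup_left (Subgroup.zpowers_le.2 (Subgroup.mem_sup_right (self_mem_ncl _ _)))
  have hne : (low s x ⊔ Subgroup.zpowers x).subgroupOf T ≠ ⊤ := fun e =>
    hnot (Subgroup.subgroupOf_eq_top.1 e)
  obtain ⟨N, hN, hle⟩ := (eq_top_or_exists_le_coatom _).resolve_left hne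
  haveI := (hs.pgroup T hQ).2.isNilpotent
  haveI : N.Normal :=
    Subgroup.NormalizerCondition.normal_of_coatom N (Group.normalizerCondition_of_isNilpotent (G := T)) hN
  refine hN.1 (eq_top_iff.2 fun w _ => ?_)
  have hTN : T ≤ N.map T.subtype := by
    conv_lhs => rw [hTdef, pivot]
    refine sup_le ?_ (ncl_le ?_ ?_)
    · exact fun y hy => ⟨⟨y, hYT (Subgroup.mem_sup_left hy)⟩,
        hle (Subgroup.mem_subgroupOf.2 (Subgroup.mem_sup_left hy)), rfl⟩
    · exact ⟨⟨x, hYT (Subgroup.mem_sup_right (Subgroup.mem_zpowers x))⟩,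
        hle (Subgroup.mem_subgroupOf.2 (Subgroup.mem_sup_right (Subgroup.mem_zpowers x))), rfl⟩
    · have hxT : x ∈ T := hYT (Subgroup.mem_sup_right (Subgroup.mem_zpowers x))
      rw [htop, sup_eq_left.2 (Subgroup.zpowers_le.2 hxT)]
      intro t ht
      rw [Subgroup.mem_normalizer_iff]
      intro y
      constructor
      · rintro ⟨w, hw, rfl⟩
        exact ⟨⟨t, ht⟩ * w * ⟨t, ht⟩⁻¹, ‹N.Normal›.conj_mem w hw _, rfl⟩
      · rintro ⟨w, hw, hwe⟩
        refine ⟨⟨t, ht⟩⁻¹ * w * ⟨t, ht⟩, ?_, ?_⟩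
        · simpa using ‹N.Normal›.conj_mem w hw ⟨t, ht⟩⁻¹
        · simp only [map_mul, map_inv, hwe, Subgroup.subtype_apply]
          group
  obtain ⟨w', hw', hwe⟩ := hTN w.2
  obtain rfl : w' = w := Subtype.ext hwe
  exact hw'

theorem stab_toggle : Subgroup.centralizer ({x} : Set G) ⊓ stab (toggle s x) =
    Subgroup.centralizer ({x} : Set G) ⊓ stab s := by
  ext g
  simp only [Subgroup.mem_inf, mem_stab]
  refine and_congr_right fun hgx => ?_
  have hcomm := Subgroup.mem_centralizer_singleton_iff.1 hgx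
  constructor
  · intro h Q hQ
    by_cases he : Q = pivot s x
    · subst he
      rw [toggle, if_pos hQ] at h
      -- the erased member: normalised through the others
      have hlow : g ∈ Subgroup.normalizer (low s x : Set G) := by
        rcases low_cases hs (x := x) with h' | h'
        · rw [h', Subgroup.normalizer_eq_top (⊥ : Subgroup G)]
          exact Subgroup.mem_top g
        · refine h _ (Finset.mem_erase.2 ⟨fun e => h'.2 ?_, h'.1⟩)
          rw [e]
          exact Subgroup.mem_sup_right (self_mem_ncl _ _)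
      refine normalizer_inf_le_sup _ _ ⟨hlow, centralizer_le_normalizer_ncl hcomm ?_⟩
      by_cases htop : s.sup id = pivot s x
      · -- the top member is the pivot: it is generated by `low` and `x`
        have hgen := top_sup_eq hs hx hQ htop
        rw [hgen]
        refine normalizer_inf_le_sup _ _ ⟨hlow, ?_⟩
        refine Subgroup.centralizer_le_normalizer _ (Subgroup.mem_centralizer_iff.2 ?_)
        intro y hy
        obtain ⟨i, rfl⟩ := Subgroup.mem_zpowers_iff.1 hy
        exact ((Commute.zpow_right (hcomm : Commute g x) i).eq).symm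
      · refine normalizer_inf_le_sup _ _ ⟨?_, ?_⟩
        · exact h _ (Finset.mem_erase.2 ⟨htop, sup_mem hs.chain ⟨_, hQ⟩⟩)
        · refine Subgroup.centralizer_le_normalizer _ (Subgroup.mem_centralizer_iff.2 ?_)
          intro y hy
          obtain ⟨i, rfl⟩ := Subgroup.mem_zpowers_iff.1 hy
          exact ((Commute.zpow_right (hcomm : Commute g x) i).eq).symm
    · refine h Q ?_
      rw [toggle]
      split_ifs
      · exact Finset.mem_erase.2 ⟨he, hQ⟩
      · exact Finset.mem_insert_of_mem hQ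
  · intro h Q hQ
    rw [toggle] at hQ
    split_ifs at hQ
    · exact h Q (Finset.mem_of_mem_erase hQ)
    · rcases Finset.mem_insert.1 hQ with rfl | hQ
      · exact centralizer_le_normalizer_pivot hs hx (mem_stab.2 h) hcomm
      · exact h Q hQ

include hxp

theorem isPGroup_top : IsPGroup p (s.sup id ⊔ Subgroup.zpowers x : Subgroup G) := by
  obtain ⟨k, hk⟩ := hxp
  have hz : IsPGroup p (Subgroup.zpowers x) := IsPGroup.of_card (by rw [Nat.card_zpowers, hk])
  rcases sup_cases hs.chain with h | h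
  · rw [h, bot_sup_eq]; exact hz
  · exact (hs.pgroup _ h).2.to_sup_of_normal_left' hz (Subgroup.zpowers_le.2 (mem_stab.1 hx _ h))

theorem good_toggle (hx1 : x ≠ 1) : Good p (toggle s x) := by
  rw [toggle]
  split_ifs with h
  · exact ⟨fun Q hQ R hR => hs.chain Q (Finset.mem_of_mem_erase hQ) R (Finset.mem_of_mem_erase hR),
      fun Q hQ => hs.pgroup Q (Finset.mem_of_mem_erase hQ),
      fun Q hQ => (Finset.sup_mono (Finset.erase_subset _ _)).trans
        (hs.normal Q (Finset.mem_of_mem_erase hQ))⟩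
  · refine ⟨?_, ?_, ?_⟩
    · intro Q hQ R hR
      rcases Finset.mem_insert.1 hQ with rfl | hQ <;> rcases Finset.mem_insert.1 hR with rfl | hR
      · exact Or.inl le_rfl
      · rcases comparable hs hx hR with h' | h'
        · exact Or.inr h'.2
        · exact Or.inl h'.2
      · rcases comparable hs hx hQ with h' | h'
        · exact Or.inl h'.2
        · exact Or.inr h'.2
      · exact hs.chain Q hQ R hR
    · intro Q hQ
      rcases Finset.mem_insert.1 hQ with rfl | hQ
      · refine ⟨fun e => ?_, (isPGroup_top hs hx hxp).to_le (pivot_le_top hs hx)⟩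
        have hxbot : x ∈ pivot s x := Subgroup.mem_sup_right (self_mem_ncl _ _)
        rw [e, Subgroup.mem_bot] at hxbot
        exact hx1 hxbot
      · exact hs.pgroup Q hQ
    · intro Q hQ
      rw [Finset.sup_insert]
      have hle : id (pivot s x) ⊔ s.sup id ≤ s.sup id ⊔ Subgroup.zpowers x :=
        sup_le (pivot_le_top hs hx) le_sup_left
      rcases Finset.mem_insert.1 hQ with rfl | hQ
      · exact hle.trans (top_le_normalizer_pivot hs hx)
      · exact hle.trans (top_le_normalizer hs hx hQ)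

omit hp [Finite G] hxp in
theorem low_toggle : low (toggle s x) x = low s x := by
  have hmem : x ∈ pivot s x := Subgroup.mem_sup_right (self_mem_ncl _ _)
  unfold low toggle
  congr 1
  split_ifs
  · rw [Finset.filter_erase, Finset.erase_eq_of_notMem]
    exact fun h => (Finset.mem_filter.1 h).2 hmem
  · rw [Finset.filter_insert, if_neg (not_not.2 hmem)]

omit hxp in
theorem top_toggle : (toggle s x).sup id ⊔ Subgroup.zpowers x =
    s.sup id ⊔ Subgroup.zpowers x := by
  rw [toggle]
  split_ifs with h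
  · refine le_antisymm (sup_le_sup_right (Finset.sup_mono (Finset.erase_subset _ _)) _) ?_
    by_cases htop : s.sup id = pivot s x
    · rw [top_sup_eq hs hx h htop]
      refine sup_le_sup_right ?_ _
      rcases low_cases hs (x := x) with h' | h'
      · rw [h']; exact bot_le
      · refine Finset.le_sup (f := id) (Finset.mem_erase.2 ⟨fun e => h'.2 ?_, h'.1⟩)
        rw [show low s x = pivot s x from e]
        exact Subgroup.mem_sup_right (self_mem_ncl _ _)
    · exact sup_le_sup_right
        (Finset.le_sup (f := id) (Finset.mem_erase.2 ⟨htop, sup_mem hs.chain ⟨_, h⟩⟩)) _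
  · rw [Finset.sup_insert]
    refine le_antisymm (sup_le (sup_le (pivot_le_top hs hx) le_sup_left) le_sup_right) ?_
    exact sup_le_sup_right le_sup_right _

omit hxp in
theorem pivot_toggle : pivot (toggle s x) x = pivot s x := by
  rw [pivot, pivot, low_toggle hs hx, top_toggle hs hx]

omit hxp in
theorem toggle_toggle : toggle (toggle s x) x = s := by
  have h := pivot_toggle hs hx
  conv_lhs => rw [toggle, h]
  unfold toggle
  by_cases hmem : pivot s x ∈ s
  · rw [if_pos hmem, if_neg (Finset.notMem_erase _ _), Finset.insert_erase hmem]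
  · rw [if_neg hmem, if_pos (Finset.mem_insert_self _ _), Finset.erase_insert hmem]

omit hp [Finite G] hs hx hxp in
theorem toggle_sign : (-1 : ℤ) ^ (toggle s x).card = -(-1 : ℤ) ^ s.card := by
  rw [toggle]
  split_ifs with h
  · obtain ⟨n, hn⟩ : ∃ n, s.card = n + 1 := ⟨s.card - 1, by
      have := Finset.card_pos.2 ⟨_, h⟩; omega⟩
    rw [Finset.card_erase_of_mem h, hn, Nat.add_sub_cancel, pow_succ]
    ring
  · rw [Finset.card_insert_of_notMem h, pow_succ]
    ring

end Chains

open scoped Classical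

/-- An alternating-sum identity over chains of p-subgroups (the character-count form behind the chain reformulation of Alperin's weight conjecture, which holds unconditionally for the difference k − l). Let b be a block of the finite group G relative to a maximal ideal M of the algebraic integers containing the prime p. Consider the nonempty chains s = {Q_0 < Q_1 < ⋯ < Q_m} of nontrivial p-subgroups of G in which every member is normal in the largest member; let N_G(s) be the intersection of the normalizers of the members (the stabilizer of the chain), and let b_s be the set of irreducible characters of N_G(s) lying in blocks of N_G(s) that induce b. Then #G · (k(b) − l(b)) equals the sum over all such chains s of (−1)^m · #N_G(s) · (k(b_s) − l(b_s)), where k counts irreducible characters and l is the p-regular rank; equivalently, k(b) − l(b) is the alternating sum of k(b_s) − l(b_s) over representatives of the conjugacy classes of such chains. -/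
theorem result {G : Type*} [Group G] [Finite G] (p : ℕ) [Fact p.Prime] (M : Ideal Cfsg.AlgInt) (hM : Cfsg.IsPModular p M) (b : Set (Cfsg.IrrCharacter G)) (hb : Cfsg.IsPBlock M b) : (Nat.card G : ℤ) * ((Nat.card b : ℤ) - (Cfsg.blockRank p b : ℤ)) = ∑ᶠ s ∈ {s : Finset (Subgroup G) | s.Nonempty ∧ (∀ Q ∈ s, ∀ R ∈ s, Q ≤ R ∨ R ≤ Q) ∧ (∀ Q ∈ s, Q ≠ ⊥ ∧ IsPGroup p Q) ∧ ∃ T ∈ s, ∀ Q ∈ s, Q ≤ T ∧ T ≤ Subgroup.normalizer ((Q : Subgroup G) : Set G)}, (-1 : ℤ) ^ (s.card - 1) * (Nat.card (((⨅ Q ∈ s, Subgroup.normalizer ((Q : Subgroup G) : Set G) : Subgroup G))) : ℤ) * ((Nat.card {ψ : Cfsg.IrrCharacter (((⨅ Q ∈ s, Subgroup.normalizer ((Q : Subgroup G) : Set G) : Subgroup G))) | ∃ β : Set (Cfsg.IrrCharacter (((⨅ Q ∈ s, Subgroup.normalizer ((Q : Subgroup G) : Set G) : Subgroup G)))), ψ ∈ β ∧ Cfsg.IsInducedBlock M (((⨅ Q ∈ s, Subgroup.normalizer ((Q : Subgroup G) : Set G) : Subgroup G))) β b} : ℤ) - (Cfsg.blockRank p {ψ : Cfsg.IrrCharacter (((⨅ Q ∈ s, Subgroup.normalizer ((Q : Subgroup G) : Set G)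 : Subgroup G))) | ∃ β : Set (Cfsg.IrrCharacter (((⨅ Q ∈ s, Subgroup.normalizer ((Q : Subgroup G) : Set G) : Subgroup G)))), ψ ∈ β ∧ Cfsg.IsInducedBlock M (((⨅ Q ∈ s, Subgroup.normalizer ((Q : Subgroup G) : Set G) : Subgroup G))) β b} : ℤ)) := by
  classical
  haveI : Fintype G := Fintype.ofFinite G
  haveI : Fintype (Subgroup G) := Fintype.ofFinite _
  set W := CfsgLib.LocalCount.weight p M b
  -- the chains, with the empty one
  set S : Finset (Finset (Subgroup G)) := Finset.univ.filter fun s => Good p s with hSdef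
  set P := CfsgLib.LocalCount.singularPElts p G
  set T : Finset (Subgroup G) → ℤ := fun s =>
    ∑ y ∈ P.filter (· ∈ stab s), W (Subgroup.centralizer ({y} : Set G) ⊓ stab s) with hT
  have hzero : ∑ s ∈ S, (-1 : ℤ) ^ s.card * T s = 0 := by
    simp only [hT, Finset.mul_sum, Finset.sum_filter]
    rw [Finset.sum_comm]
    refine Finset.sum_eq_zero fun y hy => ?_
    obtain ⟨hyp, hy1⟩ := CfsgLib.LocalCount.mem_singularPElts.1 hy
    simp only [← Finset.sum_filter, mul_ite, mul_zero]
    refine Finset.sum_involution (fun s _ => toggle s y) ?_ ?_ ?_ ?_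
    · intro s hs
      obtain ⟨hsS, hys⟩ := Finset.mem_filter.1 hs
      have hg : Good p s := (Finset.mem_filter.1 hsS).2
      rw [toggle_sign, stab_toggle hg hys]
      ring
    · intro s hs hne he
      have h := congrArg (fun t : Finset (Subgroup G) => (-1 : ℤ) ^ t.card) he
      simp only [toggle_sign] at h
      have : (-1 : ℤ) ^ s.card = 0 := by linarith
      exact pow_ne_zero _ (by norm_num) this
    · intro s hs
      obtain ⟨hsS, hys⟩ := Finset.mem_filter.1 hs
      have hg : Good p s := (Finset.mem_filter.1 hsS).2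
      refine Finset.mem_filter.2 ⟨Finset.mem_filter.2 ⟨Finset.mem_univ _,
        good_toggle hg hys hyp hy1⟩, ?_⟩
      have h1 : y ∈ Subgroup.centralizer ({y} : Set G) ⊓ stab s :=
        ⟨Subgroup.mem_centralizer_singleton_iff.2 rfl, hys⟩
      rw [← stab_toggle hg hys] at h1
      exact h1.2
    · intro s hs
      obtain ⟨hsS, hys⟩ := Finset.mem_filter.1 hs
      exact toggle_toggle (Finset.mem_filter.1 hsS).2 hys
  have hempty : (∅ : Finset (Subgroup G)) ∈ S := Finset.mem_filter.2 ⟨Finset.mem_univ _,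
    fun Q hQ => absurd hQ (Finset.notMem_empty Q), fun Q hQ => absurd hQ (Finset.notMem_empty Q),
    fun Q hQ => absurd hQ (Finset.notMem_empty Q)⟩
  have hT0 : T ∅ = (Nat.card G : ℤ) * ((Nat.card b : ℤ) - (Cfsg.blockRank p b : ℤ)) := by
    rw [CfsgLib.LocalCount.card_mul_eq_sum_weight hM hb, hT]
    have : stab (∅ : Finset (Subgroup G)) = ⊤ := by simp [stab]
    simp only [this, Subgroup.mem_top, Finset.filter_true, inf_top_eq]
    rfl
  rw [← Finset.add_sum_erase S _ hempty, Finset.card_empty, pow_zero, one_mul, hT0] at hzero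
  rw [eq_neg_of_add_eq_zero_left hzero, ← Finset.sum_neg_distrib]
  rw [finsum_mem_eq_sum_of_inter_support_eq _ (t := S.erase ∅)]
  · refine Finset.sum_congr rfl fun s hs => ?_
    obtain ⟨n, hn⟩ : ∃ n, s.card = n + 1 := ⟨s.card - 1, by
      have := Finset.card_pos.2 (Finset.nonempty_iff_ne_empty.2 (Finset.mem_erase.1 hs).1); omega⟩
    haveI : Fintype (stab s) := Fintype.ofFinite _
    have h := CfsgLib.LocalCount.card_mul_subgroup hM (stab s) b
    rw [hn, Nat.add_sub_cancel, pow_succ, hT, mul_assoc, ← neg_mul, neg_one_mul, neg_mul_neg,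
      mul_assoc]
    dsimp only
    rw [← h]
    rfl
  · have hmem : ∀ s : Finset (Subgroup G), s ∈ S.erase ∅ ↔
        (s.Nonempty ∧ (∀ Q ∈ s, ∀ R ∈ s, Q ≤ R ∨ R ≤ Q) ∧ (∀ Q ∈ s, Q ≠ ⊥ ∧ IsPGroup p Q) ∧
          ∃ T ∈ s, ∀ Q ∈ s, Q ≤ T ∧ T ≤ Subgroup.normalizer ((Q : Subgroup G) : Set G)) := by
      intro s
      rw [Finset.mem_erase, hSdef, Finset.mem_filter, ← Finset.nonempty_iff_ne_empty]
      constructor
      · rintro ⟨hne, -, hg⟩
        exact ⟨hne, hg.chain, hg.pgroup, _, sup_mem hg.chain hne,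
          fun Q hQ => ⟨Finset.le_sup (f := id) hQ, hg.normal Q hQ⟩⟩
      · rintro ⟨hne, h1, h2, T', hT', h3⟩
        exact ⟨hne, Finset.mem_univ _, h1, h2,
          fun Q hQ => (Finset.sup_le fun R hR => (h3 R hR).1).trans (h3 Q hQ).2⟩
    ext s
    simp only [Set.mem_inter_iff, Finset.mem_coe, hmem]
    rfl

end Cfsg.Agent.S4651
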