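import Cfsg.Statements.S4652
import Cfsg.Agent.Lib.BrauerPairs.Bridge

set_option autoImplicit false
open Cfsg

namespace Cfsg.Agent.S4652

/-- Fix a prime p and a maximal ideal M of the algebraic integers containing p. The defect groups of the principal p-block of a finite group G are exactly the Sylow p-subgroups of G: a subgroup D is a defect group of the principal block if and only if D is a Sylow p-subgroup. -/
theorem result {G : Type*} [Group G] [Fintype G] (p : ℕ) [Fact p.Prime] (M : Ideal Cfsg.AlgInt) (hM : Cfsg.IsPModular p M) (D : Subgroup G) : Cfsg.IsDefectGroup p M (Cfsg.principalBlock M G) D ↔ ∃ S : Sylow p G, (S : Subgroup G) = D := by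
  haveI : M.IsMaximal := hM.2.1
  set B := Cfsg.principalBlock M G
  have h1B : CfsgLib.Characters.principalIrr G ∈ B :=
    CfsgLib.Blocks.mem_blockOf_self hM (CfsgLib.Characters.principalIrr G)
  have hidx : ∀ g, Cfsg.IsDefectClass M B g →
      ¬ p ∣ (Subgroup.centralizer ({g} : Set G)).index := by
    intro g hg hd
    apply hg.2.2 _ h1B
    have h := (CfsgLib.Blocks.memLocalIdeal_natCast_iff hM _).2 hd
    simpa [Cfsg.centralChar, CfsgLib.Characters.principalIrr] using h
  have hsyl : ∀ (g : G) (S : Sylow p (Subgroup.centralizer ({g} : Set G))),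
      ¬ p ∣ (Subgroup.centralizer ({g} : Set G)).index →
      Nat.card ((S : Subgroup _).map (Subgroup.centralizer ({g} : Set G)).subtype) =
        p ^ (Nat.card G).factorization p := by
    intro g S hg
    rw [Subgroup.card_map_of_injective (Subgroup.subtype_injective _), S.card_eq_multiplicity]
    congr 1
    conv_rhs => rw [← (Subgroup.centralizer ({g} : Set G)).card_mul_index]
    rw [Nat.factorization_mul Nat.card_pos.ne' Subgroup.index_ne_zero_of_finite, Finsupp.add_apply,
      Nat.factorization_eq_zero_of_not_dvd hg, add_zero]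
  constructor
  · rintro ⟨g, hg, S, rfl⟩
    exact ⟨Sylow.ofCard _ (hsyl g S (hidx g hg)), Sylow.coe_ofCard _ _⟩
  · rintro ⟨S, rfl⟩
    obtain ⟨g, hg⟩ := CfsgLib.BrauerPairs.exists_defectClass (G := G) hM
      (CfsgLib.Blocks.isPBlock_principalBlock M)
    obtain ⟨S0⟩ : Nonempty (Sylow p (Subgroup.centralizer ({g} : Set G))) := inferInstance
    obtain ⟨t, ht⟩ := MulAction.exists_smul_eq G (Sylow.ofCard _ (hsyl g S0 (hidx g hg))) S
    refine ⟨t * g * t⁻¹, CfsgLib.BrauerPairs.isDefectClass_conj hM hg t, ?_⟩
    have hle : (S : Subgroup G) ≤ Subgroup.centralizer ({t * g * t⁻¹} : Set G) := by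
      intro x hx
      rw [← ht] at hx
      obtain ⟨y, hy, rfl⟩ := hx
      have hy' : y ∈ (S0 : Subgroup _).map (Subgroup.centralizer ({g} : Set G)).subtype := hy
      have hyc := Subgroup.mem_centralizer_iff.1 (Subgroup.map_subtype_le _ hy') g rfl
      rw [Subgroup.mem_centralizer_iff]
      rintro _ rfl
      simp only [MulDistribMulAction.toMonoidEnd_apply, MulDistribMulAction.toMonoidHom_apply,
        MulAut.smul_def, MulAut.conj_apply]
      calc t * g * t⁻¹ * (t * y * t⁻¹) = t * (g * y) * t⁻¹ := by group
        _ = t * (y * g) * t⁻¹ := by rw [hyc]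
        _ = t * y * t⁻¹ * (t * g * t⁻¹) := by group
    refine ⟨S.subtype hle, ?_⟩
    rw [Sylow.coe_subtype, Subgroup.map_subgroupOf_eq_of_le hle]

end Cfsg.Agent.S4652
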