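import Cfsg.Statements.S4657
import Cfsg.Agent.Lib.BrauerPairs.Bridge

set_option autoImplicit false
open Cfsg

namespace Cfsg.Agent.S4657

/-- Fix a prime p and a maximal ideal M of the algebraic integers containing p. Every Brauer pair (P, e) of the finite group G is a Brauer pair of exactly one p-block B of G. -/
theorem result {G : Type*} [Group G] [Fintype G] (p : ℕ) [Fact p.Prime] (M : Ideal Cfsg.AlgInt) (hM : Cfsg.IsPModular p M) (P : Subgroup G) (e : Set (Cfsg.IrrCharacter (Subgroup.centralizer (P : Set G)))) (hPe : Cfsg.IsBrauerPair p M P e) : ∃! B : Set (Cfsg.IrrCharacter G), Cfsg.IsBrauerPairOf p M B P e := by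
  haveI : M.IsMaximal := hM.2.1
  have := CfsgLib.BrauerPairs.charP_res hM
  obtain ⟨hP, he⟩ := hPe
  obtain ⟨s, hs, hsum⟩ := CfsgLib.BrauerPairs.exists_eG_decomp hM G
  set h := CfsgLib.BrauerPairs.eA hM (Subgroup.centralizer (P : Set G)) e with hh
  have hb : CfsgLib.BrauerPairs.IsBlockIdem _ h := CfsgLib.BrauerPairs.isBlockIdem_eA hM he
  have hfix : ∀ B : Set (Cfsg.IrrCharacter G), Cfsg.IsPBlock M B →
      CfsgLib.BrauerPairs.eG hM B ∈
        CfsgLib.BrauerPairs.fixAlg (CfsgLib.BrauerPairs.ResK M) P := fun B hB =>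
    CfsgLib.BrauerPairs.fixAlg_anti le_top (CfsgLib.BrauerPairs.isBlockIdem_eG hM hB).fixed
  have hbr : ∀ B : Set (Cfsg.IrrCharacter G), Cfsg.IsPBlock M B →
      CfsgLib.BrauerPairs.brMap (CfsgLib.BrauerPairs.ResK M) P (CfsgLib.BrauerPairs.eG hM B) * h = 0 ∨
      CfsgLib.BrauerPairs.brMap (CfsgLib.BrauerPairs.ResK M) P (CfsgLib.BrauerPairs.eG hM B) * h = h := by
    intro B hB
    refine hb.mul_idem (CfsgLib.BrauerPairs.brMap_mem_suppAlg P _)
      (CfsgLib.BrauerPairs.brMap_mem_fixAlg (CfsgLib.BrauerPairs.cz_le_normalizer _)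
        (CfsgLib.BrauerPairs.fixAlg_anti le_top (CfsgLib.BrauerPairs.isBlockIdem_eG hM hB).fixed)) ?_
    rw [← CfsgLib.BrauerPairs.brMap_mul hP (hfix B hB) (hfix B hB),
      (CfsgLib.BrauerPairs.isBlockIdem_eG hM hB).idem]
  have hex : ∃ B, Cfsg.IsPBlock M B ∧
      CfsgLib.BrauerPairs.brMap (CfsgLib.BrauerPairs.ResK M) P (CfsgLib.BrauerPairs.eG hM B) * h = h := by
    by_contra hcon
    apply hb.ne_zero
    calc h = ∑ b ∈ s, CfsgLib.BrauerPairs.brMap (CfsgLib.BrauerPairs.ResK M) P b * h := by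
          rw [← Finset.sum_mul, ← map_sum, hsum, CfsgLib.BrauerPairs.brMap_one, one_mul]
      _ = 0 := Finset.sum_eq_zero fun b hbs => by
          obtain ⟨B, hB, rfl⟩ := hs b hbs
          exact (hbr B hB).resolve_right fun h1 => hcon ⟨B, hB, h1⟩
  obtain ⟨B, hB, hBh⟩ := hex
  refine ⟨B, (CfsgLib.BrauerPairs.isBrauerPairOf_iff hM B P e).2
    ⟨he, hB, hP, bot_le, le_top, hb, hBh⟩, fun B' h' => ?_⟩
  obtain ⟨-, hB', hO⟩ := (CfsgLib.BrauerPairs.isBrauerPairOf_iff hM B' P e).1 h'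
  by_contra hne
  apply hb.ne_zero
  have h0 : CfsgLib.BrauerPairs.eG hM B' * CfsgLib.BrauerPairs.eG hM B = 0 :=
    (CfsgLib.BrauerPairs.isBlockIdem_eG hM hB').mul_eq_zero
      (CfsgLib.BrauerPairs.isBlockIdem_eG hM hB) fun h1 =>
        hne (CfsgLib.BrauerPairs.eG_inj hM hB' hB h1)
  calc h = CfsgLib.BrauerPairs.brMap _ P (CfsgLib.BrauerPairs.eG hM B') *
        (CfsgLib.BrauerPairs.brMap _ P (CfsgLib.BrauerPairs.eG hM B) * h) := by rw [hBh]; exact hO.cover.symm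
    _ = 0 := by
      rw [← mul_assoc, ← CfsgLib.BrauerPairs.brMap_mul hP (hfix B' hB') (hfix B hB), h0,
        map_zero, zero_mul]

end Cfsg.Agent.S4657
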