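import Cfsg.Statements.S4656
import Cfsg.Agent.Lib.BrauerPairs.Bridge

set_option autoImplicit false
open Cfsg

namespace Cfsg.Agent.S4656

/-- Fix a prime p and a maximal ideal M of the algebraic integers containing p. Let (P, e) be a Brauer pair of the finite group G and Q a normal subgroup of P. Then there is exactly one p-block f of C_G(Q) that is stable under conjugation by P and such that e occurs in the Brauer-map image at P of the idempotent of f; that is, exactly one f with (Q, f) normally below (P, e). -/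
theorem result {G : Type*} [Group G] [Fintype G] (p : ℕ) [Fact p.Prime] (M : Ideal Cfsg.AlgInt) (hM : Cfsg.IsPModular p M) (P Q : Subgroup G) (e : Set (Cfsg.IrrCharacter (Subgroup.centralizer (P : Set G)))) (hPe : Cfsg.IsBrauerPair p M P e) (hQP : Q ≤ P) (hPN : P ≤ Subgroup.normalizer (Q : Set G)) : ∃! f : Set (Cfsg.IrrCharacter (Subgroup.centralizer (Q : Set G))), Cfsg.IsNormalSubpair p M Q f P e := by
  haveI : M.IsMaximal := hM.2.1
  have := CfsgLib.BrauerPairs.charP_res hM
  obtain ⟨hP, he⟩ := hPe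
  obtain ⟨f0, hf0⟩ := CfsgLib.BrauerPairs.exists_normalSub (CfsgLib.BrauerPairs.hasBlocks hM) hQP
    hPN hP (CfsgLib.BrauerPairs.isBlockIdem_eA hM he)
  obtain ⟨f, hf, hfe⟩ : ∃ f : Set (Cfsg.IrrCharacter (Subgroup.centralizer (Q : Set G))),
      Cfsg.IsPBlock M f ∧ CfsgLib.BrauerPairs.eA hM _ f = f0 :=
    CfsgLib.BrauerPairs.exists_eA_eq hM hf0.block_left
  subst hfe
  refine ⟨f, (CfsgLib.BrauerPairs.isNormalSubpair_iff hM Q P f e).2 ⟨hf, he, hf0⟩, fun f' h' => ?_⟩
  obtain ⟨hf', -, hN'⟩ := (CfsgLib.BrauerPairs.isNormalSubpair_iff hM Q P f' e).1 h'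
  exact CfsgLib.BrauerPairs.eA_inj hM hf' hf (CfsgLib.BrauerPairs.normalSub_unique hN' hf0)

end Cfsg.Agent.S4656
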