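import Cfsg.Statements.S4664
import Cfsg.Agent.Lib.Blocks.WeakOrth
import Cfsg.Agent.Lib.Characters.Galois
import Cfsg.Agent.Lib.Blocks.ClassCount
-- import your own Cfsg.Agent.* helpers here

set_option autoImplicit false
open Cfsg

namespace Cfsg.Agent.S4664

/-- Fix a prime p and a maximal ideal M of the algebraic integers containing p, and let B be a p-block of the finite group G. Let m be the p'-part of the order of G and η = exp(2πi/m). Then every coefficient of the idempotent of B lies in the cyclotomic field ℚ(η). -/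
theorem result {G : Type*} [Group G] [Fintype G] (p : ℕ) [Fact p.Prime] (M : Ideal Cfsg.AlgInt) (hM : Cfsg.IsPModular p M) (B : Set (Cfsg.IrrCharacter G)) (hB : Cfsg.IsPBlock M B) (g : G) : Cfsg.blockCoeff B g ∈ IntermediateField.adjoin ℚ ({Complex.exp (2 * Real.pi * Complex.I / ((Nat.card G / p ^ (Nat.card G).factorization p : ℕ) : ℂ))} : Set ℂ) := by
  classical
  by_cases hg : p ∣ orderOf g
  · rw [CfsgLib.Blocks.blockCoeff_eq_zero_of_singular hM hB hg]
    exact zero_mem _
  set m := Nat.card G / p ^ (Nat.card G).factorization p with hm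
  set K := IntermediateField.adjoin ℚ ({Complex.exp (2 * Real.pi * Complex.I / (m : ℂ))} : Set ℂ)
  have hm0 : m ≠ 0 := (Nat.ordCompl_pos p Nat.card_pos.ne').ne'
  have hζ := Complex.isPrimitiveRoot_exp m hm0
  haveI : NeZero m := ⟨hm0⟩
  have hdvd : orderOf g ∣ m := by
    refine (Nat.Coprime.dvd_of_dvd_mul_left ?_
      (by rw [hm, Nat.ordProj_mul_ordCompl_eq_self]; exact orderOf_dvd_natCard g :
        orderOf g ∣ p ^ (Nat.card G).factorization p * m))
    exact Nat.Coprime.pow_right _ (((Fact.out : p.Prime).coprime_iff_not_dvd.2 hg).symm)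
  have hval : ∀ χ : Cfsg.IrrCharacter G, (starRingEnd ℂ) ((χ : G → ℂ) g) ∈ K := by
    intro χ
    rw [← CfsgLib.Characters.irr_apply_inv χ g]
    obtain ⟨N, z, hz, hd⟩ := CfsgLib.CharGalois.exists_root_decomp
      (CfsgLib.CharGalois.isCharacter_comp (CfsgLib.Characters.irr_isCharacter χ)
        (Subgroup.zpowers g⁻¹).subtype) ⟨g⁻¹, Subgroup.mem_zpowers g⁻¹⟩
    have h1 := hd 1
    simp only [pow_one, Subgroup.coe_subtype] at h1
    rw [h1]
    refine sum_mem fun i _ => ?_
    have h2 : z i ^ m = 1 := by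
      obtain ⟨e, he⟩ := hdvd
      rw [he, pow_mul, ← orderOf_inv, ← Nat.card_zpowers, hz i, one_pow]
    obtain ⟨j, -, hj⟩ := hζ.eq_pow_of_pow_eq_one h2
    exact hj ▸ pow_mem (IntermediateField.mem_adjoin_simple_self ℚ _) j
  rw [Cfsg.blockCoeff, finsum_mem_eq_sum_of_inter_support_eq _
    (t := Finset.univ.filter (fun χ => χ ∈ B)) (by simp)]
  refine mul_mem (inv_mem (natCast_mem K _)) (sum_mem fun χ _ => mul_mem ?_ (hval χ))
  rw [(CfsgLib.ClassCount.degree_eq χ).1]
  exact natCast_mem K _

end Cfsg.Agent.S4664
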