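import Cfsg.Statements.S4665
import Cfsg.Agent.Lib.Characters.Decomp
import Mathlib.GroupTheory.Sylow

set_option autoImplicit false
open Cfsg

namespace Cfsg.Agent.S4665

open CfsgLib.Characters in
/-- The average over a `p`-subgroup of an integer combination of characters is an integer. -/
theorem sum_subgroup_eq {G : Type*} [Group G] [Fintype G] (P : Subgroup G) [Fintype P]
    (B : Set (Cfsg.IrrCharacter G)) (φ : G → ℂ)
    (h : ∃ n : Cfsg.IrrCharacter G → ℤ, ∀ g : G, φ g = ∑ᶠ ψ ∈ B, (n ψ : ℂ) * (ψ : G → ℂ) g) :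
    ∃ z : ℤ, ∑ y : P, φ (y : G) = (Nat.card P : ℂ) * z := by
  classical
  obtain ⟨n, hn⟩ := h
  have hone : ∀ ψ : Cfsg.IrrCharacter G, ∃ m : ℕ,
      ∑ y : P, (ψ : G → ℂ) (y : G) = (Nat.card P : ℂ) * m := by
    intro ψ
    obtain ⟨d, ρ, hρ⟩ := irr_isCharacter ψ
    obtain ⟨m, hm⟩ := classInner_char_nat (isCharacter_character (ρ.comp P.subtype))
      (isCharacter_one (G := P))
    refine ⟨m, ?_⟩
    have hc : (Nat.card P : ℂ) ≠ 0 := by simp
    rw [← hm, Cfsg.classInner, ← mul_assoc, mul_inv_cancel₀ hc, one_mul]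
    refine Finset.sum_congr rfl fun y _ => ?_
    rw [← hρ]
    simp [Representation.character]
  choose m hm using hone
  refine ⟨∑ ψ ∈ B.toFinset, n ψ * m ψ, ?_⟩
  simp only [hn, finsum_mem_eq_toFinset_sum]
  rw [Finset.sum_comm]
  push_cast
  rw [Finset.mul_sum]
  refine Finset.sum_congr rfl fun ψ _ => ?_
  rw [← Finset.mul_sum, hm]
  ring

/-- Fix a prime p, a maximal ideal M of the algebraic integers containing p, and a p-block B of the finite group G, and let p^a be the p-part of the order of G. Let χ be an integer combination of the irreducible characters in B. If the function that agrees with χ on p-regular elements and vanishes on p-singular elements is again an integer combination of the irreducible characters in B, then p^a divides χ(1). -/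
theorem result {G : Type*} [Group G] [Fintype G] (p : ℕ) [Fact p.Prime] (M : Ideal Cfsg.AlgInt) (hM : Cfsg.IsPModular p M) (B : Set (Cfsg.IrrCharacter G)) (hB : Cfsg.IsPBlock M B) (χ : G → ℂ) (hχ : (∃ n : Cfsg.IrrCharacter G → ℤ, ∀ g : G, χ g = ∑ᶠ ψ ∈ B, (n ψ : ℂ) * (ψ : G → ℂ) g)) (h0 : (∃ n : Cfsg.IrrCharacter G → ℤ, ∀ g : G, Cfsg.pRegularPart p χ g = ∑ᶠ ψ ∈ B, (n ψ : ℂ) * (ψ : G → ℂ) g)) : ∃ k : ℤ, χ 1 = (p ^ (Nat.card G).factorization p : ℂ) * k := by
  classical
  obtain ⟨S⟩ : Nonempty (Sylow p G) := inferInstance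
  have : Fintype (S : Subgroup G) := Fintype.ofFinite _
  obtain ⟨z, hz⟩ := sum_subgroup_eq (S : Subgroup G) B (Cfsg.pRegularPart p χ) h0
  refine ⟨z, ?_⟩
  rw [S.card_eq_multiplicity, Nat.cast_pow] at hz
  rw [← hz, Finset.sum_eq_single (1 : (S : Subgroup G))]
  · simp [Cfsg.pRegularPart, Cfsg.IsPRegular, (Fact.out : p.Prime).ne_one]
  · intro y _ hy
    obtain ⟨k, hk⟩ := IsPGroup.iff_orderOf.1 S.2 y
    rw [← Subgroup.orderOf_coe] at hk
    rcases k with _ | k
    · exact absurd (Subtype.ext (orderOf_eq_one_iff.1 (by simpa using hk))) hy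
    · simp [Cfsg.pRegularPart, Cfsg.IsPRegular, hk, pow_succ]
  · exact fun h => absurd (Finset.mem_univ _) h

end Cfsg.Agent.S4665
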