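import Cfsg.Statements.S4668
import Cfsg.Agent.Lib.Blocks.NormalPSubgroup
import Cfsg.Agent.Lib.Blocks.WeakOrth
import Cfsg.Agent.Lib.LocalEven.CharP

set_option autoImplicit false
open Cfsg

namespace Cfsg.Agent.S4668

/-- Fix a prime p and a maximal ideal M of the algebraic integers containing p. Let Q₀ < Q₁ < ⋯ < Q_m be a strictly increasing chain of p-subgroups of the finite group G and N the intersection of their normalizers. Then every block idempotent of N is supported on C_G(Q_m): for every p-block E of N, the idempotent coefficient of E vanishes at every element of N outside C_G(Q_m). -/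
theorem result {G : Type*} [Group G] [Fintype G] (p : ℕ) [Fact p.Prime] (M : Ideal Cfsg.AlgInt) (hM : Cfsg.IsPModular p M) (m : ℕ) (Q : Fin (m + 1) → Subgroup G) (hQ : StrictMono Q) (hQp : ∀ i, IsPGroup p (Q i)) (N : Subgroup G) (hN : ∀ g : G, g ∈ N ↔ ∀ i, g ∈ Subgroup.normalizer (Q i : Set G)) (E : Set (Cfsg.IrrCharacter N)) (hE : Cfsg.IsPBlock M E) (n : N) (hn : (n : G) ∉ Subgroup.centralizer (Q (Fin.last m) : Set G)) : Cfsg.blockCoeff E n = 0 := by
  classical
  let _ : Fintype N := Fintype.ofFinite N
  by_cases hreg : p ∣ orderOf n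
  · exact CfsgLib.Blocks.blockCoeff_eq_zero_of_singular hM hE hreg
  set R : Subgroup N := (Q (Fin.last m)).subgroupOf N with hR
  have hRn : R.Normal := ⟨fun x hx a =>
    (Subgroup.mem_normalizer_iff.1 ((hN a).1 a.2 (Fin.last m)) x).1 hx⟩
  refine CfsgLib.BlockNormalP.blockCoeff_eq_zero hM R (hQp (Fin.last m)).comap_subtype hE fun hnR => hn ?_
  have hcop : (orderOf (n : G)).Coprime p := by
    rw [Subgroup.orderOf_coe]
    exact (((Fact.out : p.Prime).coprime_iff_not_dvd).2 hreg).symm
  have hle : ∀ j, Q j ≤ Q (Fin.last m) := fun j => hQ.monotone (Fin.le_last j)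
  have hnQ : ∀ j, (n : G) ∈ Subgroup.normalizer (Q j : Set G) := (hN n).1 n.2
  have hfix : ∀ x : G, x ∈ Q (Fin.last m) → x ∈ N → (n : G) * x = x * n := fun x hx hxN =>
    (congrArg Subtype.val (Subgroup.mem_centralizer_iff.1 hnR ⟨x, hxN⟩ hx)).symm
  have key : ∀ i : Fin (m + 1), ∀ x ∈ Q i, (n : G) * x = x * n := by
    intro i
    induction i using Fin.induction with
    | zero =>
      intro x hx
      exact hfix x (hle 0 hx) ((hN x).2 fun j =>
        Subgroup.le_normalizer (hQ.monotone (Fin.zero_le j) hx))
    | succ i ih =>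
      refine CfsgLib.LocalEvenCharP.commute_of_fixes_centralizer (hQp i.succ) (hQp i.castSucc)
        ((hQ.monotone (Fin.castSucc_le_succ i)).trans Subgroup.le_normalizer) hcop (hnQ i.succ)
        ih fun x hx hxc => hfix x (hle i.succ hx) ((hN x).2 fun j => ?_)
      rcases le_or_gt j i.castSucc with hj | hj
      · rw [Subgroup.mem_normalizer_iff]
        intro y
        constructor
        · intro hy
          rw [← hxc y (hQ.monotone hj hy), mul_inv_cancel_right]
          exact hy
        · intro hy
          have h := hxc _ (hQ.monotone hj hy)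
          have h2 : y = x * y * x⁻¹ := by
            have h3 := congrArg (fun w => x⁻¹ * w) h
            simpa [mul_assoc] using h3
          rw [h2]
          exact hy
      · exact Subgroup.le_normalizer (hQ.monotone (Fin.castSucc_lt_iff_succ_le.1 hj) hx)
  exact Subgroup.mem_centralizer_iff.2 fun x hx => (key _ x hx).symm

end Cfsg.Agent.S4668
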