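import Cfsg.Statements.S4673
import Cfsg.Agent.Lib.BrauerPairs.NormalSubgroup

set_option autoImplicit false
open Cfsg

namespace Cfsg.Agent.S4673

/-- Fix a prime p and a maximal ideal M of the algebraic integers containing p. Let N ≤ L be normal subgroups of the finite group G with L/N a p-group, let B be a p-block of G covering the p-block c of N (some member of B has a constituent in c on restriction to N), and suppose that N contains a defect group of B. Then the stabilizer T of c in G satisfies T ∩ L = N. -/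
theorem result {G : Type*} [Group G] [Fintype G] (p : ℕ) [Fact p.Prime] (M : Ideal Cfsg.AlgInt) (hM : Cfsg.IsPModular p M) (N L : Subgroup G) [N.Normal] [L.Normal] [Fintype N] (hNL : N ≤ L) (hLN : ∃ k : ℕ, (N.subgroupOf L).index = p ^ k) (B : Set (Cfsg.IrrCharacter G)) (hB : Cfsg.IsPBlock M B) (c : Set (Cfsg.IrrCharacter N)) (hc : Cfsg.IsPBlock M c) (hcov : (∃ χ ∈ B, ∃ θ ∈ c, Cfsg.classInner (fun n : N => (χ : G → ℂ) n) (θ : N → ℂ) ≠ 0)) (hD : ∃ D : Subgroup G, Cfsg.IsDefectGroup p M B D ∧ D ≤ N) (T : Subgroup G) (hT : ∀ x : G, x ∈ T ↔ Cfsg.StabilizesBlock N c x) : T ⊓ L = N := by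
  classical
  have : M.IsMaximal := hM.2.1
  have := CfsgLib.BrauerPairs.charP_res hM
  have hnorm : ∀ x : G, x ∈ Subgroup.normalizer (N : Set G) := fun x => by
    rw [Subgroup.normalizer_eq_top]; trivial
  obtain ⟨k, hk⟩ := hLN
  obtain ⟨D, hD, hDN⟩ := hD
  refine le_antisymm (fun x hx => ?_) (fun x hx => ⟨(hT x).2 ?_, hNL hx⟩)
  · exact CfsgLib.BrauerPairs.mem_of_stabilizes N hM hB hc
      (CfsgLib.BrauerPairs.mul_ne_zero_of_covers N hM hB hc hcov) hNL hk hD hDN hx.2
      ((CfsgLib.BrauerPairs.stabilizesBlock_iff_conjA hM (hnorm x) hc).1 ((hT x).1 hx.1))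
  · exact (CfsgLib.BrauerPairs.stabilizesBlock_iff_conjA hM (hnorm x) hc).2
      ((CfsgLib.BrauerPairs.isBlockIdem_eA hM hc).fixed x hx)

end Cfsg.Agent.S4673
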