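import Cfsg.Statements.S4674
import Cfsg.Agent.Lib.BrauerPairs.HarrisKnorr

set_option autoImplicit false
open Cfsg

namespace Cfsg.Agent.S4674

/-- Fix a prime p and a maximal ideal M of the algebraic integers containing p. Let N be a normal subgroup of the finite group G, Q a p-subgroup of N, H = N_G(Q) and L = H ∩ N = N_N(Q). Let d be a p-block of N with defect group Q and e the p-block of L with defect group Q that induces d inside N (its Brauer correspondent). Then block induction from H to G is a bijection from the p-blocks of H covering e onto the p-blocks of G covering d: every block of H covering e induces exactly one block of G, and that block covers d; and every block of G covering d is induced by exactly one block of H covering e. -/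
theorem result {G : Type*} [Group G] [Fintype G] (p : ℕ) [Fact p.Prime] (M : Ideal Cfsg.AlgInt) (hM : Cfsg.IsPModular p M) (N : Subgroup G) [N.Normal] [Fintype N] (Q : Subgroup G) (hQ : IsPGroup p Q) (hQN : Q ≤ N) [Fintype ↥(Subgroup.normalizer (Q : Set G) ⊓ N)] (d : Set (Cfsg.IrrCharacter N)) (hd : Cfsg.IsPBlock M d) (hdQ : Cfsg.IsDefectGroup p M d (Q.subgroupOf N)) (e : Set (Cfsg.IrrCharacter ↥(Subgroup.normalizer (Q : Set G) ⊓ N))) (he : Cfsg.IsPBlock M e) (heQ : Cfsg.IsDefectGroup p M e (Q.subgroupOf (Subgroup.normalizer (Q : Set G) ⊓ N))) (hed : Cfsg.IsInducedBlockIn M N (Subgroup.normalizer (Q : Set G) ⊓ N) e d) : (∀ c : Set (Cfsg.IrrCharacter ↥(Subgroup.normalizer (Q : Set G))), Cfsg.IsPBlock M c → (∃ ψ ∈ c, ∃ ξ ∈ e, Cfsg.classInner (fun l : ↥(Subgroup.normalizer (Q : Set G) ⊓ N) => (ψ : ↥(Subgroup.normalizer (Q : Set G)) → ℂ) (Subgroup.inclusion inf_le_left l)) (ξ : ↥(Subgroup.normalizer (Q : Set G) ⊓ N) → ℂ) ≠ 0) → ∃! B : Set (Cfsg.IrrCharacter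 G), Cfsg.IsInducedBlock M (Subgroup.normalizer (Q : Set G)) c B ∧ (∃ χ ∈ B, ∃ θ ∈ d, Cfsg.classInner (fun n : N => (χ : G → ℂ) n) (θ : N → ℂ) ≠ 0)) ∧ (∀ B : Set (Cfsg.IrrCharacter G), Cfsg.IsPBlock M B → (∃ χ ∈ B, ∃ θ ∈ d, Cfsg.classInner (fun n : N => (χ : G → ℂ) n) (θ : N → ℂ) ≠ 0) → ∃! c : Set (Cfsg.IrrCharacter ↥(Subgroup.normalizer (Q : Set G))), (Cfsg.IsPBlock M c ∧ ∃ ψ ∈ c, ∃ ξ ∈ e, Cfsg.classInner (fun l : ↥(Subgroup.normalizer (Q : Set G) ⊓ N) => (ψ : ↥(Subgroup.normalizer (Q : Set G)) → ℂ) (Subgroup.inclusion inf_le_left l)) (ξ : ↥(Subgroup.normalizer (Q : Set G) ⊓ N) → ℂ) ≠ 0) ∧ Cfsg.IsInducedBlock M (Subgroup.normalizer (Q : Set G)) c B) := by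
  classical
  have : M.IsMaximal := hM.2.1
  have := CfsgLib.BrauerPairs.charP_res hM
  let _ : Fintype ↥(Subgroup.normalizer (Q : Set G)) := Fintype.ofFinite _
  open CfsgLib.BrauerPairs in
  have hde := HarrisKnorr.brMap_correspondent N hM hQ hQN hd he heQ hed
  open CfsgLib.BrauerPairs in
  refine ⟨fun c hc hcov => ?_, fun B hB hcov => ?_⟩
  · have hne := (HarrisKnorr.covers_iff N hM hc he).1 hcov
    obtain ⟨B, hB, hBc⟩ := HarrisKnorr.exists_block_over hM hQ hc
    have hind := HarrisKnorr.isInducedBlock_of_mul_eq hM hQ hc hB hBc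
    refine ⟨B, ⟨hind, covers_of_mul_ne_zero N hM hB hd fun h0 => hne ?_⟩,
      fun B' hB' => CfsgLib.Blocks.IsInducedBlock.unique hM hB'.1 hind⟩
    have h1 := congrArg (brMap (ResK M) Q) h0
    rw [map_zero, brMap_mul hQ (fixAlg_anti le_top (isBlockIdem_eG hM hB).fixed)
      (fixAlg_anti hQN (isBlockIdem_eA hM hd).fixed), hde] at h1
    have hcomm : brMap (ResK M) Q (eG hM B) * eA hM (Subgroup.normalizer (Q : Set G)) c =
        eA hM (Subgroup.normalizer (Q : Set G)) c * brMap (ResK M) Q (eG hM B) :=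
      (commute_of_supp_fix (suppAlg_mono (cz_le_normalizer Q) (brMap_mem_suppAlg Q _))
        (isBlockIdem_eA hM hc).fixed).eq
    rw [← hBc, hcomm, mul_assoc, h1, mul_zero]
  · have hne := HarrisKnorr.brMap_mul_ne_zero N hM hQN hB hd hdQ
      (mul_ne_zero_of_covers N hM hB hd hcov)
    rw [brMap_mul hQ (fixAlg_anti le_top (isBlockIdem_eG hM hB).fixed)
      (fixAlg_anti hQN (isBlockIdem_eA hM hd).fixed), hde] at hne
    obtain ⟨s, hs, hsum⟩ := hasBlocks hM (G := G) (Subgroup.normalizer (Q : Set G))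
    obtain ⟨f, hfs, hf⟩ : ∃ f ∈ s, brMap (ResK M) Q (eG hM B) * f *
        eA hM (Subgroup.normalizer (Q : Set G) ⊓ N) e ≠ 0 := by
      by_contra hcon
      simp only [not_exists, not_and, not_not] at hcon
      refine hne ?_
      rw [← mul_one (brMap (ResK M) Q (eG hM B)), ← hsum, Finset.mul_sum, Finset.sum_mul]
      exact Finset.sum_eq_zero hcon
    obtain ⟨c, hc, rfl⟩ := exists_eA_eq hM (hs f hfs)
    have hBc := (HarrisKnorr.brMap_mul_cases hM hQ hc hB).resolve_left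
      fun h => hf (by rw [h, zero_mul])
    rw [hBc] at hf
    refine ⟨c, ⟨⟨hc, (HarrisKnorr.covers_iff N hM hc he).2 hf⟩,
      HarrisKnorr.isInducedBlock_of_mul_eq hM hQ hc hB hBc⟩, fun c' hc' => ?_⟩
    obtain ⟨⟨hcb, hcv⟩, hi⟩ := hc'
    exact HarrisKnorr.eq_of_induced_eq N hM hQ hQN he heQ hB hcb hc
      ((HarrisKnorr.covers_iff N hM hcb he).1 hcv) hf
      (HarrisKnorr.mul_eq_of_isInducedBlock hM hQ hi) hBc

end Cfsg.Agent.S4674
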