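import Cfsg.Statements.S4679
import Cfsg.Agent.Lib.BrauerPairs.SystemBridge

set_option autoImplicit false
open Cfsg

namespace Cfsg.Agent.S4679

/-- Fix a prime p and a maximal ideal M of the algebraic integers containing p, a p-block B of the finite group G with maximal Brauer pair (P, e), its fusion system F on P, a Brauer pair (Q, f) ≤ (P, e), and let T be the stabilizer of f in N_G(Q). Then Q is fully normalized in F if and only if N_P(Q) is a defect group of the block of T whose idempotent is that of f. -/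
theorem result {G : Type*} [Group G] [Fintype G] (p : ℕ) [Fact p.Prime] (M : Ideal Cfsg.AlgInt) (hM : Cfsg.IsPModular p M) (B : Set (Cfsg.IrrCharacter G)) (P : Subgroup G) (e : Set (Cfsg.IrrCharacter (Subgroup.centralizer (P : Set G)))) (hmax : Cfsg.IsMaximalBrauerPair p M B P e) (F : Cfsg.FusionSystem P) (hF : Cfsg.IsBlockFusionSystemOn p M B P e F) (Q : Subgroup G) (f : Set (Cfsg.IrrCharacter (Subgroup.centralizer (Q : Set G)))) (hQP : Q ≤ P) (hf : Cfsg.IsPBlock M f) (hle : Cfsg.SubpairLE p M Q f P e) (T : Subgroup G) (hT : ∀ y : G, y ∈ T ↔ y ∈ Subgroup.normalizer (Q : Set G) ∧ Cfsg.StabilizesBlock (Subgroup.centralizer (Q : Set G)) f y) : F.IsFullyNormalized Q ↔ ∃ F' : Set (Cfsg.IrrCharacter T), Cfsg.IsPBlock M F' ∧ (∀ t : T, Cfsg.blockCoeff F' t = Cfsg.subgroupBlockCoeff (Subgroup.centralizer (Q : Set G)) f (t : G)) ∧ Cfsg.IsDefectGroup p M F' ((P ⊓ Subgroup.normalizer (Q : Set G)).subgroupOf T) := by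
  have : M.IsMaximal := hM.2.1
  have := CfsgLib.BrauerPairs.charP_res hM
  obtain ⟨hP, hD⟩ := (CfsgLib.BrauerPairs.isMaximalBrauerPair_iff hM B P e).1 hmax
  obtain ⟨he, hB, hOP⟩ := (CfsgLib.BrauerPairs.isBrauerPairOf_iff hM B P e).1 hP
  have hpair := (CfsgLib.BrauerPairs.subpairLE_iff hM hf he).1 hle
  have hsys := CfsgLib.BrauerPairs.isPairSystem_of_isBlockFusionSystemOn hM hF
  have hS := CfsgLib.BrauerPairs.setup_of_stab hM (hOP.pgroup.to_le hQP) hf hT
  have hfull : CfsgLib.BrauerPairs.pairStab Q (CfsgLib.BrauerPairs.eA hM _ f) ≤ T := fun y hy =>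
    (hT y).2 ⟨hy.1, (CfsgLib.BrauerPairs.stabilizesBlock_iff_conjA hM
      (CfsgLib.BrauerPairs.normalizer_le_normalizer_cz Q hy.1) hf).2 hy.2⟩
  have hmap : ∀ h : P ⊓ Subgroup.normalizer (Q : Set G) ≤ T,
      ((P ⊓ Subgroup.normalizer (Q : Set G)).subgroupOf T).map T.subtype =
        Cfsg.FusionSystem.normalizerIn P Q := fun h => Subgroup.map_subgroupOf_eq_of_le h
  constructor
  · intro hn
    have hdef := hsys.isDefect_normalizerIn (CfsgLib.BrauerPairs.hasBlocks hM)
      (CfsgLib.BrauerPairs.brSetup_block hM hB) hD hOP hpair hS hfull hn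
    obtain ⟨F', hF', hFc, hFe⟩ := CfsgLib.BrauerPairs.exists_stabilizer_block hM hf hS
    exact ⟨F', hF', hFc, (CfsgLib.BrauerPairs.isDefectGroup_stabilizer_iff hM hS hF' hFe _).2
      (by rw [hmap hdef.le_T]; exact hdef)⟩
  · rintro ⟨F', hF', hFc, hdef⟩
    obtain ⟨D, hD', hND⟩ := CfsgLib.BrauerPairs.normalizer_le_defect hM hOP.pgroup he hf hle hT
    have hFe : CfsgLib.BrauerPairs.eA hM T F' =
        CfsgLib.BrauerPairs.eA hM (Subgroup.centralizer (Q : Set G)) f := by
      refine congrArg (CfsgLib.BrauerPairs.redFun hM) (funext fun x => ?_)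
      by_cases hx : x ∈ T
      · exact (CfsgLib.BrauerPairs.subgroupBlockCoeff_coe T F' ⟨x, hx⟩).trans (hFc ⟨x, hx⟩)
      · rw [CfsgLib.BrauerPairs.subgroupBlockCoeff_notMem F' hx,
          CfsgLib.BrauerPairs.subgroupBlockCoeff_notMem f fun h => hx (hS.cz_le h)]
    have hdef' := (CfsgLib.BrauerPairs.isDefectGroup_stabilizer_iff hM hS hF' hFe _).1 hdef
    rw [hmap (hND.trans hD'.le_T)] at hdef'
    exact hsys.fullyNormalized_of_isDefect (CfsgLib.BrauerPairs.hasBlocks hM) hOP.pgroup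
      (CfsgLib.BrauerPairs.isBlockIdem_eA hM he) hpair hS hfull hdef'

end Cfsg.Agent.S4679
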