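import Cfsg.Statements.S4680
import Cfsg.Agent.Lib.BrauerPairs.Fusion

set_option autoImplicit false
open Cfsg

namespace Cfsg.Agent.S4680

/-- Fix a prime p and a maximal ideal M of the algebraic integers containing p, a p-block B of the finite group G with maximal Brauer pair (P, e), its fusion system F on P, and a Brauer pair (Q, f) ≤ (P, e). Then Q is centric in F if and only if Z(Q) is a defect group of f as a block of C_G(Q). -/
theorem result {G : Type*} [Group G] [Fintype G] (p : ℕ) [Fact p.Prime] (M : Ideal Cfsg.AlgInt) (hM : Cfsg.IsPModular p M) (B : Set (Cfsg.IrrCharacter G)) (P : Subgroup G) (e : Set (Cfsg.IrrCharacter (Subgroup.centralizer (P : Set G)))) (hmax : Cfsg.IsMaximalBrauerPair p M B P e) (F : Cfsg.FusionSystem P) (hF : Cfsg.IsBlockFusionSystemOn p M B P e F) (Q : Subgroup G) (f : Set (Cfsg.IrrCharacter (Subgroup.centralizer (Q : Set G)))) (hQP : Q ≤ P) (hf : Cfsg.IsPBlock M f) (hle : Cfsg.SubpairLE p M Q f P e) : F.IsCentric Q ↔ Cfsg.IsDefectGroup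 p M f ((Q ⊓ Subgroup.centralizer (Q : Set G)).subgroupOf (Subgroup.centralizer (Q : Set G))) := by
  have : M.IsMaximal := hM.2.1
  have := CfsgLib.BrauerPairs.charP_res hM
  obtain ⟨he, hB, hOP⟩ := (CfsgLib.BrauerPairs.isBrauerPairOf_iff hM B P e).1 hmax.1
  have hcard : ∀ Q R : Subgroup G, Nat.card ((R ⊓ Subgroup.centralizer (Q : Set G)).subgroupOf
      (Subgroup.centralizer (Q : Set G))) = Nat.card ↥(R ⊓ Subgroup.centralizer (Q : Set G)) :=
    fun Q R => Nat.card_congr (Subgroup.subgroupOfEquivOfLe inf_le_right).toEquiv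
  let _ : ∀ H : Subgroup G, Fintype H := fun H => Fintype.ofFinite H
  constructor
  · rintro ⟨-, hc⟩
    obtain ⟨D, hD, hDle⟩ := CfsgLib.BrauerPairs.centralizer_le_defect hM hOP.pgroup he hf hle
    obtain ⟨x, hx, -, hsz⟩ := CfsgLib.BrauerPairs.exists_conj_centralizer_eq hM hmax hf hle
    have h1 := hc _ ((CfsgLib.BrauerPairs.isConj_iff hM hF hf hle _).2 ⟨x, rfl, hx⟩)
    have h2 : Nat.card ↥(P ⊓ Subgroup.centralizer ((Q.map (MulAut.conj x).toMonoidHom) : Set G)) ≤
        Nat.card ↥(Q ⊓ Subgroup.centralizer (Q : Set G)) := by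
      rw [← Subgroup.card_map_of_injective (f := (MulAut.conj x).toMonoidHom)
        (MulAut.conj x).injective (K := Q ⊓ Subgroup.centralizer (Q : Set G))]
      refine Subgroup.card_le_of_le fun y hy => ?_
      obtain ⟨q, hq, hqy⟩ := h1 hy
      refine ⟨q, ⟨hq, ?_⟩, hqy⟩
      obtain ⟨z, hz, hzy⟩ := (CfsgLib.BrauerPairs.cz_map_conj Q x).le hy.2
      rwa [(MulAut.conj x).injective (hqy.trans hzy.symm)]
    have heq : (Q ⊓ Subgroup.centralizer (Q : Set G)).subgroupOf
        (Subgroup.centralizer (Q : Set G)) = D := Subgroup.eq_of_le_of_card_ge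
      (le_trans (Subgroup.comap_mono (inf_le_inf_right _ hQP)) hDle)
      (by rw [hsz D hD]; exact h2.trans_eq (hcard Q Q).symm)
    exact heq ▸ hD
  · intro hD
    refine ⟨hQP, fun Q' hQ' => ?_⟩
    obtain ⟨x, rfl, hx⟩ := (CfsgLib.BrauerPairs.isConj_iff hM hF hf hle Q').1 hQ'
    have hf' := CfsgLib.BrauerPairs.isPBlock_conjBlock Q x hf
    obtain ⟨D2, hD2, hD2le⟩ := CfsgLib.BrauerPairs.centralizer_le_defect hM hOP.pgroup he hf' hx
    obtain ⟨D3, hD3, hD3eq⟩ := CfsgLib.BrauerPairs.isDefectGroup_conjBlock (M := M) x hD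
    have h3 : Nat.card D3 = Nat.card ↥((Q ⊓ Subgroup.centralizer (Q : Set G)).map
        (MulAut.conj x).toMonoidHom) := by
      rw [← Subgroup.card_map_of_injective (Subgroup.subtype_injective _) (K := D3), hD3eq,
        Subgroup.map_subgroupOf_eq_of_le inf_le_right]
    have h4 := Subgroup.card_le_of_le hD2le
    rw [hcard, CfsgLib.BrauerPairs.defectGroup_card_eq hM hf' hD2 hD3, h3] at h4
    intro y hy
    have hQ'P := CfsgLib.BrauerPairs.subpairLE_le hx
    have hle' : (Q ⊓ Subgroup.centralizer (Q : Set G)).map (MulAut.conj x).toMonoidHom ≤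
        P ⊓ Subgroup.centralizer ((Q.map (MulAut.conj x).toMonoidHom) : Set G) :=
      le_inf ((Subgroup.map_mono inf_le_left).trans hQ'P)
        ((Subgroup.map_mono inf_le_right).trans (CfsgLib.BrauerPairs.cz_map_conj Q x).ge)
    have h5 := Subgroup.eq_of_le_of_card_ge hle' h4
    have hy' : y ∈ P ⊓ Subgroup.centralizer
        ((Q.map (MulAut.conj x).toMonoidHom : Subgroup G) : Set G) := hy
    rw [← h5] at hy'
    exact Subgroup.map_mono inf_le_left hy'

end Cfsg.Agent.S4680
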