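import Cfsg.Statements.S4682
import Cfsg.Agent.Lib.BrauerPairs.Nilpotent

set_option autoImplicit false
open Cfsg

namespace Cfsg.Agent.S4682

theorem hT' {G : Type*} [Group G] [Fintype G] {p : ℕ} {M : Ideal Cfsg.AlgInt} [M.IsMaximal]
    (hM : Cfsg.IsPModular p M) (Q : Subgroup G)
    (f : Set (Cfsg.IrrCharacter (Subgroup.centralizer (Q : Set G)))) (hf : Cfsg.IsPBlock M f)
    (T : Subgroup G) (hT : ∀ y : G, y ∈ T ↔ y ∈ Subgroup.normalizer (Q : Set G) ∧
      Cfsg.StabilizesBlock (Subgroup.centralizer (Q : Set G)) f y) (y : G) :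
    y ∈ T ↔ y ∈ Subgroup.normalizer (Q : Set G) ∧
      CfsgLib.BrauerPairs.conjPair y (Q, CfsgLib.BrauerPairs.eA hM _ f) =
        (Q, CfsgLib.BrauerPairs.eA hM (Subgroup.centralizer (Q : Set G)) f) := by
  rw [hT y]
  exact and_congr_right fun hy => (CfsgLib.BrauerPairs.stabilizesBlock_iff_conjA hM
    (CfsgLib.BrauerPairs.normalizer_le_normalizer_cz Q hy) hf).trans
      (CfsgLib.BrauerPairs.conjPair_eq_iff hy).symm


/-- Fix a prime p and a maximal ideal M of the algebraic integers containing p, a p-block B of the finite group G with maximal Brauer pair (P, e), P abelian, and a Brauer pair (Q, f) ≤ (P, e). Let T_Q be the stabilizer of f in N_G(Q) and T_P the stabilizer of e in N_G(P). Then every element of T_Q is a product of an element of T_P and an element of C_G(Q); and the index of C_G(Q) in T_Q equals the index of T_P ∩ C_G(Q) in T_P ∩ N_G(Q). -/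
theorem result {G : Type*} [Group G] [Fintype G] (p : ℕ) [Fact p.Prime] (M : Ideal Cfsg.AlgInt) (hM : Cfsg.IsPModular p M) (B : Set (Cfsg.IrrCharacter G)) (P : Subgroup G) (e : Set (Cfsg.IrrCharacter (Subgroup.centralizer (P : Set G)))) (hmax : Cfsg.IsMaximalBrauerPair p M B P e) (hab : ∀ x ∈ P, ∀ y ∈ P, x * y = y * x) (Q : Subgroup G) (f : Set (Cfsg.IrrCharacter (Subgroup.centralizer (Q : Set G)))) (hQP : Q ≤ P) (hf : Cfsg.IsPBlock M f) (hle : Cfsg.SubpairLE p M Q f P e) (TQ : Subgroup G) (hTQ : ∀ y : G, y ∈ TQ ↔ y ∈ Subgroup.normalizer (Q : Set G) ∧ Cfsg.StabilizesBlock (Subgroup.centralizer (Q : Set G)) f y) (TP : Subgroup G) (hTP : ∀ y : G, y ∈ TP ↔ y ∈ Subgroup.normalizer (P : Set G) ∧ Cfsg.StabilizesBlock (Subgroup.centralizer (P : Set G)) e y) : (∀ x ∈ TQ, ∃ y ∈ TP, ∃ c ∈ Subgroup.centralizer (Q : Set G), x = y * c) ∧ ((Subgroup.centralizer (Q : Set G)).subgroupOf TQ).index = ((TP ⊓ Subgroup.centralizer (Q : Set G)).subgroupOf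 (TP ⊓ Subgroup.normalizer (Q : Set G))).index := by
  have : M.IsMaximal := hM.2.1
  have := CfsgLib.BrauerPairs.charP_res hM
  obtain ⟨F, hF⟩ := CfsgLib.BrauerPairs.exists_blockFusion hM hmax
  obtain ⟨he, -, hOP⟩ := (CfsgLib.BrauerPairs.isBrauerPairOf_iff hM B P e).1 hmax.1
  have hsys := CfsgLib.BrauerPairs.isPairSystem_of_isBlockFusionSystemOn hM hF
  have hpair := (CfsgLib.BrauerPairs.subpairLE_iff hM hf he).1 hle
  have hb := CfsgLib.BrauerPairs.isBlockIdem_eA hM he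
  have hstabQ : ∀ y : G, y ∈ TQ ↔ y ∈ Subgroup.normalizer (Q : Set G) ∧
      CfsgLib.BrauerPairs.conjPair y (Q, CfsgLib.BrauerPairs.eA hM _ f) =
        (Q, CfsgLib.BrauerPairs.eA hM (Subgroup.centralizer (Q : Set G)) f) := fun y =>
    (hT' hM Q f hf TQ hTQ y)
  have hstabP : ∀ y : G, y ∈ TP ↔ y ∈ Subgroup.normalizer (P : Set G) ∧
      CfsgLib.BrauerPairs.conjPair y (P, CfsgLib.BrauerPairs.eA hM _ e) =
        (P, CfsgLib.BrauerPairs.eA hM (Subgroup.centralizer (P : Set G)) e) := fun y =>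
    (hT' hM P e he TP hTP y)
  have hcent : ∀ R, R ≤ P → Cfsg.FusionSystem.centralizerIn P R = P := fun R hR =>
    inf_eq_left.2 fun y hy => CfsgLib.BrauerPairs.mem_cz.2 fun x hx => hab x (hR hx) y hy
  have main : ∀ x ∈ TQ, ∃ y ∈ TP, ∃ c ∈ Subgroup.centralizer (Q : Set G), x = y * c := by
    intro x hx
    obtain ⟨hxN, hxf⟩ := (hstabQ x).1 hx
    have hφ : Cfsg.conjHom Q x ∈ F.Hom Q :=
      (hsys Q _).2 ⟨x, fun u => rfl, _, hpair, by rw [hxf]; exact hpair⟩
    have hr := CfsgLib.BrauerPairs.map_range_of_conj (φ := Cfsg.conjHom Q x) (g := x) fun u => rfl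
    rw [CfsgLib.BrauerPairs.map_conj_eq_self hxN] at hr
    have hfc : F.IsFullyCentralized Q := ⟨hQP, fun R hR => by
      rw [hcent _ (CfsgLib.Fusion.IsConj.le_right hR), hcent _ hQP]⟩
    obtain ⟨ψ, hψ, hψφ⟩ := CfsgLib.Fusion.exists_extension
      (CfsgLib.Fusion.receptive_of_fullyCentralized hOP.pgroup
        (CfsgLib.BrauerPairs.isSaturated_blockFusion hM hF) hfc) hφ hr.symm hQP
      (fun y hy => CfsgLib.Fusion.centralizerIn_le_extender (by rw [hcent Q hQP]; exact hy))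
    obtain ⟨g, hg, a, ha, ha'⟩ := (hsys P ψ).1 hψ
    obtain rfl : a = CfsgLib.BrauerPairs.eA hM (Subgroup.centralizer (P : Set G)) e :=
      congrArg Prod.snd (ha.snd_eq rfl)
    have hgN : g ∈ Subgroup.normalizer (P : Set G) :=
      CfsgLib.Fusion.mem_normalizer_of_forall fun y hy => ha'.le ⟨y, hy, rfl⟩
    refine ⟨g, (hstabP g).2 ⟨hgN, ha'.snd_eq (CfsgLib.BrauerPairs.map_conj_eq_self hgN)⟩,
      g⁻¹ * x, CfsgLib.BrauerPairs.mem_cz.2 fun q hq => ?_, (mul_inv_cancel_left g x).symm⟩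
    have h1 : x * q * x⁻¹ = g * q * g⁻¹ := (hψφ ⟨q, hq⟩).symm.trans (hg _)
    calc q * (g⁻¹ * x) = g⁻¹ * (g * q * g⁻¹) * x := by group
      _ = g⁻¹ * x * q := by rw [← h1]; group
  refine ⟨main, ?_⟩
  have hA : TP ⊓ Subgroup.normalizer (Q : Set G) ≤ TQ := by
    intro y hy
    refine (hstabQ y).2 ⟨hy.2, Prod.ext (CfsgLib.BrauerPairs.map_conj_eq_self hy.2) ?_⟩
    refine CfsgLib.BrauerPairs.pairLE_unique (CfsgLib.BrauerPairs.hasBlocks hM) (Q := Q)
      (b := (P, CfsgLib.BrauerPairs.eA hM (Subgroup.centralizer (P : Set G)) e)) hb hOP.pgroup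
      ?_ hpair
    have h2 := hpair.conj y
    rw [((hstabP y).1 hy.1).2] at h2
    have h3 : CfsgLib.BrauerPairs.PairLE p ((Q.map (MulAut.conj y).toMonoidHom),
        CfsgLib.BrauerPairs.conjA y (CfsgLib.BrauerPairs.eA hM (Subgroup.centralizer (Q : Set G)) f))
        (P, CfsgLib.BrauerPairs.eA hM (Subgroup.centralizer (P : Set G)) e) := h2
    rwa [CfsgLib.BrauerPairs.map_conj_eq_self hy.2] at h3
  have hCN : Subgroup.centralizer (Q : Set G) ≤ Subgroup.normalizer (Q : Set G) :=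
    CfsgLib.BrauerPairs.cz_le_normalizer Q
  have hC : Subgroup.centralizer (Q : Set G) ≤ TQ := fun y hy => (hstabQ y).2 ⟨hCN hy,
    Prod.ext (CfsgLib.BrauerPairs.map_conj_eq_self (hCN hy))
      ((CfsgLib.BrauerPairs.isBlockIdem_eA hM hf).fixed y hy)⟩
  have hTQN : TQ ≤ Subgroup.normalizer ((Subgroup.centralizer (Q : Set G) : Subgroup G) : Set G) :=
    fun y hy => CfsgLib.BrauerPairs.normalizer_le_normalizer_cz Q ((hstabQ y).1 hy).1
  have : ((Subgroup.centralizer (Q : Set G)).subgroupOf TQ).Normal :=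
    Subgroup.normal_subgroupOf_of_le_normalizer hTQN
  have htop : (TP ⊓ Subgroup.normalizer (Q : Set G)).subgroupOf TQ ⊔
      (Subgroup.centralizer (Q : Set G)).subgroupOf TQ = ⊤ := by
    refine eq_top_iff.2 fun x _ => ?_
    obtain ⟨y, hy, c, hc, hxy⟩ := main (x : G) x.2
    have hyN : y ∈ Subgroup.normalizer (Q : Set G) := by
      rw [eq_mul_inv_of_mul_eq hxy.symm]
      exact Subgroup.mul_mem _ ((hstabQ (x : G)).1 x.2).1 (Subgroup.inv_mem _ (hCN hc))
    have hx : x = (⟨y, hA ⟨hy, hyN⟩⟩ : TQ) * ⟨c, hC hc⟩ := Subtype.ext hxy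
    rw [hx]
    exact Subgroup.mul_mem_sup (Subgroup.mem_subgroupOf.2 ⟨hy, hyN⟩) (Subgroup.mem_subgroupOf.2 hc)
  calc ((Subgroup.centralizer (Q : Set G)).subgroupOf TQ).index
      = ((Subgroup.centralizer (Q : Set G)).subgroupOf TQ).relIndex
          ((TP ⊓ Subgroup.normalizer (Q : Set G)).subgroupOf TQ ⊔
            (Subgroup.centralizer (Q : Set G)).subgroupOf TQ) := by
        rw [htop, Subgroup.relIndex_top_right]
    _ = ((Subgroup.centralizer (Q : Set G)).subgroupOf TQ).relIndex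
          ((TP ⊓ Subgroup.normalizer (Q : Set G)).subgroupOf TQ) := by
        rw [Subgroup.relIndex_sup_right]
    _ = (Subgroup.centralizer (Q : Set G)).relIndex (TP ⊓ Subgroup.normalizer (Q : Set G)) := by
        rw [Subgroup.relIndex_subgroupOf hA]
    _ = (TP ⊓ Subgroup.centralizer (Q : Set G) ⊓ (TP ⊓ Subgroup.normalizer (Q : Set G))).relIndex
          (TP ⊓ Subgroup.normalizer (Q : Set G)) := by
        rw [← Subgroup.inf_relIndex_right]
        congr 1
        exact le_antisymm (fun y hy => ⟨⟨hy.2.1, hy.1⟩, hy.2⟩) fun y hy => ⟨hy.1.2, hy.2⟩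
    _ = _ := by rw [Subgroup.inf_relIndex_right]; rfl

end Cfsg.Agent.S4682
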