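import Cfsg.Statements.S4691
import Cfsg.Agent.Lib.BrauerPairs.Principal
import Cfsg.Agent.Lib.Transfer.NormalComplement

set_option autoImplicit false
open Cfsg

namespace Cfsg.Agent.S4691

/-- Fix a prime p and a maximal ideal M of the algebraic integers containing p. A finite group G has a normal p-complement if and only if its principal p-block is nilpotent. -/
theorem result {G : Type*} [Group G] [Fintype G] (p : ℕ) [Fact p.Prime] (M : Ideal Cfsg.AlgInt) (hM : Cfsg.IsPModular p M) : Cfsg.HasNormalPComplement p G ↔ Cfsg.IsNilpotentBlock p M (Cfsg.principalBlock M G) := by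
  have : M.IsMaximal := hM.2.1
  have := CfsgLib.BrauerPairs.charP_res hM
  have hp : p.Prime := Fact.out
  constructor
  · intro h
    refine ⟨CfsgLib.Blocks.isPBlock_principalBlock M, fun Q e hQe x hx _ hxr => ?_⟩
    exact CfsgLib.Transfer.frobeniusCond_of_hasNormalPComplement h Q hQe.1.1 x hx
      (hp.coprime_iff_not_dvd.2 hxr).symm
  · rintro ⟨-, h⟩
    refine CfsgLib.Transfer.hasNormalPComplement_of_frobeniusCond fun Q hQ g hg hc => ?_
    refine h Q _ (CfsgLib.BrauerPairs.isBrauerPairOf_principal hM hQ) g hg ?_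
      (hp.coprime_iff_not_dvd.1 hc.symm)
    have hN := CfsgLib.BrauerPairs.normalizer_le_normalizer_cz Q hg
    have he : Cfsg.IsPBlock M (Cfsg.principalBlock M (Subgroup.centralizer (Q : Set G))) :=
      CfsgLib.Blocks.isPBlock_principalBlock M
    have hb := CfsgLib.BrauerPairs.isBlockIdem_eA hM he
    refine (CfsgLib.BrauerPairs.stabilizesBlock_iff_conjA hM hN he).2
      (CfsgLib.BrauerPairs.eq_of_aug_eq_one ?_ hb ?_ (CfsgLib.BrauerPairs.aug_eA_principal hM _))
    · have := hb.conjA g
      rwa [CfsgLib.BrauerPairs.map_conj_eq_self hN] at this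
    · rw [CfsgLib.BrauerPairs.aug_conjA]
      exact CfsgLib.BrauerPairs.aug_eA_principal hM _

end Cfsg.Agent.S4691
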