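import Cfsg.Statements.S4693
import Cfsg.Agent.Lib.BrauerPairs.CentricBlock
import Cfsg.Agent.S4680

set_option autoImplicit false
open Cfsg

namespace Cfsg.Agent.S4693

/-- Fix a prime p and a maximal ideal M of the algebraic integers containing p, a p-block B of the finite group G with maximal Brauer pair (P, e) and fusion system F on P, and a Brauer pair (Q, f) ≤ (P, e) with Q centric in F. Suppose every element of G normalizes Q and stabilizes f. Then the idempotent of B agrees with that of f modulo M at every element of G, and f is the idempotent of a nilpotent block of Q·C_G(Q): some p-block of Q·C_G(Q) has the idempotent coefficients of f and is nilpotent. -/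
theorem result {G : Type*} [Group G] [Fintype G] (p : ℕ) [Fact p.Prime] (M : Ideal Cfsg.AlgInt) (hM : Cfsg.IsPModular p M) (B : Set (Cfsg.IrrCharacter G)) (P : Subgroup G) (e : Set (Cfsg.IrrCharacter (Subgroup.centralizer (P : Set G)))) (hmax : Cfsg.IsMaximalBrauerPair p M B P e) (F : Cfsg.FusionSystem P) (hF : Cfsg.IsBlockFusionSystemOn p M B P e F) (Q : Subgroup G) (f : Set (Cfsg.IrrCharacter (Subgroup.centralizer (Q : Set G)))) (hQP : Q ≤ P) (hf : Cfsg.IsPBlock M f) (hle : Cfsg.SubpairLE p M Q f P e) (hcen : F.IsCentric Q) (hG : ∀ x : G, x ∈ Subgroup.normalizer (Q : Set G) ∧ Cfsg.StabilizesBlock (Subgroup.centralizer (Q : Set G)) f x) : (∀ g : G, Cfsg.MemLocalIdeal M (Cfsg.blockCoeff B g - Cfsg.subgroupBlockCoeff (Subgroup.centralizer (Q : Set G)) f g)) ∧ ∃ F' : Set (Cfsg.IrrCharacter ↥(Q ⊔ Subgroup.centralizer (Q : Set G))), Cfsg.IsPBlock M F' ∧ (∀ t : ↥(Q ⊔ Subgroup.centralizer (Q : Set G)), Cfsg.blockCoeff F' t = Cfsg.subgroupBlockCoeff (Subgroup.centralizer (Q :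 Set G)) f (t : G)) ∧ Cfsg.IsNilpotentBlock p M F' := by
  have : M.IsMaximal := hM.2.1
  have hdef := (Cfsg.Agent.S4680.result p M hM B P e hmax F hF Q f hQP hf hle).1 hcen
  have hQf := CfsgLib.BrauerPairs.isBrauerPairOf_of_subpairLE hM hmax.1 hle
  refine ⟨fun g => ?_, CfsgLib.BrauerPairs.nilpotent_sup_cz hM hQf.1.1 hf hdef⟩
  have h := congrArg (fun a => a.coeff g) (CfsgLib.BrauerPairs.eG_eq_eA_of_stable hM hQf hG)
  simp only [CfsgLib.BrauerPairs.eG, CfsgLib.BrauerPairs.eA] at h
  rw [CfsgLib.BrauerPairs.coeff_redFun hM (CfsgLib.BrauerPairs.blockCoeff_mem hM hQf.2.1 g),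
    CfsgLib.BrauerPairs.coeff_redFun hM (CfsgLib.BrauerPairs.subgroupBlockCoeff_mem hM hf g)] at h
  exact (CfsgLib.BrauerPairs.resK_eq_iff hM _ _).1 h

end Cfsg.Agent.S4693
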