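import Cfsg.Statements.S4694
import Cfsg.Agent.Lib.BrauerPairs.CentralDefect
import Cfsg.Agent.Lib.BlockCover.Quotient
import Cfsg.Agent.Lib.CharCorr.QuotientTools
import Cfsg.Agent.Lib.Characters.Ramified

set_option autoImplicit false
open Cfsg

namespace Cfsg.Agent.S4694

/-- Fix a prime p and a maximal ideal M of the algebraic integers containing p, a p-block B of the finite group G and a Brauer pair (Q, e) of B. Let T be the stabilizer of e in N_G(Q) and suppose that (Q, e) carries a weight: the block of T whose idempotent is that of e contains an irreducible character χ that is constant on the cosets of Q and whose degree has p-part equal to the p-part of the index of Q in T. Then Z(Q) is a defect group of e as a block of C_G(Q), and Q is the largest normal p-subgroup of T: every p-subgroup of T normalized by T lies in Q. -/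
theorem result {G : Type*} [Group G] [Fintype G] (p : ℕ) [Fact p.Prime] (M : Ideal Cfsg.AlgInt) (hM : Cfsg.IsPModular p M) (B : Set (Cfsg.IrrCharacter G)) (Q : Subgroup G) (e : Set (Cfsg.IrrCharacter (Subgroup.centralizer (Q : Set G)))) (hQe : Cfsg.IsBrauerPairOf p M B Q e) (T : Subgroup G) (hT : ∀ y : G, y ∈ T ↔ y ∈ Subgroup.normalizer (Q : Set G) ∧ Cfsg.StabilizesBlock (Subgroup.centralizer (Q : Set G)) e y) (F' : Set (Cfsg.IrrCharacter T)) (hF' : Cfsg.IsPBlock M F') (hF'e : ∀ t : T, Cfsg.blockCoeff F' t = Cfsg.subgroupBlockCoeff (Subgroup.centralizer (Q : Set G)) e (t : G)) (χ : Cfsg.IrrCharacter T) (hχ : χ ∈ F') (hχQ : ∀ q : G, q ∈ Q → ∀ t : T, ∀ t' : T, (t' : G) = q * (t : G) → (χ : T → ℂ) t' = (χ : T → ℂ) t) (hdeg : (Cfsg.charDegree (χ : T → ℂ)).factorization p + (Nat.card Q).factorization p = (Nat.card T).factorization p) : Cfsg.IsDefectGroup p M e ((Q ⊓ Subgroup.centralizer (Q : Set G)).subgroupOf (Subgroup.centralizer (Q : Set G))) ∧ ∀ R : Subgroup G, R ≤ T → IsPGroup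 p R → (∀ t ∈ T, t ∈ Subgroup.normalizer (R : Set G)) → R ≤ Q := by
  classical
  have : M.IsMaximal := hM.2.1
  let _ : ∀ H : Subgroup G, Fintype H := fun H => Fintype.ofFinite H
  have := CfsgLib.BrauerPairs.charP_res hM
  have hp : p.Prime := Fact.out
  obtain ⟨he, -, hO⟩ := (CfsgLib.BrauerPairs.isBrauerPairOf_iff hM B Q e).1 hQe
  have heb := CfsgLib.BrauerPairs.isBlockIdem_eA hM (K := (Subgroup.centralizer (Q : Set G))) he
  have hCN : (Subgroup.centralizer (Q : Set G)) ≤ Subgroup.normalizer (Q : Set G) := CfsgLib.BrauerPairs.cz_le_normalizer Q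
  have hCT : (Subgroup.centralizer (Q : Set G)) ≤ T := fun c hc => (hT c).2 ⟨hCN hc,
    (CfsgLib.BrauerPairs.stabilizesBlock_iff_conjA hM
      (Subgroup.le_normalizer hc) he).2 (heb.fixed c hc)⟩
  have hQT : Q ≤ T := fun q hq => (hT q).2 ⟨Subgroup.le_normalizer hq,
    (CfsgLib.BrauerPairs.stabilizesBlock_iff_conjA hM
      (CfsgLib.BrauerPairs.normalizer_le_normalizer_cz Q (Subgroup.le_normalizer hq)) he).2
      (CfsgLib.BrauerPairs.fixed_of_supp_cz heb.supp q hq)⟩
  set N := Q.subgroupOf T with hN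
  have hNn : N.Normal := ⟨fun x hx a =>
    (Subgroup.mem_normalizer_iff.1 ((hT a).1 a.2).1 x).1 hx⟩
  have hker : N ≤ CfsgLib.Chars17.irrKer χ := fun x hx => by
    rw [CfsgLib.Chars17.mem_irrKer]
    exact hχQ x hx 1 x (by simp)
  obtain ⟨η, hη⟩ := CfsgLib.Chars17.exists_infl_eq N hker
  have hηx : ∀ t : T, (χ : T → ℂ) t = (η : T ⧸ N → ℂ) (t : T ⧸ N) := fun t => by
    rw [← hη, CfsgLib.Chars17.infl_apply]
  have hdegη : Cfsg.charDegree (χ : T → ℂ) = Cfsg.charDegree (η : T ⧸ N → ℂ) := by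
    simp only [Cfsg.charDegree, hηx, QuotientGroup.mk_one]
  have hη0 : Cfsg.charDegree (η : T ⧸ N → ℂ) ≠ 0 :=
    (CfsgLib.Chars17.irrDegree_pos η).ne'
  have hv : (Cfsg.charDegree (η : T ⧸ N → ℂ)).factorization p =
      (Nat.card (T ⧸ N)).factorization p := by
    have h1 := congrArg (fun n => n.factorization p)
      (Subgroup.card_eq_card_quotient_mul_card_subgroup N)
    simp only [Nat.factorization_mul Nat.card_pos.ne' Nat.card_pos.ne', Finsupp.coe_add,
      Pi.add_apply] at h1
    rw [hN, Nat.card_congr (Subgroup.subgroupOfEquivOfLe hQT).toEquiv, ← hdeg, hdegη] at h1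
    exact Nat.add_right_cancel h1
  have hdz : p ^ (Nat.card (T ⧸ N)).factorization p ∣ Cfsg.charDegree (η : T ⧸ N → ℂ) :=
    hv ▸ Nat.ordProj_dvd _ _
  let _ : Fintype (T ⧸ N) := Fintype.ofFinite _
  constructor
  · set Z : Subgroup (Subgroup.centralizer (Q : Set G)) := (Q ⊓ (Subgroup.centralizer (Q : Set G))).subgroupOf (Subgroup.centralizer (Q : Set G)) with hZ
    have hZc : Z ≤ Subgroup.center (Subgroup.centralizer (Q : Set G)) := fun z hz => Subgroup.mem_center_iff.2 fun c =>
      Subtype.ext (Subgroup.mem_centralizer_iff.1 c.2 (z : G) hz.1).symm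
    have hZn : Z.Normal := ⟨fun z hz g => by
      rwa [Subgroup.mem_center_iff.1 (hZc hz) g, mul_inv_cancel_right]⟩
    have hZp : IsPGroup p Z := (hO.pgroup.to_le inf_le_left).comap_subtype
    set π : (Subgroup.centralizer (Q : Set G)) →* T ⧸ N := (QuotientGroup.mk' N).comp (Subgroup.inclusion hCT) with hπ
    have hkerπ : π.ker = Z := by
      ext c
      rw [MonoidHom.mem_ker, hπ, MonoidHom.comp_apply, QuotientGroup.mk'_apply,
        QuotientGroup.eq_one_iff]
      exact ⟨fun h => ⟨h, c.2⟩, fun h => h.1⟩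
    have hCn : ((Subgroup.centralizer (Q : Set G)).subgroupOf T).Normal := ⟨fun x hx a =>
      (Subgroup.mem_normalizer_iff.1 (CfsgLib.BrauerPairs.normalizer_le_normalizer_cz Q
        ((hT a).1 a.2).1) x).1 hx⟩
    have hrange : π.range = ((Subgroup.centralizer (Q : Set G)).subgroupOf T).map (QuotientGroup.mk' N) := by
      ext y
      constructor
      · rintro ⟨c, rfl⟩
        exact ⟨Subgroup.inclusion hCT c, c.2, rfl⟩
      · rintro ⟨x, hx, rfl⟩
        exact ⟨⟨x, hx⟩, rfl⟩
    have hRn : π.range.Normal := hrange ▸ hCn.map _ (QuotientGroup.mk'_surjective N)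
    let _ : Fintype π.range := Fintype.ofFinite _
    let _ : Fintype ((Subgroup.centralizer (Q : Set G)) ⧸ Z) := Fintype.ofFinite _
    obtain ⟨ψ, hψ⟩ := CfsgLib.BlockCover.exists_constituent π.range η
    obtain ⟨k, hk1, hk2⟩ := CfsgLib.Ramified.degree_ratio_dvd_index π.range η.2 ψ.2 hψ
    let E : (Subgroup.centralizer (Q : Set G)) ⧸ Z ≃* π.range :=
      (QuotientGroup.quotientMulEquivOfEq hkerπ.symm).trans (QuotientGroup.quotientKerEquivRange π)
    set ψ' := CfsgLib.CharCorr.twistIrr E ψ with hψ'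
    have hdegψ : Cfsg.charDegree (ψ' : (Subgroup.centralizer (Q : Set G)) ⧸ Z → ℂ) = Cfsg.charDegree (ψ : π.range → ℂ) := by
      rw [Cfsg.charDegree, Cfsg.charDegree, hψ', CfsgLib.CharCorr.twistIrr_apply, map_one]
    have hdzψ : p ^ (Nat.card ((Subgroup.centralizer (Q : Set G)) ⧸ Z)).factorization p ∣ Cfsg.charDegree (ψ' : (Subgroup.centralizer (Q : Set G)) ⧸ Z → ℂ) := by
      rw [hdegψ, Nat.card_congr E.toEquiv]
      have hk : Cfsg.charDegree (η : T ⧸ N → ℂ) = k * Cfsg.charDegree (ψ : π.range → ℂ) := by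
        have : ((Cfsg.charDegree (η : T ⧸ N → ℂ) : ℕ) : ℂ) =
            ((k * Cfsg.charDegree (ψ : π.range → ℂ) : ℕ) : ℂ) := by
          rw [Nat.cast_mul, CfsgLib.Chars17.cast_irrDegree, CfsgLib.Chars17.cast_irrDegree, hk1]
        exact_mod_cast this
      obtain ⟨j, hj⟩ := hk2
      have hk0 : k ≠ 0 := fun h => hη0 (by rw [hk, h, zero_mul])
      have hd0 : Cfsg.charDegree (ψ : π.range → ℂ) ≠ 0 := (CfsgLib.Chars17.irrDegree_pos ψ).ne'
      have hcard : Nat.card π.range * (k * j) = Nat.card (T ⧸ N) := by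
        rw [← hj, Subgroup.card_mul_index]
      have hj0 : j ≠ 0 := fun h => (Nat.card_pos (α := T ⧸ N)).ne' (by rw [← hcard, h]; simp)
      refine (Nat.pow_dvd_pow p ?_).trans (Nat.ordProj_dvd _ p)
      have h1 := hv
      rw [hk, ← hcard, Nat.factorization_mul hk0 hd0,
        Nat.factorization_mul Nat.card_pos.ne' (mul_ne_zero hk0 hj0),
        Nat.factorization_mul hk0 hj0] at h1
      simp only [Finsupp.coe_add, Pi.add_apply] at h1
      omega
    refine CfsgLib.BrauerPairs.isDefectGroup_central_defect_zero Z hM hZp hZc ψ' hdzψ he ?_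
    set θ := CfsgLib.Chars17.infl Z ψ' with hθ
    have hθne : Cfsg.classInner (fun c : (Subgroup.centralizer (Q : Set G)) => (χ : T → ℂ) (Subgroup.inclusion hCT c))
        (θ : (Subgroup.centralizer (Q : Set G)) → ℂ) ≠ 0 := by
      have h1 : (θ : (Subgroup.centralizer (Q : Set G)) → ℂ) = fun c => (ψ : π.range → ℂ) (π.rangeRestrict c) := by
        funext c
        rw [hθ, CfsgLib.Chars17.infl_apply, hψ', CfsgLib.CharCorr.twistIrr_apply]
        rfl
      have h2 : (fun c : (Subgroup.centralizer (Q : Set G)) => (χ : T → ℂ) (Subgroup.inclusion hCT c)) =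
          fun c => (fun y : π.range => (η : T ⧸ N → ℂ) y) (π.rangeRestrict c) :=
        funext fun c => hηx _
      rw [h1, h2]
      intro h0
      apply hψ
      exact (CfsgLib.CharCorrQ.classInner_comp_surjective π.rangeRestrict π.rangeRestrict_surjective
        (fun y : π.range => (η : T ⧸ N → ℂ) y) (ψ : π.range → ℂ)).symm.trans h0
    set j := Subgroup.inclusion hCT with hj
    have hexp : ∀ c : (Subgroup.centralizer (Q : Set G)), (χ : T → ℂ) (j c) = ∑ ξ : Cfsg.IrrCharacter (Subgroup.centralizer (Q : Set G)),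
        (CfsgLib.CharCorr.mult j χ ξ : ℂ) * (ξ : (Subgroup.centralizer (Q : Set G)) → ℂ) c := fun c => by
      simpa [CfsgLib.CharCorr.mult_spec] using congrFun (CfsgLib.CharCorr.irr_res_eq_sum χ j) c
    have hsum := CfsgLib.BlockCover.sum_blockCoeff_mul F' χ
    rw [if_pos hχ, div_eq_one_iff_eq (CfsgLib.Characters.irr_one_ne_zero χ)] at hsum
    have hlhs : ∑ t : T, Cfsg.blockCoeff F' t * (χ : T → ℂ) t =
        ∑ ξ : Cfsg.IrrCharacter (Subgroup.centralizer (Q : Set G)), if ξ ∈ e then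
          (CfsgLib.CharCorr.mult j χ ξ : ℂ) * (ξ : (Subgroup.centralizer (Q : Set G)) → ℂ) 1 else 0 := by
      simp only [hF'e]
      rw [← Finset.sum_subset (Finset.subset_univ (Finset.univ.filter fun t : T => (t : G) ∈ (Subgroup.centralizer (Q : Set G))))
        fun t _ ht => by
          rw [CfsgLib.BrauerPairs.subgroupBlockCoeff_notMem e (by simpa using ht), zero_mul]]
      rw [show ∑ t ∈ Finset.univ.filter (fun t : T => (t : G) ∈ (Subgroup.centralizer (Q : Set G))),
          Cfsg.subgroupBlockCoeff (Subgroup.centralizer (Q : Set G)) e (t : G) * (χ : T → ℂ) t =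
          ∑ c : (Subgroup.centralizer (Q : Set G)), Cfsg.blockCoeff e c * (χ : T → ℂ) (j c) from
        Finset.sum_bij' (fun t ht => ⟨(t : G), (Finset.mem_filter.1 ht).2⟩) (fun c _ => j c)
          (fun _ _ => Finset.mem_univ _)
          (fun c _ => Finset.mem_filter.2 ⟨Finset.mem_univ _, c.2⟩)
          (fun t _ => Subtype.ext rfl) (fun c _ => rfl)
          (fun t ht => by
            rw [← CfsgLib.BrauerPairs.subgroupBlockCoeff_coe (Subgroup.centralizer (Q : Set G)) e ⟨(t : G), (Finset.mem_filter.1 ht).2⟩]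
            rfl)]
      simp only [hexp, Finset.mul_sum]
      rw [Finset.sum_comm]
      refine Finset.sum_congr rfl fun ξ _ => ?_
      have h := CfsgLib.BlockCover.sum_blockCoeff_mul e ξ
      rw [div_eq_iff (CfsgLib.Characters.irr_one_ne_zero ξ)] at h
      rw [show (if ξ ∈ e then (CfsgLib.CharCorr.mult j χ ξ : ℂ) * (ξ : (Subgroup.centralizer (Q : Set G)) → ℂ) 1 else 0) =
        (CfsgLib.CharCorr.mult j χ ξ : ℂ) * ((if ξ ∈ e then 1 else 0) * (ξ : (Subgroup.centralizer (Q : Set G)) → ℂ) 1) by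
          split_ifs <;> simp, ← h, Finset.mul_sum]
      exact Finset.sum_congr rfl fun c _ => by ring
    rw [hlhs] at hsum
    have hone : (χ : T → ℂ) 1 = ∑ ξ : Cfsg.IrrCharacter (Subgroup.centralizer (Q : Set G)),
        (CfsgLib.CharCorr.mult j χ ξ : ℂ) * (ξ : (Subgroup.centralizer (Q : Set G)) → ℂ) 1 := by
      simpa using hexp 1
    rw [hone] at hsum
    simp only [← CfsgLib.Chars17.cast_irrDegree, ← Nat.cast_mul, ← Nat.cast_zero (R := ℂ),
      ← apply_ite (Nat.cast (R := ℂ)), ← Nat.cast_sum, Nat.cast_inj] at hsum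
    by_contra hθe
    refine absurd hsum (ne_of_lt (Finset.sum_lt_sum (fun ξ _ => by split_ifs <;> simp)
      ⟨θ, Finset.mem_univ _, ?_⟩))
    rw [if_neg hθe]
    refine Nat.mul_pos (Nat.pos_of_ne_zero fun h0 => hθne ?_) (CfsgLib.Chars17.irrDegree_pos θ)
    have h := CfsgLib.CharCorr.mult_spec j χ θ
    rw [h0, Nat.cast_zero] at h
    exact h
  · intro R hRT hR hnorm
    set R' := R.subgroupOf T with hR'
    have hR'n : R'.Normal := ⟨fun x hx a =>
      (Subgroup.mem_normalizer_iff.1 (hnorm a a.2) x).1 hx⟩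
    set Rb := R'.map (QuotientGroup.mk' N) with hRb
    have hRbn : Rb.Normal := hR'n.map _ (QuotientGroup.mk'_surjective N)
    have hRbp : IsPGroup p Rb := (hR.comap_subtype (K := T)).map _
    let _ : Fintype Rb := Fintype.ofFinite _
    have hvan : ∀ n : Rb, n ≠ 1 → (η : T ⧸ N → ℂ) (n : T ⧸ N) = 0 := by
      intro n hn
      refine CfsgLib.DefectZeroVanish.vanish_of_defect_zero η hdz ?_
      obtain ⟨i, hi⟩ := IsPGroup.iff_orderOf.1 hRbp n
      rw [Subgroup.orderOf_coe, hi]
      refine dvd_pow_self p ?_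
      rintro rfl
      exact hn (orderOf_eq_one_iff.1 (by rw [hi, pow_zero]))
    have hkerR : Rb ≤ CfsgLib.Chars17.irrKer η := by
      by_contra h
      have h1 := CfsgLib.BlockCover.sum_coset_eq Rb η 1
      rw [if_neg h, Finset.sum_eq_single (1 : Rb) (fun n _ hn => by rw [mul_one]; exact hvan n hn)
        (fun h => absurd (Finset.mem_univ _) h)] at h1
      exact CfsgLib.Characters.irr_one_ne_zero η (by simpa using h1)
    intro x hx
    by_contra hxQ
    have hxb : ((⟨x, hRT hx⟩ : T) : T ⧸ N) ∈ Rb := ⟨⟨x, hRT hx⟩, hx, rfl⟩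
    have h0 := hvan ⟨_, hxb⟩ fun h => hxQ
      (show (⟨x, hRT hx⟩ : T) ∈ N from (QuotientGroup.eq_one_iff _).1 (congrArg Subtype.val h))
    exact CfsgLib.Characters.irr_one_ne_zero η
      ((CfsgLib.Chars17.mem_irrKer.1 (hkerR hxb)).symm.trans h0)

end Cfsg.Agent.S4694
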