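import Cfsg.Statements.S4697
import Cfsg.Agent.Lib.Blk7.AbelianFewGen
import Mathlib.GroupTheory.Rank

set_option autoImplicit false
open Cfsg

namespace Cfsg.Agent.S4697

/-- Let p be a prime, M a maximal ideal of the algebraic integers containing p, and B a p-block of the finite group G with an abelian defect group D of order p^d. If D has rank 2 (its least number of generators is 2) then B contains at most p^d irreducible characters; if D has rank 3 then the number k of irreducible characters in B satisfies k^3 ≤ p^(5d). -/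
theorem result {G : Type*} [Group G] [Finite G] (p : ℕ) [Fact p.Prime] (M : Ideal Cfsg.AlgInt) (hM : Cfsg.IsPModular p M) (B : Set (Cfsg.IrrCharacter G)) (hB : Cfsg.IsPBlock M B) (D : Subgroup G) (hBD : Cfsg.IsDefectGroup p M B D) (hab : IsMulCommutative D) (d : ℕ) (hDd : Nat.card D = p ^ d) : (Group.rank D = 2 → Nat.card B ≤ p ^ d) ∧ (Group.rank D = 3 → Nat.card B ^ 3 ≤ p ^ (5 * d)) := by
  classical
  have : Fintype G := Fintype.ofFinite G
  have hdd : Cfsg.blockDefect p B = d := Nat.pow_right_injective (Fact.out : p.Prime).two_le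
    ((CfsgLib.BlockCover.natCard_defect hM hB hBD).symm.trans hDd)
  constructor
  · intro hr
    obtain ⟨S, hS, hgen⟩ := Group.rank_spec D
    obtain ⟨a, b, -, rfl⟩ := Finset.card_eq_two.1 (hS.trans hr)
    rw [← hdd]
    refine CfsgLib.AbelianFewGen.card_le_of_twoGen hM hB hBD hab ⟨a, a.2, b, b.2, fun x hx => ?_⟩
    have h := Subgroup.mem_map_of_mem D.subtype
      (show (⟨x, hx⟩ : D) ∈ Subgroup.closure (({a, b} : Finset D) : Set D) by rw [hgen]; trivial)
    rwa [MonoidHom.map_closure, Finset.coe_pair, Set.image_pair] at h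
  · intro hr
    obtain ⟨S, hS, hgen⟩ := Group.rank_spec D
    obtain ⟨a, b, c, -, -, -, rfl⟩ := Finset.card_eq_three.1 (hS.trans hr)
    rw [← hdd]
    exact CfsgLib.AbelianFewGen.card_cube_le hM hB hBD hab (a₁ := a) (a₂ := b) (a₃ := c)
      (by simpa using hgen)

end Cfsg.Agent.S4697
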