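import Cfsg.Statements.S4703
import Cfsg.Agent.Lib.SmallDegree.Main
-- import your own Cfsg.Agent.* helpers here

set_option autoImplicit false
open Cfsg

namespace Cfsg.Agent.S4703

/-- Let G be a finite group whose centre Z has odd order, p > 7 a prime, and suppose a Sylow p-subgroup of G has order p and is not normal. Let ζ be a faithful irreducible character of G (only the identity lies in its kernel). Then either G/Z is isomorphic to PSL(2, p) and ζ has degree (p + 1)/2 or (p − 1)/2, or ζ has degree at least p − 2. -/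
theorem result {G : Type*} [Group G] [Finite G] (hZ : Odd (Nat.card (Subgroup.center G))) (p : ℕ) [Fact p.Prime] (hp : 7 < p) (P : Sylow p G) (hP : Nat.card P = p) (hnn : ¬ (P : Subgroup G).Normal) (ζ : G → ℂ) (hζ : Cfsg.IsIrrCharacter G ζ) (hfaith : ∀ g : G, ζ g = ζ 1 → g = 1) : ((∃ (F : Type) (_ : Field F) (_ : Fintype F), Fintype.card F = p ∧ Nonempty (G ⧸ Subgroup.center G ≃* Matrix.ProjectiveSpecialLinearGroup (Fin 2) F)) ∧ (2 * Cfsg.charDegree ζ = p + 1 ∨ 2 * Cfsg.charDegree ζ = p - 1)) ∨ p - 2 ≤ Cfsg.charDegree ζ := by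
  classical
  obtain ⟨⟨x, hxP⟩, hxo⟩ := exists_prime_orderOf_dvd_card' (G := (P : Subgroup G)) p
    (dvd_of_eq hP.symm)
  rw [Subgroup.orderOf_mk] at hxo
  have hsq : ¬ p ^ 2 ∣ Nat.card G := by
    intro h
    have h1 := P.card_eq_multiplicity
    rw [hP] at h1
    have h2 := (((Fact.out : p.Prime)).pow_dvd_iff_le_factorization Nat.card_pos.ne').1 h
    have h3 : p ^ (Nat.card G).factorization p = p ^ 1 := by rw [pow_one]; exact h1.symm
    have h4 := Nat.pow_right_injective (Fact.out : p.Prime).two_le h3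
    omega
  have hN : ∀ H : Subgroup G, H.Normal → Nat.card H ≠ p := by
    intro H hH hHc
    haveI := hH
    refine hnn ?_
    obtain ⟨R, hR⟩ := (IsPGroup.of_card (n := 1) (by rw [hHc, pow_one]) : IsPGroup p H).exists_le_sylow
    have hcard : Nat.card (R : Subgroup G) = p := by
      rw [R.card_eq_multiplicity, ← P.card_eq_multiplicity, hP]
    have hRH : H = (R : Subgroup G) := Subgroup.eq_of_le_of_card_ge hR (by rw [hHc, hcard])
    haveI : (R : Subgroup G).Normal := hRH ▸ hH
    haveI := Sylow.unique_of_normal R ‹_›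
    rw [Subsingleton.elim P R]
    infer_instance
  rcases CfsgLib.SmallDegree.dichotomy hxo hsq hN ⟨ζ, hζ⟩ hfaith hp rfl with
    h | ⟨hi, hd, -⟩ | ⟨e, he, -, he2, -⟩
  · exact Or.inr (by
      change p ≤ charDegree ζ + 1 at h
      omega)
  · exact Or.inl ⟨⟨ZMod p, inferInstance, inferInstance, ZMod.card p, hi⟩, hd⟩
  · rcases he2 with rfl | hodd
    · exact Or.inr (by
        change charDegree ζ + 2 = p at he
        omega)
    · exact absurd hZ hodd

end Cfsg.Agent.S4703
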