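import Cfsg.Statements.S4704
import Cfsg.Agent.Lib.SmallDegree.Main
-- import your own Cfsg.Agent.* helpers here

set_option autoImplicit false
open Cfsg

namespace Cfsg.Agent.S4704

/-- Let G be a finite group with centre Z, p > 7 a prime, and suppose a Sylow p-subgroup of G has order p and is not normal. Let ζ be a faithful irreducible character of G and t the number of conjugacy classes of G consisting of elements of order p. Then one of the following holds: G/Z is isomorphic to PSL(2, p), ζ has degree (p + 1)/2 or (p − 1)/2 and t = 2; or ζ has degree at least p − 1; or ζ has degree at least p + 3/2 − √(p + 5/4) and p ≤ t^2 − 3t + 1. -/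
theorem result {G : Type*} [Group G] [Finite G] (p : ℕ) [Fact p.Prime] (hp : 7 < p) (P : Sylow p G) (hP : Nat.card P = p) (hnn : ¬ (P : Subgroup G).Normal) (ζ : G → ℂ) (hζ : Cfsg.IsIrrCharacter G ζ) (hfaith : ∀ g : G, ζ g = ζ 1 → g = 1) (t : ℕ) (ht : Nat.card {c : ConjClasses G // ∃ g : G, ConjClasses.mk g = c ∧ orderOf g = p} = t) : ((∃ (F : Type) (_ : Field F) (_ : Fintype F), Fintype.card F = p ∧ Nonempty (G ⧸ Subgroup.center G ≃* Matrix.ProjectiveSpecialLinearGroup (Fin 2) F)) ∧ (2 * Cfsg.charDegree ζ = p + 1 ∨ 2 * Cfsg.charDegree ζ = p - 1) ∧ t = 2) ∨ p - 1 ≤ Cfsg.charDegree ζ ∨ ((p : ℝ) + 3 / 2 - Real.sqrt ((p : ℝ) + 5 / 4) ≤ (Cfsg.charDegree ζ : ℝ) ∧ (p : ℤ) ≤ (t : ℤ) ^ 2 - 3 * t + 1) := by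
  classical
  obtain ⟨⟨x, hxP⟩, hxo⟩ := exists_prime_orderOf_dvd_card' (G := (P : Subgroup G)) p
    (dvd_of_eq hP.symm)
  rw [Subgroup.orderOf_mk] at hxo
  have hsq : ¬ p ^ 2 ∣ Nat.card G := by
    intro h
    have h1 := P.card_eq_multiplicity
    rw [hP] at h1
    have h2 := (((Fact.out : p.Prime)).pow_dvd_iff_le_factorization Nat.card_pos.ne').1 h
    have h3 : p ^ (Nat.card G).factorization p = p ^ 1 := by rw [pow_one]; exact h1.symm
    have h4 := Nat.pow_right_injective (Fact.out : p.Prime).two_le h3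
    omega
  have hN : ∀ H : Subgroup G, H.Normal → Nat.card H ≠ p := by
    intro H hH hHc
    haveI := hH
    refine hnn ?_
    obtain ⟨R, hR⟩ := (IsPGroup.of_card (n := 1) (by rw [hHc, pow_one]) : IsPGroup p H).exists_le_sylow
    have hcard : Nat.card (R : Subgroup G) = p := by
      rw [R.card_eq_multiplicity, ← P.card_eq_multiplicity, hP]
    have hRH : H = (R : Subgroup G) := Subgroup.eq_of_le_of_card_ge hR (by rw [hHc, hcard])
    haveI : (R : Subgroup G).Normal := hRH ▸ hH
    haveI := Sylow.unique_of_normal R ‹_›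
    rw [Subsingleton.elim P R]
    infer_instance
  rcases CfsgLib.SmallDegree.dichotomy hxo hsq hN ⟨ζ, hζ⟩ hfaith hp ht with
    h | ⟨hi, hd, h2⟩ | ⟨e, he, hpe, -, het⟩
  · refine Or.inr (Or.inl ?_)
    change p ≤ charDegree ζ + 1 at h
    omega
  · exact Or.inl ⟨⟨ZMod p, inferInstance, inferInstance, ZMod.card p, hi⟩, hd, h2⟩
  · refine Or.inr (Or.inr ⟨?_, ?_⟩)
    · change charDegree ζ + e = p at he
      have he' : (charDegree ζ : ℝ) + e = p := by exact_mod_cast he
      have hpe' : (p : ℝ) = e * t + 1 := by exact_mod_cast hpe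
      have het' : (e : ℝ) + 3 ≤ t := by exact_mod_cast het
      have he0 : (0 : ℝ) ≤ e := Nat.cast_nonneg e
      have hsqrt : (e : ℝ) + 3 / 2 ≤ Real.sqrt ((p : ℝ) + 5 / 4) :=
        Real.le_sqrt_of_sq_le (by nlinarith [mul_le_mul_of_nonneg_left het' he0])
      linarith
    · have hpe' : (p : ℤ) = e * t + 1 := by exact_mod_cast hpe
      have het' : (e : ℤ) + 3 ≤ t := by exact_mod_cast het
      have ht0 : (0 : ℤ) ≤ t := Int.natCast_nonneg t
      nlinarith [mul_le_mul_of_nonneg_left het' ht0]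

end Cfsg.Agent.S4704
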