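import Cfsg.Statements.S4705
import Cfsg.Agent.Lib.PSubTwo.Main

set_option autoImplicit false
open Cfsg

namespace Cfsg.Agent.S4705

/-- Let G be a finite group with centre Z and p > 5 a prime such that a Sylow p-subgroup of G has order p and is not normal. If G has a faithful irreducible character of degree p − 2, then p = 2^a + 1 for some a and G is isomorphic to the direct product of SL(2, 2^a) with Z. -/
theorem result {G : Type*} [Group G] [Finite G] (p : ℕ) [Fact p.Prime] (hp : 5 < p) (P : Sylow p G) (hP : Nat.card P = p) (hnn : ¬ (P : Subgroup G).Normal) (ζ : G → ℂ) (hζ : Cfsg.IsIrrCharacter G ζ) (hfaith : ∀ g : G, ζ g = ζ 1 → g = 1) (hdeg : Cfsg.charDegree ζ = p - 2) : ∃ (a : ℕ) (F : Type) (_ : Field F) (_ : Fintype F), p = 2 ^ a + 1 ∧ Fintype.card F = 2 ^ a ∧ Nonempty (G ≃* Matrix.SpecialLinearGroup (Fin 2) F × Subgroup.center G) := by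
  classical
  haveI := Fintype.ofFinite G
  haveI : IsCyclic (P : Subgroup G) := isCyclic_of_prime_card hP
  obtain ⟨⟨x, hxP⟩, hgen⟩ := IsCyclic.exists_ofOrder_eq_natCard (α := (P : Subgroup G))
  have hx : orderOf x = p := by rw [← hP, ← hgen, Subgroup.orderOf_mk]
  have hfac : (Nat.card G).factorization p = 1 := by
    have h := P.card_eq_multiplicity
    rw [hP] at h
    exact (Nat.pow_right_injective (Fact.out : p.Prime).two_le (by simpa using h.symm))
  have hsq : ¬ p ^ 2 ∣ Nat.card G := fun h => by
    have := ((Fact.out : p.Prime).pow_dvd_iff_le_factorization Nat.card_pos.ne').1 h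
    omega
  have hnn' : ∀ H : Subgroup G, H.Normal → Nat.card H ≠ p := by
    intro H hH hc
    let Q : Sylow p G := Sylow.ofCard H (by rw [hc, hfac, pow_one])
    haveI : Subsingleton (Sylow p G) := by
      have : (Q : Subgroup G).Normal := hH
      letI := Sylow.unique_of_normal Q this
      infer_instance
    exact hnn P.normal_of_subsingleton
  obtain ⟨m, F, iF, iT, h1, h2, h3⟩ := CfsgLib.PSubTwo.main (x := x) hx hsq hp hnn' ⟨ζ, hζ⟩ hfaith
    (by show Cfsg.charDegree ζ + 2 = p; omega)
  exact ⟨m, F, iF, iT, h1, h2, h3⟩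

end Cfsg.Agent.S4705
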