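import Cfsg.Statements.S4707
import Cfsg.Agent.Lib.PermPrime.TwoP.Seven
import Cfsg.Agent.Lib.PermPrime.TwoP.Five
import Cfsg.Agent.Lib.Small.OrderSixty

set_option autoImplicit false
open Cfsg

namespace Cfsg.Agent.S4707

/-- Let p > 3 be a prime and G a primitive permutation group of degree 2p that is not doubly transitive. If a Sylow p-subgroup of G has normalizer of order 2p, then p = 5 and G is isomorphic to the alternating group of degree 5. -/
theorem result {α : Type*} [Fintype α] [DecidableEq α] {p : ℕ} [Fact p.Prime] (hp : 3 < p) (hα : Fintype.card α = 2 * p) (G : Subgroup (Equiv.Perm α)) (hprim : MulAction.IsPreprimitive G α) (hnot2 : ¬ MulAction.IsMultiplyPretransitive G α 2) (P : Sylow p G) (hN : Nat.card (Subgroup.normalizer ((P : Subgroup G) : Set G)) = 2 * p) : p = 5 ∧ Nonempty (G ≃* alternatingGroup (Fin 5)) := by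
  open CfsgLib.PermPrime.TwoP in
  classical
  haveI : Fintype G := Fintype.ofFinite G
  have hp5 : 5 ≤ p := by
    have h := (Fact.out : p.Prime)
    rcases Nat.lt_or_ge p 5 with h5 | h5
    · interval_cases p
      norm_num at h
    · exact h5
  have H : Hyp p G α := ⟨hprim, inferInstance, hp5, hα, P, hN⟩
  obtain ⟨D⟩ := H.exists_data hnot2
  have h5 : p = 5 := by
    by_contra h5
    refine H.false_of_seven D ?_
    have h := (Fact.out : p.Prime)
    by_contra h7
    have h6 : p = 6 := by omega
    rw [h6] at h
    norm_num at h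
  refine ⟨h5, ?_⟩
  haveI := H.isSimpleGroup
  exact CfsgLib.Small.nonempty_mulEquiv_alternating_five (H.card_eq_sixty D.orbits h5)

end Cfsg.Agent.S4707
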