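import Cfsg.Statements.S4709
import Cfsg.Agent.Lib.AbelianFrob.Derived

set_option autoImplicit false
open Cfsg

namespace Cfsg.Agent.S4709

/-- Let p be a prime, M a maximal ideal of the algebraic integers containing p, and G a finite group with a nontrivial abelian Sylow p-subgroup P; put N = N_G(P), C = C_G(P). Suppose N/C is cyclic of order m with 1 < m < #P − 1 (C has index m in N and N is generated by C and one element), and C_G(y) ∩ N = C for every non-identity y ∈ P. Put r = (#P − 1)/m. Then there is s ≤ m such that the principal p-block is the disjoint union of a set X of s characters containing the principal character and a set Y of r characters, with integers a_χ ≠ 0 (χ ∈ X), d and a sign δ = ±1, such that: every χ ∈ X takes the value a_χ at every element whose p-part is a non-identity element of P; there is a map ζ from the non-principal linear characters ψ of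 P onto Y, constant on N-conjugacy classes, with ζ_ψ(z) = d + δ·Σ ψ'(y) for every z whose p-part y is a non-identity element of P, the sum running over the N-conjugates ψ' of ψ; (d − δ)^2 + (r − 1) d^2 + Σ_{χ ∈ X} a_χ^2 = m + 1; all members of Y agree on p-regular elements; and (r d − δ) η(g) + Σ_{χ ∈ X} a_χ χ(g) = 0 for every η ∈ Y and every p-regular g. -/
theorem result {G : Type*} [Group G] [Finite G] (p : ℕ) [Fact p.Prime] (M : Ideal Cfsg.AlgInt) (hM : Cfsg.IsPModular p M) (P : Sylow p G) (hab : IsMulCommutative P) (hP1 : Nat.card P ≠ 1) (m : ℕ) (hm1 : 1 < m) (hm2 : m + 1 < Nat.card P) (hCN : (Subgroup.centralizer ((P : Subgroup G) : Set G)).relIndex (Subgroup.normalizer ((P : Subgroup G) : Set G)) = m) (hcyc : ∃ g : G, g ∈ Subgroup.normalizer ((P : Subgroup G) : Set G) ∧ Subgroup.centralizer ((P : Subgroup G) : Set G) ⊔ Subgroup.zpowers g = Subgroup.normalizer ((P :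 Subgroup G) : Set G)) (hfrob : ∀ y : G, y ∈ (P : Subgroup G) → y ≠ 1 → Subgroup.centralizer ({y} : Set G) ⊓ Subgroup.normalizer ((P : Subgroup G) : Set G) = Subgroup.centralizer ((P : Subgroup G) : Set G)) : ∃ (s : ℕ) (X Y : Set (Cfsg.IrrCharacter G)), s ≤ m ∧ Cfsg.principalBlock M G = X ∪ Y ∧ Disjoint X Y ∧ Nat.card X = s ∧ Nat.card Y = (Nat.card P - 1) / m ∧ (∃ χ₁ ∈ X, (χ₁ : G → ℂ) = fun _ => 1) ∧ ∃ (a : Cfsg.IrrCharacter G → ℤ) (d δ : ℤ) (ζ : (↥(P : Subgroup G) →* ℂˣ) → Cfsg.IrrCharacter G), (δ = 1 ∨ δ = -1) ∧ (∀ χ ∈ X, a χ ≠ 0 ∧ ∀ z y : G, Cfsg.IsPPart p z y → y ∈ (P : Subgroup G) → y ≠ 1 → (χ : G → ℂ) z = (a χ : ℂ)) ∧ (∀ ψ : ↥(P : Subgroup G) →* ℂˣ, ψ ≠ 1 → ζ ψ ∈ Y) ∧ (∀ η ∈ Y, ∃ ψ : ↥(P : Subgroup G) →* ℂˣ, ψ ≠ 1 ∧ ζ ψ = η) ∧ (∀ ψ ψ' : ↥(P : Subgroup G) →* ℂˣ, ψ ≠ 1 → (∃ n : G, n ∈ Subgroup.normalizer ((P : Subgroup G) : Set G) ∧ ∀ w w' : ↥(P : Subgroup G), (w' : G)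 = n * w * n⁻¹ → ψ' w' = ψ w) → ζ ψ' = ζ ψ) ∧ (∀ ψ : ↥(P : Subgroup G) →* ℂˣ, ψ ≠ 1 → ∀ (z : G) (y : ↥(P : Subgroup G)), Cfsg.IsPPart p z (y : G) → (y : G) ≠ 1 → (ζ ψ : G → ℂ) z = (d : ℂ) + (δ : ℂ) * ∑ᶠ ψ' ∈ {ψ' : ↥(P : Subgroup G) →* ℂˣ | ∃ n : G, n ∈ Subgroup.normalizer ((P : Subgroup G) : Set G) ∧ ∀ w w' : ↥(P : Subgroup G), (w' : G) = n * w * n⁻¹ → ψ' w' = ψ w}, ((ψ' y : ℂˣ) : ℂ)) ∧ ((d - δ) ^ 2 + ((Nat.card P - 1) / m - 1 : ℤ) * d ^ 2 + ∑ᶠ χ ∈ X, a χ ^ 2 = (m : ℤ) + 1) ∧ (∀ η ∈ Y, ∀ η' ∈ Y, ∀ g : G, ¬ p ∣ orderOf g → (η : G → ℂ) g = (η' : G → ℂ) g) ∧ (∀ η ∈ Y, ∀ g : G, ¬ p ∣ orderOf g → ((((Nat.card P - 1) / m : ℕ) : ℂ) * d - δ) * (η : G → ℂ) g + ∑ᶠ χ ∈ X, (a χ : ℂ) * (χ : G → ℂ) g = 0) := by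
  classical
  letI := Fintype.ofFinite G
  have hfrob' : CfsgLib.AbelianFrob.Fpf P := hfrob
  have hm : (CfsgLib.AbelianFrob.CP P).relIndex (CfsgLib.AbelianFrob.NP P) + 1 <
      Nat.card ↥(P : Subgroup G) := by
    show (Subgroup.centralizer ((P : Subgroup G) : Set G)).relIndex
      (Subgroup.normalizer ((P : Subgroup G) : Set G)) + 1 < _
    rw [hCN]; exact hm2
  obtain ⟨μ, A, d, δ, S⟩ := CfsgLib.AbelianFrob.exists_struct P hab hfrob' hM hm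
  obtain ⟨hr, hm0⟩ := S.card_exc_eq hab hfrob' hP1 hCN
  obtain ⟨ψ₀, hψ₀⟩ : ∃ ψ : CfsgLib.AbelianFrob.Dual P, ψ ≠ 1 := by
    have h2 := S.two_le_card_exc hab hfrob' hm
    obtain ⟨χ, hχ⟩ := Finset.card_pos.1 (show 0 < S.exc.card by omega)
    obtain ⟨ψ, hψ, -⟩ := S.mem_exc.1 hχ
    exact ⟨ψ, hψ⟩
  obtain ⟨h1mem, -⟩ := S.principal_mem_rest hab hfrob' hM hm
  refine ⟨S.rest.card, ↑S.rest, ↑S.exc, ?_, ?_, ?_, ?_, ?_, ?_, A, d, δ, μ, S.sign, ?_, ?_, ?_, ?_, ?_, ?_, ?_, ?_⟩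
  · exact (S.card_rest_le hab hfrob' hM hm hψ₀).trans hCN.le
  · ext χ
    simp only [Set.mem_union, Finset.mem_coe, S.mem_rest]
    refine ⟨fun h => ?_, fun h => ?_⟩
    · by_cases he : χ ∈ S.exc
      · exact Or.inr he
      · exact Or.inl ⟨h, he⟩
    · rcases h with h | h
      · exact h.1
      · exact (Finset.mem_filter.1 (S.exc_subset h)).2
  · exact Finset.disjoint_coe.2 Finset.sdiff_disjoint
  · rw [Nat.card_coe_set_eq, Set.ncard_coe_finset]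
  · rw [Nat.card_coe_set_eq, Set.ncard_coe_finset, hr]
  · exact ⟨_, h1mem, rfl⟩
  · exact fun χ hχ => ⟨S.A_ne_zero hab hfrob' hM hP1 hχ, fun z y hz hy hy1 =>
      S.value_rest hab hfrob' hM hχ hz hy hy1⟩
  · exact fun ψ hψ => S.mem_exc.2 ⟨ψ, hψ, rfl⟩
  · exact fun η hη => S.mem_exc.1 hη
  · exact fun ψ ψ' hψ h =>
      ((S.eq_iff ψ ψ' hψ (CfsgLib.AbelianFrob.ne_one_of_mem_orb P h hψ)).2 h).symm
  · exact fun ψ hψ z y hz hy1 => S.value_exc hab hfrob' hM hψ y hz hy1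
  · have h := S.norm_eq hab hfrob' hM hψ₀
    rw [hr] at h
    have hcast : (((Nat.card ↥(P : Subgroup G) - 1) / m : ℕ) : ℤ) =
        ((Nat.card ↥(P : Subgroup G) : ℤ) - 1) / (m : ℤ) := by
      rw [Int.natCast_div, Nat.cast_sub Nat.card_pos, Nat.cast_one]
    rw [hcast] at h
    rw [finsum_mem_coe_finset]
    refine h.trans ?_
    rw [show (CfsgLib.AbelianFrob.CP P).relIndex (CfsgLib.AbelianFrob.NP P) = m from hCN]
  · intro η hη η' hη' g hg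
    obtain ⟨ψ, hψ, rfl⟩ := S.mem_exc.1 hη
    obtain ⟨φ, hφ, rfl⟩ := S.mem_exc.1 hη'
    exact S.regular_eq hM hψ hφ hg
  · intro η hη g hg
    obtain ⟨ψ, hψ, rfl⟩ := S.mem_exc.1 hη
    have h := S.regular_rel hM hψ hg
    rw [hr] at h
    rw [finsum_mem_coe_finset]
    exact h

end Cfsg.Agent.S4709
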