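import Cfsg.Statements.S4712
import Cfsg.Agent.Lib.SectionGalois.Count

set_option autoImplicit false
open Cfsg

namespace Cfsg.Agent.S4712

/-- Let p be an odd prime, M a maximal ideal of the algebraic integers containing p, G a finite group of order n with p-part p^a, and B a p-block of G. Call an irreducible character χ p-rational when χ(g^k) = χ(g) for every g and every k coprime to n with k ≡ 1 modulo n/p^a (χ is fixed by the Galois automorphisms fixing the roots of unity of order prime to p). Then the number of p-rational irreducible characters in B is at least the p-regular rank of B (the number of irreducible Brauer characters in B). -/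
theorem result {G : Type*} [Group G] [Finite G] (p : ℕ) [Fact p.Prime] (hodd : p ≠ 2) (M : Ideal Cfsg.AlgInt) (hM : Cfsg.IsPModular p M) (B : Set (Cfsg.IrrCharacter G)) (hB : Cfsg.IsPBlock M B) : Cfsg.blockRank p B ≤ Nat.card {χ : Cfsg.IrrCharacter G // χ ∈ B ∧ ∀ k : ℕ, Nat.Coprime k (Nat.card G) → k ≡ 1 [MOD Nat.card G / p ^ (Nat.card G).factorization p] → ∀ g : G, (χ : G → ℂ) (g ^ k) = (χ : G → ℂ) g} := by
  classical
  haveI : Fintype G := Fintype.ofFinite G
  set n := Nat.card G with hn
  set a := n.factorization p with ha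
  set m := n / p ^ a with hm
  have hp : p.Prime := Fact.out
  have hn0 : n ≠ 0 := Nat.card_pos.ne'
  have hnm : p ^ a * m = n := Nat.ordProj_mul_ordCompl_eq_self n p
  have hcop : (p ^ a).Coprime m :=
    Nat.Coprime.pow_left a (hp.coprime_iff_not_dvd.2 (Nat.not_dvd_ordCompl hp hn0))
  haveI : NeZero (p ^ a) := ⟨pow_ne_zero _ hp.ne_zero⟩
  obtain ⟨z, hz⟩ := (ZMod.isCyclic_units_of_prime_pow p hp hodd a).exists_generator
  obtain ⟨k, hk1, hk2⟩ := Nat.chineseRemainder hcop (z : ZMod (p ^ a)).val 1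
  have hkcop : k.Coprime n := by
    rw [← hnm]
    refine Nat.Coprime.mul_right ?_ ?_
    · have := ZMod.val_coe_unit_coprime z
      unfold Nat.Coprime at this ⊢
      rw [Nat.ModEq.gcd_eq hk1]; exact this
    · unfold Nat.Coprime
      rw [Nat.ModEq.gcd_eq hk2, Nat.gcd_one_left]
  have hreg : ∀ g : G, ¬ p ∣ orderOf g → g ^ k = g := by
    intro g hg
    have hdvd : orderOf g ∣ m := by
      have h1 : orderOf g ∣ p ^ a * m := hnm ▸ orderOf_dvd_natCard g
      exact (Nat.Coprime.pow_right a ((hp.coprime_iff_not_dvd.2 hg).symm)).dvd_of_dvd_mul_left h1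
    conv_rhs => rw [← pow_one g]
    exact pow_eq_pow_iff_modEq.2 (hk2.of_dvd hdvd)
  refine (CfsgLib.SectionGalois.blockRank_le_card_fixed hM hB hkcop hreg).trans ?_
  refine Nat.card_le_card_of_injective
    (fun χ => ⟨χ.1, χ.2.1, fun k' hk' hk'' g => ?_⟩) fun χ χ' h => Subtype.ext (by simpa using h)
  have hpow : ∀ j : ℕ, ∀ x : G, (χ.1 : G → ℂ) (x ^ k ^ j) = (χ.1 : G → ℂ) x := by
    intro j
    induction j with
    | zero => intro x; rw [pow_zero, pow_one]
    | succ j ih => intro x; rw [pow_succ, pow_mul, χ.2.2, ih]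
  have hk'p : k'.Coprime (p ^ a) := Nat.Coprime.coprime_dvd_right (Dvd.intro m hnm) hk'
  obtain ⟨j, hj⟩ := mem_powers_iff_mem_zpowers.2 (hz (ZMod.unitOfCoprime k' hk'p))
  have hmod : k' ≡ k ^ j [MOD n] := by
    rw [← hnm, ← Nat.modEq_and_modEq_iff_modEq_mul hcop]
    refine ⟨?_, hk''.trans (by simpa using (hk2.pow j).symm)⟩
    rw [← ZMod.natCast_eq_natCast_iff]
    have h1 : ((k : ℕ) : ZMod (p ^ a)) = (z : ZMod (p ^ a)) := by
      rw [(ZMod.natCast_eq_natCast_iff _ _ _).2 hk1, ZMod.natCast_rightInverse]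
    have h2 := congrArg (Units.val) hj
    simp only [Units.val_pow_eq_pow_val, ZMod.coe_unitOfCoprime] at h2
    rw [Nat.cast_pow, h1, ← h2]
  rw [pow_eq_pow_iff_modEq.2 (hmod.of_dvd (orderOf_dvd_natCard g)), hpow j]

end Cfsg.Agent.S4712
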