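import Cfsg.Statements.S4713
import Cfsg.Agent.Lib.Characters.ItoMichlerPSolvable
import Cfsg.Agent.Lib.Characters.Ito
-- import your own Cfsg.Agent.* helpers here

set_option autoImplicit false
open Cfsg

namespace Cfsg.Agent.S4713

/-- Let p be a prime and G a finite p-solvable group. Then G has a normal abelian Sylow p-subgroup if and only if the degree of every irreducible character of G is prime to p. -/
theorem result {G : Type*} [Group G] [Finite G] (p : ℕ) [Fact p.Prime] (hsolv : Cfsg.IsPSolvable p G) (P : Sylow p G) : ((P : Subgroup G).Normal ∧ IsMulCommutative P) ↔ ∀ χ : Cfsg.IrrCharacter G, ¬ p ∣ Cfsg.charDegree (χ : G → ℂ) := by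
  constructor
  · rintro ⟨hPn, hab⟩ χ hdvd
    have hab' : ∀ a ∈ (P : Subgroup G), ∀ b ∈ (P : Subgroup G), a * b = b * a := fun a ha b hb =>
      congrArg Subtype.val (hab.is_comm.comm (⟨a, ha⟩ : (P : Subgroup G)) ⟨b, hb⟩)
    obtain ⟨d, hd, hd'⟩ := CfsgLib.CharIto.degree_dvd_index_of_abelian_normal χ.2 (P : Subgroup G) hPn hab'
    rw [Cfsg.charDegree, hd, Complex.natCast_re, Nat.floor_natCast] at hdvd
    exact P.not_dvd_index (hdvd.trans hd')
  · intro hdeg
    have hn := CfsgLib.ItoMichler.normal_sylow hsolv hdeg P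
    exact ⟨hn, ⟨⟨fun a b => Subtype.ext
      (CfsgLib.ItoMichler.comm_of_normal_pgroup hdeg (P : Subgroup G) P.isPGroup' a a.2 b b.2)⟩⟩⟩

end Cfsg.Agent.S4713
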