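import Cfsg.Statements.S4714
import Cfsg.Agent.Lib.BlockCover.CentralizedDefect
import Cfsg.Agent.Lib.Blocks.PPart
-- import your own Cfsg.Agent.* helpers here

set_option autoImplicit false
open Cfsg
open CfsgLib.Characters CfsgLib.CharCorr CfsgLib.CentralDefect

namespace Cfsg.Agent.S4714

/-- Let p be a prime, M a maximal ideal of the algebraic integers containing p, D a p-subgroup of the finite group G with G = D·C_G(D), and B a p-block with defect group D. Let χ be a member of B having D in its kernel (there is exactly one, the canonical character of B). Then the irreducible characters in B are exactly the functions θ on G for which there is an irreducible character ζ of D such that θ(yx) = ζ(y)χ(x) whenever y ∈ D, x has order prime to p and x commutes with y, and θ(z) = 0 whenever the p-part of z does not lie in D. -/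
theorem result {G : Type*} [Group G] [Finite G] (p : ℕ) [Fact p.Prime] (M : Ideal Cfsg.AlgInt) (hM : Cfsg.IsPModular p M) (D : Subgroup G) (hD : IsPGroup p D) (hG : D ⊔ Subgroup.centralizer (D : Set G) = ⊤) (B : Set (Cfsg.IrrCharacter G)) (hB : Cfsg.IsPBlock M B) (hBD : Cfsg.IsDefectGroup p M B D) (χ : Cfsg.IrrCharacter G) (hχ : χ ∈ B) (hχD : ∀ y ∈ D, (χ : G → ℂ) y = (χ : G → ℂ) 1) : (∀ θ : Cfsg.IrrCharacter G, θ ∈ B ↔ ∃ ζ : Cfsg.IrrCharacter D, (∀ (y : D) (x : G), ¬ p ∣ orderOf x → Commute (y : G) x → (θ : G → ℂ) ((y : G) * x) = (ζ : D → ℂ) y * (χ : G → ℂ) x) ∧ (∀ z : G, (∀ y : G, Cfsg.IsPPart p z y → y ∉ D) → (θ : G → ℂ) z = 0)) ∧ ∀ ζ : Cfsg.IrrCharacter D, ∃ θ ∈ B, (∀ (y : D) (x : G), ¬ p ∣ orderOf x → Commute (y : G) x → (θ : G → ℂ) ((y : G) * x) = (ζ : D → ℂ) y * (χ : G → ℂ) x) ∧ (∀ z : G, (∀ y : G, Cfsg.IsPPart p z y → y ∉ D) → (θ : G → ℂ) z = 0) := by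
  classical
  let _ := Fintype.ofFinite G
  let _ := Fintype.ofFinite D
  haveI := normal_of_sup_centralizer hG
  obtain ⟨χ₀, b, hχB, htriv, hdeg, h⟩ := exists_trivial_member hM hD hG hB hBD
  have hsurj : ∀ ψ ∈ B, ∃ ζ, ext h hG ζ = ψ := fun ψ hψ =>
    exists_ext_eq h hG hM ((CfsgLib.Blocks.IsPBlock.mem_iff hM hB hχB ψ).1 hψ)
  have hmem : ∀ ζ, ext h hG ζ ∈ B := fun ζ =>
    (CfsgLib.Blocks.IsPBlock.mem_iff hM hB hχB _).2 fun g => by
      rw [← neg_sub]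
      exact CfsgLib.Blocks.MemLocalIdeal.neg hM (sameBlock_ext h hG hM htriv ζ g)
  have heq : χ = χ₀ := by
    obtain ⟨ζ, hζ⟩ := hsurj χ hχ
    obtain ⟨ζ', hζ'⟩ := hsurj χ₀ hχB
    rw [← hζ]
    refine Eq.trans ?_ hζ'
    rw [eq_principal_of_trivial h hG (ζ := ζ) fun x hx => by rw [hζ]; exact hχD x hx,
      eq_principal_of_trivial h hG (ζ := ζ') fun x hx => by rw [hζ']; exact htriv x hx]
  subst heq
  have hpart : ∀ z : G, (∃ u : D, HasPart D p z u) ↔ ¬ ∀ y : G, Cfsg.IsPPart p z y → y ∉ D := by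
    intro z
    constructor
    · rintro ⟨u, hu⟩ hz
      obtain ⟨k, hk⟩ := IsPGroup.iff_orderOf.1 hD u
      exact hz u ⟨(u : G)⁻¹ * z, mul_inv_cancel_left _ _, h.comm _ hu u u.2,
        ⟨k, by rw [← hk, Subgroup.orderOf_coe]⟩, hu⟩ u.2
    · intro hz
      push Not at hz
      obtain ⟨y, ⟨x, hyx, -, -, hx⟩, hy⟩ := hz
      exact ⟨⟨y, hy⟩, by rw [HasPart, ← hyx, inv_mul_cancel_left]; exact hx⟩
  have hval : ∀ ζ : Cfsg.IrrCharacter D,
      (∀ (y : D) (x : G), ¬ p ∣ orderOf x → Commute (y : G) x →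
        (ext h hG ζ : G → ℂ) ((y : G) * x) = (ζ : D → ℂ) y * (χ : G → ℂ) x) ∧
      (∀ z : G, (∀ y : G, Cfsg.IsPPart p z y → y ∉ D) → (ext h hG ζ : G → ℂ) z = 0) := fun ζ =>
    ⟨fun y x hx _ => pExt_mul h.pgroup h.comm _ _ y hx,
      fun z hz => pExt_eq_zero _ _ fun he => (hpart z).1 he hz⟩
  refine ⟨fun θ => ⟨fun hθ => ?_, ?_⟩, fun ζ => ⟨ext h hG ζ, hmem ζ, hval ζ⟩⟩
  · obtain ⟨ζ, rfl⟩ := hsurj θ hθ
    exact ⟨ζ, hval ζ⟩
  · rintro ⟨ζ, h1, h2⟩
    convert hmem ζ using 1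
    refine Subtype.ext (funext fun z => ?_)
    by_cases hz : ∀ y : G, Cfsg.IsPPart p z y → y ∉ D
    · rw [h2 z hz, (hval ζ).2 z hz]
    · obtain ⟨u, hu⟩ := (hpart z).2 hz
      have h3 := h1 u ((u : G)⁻¹ * z) hu (h.comm _ hu u u.2)
      have h4 := (hval ζ).1 u ((u : G)⁻¹ * z) hu (h.comm _ hu u u.2)
      rw [mul_inv_cancel_left] at h3 h4
      rw [h3, h4]

end Cfsg.Agent.S4714
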