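import Cfsg.Statements.S4715
import Cfsg.Agent.Lib.CentreHeight.Main

set_option autoImplicit false
open Cfsg

namespace Cfsg.Agent.S4715

/-- Let p be a prime, M a maximal ideal of the algebraic integers containing p, B a p-block of the finite group G with defect group D of order p^d, H = D·C_G(D), b a block of H inducing B, T the stabilizer of b in N_G(D) and e = [T : H] the inertial index of B; let n be the integer with p^n ≤ e < p^(n+1) and p^c the order of the centre of D. Then every irreducible character in B has height h with h + c ≤ n + d. -/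
theorem result {G : Type*} [Group G] [Finite G] (p : ℕ) [Fact p.Prime] (M : Ideal Cfsg.AlgInt) (hM : Cfsg.IsPModular p M) (B : Set (Cfsg.IrrCharacter G)) (hB : Cfsg.IsPBlock M B) (D : Subgroup G) (hBD : Cfsg.IsDefectGroup p M B D) (d : ℕ) (hDd : Nat.card D = p ^ d) (H : Subgroup G) (hH : H = D ⊔ Subgroup.centralizer (D : Set G)) (b : Set (Cfsg.IrrCharacter H)) (hind : Cfsg.IsInducedBlock M H b B) (T : Subgroup G) (hT : ∀ g : G, g ∈ T ↔ (g ∈ Subgroup.normalizer (D : Set G) ∧ ∀ θ ∈ b, ∀ θ' : Cfsg.IrrCharacter H, (∀ h h' : H, (h' : G) = g * h * g⁻¹ → (θ' : H → ℂ) h' = (θ : H → ℂ) h) → θ' ∈ b)) (e : ℕ) (he : H.relIndex T = e) (n : ℕ) (hn : p ^ n ≤ e ∧ e < p ^ (n + 1)) (c : ℕ) (hc : Nat.card (Subgroup.center D) = p ^ c) : ∀ χ ∈ B, Cfsg.blockHeight p B (χ : G → ℂ) + c ≤ n + d := by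
  haveI := hM.2.1
  letI := Fintype.ofFinite G
  letI : Fintype H := Fintype.ofFinite H
  intro χ hχ
  obtain ⟨c₀, hmax, hstab⟩ := CfsgLib.CentreHeight.exists_maxPair hM hB hBD H hH b hind
  have hTeq : T = CfsgLib.BrauerPairs.pairStab D
      (CfsgLib.BrauerPairs.eA hM (CfsgLib.BrauerPairs.cz D) c₀) := by
    ext g
    rw [hT, hstab]
  have hd : Cfsg.blockDefect p B = d := by
    have h1 := CfsgLib.BlockCover.natCard_defect hM hB hBD
    rw [hDd] at h1
    exact ((Nat.pow_right_injective (Fact.out : p.Prime).two_le) h1).symm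
  set h := Cfsg.blockHeight p B (χ : G → ℂ) with hh
  have hdvd : p ^ h ∣ CfsgLib.Contribution.red p B χ := by
    rw [CfsgLib.Contribution.pow_dvd_red hM.1 hχ]
    have h1 := CfsgLib.Contribution.minExp_le (p := p) hχ
    have h2 : h = (Cfsg.charDegree (χ : G → ℂ)).factorization p -
        CfsgLib.Contribution.minExp p B := rfl
    omega
  have key := CfsgLib.CentreHeight.height_bound hM hmax hχ hdvd
  rw [← hTeq, hc, hd] at key
  have he' : (D ⊔ CfsgLib.BrauerPairs.cz D).relIndex T = e := by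
    rw [← he, hH]
  rw [he'] at key
  have h3 : p ^ (h + c) < p ^ (n + 1 + d) := by
    rw [pow_add]
    refine lt_of_le_of_lt key ?_
    rw [pow_add p (n + 1) d]
    exact Nat.mul_lt_mul_of_pos_right hn.2 (pow_pos (Fact.out : p.Prime).pos d)
  have h4 := (Nat.pow_lt_pow_iff_right (Fact.out : p.Prime).one_lt).1 h3
  omega

end Cfsg.Agent.S4715
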