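import Cfsg.Statements.S4717
import Cfsg.Agent.Lib.BrauerPairs.Deficiency

set_option autoImplicit false
open Cfsg

namespace Cfsg.Agent.S4717

/-- Let p be a prime, M a maximal ideal of the algebraic integers containing p, and r a natural number; say that a finite group X has deficiency class r when X has no non-principal p-block of defect ≥ r. If G has deficiency class r then so does the centralizer of every p-element of G; conversely, if r > 0 and the centralizer of every element of order p has deficiency class r, then G has deficiency class r. -/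
theorem result {G : Type*} [Group G] [Finite G] (p : ℕ) [Fact p.Prime] (M : Ideal Cfsg.AlgInt) (hM : Cfsg.IsPModular p M) (r : ℕ) : ((∀ B' : Set (Cfsg.IrrCharacter G), Cfsg.IsPBlock M B' → B' ≠ Cfsg.principalBlock M G → Cfsg.blockDefect p B' < r) → ∀ y : G, (∃ k : ℕ, orderOf y = p ^ k) → (∀ B' : Set (Cfsg.IrrCharacter ↥(Subgroup.centralizer ({y} : Set G))), Cfsg.IsPBlock M B' → B' ≠ Cfsg.principalBlock M ↥(Subgroup.centralizer ({y} : Set G)) → Cfsg.blockDefect p B' < r)) ∧ (0 < r → (∀ y : G, orderOf y = p → (∀ B' : Set (Cfsg.IrrCharacter ↥(Subgroup.centralizer ({y} : Set G))), Cfsg.IsPBlock M B' → B' ≠ Cfsg.principalBlock M ↥(Subgroup.centralizer ({y} : Set G)) → Cfsg.blockDefect p B' < r)) → (∀ B' : Set (Cfsg.IrrCharacter G), Cfsg.IsPBlock M B' → B' ≠ Cfsg.principalBlock M G → Cfsg.blockDefect p B' < r)) := by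
  classical
  have : M.IsMaximal := hM.2.1
  have := Fintype.ofFinite G
  have heq : ∀ y : G, Subgroup.centralizer ({y} : Set G) =
      Subgroup.centralizer ((Subgroup.zpowers y : Subgroup G) : Set G) := fun y => by
    rw [Subgroup.zpowers_eq_closure, Subgroup.centralizer_closure]
  refine ⟨fun hG y hy => ?_, fun hr hC B' hB' hne => ?_⟩
  · obtain ⟨k, hk⟩ := hy
    rw [heq y]
    exact fun B' hB' hne => CfsgLib.BrauerPairs.deficiency_centralizer hM hG
      (IsPGroup.of_card (by rw [Nat.card_zpowers, hk])) hB' hne
  · refine CfsgLib.BrauerPairs.deficiency_of_centralizers hM hr (fun y hy => ?_) hB' hne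
    have h := hC y hy
    rw [heq y] at h
    exact h

end Cfsg.Agent.S4717
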