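import Cfsg.Statements.S4719
import Cfsg.Agent.Lib.Bounded.DefectBound
-- import your own Cfsg.Agent.* helpers here

set_option autoImplicit false
universe u
open Cfsg

namespace Cfsg.Agent.S4719

/-- For every natural number a there is a bound N with the following property. Let G be a finite group with Sylow 2-subgroups of order 2^a and r ≥ 0 such that G has no non-principal 2-block (relative to a maximal ideal of the algebraic integers containing 2) of defect ≥ r, and suppose a Sylow 2-subgroup of G contains an elementary abelian subgroup of order 2^(r+1). Then the order of G is at most N. -/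
theorem result (a : ℕ) : ∃ N : ℕ, ∀ (G : Type u) [Group G] [Finite G] (M : Ideal Cfsg.AlgInt) (r : ℕ) (P : Sylow 2 G), Cfsg.IsPModular 2 M → Nat.card P = 2 ^ a → (∀ B : Set (Cfsg.IrrCharacter G), Cfsg.IsPBlock M B → B ≠ Cfsg.principalBlock M G → Cfsg.blockDefect 2 B < r) → (∃ E : Subgroup G, E ≤ (P : Subgroup G) ∧ IsMulCommutative E ∧ (∀ x ∈ E, x * x = 1) ∧ Nat.card E = 2 ^ (r + 1)) → Nat.card G ≤ N := by
  choose N hN using fun r => CfsgLib.Bounded.defect_bound.{u} r a
  refine ⟨(Finset.range (a + 1)).sup N, fun G _ _ M r P hM hP hB ⟨E, hEP, hEc, hsq, hE⟩ => ?_⟩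
  haveI : Fact (Nat.Prime 2) := ⟨Nat.prime_two⟩
  have hra : r + 1 ≤ a := (Nat.pow_dvd_pow_iff_le_right (by norm_num : 1 < 2)).1
    (hE ▸ hP ▸ Subgroup.card_dvd_of_le hEP)
  have ha : ¬ 2 ^ (a + 1) ∣ Nat.card G := fun h => by
    have h1 := P.card_eq_multiplicity
    rw [hP] at h1
    have h2 := (Nat.prime_two.pow_dvd_iff_le_factorization Nat.card_pos.ne').1 h
    have h3 := Nat.pow_right_injective (le_refl 2) h1
    omega
  refine (hN r G M hM ha hB ⟨E, hsq, fun x hx y hy => ?_, hE⟩).trans
    (Finset.le_sup (f := N) (Finset.mem_range.2 (by omega)))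
  exact congrArg Subtype.val (hEc.is_comm.comm (⟨x, hx⟩ : E) ⟨y, hy⟩)

end Cfsg.Agent.S4719
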