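import Cfsg.Statements.S4721
import Cfsg.Agent.Lib.AbelianFrob.IndexThree
import Cfsg.Agent.Lib.AbelianFrob.Involution

set_option autoImplicit false
open Cfsg

namespace Cfsg.Agent.S4721

/-- Let p be a prime, M a maximal ideal of the algebraic integers containing p, and G a finite group with a nontrivial abelian Sylow p-subgroup P, N = N_G(P), C = C_G(P), such that N/C is cyclic of order 3, #P > 4, and C_G(y) ∩ N = C for every non-identity y ∈ P. Then the principal p-block is the disjoint union of a set X of exactly 3 characters containing the principal character and a set Y of (#P − 1)/3 characters, with signs a_χ = ±1 (χ ∈ X, a = 1 at the principal character) and δ = ±1 such that every χ ∈ X takes the value a_χ at every element whose p-part is a non-identity element of P, and there is a map ζ from the non-principal linear characters of P onto Y, constant on N-conjugacy classes, with ζ_ψ(z) = δ·Σ ψ'(y) over the N-orbit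 of ψ, for z with p-part y ≠ 1 in P. If moreover G has an involution lying in no proper normal subgroup of G, then exactly two of the three numbers −δ and a_χ (χ ∈ X non-principal) equal −1, and the product of the degrees of the two non-principal members of X and of any member of Y is a perfect square. -/
theorem result {G : Type*} [Group G] [Finite G] (p : ℕ) [Fact p.Prime] (M : Ideal Cfsg.AlgInt) (hM : Cfsg.IsPModular p M) (P : Sylow p G) (hab : IsMulCommutative P) (hP1 : Nat.card P ≠ 1) (hCN : (Subgroup.centralizer ((P : Subgroup G) : Set G)).relIndex (Subgroup.normalizer ((P : Subgroup G) : Set G)) = 3) (hcyc : ∃ g : G, g ∈ Subgroup.normalizer ((P : Subgroup G) : Set G) ∧ Subgroup.centralizer ((P : Subgroup G) : Set G) ⊔ Subgroup.zpowers g = Subgroup.normalizer ((P : Subgroup G) : Set G)) (hm2 : 3 + 1 < Nat.card P) (hfrob : ∀ y : G, y ∈ (P : Subgroup G) → y ≠ 1 → Subgroup.centralizer ({y} : Set G) ⊓ Subgroup.normalizer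 ((P : Subgroup G) : Set G) = Subgroup.centralizer ((P : Subgroup G) : Set G)) : ∃ (X Y : Set (Cfsg.IrrCharacter G)), Cfsg.principalBlock M G = X ∪ Y ∧ Disjoint X Y ∧ Nat.card X = 3 ∧ Nat.card Y = (Nat.card P - 1) / 3 ∧ (∃ χ₁ ∈ X, (χ₁ : G → ℂ) = fun _ => 1) ∧ ∃ (a : Cfsg.IrrCharacter G → ℤ) (δ : ℤ) (ζ : (↥(P : Subgroup G) →* ℂˣ) → Cfsg.IrrCharacter G), (δ = 1 ∨ δ = -1) ∧ (∀ χ ∈ X, (a χ = 1 ∨ a χ = -1) ∧ ∀ z y : G, Cfsg.IsPPart p z y → y ∈ (P : Subgroup G) → y ≠ 1 → (χ : G → ℂ) z = (a χ : ℂ)) ∧ (∀ ψ : ↥(P : Subgroup G) →* ℂˣ, ψ ≠ 1 → ζ ψ ∈ Y) ∧ (∀ η ∈ Y, ∃ ψ : ↥(P : Subgroup G) →* ℂˣ, ψ ≠ 1 ∧ ζ ψ = η) ∧ (∀ ψ ψ' : ↥(P : Subgroup G) →* ℂˣ, ψ ≠ 1 → (∃ n : G, n ∈ Subgroup.normalizer ((P : Subgroup G) : Set G) ∧ ∀ w w' : ↥(P : Subgroup G), (w' : G) = n * w * n⁻¹ → ψ' w' = ψ w) → ζ ψ' = ζ ψ) ∧ (∀ ψ : ↥(P : Subgroup G) →* ℂˣ, ψ ≠ 1 → ∀ (z : G) (y : ↥(P : Subgroup G)), Cfsg.IsPPart p z (y : G) → (y : G) ≠ 1 → (ζ ψ : G → ℂ) z = (δ :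 ℂ) * ∑ᶠ ψ' ∈ {ψ' : ↥(P : Subgroup G) →* ℂˣ | ∃ n : G, n ∈ Subgroup.normalizer ((P : Subgroup G) : Set G) ∧ ∀ w w' : ↥(P : Subgroup G), (w' : G) = n * w * n⁻¹ → ψ' w' = ψ w}, ((ψ' y : ℂˣ) : ℂ)) ∧ ((∃ t : G, orderOf t = 2 ∧ ∀ K : Subgroup G, K.Normal → t ∈ K → K = ⊤) → Nat.card {χ : Cfsg.IrrCharacter G // χ ∈ X ∧ (χ : G → ℂ) ≠ (fun _ => 1) ∧ a χ = -1} + (if δ = 1 then 1 else 0) = 2 ∧ ∀ η ∈ Y, IsSquare (Cfsg.charDegree (η : G → ℂ) * ∏ᶠ χ ∈ {χ : Cfsg.IrrCharacter G | χ ∈ X ∧ (χ : G → ℂ) ≠ fun _ => 1}, Cfsg.charDegree (χ : G → ℂ))) := by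
  classical
  letI := Fintype.ofFinite G
  have hfrob' : CfsgLib.AbelianFrob.Fpf P := hfrob
  have hP4 : 4 < Nat.card ↥(P : Subgroup G) := hm2
  have hm : (CfsgLib.AbelianFrob.CP P).relIndex (CfsgLib.AbelianFrob.NP P) + 1 <
      Nat.card ↥(P : Subgroup G) := by
    show (Subgroup.centralizer ((P : Subgroup G) : Set G)).relIndex
      (Subgroup.normalizer ((P : Subgroup G) : Set G)) + 1 < _
    rw [hCN]; exact hP4
  obtain ⟨μ, A, δ, S, h3, hsign⟩ :=
    CfsgLib.AbelianFrob.exists_struct_three P hab hfrob' hM hCN hP4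
  obtain ⟨hr, -⟩ := S.card_exc_eq hab hfrob' hP1 hCN
  obtain ⟨h1mem, hA1⟩ := S.principal_mem_rest hab hfrob' hM hm
  refine ⟨↑S.rest, ↑S.exc, ?_, ?_, ?_, ?_, ⟨_, h1mem, rfl⟩, A, δ, μ, S.sign, ?_, ?_, ?_, ?_, ?_, ?_⟩
  · ext χ
    simp only [Set.mem_union, Finset.mem_coe, S.mem_rest]
    refine ⟨fun h => ?_, fun h => ?_⟩
    · by_cases he : χ ∈ S.exc
      · exact Or.inr he
      · exact Or.inl ⟨h, he⟩
    · rcases h with h | h
      · exact h.1
      · exact (Finset.mem_filter.1 (S.exc_subset h)).2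
  · exact Finset.disjoint_coe.2 Finset.sdiff_disjoint
  · rw [Nat.card_coe_set_eq, Set.ncard_coe_finset, h3]
  · rw [Nat.card_coe_set_eq, Set.ncard_coe_finset, hr]
  · exact fun χ hχ => ⟨hsign χ hχ, fun z y hz hy hy1 =>
      S.value_rest hab hfrob' hM hχ hz hy hy1⟩
  · exact fun ψ hψ => S.mem_exc.2 ⟨ψ, hψ, rfl⟩
  · exact fun η hη => S.mem_exc.1 hη
  · exact fun ψ ψ' hψ h =>
      ((S.eq_iff ψ ψ' hψ (CfsgLib.AbelianFrob.ne_one_of_mem_orb P h hψ)).2 h).symm
  · intro ψ hψ z y hz hy1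
    rw [S.value_exc hab hfrob' hM hψ y hz hy1, Int.cast_zero, zero_add]
    rfl
  · rintro ⟨t, ht, htK⟩
    obtain ⟨α, β, hne, he⟩ := Finset.card_eq_two.1
      (show (S.rest.erase (CfsgLib.Characters.principalIrr G)).card = 2 by
        rw [Finset.card_erase_of_mem h1mem, h3])
    have hrest : S.rest = {CfsgLib.Characters.principalIrr G, α, β} := by
      rw [← he, Finset.insert_erase h1mem]
    have hα1 : α ≠ CfsgLib.Characters.principalIrr G :=
      Finset.ne_of_mem_erase (he.symm ▸ Finset.mem_insert_self α _)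
    have hβ1 : β ≠ CfsgLib.Characters.principalIrr G := Finset.ne_of_mem_erase
      (he.symm ▸ Finset.mem_insert_of_mem (Finset.mem_singleton_self β))
    have hαr : α ∈ S.rest := by rw [hrest]; simp
    have hβr : β ∈ S.rest := by rw [hrest]; simp
    obtain ⟨hcount, hsq⟩ := CfsgLib.AbelianFrob.signs_and_square P hab hfrob' hCN hM S hP4 hrest
      hne hα1 hβ1 (hsign α hαr) (hsign β hβr) ht htK
    have hmem : ∀ χ : Cfsg.IrrCharacter G,
        (χ ∈ (↑S.rest : Set (Cfsg.IrrCharacter G)) ∧ (χ : G → ℂ) ≠ fun _ => 1) ↔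
          χ ∈ ({α, β} : Finset (Cfsg.IrrCharacter G)) := by
      intro χ
      rw [← he, Finset.mem_erase, Finset.mem_coe, and_comm]
      refine and_congr_left fun _ => ⟨fun h e => h (congrArg Subtype.val e), fun h e => h ?_⟩
      exact Subtype.ext e
    refine ⟨?_, fun η hη => ?_⟩
    · rw [← hcount, Nat.card_eq_fintype_card, Fintype.card_subtype]
      have hset : (Finset.univ.filter fun χ : Cfsg.IrrCharacter G => χ ∈ (↑S.rest : Set (Cfsg.IrrCharacter G)) ∧
          (χ : G → ℂ) ≠ (fun _ => 1) ∧ A χ = -1) =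
          ({α, β} : Finset (Cfsg.IrrCharacter G)).filter fun χ => A χ = -1 := by
        ext χ
        simp only [Finset.mem_filter, Finset.mem_univ, true_and, ← hmem]
        tauto
      rw [hset, Finset.card_filter, Finset.sum_pair hne]
    · have hset : {χ : Cfsg.IrrCharacter G | χ ∈ (↑S.rest : Set (Cfsg.IrrCharacter G)) ∧
          (χ : G → ℂ) ≠ fun _ => 1} = (↑({α, β} : Finset (Cfsg.IrrCharacter G)) : Set (Cfsg.IrrCharacter G)) :=
        Set.ext hmem
      rw [hset, finprod_mem_coe_finset, Finset.prod_pair hne]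
      exact hsq η hη

end Cfsg.Agent.S4721
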