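import Cfsg.Statements.S4722
import Cfsg.Agent.Lib.Blocks.PrincipalColumn
import Cfsg.Agent.Lib.Blocks.ClassCount
import Cfsg.Agent.Lib.Characters.Generalized
import Cfsg.Agent.Lib.Characters.Clifford

set_option autoImplicit false
open Cfsg
open scoped ComplexConjugate

namespace Cfsg.Agent.S4722

open CfsgLib.Characters

open scoped Classical in
/-- An element not inverted by conjugates of `t`: three relations in the principal block. -/
theorem principal_relations {G : Type*} [Group G] [Fintype G] {M : Ideal Cfsg.AlgInt}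
    (hM : Cfsg.IsPModular 2 M) {t u : G} (ht : orderOf t = 2) (hu : ∃ k : ℕ, orderOf u = 2 ^ k)
    (hinv : ∀ g : G, (g * t * g⁻¹) * u * (g * t * g⁻¹)⁻¹ ≠ u⁻¹) :
    ∀ c : IrrCharacter G → ℂ, (c = (fun χ : IrrCharacter G => (χ : G → ℂ) t ^ 2 / (χ : G → ℂ) 1) ∨
      c = (fun χ : IrrCharacter G => (χ : G → ℂ) 1) ∨ c = fun χ : IrrCharacter G => (χ : G → ℂ) t) →
      ∑ χ ∈ Finset.univ.filter (· ∈ Cfsg.principalBlock M G), c χ * (χ : G → ℂ) u = 0 := by
  intro c hc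
  refine CfsgLib.Blocks.sum_principal_eq_zero_of_section hM hu c fun y hy hy2 => ?_
  -- no conjugate of `t` inverts `u * y`
  have hyinv : ∀ g : G, (g * t * g⁻¹) * (u * y) * (g * t * g⁻¹)⁻¹ ≠ (u * y)⁻¹ := by
    intro g h
    obtain ⟨k, hk⟩ := hu
    have hodd : Odd (orderOf y) := Nat.not_even_iff_odd.mp fun h => hy2 h.two_dvd
    obtain ⟨m, hm1, hm2⟩ : ∃ m : ℕ, (u * y) ^ m = u ∧ True := by
      have hcop : (2 ^ k).Coprime (orderOf y) := Nat.Coprime.pow_left k (Nat.coprime_two_left.mpr hodd)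
      obtain ⟨m, hm⟩ := Nat.chineseRemainder hcop 1 0
      refine ⟨m, ?_, trivial⟩
      rw [hy.symm.mul_pow, pow_eq_pow_mod m (hk ▸ pow_orderOf_eq_one u),
        orderOf_dvd_iff_pow_eq_one.mp (Nat.modEq_zero_iff_dvd.mp hm.2), mul_one]
      have := hm.1
      rw [Nat.ModEq] at this
      rw [this, ← pow_eq_pow_mod 1 (hk ▸ pow_orderOf_eq_one u), pow_one]
    apply hinv g
    rw [← hm1, ← conj_pow, h, inv_pow]
  have htt : t * t = 1 := by rw [← pow_two, ← ht, pow_orderOf_eq_one]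
  have hne1 : ¬ IsConj (u * y) 1 := fun h => by
    refine hyinv 1 ?_
    rw [isConj_one_left.mp h]; group
  have hnet : ¬ IsConj (u * y) t := fun h => by
    obtain ⟨g, hg⟩ := isConj_iff.mp h.symm
    refine hyinv g ?_
    rw [← hg, mul_inv_cancel_right]
    refine eq_inv_of_mul_eq_one_left ?_
    simp [mul_assoc, ← mul_assoc t t, htt]
  have hreal : ∀ (χ : IrrCharacter G) (x : G), x * x = 1 → conj ((χ : G → ℂ) x) = (χ : G → ℂ) x := fun χ x hx => by
    rw [← irr_apply_inv χ x, inv_eq_of_mul_eq_one_right hx]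
  rcases hc with rfl | rfl | rfl
  · have hp : CfsgLib.ClassCount.pairs t t {u * y} = ∅ := by
      rw [Finset.eq_empty_iff_forall_notMem]
      rintro ⟨a, b⟩ hab
      simp only [CfsgLib.ClassCount.pairs, Finset.mem_filter, Finset.mem_product,
        CfsgLib.ClassCount.mem_cls, Finset.mem_singleton] at hab
      obtain ⟨⟨ha, hb⟩, hab⟩ := hab
      obtain ⟨g, rfl⟩ := isConj_iff.mp ha
      obtain ⟨h, rfl⟩ := isConj_iff.mp hb
      refine hyinv g ?_
      rw [← hab, eq_inv_iff_mul_eq_one]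
      simp [mul_assoc, ← mul_assoc t t, htt]
    have h := CfsgLib.ClassCount.card_pairs_mul_centralizers t t {u * y}
    rw [hp, Finset.card_empty, Nat.cast_zero, zero_mul, zero_mul] at h
    have hG : (Nat.card G : ℂ) ≠ 0 := Nat.cast_ne_zero.2 Nat.card_pos.ne'
    refine (mul_eq_zero.mp ?_).resolve_left hG
    rw [← map_zero (starRingEnd ℂ), h, map_sum, Finset.mul_sum]
    refine Finset.sum_congr rfl fun χ _ => ?_
    rw [← CfsgLib.ClassCount.card_div_degree χ, Finset.sum_singleton, irr_apply_inv]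
    simp only [map_mul, map_div₀, Complex.conj_conj, hreal χ t htt, hreal χ 1 (one_mul 1), Complex.conj_natCast]
    ring
  · have h := column_orth (G := G) (u * y) 1
    rw [if_neg hne1] at h
    rw [← h]
    exact Finset.sum_congr rfl fun χ _ => by rw [hreal χ 1 (one_mul 1), mul_comm]
  · have h := column_orth (G := G) (u * y) t
    rw [if_neg hnet] at h
    rw [← h]
    exact Finset.sum_congr rfl fun χ _ => by rw [hreal χ t htt, mul_comm]

/-- Let M be a maximal ideal of the algebraic integers containing 2, P a 2-subgroup of the finite group G, U a subset of P, and t an involution of G such that no element of U is inverted by any conjugate of t. Let θ be a generalized character of P vanishing outside U, and for χ in the principal 2-block B₀ put a_χ = #P⁻¹ Σ_{y ∈ P} χ(y) θ(y⁻¹). Then Σ_{χ ∈ B₀} a_χ χ(t)^2/χ(1) = 0, Σ_{χ ∈ B₀} a_χ χ(1) = 0 and Σ_{χ ∈ B₀} a_χ χ(t) = 0. If moreover #P⁻¹ Σ_{y ∈ P} θ(y)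 ≠ 0, then either at least two of the a_χ have positive real part and at least two have negative real part, or G has a proper normal subgroup containing O_2'(G) and t. -/
theorem result {G : Type*} [Group G] [Finite G] (M : Ideal Cfsg.AlgInt) (hM : Cfsg.IsPModular 2 M) (P : Subgroup G) (hP : IsPGroup 2 P) (U : Set G) (hUP : U ⊆ (P : Set G)) (t : G) (ht : orderOf t = 2) (hinv : ∀ u ∈ U, ∀ g : G, (g * t * g⁻¹) * u * (g * t * g⁻¹)⁻¹ ≠ u⁻¹) (θ : ↥P → ℂ) (hθ : Cfsg.IsGeneralizedCharacter ↥P θ) (hθU : ∀ y : ↥P, (y : G) ∉ U → θ y = 0) : (∑ᶠ χ ∈ Cfsg.principalBlock M G, ((Nat.card ↥P : ℂ)⁻¹ * ∑ᶠ y : ↥P, (χ : G → ℂ) (y : G) * θ y⁻¹) * (χ : G → ℂ) t ^ 2 / (χ : G → ℂ) 1 = 0) ∧ (∑ᶠ χ ∈ Cfsg.principalBlock M G, ((Nat.card ↥P : ℂ)⁻¹ * ∑ᶠ y : ↥P, (χ : G → ℂ) (y : G) * θ y⁻¹) * (χ : G → ℂ) 1 = 0) ∧ (∑ᶠ χ ∈ Cfsg.principalBlock M G, ((Nat.card ↥P : ℂ)⁻¹ * ∑ᶠ y : ↥P, (χ : G → ℂ) (y : G) * θ y⁻¹) * (χ : G → ℂ) t = 0) ∧ ((Nat.card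 ↥P : ℂ)⁻¹ * ∑ᶠ y : ↥P, θ y ≠ 0 → (2 ≤ Nat.card {χ : Cfsg.IrrCharacter G // χ ∈ Cfsg.principalBlock M G ∧ 0 < (((Nat.card ↥P : ℂ)⁻¹ * ∑ᶠ y : ↥P, (χ : G → ℂ) (y : G) * θ y⁻¹)).re} ∧ 2 ≤ Nat.card {χ : Cfsg.IrrCharacter G // χ ∈ Cfsg.principalBlock M G ∧ (((Nat.card ↥P : ℂ)⁻¹ * ∑ᶠ y : ↥P, (χ : G → ℂ) (y : G) * θ y⁻¹)).re < 0}) ∨ ∃ K : Subgroup G, K.Normal ∧ K ≠ ⊤ ∧ Cfsg.pPrimeCore 2 G ≤ K ∧ t ∈ K) := by
  classical
  letI := Fintype.ofFinite G
  letI := Fintype.ofFinite ↥P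
  set B := Finset.univ.filter (· ∈ Cfsg.principalBlock M G) with hB
  have hfin : ∀ f : IrrCharacter G → ℂ, ∑ᶠ χ ∈ Cfsg.principalBlock M G, f χ = ∑ χ ∈ B, f χ := fun f =>
    finsum_mem_eq_sum_of_inter_support_eq _ (by rw [hB]; simp)
  simp only [hfin]
  simp only [finsum_eq_sum_of_fintype]
  set a : IrrCharacter G → ℂ := fun χ => (Nat.card ↥P : ℂ)⁻¹ * ∑ y : ↥P, (χ : G → ℂ) (y : G) * θ y⁻¹ with ha
  -- the three relations
  have hrel : ∀ c : IrrCharacter G → ℂ, (c = (fun χ : IrrCharacter G => (χ : G → ℂ) t ^ 2 / (χ : G → ℂ) 1) ∨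
      c = (fun χ : IrrCharacter G => (χ : G → ℂ) 1) ∨ c = fun χ : IrrCharacter G => (χ : G → ℂ) t) → ∑ χ ∈ B, a χ * c χ = 0 := by
    intro c hc
    simp only [ha, Finset.mul_sum, Finset.sum_mul]
    rw [Finset.sum_comm]
    refine Finset.sum_eq_zero fun y _ => ?_
    by_cases hy : (y : G) ∈ U
    · have hk : ∃ k : ℕ, orderOf (y : G) = 2 ^ k := by
        obtain ⟨k, hk⟩ := (IsPGroup.iff_orderOf.mp hP) y
        exact ⟨k, by rw [Subgroup.orderOf_coe, hk]⟩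
      have h := principal_relations hM ht hk (hinv _ hy) c hc
      rw [← mul_zero ((Nat.card ↥P : ℂ)⁻¹ * θ y⁻¹), ← h, hB, Finset.mul_sum]
      exact Finset.sum_congr rfl fun χ _ => by ring
    · have h0 : θ y⁻¹ = 0 := by rw [isGeneralizedCharacter_apply_inv hθ, hθU y hy, map_zero]
      simp [h0]
  have e1 : ∑ χ ∈ B, a χ * (χ : G → ℂ) 1 = 0 := hrel _ (Or.inr (Or.inl rfl))
  have e2 : ∑ χ ∈ B, a χ * (χ : G → ℂ) t = 0 := hrel _ (Or.inr (Or.inr rfl))
  have e3 : ∑ χ ∈ B, a χ * (χ : G → ℂ) t ^ 2 / (χ : G → ℂ) 1 = 0 := by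
    rw [← hrel _ (Or.inl rfl)]; exact Finset.sum_congr rfl fun χ _ => mul_div_assoc _ _ _
  refine ⟨?_, ?_, ?_, fun hne => ?_⟩
  · exact e3
  · exact e1
  · exact e2
  -- the numbers `a χ` are rational integers
  have hz : ∀ χ : IrrCharacter G, ∃ n : ℤ, a χ = n := fun χ => by
    obtain ⟨n, hn⟩ := classInner_generalized_int
      (isGeneralizedCharacter_of_isCharacter (CfsgLib.Clifford.isCharacter_pullback (irr_isCharacter χ) P.subtype)) hθ
    refine ⟨n, ?_⟩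
    rw [← hn, classInner]
    simp only [ha, isGeneralizedCharacter_apply_inv hθ]
    rfl
  choose n hn using hz
  have ha0 : a (principalIrr G) ≠ 0 := by
    intro h0
    apply hne
    rw [← h0, ha]
    congr 1
    rw [← Equiv.sum_comp (Equiv.inv ↥P) θ]
    exact Finset.sum_congr rfl fun y _ => by simp [principalIrr_apply]
  by_contra hcon
  push Not at hcon
  obtain ⟨hcard, hK⟩ := hcon
  -- a weighted sum of squares vanishes
  obtain ⟨σ, hσ, hone⟩ : ∃ σ : ℤ, (σ = 1 ∨ σ = -1) ∧ ∀ χ ∈ B, ∀ χ' ∈ B, 0 < σ * n χ → 0 < σ * n χ' → χ = χ' := by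
    have hsub : ∀ (σ : ℤ) (q : ℂ → Prop), (∀ z : ℤ, 0 < σ * z → q z) →
        Nat.card {χ : IrrCharacter G // χ ∈ Cfsg.principalBlock M G ∧ q (a χ)} < 2 →
        ∀ χ ∈ B, ∀ χ' ∈ B, 0 < σ * n χ → 0 < σ * n χ' → χ = χ' := by
      intro σ q hq hc χ hχ χ' hχ' h h'
      by_contra hne'
      have : Nontrivial {χ : IrrCharacter G // χ ∈ Cfsg.principalBlock M G ∧ q (a χ)} :=
        ⟨⟨⟨χ, (Finset.mem_filter.mp hχ).2, by rw [hn]; exact hq _ h⟩,
          ⟨χ', (Finset.mem_filter.mp hχ').2, by rw [hn]; exact hq _ h'⟩, fun e => hne' (congrArg Subtype.val e)⟩⟩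
      have := Finite.one_lt_card_iff_nontrivial.mpr this
      omega
    by_cases hp : Nat.card {χ : IrrCharacter G // χ ∈ Cfsg.principalBlock M G ∧ 0 < (a χ).re} < 2
    · exact ⟨1, Or.inl rfl, hsub 1 (fun z => 0 < z.re) (fun z hz => by simpa using hz) hp⟩
    · refine ⟨-1, Or.inr rfl, hsub (-1) (fun z => z.re < 0) (fun z hz => by simpa using hz) ?_⟩
      exact hcard (Nat.le_of_not_lt hp)
  have hdata : ∀ χ : IrrCharacter G, ∃ d T : ℝ, (χ : G → ℂ) 1 = d ∧ (χ : G → ℂ) t = T ∧ 0 < d := by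
    intro χ
    obtain ⟨h1, -, h2⟩ := CfsgLib.ClassCount.degree_eq χ
    have htt : t * t = 1 := by rw [← pow_two, ← ht, pow_orderOf_eq_one]
    have hc : conj ((χ : G → ℂ) t) = (χ : G → ℂ) t := by rw [← irr_apply_inv χ t, inv_eq_of_mul_eq_one_right htt]
    exact ⟨(Cfsg.charDegree (χ : G → ℂ) : ℝ), ((χ : G → ℂ) t).re, by rw [h1]; push_cast; rfl,
      (Complex.conj_eq_iff_re.mp hc).symm, Nat.cast_pos.mpr h2⟩
  choose d T hd hT hdpos using hdata
  have r1 : ∑ χ ∈ B, (n χ : ℝ) * d χ = 0 := by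
    simp only [hn, hd] at e1; exact_mod_cast e1
  have r2 : ∑ χ ∈ B, (n χ : ℝ) * T χ = 0 := by
    simp only [hn, hT] at e2; exact_mod_cast e2
  have r3 : ∑ χ ∈ B, (n χ : ℝ) * T χ ^ 2 / d χ = 0 := by
    simp only [hn, hd, hT] at e3; exact_mod_cast e3
  have hsq : ∀ r : ℝ, ∑ χ ∈ B, ((σ * n χ : ℤ) : ℝ) * d χ * (T χ / d χ - r) ^ 2 = 0 := by
    intro r
    have : ∀ χ, ((σ * n χ : ℤ) : ℝ) * d χ * (T χ / d χ - r) ^ 2 =
        σ * ((n χ : ℝ) * T χ ^ 2 / d χ) - 2 * r * σ * ((n χ : ℝ) * T χ) + r ^ 2 * σ * ((n χ : ℝ) * d χ) := by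
      intro χ
      have := (hdpos χ).ne'
      push_cast
      field_simp
      ring
    simp only [this, Finset.sum_add_distrib, Finset.sum_sub_distrib, ← Finset.mul_sum, r1, r2, r3,
      mul_zero, sub_zero, add_zero]
  obtain ⟨r, hr⟩ : ∃ r : ℝ, ∀ χ ∈ B, 0 < σ * n χ → T χ / d χ = r := by
    by_cases h : ∃ χ ∈ B, 0 < σ * n χ
    · obtain ⟨ψ, hψ, hpos⟩ := h
      exact ⟨T ψ / d ψ, fun χ hχ hp => by rw [hone χ hχ ψ hψ hp hpos]⟩
    · exact ⟨0, fun χ hχ hp => absurd ⟨χ, hχ, hp⟩ h⟩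
  have hall : ∀ χ ∈ B, n χ ≠ 0 → T χ / d χ = r := by
    intro χ hχ hn0
    have hnp : ∀ ξ ∈ B, ((σ * n ξ : ℤ) : ℝ) * d ξ * (T ξ / d ξ - r) ^ 2 ≤ 0 := by
      intro ξ hξ
      rcases lt_or_ge 0 (σ * n ξ) with h | h
      · rw [hr ξ hξ h]; simp
      · exact mul_nonpos_of_nonpos_of_nonneg
          (mul_nonpos_of_nonpos_of_nonneg (by exact_mod_cast h) (hdpos ξ).le) (sq_nonneg _)
    have h0 := (Finset.sum_eq_zero_iff_of_nonpos hnp).mp (hsq r) χ hχ
    rcases mul_eq_zero.mp h0 with h | h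
    · rcases mul_eq_zero.mp h with h | h
      · rcases mul_eq_zero.mp (Int.cast_eq_zero.mp h) with h | h
        · rcases hσ with rfl | rfl <;> simp at h
        · exact absurd h hn0
      · exact absurd h (hdpos χ).ne'
    · exact sub_eq_zero.mp (sq_eq_zero_iff.mp h)
  have h1B : principalIrr G ∈ B := Finset.mem_filter.mpr ⟨Finset.mem_univ _, CfsgLib.Blocks.principalIrr_mem hM⟩
  have hn1 : n (principalIrr G) ≠ 0 := fun h => ha0 (by rw [hn, h, Int.cast_zero])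
  have hr1 : r = 1 := by
    rw [← hall _ h1B hn1]
    have e := hd (principalIrr G)
    have e' := hT (principalIrr G)
    rw [principalIrr_apply] at e e'
    rw [show T (principalIrr G) = 1 by exact_mod_cast e'.symm, show d (principalIrr G) = 1 by exact_mod_cast e.symm]
    norm_num
  -- a non-principal character with `a χ ≠ 0`
  obtain ⟨χ, hχ, hχ1, hnχ⟩ : ∃ χ ∈ B, χ ≠ principalIrr G ∧ n χ ≠ 0 := by
    by_contra h
    push Not at h
    rw [Finset.sum_eq_single_of_mem _ h1B (fun χ hχ hne => by rw [h χ hχ hne]; simp)] at r1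
    rcases mul_eq_zero.mp r1 with h | h
    · exact hn1 (Int.cast_eq_zero.mp h)
    · exact (hdpos _).ne' h
  obtain ⟨K, hKn, hKmem⟩ := CfsgLib.Blocks.exists_kerSubgroup χ
  have hKtop : K ≠ ⊤ := fun htop => by
    have hall1 : ∀ g : G, (χ : G → ℂ) g = (χ : G → ℂ) 1 := fun g => (hKmem g).mp (htop ▸ Subgroup.mem_top g)
    have h := classInner_irr_ne χ.2 (principalIrr G).2 (fun h => hχ1 (Subtype.ext h))
    simp [classInner, hall1, principalIrr_apply, irr_one_ne_zero χ] at h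
  have hO : Cfsg.pPrimeCore 2 G ≤ K := fun g hg =>
    (hKmem g).mpr (CfsgLib.Blocks.principalBlock_kernel hM (Finset.mem_filter.mp hχ).2
      CfsgLib.PCore.not_dvd_card_pPrimeCore hg)
  refine hK K hKn hKtop hO ((hKmem t).mpr ?_)
  have h := hall χ hχ hnχ
  rw [hr1, div_eq_one_iff_eq (hdpos χ).ne'] at h
  rw [hT, hd, h]

end Cfsg.Agent.S4722
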