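import Cfsg.Statements.S4723
import Cfsg.Agent.Lib.BlockCover.FixedHeightZero

set_option autoImplicit false
open Cfsg

namespace Cfsg.Agent.S4723

/-- Let p be a prime, M a maximal ideal of the algebraic integers containing p, H a normal subgroup of the finite group G and b a p-block of H. Let T be the stabilizer of b in G. Then b contains a character θ of height zero whose own stabilizer in G (the elements g with θ(g h g⁻¹) = θ(h) for all h ∈ H) has index prime to p in T, i.e. contains a Sylow p-subgroup of T. -/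
theorem result {G : Type*} [Group G] [Finite G] (p : ℕ) [Fact p.Prime] (M : Ideal Cfsg.AlgInt) (hM : Cfsg.IsPModular p M) (H : Subgroup G) [H.Normal] (b : Set (Cfsg.IrrCharacter ↥H)) (hb : Cfsg.IsPBlock M b) (T : Subgroup G) (hT : (∀ g : G, g ∈ T ↔ ∀ θ ∈ b, ∀ θ' : Cfsg.IrrCharacter ↥H, (∀ h h' : ↥H, (h' : G) = g * h * g⁻¹ → (θ' : ↥H → ℂ) h' = (θ : ↥H → ℂ) h) → θ' ∈ b)) : ∃ θ ∈ b, Cfsg.blockHeight p b (θ : ↥H → ℂ) = 0 ∧ ∃ S : Subgroup G, S ≤ T ∧ (∀ g : G, g ∈ S ↔ (g ∈ T ∧ ∀ h h' : ↥H, (h' : G) = g * h * g⁻¹ → (θ : ↥H → ℂ) h' = (θ : ↥H → ℂ) h)) ∧ ¬ p ∣ S.relIndex T := by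
  classical
  have := Fintype.ofFinite G
  let _ : Fintype H := Fintype.ofFinite H
  obtain ⟨P0⟩ : Nonempty (Sylow p T) := inferInstance
  set P : Subgroup G := (P0 : Subgroup T).map T.subtype with hP
  have hPT : P ≤ T := Subgroup.map_subtype_le _
  have hst : ∀ t ∈ P, ∀ θ ∈ b, CfsgLib.CharCorr.conjIrr H t θ ∈ b := by
    intro t ht θ hθ
    refine (hT t⁻¹).1 (T.inv_mem (hPT ht)) θ hθ _ fun h h' hh => ?_
    rw [CfsgLib.CharCorr.conjIrr_apply]
    refine congrArg (θ : H → ℂ) (Subtype.ext ?_)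
    show t * (h' : G) * t⁻¹ = h
    rw [hh]
    group
  obtain ⟨θ, hθ, h0, hfix⟩ := CfsgLib.BlockCover.exists_fixed_height_zero H hM hb
    (P0.isPGroup'.map T.subtype) hst
  refine ⟨θ, hθ, h0, ?_⟩
  let S : Subgroup G :=
    { carrier := {g | g ∈ T ∧ CfsgLib.CharCorr.conjIrr H g θ = θ}
      one_mem' := ⟨T.one_mem, CfsgLib.BlockCover.conjIrr_one H θ⟩
      mul_mem' := fun {a c} ha hc => ⟨T.mul_mem ha.1 hc.1, by
        rw [← CfsgLib.BlockCover.conjIrr_comp, ha.2, hc.2]⟩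
      inv_mem' := fun {a} ha => ⟨T.inv_mem ha.1, by
        conv_lhs => rw [← ha.2]
        rw [CfsgLib.BlockCover.conjIrr_comp, mul_inv_cancel, CfsgLib.BlockCover.conjIrr_one]⟩ }
  have hPS : P ≤ S := fun t ht => ⟨hPT ht, hfix t ht⟩
  refine ⟨S, fun g hg => hg.1, fun g => and_congr_right fun _ => ⟨fun hg h h' hh => ?_,
    fun hg => ?_⟩, fun hdvd => ?_⟩
  · conv_rhs => rw [← hg]
    rw [CfsgLib.CharCorr.conjIrr_apply]
    exact congrArg (θ : H → ℂ) (Subtype.ext hh)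
  · apply Subtype.ext
    funext n
    rw [CfsgLib.CharCorr.conjIrr_apply]
    exact hg n _ rfl
  · have h1 : P.relIndex T = (P0 : Subgroup T).index := by
      rw [Subgroup.relIndex, hP, Subgroup.subgroupOf,
        Subgroup.comap_map_eq_self_of_injective T.subtype_injective]
    exact P0.not_dvd_index (h1 ▸ hdvd.trans (Subgroup.relIndex_dvd_of_le_left T hPS))

end Cfsg.Agent.S4723
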