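import Cfsg.Statements.S4724
import Cfsg.Agent.Lib.PermPrime.DegP.Even
import Cfsg.Agent.Lib.Small.OrderSixty
import Cfsg.Agent.Lib.Small.Order168
import Cfsg.Agent.S0498

set_option autoImplicit false
open Cfsg

namespace Cfsg.Agent.S4724

/-- Let G be a transitive permutation group of prime degree p having exactly one irreducible character of degree p. Let P be a Sylow p-subgroup and suppose N_G(P) = P·E for a subgroup E with P ∩ E = 1, such that the normalizer of E has order 2·#E and E meets each of its conjugates by elements outside its normalizer trivially. Then p is 5, 7 or 11 and G is isomorphic to PSL(2, p). -/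
theorem result {α : Type*} [Fintype α] [DecidableEq α] {p : ℕ} [Fact p.Prime] (hα : Fintype.card α = p) (G : Subgroup (Equiv.Perm α)) [MulAction.IsPretransitive G α] (huniq : ∃! χ : Cfsg.IrrCharacter G, Cfsg.charDegree (χ : G → ℂ) = p) (P : Sylow p G) (E : Subgroup G) (hPE : (P : Subgroup G) ⊔ E = Subgroup.normalizer ((P : Subgroup G) : Set G)) (hPE' : (P : Subgroup G) ⊓ E = ⊥) (hNE : Nat.card (Subgroup.normalizer (E : Set G)) = 2 * Nat.card E) (hTI : ∀ g : G, g ∉ Subgroup.normalizer (E : Set G) → E ⊓ E.map (MulAut.conj g).toMonoidHom = ⊥) : (p = 5 ∨ p = 7 ∨ p = 11) ∧ ∃ (F : Type) (_ : Field F) (_ : Fintype F), Fintype.card F = p ∧ Nonempty (G ≃* Matrix.ProjectiveSpecialLinearGroup (Fin 2) F) := by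
  classical
  letI : Fintype G := Fintype.ofFinite G
  letI : Fintype E := Fintype.ofFinite E
  let S : CfsgLib.PermPrime.DegP.Setup p G :=
    ⟨hα, inferInstance, huniq, P, E, hPE, hPE', hNE, hTI⟩
  letI : Fintype S.E := ‹Fintype E›
  haveI := S.isSimpleGroup
  have h : p = 5 ∧ Nat.card G = 60 ∨ p = 7 ∧ Nat.card G = 168 ∨ p = 11 ∧ Nat.card G = 660 := by
    rcases Nat.even_or_odd (Nat.card S.E) with he | he
    · by_cases h2 : Nat.card S.E = 2
      · exact Or.inl (S.two_order h2)
      · exact (S.even_absurd he h2).elim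
    · exact Or.inr (S.odd_order he)
  rcases h with ⟨rfl, hG⟩ | ⟨rfl, hG⟩ | ⟨rfl, hG⟩
  · exact ⟨Or.inl rfl, ZMod 5, inferInstance, inferInstance, ZMod.card 5,
      CfsgLib.Small.nonempty_mulEquiv_psl_five hG⟩
  · exact ⟨Or.inr (Or.inl rfl), ZMod 7, inferInstance, inferInstance, ZMod.card 7,
      CfsgLib.Small.Order168.nonempty_mulEquiv_psl_seven hG⟩
  · exact ⟨Or.inr (Or.inr rfl), ZMod 11, inferInstance, inferInstance, ZMod.card 11,
      Cfsg.Agent.S0498.result 11 (Or.inl rfl) (by rw [hG]; norm_num) (ZMod.card 11)⟩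

end Cfsg.Agent.S4724
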