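import Cfsg.Statements.S4725
import Cfsg.Agent.Lib.BlockCover.Induced
import Cfsg.Agent.Lib.BlockCover.Regular

set_option autoImplicit false
open Cfsg

namespace Cfsg.Agent.S4725

/-- Let p be a prime, M a maximal ideal of the algebraic integers containing p, H a subgroup of the finite group G, and b a p-block of H inducing the p-block B of G, with b and B of the same defect. Then for every height-zero ζ ∈ b there is a height-zero χ ∈ B whose multiplicity in the character induced from ζ is not divisible by p. -/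
theorem result {G : Type*} [Group G] [Fintype G] (p : ℕ) [Fact p.Prime] (M : Ideal Cfsg.AlgInt) (hM : Cfsg.IsPModular p M) (H : Subgroup G) (b : Set (Cfsg.IrrCharacter ↥H)) (B : Set (Cfsg.IrrCharacter G)) (hind : Cfsg.IsInducedBlock M H b B) (hdef : Cfsg.blockDefect p b = Cfsg.blockDefect p B) (ζ : Cfsg.IrrCharacter ↥H) (hζ : ζ ∈ b) (hζ0 : Cfsg.blockHeight p b (ζ : ↥H → ℂ) = 0) : ∃ χ ∈ B, Cfsg.blockHeight p B (χ : G → ℂ) = 0 ∧ ∃ a : ℕ, Cfsg.classInner (Cfsg.indFun H (ζ : ↥H → ℂ)) (χ : G → ℂ) = (a : ℂ) ∧ ¬ p ∣ a := by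
  classical
  let _ : Fintype H := Fintype.ofFinite H
  obtain ⟨⟨n, h1, hn0, hv⟩, -⟩ :=
    CfsgLib.BlockCover.blockPart_indFun_valuation H hM hind hζ
  have hp : p.Prime := Fact.out
  have hch : Cfsg.IsCharacter G (Cfsg.indFun H (ζ : H → ℂ)) :=
    CfsgLib.Induction.isCharacter_indFun H (CfsgLib.Characters.irr_isCharacter ζ)
  choose a ha using fun χ : Cfsg.IrrCharacter G =>
    CfsgLib.Characters.classInner_char_nat hch (CfsgLib.Characters.irr_isCharacter χ)
  set s := Finset.univ.filter (fun χ : Cfsg.IrrCharacter G => χ ∈ B) with hs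
  have hn : n = ∑ χ ∈ s, a χ * Cfsg.charDegree (χ : G → ℂ) := by
    have : (n : ℂ) = ((∑ χ ∈ s, a χ * Cfsg.charDegree (χ : G → ℂ) : ℕ) : ℂ) := by
      rw [← h1, CfsgLib.BlockCover.blockPart_eq_sum, Nat.cast_sum]
      refine Finset.sum_congr rfl fun χ _ => ?_
      rw [Nat.cast_mul, ha, (CfsgLib.ClassCount.degree_eq χ).1]
    exact_mod_cast this
  -- the valuation of the part in `B` is the least one of `B`
  have hval : n.factorization p = CfsgLib.Contribution.minExp p B := by
    have hmin1 := CfsgLib.Contribution.minExp_add_defect hM hind.1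
    have hmin2 := CfsgLib.Contribution.minExp_add_defect hM hind.2.1
    have hz : (Cfsg.charDegree (ζ : H → ℂ)).factorization p =
        CfsgLib.Contribution.minExp p b := by
      have := CfsgLib.Contribution.minExp_le (p := p) hζ
      have h2 : (Cfsg.charDegree (ζ : H → ℂ)).factorization p -
          CfsgLib.Contribution.minExp p b = 0 := hζ0
      omega
    have hcard := congrArg (fun k => k.factorization p) H.card_mul_index
    simp only [Nat.factorization_mul Nat.card_pos.ne' Subgroup.index_ne_zero_of_finite,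
      Finsupp.coe_add, Pi.add_apply] at hcard
    rw [hv, CfsgLib.BlockCover.charDegree_indFun,
      Nat.factorization_mul Subgroup.index_ne_zero_of_finite
        (CfsgLib.ClassCount.degree_eq ζ).2.2.ne', Finsupp.coe_add, Pi.add_apply, hz]
    omega
  by_contra hcon
  simp only [not_exists, not_and, not_not] at hcon
  have hdvd : p ^ (CfsgLib.Contribution.minExp p B + 1) ∣ n := by
    rw [hn]
    refine Finset.dvd_sum fun χ hχ => ?_
    have hχB : χ ∈ B := (Finset.mem_filter.1 hχ).2
    rw [CfsgLib.Contribution.degree_red (p := p) hχB, pow_succ, mul_comm (p ^ _) (p : ℕ),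
      mul_comm (a χ), mul_assoc, mul_comm p]
    refine Nat.mul_dvd_mul_left _ ?_
    by_cases h0 : p ∣ CfsgLib.Contribution.red p B χ
    · exact h0.mul_right _
    · exact (hcon χ hχB ((CfsgLib.BlockCover.blockHeight_eq_zero_iff hp hχB).2 h0) (a χ)
        (ha χ)).mul_left _
  have := (hp.pow_dvd_iff_le_factorization hn0).1 hdvd
  omega

end Cfsg.Agent.S4725
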