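import Cfsg.Statements.S4726
import Cfsg.Agent.Lib.BrauerPairs.InducedFromCentric

set_option autoImplicit false
open Cfsg

namespace Cfsg.Agent.S4726

/-- Let p be a prime, M a maximal ideal of the algebraic integers containing p, H a subgroup of the finite group G and b a p-block of H with defect group D₀ such that C_G(D₀) ≤ H. Then b induces a block of G, and for every block B of G induced by b there is a defect group D of B with Z(D) ≤ Z(D₀) ≤ D₀ ≤ D (as subgroups of G). In particular, if the defect groups of B are abelian then D₀ is a defect group of B. -/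
theorem result {G : Type*} [Group G] [Finite G] (p : ℕ) [Fact p.Prime] (M : Ideal Cfsg.AlgInt) (hM : Cfsg.IsPModular p M) (H : Subgroup G) (b : Set (Cfsg.IrrCharacter ↥H)) (hb : Cfsg.IsPBlock M b) (D₀ : Subgroup ↥H) (hD₀ : Cfsg.IsDefectGroup p M b D₀) (hC : Subgroup.centralizer ((D₀.map H.subtype : Subgroup G) : Set G) ≤ H) : Cfsg.InducedBlockDefined M H b ∧ ∀ B : Set (Cfsg.IrrCharacter G), Cfsg.IsInducedBlock M H b B → (∃ D : Subgroup G, Cfsg.IsDefectGroup p M B D ∧ (Subgroup.center ↥D).map D.subtype ≤ ((Subgroup.center ↥D₀).map D₀.subtype).map H.subtype ∧ ((Subgroup.center ↥D₀).map D₀.subtype).map H.subtype ≤ D₀.map H.subtype ∧ D₀.map H.subtype ≤ D) ∧ (∀ D : Subgroup G, Cfsg.IsDefectGroup p M B D → IsMulCommutative ↥D → Cfsg.IsDefectGroup p M B (D₀.map H.subtype)) := by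
  classical
  have : M.IsMaximal := hM.2.1
  have := Fintype.ofFinite G
  let _ : Fintype H := Fintype.ofFinite H
  have := CfsgLib.BrauerPairs.charP_res hM
  obtain ⟨hdef, hall⟩ := CfsgLib.BrauerPairs.induced_from_centric hM hb hD₀ hC
  refine ⟨hdef, fun B hB => ?_⟩
  obtain ⟨D, hD, hle, hcent⟩ := hall B hB
  constructor
  · refine ⟨D, hD, ?_, Subgroup.map_mono (Subgroup.map_subtype_le _), hle⟩
    rintro _ ⟨z, hz, rfl⟩
    have hzc : (z : G) ∈ CfsgLib.BrauerPairs.cz (D₀.map H.subtype) :=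
      CfsgLib.BrauerPairs.mem_cz.2 fun d hd =>
        congrArg Subtype.val (Subgroup.mem_center_iff.1 hz ⟨d, hle hd⟩)
    obtain ⟨w, hw, hwz⟩ := hcent ⟨z.2, hzc⟩
    refine ⟨w, ⟨⟨w, hw⟩, Subgroup.mem_center_iff.2 fun d => ?_, rfl⟩, hwz⟩
    have h1 := CfsgLib.BrauerPairs.mem_cz.1 hzc ((d : H) : G) ⟨d, d.2, rfl⟩
    have hwz' : ((w : H) : G) = (z : G) := hwz
    rw [← hwz'] at h1
    exact Subtype.ext (Subtype.ext h1)
  · intro E hE hEab
    have hcard := CfsgLib.BrauerPairs.defectGroup_card_eq hM hB.2.1 hE hD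
    obtain ⟨t, -, ht⟩ := (CfsgLib.BrauerPairs.brSetup_block hM hB.2.1).isDefect_conj
      ((CfsgLib.BrauerPairs.isDefectGroup_iff hM hB.2.1 E).1 hE)
      ((CfsgLib.BrauerPairs.isDefectGroup_iff hM hB.2.1 D).1 hD)
    have hDab : D ≤ CfsgLib.BrauerPairs.cz (D₀.map H.subtype) := by
      intro d hd
      refine CfsgLib.BrauerPairs.mem_cz.2 fun q hq => ?_
      obtain ⟨a, ha, rfl⟩ := ht.symm ▸ hd
      obtain ⟨c, hc, rfl⟩ := ht.symm ▸ hle hq
      have h1 : a * c = c * a := congrArg Subtype.val (hEab.is_comm.comm (⟨a, ha⟩ : E) ⟨c, hc⟩)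
      rw [← map_mul, ← map_mul, h1]
    have heq : D = D₀.map H.subtype := le_antisymm (fun d hd => hcent ⟨hd, hDab hd⟩) hle
    exact heq ▸ hD

end Cfsg.Agent.S4726
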