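import Cfsg.Statements.S4727
import Cfsg.Agent.Lib.BrauerPairs.PairKernel
import Cfsg.Agent.Lib.Blocks.SecondMain

set_option autoImplicit false
open Cfsg

namespace Cfsg.Agent.S4727

open CfsgLib CfsgLib.Characters CfsgLib.BrauerPairs
open scoped ComplexConjugate

universe u

variable {G : Type u} [Group G] [Fintype G]

theorem centralizer_singleton_eq (y : G) :
    Subgroup.centralizer ({y} : Set G) = cz (Subgroup.zpowers y) := by
  show _ = Subgroup.centralizer ((Subgroup.zpowers y : Subgroup G) : Set G)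
  rw [Subgroup.zpowers_eq_closure, Subgroup.centralizer_closure]

theorem twisted_sum {H : Subgroup G} [Fintype H] (b : Set (IrrCharacter H)) (χ : IrrCharacter G)
    {y x : H} (hyx : Commute y x) (hx : x ∈ blockKer b) :
    ∑ k : H, blockCoeff b k * (χ : G → ℂ) ((k : G) * ((y * x : H) : G)) =
      ∑ k : H, blockCoeff b k * (χ : G → ℂ) ((k : G) * (y : G)) := by
  have hinv : ∀ k : H, blockCoeff b (k * x⁻¹) = blockCoeff b k := by
    intro k
    unfold blockCoeff
    congr 1
    refine finsum_congr fun ξ => finsum_congr fun hξ => ?_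
    obtain ⟨f, d, ρ, hρ, rfl⟩ := ξ
    have h := hx _ hξ
    change ρ.character x = ρ.character 1 at h
    rw [Representation.char_one] at h
    have h1 : ρ x = 1 := (char_eq_degree_iff ρ x).mp h
    have h2 : ρ k = ρ (k * x⁻¹) := by
      conv_lhs => rw [← inv_mul_cancel_right k x, map_mul ρ, h1, mul_one]
    show ρ.character 1 * conj (ρ.character (k * x⁻¹)) = ρ.character 1 * conj (ρ.character k)
    simp only [Representation.character, h2]
  conv_rhs => rw [← Equiv.sum_comp (Equiv.mulRight x)]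
  refine Finset.sum_congr rfl fun k _ => ?_
  rw [Equiv.coe_mulRight, show blockCoeff b (k * x) = blockCoeff b k by
    rw [← hinv (k * x), mul_inv_cancel_right]]
  congr 2
  rw [← Subgroup.coe_mul, ← Subgroup.coe_mul, mul_assoc, hyx.eq]

theorem sum_blocks {p : ℕ} {M : Ideal AlgInt} (hM : IsPModular p M) (H : Subgroup G) [Fintype H]
    (χ : IrrCharacter G) (h : H) [DecidableEq (Set (IrrCharacter H))] :
    (χ : G → ℂ) h = ∑ b ∈ Finset.univ.image fun ξ : IrrCharacter H => blockOf M (ξ : H → ℂ),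
      ∑ k : H, blockCoeff b k * (χ : G → ℂ) ((k : G) * (h : G)) := by
  classical
  have key : ∀ k : H, (∑ b ∈ Finset.univ.image fun ξ : IrrCharacter H => blockOf M (ξ : H → ℂ),
      blockCoeff b k) = if k = 1 then 1 else 0 := by
    intro k
    have h0 := sum_degree_mul_irr (G := H) k⁻¹
    have hfib := Finset.sum_fiberwise_of_maps_to (s := (Finset.univ : Finset (IrrCharacter H)))
      (t := Finset.univ.image fun ξ : IrrCharacter H => blockOf M (ξ : H → ℂ))
      (g := fun ξ : IrrCharacter H => blockOf M (ξ : H → ℂ))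
      (fun ξ _ => Finset.mem_image_of_mem _ (Finset.mem_univ ξ))
      (fun ξ => (ξ : H → ℂ) 1 * conj ((ξ : H → ℂ) k))
    rw [Finset.sum_congr rfl fun b hb => show blockCoeff b k = (Nat.card H : ℂ)⁻¹ *
        ∑ ξ ∈ Finset.univ.filter (fun ξ : IrrCharacter H => blockOf M (ξ : H → ℂ) = b),
          (ξ : H → ℂ) 1 * conj ((ξ : H → ℂ) k) by
      obtain ⟨ξ₀, -, rfl⟩ := Finset.mem_image.1 hb
      rw [Blocks.blockCoeff_eq_sum]
      congr 1
      refine Finset.sum_congr (Finset.ext fun ξ => ?_) fun _ _ => rfl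
      simp only [Finset.mem_filter, Finset.mem_univ, true_and]
      exact ⟨fun hm => (Blocks.IsPBlock.eq_blockOf hM (Blocks.isPBlock_blockOf ξ₀) hm).symm,
        fun he => he ▸ Blocks.mem_blockOf_self hM ξ⟩]
    rw [← Finset.mul_sum, hfib, Finset.sum_congr rfl fun ξ _ => by rw [← irr_apply_inv ξ k], h0]
    simp only [inv_eq_one]
    split_ifs <;> simp
  rw [Finset.sum_comm]
  simp only [← Finset.sum_mul, key, ite_mul, one_mul, zero_mul]
  rw [Finset.sum_ite_eq' Finset.univ (1 : H), if_pos (Finset.mem_univ _), Subgroup.coe_one, one_mul]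

/-- Let p be a prime, π a set of primes containing p, M a maximal ideal of the algebraic integers containing p, and B a p-block of the finite group G with defect group D; let B₁ be the block of N_G(D) with defect group D that induces B (the Brauer correspondent of B). Suppose every element of O_π'(N_G(D)), the largest normal subgroup of N_G(D) whose order has no prime divisor in π, lies in the kernel of every member of B₁. If y is a p-element whose centralizer C has a normal Hall π'-subgroup (every element of C whose order has no prime divisor in π lies in O_π'(C)), then χ(y x) = χ(y) for every χ ∈ B and every x ∈ C whose order has no prime divisor in π. -/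
theorem result {G : Type*} [Group G] [Finite G] (p : ℕ) [Fact p.Prime] (M : Ideal Cfsg.AlgInt) (hM : Cfsg.IsPModular p M) (π : Set ℕ) (hpπ : p ∈ π) (B : Set (Cfsg.IrrCharacter G)) (hB : Cfsg.IsPBlock M B) (D : Subgroup G) (hBD : Cfsg.IsDefectGroup p M B D) (B₁ : Set (Cfsg.IrrCharacter ↥(Subgroup.normalizer (D : Set G)))) (hB₁ : Cfsg.IsInducedBlock M (Subgroup.normalizer (D : Set G)) B₁ B) (hB₁D : Cfsg.IsDefectGroup p M B₁ (D.subgroupOf (Subgroup.normalizer (D : Set G)))) (hker : ∀ n : ↥(Subgroup.normalizer (D : Set G)), n ∈ Cfsg.piCore {q | q ∉ π} ↥(Subgroup.normalizer (D : Set G)) → n ∈ Cfsg.blockKer B₁) (y : G) (hy : ∃ k : ℕ, orderOf y = p ^ k) (hC : ∀ x : ↥(Subgroup.centralizer ({y} : Set G)), (∀ q : ℕ, q.Prime → q ∣ orderOf x → q ∉ π) → x ∈ Cfsg.piCore {q | q ∉ π} ↥(Subgroup.centralizer ({y} : Set G))) : ∀ χ ∈ B, ∀ x : G, x ∈ Subgroup.centralizer ({y} : Set G) → (∀ q : ℕ, q.Prime → q ∣ orderOf x → q ∉ π) → (χ : G → ℂ) (y * x) = (χ : G → ℂ) y := by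
  classical
  haveI := hM.2.1
  haveI := Fintype.ofFinite G
  haveI := charP_res (p := p) hM
  intro χ hχ x hxC hxπ
  set H := Subgroup.centralizer ({y} : Set G) with hH
  haveI := Fintype.ofFinite H
  set P := Subgroup.zpowers y with hPdef
  have hHP : H = cz P := centralizer_singleton_eq y
  have hyH : y ∈ H := Subgroup.mem_centralizer_singleton_iff.2 rfl
  have hPp : IsPGroup p P := by
    obtain ⟨k, hk⟩ := hy
    exact IsPGroup.of_card (n := k) (by rw [Nat.card_zpowers, hk])
  have hPH : P ≤ H := Subgroup.zpowers_le.2 hyH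
  have hCH : cz P ≤ H := hHP.ge
  have hHN : H ≤ Subgroup.normalizer (P : Set G) := hHP.le.trans (cz_le_normalizer P)
  set xH : H := ⟨x, hxC⟩
  set yH : H := ⟨y, hyH⟩
  have hxK : xH ∈ Cfsg.piCore {q | q ∉ π} H := hC xH (by rw [← Subgroup.orderOf_coe]; exact hxπ)
  have hcomm : Commute yH xH :=
    Subtype.ext (Subgroup.mem_centralizer_iff.1 hxC y rfl)
  have hpx : ¬ p ∣ orderOf x := fun hd => hxπ p Fact.out hd hpπ
  have hpart : IsPPart p ((yH * xH : H) : G) y :=
    ⟨x, rfl, congrArg Subtype.val hcomm, hy, hpx⟩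
  have hpart' : IsPPart p ((yH : H) : G) y := by
    refine ⟨1, mul_one y, Commute.one_right y, hy, ?_⟩
    rw [orderOf_one]
    exact (Fact.out : p.Prime).not_dvd_one
  show (χ : G → ℂ) ((yH * xH : H) : G) = (χ : G → ℂ) ((yH : H) : G)
  rw [sum_blocks hM H χ (yH * xH), sum_blocks hM H χ yH]
  refine Finset.sum_congr rfl fun b hb => ?_
  obtain ⟨ξ, -, rfl⟩ := Finset.mem_image.1 hb
  have hbk := Blocks.isPBlock_blockOf (M := M) ξ
  obtain ⟨B', hind⟩ := Blocks.inducedBlockDefined hM hPp hPH hCH hHN hbk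
  by_cases hBB : B' = B
  · subst hBB
    refine twisted_sum _ χ hcomm ?_
    have hbr : brMap (ResK M) P (eA hM H (blockOf M (ξ : H → ℂ))) =
        eA hM H (blockOf M (ξ : H → ℂ)) :=
      brMap_eq_self (suppAlg_mono hHP.le (isBlockIdem_eA hM hbk).supp)
    obtain ⟨h, hR, hcov⟩ := exists_pair_of_induced hM hPp hPH hCH hind
      (by rw [show brMap _ P _ = _ from hbr]; exact (isBlockIdem_eA hM hbk).ne_zero)
    rw [show brMap _ P _ = _ from hbr] at hcov
    have heq : eA hM H (blockOf M (ξ : H → ℂ)) = h :=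
      IsBlockIdem.eq_of_mul_ne_zero (hHP ▸ isBlockIdem_eA hM hbk) hR.block
        (by rw [hcov]; exact hR.block.ne_zero)
    have hk := killsPi_of_correspondent hM hpπ hB hBD hB₁ hB₁D hker hR
    refine blockKer_of_kills_eA hM hbk
      (not_dvd_of_piNat hpπ (CfsgLib.OddOrder.piNat_card_piCore _)) ?_ hxK
    rw [heq]
    exact hk _ ((CfsgLib.OddOrder.piCoreOf_le _ _).trans hHP.le)
      (hHP.ge.trans (CfsgLib.OddOrder.piCoreOf_normal _ _))
      (CfsgLib.OddOrder.piNat_card_piCoreOf _ _)
  · have hn : χ ∉ B' := fun h' => hBB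
      ((Blocks.IsPBlock.eq_blockOf hM hind.2.1 h').trans
        (Blocks.IsPBlock.eq_blockOf hM hB hχ).symm)
    rw [Blocks.secondMain_idempotent hM hind (yH * xH) hpart le_rfl hn,
      Blocks.secondMain_idempotent hM hind yH hpart' le_rfl hn]

end Cfsg.Agent.S4727
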