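import Cfsg.Statements.S4728
import Cfsg.Agent.Lib.BrauerPairs.PairKernel
import Cfsg.Agent.Lib.BrauerPairs.Inside
import Cfsg.Agent.Lib.Blocks.NormalPSubgroup

set_option autoImplicit false
open Cfsg

namespace Cfsg.Agent.S4728

open CfsgLib CfsgLib.BrauerPairs MonoidAlgebra
open CfsgLib.OddOrder (PiNat)

universe u

variable {G : Type u} [Group G] [Fintype G] {k : Type*} [Field k] {p : ℕ} [CharP k p]
  [Fact p.Prime]

/-- All `π'`-elements centralizing `R` fix `h`. -/
def KillsElts (π : Set ℕ) (R : Subgroup G) (h : MonoidAlgebra k G) : Prop :=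
  ∀ n ∈ cz R, (∀ q : ℕ, q.Prime → q ∣ orderOf n → q ∉ π) → single n (1 : k) * h = h

theorem killsElts_up {π : Set ℕ} {a b : Subgroup G × MonoidAlgebra k G} (hab : NormalSub p a b)
    (ha : KillsElts π a.1 a.2) : KillsElts π b.1 b.2 := by
  intro n hn hπ
  have h := congrArg (brMap k b.1) (ha n (cz_anti hab.le hn) hπ)
  rw [brMap_single_mul hn] at h
  conv_lhs => rw [← hab.cover, ← mul_assoc, h, hab.cover]

theorem killsElts_le {π : Set ℕ} {a b : Subgroup G × MonoidAlgebra k G} (hab : PairLE p a b)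
    (ha : KillsElts π a.1 a.2) : KillsElts π b.1 b.2 := by
  induction hab with
  | refl => exact ha
  | tail _ h ih => exact killsElts_up h ih

theorem killsElts_conj {π : Set ℕ} (t : G) {a : Subgroup G × MonoidAlgebra k G}
    (ha : KillsElts π a.1 a.2) : KillsElts π (conjPair t a).1 (conjPair t a).2 := by
  intro n hn hπ
  change n ∈ cz (a.1.map (MulAut.conj t).toMonoidHom) at hn
  rw [cz_map_conj] at hn
  obtain ⟨m, hm, rfl⟩ := hn
  have hm' : single m (1 : k) * a.2 = a.2 := ha m hm (fun q hq hd => hπ q hq (by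
    rwa [orderOf_injective (MulAut.conj t).toMonoidHom (MulAut.conj t).injective m]))
  have h1 : conjA t (single m (1 : k)) = single (t * m * t⁻¹) 1 := by
    simp [conjA, single_mul_single]
  show single (t * m * t⁻¹) (1 : k) * conjA t a.2 = conjA t a.2
  rw [← h1, ← conjA_mul, hm']

/-- Let p be a prime, π a set of primes containing p, M a maximal ideal of the algebraic integers containing p, B a p-block of the finite group G with defect group D, and B₁ the block of N_G(D) with defect group D inducing B. Let D₀ be a p-subgroup, H₀ = D₀·C_G(D₀), and b a block of H₀ inducing B. Write O_π'(X) for the largest normal subgroup of X whose order has no prime divisor in π. Suppose that O_π'(C_G(D₀)) is a normal Hall π'-subgroup of C_G(D₀) (it contains every element of C_G(D₀) whose order has no prime divisor in π) and that every element of it lies in the kernel of every member of b. Then every element of O_π'(N_G(D)) lies in the kernel of every member of B₁. -/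
theorem result {G : Type*} [Group G] [Finite G] (p : ℕ) [Fact p.Prime] (M : Ideal Cfsg.AlgInt) (hM : Cfsg.IsPModular p M) (π : Set ℕ) (hpπ : p ∈ π) (B : Set (Cfsg.IrrCharacter G)) (hB : Cfsg.IsPBlock M B) (D : Subgroup G) (hBD : Cfsg.IsDefectGroup p M B D) (B₁ : Set (Cfsg.IrrCharacter ↥(Subgroup.normalizer (D : Set G)))) (hB₁ : Cfsg.IsInducedBlock M (Subgroup.normalizer (D : Set G)) B₁ B) (hB₁D : Cfsg.IsDefectGroup p M B₁ (D.subgroupOf (Subgroup.normalizer (D : Set G)))) (D₀ : Subgroup G) (hD₀ : IsPGroup p D₀) (H₀ : Subgroup G) (hH₀ : H₀ = D₀ ⊔ Subgroup.centralizer (D₀ : Set G)) (b : Set (Cfsg.IrrCharacter ↥H₀)) (hb : Cfsg.IsInducedBlock M H₀ b B) (hcompl : ∀ x : ↥(Subgroup.centralizer (D₀ : Set G)), (∀ q : ℕ, q.Prime → q ∣ orderOf x → q ∉ π) → x ∈ Cfsg.piCore {q | q ∉ π} ↥(Subgroup.centralizer (D₀ : Set G))) (hkerb : ∀ x : ↥(Subgroup.centralizer (D₀ : Set G)), x ∈ Cfsg.piCore {q | q ∉ π} ↥(Subgroup.centralizer (D₀ : Set G)) → ∀ θ ∈ b, ∀ h : ↥H₀, (h : G) = (x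 : G) → (θ : ↥H₀ → ℂ) h = (θ : ↥H₀ → ℂ) 1) : ∀ n : ↥(Subgroup.normalizer (D : Set G)), n ∈ Cfsg.piCore {q | q ∉ π} ↥(Subgroup.normalizer (D : Set G)) → n ∈ Cfsg.blockKer B₁ := by
  classical
  haveI := hM.2.1
  haveI := Fintype.ofFinite G
  haveI := charP_res (p := p) hM
  haveI := Fintype.ofFinite H₀
  have hD₀H : D₀ ≤ H₀ := hH₀ ▸ le_sup_left
  have hCH : cz D₀ ≤ H₀ := hH₀ ▸ le_sup_right
  haveI : (D₀.subgroupOf H₀).Normal := (Subgroup.normal_subgroupOf_iff_le_normalizer hD₀H).2
    (hH₀ ▸ sup_le Subgroup.le_normalizer (cz_le_normalizer D₀))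
  have hbr : brMap (ResK M) D₀ (eA hM H₀ b) = eA hM H₀ b := by
    refine brMap_eq_self fun x hx => ?_
    by_contra hxC
    refine hx ?_
    show (redFun hM (subgroupBlockCoeff H₀ b)).coeff x = 0
    have h0 : subgroupBlockCoeff H₀ b x = 0 := by
      by_cases hxH : x ∈ H₀
      · rw [show subgroupBlockCoeff H₀ b x = _ from subgroupBlockCoeff_coe H₀ b ⟨x, hxH⟩]
        exact BlockNormalP.blockCoeff_eq_zero hM (D₀.subgroupOf H₀)
          (hD₀.comap_of_injective _ H₀.subtype_injective) hb.1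
          fun h => hxC ((mem_cz_subgroupOf hD₀H ⟨x, hxH⟩).1 h)
      · exact subgroupBlockCoeff_notMem b hxH
    rw [coeff_redFun hM (h := by rw [h0]; exact Subring.zero_mem _)]
    simp only [h0]
    exact map_zero (resK hM)
  obtain ⟨h₀, hR₀, hcov₀⟩ := exists_pair_of_induced hM hD₀ hD₀H hCH hb
    (by rw [hbr]; exact (isBlockIdem_eA hM hb.1).ne_zero)
  rw [hbr] at hcov₀
  have hk₀ : KillsElts π D₀ h₀ := by
    intro n hn hπ
    have hcore := hcompl ⟨n, hn⟩ (fun q hq hd => hπ q hq (by rwa [← Subgroup.orderOf_coe] at hd))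
    have h1 := kills_eA_of_blockKer hM (n := ⟨n, hCH hn⟩) (b := b)
      fun θ hθ => hkerb ⟨n, hn⟩ hcore θ hθ _ rfl
    conv_lhs => rw [← hcov₀, ← mul_assoc, h1, hcov₀]
  have hDN : D ≤ (Subgroup.normalizer (D : Set G)) := Subgroup.le_normalizer
  have hD := (isDefectGroup_iff hM hB D).1 hBD
  obtain ⟨hD', hpair, hcov⟩ := exists_pair_of_induced hM hD.pgroup hDN (cz_le_normalizer D) hB₁
    (brMap_ne_zero_of_defect hM hDN hB₁.1 hB₁D)
  obtain ⟨t, -, hle⟩ := (brSetup_block hM hB).exists_conj_le (hasBlocks hM) hR₀ hD hpair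
  have hk : KillsElts π D hD' := killsElts_le hle (killsElts_conj (a := (D₀, h₀)) t hk₀)
  intro n hn
  let K := Cfsg.piCoreOf {q | q ∉ π} (Subgroup.normalizer (D : Set G))
  have hKn := CfsgLib.OddOrder.piCoreOf_normal {q | q ∉ π} (Subgroup.normalizer (D : Set G))
  have hcard := CfsgLib.OddOrder.piNat_card_piCoreOf {q | q ∉ π} (Subgroup.normalizer (D : Set G))
  have hkill : Kills K (eA hM (Subgroup.normalizer (D : Set G)) B₁) :=
    kills_of_cover (p := p) (isBlockIdem_eA hM hB₁.1) (CfsgLib.OddOrder.piCoreOf_le _ _) hKn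
      (hDN.trans hKn) hD.pgroup (fixAlg_anti hDN (isBlockIdem_eA hM hB₁.1).fixed)
      (not_dvd_of_piNat hpπ hcard) hpair.block.ne_zero hcov
      fun m hm => hk m hm.2 fun q hq hd =>
        hcard q hq (hd.trans (Subgroup.orderOf_dvd_natCard K hm.1))
  exact blockKer_of_kills_eA hM hB₁.1
    (not_dvd_of_piNat hpπ (CfsgLib.OddOrder.piNat_card_piCore _)) hkill hn

end Cfsg.Agent.S4728
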