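import Cfsg.Statements.S4729
import Cfsg.Agent.Lib.Blocks12.PrincipalSmall
-- import your own Cfsg.Agent.* helpers here

set_option autoImplicit false
open Cfsg

namespace Cfsg.Agent.S4729

/-- Let p be a prime, M a maximal ideal of the algebraic integers containing p, G a finite perfect group and P a Sylow p-subgroup. If the principal p-block of G contains a faithful irreducible character of degree less than 2p, then the centralizer of P is a p-group. -/
theorem result {G : Type*} [Group G] [Finite G] (p : ℕ) [Fact p.Prime] (M : Ideal Cfsg.AlgInt) (hM : Cfsg.IsPModular p M) (hperf : commutator G = ⊤) (P : Sylow p G) (χ : Cfsg.IrrCharacter G) (hχ : χ ∈ Cfsg.principalBlock M G) (hfaith : ∀ g : G, (χ : G → ℂ) g = (χ : G → ℂ) 1 → g = 1) (hdeg : Cfsg.charDegree (χ : G → ℂ) < 2 * p) : IsPGroup p ↥(Subgroup.centralizer ((P : Subgroup G) : Set G)) := by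
  classical
  let _ := Fintype.ofFinite G
  by_contra hC
  set C := Subgroup.centralizer ((P : Subgroup G) : Set G) with hCdef
  obtain ⟨q, hq, hqp, hqd⟩ : ∃ q : ℕ, q.Prime ∧ q ≠ p ∧ q ∣ Nat.card C := by
    by_contra h
    push Not at h
    refine hC (IsPGroup.of_card (n := (Nat.card C).primeFactorsList.length)
      (Nat.eq_prime_pow_of_unique_prime_dvd Nat.card_pos.ne' fun {d} hd hdv => ?_))
    by_contra hne
    exact h d hd hne hdv
  haveI := Fact.mk hq
  obtain ⟨c, hc⟩ := exists_prime_orderOf_dvd_card' q hqd
  refine CfsgLib.PrincipalSmall.eq_one_of_prime hM hperf χ hχ hfaith hdeg hq hqp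
    (g := (c : G)) (by rw [Subgroup.orderOf_coe, hc]) fun k h => P.not_dvd_index (h.trans ?_)
  refine Subgroup.index_dvd_of_le fun u hu => ?_
  rw [Subgroup.mem_centralizer_singleton_iff]
  exact (Commute.pow_right (Subgroup.mem_centralizer_iff.1 c.2 u hu : Commute u (c : G)) k)

end Cfsg.Agent.S4729
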