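import Cfsg.Statements.S4730
import Cfsg.Agent.Lib.Blocks12.Basic
import Cfsg.Agent.Lib.Characters.Burnside
-- import your own Cfsg.Agent.* helpers here

set_option autoImplicit false
open Cfsg

namespace Cfsg.Agent.S4730

/-- Let p be a prime, M a maximal ideal of the algebraic integers containing p, and G a finite group with trivial centre, Sylow p-subgroup P of order p^a and centre Z(P) of order p^b. If χ is a faithful irreducible character of G whose degree is a power of p, then the p-block of χ has defect at most a − b; in particular, if P is abelian then χ lies in a block of defect zero. -/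
theorem result {G : Type*} [Group G] [Finite G] (p : ℕ) [Fact p.Prime] (M : Ideal Cfsg.AlgInt) (hM : Cfsg.IsPModular p M) (hZ : Subgroup.center G = ⊥) (P : Sylow p G) (a b : ℕ) (ha : Nat.card P = p ^ a) (hb : Nat.card (Subgroup.center ↥(P : Subgroup G)) = p ^ b) (χ : Cfsg.IrrCharacter G) (hfaith : ∀ g : G, (χ : G → ℂ) g = (χ : G → ℂ) 1 → g = 1) (n : ℕ) (hdeg : Cfsg.charDegree (χ : G → ℂ) = p ^ n) : Cfsg.blockDefect p (Cfsg.blockOf M (χ : G → ℂ)) ≤ a - b ∧ (IsMulCommutative ↥(P : Subgroup G) → Cfsg.blockDefect p (Cfsg.blockOf M (χ : G → ℂ)) = 0) := by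
  classical
  let _ := Fintype.ofFinite G
  have hp : p.Prime := Fact.out
  set Z : Subgroup G := (Subgroup.center ↥(P : Subgroup G)).map (P : Subgroup G).subtype with hZdef
  let _ := Fintype.ofFinite Z
  have hZcard : Nat.card Z = p ^ b := by
    rw [← hb, hZdef]
    exact (Nat.card_congr (Subgroup.equivMapOfInjective _ _ (P : Subgroup G).subtype_injective).toEquiv).symm
  have hZidx : ∀ z ∈ Z, ¬ p ∣ (Subgroup.centralizer ({z} : Set G)).index := by
    rintro _ ⟨w, hw, rfl⟩ h
    refine P.not_dvd_index (h.trans (Subgroup.index_dvd_of_le fun u hu => ?_))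
    rw [Subgroup.mem_centralizer_singleton_iff]
    exact congrArg Subtype.val (Subgroup.mem_center_iff.1 hw ⟨u, hu⟩)
  obtain ⟨N, ρ, hρ, hχρ⟩ := χ.2
  haveI := hρ
  have hN1 : (χ : G → ℂ) 1 = (N : ℂ) := by rw [← hχρ, Representation.char_one]; simp
  have hNn : N = p ^ n := by
    have h := (CfsgLib.ClassCount.degree_eq χ).1
    rw [hN1, hdeg] at h
    exact_mod_cast h
  have hvan : ∀ z ∈ Z, z ≠ 1 → (χ : G → ℂ) z = 0 := by
    intro z hz hz1
    have hcop : Nat.Coprime (Module.finrank ℂ (Fin N → ℂ)) (Nat.card {x : G // IsConj z x}) := by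
      rw [CfsgLib.Characters.card_isConj_eq_index, Module.finrank_fin_fun, hNn]
      exact Nat.Coprime.pow_left n (hp.coprime_iff_not_dvd.2 (hZidx z hz))
    rcases CfsgLib.Burnside.eq_zero_or_norm_eq_of_coprime ρ z hcop with h | h
    · rw [← hχρ]; exact h
    · exfalso
      obtain ⟨c, hc⟩ := (CfsgLib.Characters.norm_char_eq_iff_scalar ρ z).mp h
      refine hz1 (Subgroup.mem_bot.1 (hZ ▸ Subgroup.mem_center_iff.2 fun x => ?_))
      have hρinj : ∀ y : G, ρ y = 1 → y = 1 := fun y hy => hfaith y (by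
        rw [← hχρ]; simp [Representation.character, hy])
      refine mul_inv_eq_one.1 (hρinj _ ?_)
      have h1 : ρ (x * z) = ρ (z * x) := by
        rw [map_mul, map_mul, hc]
        ext v
        simp
      rw [map_mul, h1, ← map_mul, mul_inv_cancel, map_one]
  have hdvd : ∀ ψ : Cfsg.IrrCharacter G, Cfsg.SameBlock M (χ : G → ℂ) (ψ : G → ℂ) →
      b ≤ (Cfsg.charDegree (ψ : G → ℂ)).factorization p := by
    intro ψ hψ
    by_contra hlt
    push Not at hlt
    obtain ⟨hd1, -, hdpos⟩ := CfsgLib.ClassCount.degree_eq ψ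
    set e := (Cfsg.charDegree (ψ : G → ℂ)).factorization p with he
    obtain ⟨m, hm⟩ := CfsgLib.ClassCount.exists_mult ψ Z
    set r := Cfsg.charDegree (ψ : G → ℂ) / p ^ e with hr
    have hre : Cfsg.charDegree (ψ : G → ℂ) = p ^ e * r :=
      (Nat.mul_div_cancel' (Nat.ordProj_dvd _ p)).symm
    have hrd : ¬ p ∣ r := Nat.not_dvd_ordCompl hp hdpos.ne'
    have hψ1 : (ψ : G → ℂ) 1 ≠ 0 := CfsgLib.Characters.irr_one_ne_zero ψ
    set U : ℂ := ∑ t : Z, (ψ : G → ℂ) ((t : G)⁻¹) / (ψ : G → ℂ) 1 with hU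
    have hU1 : Cfsg.MemLocalIdeal M (U - 1) := by
      rw [hU, ← Finset.add_sum_erase _ _ (Finset.mem_univ (1 : Z)), OneMemClass.coe_one, inv_one,
        div_self hψ1, add_sub_cancel_left]
      refine CfsgLib.Blocks.MemLocalIdeal.sum hM _ fun t ht => ?_
      have htz : (t : G)⁻¹ ∈ Z := Z.inv_mem t.2
      have ht1 : (t : G)⁻¹ ≠ 1 := fun h => (Finset.mem_erase.1 ht).1 (Subtype.ext (inv_eq_one.1 h))
      have h1 := CfsgLib.Blocks.MemLocalIdeal.mul_left hM
        (CfsgLib.Blocks.inv_natCast_mem_lRing hM (hZidx _ htz))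
        (CfsgLib.Blocks.MemLocalIdeal.neg hM (hψ ((t : G)⁻¹)))
      simp only [Cfsg.centralChar, hvan _ htz ht1, mul_zero, zero_div, zero_sub, neg_neg] at h1
      convert h1 using 1
      have : ((Subgroup.centralizer ({(t : G)⁻¹} : Set G)).index : ℂ) ≠ 0 :=
        Nat.cast_ne_zero.mpr Subgroup.index_ne_zero_of_finite
      field_simp
    have hp0 : (p : ℂ) ≠ 0 := Nat.cast_ne_zero.mpr hp.ne_zero
    obtain ⟨k, hk⟩ := Nat.exists_eq_add_of_lt hlt
    have hUr : (r : ℂ) * U = (p : ℂ) * ((p : ℂ) ^ k * m) := by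
      apply mul_left_cancel₀ (pow_ne_zero e hp0)
      rw [← mul_assoc, show ((p : ℂ) ^ e * r) = (ψ : G → ℂ) 1 by rw [hd1, hre]; push_cast; rfl,
        hU, ← Finset.sum_div, mul_div_cancel₀ _ hψ1, hm, hZcard, hk]
      push_cast
      ring
    have h2 : Cfsg.MemLocalIdeal M U := by
      have h3 : Cfsg.MemLocalIdeal M ((r : ℂ) * U) := by
        rw [hUr]
        exact CfsgLib.Blocks.MemLocalIdeal.mul_right hM (CfsgLib.Blocks.memLocalIdeal_p hM)
          ((CfsgLib.Blocks.lRing hM).mul_mem ((CfsgLib.Blocks.lRing hM).pow_mem (natCast_mem _ p) k)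
            (natCast_mem _ m))
      have := CfsgLib.Blocks.MemLocalIdeal.mul_left hM (CfsgLib.Blocks.inv_natCast_mem_lRing hM hrd) h3
      rwa [inv_mul_cancel_left₀ (Nat.cast_ne_zero.mpr (by rintro h0; exact hrd (h0 ▸ dvd_zero p)))] at this
    apply CfsgLib.Blocks.not_memLocalIdeal_one hM
    have := CfsgLib.Blocks.MemLocalIdeal.add hM h2 (CfsgLib.Blocks.MemLocalIdeal.neg hM hU1)
    simpa using this
  have hmem : χ ∈ Cfsg.blockOf M (χ : G → ℂ) := CfsgLib.Blocks.mem_blockOf_self hM χ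
  have hB := CfsgLib.Blocks.isPBlock_blockOf (M := M) χ
  obtain ⟨ψ, hψ, -, hψv⟩ := CfsgLib.Contribution.exists_height_zero hM hB
  have hmin : b ≤ CfsgLib.Contribution.minExp p (Cfsg.blockOf M (χ : G → ℂ)) :=
    hψv ▸ hdvd ψ ((CfsgLib.Blocks.IsPBlock.mem_iff hM hB hmem ψ).1 hψ)
  have hd := CfsgLib.Contribution.minExp_add_defect hM hB
  have hG : (Nat.card G).factorization p = a := by
    have h := P.card_eq_multiplicity
    rw [ha] at h
    exact (Nat.pow_right_injective hp.two_le h).symm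
  refine ⟨by omega, fun hab => ?_⟩
  have hba : b = a := by
    refine Nat.pow_right_injective hp.two_le (show p ^ b = p ^ a from ?_)
    rw [← hb, ← ha, Subgroup.card_eq_iff_eq_top]
    rw [eq_top_iff]
    exact fun x _ => Subgroup.mem_center_iff.2 fun y => hab.is_comm.comm y x
  omega

end Cfsg.Agent.S4730
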