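import Cfsg.Statements.S4731
import Cfsg.Agent.Lib.Blocks.RankOrth

set_option autoImplicit false
open Cfsg

namespace Cfsg.Agent.S4731

/-- Let p ≠ q be primes, M_p and M_q maximal ideals of the algebraic integers containing p and q respectively, and G a finite group with no element of order pq; let q^b be the q-part of the order of G. For a p-block B_p (relative to M_p), a q-block B_q (relative to M_q) and a p-singular element y, the sum of χ(1)χ(y) over the irreducible characters χ lying in both B_p and B_q is q^b times an algebraic integer. -/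
theorem result {G : Type*} [Group G] [Finite G] (p q : ℕ) [Fact p.Prime] [Fact q.Prime] (hpq : p ≠ q) (Mp Mq : Ideal Cfsg.AlgInt) (hMp : Cfsg.IsPModular p Mp) (hMq : Cfsg.IsPModular q Mq) (hno : ∀ g : G, orderOf g ≠ p * q) (b : ℕ) (hb : (Nat.card G).factorization q = b) (Bp : Set (Cfsg.IrrCharacter G)) (hBp : Cfsg.IsPBlock Mp Bp) (Bq : Set (Cfsg.IrrCharacter G)) (hBq : Cfsg.IsPBlock Mq Bq) (y : G) (hy : p ∣ orderOf y) : ∃ ω : Cfsg.AlgInt, ∑ᶠ χ ∈ Bp ∩ Bq, (Cfsg.charDegree (χ : G → ℂ) : ℂ) * (χ : G → ℂ) y = (q : ℂ) ^ b * (ω : ℂ) := by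
  classical
  have : Fintype G := Fintype.ofFinite G
  let Q : Sylow q G := default
  choose m hm using fun χ => CfsgLib.ClassCount.exists_mult (G := G) χ (Q : Subgroup G)
  let θ : G → ℂ := fun g =>
    ∑ χ ∈ Finset.univ.filter (· ∈ Bp), (χ : G → ℂ) g * (χ : G → ℂ) y
  have hy' : p ∣ orderOf y⁻¹ := by rwa [orderOf_inv]
  have hθ : ∀ g : G, ¬ p ∣ orderOf g → θ g = 0 := by
    intro g hg
    have h := CfsgLib.Blocks.weak_orth hMp hBp hg hy'
    rw [← h]
    refine Finset.sum_congr rfl fun χ _ => ?_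
    rw [CfsgLib.Characters.irr_apply_inv, Complex.conj_conj]
  have hsep : ∀ g : G, p ∣ orderOf g → ¬ q ∣ orderOf g := by
    intro g hgp hgq
    have hcop : Nat.Coprime p q := (Nat.coprime_primes Fact.out Fact.out).2 hpq
    obtain ⟨d, hd⟩ := hcop.mul_dvd_of_dvd_of_dvd hgp hgq
    refine hno (g ^ d) ?_
    have hd0 : d ≠ 0 := by
      rintro rfl
      rw [mul_zero] at hd
      exact (orderOf_pos g).ne' hd
    rw [orderOf_pow' g hd0, hd, Nat.gcd_mul_left_left, Nat.mul_div_cancel _ (Nat.pos_of_ne_zero hd0)]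
  let S := Finset.univ.filter (fun χ : Cfsg.IrrCharacter G => χ ∈ Bp ∩ Bq)
  let ψ : G → ℂ := fun g => ∑ χ ∈ S, (χ : G → ℂ) g * (χ : G → ℂ) y
  have hcoef : ∀ χ : Cfsg.IrrCharacter G, (Nat.card G : ℂ)⁻¹ *
      ∑ g : G, θ g * (starRingEnd ℂ) ((χ : G → ℂ) g) = if χ ∈ Bp then (χ : G → ℂ) y else 0 := by
    intro χ
    simp only [θ, Finset.sum_mul]
    rw [Finset.sum_comm, Finset.mul_sum]
    have e : ∀ φ : Cfsg.IrrCharacter G, (Nat.card G : ℂ)⁻¹ * ∑ g : G,
        (φ : G → ℂ) g * (φ : G → ℂ) y * (starRingEnd ℂ) ((χ : G → ℂ) g) =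
        if φ = χ then (φ : G → ℂ) y else 0 := by
      intro φ
      have h := CfsgLib.Characters.classInner_irr φ χ
      rw [Cfsg.classInner] at h
      calc (Nat.card G : ℂ)⁻¹ * ∑ g : G,
            (φ : G → ℂ) g * (φ : G → ℂ) y * (starRingEnd ℂ) ((χ : G → ℂ) g)
          = (φ : G → ℂ) y * ((Nat.card G : ℂ)⁻¹ *
              ∑ g : G, (φ : G → ℂ) g * (starRingEnd ℂ) ((χ : G → ℂ) g)) := by
            simp only [Finset.mul_sum]
            exact Finset.sum_congr rfl fun g _ => by ring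
        _ = _ := by rw [h]; split_ifs <;> simp
    rw [Finset.sum_congr rfl fun φ _ => e φ, Finset.sum_ite_eq']
    simp
  have hψ : ∀ g : G, q ∣ orderOf g → ψ g = 0 := by
    intro g hg
    have h1 : ψ g = ∑ χ ∈ Finset.univ.filter (· ∈ Bq), ((Nat.card G : ℂ)⁻¹ *
        ∑ h : G, θ h * (starRingEnd ℂ) ((χ : G → ℂ) h)) * (χ : G → ℂ) g := by
      simp only [hcoef, ψ, S]
      rw [← Finset.sum_filter_of_ne (p := fun χ => χ ∈ Bp) (s := Finset.univ.filter (· ∈ Bq))]
      · rw [Finset.filter_filter]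
        refine Finset.sum_congr (by ext χ; simp [and_comm]) fun χ hχ => ?_
        rw [if_pos (by simp at hχ; exact hχ.2)]
        ring
      · intro χ _ hne
        by_contra h
        simp [h] at hne
    rw [h1]
    simp only [Finset.sum_mul, Finset.mul_sum]
    rw [Finset.sum_comm]
    refine Finset.sum_eq_zero fun h _ => ?_
    by_cases hh : p ∣ orderOf h
    · have h2 := congrArg (starRingEnd ℂ) (CfsgLib.Blocks.weak_orth hMq hBq (hsep h hh) hg)
      simp only [map_sum, map_mul, Complex.conj_conj, map_zero] at h2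
      calc ∑ χ ∈ Finset.univ.filter (· ∈ Bq),
            (Nat.card G : ℂ)⁻¹ * (θ h * (starRingEnd ℂ) ((χ : G → ℂ) h)) * (χ : G → ℂ) g
          = (Nat.card G : ℂ)⁻¹ * θ h * ∑ χ ∈ Finset.univ.filter (· ∈ Bq),
              (starRingEnd ℂ) ((χ : G → ℂ) h) * (χ : G → ℂ) g := by
            simp only [Finset.mul_sum]
            exact Finset.sum_congr rfl fun χ _ => by ring
        _ = 0 := by rw [h2, mul_zero]
    · exact Finset.sum_eq_zero fun χ _ => by rw [hθ h hh]; simp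
  have hQ : ∑ x : (Q : Subgroup G), ψ ((x : G)⁻¹) = ψ 1 := by
    rw [Finset.sum_eq_single 1]
    · simp
    · intro x _ hx
      refine hψ _ ?_
      obtain ⟨j, hj⟩ := IsPGroup.iff_orderOf.1 Q.isPGroup' x
      rw [orderOf_inv, Subgroup.orderOf_coe, hj]
      refine dvd_pow_self q ?_
      rintro rfl
      exact hx (orderOf_eq_one_iff.1 (by rw [hj, pow_zero]))
    · simp
  refine ⟨⟨∑ χ ∈ S, (m χ : ℂ) * (χ : G → ℂ) y, ?_⟩, ?_⟩
  · exact IsIntegral.sum _ fun χ _ => (CfsgLib.DefectZeroCriterion.isIntegral_natCast' _).mul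
      (CfsgLib.ClassCount.irr_isIntegral χ y)
  · have hl : ∑ᶠ χ ∈ Bp ∩ Bq, (Cfsg.charDegree (χ : G → ℂ) : ℂ) * (χ : G → ℂ) y = ψ 1 := by
      rw [finsum_mem_eq_sum_of_inter_support_eq _ (t := S) (by simp [S])]
      exact Finset.sum_congr rfl fun χ _ => by rw [(CfsgLib.ClassCount.degree_eq χ).1]
    rw [hl, ← hQ]
    show ∑ x : (Q : Subgroup G), ∑ χ ∈ S, (χ : G → ℂ) ((x : G)⁻¹) * (χ : G → ℂ) y =
      (q : ℂ) ^ b * ∑ χ ∈ S, (m χ : ℂ) * (χ : G → ℂ) y
    rw [Finset.sum_comm, Finset.mul_sum]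
    refine Finset.sum_congr rfl fun χ _ => ?_
    rw [← Finset.sum_mul, hm χ, Q.card_eq_multiplicity, hb]
    push_cast
    ring

end Cfsg.Agent.S4731
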