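import Cfsg.Statements.S4732
import Cfsg.Agent.Lib.ModularJordan.Linear

set_option autoImplicit false
universe u v
open Cfsg

namespace Cfsg.Agent.S4732

/-- Let p be a prime. There is a function f of two natural-number arguments such that every finite group G admitting a faithful representation of degree n over a field of characteristic p, with Sylow p-subgroups of order p^m, has a normal abelian subgroup A with [G : A] < f(m, n). -/
theorem result (p : ℕ) [Fact p.Prime] : ∃ f : ℕ → ℕ → ℕ, ∀ (G : Type u) [Group G] [Finite G] (F : Type v) [Field F] [CharP F p] (n : ℕ) (ρ : Representation F G (Fin n → F)), Function.Injective ρ → ∀ m : ℕ, (Nat.card G).factorization p = m → ∃ A : Subgroup G, A.Normal ∧ IsMulCommutative A ∧ A.index < f m n := by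
  refine ⟨fun m n => Nat.factorial (CfsgLib.ModularJordan.linBound p m n) + 1, ?_⟩
  intro G _ _ F _ _ n ρ hρ m hm
  have : CharP (AlgebraicClosure F) p :=
    charP_of_injective_algebraMap (algebraMap F (AlgebraicClosure F)).injective p
  obtain ⟨ρ', hρ'⟩ : ∃ ρ' : G →* Module.End (AlgebraicClosure F) (Fin n → AlgebraicClosure F),
      ρ' = (Matrix.toLinAlgEquiv' : Matrix (Fin n) (Fin n) (AlgebraicClosure F) ≃ₐ[AlgebraicClosure F]
          ((Fin n → AlgebraicClosure F) →ₗ[AlgebraicClosure F] (Fin n → AlgebraicClosure F))).toMulEquiv.toMonoidHom.comp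
        ((algebraMap F (AlgebraicClosure F)).mapMatrix.toMonoidHom.comp
          ((LinearMap.toMatrixAlgEquiv' : ((Fin n → F) →ₗ[F] (Fin n → F)) ≃ₐ[F] Matrix (Fin n) (Fin n) F).toMulEquiv.toMonoidHom.comp ρ)) :=
    ⟨_, rfl⟩
  have hinj : Function.Injective ρ' := by
    intro a b h
    apply hρ
    rw [hρ'] at h
    simp only [MonoidHom.coe_comp, Function.comp_apply] at h
    have h1 := Matrix.toLinAlgEquiv'.injective h
    exact LinearMap.toMatrixAlgEquiv'.injective
      (Matrix.map_injective (algebraMap F (AlgebraicClosure F)).injective h1)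
  obtain ⟨A, hA, hAi⟩ := CfsgLib.ModularJordan.hasBound (p := p) (F := AlgebraicClosure F) m n G
    (Fin n → AlgebraicClosure F) ρ' hinj (by rw [Module.finrank_fin_fun]) hm.le
  refine ⟨A.normalCore, inferInstance, ⟨⟨fun a b => Subtype.ext
    (hA _ (Subgroup.normalCore_le A a.2) _ (Subgroup.normalCore_le A b.2))⟩⟩, ?_⟩
  refine Nat.lt_succ_of_le ?_
  exact Nat.le_of_dvd (Nat.factorial_pos _)
    ((CfsgLib.ModularJordan.exists_perm_index_dvd A).trans (Nat.factorial_dvd_factorial hAi))

end Cfsg.Agent.S4732
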