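import Cfsg.Statements.S4734
import Cfsg.Agent.Lib.BrauerPairs.PairKernel

set_option autoImplicit false
open Cfsg

namespace Cfsg.Agent.S4734

open CfsgLib CfsgLib.BrauerPairs

/-- Let p be a prime, π a set of primes containing p, M a maximal ideal of the algebraic integers containing p, B a p-block of the finite group G with defect group D, and B₁ the block of N_G(D) with defect group D inducing B. Write O_π'(X) for the largest normal subgroup of X whose order has no prime divisor in π, and suppose every element of O_π'(N_G(D)) lies in the kernel of every member of B₁. Let G₀ be a subgroup and B₀ a block of G₀ with defect group D₀ such that C_G(D₀) ≤ G₀ and B₀ induces B. Then every element of O_π'(G₀) lies in the kernel of every member of B₀. -/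
theorem result {G : Type*} [Group G] [Finite G] (p : ℕ) [Fact p.Prime] (M : Ideal Cfsg.AlgInt) (hM : Cfsg.IsPModular p M) (π : Set ℕ) (hpπ : p ∈ π) (B : Set (Cfsg.IrrCharacter G)) (hB : Cfsg.IsPBlock M B) (D : Subgroup G) (hBD : Cfsg.IsDefectGroup p M B D) (B₁ : Set (Cfsg.IrrCharacter ↥(Subgroup.normalizer (D : Set G)))) (hB₁ : Cfsg.IsInducedBlock M (Subgroup.normalizer (D : Set G)) B₁ B) (hB₁D : Cfsg.IsDefectGroup p M B₁ (D.subgroupOf (Subgroup.normalizer (D : Set G)))) (hker : ∀ n : ↥(Subgroup.normalizer (D : Set G)), n ∈ Cfsg.piCore {q | q ∉ π} ↥(Subgroup.normalizer (D : Set G)) → n ∈ Cfsg.blockKer B₁) (G₀ : Subgroup G) (B₀ : Set (Cfsg.IrrCharacter ↥G₀)) (hB₀ : Cfsg.IsInducedBlock M G₀ B₀ B) (D₀ : Subgroup ↥G₀) (hD₀ : Cfsg.IsDefectGroup p M B₀ D₀) (hC : Subgroup.centralizer ((D₀.map G₀.subtype : Subgroup G) : Set G) ≤ G₀) : ∀ x : ↥G₀, x ∈ Cfsg.piCore {q | q ∉ π} ↥G₀ → x ∈ Cfsg.blockKer B₀ := by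
  haveI := hM.2.1
  haveI := Fintype.ofFinite G
  haveI := charP_res (p := p) hM
  haveI := Fintype.ofFinite G₀
  intro x hx
  set R : Subgroup G := D₀.map G₀.subtype
  have hRG : R ≤ G₀ := Subgroup.map_subtype_le D₀
  have hD₀p : IsPGroup p D₀ := ((isDefectGroup_iff hM hB₀.1 D₀).1 hD₀).pgroup
  have hRp : IsPGroup p R := hD₀p.map _
  have hsub : R.subgroupOf G₀ = D₀ :=
    Subgroup.comap_map_eq_self_of_injective G₀.subtype_injective D₀
  obtain ⟨h, hR, hcov⟩ := exists_pair_of_induced hM hRp hRG hC hB₀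
    (brMap_ne_zero_of_defect hM hRG hB₀.1 (by rw [hsub]; exact hD₀))
  have hk := killsPi_of_correspondent hM hpπ hB hBD hB₁ hB₁D hker hR
  set K := Cfsg.piCoreOf {q | q ∉ π} G₀
  have hn := CfsgLib.OddOrder.piCoreOf_normal {q | q ∉ π} G₀
  have hcard := CfsgLib.OddOrder.piNat_card_piCoreOf {q | q ∉ π} G₀
  have hkill : Kills K (eA hM G₀ B₀) :=
    kills_of_cover (p := p) (isBlockIdem_eA hM hB₀.1) (CfsgLib.OddOrder.piCoreOf_le _ _) hn
      (hRG.trans hn) hRp (fixAlg_anti hRG (isBlockIdem_eA hM hB₀.1).fixed)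
      (not_dvd_of_piNat hpπ hcard) hR.block.ne_zero hcov
      (hk _ inf_le_right (le_trans (le_inf (hC.trans hn) Subgroup.le_normalizer)
        Subgroup.inf_normalizer_le_normalizer_inf)
        (hcard.dvd (Subgroup.card_dvd_of_le inf_le_left)))
  exact blockKer_of_kills_eA hM hB₀.1
    (not_dvd_of_piNat hpπ (CfsgLib.OddOrder.piNat_card_piCore _)) hkill hx

end Cfsg.Agent.S4734
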