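import Cfsg.Statements.S4735
import Cfsg.Agent.S4736

set_option autoImplicit false
open Cfsg

namespace Cfsg.Agent.S4735

open CfsgLib CfsgLib.Characters CfsgLib.ClassCount
open scoped ComplexConjugate

universe u

variable {G : Type u} [Group G] [Finite G]

theorem natCast_local {p : ℕ} {M : Ideal AlgInt} (hM : IsPModular p M) (n : ℕ) :
    MemLocalRing M (n : ℂ) :=
  Blocks.memLocalRing_of_isIntegral hM (DefectZeroCriterion.isIntegral_natCast' n)

theorem index_centralizer_dvd (K : Subgroup G) [K.Normal] (g : G) :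
    (Subgroup.centralizer ({(g : G ⧸ K)} : Set (G ⧸ K))).index ∣
      (Subgroup.centralizer ({g} : Set G)).index := by
  rw [← Subgroup.index_comap_of_surjective _ (QuotientGroup.mk'_surjective K)]
  refine Subgroup.index_dvd_of_le fun x hx => ?_
  rw [Subgroup.mem_centralizer_singleton_iff] at hx
  rw [Subgroup.mem_comap, Subgroup.mem_centralizer_singleton_iff, QuotientGroup.mk'_apply,
    ← QuotientGroup.mk_mul, ← QuotientGroup.mk_mul, hx]

/-- Over a class of the quotient by a `p'`-group lies a class with the same `p`-part of the size. -/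
theorem exists_lift {p : ℕ} (K : Subgroup G) [K.Normal] (hK : ¬ p ∣ Nat.card K) (q : G ⧸ K) :
    ∃ (g : G) (t : ℕ), IsConj q (g : G ⧸ K) ∧ ¬ p ∣ t ∧
      (Subgroup.centralizer ({g} : Set G)).index =
        (Subgroup.centralizer ({q} : Set (G ⧸ K))).index * t := by
  classical
  haveI := Fintype.ofFinite G
  set S : Finset G := Finset.univ.filter fun x => IsConj q (x : G ⧸ K) with hS
  set c := (Subgroup.centralizer ({q} : Set (G ⧸ K))).index with hc
  have hSmem : ∀ x, x ∈ S ↔ IsConj q (x : G ⧸ K) := fun x => by simp [hS]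
  have hScard : S.card = Nat.card K * c := by
    rw [hc, ← card_isConj_eq_index q, ← Nat.card_prod, hS, ← Fintype.card_subtype,
      ← Nat.card_eq_fintype_card]
    exact Nat.card_congr (QuotientGroup.preimageMkEquivSubgroupProdSet K {y | IsConj q y})
  have hfib : ∀ C ∈ S.image ConjClasses.mk, ∃ t : ℕ, (S.filter fun x => ConjClasses.mk x = C).card =
      c * t ∧ ∃ g : G, IsConj q (g : G ⧸ K) ∧ (Subgroup.centralizer ({g} : Set G)).index = c * t := by
    intro C hC
    obtain ⟨g, hg, rfl⟩ := Finset.mem_image.mp hC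
    rw [hSmem] at hg
    have hdvd : c ∣ (Subgroup.centralizer ({g} : Set G)).index := by
      have h := index_centralizer_dvd K g
      have heq : (Subgroup.centralizer ({(g : G ⧸ K)} : Set (G ⧸ K))).index = c := by
        rw [hc, ← card_isConj_eq_index q, ← card_isConj_eq_index (g : G ⧸ K)]
        exact Nat.card_congr (Equiv.subtypeEquivRight fun y =>
          ⟨fun h => hg.trans h, fun h => hg.symm.trans h⟩)
      rwa [heq] at h
    obtain ⟨t, ht⟩ := hdvd
    refine ⟨t, ?_, g, hg, ht⟩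
    have hset : (S.filter fun x => ConjClasses.mk x = ConjClasses.mk g) =
        Finset.univ.filter fun x => IsConj g x := by
      ext x
      simp only [Finset.mem_filter, hSmem, Finset.mem_univ, true_and,
        ConjClasses.mk_eq_mk_iff_isConj]
      refine ⟨fun h => h.2.symm, fun h => ⟨hg.trans ?_, h.symm⟩⟩
      exact (QuotientGroup.mk' K).map_isConj h
    rw [hset, ← ht, ← card_isConj_eq_index g, Nat.card_eq_fintype_card, Fintype.card_subtype]
  by_contra hne
  push Not at hne
  have hdvd : c * p ∣ S.card := by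
    rw [Finset.card_eq_sum_card_image ConjClasses.mk S]
    refine Finset.dvd_sum fun C hC => ?_
    obtain ⟨t, hcard, g, hg, ht⟩ := hfib C hC
    rw [hcard]
    refine mul_dvd_mul_left c ?_
    by_contra hpt
    exact hne g t hg hpt ht
  rw [hScard, mul_comm (Nat.card K) c] at hdvd
  exact hK (Nat.dvd_of_mul_dvd_mul_left
    (Nat.pos_of_ne_zero Subgroup.index_ne_zero_of_finite) hdvd)

/-- The inflation map. -/
noncomputable def infl (K : Subgroup G) [K.Normal] (φ : IrrCharacter (G ⧸ K)) : IrrCharacter G :=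
  ⟨_, Clifford.isIrrCharacter_pullback φ.2 (QuotientGroup.mk' K) (QuotientGroup.mk'_surjective K)⟩

theorem infl_apply (K : Subgroup G) [K.Normal] (φ : IrrCharacter (G ⧸ K)) (g : G) :
    (infl K φ : G → ℂ) g = (φ : G ⧸ K → ℂ) (g : G ⧸ K) := rfl

theorem infl_injective (K : Subgroup G) [K.Normal] : Function.Injective (infl K) := fun φ φ' h => by
  refine Subtype.ext (funext fun q => ?_)
  obtain ⟨g, rfl⟩ := QuotientGroup.mk'_surjective K q
  exact congrFun (congrArg Subtype.val h) g

theorem principalBlock_eq_image {p : ℕ} {M : Ideal AlgInt} (hM : IsPModular p M) :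
    principalBlock M G = infl (pPrimeCore p G) '' principalBlock M (G ⧸ pPrimeCore p G) := by
  haveI : Fact p.Prime := ⟨hM.1⟩
  ext χ
  refine ⟨fun hχ => ?_, ?_⟩
  · obtain ⟨φ, hφ⟩ := Cfsg.Agent.S4736.exists_deflation (pPrimeCore p G) χ fun k hk =>
      PrincipalSq.apply_eq_degree_of_coprime hM (pPrimeCore p G) PCore.not_dvd_card_pPrimeCore
        χ hχ ⟨k, hk⟩
    refine ⟨φ, fun q => ?_, Subtype.ext (funext fun g => (hφ g).symm)⟩
    obtain ⟨g, t, hg, hpt, ht⟩ :=
      exists_lift (p := p) (pPrimeCore p G) PCore.not_dvd_card_pPrimeCore q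
    have h := hχ g
    have hq : (φ : G ⧸ pPrimeCore p G → ℂ) q = (χ : G → ℂ) g := by
      rw [hφ g]; exact classFunction_eq_of_isConj (irr_isClassFunction φ) hg
    have h2 := Blocks.MemLocalIdeal.mul_left hM (Blocks.inv_natCast_mem_lRing hM hpt) h
    convert h2 using 1
    have ht0 : (t : ℂ) ≠ 0 := Nat.cast_ne_zero.mpr fun h0 => hpt (h0 ▸ dvd_zero p)
    simp only [centralChar, hq, hφ 1, QuotientGroup.mk_one, ht]
    push_cast
    field_simp
  · rintro ⟨φ, hφ, rfl⟩
    exact Cfsg.Agent.S4736.inflation_mem hM _ φ hφ _ fun g => rfl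

/-- A power prime to the group order gives the same centralizer. -/
theorem centralizer_pow {g : G} {m : ℕ} (hm : m.Coprime (Nat.card G)) :
    Subgroup.centralizer ({g ^ m} : Set G) = Subgroup.centralizer ({g} : Set G) := by
  obtain ⟨j, hj⟩ := exists_pow_eq_self_of_coprime
    (hm.coprime_dvd_right (orderOf_dvd_natCard g))
  ext x
  simp only [Subgroup.mem_centralizer_singleton_iff]
  refine ⟨fun h => ?_, fun h => (show Commute x g from h).pow_right m⟩
  have := (show Commute x (g ^ m) from h).pow_right j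
  rwa [hj] at this

theorem pow_mem_principal {p : ℕ} {M : Ideal AlgInt} {m : ℕ} (hm : m.Coprime (Nat.card G))
    (χ : IrrCharacter G) (hχ : χ ∈ principalBlock M G) :
    (⟨_, CharGalois.isIrrCharacter_pow χ.2 hm⟩ : IrrCharacter G) ∈ principalBlock M G := by
  intro g
  have h := hχ (g ^ m)
  simp only [centralChar, centralizer_pow hm, one_pow] at h ⊢
  exact h

theorem exists_nat_eq {p : ℕ} {M : Ideal AlgInt} (hM : IsPModular p M) (x : G) :
    ∃ n : ℕ, 0 < n ∧ ∑ᶠ χ ∈ principalBlock M G, Complex.normSq ((χ : G → ℂ) x) = n := by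
  classical
  haveI := Fintype.ofFinite G
  set S : Finset (IrrCharacter G) := Finset.univ.filter (· ∈ principalBlock M G) with hS
  have hsum : ∑ᶠ χ ∈ principalBlock M G, Complex.normSq ((χ : G → ℂ) x) =
      ∑ χ ∈ S, Complex.normSq ((χ : G → ℂ) x) := by
    rw [finsum_mem_eq_sum_of_inter_support_eq]
    simp [hS]
  set ξ : G → ℂ := ∑ χ ∈ S, fun g => (χ : G → ℂ) g * conj ((χ : G → ℂ) g) with hξ
  have hξc : IsCharacter G ξ := isCharacter_sum _ fun χ _ => isCharacter_mul (irr_isCharacter χ)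
    (CharGalois.isCharacter_map (starRingAut : ℂ ≃+* ℂ) (irr_isCharacter χ))
  have hξx : ξ x = ((∑ χ ∈ S, Complex.normSq ((χ : G → ℂ) x) : ℝ) : ℂ) := by
    rw [hξ, Finset.sum_apply, Complex.ofReal_sum]
    exact Finset.sum_congr rfl fun χ _ => Complex.mul_conj _
  obtain ⟨q, hq⟩ := CharGalois.exists_rat_char hξc x fun m hm => by
    rw [hξ, Finset.sum_apply, Finset.sum_apply]
    let π : IrrCharacter G → IrrCharacter G := fun χ => ⟨_, CharGalois.isIrrCharacter_pow χ.2 hm⟩
    have hinj : Function.Injective π := fun χ χ' h => by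
      refine Subtype.ext (funext fun g => ?_)
      obtain ⟨y, rfl⟩ := (powCoprime hm.symm).surjective g
      exact congrFun (congrArg Subtype.val h) y
    have himg : S.image π = S := Finset.eq_of_subset_of_card_le (fun χ hχ => by
      obtain ⟨ψ, hψ, rfl⟩ := Finset.mem_image.mp hχ
      simp only [hS, Finset.mem_filter, Finset.mem_univ, true_and] at hψ ⊢
      exact pow_mem_principal (p := p) hm ψ hψ) (Finset.card_image_of_injective _ hinj).ge
    conv_rhs => rw [← himg, Finset.sum_image hinj.injOn]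
  have hint : IsIntegral ℤ (q : ℂ) := hq ▸ CfsgLib.Characters.isIntegral_of_isCharacter hξc x
  obtain ⟨z, hz⟩ := exists_int_of_isIntegral_rat hint
  have hR : ∑ χ ∈ S, Complex.normSq ((χ : G → ℂ) x) = (z : ℝ) := by
    have h : ((∑ χ ∈ S, Complex.normSq ((χ : G → ℂ) x) : ℝ) : ℂ) = ((z : ℝ) : ℂ) := by
      rw [← hξx, hq, ← hz]
      push_cast
      rfl
    exact_mod_cast h
  have h1 : (1 : ℝ) ≤ ∑ χ ∈ S, Complex.normSq ((χ : G → ℂ) x) := by
    refine le_trans (le_of_eq ?_) (Finset.single_le_sum (s := S)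
      (f := fun χ : IrrCharacter G => Complex.normSq ((χ : G → ℂ) x))
      (fun χ _ => Complex.normSq_nonneg _) (a := principalIrr G)
      (Finset.mem_filter.mpr ⟨Finset.mem_univ _, Blocks.principalIrr_mem hM⟩))
    exact (by simp [principalIrr] : (1 : ℝ) = Complex.normSq ((principalIrr G : G → ℂ) x))
  rw [hR] at h1
  have hz1 : 1 ≤ z := by exact_mod_cast h1
  refine ⟨z.toNat, by omega, ?_⟩
  rw [hsum, hR]
  have : ((z.toNat : ℕ) : ℤ) = z := by omega
  exact_mod_cast this.symm

theorem main (p : ℕ) [hp : Fact p.Prime] (M : Ideal AlgInt) (hM : IsPModular p M) (x : G) :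
    (∃ n : ℕ, 0 < n ∧ ∑ᶠ χ ∈ principalBlock M G, Complex.normSq ((χ : G → ℂ) x) = n) ∧
    ∑ᶠ χ ∈ principalBlock M G, Complex.normSq ((χ : G → ℂ) x) =
      ∑ᶠ ψ ∈ principalBlock M (G ⧸ pPrimeCore p G),
        Complex.normSq ((ψ : G ⧸ pPrimeCore p G → ℂ) (QuotientGroup.mk x)) ∧
    ∑ᶠ χ ∈ principalBlock M G, Complex.normSq ((χ : G → ℂ) x) ≤
      (Nat.card ↥(Subgroup.centralizer ({(QuotientGroup.mk x : G ⧸ pPrimeCore p G)} :
        Set (G ⧸ pPrimeCore p G))) : ℝ) ∧
    ((∑ᶠ χ ∈ principalBlock M G, charDegree (χ : G → ℂ) ^ 2) = (pPrimeCore p G).index ↔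
      ∀ B : Set (IrrCharacter (G ⧸ pPrimeCore p G)), IsPBlock M B →
        B = principalBlock M (G ⧸ pPrimeCore p G)) := by
  classical
  haveI := Fintype.ofFinite G
  haveI := Fintype.ofFinite (G ⧸ pPrimeCore p G)
  set K := pPrimeCore p G
  set B₀ := principalBlock M (G ⧸ K) with hB₀
  have heq : ∑ᶠ χ ∈ principalBlock M G, Complex.normSq ((χ : G → ℂ) x) =
      ∑ᶠ ψ ∈ B₀, Complex.normSq ((ψ : G ⧸ K → ℂ) (QuotientGroup.mk x)) := by
    rw [principalBlock_eq_image hM, finsum_mem_image (infl_injective K).injOn]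
    rfl
  set S : Finset (IrrCharacter (G ⧸ K)) := Finset.univ.filter (· ∈ B₀) with hS
  refine ⟨exists_nat_eq hM x, heq, ?_, ?_⟩
  · rw [heq, finsum_mem_eq_sum_of_inter_support_eq (t := S) _ (by simp [hS])]
    refine (Finset.sum_le_univ_sum_of_nonneg fun χ => Complex.normSq_nonneg _).trans (le_of_eq ?_)
    have h := column_orth (QuotientGroup.mk x : G ⧸ K) (QuotientGroup.mk x)
    rw [if_pos (IsConj.refl _)] at h
    simp only [Complex.mul_conj] at h
    rw [← Complex.ofReal_sum, ← Complex.ofReal_natCast] at h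
    exact Complex.ofReal_inj.mp h
  · have hdeg : ∀ φ, charDegree (infl K φ : G → ℂ) = charDegree (φ : G ⧸ K → ℂ) := fun φ => by
      simp [charDegree, infl_apply]
    rw [principalBlock_eq_image hM, finsum_mem_image (infl_injective K).injOn]
    simp only [hdeg]
    rw [finsum_mem_eq_sum_of_inter_support_eq (t := S) _ (by simp [hS, hB₀, K])]
    have hall : ∑ φ : IrrCharacter (G ⧸ K), charDegree (φ : G ⧸ K → ℂ) ^ 2 = K.index := by
      have h : ((∑ φ : IrrCharacter (G ⧸ K), charDegree (φ : G ⧸ K → ℂ) ^ 2 : ℕ) : ℂ) =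
          (K.index : ℂ) := by
        rw [Subgroup.index_eq_card, ← sum_sq_degrees]
        push_cast
        exact Finset.sum_congr rfl fun φ _ => by rw [(degree_eq φ).1]
      exact_mod_cast h
    constructor
    · intro h B hB
      obtain ⟨φ, hφ⟩ := Blocks.IsPBlock.nonempty hM hB
      have hφ0 : φ ∈ B₀ := by
        by_contra hne
        have hlt : ∑ ψ ∈ S, charDegree (ψ : G ⧸ K → ℂ) ^ 2 <
            ∑ ψ : IrrCharacter (G ⧸ K), charDegree (ψ : G ⧸ K → ℂ) ^ 2 :=
          Finset.sum_lt_sum_of_subset (Finset.subset_univ S) (i := φ) (Finset.mem_univ φ)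
            (by simp [hS, hne]) (pow_pos (degree_eq φ).2.2 2) fun _ _ _ => Nat.zero_le _
        rw [h, hall] at hlt
        exact lt_irrefl _ hlt
      exact (Blocks.IsPBlock.eq_blockOf hM hB hφ).trans
        (Blocks.IsPBlock.eq_blockOf hM (Blocks.isPBlock_principalBlock M) hφ0).symm
    · intro h
      rw [← hall]
      refine Finset.sum_congr ?_ fun _ _ => rfl
      refine Finset.eq_univ_iff_forall.mpr fun φ => Finset.mem_filter.mpr ⟨Finset.mem_univ φ, ?_⟩
      rw [← h _ (Blocks.isPBlock_blockOf φ)]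
      exact Blocks.mem_blockOf_self hM φ

/-- Let p be a prime, M a maximal ideal of the algebraic integers containing p, G a finite group, H = O_p'(G) and Ḡ = G/H. For x ∈ G write λ(G, x) for the sum of |χ(x)|^2 over the irreducible characters χ in the principal p-block of G. Then λ(G, x) is a positive integer, λ(G, x) = λ(Ḡ, x̄) where x̄ is the image of x, and λ(G, x) ≤ #C_Ḡ(x̄). Moreover λ(G, 1) = [G : H] if and only if the principal block is the only p-block of Ḡ. -/
theorem result {G : Type*} [Group G] [Finite G] (p : ℕ) [Fact p.Prime] (M : Ideal Cfsg.AlgInt) (hM : Cfsg.IsPModular p M) (x : G) : (∃ n : ℕ, 0 < n ∧ ∑ᶠ χ ∈ Cfsg.principalBlock M G, Complex.normSq ((χ : G → ℂ) x) = n) ∧ ∑ᶠ χ ∈ Cfsg.principalBlock M G, Complex.normSq ((χ : G → ℂ) x) = ∑ᶠ ψ ∈ Cfsg.principalBlock M (G ⧸ Cfsg.pPrimeCore p G), Complex.normSq ((ψ : G ⧸ Cfsg.pPrimeCore p G → ℂ) (QuotientGroup.mk x)) ∧ ∑ᶠ χ ∈ Cfsg.principalBlock M G, Complex.normSq ((χ : G → ℂ) x) ≤ (Nat.card ↥(Subgroup.centralizer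 ({(QuotientGroup.mk x : G ⧸ Cfsg.pPrimeCore p G)} : Set (G ⧸ Cfsg.pPrimeCore p G))) : ℝ) ∧ ((∑ᶠ χ ∈ Cfsg.principalBlock M G, Cfsg.charDegree (χ : G → ℂ) ^ 2) = (Cfsg.pPrimeCore p G).index ↔ ∀ B : Set (Cfsg.IrrCharacter (G ⧸ Cfsg.pPrimeCore p G)), Cfsg.IsPBlock M B → B = Cfsg.principalBlock M (G ⧸ Cfsg.pPrimeCore p G)) := by
  exact main p M hM x

end Cfsg.Agent.S4735
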