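import Cfsg.Statements.S4737
import Cfsg.Agent.Lib.Blocks.OrderThreeSquares

set_option autoImplicit false
open Cfsg

namespace Cfsg.Agent.S4737

/-- Let G be a finite group of order divisible by 6. Then the number of irreducible characters of G whose degree has the same 2-part as the order of G (the characters of 2-defect zero, each forming a 2-block of defect zero on its own) is at least the number of conjugacy classes of elements of order 3 that normalize no nontrivial 2-subgroup of G. In particular G has a 2-block of defect zero as soon as some element of order 3 normalizes no nontrivial 2-subgroup. -/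
theorem result {G : Type*} [Group G] [Finite G] (h6 : 6 ∣ Nat.card G) : Nat.card {C : ConjClasses G // ∃ g ∈ C.carrier, orderOf g = 3 ∧ ∀ Q : Subgroup G, IsPGroup 2 ↥Q → g ∈ Subgroup.normalizer (Q : Set G) → Q = ⊥} ≤ Nat.card {χ : Cfsg.IrrCharacter G // (Cfsg.charDegree (χ : G → ℂ)).factorization 2 = (Nat.card G).factorization 2} := by
  classical
  have : Fintype G := Fintype.ofFinite G
  let ι := {C : ConjClasses G // ∃ g ∈ C.carrier, orderOf g = 3 ∧
    ∀ Q : Subgroup G, IsPGroup 2 ↥Q → g ∈ Subgroup.normalizer (Q : Set G) → Q = ⊥}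
  let : Fintype ι := Fintype.ofFinite ι
  let rep : ι → G := fun C => Classical.choose C.2
  have hrep : ∀ C : ι, rep C ∈ C.1.carrier ∧ CfsgLib.OrderThreeSquares.Good (rep C) :=
    fun C => Classical.choose_spec C.2
  have hle := CfsgLib.OrderThreeSquares.card_good_le rep (fun C => (hrep C).2) ?_ ?_
  · rw [← Nat.card_eq_fintype_card] at hle
    exact hle
  · intro i j hij
    apply Subtype.ext
    rw [← ConjClasses.mem_carrier_iff_mk_eq.1 (hrep i).1,
      ← ConjClasses.mem_carrier_iff_mk_eq.1 (hrep j).1]
    exact ConjClasses.mk_eq_mk_iff_isConj.2 hij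
  · intro g hg
    let C : ι := ⟨ConjClasses.mk g, g, ConjClasses.mem_carrier_mk, hg⟩
    refine ⟨C, ?_⟩
    exact ConjClasses.mk_eq_mk_iff_isConj.1 (ConjClasses.mem_carrier_iff_mk_eq.1 (hrep C).1)

end Cfsg.Agent.S4737
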