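import Cfsg.Statements.S4740
import Cfsg.Agent.Lib.Blocks.DefectZeroAux

set_option autoImplicit false
open Cfsg

namespace Cfsg.Agent.S4740

/-- Let p be an odd prime, G a finite group of even order, x an involution of G and P a subgroup of G of order p ^ c such that no conjugate of x inverts a non-identity element of P. If p ^ a is the p-part of the order of C_G(x), then some irreducible character of G has degree divisible by p ^ (c - a). -/
theorem result {G : Type*} [Group G] [Finite G] (p : ℕ) [Fact p.Prime] (hp2 : p ≠ 2) (hG : Even (Nat.card G)) (x : G) (hx : orderOf x = 2) (P : Subgroup G) (c : ℕ) (hP : Nat.card ↥P = p ^ c) (hinv : ∀ g : G, IsConj x g → ∀ z ∈ P, z ≠ 1 → g * z * g⁻¹ ≠ z⁻¹) (a : ℕ) (ha : (Nat.card ↥(Subgroup.centralizer ({x} : Set G))).factorization p = a) : ∃ χ : Cfsg.IrrCharacter G, p ^ (c - a) ∣ Cfsg.charDegree (χ : G → ℂ) := by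
  classical
  have : Fintype G := Fintype.ofFinite G
  have hp : p.Prime := Fact.out
  by_contra hcon
  simp only [not_exists] at hcon
  have hca : a < c := by
    by_contra h
    refine hcon ⟨fun _ => 1, CfsgLib.Characters.isIrrCharacter_one⟩ ?_
    rw [Nat.sub_eq_zero_of_le (Nat.le_of_not_lt h), pow_zero]
    exact one_dvd _
  set e := (Nat.card G).factorization p with he
  have hce : c ≤ e := by
    have h1 : p ^ c ∣ Nat.card G := hP ▸ Subgroup.card_subgroup_dvd_card P
    exact (hp.pow_dvd_iff_le_factorization Nat.card_pos.ne').1 h1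
  set C := Subgroup.centralizer ({x} : Set G) with hC
  let T : Finset G := Finset.univ.filter (· ∈ P)
  have hTmem : ∀ t, t ∈ T ↔ t ∈ P := fun t => by simp [T]
  have hcard : (CfsgLib.ClassCount.pairs x x T).card = (CfsgLib.ClassCount.cls x).card := by
    have hset : CfsgLib.ClassCount.pairs x x T =
        (CfsgLib.ClassCount.cls x).image fun y => (y, y) := by
      ext ⟨g, h⟩
      simp only [CfsgLib.ClassCount.pairs, Finset.mem_filter, Finset.mem_product,
        CfsgLib.ClassCount.mem_cls, Finset.mem_image, Prod.mk.injEq, hTmem]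
      constructor
      · rintro ⟨⟨hg, hh⟩, hgh⟩
        have hg2 : orderOf g = 2 := by rw [CfsgLib.Involutions.orderOf_eq_of_isConj hg, hx]
        have hh2 : orderOf h = 2 := by rw [CfsgLib.Involutions.orderOf_eq_of_isConj hh, hx]
        have hz1 : g * h = 1 := by
          by_contra hz
          exact hinv g hg (g * h) hgh hz (CfsgLib.Involutions.left_inverts_prod hg2 hh2)
        refine ⟨g, hg, rfl, ?_⟩
        rw [← CfsgLib.Involutions.inv_eq_self_of_involution hg2]
        exact inv_eq_of_mul_eq_one_right hz1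
      · rintro ⟨y, hy, rfl, rfl⟩
        refine ⟨⟨hy, hy⟩, ?_⟩
        rw [CfsgLib.Involutions.mul_self_eq_one
          (by rw [CfsgLib.Involutions.orderOf_eq_of_isConj hy, hx])]
        exact P.one_mem
    rw [hset, Finset.card_image_of_injective _ fun y z h => congrArg Prod.fst h]
  choose m hm using fun χ => CfsgLib.ClassCount.exists_mult (G := G) χ P
  have hdvd : ∀ χ : Cfsg.IrrCharacter G, p ^ (e - (c - a) + 1) ∣ CfsgLib.ClassCount.cofDegree χ := by
    intro χ
    have hne : CfsgLib.ClassCount.cofDegree χ ≠ 0 := by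
      intro h0
      have := CfsgLib.ClassCount.degree_mul_cofDegree χ
      rw [h0, mul_zero] at this
      exact (Nat.card_pos (α := G)).ne this
    have hd := (CfsgLib.ClassCount.degree_eq χ).2.2.ne'
    rw [hp.pow_dvd_iff_le_factorization hne]
    have h1 : (Cfsg.charDegree (χ : G → ℂ)).factorization p < c - a := by
      rw [← not_le, ← hp.pow_dvd_iff_le_factorization hd]
      exact hcon χ
    have h2 := congrArg (fun n => n.factorization p) (CfsgLib.ClassCount.degree_mul_cofDegree χ)
    simp only [Nat.factorization_mul hd hne, Finsupp.add_apply] at h2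
    omega
  choose k hk using hdvd
  have key := CfsgLib.ClassCount.card_pairs_mul_centralizers x x T
  have hcls : (CfsgLib.ClassCount.cls x).card * Nat.card C = Nat.card G :=
    CfsgLib.ClassCount.card_cls_mul_centralizer x
  have hz : IsIntegral ℤ (∑ χ : Cfsg.IrrCharacter G,
      (k χ : ℂ) * ((χ : G → ℂ) x * (χ : G → ℂ) x * (m χ : ℂ))) :=
    IsIntegral.sum _ fun χ _ => (CfsgLib.DefectZeroCriterion.isIntegral_natCast' _).mul
      (((CfsgLib.ClassCount.irr_isIntegral χ x).mul (CfsgLib.ClassCount.irr_isIntegral χ x)).mul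
        (CfsgLib.DefectZeroCriterion.isIntegral_natCast' _))
  have heq : ((Nat.card G * Nat.card C : ℕ) : ℂ) = ((p ^ (e + a + 1) : ℕ) : ℂ) *
      ∑ χ : Cfsg.IrrCharacter G, (k χ : ℂ) * ((χ : G → ℂ) x * (χ : G → ℂ) x * (m χ : ℂ)) := by
    rw [← hcls]
    rw [hcard] at key
    push_cast
    rw [key, Finset.mul_sum]
    refine Finset.sum_congr rfl fun χ _ => ?_
    have hs : ∑ t ∈ T, (χ : G → ℂ) t⁻¹ = (Nat.card P : ℂ) * m χ := by
      rw [← hm χ, Finset.sum_subtype T hTmem]
    rw [hs, hk χ, hP]
    have hpe : (p : ℂ) ^ (e + a + 1) = (p : ℂ) ^ (e - (c - a) + 1) * (p : ℂ) ^ c := by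
      rw [← pow_add]; congr 1; omega
    rw [hpe]
    push_cast
    ring
  have hfin : p ^ (e + a + 1) ∣ Nat.card G * Nat.card C := by
    refine CfsgLib.CharScalar.dvd_of_isIntegral_div (pow_ne_zero _ hp.ne_zero) ?_
    rw [heq, mul_div_cancel_left₀ _ (Nat.cast_ne_zero.2 (pow_ne_zero _ hp.ne_zero))]
    exact hz
  rw [hp.pow_dvd_iff_le_factorization (mul_ne_zero Nat.card_pos.ne' Nat.card_pos.ne'),
    Nat.factorization_mul Nat.card_pos.ne' Nat.card_pos.ne', Finsupp.add_apply, ha] at hfin
  omega

end Cfsg.Agent.S4740
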