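import Cfsg.Statements.S4742
import Cfsg.Agent.Lib.Blocks.DefectZeroAux

set_option autoImplicit false
open Cfsg

namespace Cfsg.Agent.S4742

/-- Let p ≠ q be primes dividing the order of the finite group G, and suppose the centralizer of every non-identity p-element of G has order prime to q. Then either G has an irreducible character of p-defect zero, or for every non-identity q-element z of G there are conjugates g, h of z such that g h⁻¹ is a non-identity p-element. -/
theorem result {G : Type*} [Group G] [Finite G] (p q : ℕ) [Fact p.Prime] [Fact q.Prime] (hppq : p ≠ q) (hpG : p ∣ Nat.card G) (hqG : q ∣ Nat.card G) (hC : ∀ g : G, g ≠ 1 → (∃ k : ℕ, orderOf g = p ^ k) → ¬ q ∣ Nat.card ↥(Subgroup.centralizer ({g} : Set G))) : (∃ χ : Cfsg.IrrCharacter G, (Cfsg.charDegree (χ : G → ℂ)).factorization p = (Nat.card G).factorization p) ∨ ∀ z : G, z ≠ 1 → (∃ k : ℕ, orderOf z = q ^ k) → ∃ g h : G, IsConj z g ∧ IsConj z h ∧ g * h⁻¹ ≠ 1 ∧ ∃ k : ℕ, orderOf (g * h⁻¹) = p ^ k := by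
  have : Fintype G := Fintype.ofFinite G
  by_cases hd : ∃ χ : Cfsg.IrrCharacter G,
      (Cfsg.charDegree (χ : G → ℂ)).factorization p = (Nat.card G).factorization p
  · exact Or.inl hd
  right
  intro z hz hzq
  have hcz : ¬ p ∣ Nat.card (Subgroup.centralizer ({z} : Set G)) := by
    intro h
    obtain ⟨x, hx⟩ := exists_prime_orderOf_dvd_card' p h
    have hx' : orderOf (x : G) = p := by rw [Subgroup.orderOf_coe]; exact hx
    refine hC x (fun hx1 => ?_) ⟨1, by rw [hx', pow_one]⟩ ?_
    · rw [hx1, orderOf_one] at hx'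
      exact (Fact.out : p.Prime).ne_one hx'.symm
    · obtain ⟨k, hk⟩ := hzq
      rcases k with _ | k
      · rw [pow_zero, orderOf_eq_one_iff] at hk; exact absurd hk hz
      · have hzm : z ∈ Subgroup.centralizer ({(x : G)} : Set G) := by
          rw [Subgroup.mem_centralizer_iff]
          rintro y rfl
          exact (Subgroup.mem_centralizer_iff.1 x.2 z rfl).symm
        exact (dvd_pow_self q (Nat.succ_ne_zero k)).trans (hk ▸ Subgroup.orderOf_dvd_natCard _ hzm)
  let P : Sylow p G := Classical.arbitrary _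
  obtain ⟨g, h, hg, hh, hne, hgh⟩ := CfsgLib.DefectZeroCriterion.exists_pair
    (CfsgLib.DefectZeroCriterion.no_defect_zero_iff Fact.out hd) P z hcz
  exact ⟨g, h, hg, hh, hne, CfsgLib.DefectZeroCriterion.exists_prime_pow_of_mem P.2 hgh⟩

end Cfsg.Agent.S4742
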