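import Cfsg.Statements.S4743
import Cfsg.Agent.S4742
import Cfsg.Agent.Lib.PCore.PSolvable

set_option autoImplicit false
open Cfsg

namespace Cfsg.Agent.S4743

open CfsgLib in
/-- One half of the argument. -/
theorem core_q_prime {G : Type*} [Group G] [Finite G] (p q : ℕ) [Fact p.Prime] [Fact q.Prime]
    (hpq : p ≠ q) (hsolv : Cfsg.IsPSolvable p G) (hp : p ∣ Nat.card G)
    (hcq : ∀ z : G, z ≠ 1 → (∃ k : ℕ, orderOf z = q ^ k) → ∃ g h : G, IsConj z g ∧ IsConj z h ∧
      g * h⁻¹ ≠ 1 ∧ ∃ k : ℕ, orderOf (g * h⁻¹) = p ^ k)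
    (hcp : ∀ z : G, z ≠ 1 → (∃ k : ℕ, orderOf z = p ^ k) → ∃ g h : G, IsConj z g ∧ IsConj z h ∧
      g * h⁻¹ ≠ 1 ∧ ∃ k : ℕ, orderOf (g * h⁻¹) = q ^ k) : False := by
  have key : ∀ (r s : ℕ) [Fact r.Prime] [Fact s.Prime] (N : Subgroup G), N.Normal →
      (∀ z : G, z ≠ 1 → (∃ k : ℕ, orderOf z = r ^ k) → ∃ g h : G, IsConj z g ∧ IsConj z h ∧
        g * h⁻¹ ≠ 1 ∧ ∃ k : ℕ, orderOf (g * h⁻¹) = s ^ k) →
      ¬ s ∣ Nat.card N → ¬ r ∣ Nat.card N := by
    intro r s _ _ N hN hc hs hr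
    obtain ⟨z, hz⟩ := exists_prime_orderOf_dvd_card' r hr
    have hz' : orderOf (z : G) = r := by rw [Subgroup.orderOf_coe]; exact hz
    obtain ⟨g, h, hg, hh, hne, k, hk⟩ := hc z (fun h1 => by
      rw [h1, orderOf_one] at hz'
      exact (Fact.out : r.Prime).ne_one hz'.symm) ⟨1, by rw [hz', pow_one]⟩
    have hmem : g * h⁻¹ ∈ N := by
      obtain ⟨c, rfl⟩ := isConj_iff.1 hg
      obtain ⟨d, rfl⟩ := isConj_iff.1 hh
      exact mul_mem (hN.conj_mem _ z.2 c) (inv_mem (hN.conj_mem _ z.2 d))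
    rcases k with _ | k
    · rw [pow_zero, orderOf_eq_one_iff] at hk; exact hne hk
    · exact hs ((dvd_pow_self s (Nat.succ_ne_zero k)).trans
        (hk ▸ Subgroup.orderOf_dvd_natCard _ hmem))
  set N := Cfsg.pPrimeCore p G with hN
  have hNn : N.Normal := Subgroup.sSup_normal _ (fun _ h => h.1)
  have hqN : ¬ q ∣ Nat.card N := key q p N hNn hcq PCore.not_dvd_card_pPrimeCore
  have : Nontrivial (G ⧸ N) := by
    rw [← not_subsingleton_iff_nontrivial, QuotientGroup.subsingleton_iff]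
    intro h
    exact PCore.not_dvd_card_pPrimeCore (p := p) (G := G) (by
      rw [← hN, h, Subgroup.card_top]; exact hp)
  have hQ : Cfsg.pCore p (G ⧸ N) ≠ ⊥ :=
    PCore.pCore_ne_bot (PCore.isPSolvable_quotient hsolv N) PCore.pPrimeCore_quotient_pPrimeCore
  set M := (Cfsg.pCore p (G ⧸ N)).comap (QuotientGroup.mk' N) with hM
  have hcore : (Cfsg.pCore p (G ⧸ N)).Normal := Subgroup.sSup_normal _ (fun _ h => h.1)
  have hMcard : Nat.card M = Nat.card N * Nat.card (Cfsg.pCore p (G ⧸ N)) :=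
    PCore.card_comap_mk' N _
  obtain ⟨j, hj⟩ := IsPGroup.iff_card.1 (PCore.pCore_isPGroup (p := p) (G := G ⧸ N))
  rw [hj] at hMcard
  have hj0 : j ≠ 0 := fun h => hQ (Subgroup.card_eq_one.1 (by rw [hj, h, pow_zero]))
  refine key p q M (hcore.comap _) hcp ?_ (by rw [hMcard]; exact (dvd_pow_self p hj0).mul_left _)
  rw [hMcard]
  intro h
  rcases (Nat.Prime.dvd_mul Fact.out).1 h with h | h
  · exact hqN h
  · exact hpq ((Nat.prime_dvd_prime_iff_eq Fact.out Fact.out).1
      ((Fact.out : q.Prime).dvd_of_dvd_pow h)).symm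

/-- Let p ≠ q be primes dividing the order of the finite group G, suppose the centralizer of every non-identity p-element has order prime to q, and suppose G is p-solvable or q-solvable. Then G has an irreducible character of p-defect zero or an irreducible character of q-defect zero. -/
theorem result {G : Type*} [Group G] [Finite G] (p q : ℕ) [Fact p.Prime] [Fact q.Prime] (hppq : p ≠ q) (hpG : p ∣ Nat.card G) (hqG : q ∣ Nat.card G) (hC : ∀ g : G, g ≠ 1 → (∃ k : ℕ, orderOf g = p ^ k) → ¬ q ∣ Nat.card ↥(Subgroup.centralizer ({g} : Set G))) (hsolv : Cfsg.IsPSolvable p G ∨ Cfsg.IsPSolvable q G) : (∃ χ : Cfsg.IrrCharacter G, (Cfsg.charDegree (χ : G → ℂ)).factorization p = (Nat.card G).factorization p) ∨ (∃ χ : Cfsg.IrrCharacter G, (Cfsg.charDegree (χ : G → ℂ)).factorization q = (Nat.card G).factorization q) := by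
  by_contra hcon
  rw [not_or] at hcon
  have : Fintype G := Fintype.ofFinite G
  have hC' : ∀ g : G, g ≠ 1 → (∃ k : ℕ, orderOf g = q ^ k) →
      ¬ p ∣ Nat.card ↥(Subgroup.centralizer ({g} : Set G)) := by
    intro g hg hgq h
    obtain ⟨x, hx⟩ := exists_prime_orderOf_dvd_card' p h
    have hx' : orderOf (x : G) = p := by rw [Subgroup.orderOf_coe]; exact hx
    refine hC x (fun hx1 => ?_) ⟨1, by rw [hx', pow_one]⟩ ?_
    · rw [hx1, orderOf_one] at hx'
      exact (Fact.out : p.Prime).ne_one hx'.symm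
    · obtain ⟨k, hk⟩ := hgq
      rcases k with _ | k
      · rw [pow_zero, orderOf_eq_one_iff] at hk; exact absurd hk hg
      · have hzm : g ∈ Subgroup.centralizer ({(x : G)} : Set G) := by
          rw [Subgroup.mem_centralizer_iff]
          rintro y rfl
          exact (Subgroup.mem_centralizer_iff.1 x.2 g rfl).symm
        exact (dvd_pow_self q (Nat.succ_ne_zero k)).trans (hk ▸ Subgroup.orderOf_dvd_natCard _ hzm)
  have hcq := (Cfsg.Agent.S4742.result p q hppq hpG hqG hC).resolve_left hcon.1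
  have hcp := (Cfsg.Agent.S4742.result q p (Ne.symm hppq) hqG hpG hC').resolve_left hcon.2
  rcases hsolv with hs | hs
  · exact core_q_prime p q hppq hs hpG hcq hcp
  · exact core_q_prime q p (Ne.symm hppq) hs hqG hcp hcq

end Cfsg.Agent.S4743
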