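import Cfsg.Statements.S4744
import Cfsg.Agent.Lib.Blocks.DefectZeroAux

set_option autoImplicit false
open Cfsg

namespace Cfsg.Agent.S4744

/-- Let p be an odd prime and G a finite group of even order divisible by p in which the centralizer of every non-identity p-element has odd order. Then either G has an irreducible character of p-defect zero, or the normalizer of every Sylow p-subgroup P of G has even order and P is abelian. -/
theorem result {G : Type*} [Group G] [Finite G] (p : ℕ) [Fact p.Prime] (hp2 : p ≠ 2) (hpG : p ∣ Nat.card G) (h2G : 2 ∣ Nat.card G) (hC : ∀ g : G, g ≠ 1 → (∃ k : ℕ, orderOf g = p ^ k) → Odd (Nat.card ↥(Subgroup.centralizer ({g} : Set G)))) : (∃ χ : Cfsg.IrrCharacter G, (Cfsg.charDegree (χ : G → ℂ)).factorization p = (Nat.card G).factorization p) ∨ ∀ P : Sylow p G, Even (Nat.card ↥(Subgroup.normalizer ((P : Subgroup G) : Set G))) ∧ IsMulCommutative ↥(P : Subgroup G) := by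
  have : Fintype G := Fintype.ofFinite G
  by_cases hd : ∃ χ : Cfsg.IrrCharacter G,
      (Cfsg.charDegree (χ : G → ℂ)).factorization p = (Nat.card G).factorization p
  · exact Or.inl hd
  right
  intro P
  obtain ⟨s₀, hs₀⟩ := CfsgLib.DefectZeroCriterion.exists_involution (G := G) h2G
  obtain ⟨hPc, t, ht, hti⟩ := CfsgLib.DefectZeroCriterion.involution_structure
    (CfsgLib.DefectZeroCriterion.no_defect_zero_iff Fact.out hd)
    (CfsgLib.DefectZeroCriterion.involution_centralizer hp2
      (CfsgLib.DefectZeroCriterion.no_two_p hp2 hC)) P hs₀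
  refine ⟨?_, hPc⟩
  have hto : orderOf t = 2 := by rw [CfsgLib.Involutions.orderOf_eq_of_isConj ht, hs₀]
  have htn : t ∈ Subgroup.normalizer ((P : Subgroup G) : Set G) := by
    rw [Subgroup.mem_normalizer_iff]
    intro a
    refine ⟨fun ha => by rw [hti a ha]; exact inv_mem ha, fun ha => ?_⟩
    have h1 := hti _ ha
    have h2 : t * (t * a * t⁻¹) * t⁻¹ = a := by
      calc t * (t * a * t⁻¹) * t⁻¹ = (t * t) * a * (t * t)⁻¹ := by group
        _ = a := by simp [CfsgLib.Involutions.mul_self_eq_one hto]
    rw [h2] at h1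
    rw [h1]; exact inv_mem ha
  rw [even_iff_two_dvd, ← hto]
  exact Subgroup.orderOf_dvd_natCard _ htn

end Cfsg.Agent.S4744
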