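import Cfsg.Statements.S4746
import Cfsg.Agent.Lib.Blocks.DefectZeroAux

set_option autoImplicit false
open Cfsg

namespace Cfsg.Agent.S4746

/-- Let p be an odd prime and G a finite group of even order divisible by p in which the centralizer of every non-identity p-element has odd order. Then G has an irreducible character of p-defect zero or an irreducible character of even degree. -/
theorem result {G : Type*} [Group G] [Finite G] (p : ℕ) [Fact p.Prime] (hp2 : p ≠ 2) (hpG : p ∣ Nat.card G) (h2G : 2 ∣ Nat.card G) (hC : ∀ g : G, g ≠ 1 → (∃ k : ℕ, orderOf g = p ^ k) → Odd (Nat.card ↥(Subgroup.centralizer ({g} : Set G)))) : (∃ χ : Cfsg.IrrCharacter G, (Cfsg.charDegree (χ : G → ℂ)).factorization p = (Nat.card G).factorization p) ∨ ∃ χ : Cfsg.IrrCharacter G, Even (Cfsg.charDegree (χ : G → ℂ)) := by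
  have : Fintype G := Fintype.ofFinite G
  by_cases hd : ∃ χ : Cfsg.IrrCharacter G,
      (Cfsg.charDegree (χ : G → ℂ)).factorization p = (Nat.card G).factorization p
  · exact Or.inl hd
  right
  by_contra hev
  simp only [not_exists, Nat.not_even_iff_odd] at hev
  obtain ⟨s₀, hs₀⟩ := CfsgLib.DefectZeroCriterion.exists_involution (G := G) h2G
  let P : Sylow p G := Classical.arbitrary _
  obtain ⟨hPc, t, ht, hti⟩ := CfsgLib.DefectZeroCriterion.involution_structure
    (CfsgLib.DefectZeroCriterion.no_defect_zero_iff Fact.out hd)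
    (CfsgLib.DefectZeroCriterion.involution_centralizer hp2
      (CfsgLib.DefectZeroCriterion.no_two_p hp2 hC)) P hs₀
  obtain ⟨x, hx⟩ := exists_prime_orderOf_dvd_card' p (P.dvd_card_of_dvd_card hpG)
  have hx' : orderOf (x : G) = p := by rw [Subgroup.orderOf_coe]; exact hx
  have hx1 : (x : G) ≠ 1 := fun h => by
    rw [h, orderOf_one] at hx'
    exact (Fact.out : p.Prime).ne_one hx'.symm
  have h := CfsgLib.DefectZeroCriterion.even_centralizer_of_odd_degrees hev hx1 (hti x x.2)
  exact (Nat.not_even_iff_odd.2 (hC x hx1 ⟨1, by rw [hx', pow_one]⟩)) h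

end Cfsg.Agent.S4746
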