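import Cfsg.Statements.S4748
import Cfsg.Agent.Lib.Blocks.TIRestriction
import Cfsg.Agent.Lib.Blocks.DualHallHigman

set_option autoImplicit false
open scoped Pointwise
open Cfsg

namespace Cfsg.Agent.S4748

open CfsgLib CfsgLib.PCore in
theorem commute_of_center (p : ℕ) [Fact p.Prime] {G : Type*} [Group G] [Finite G] (N : Subgroup G)
    [N.Normal] (hN : (Nat.card N).Coprime p) (P : Sylow p G)
    (hgen : N ⊔ (P : Subgroup G) = ⊤)
    (hTI : ∀ g : G, g ∉ Subgroup.normalizer ((P : Subgroup G) : Set G) →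
      (P : Subgroup G) ⊓ (MulAut.conj g • (P : Subgroup G)) = ⊥)
    {n : ℕ} (ρ : Representation ℂ G (Fin n → ℂ)) (hρ : Function.Injective ρ)
    (hn : n ^ 2 ≤ Nat.card (P : Subgroup G))
    (z : G) (hz : z ∈ (P : Subgroup G)) (hzc : ∀ u ∈ (P : Subgroup G), z * u = u * z) (g : G) :
    z * g = g * z := by
  have hcomm : ∀ h ∈ Subgroup.normalizer ((P : Subgroup G) : Set G), z * h = h * z := by
    intro h hh
    have hg : h ∈ N ⊔ (P : Subgroup G) := by rw [hgen]; exact Subgroup.mem_top h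
    obtain ⟨a, ha, u, hu, rfl⟩ := Subgroup.mem_sup_of_normal_left.1 hg
    have haN : a ∈ Subgroup.normalizer ((P : Subgroup G) : Set G) :=
      (Subgroup.mul_mem_cancel_right _ (Subgroup.le_normalizer hu)).1 hh
    have h1 : a * z * a⁻¹ * z⁻¹ ∈ N ⊓ (P : Subgroup G) := by
      refine ⟨?_, Subgroup.mul_mem _ ((Subgroup.mem_normalizer_iff.1 haN z).1 hz) (inv_mem hz)⟩
      have : a * z * a⁻¹ * z⁻¹ = a * (z * a⁻¹ * z⁻¹) := by group
      rw [this]
      exact mul_mem ha (‹N.Normal›.conj_mem _ (inv_mem ha) z)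
    rw [inf_comm, inf_eq_bot_of_isPGroup_coprime P.2 hN, Subgroup.mem_bot] at h1
    have h2 : a * z = z * a := mul_inv_eq_iff_eq_mul.1 (mul_inv_eq_one.1 h1)
    rw [← mul_assoc, ← h2, mul_assoc, hzc u hu, ← mul_assoc]
  have key := TIRestriction.commute_of_commute_overgroup P hTI _ le_rfl ρ
    (by rw [Module.finrank_fin_fun]; exact hn) (ρ z)
    (fun h hh => by
      show ρ z * ρ h = ρ h * ρ z
      rw [← map_mul, ← map_mul, hcomm h hh]) g
  apply hρ
  rw [map_mul, map_mul]
  exact key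

/-- Let G be a finite p-solvable group whose Sylow p-subgroup P meets each conjugate g P g⁻¹ with g outside N_G(P) trivially, and let χ be a faithful character of G (χ g = χ 1 only for g = 1) whose degree d satisfies d² ≤ |P|. Then P is normal in G. -/
theorem result {G : Type*} [Group G] [Finite G] (p : ℕ) [Fact p.Prime] (hsolv : Cfsg.IsPSolvable p G) (P : Sylow p G) (hTI : ∀ g : G, g ∉ Subgroup.normalizer ((P : Subgroup G) : Set G) → (P : Subgroup G) ⊓ (MulAut.conj g • (P : Subgroup G)) = ⊥) (χ : G → ℂ) (hχ : Cfsg.IsCharacter G χ) (hfaith : ∀ g : G, χ g = χ 1 → g = 1) (hdeg : Cfsg.charDegree χ ^ 2 ≤ Nat.card ↥(P : Subgroup G)) : (P : Subgroup G).Normal := by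
  by_contra hP
  obtain ⟨n, ρ, rfl⟩ := hχ
  have hn : Cfsg.charDegree ρ.character = n := by
    simp [Cfsg.charDegree, Representation.char_one]
  rw [hn] at hdeg
  have hρ : Function.Injective ρ := by
    intro a b hab
    have h1 : ρ (a⁻¹ * b) = 1 := by rw [map_mul, ← hab, ← map_mul, inv_mul_cancel, map_one]
    have h2 := hfaith (a⁻¹ * b) (by
      simp only [Representation.character, h1, map_one])
    exact inv_mul_eq_one.1 h2
  have hcore : Cfsg.pCore p G = ⊥ := by
    by_contra hne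
    apply hP
    rw [← Subgroup.normalizer_eq_top_iff, eq_top_iff]
    intro g _
    by_contra hg
    apply hne
    rw [eq_bot_iff, ← hTI g hg]
    refine le_inf (CfsgLib.PCore.pCore_le_sylow P) ?_
    exact (CfsgLib.PCore.pCore_le_sylow (g • P)).trans (le_of_eq (by simp [Sylow.coe_subgroup_smul]))
  have hPnt : Nontrivial (P : Subgroup G) := by
    rw [Subgroup.nontrivial_iff_ne_bot]
    intro h
    exact hP (by rw [h]; infer_instance)
  have hnt := P.2.center_nontrivial
  obtain ⟨⟨⟨z, hzP⟩, hzc⟩, hz1⟩ := exists_ne (1 : Subgroup.center (P : Subgroup G))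
  have hzc' : ∀ u ∈ (P : Subgroup G), z * u = u * z := fun u hu =>
    (congrArg Subtype.val (Subgroup.mem_center_iff.1 hzc ⟨u, hu⟩)).symm
  set N := Cfsg.pPrimeCore p G with hN
  let K : Subgroup G := N ⊔ (P : Subgroup G)
  have hPK : (P : Subgroup G) ≤ K := le_sup_right
  have hNK : N ≤ K := le_sup_left
  have hNn : N.Normal := by
    rw [hN, Cfsg.pPrimeCore]
    exact Subgroup.sSup_normal _ (fun _ h => h.1)
  have hgen : N.subgroupOf K ⊔ ((P.subtype hPK : Sylow p K) : Subgroup K) = ⊤ := by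
    rw [Sylow.coe_subtype, ← Subgroup.subgroupOf_sup hNK hPK]
    exact Subgroup.subgroupOf_self K
  have hTI' : ∀ g : K, g ∉ Subgroup.normalizer (((P.subtype hPK : Sylow p K) : Subgroup K) : Set K) →
      ((P.subtype hPK : Sylow p K) : Subgroup K) ⊓
        (MulAut.conj g • ((P.subtype hPK : Sylow p K) : Subgroup K)) = ⊥ := by
    intro g hg
    have hg' : (g : G) ∉ Subgroup.normalizer ((P : Subgroup G) : Set G) := by
      intro h
      apply hg
      rw [Subgroup.mem_normalizer_iff]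
      intro y
      simp only [Sylow.coe_subtype, Subgroup.mem_subgroupOf, Subgroup.coe_mul, InvMemClass.coe_inv]
      exact Subgroup.mem_normalizer_iff.1 h (y : G)
    rw [eq_bot_iff]
    rintro y ⟨hy1, hy2⟩
    obtain ⟨w, hw, hwy⟩ := (Subgroup.mem_smul_pointwise_iff_exists _ _ _).1 hy2
    have : (y : G) ∈ (P : Subgroup G) ⊓ (MulAut.conj (g : G) • (P : Subgroup G)) :=
      ⟨hy1, (Subgroup.mem_smul_pointwise_iff_exists _ _ _).2 ⟨(w : G), hw, congrArg Subtype.val hwy⟩⟩
    rw [hTI _ hg'] at this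
    exact Subtype.ext this
  have key := commute_of_center p (N.subgroupOf K)
    (by rw [Nat.card_congr (Subgroup.subgroupOfEquivOfLe hNK).toEquiv]
        exact CfsgLib.PCore.pPrimeCore_coprime)
    (P.subtype hPK) hgen hTI' (n := n) (ρ.comp K.subtype)
    (hρ.comp Subtype.val_injective)
    (by rw [Sylow.coe_subtype, Nat.card_congr (Subgroup.subgroupOfEquivOfLe hPK).toEquiv]; exact hdeg)
    ⟨z, hPK hzP⟩ hzP (fun u hu => Subtype.ext (hzc' u hu))
  have hzN : z ∈ Subgroup.centralizer (N : Set G) := by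
    rw [Subgroup.mem_centralizer_iff]
    intro a ha
    exact (congrArg Subtype.val (key ⟨a, hNK ha⟩)).symm
  have hz : z ∈ (P : Subgroup G) ⊓ N :=
    ⟨hzP, CfsgLib.DualHallHigman.centralizer_pPrimeCore_le hsolv hcore hzN⟩
  rw [CfsgLib.PCore.inf_eq_bot_of_isPGroup_coprime P.2 CfsgLib.PCore.pPrimeCore_coprime,
    Subgroup.mem_bot] at hz
  exact hz1 (Subtype.ext (Subtype.ext hz))

end Cfsg.Agent.S4748
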