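import Cfsg.Statements.S4750
import Cfsg.Agent.Lib.Blocks.TIRestriction

set_option autoImplicit false
open scoped Pointwise
open Cfsg

namespace Cfsg.Agent.S4750

/-- Norms of small characters restrict to overgroups of TI Sylow normalizers. -/
theorem result {G : Type*} [Group G] [Fintype G] [DecidableEq G] (p : ℕ) [Fact p.Prime] (P : Sylow p G) (hTI : ∀ g : G, g ∉ Subgroup.normalizer ((P : Subgroup G) : Set G) → (P : Subgroup G) ⊓ (MulAut.conj g • (P : Subgroup G)) = ⊥) (χ : G → ℂ) (hχ : Cfsg.IsCharacter G χ) (hdeg : Cfsg.charDegree χ ^ 2 ≤ Nat.card ↥(P : Subgroup G)) (H : Subgroup G) [Fintype ↥H] (hH : Subgroup.normalizer ((P : Subgroup G) : Set G) ≤ H) : Cfsg.classInner χ χ = Cfsg.classInner (fun h : ↥H => χ h) (fun h : ↥H => χ h) := by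
  obtain ⟨n, ρ, rfl⟩ := hχ
  have hn : Cfsg.charDegree ρ.character = n := by
    simp [Cfsg.charDegree, Representation.char_one]
  rw [hn] at hdeg
  let ρH : Representation ℂ ↥H (Fin n → ℂ) := ρ.comp H.subtype
  have h1 : Cfsg.classInner (fun h : ↥H => ρ.character h) (fun h : ↥H => ρ.character h) =
      Cfsg.classInner ρH.character ρH.character := rfl
  rw [h1, CfsgLib.Characters.classInner_char_eq_finrank,
    CfsgLib.Characters.classInner_char_eq_finrank,
    CfsgLib.TIRestriction.finrank_intertwining_restrict P hTI H hH ρ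
      (by rw [Module.finrank_fin_fun]; exact hdeg)]

end Cfsg.Agent.S4750
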