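import Cfsg.Statements.S4762
import Cfsg.Agent.Lib.Blocks.ClassCount
import Cfsg.Agent.Lib.Characters.LinearTwist
import Cfsg.Agent.Lib.Characters.Counting
import Cfsg.Agent.Lib.Characters.Ito
import Cfsg.Agent.Lib.Characters.Decomp
import Cfsg.Agent.Lib.Solvable.NilpotentSubgroups
import Cfsg.Agent.Lib.PGroup.Frattini

set_option autoImplicit false
open Cfsg

namespace Cfsg.Agent.S4762

open CfsgLib CfsgLib.Characters CfsgLib.ClassCount
open scoped commutatorElement

universe u

variable {G : Type u} [Group G]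

theorem central_mul [Finite G] (χ : IrrCharacter G) {z : G} (hz : z ∈ Subgroup.center G) :
    ∃ c : ℂ, c ≠ 0 ∧ (∀ g : G, (χ : G → ℂ) (z * g) = c * (χ : G → ℂ) g) ∧
      (χ : G → ℂ) z = c * (χ : G → ℂ) 1 := by
  obtain ⟨f, n, ρ, hρ, rfl⟩ := χ
  haveI := hρ
  obtain ⟨c, hc⟩ := CharScalar.center_scalar ρ hz
  have hmul : ∀ g : G, ρ.character (z * g) = c * ρ.character g := fun g => by
    simp only [Representation.character, map_mul, hc, smul_mul_assoc, one_mul, map_smul,
      smul_eq_mul]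
  refine ⟨c, fun h0 => ?_, hmul, by simpa using hmul 1⟩
  haveI := CharScalar.nontrivial_of_irreducible ρ
  have h1 : (ρ z⁻¹) * ρ z = 1 := by rw [← map_mul, inv_mul_cancel, map_one]
  rw [hc, h0, zero_smul, mul_zero] at h1
  exact zero_ne_one h1

/-- Split of the sum of squared degrees by linearity. -/
theorem sum_split [Finite G] [Fintype {χ : IrrCharacter G // charDegree (χ : G → ℂ) ≠ 1}] :
    (commutator G).index + ∑ χ : {χ : IrrCharacter G // charDegree (χ : G → ℂ) ≠ 1},
      charDegree (χ.1 : G → ℂ) ^ 2 = Nat.card G := by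
  classical
  haveI := Fintype.ofFinite G
  have hsum : ∑ χ : IrrCharacter G, charDegree (χ : G → ℂ) ^ 2 = Nat.card G := by
    have h := sum_sq_degrees (G := G)
    have h2 : ((∑ χ : IrrCharacter G, charDegree (χ : G → ℂ) ^ 2 : ℕ) : ℂ) = (Nat.card G : ℂ) := by
      push_cast
      rw [← h]
      exact Finset.sum_congr (by ext; simp) fun χ _ => by rw [(degree_eq χ).1]
    exact_mod_cast h2
  rw [← hsum, ← Fintype.sum_subtype_add_sum_subtype
    (fun χ : IrrCharacter G => charDegree (χ : G → ℂ) = 1)]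
  congr 1
  · rw [Finset.sum_congr rfl (fun χ _ => by rw [χ.2, one_pow]), Finset.sum_const, smul_eq_mul,
      mul_one, Finset.card_univ, ← Nat.card_eq_fintype_card, ← card_linear_irr]
    exact Nat.card_congr (Equiv.subtypeEquivRight fun χ => by
      rw [(degree_eq χ).1, Nat.cast_eq_one])
  · exact Finset.sum_congr (by ext; simp) fun _ _ => rfl

theorem exists_hom_ne_one [Finite G] {g : G} (hg : g ∉ commutator G) :
    ∃ f : G →* ℂˣ, f g ≠ 1 := by
  haveI : NeZero (Monoid.exponent (Abelianization G) : ℂ) :=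
    ⟨Nat.cast_ne_zero.mpr Monoid.exponent_ne_zero_of_finite⟩
  have h1 : Abelianization.of g ≠ 1 := fun e => hg <| by
    rwa [← MonoidHom.mem_ker, Abelianization.ker_of] at e
  obtain ⟨φ, hφ⟩ :=
    CommGroup.exists_apply_ne_one_of_hasEnoughRootsOfUnity (Abelianization G) ℂ h1
  exact ⟨φ.comp Abelianization.of, hφ⟩

/-- In a group with exactly one character of degree divisible by `p`, that character vanishes
off the commutator subgroup. -/
theorem vanish [Finite G] {p : ℕ}
    (huniq : Nat.card {χ : IrrCharacter G // p ∣ charDegree (χ : G → ℂ)} = 1)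
    (χ : IrrCharacter G) (hχ : p ∣ charDegree (χ : G → ℂ)) {g : G} (hg : g ∉ commutator G) :
    (χ : G → ℂ) g = 0 := by
  obtain ⟨hsub, -⟩ := Nat.card_eq_one_iff_unique.mp huniq
  obtain ⟨f, hf⟩ := exists_hom_ne_one hg
  let ψ : IrrCharacter G := ⟨_, LinearTwist.isIrr_mul_hom χ.2 f⟩
  have hd : p ∣ charDegree (ψ : G → ℂ) := by
    have : (ψ : G → ℂ) 1 = (χ : G → ℂ) 1 := by simp [ψ]
    unfold charDegree at hχ ⊢
    rwa [this]
  have h : ψ = χ := congrArg Subtype.val (hsub.elim ⟨ψ, hd⟩ ⟨χ, hχ⟩)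
  have h2 : (χ : G → ℂ) g * (f g : ℂ) = (χ : G → ℂ) g := congrFun (congrArg Subtype.val h) g
  by_contra hne
  exact hf (Units.ext (mul_left_cancel₀ hne (h2.trans (mul_one _).symm)))

theorem forward [Finite G] [Group.IsNilpotent G] (p : ℕ) [hp : Fact p.Prime]
    (huniq : Nat.card {χ : IrrCharacter G // p ∣ charDegree (χ : G → ℂ)} = 1) :
    p = 2 ∧ IsExtraspecial 2 G := by
  classical
  haveI := Fintype.ofFinite G
  obtain ⟨hsub, ⟨χ, hχ⟩⟩ := Nat.card_eq_one_iff_unique.mp huniq
  obtain ⟨P⟩ := (inferInstance : Nonempty (Sylow p G))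
  have h4 : Group.IsNilpotent G ↔ ∀ (q : ℕ) [Fact q.Prime] (Q : Sylow q G), (Q : Subgroup G).Normal :=
    (Group.isNilpotent_of_finite_tfae (G := G)).out 0 3
  haveI hPn : (P : Subgroup G).Normal := h4.1 ‹_› p P
  obtain ⟨K, hK⟩ := Subgroup.exists_right_complement'_of_coprime P.card_coprime_index
  have hKidx : (P : Subgroup G).index = Nat.card K := hK.symm.index_eq_card
  have hKp : ¬ p ∣ Nat.card K := hKidx ▸ P.not_dvd_index
  have hcomm : ∀ a ∈ (P : Subgroup G), ∀ k ∈ K, a * k = k * a := fun a ha k hk => by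
    obtain ⟨i, hi⟩ := IsPGroup.iff_orderOf.1 P.isPGroup' ⟨a, ha⟩
    refine NilpotentSubgroups.commute_of_orderOf_coprime ?_
    rw [← Subgroup.orderOf_mk a ha, hi]
    exact ((hp.out.coprime_iff_not_dvd).mpr fun h =>
      hKp (h.trans (Subgroup.orderOf_dvd_natCard K hk))).pow_left i
  have hmul : ∀ g : G, ∃ a ∈ (P : Subgroup G), ∃ k ∈ K, g = a * k := fun g => by
    obtain ⟨⟨a, k⟩, h⟩ := hK.2 g
    exact ⟨a, a.2, k, k.2, h.symm⟩
  haveI hKn : K.Normal := ⟨fun x hx g => by
    obtain ⟨a, ha, k, hk, rfl⟩ := hmul g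
    have hy : k * x * k⁻¹ ∈ K := K.mul_mem (K.mul_mem hk hx) (K.inv_mem hk)
    have : a * k * x * (a * k)⁻¹ = k * x * k⁻¹ := by
      calc a * k * x * (a * k)⁻¹ = (a * (k * x * k⁻¹)) * a⁻¹ := by group
        _ = k * x * k⁻¹ := by rw [hcomm a ha _ hy, mul_inv_cancel_right]
    rwa [this]⟩
  have hQcard : Nat.card (G ⧸ K) = Nat.card (P : Subgroup G) := by
    rw [← Subgroup.index_eq_card, hK.index_eq_card]
  have hQp : IsPGroup p (G ⧸ K) := by
    obtain ⟨n, hn⟩ := IsPGroup.iff_card.mp P.isPGroup'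
    exact IsPGroup.of_card (hQcard.trans hn)
  -- the quotient is not abelian
  have hQna : ¬ IsMulCommutative (G ⧸ K) := fun hab => by
    refine P.not_dvd_index (hχ.trans ?_)
    obtain ⟨d, hd1, hd2⟩ : ∃ d : ℕ, (χ : G → ℂ) 1 = d ∧ d ∣ (P : Subgroup G).index := by
      refine CfsgLib.CharIto.degree_dvd_index_of_abelian_normal χ.2 (P : Subgroup G) hPn
        fun a ha b hb => ?_
      have h : a * b * (b * a)⁻¹ ∈ (P : Subgroup G) ⊓ K := by
        refine ⟨P.mul_mem (P.mul_mem ha hb) (P.inv_mem (P.mul_mem hb ha)), ?_⟩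
        show a * b * (b * a)⁻¹ ∈ K
        rw [← QuotientGroup.eq_one_iff]
        simp only [QuotientGroup.mk_mul, QuotientGroup.mk_inv]
        rw [isMulCommutative_iff.mp hab (a : G ⧸ K) b, mul_inv_cancel]
      rw [hK.disjoint.eq_bot, Subgroup.mem_bot, mul_inv_eq_one] at h
      exact h
    rwa [Nat.cast_injective ((degree_eq χ).1.symm.trans hd1)]
  -- a nonlinear character of the quotient
  obtain ⟨θ, hθ⟩ : ∃ θ : IrrCharacter (G ⧸ K), charDegree (θ : G ⧸ K → ℂ) ≠ 1 := by
    by_contra hall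
    push Not at hall
    refine hQna (isMulCommutative_iff.mpr fun x y => ?_)
    refine mul_inv_eq_one.mp (Classical.byContradiction fun hne => ?_)
    haveI : IsEmpty {χ : IrrCharacter (G ⧸ K) // charDegree (χ : G ⧸ K → ℂ) ≠ 1} :=
      ⟨fun χ => χ.2 (hall χ.1)⟩
    haveI := Fintype.ofFinite {χ : IrrCharacter (G ⧸ K) // charDegree (χ : G ⧸ K → ℂ) ≠ 1}
    have h := sum_split (G := G ⧸ K)
    rw [Fintype.sum_empty, add_zero] at h
    have hbot : commutator (G ⧸ K) = ⊥ := by
      have := (commutator (G ⧸ K)).card_mul_index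
      rw [h] at this
      exact Subgroup.card_eq_one.mp (mul_left_eq_self₀.mp this |>.resolve_right Nat.card_pos.ne')
    have hc : ⁅x, y⁆ ∈ commutator (G ⧸ K) :=
      Subgroup.commutator_mem_commutator (Subgroup.mem_top x) (Subgroup.mem_top y)
    rw [hbot, Subgroup.mem_bot] at hc
    exact hne (by rwa [commutatorElement_def, mul_assoc, ← mul_inv_rev] at hc)
  have hθp : p ∣ charDegree (θ : G ⧸ K → ℂ) := by
    obtain ⟨n, hn⟩ := IsPGroup.iff_card.mp hQp
    obtain ⟨i, -, hi⟩ := (Nat.dvd_prime_pow hp.out).mp (hn ▸ (degree_eq θ).2.1)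
    rw [hi] at hθ ⊢
    exact dvd_pow_self p fun h0 => hθ (by rw [h0, pow_zero])
  let θ' : IrrCharacter G :=
    ⟨_, Clifford.isIrrCharacter_pullback θ.2 (QuotientGroup.mk' K) (QuotientGroup.mk'_surjective K)⟩
  have hθ'1 : (θ' : G → ℂ) 1 = (θ : G ⧸ K → ℂ) 1 := by simp [θ']
  have hθ'p : p ∣ charDegree (θ' : G → ℂ) := by
    unfold charDegree at hθp ⊢
    rwa [hθ'1]
  have hχθ : θ' = χ := congrArg Subtype.val (hsub.elim ⟨θ', hθ'p⟩ ⟨χ, hχ⟩)
  have hKG' : K ≤ commutator G := fun k hk => by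
    by_contra hkG
    have h := vanish huniq θ' hθ'p hkG
    have h2 : (θ' : G → ℂ) k = (θ : G ⧸ K → ℂ) 1 := by
      simp [θ', (QuotientGroup.eq_one_iff k).mpr hk]
    rw [h, (degree_eq θ).1] at h2
    exact (degree_eq θ).2.2.ne' (Nat.cast_eq_zero.mp h2.symm)
  -- `G` is a `p`-group
  have hPtop : (P : Subgroup G) = ⊤ := by
    have hperf : commutator (G ⧸ (P : Subgroup G)) = ⊤ := by
      rw [eq_top_iff]
      rintro x -
      obtain ⟨g, rfl⟩ := QuotientGroup.mk'_surjective (P : Subgroup G) x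
      obtain ⟨a, ha, k, hk, rfl⟩ := hmul g
      rw [map_mul, show QuotientGroup.mk' (P : Subgroup G) a = 1 from
        (QuotientGroup.eq_one_iff a).mpr ha, one_mul]
      have := Subgroup.mem_map_of_mem (QuotientGroup.mk' (P : Subgroup G)) (hKG' hk)
      rw [commutator_def, Subgroup.map_commutator, Subgroup.map_top_of_surjective _
        (QuotientGroup.mk'_surjective _)] at this
      exact this
    haveI : Subsingleton (G ⧸ (P : Subgroup G)) := by
      by_contra hns
      rw [not_subsingleton_iff_nontrivial] at hns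
      haveI : Group.IsNilpotent (G ⧸ (P : Subgroup G)) :=
        Group.nilpotent_of_surjective (QuotientGroup.mk' _) (QuotientGroup.mk'_surjective _)
      exact (Group.IsSolvable.commutator_lt_top_of_nontrivial (G ⧸ (P : Subgroup G))).ne hperf
    exact QuotientGroup.subgroup_eq_top_of_subsingleton _ ‹_›
  have hG : IsPGroup p G := by
    have := P.isPGroup'
    rw [hPtop] at this
    exact this.of_equiv Subgroup.topEquiv
  -- counting
  obtain ⟨n, hn⟩ := IsPGroup.iff_card.mp hG
  have hpow : ∀ ψ : IrrCharacter G, charDegree (ψ : G → ℂ) ≠ 1 → p ∣ charDegree (ψ : G → ℂ) :=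
    fun ψ hψ => by
      obtain ⟨i, -, hi⟩ := (Nat.dvd_prime_pow hp.out).mp (hn ▸ (degree_eq ψ).2.1)
      rw [hi] at hψ ⊢
      exact dvd_pow_self p fun h0 => hψ (by rw [h0, pow_zero])
  have hχ1 : charDegree (χ : G → ℂ) ≠ 1 := fun h => hp.out.not_dvd_one (h ▸ hχ)
  have hall : ∀ ψ : {ψ : IrrCharacter G // charDegree (ψ : G → ℂ) ≠ 1}, ψ = ⟨χ, hχ1⟩ := fun ψ =>
    Subtype.ext (show ψ.1 = χ from
      congrArg Subtype.val (hsub.elim ⟨ψ.1, hpow _ ψ.2⟩ ⟨χ, hχ⟩))
  have hs : (commutator G).index + charDegree (χ : G → ℂ) ^ 2 = Nat.card G := by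
    rw [← sum_split (G := G)]
    congr 1
    exact (Fintype.sum_eq_single
      (f := fun ψ : {ψ : IrrCharacter G // charDegree (ψ : G → ℂ) ≠ 1} =>
        charDegree (ψ.1 : G → ℂ) ^ 2) ⟨χ, hχ1⟩
      (fun ψ hψ => absurd (hall ψ) hψ)).symm
  obtain ⟨m, -, hm⟩ := (Nat.dvd_prime_pow hp.out).mp (hn ▸ (commutator G).index_dvd_card)
  obtain ⟨k, -, hk⟩ := (Nat.dvd_prime_pow hp.out).mp (hn ▸ (degree_eq χ).2.1)
  have hmk : p ^ m + p ^ (2 * k) = p ^ n := by
    rw [← hm, ← hn]
    convert hs using 2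
    rw [hk]; ring
  obtain ⟨hp2, hnm⟩ : p = 2 ∧ n = m + 1 := by
    have h2 := hp.out.two_le
    have hmn : m < n := (Nat.pow_lt_pow_iff_right h2).mp (by
      have : 0 < p ^ (2 * k) := pow_pos hp.out.pos _
      omega)
    have hkn : 2 * k < n := (Nat.pow_lt_pow_iff_right h2).mp (by
      have : 0 < p ^ m := pow_pos hp.out.pos _
      omega)
    rcases lt_trichotomy m (2 * k) with h | h | h
    · exfalso
      have h3 : p ^ (m + 1) ∣ p ^ m := by
        refine (Nat.dvd_add_left (pow_dvd_pow p h)).mp ?_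
        rw [hmk]; exact pow_dvd_pow p hmn
      exact absurd ((Nat.pow_dvd_pow_iff_le_right h2).mp h3) (by omega)
    · rw [← h, ← two_mul] at hmk
      have h3 : p ^ (n - m) = 2 := by
        have : p ^ m * p ^ (n - m) = p ^ m * 2 := by
          rw [← pow_add, show m + (n - m) = n by omega, ← hmk, mul_comm]
        exact Nat.eq_of_mul_eq_mul_left (pow_pos hp.out.pos m) this
      obtain ⟨h4, h5⟩ := (Nat.Prime.pow_eq_iff Nat.prime_two).mp h3
      exact ⟨h4, by omega⟩
    · exfalso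
      have h3 : p ^ (2 * k + 1) ∣ p ^ (2 * k) := by
        refine (Nat.dvd_add_right (pow_dvd_pow p h)).mp ?_
        rw [hmk]; exact pow_dvd_pow p hkn
      exact absurd ((Nat.pow_dvd_pow_iff_le_right h2).mp h3) (by omega)
  subst hp2
  have hc2 : Nat.card (commutator G) = 2 := by
    have := (commutator G).card_mul_index
    rw [hm, hn, hnm, pow_succ'] at this
    exact Nat.eq_of_mul_eq_mul_right (pow_pos two_pos m) this
  have hGZ : commutator G ≤ Subgroup.center G := fun x hx => by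
    rw [Subgroup.mem_center_iff]
    intro g
    obtain rfl | hx1 := eq_or_ne x 1
    · simp
    have hy : g * x * g⁻¹ ∈ commutator G := Subgroup.Normal.conj_mem inferInstance x hx g
    obtain ⟨a, b, hab, huniv⟩ := Nat.card_eq_two_iff.mp hc2
    have hcases : ∀ z : commutator G, z = 1 ∨ z = ⟨x, hx⟩ := by
      intro z
      have h1 := huniv ▸ Set.mem_univ z
      have h2 := huniv ▸ Set.mem_univ (1 : commutator G)
      have h3 := huniv ▸ Set.mem_univ (⟨x, hx⟩ : commutator G)
      have hne : (1 : commutator G) ≠ ⟨x, hx⟩ := fun e => hx1 (congrArg Subtype.val e).symm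
      simp only [Set.mem_insert_iff, Set.mem_singleton_iff] at h1 h2 h3
      rcases h1 with rfl | rfl <;> rcases h2 with h2 | h2 <;> rcases h3 with h3 | h3 <;>
        first
          | exact absurd (h2.trans h3.symm) hne
          | exact Or.inl h2.symm
          | exact Or.inr h3.symm
    rcases hcases ⟨_, hy⟩ with h | h
    · exact absurd (conj_eq_one_iff.mp (congrArg Subtype.val h)) hx1
    · exact mul_inv_eq_iff_eq_mul.mp (congrArg Subtype.val h)
  have hZ : Subgroup.center G = commutator G := by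
    refine le_antisymm (fun z hz => ?_) hGZ
    by_contra hzG
    obtain ⟨c, hc0, -, hcz⟩ := central_mul χ hz
    rw [vanish huniq χ hχ hzG, (degree_eq χ).1] at hcz
    exact mul_ne_zero hc0 (Nat.cast_ne_zero.mpr (degree_eq χ).2.2.ne') hcz.symm
  refine ⟨rfl, ⟨⟨hG, ?_, hZ.symm⟩, by rw [hZ, hc2]⟩⟩
  rw [hZ]
  refine le_antisymm (PGroup.frattini_le_of (p := 2) _ le_rfl fun x => ?_)
    (PGroup.commutator_le_frattini hG)
  rw [← hZ, Subgroup.mem_center_iff]
  intro g
  have hcm : ∀ a b : G, ⁅a, b⁆ ∈ commutator G := fun a b =>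
    Subgroup.commutator_mem_commutator (Subgroup.mem_top a) (Subgroup.mem_top b)
  have h1 : x * g = ⁅x, g⁆ * (g * x) := by rw [commutatorElement_def]; group
  have h2 : ⁅x, g⁆ * ⁅x, g⁆ = 1 := by
    have h := pow_card_eq_one' (x := (⟨⁅x, g⁆, hcm x g⟩ : commutator G))
    rw [hc2, sq] at h
    exact congrArg Subtype.val h
  have hcen := Subgroup.mem_center_iff.mp (hGZ (hcm x g))
  calc g * x ^ 2 = (⁅x, g⁆ * ⁅x, g⁆) * (g * x * x) := by rw [h2, one_mul, sq, mul_assoc]
    _ = ⁅x, g⁆ * ((⁅x, g⁆ * (g * x)) * x) := by simp only [mul_assoc]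
    _ = ⁅x, g⁆ * (x * g * x) := by rw [← h1]
    _ = x * (⁅x, g⁆ * (g * x)) := by simp only [← mul_assoc]; rw [← hcen x]
    _ = x * (x * g) := by rw [← h1]
    _ = x ^ 2 * g := by rw [sq, mul_assoc]

theorem sum_norm_sq_eq_card [Fintype G] (χ : IrrCharacter G) :
    ∑ g : G, Complex.normSq ((χ : G → ℂ) g) = (Nat.card G : ℝ) := by
  have h := classInner_irr_self χ.2
  unfold classInner at h
  simp only [Complex.mul_conj] at h
  rw [← Complex.ofReal_sum] at h
  field_simp at h
  exact_mod_cast h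

theorem backward [Finite G] (hE : IsExtraspecial 2 G) :
    Nat.card {χ : IrrCharacter G // 2 ∣ charDegree (χ : G → ℂ)} = 1 := by
  classical
  haveI := Fintype.ofFinite G
  have hZ : Nat.card (commutator G) = 2 := by rw [hE.1.2.2]; exact hE.2
  have hidx : 2 * (commutator G).index = Nat.card G := by
    rw [← hZ, Subgroup.card_mul_index]
  let NL := {χ : IrrCharacter G // charDegree (χ : G → ℂ) ≠ 1}
  have hs : (commutator G).index + ∑ χ : NL, charDegree (χ.1 : G → ℂ) ^ 2 = Nat.card G :=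
    sum_split
  have hS : ∑ χ : NL, charDegree (χ.1 : G → ℂ) ^ 2 = (commutator G).index := by omega
  obtain ⟨z, hz, hz1⟩ : ∃ z ∈ commutator G, z ≠ 1 := by
    haveI : Nontrivial (commutator G) := Finite.one_lt_card_iff_nontrivial.mp (by omega)
    obtain ⟨z, hz⟩ := exists_ne (1 : commutator G)
    exact ⟨z, z.2, fun h => hz (Subtype.ext h)⟩
  have hzc : z ∈ Subgroup.center G := hE.1.2.2 ▸ hz
  -- `z` acts as `-1` in every nonlinear character
  have hlin : ∑ χ : {χ : IrrCharacter G // charDegree (χ : G → ℂ) = 1},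
      (χ.1 : G → ℂ) 1 * (χ.1 : G → ℂ) z = ((commutator G).index : ℂ) := by
    rw [Finset.sum_congr rfl (fun χ _ => ?_), Finset.sum_const, Finset.card_univ, nsmul_one,
      ← Nat.card_eq_fintype_card, ← card_linear_irr]
    · exact congrArg _ (Nat.card_congr (Equiv.subtypeEquivRight fun χ => by
        rw [(degree_eq χ).1, Nat.cast_eq_one]))
    · have h1 : (χ.1 : G → ℂ) 1 = 1 := by rw [(degree_eq χ.1).1, χ.2, Nat.cast_one]
      obtain ⟨f, hf⟩ := exists_linearIrr_eq χ.1 h1
      have hfz : f z = 1 := Abelianization.commutator_subset_ker f hz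
      rw [h1, one_mul, ← hf]
      simp [linearIrr, hfz]
  have hcol := sum_degree_mul_irr (G := G) z
  rw [if_neg hz1, ← Fintype.sum_subtype_add_sum_subtype
    (fun χ : IrrCharacter G => charDegree (χ : G → ℂ) = 1)] at hcol
  have hzero : ∑ χ : NL, ((charDegree (χ.1 : G → ℂ) : ℝ) ^ 2 +
      ((χ.1 : G → ℂ) 1 * (χ.1 : G → ℂ) z).re) = 0 := by
    rw [Finset.sum_add_distrib]
    have h := congrArg Complex.re hcol
    rw [Complex.add_re, hlin, Complex.natCast_re, Complex.re_sum, Complex.zero_re] at h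
    rw [show (∑ χ : NL, (charDegree (χ.1 : G → ℂ) : ℝ) ^ 2) = ((commutator G).index : ℝ) by
      exact_mod_cast hS]
    convert h using 3
  have hneg : ∀ χ : NL, (χ.1 : G → ℂ) z ≠ (χ.1 : G → ℂ) 1 := by
    have hnn : ∀ χ ∈ (Finset.univ : Finset NL), (0 : ℝ) ≤ (charDegree (χ.1 : G → ℂ) : ℝ) ^ 2 +
        ((χ.1 : G → ℂ) 1 * (χ.1 : G → ℂ) z).re := fun χ _ => by
      have hb := norm_le_degree_of_isCharacter (irr_isCharacter χ.1) z
      rw [(degree_eq χ.1).1, Complex.norm_natCast] at hb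
      rw [(degree_eq χ.1).1, ← Complex.ofReal_natCast, Complex.re_ofReal_mul]
      have := (abs_le.mp ((Complex.abs_re_le_norm _).trans hb)).1
      have h0 : (0 : ℝ) ≤ (charDegree (χ.1 : G → ℂ) : ℝ) := Nat.cast_nonneg _
      nlinarith
    intro χ heq
    have := (Finset.sum_eq_zero_iff_of_nonneg hnn).mp hzero χ (Finset.mem_univ χ)
    rw [heq, (degree_eq χ.1).1, ← Complex.ofReal_natCast, ← Complex.ofReal_mul,
      Complex.ofReal_re] at this
    have hpos : (0 : ℝ) < (charDegree (χ.1 : G → ℂ) : ℝ) := Nat.cast_pos.mpr (degree_eq χ.1).2.2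
    nlinarith
  have hvan : ∀ (χ : NL) (g : G), g ∉ commutator G → (χ.1 : G → ℂ) g = 0 := fun χ g hg => by
    have hgZ : g ∉ Subgroup.center G := hE.1.2.2 ▸ hg
    obtain ⟨y, hy⟩ := not_forall.mp fun h => hgZ (Subgroup.mem_center_iff.mpr h)
    have hc : ⁅y, g⁆ ∈ commutator G :=
      Subgroup.commutator_mem_commutator (Subgroup.mem_top y) (Subgroup.mem_top g)
    have hcne : ⁅y, g⁆ ≠ 1 := fun e => hy (commutatorElement_eq_one_iff_mul_comm.mp e)
    have hcz : ⁅y, g⁆ = z := by
      obtain ⟨a, b, -, huniv⟩ := Nat.card_eq_two_iff.mp hZ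
      have h1 := huniv ▸ Set.mem_univ (⟨z, hz⟩ : commutator G)
      have h2 := huniv ▸ Set.mem_univ (⟨⁅y, g⁆, hc⟩ : commutator G)
      have h3 := huniv ▸ Set.mem_univ (1 : commutator G)
      have n1 : (⟨z, hz⟩ : commutator G) ≠ 1 := fun e => hz1 (congrArg Subtype.val e)
      have n2 : (⟨⁅y, g⁆, hc⟩ : commutator G) ≠ 1 := fun e => hcne (congrArg Subtype.val e)
      simp only [Set.mem_insert_iff, Set.mem_singleton_iff] at h1 h2 h3
      rcases h1 with h1 | h1 <;> rcases h2 with h2 | h2 <;> rcases h3 with h3 | h3 <;>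
        first
          | exact absurd (h1.trans h3.symm) n1
          | exact absurd (h2.trans h3.symm) n2
          | exact congrArg Subtype.val (h2.trans h1.symm)
    obtain ⟨c, -, hmul, hc1⟩ := central_mul χ.1 hzc
    have hconj : z * g = y * g * y⁻¹ := by rw [← hcz, commutatorElement_def]; group
    have h := hmul g
    rw [hconj, isClassFunction_of_isCharacter (irr_isCharacter χ.1) g y] at h
    by_contra hne
    refine hneg χ ?_
    rw [hc1, show c = 1 from mul_right_cancel₀ hne (h.symm.trans (one_mul _).symm), one_mul]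
  have hdeg : ∀ χ : NL, charDegree (χ.1 : G → ℂ) ^ 2 = (commutator G).index := fun χ => by
    have h := sum_norm_sq_eq_card χ.1
    rw [← Finset.sum_subset (Finset.subset_univ
      (Finset.univ.filter fun g => g ∈ commutator G)) fun g _ hg => by
        simp [hvan χ g (by simpa using hg)]] at h
    rw [Finset.sum_congr rfl (fun g hg => ?_), Finset.sum_const, nsmul_eq_mul] at h
    pick_goal 2
    · have hg' := (Finset.mem_filter.mp hg).2
      obtain ⟨c, -, -, hc1⟩ := central_mul χ.1 (hE.1.2.2 ▸ hg')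
      have hnorm : ‖c‖ = 1 := by
        obtain ⟨d, -, hmul, hd1⟩ := central_mul χ.1 (hE.1.2.2 ▸ hg')
        have hne : (χ.1 : G → ℂ) 1 ≠ 0 := by
          rw [(degree_eq χ.1).1]; exact Nat.cast_ne_zero.mpr (degree_eq χ.1).2.2.ne'
        obtain rfl : c = d := mul_right_cancel₀ hne (hc1.symm.trans hd1)
        have hgg : g * g = 1 := by
          have h := pow_card_eq_one' (x := (⟨g, hg'⟩ : commutator G))
          rw [hZ, sq] at h
          exact congrArg Subtype.val h
        have h2 := hmul g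
        rw [hgg, hc1, ← mul_assoc] at h2
        rcases mul_self_eq_one_iff.mp (mul_eq_right₀ hne |>.mp h2.symm) with rfl | rfl <;> simp
      show Complex.normSq ((χ.1 : G → ℂ) g) = ((charDegree (χ.1 : G → ℂ) : ℝ) ^ 2)
      rw [hc1, (degree_eq χ.1).1, Complex.normSq_eq_norm_sq, norm_mul, hnorm, one_mul,
        Complex.norm_natCast]
    rw [show (Finset.univ.filter fun g => g ∈ commutator G).card = 2 by
      rw [← hZ, Nat.card_eq_fintype_card, Fintype.card_subtype]] at h
    have h' : 2 * charDegree (χ.1 : G → ℂ) ^ 2 = Nat.card G := by exact_mod_cast h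
    omega
  have hipos : 0 < (commutator G).index := Nat.pos_of_ne_zero Subgroup.index_ne_zero_of_finite
  have hcard : Fintype.card NL = 1 := by
    rw [Finset.sum_congr rfl (fun χ _ => hdeg χ), Finset.sum_const, smul_eq_mul,
      Finset.card_univ] at hS
    exact Nat.eq_of_mul_eq_mul_right hipos (hS.trans (one_mul _).symm)
  rw [← hcard, ← Nat.card_eq_fintype_card]
  refine Nat.card_congr (Equiv.subtypeEquivRight fun χ => ⟨fun h e => ?_, fun h => ?_⟩)
  · rw [e] at h; omega
  · obtain ⟨n, hn⟩ := IsPGroup.iff_card.mp hE.1.1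
    obtain ⟨i, -, hi⟩ := (Nat.dvd_prime_pow Nat.prime_two).mp (hn ▸ (degree_eq χ).2.1)
    rw [hi] at h ⊢
    exact dvd_pow_self 2 fun h0 => h (by rw [h0, pow_zero])

/-- Let p be a prime and G a finite nilpotent group. Then G has exactly one irreducible complex character of degree divisible by p if and only if p = 2 and G is an extraspecial 2-group. -/
theorem result {G : Type*} [Group G] [Finite G] [Group.IsNilpotent G] (p : ℕ) [Fact p.Prime] : Nat.card {χ : Cfsg.IrrCharacter G // p ∣ Cfsg.charDegree (χ : G → ℂ)} = 1 ↔ (p = 2 ∧ Cfsg.IsExtraspecial 2 G) := by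
  refine ⟨fun h => forward p h, ?_⟩
  rintro ⟨rfl, hE⟩
  exact backward hE

end Cfsg.Agent.S4762
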