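import Cfsg.Statements.S4763
import Cfsg.Agent.S4762
import Cfsg.Agent.Lib.Characters.Extension
import Cfsg.Agent.Lib.PrimRecog.Basic
import Cfsg.Agent.Lib.Blocks.DefectZeroCriterion

set_option autoImplicit false
open Cfsg

namespace Cfsg.Agent.S4763

open CfsgLib CfsgLib.Characters CfsgLib.ClassCount
open CfsgLib.DefectZeroCriterion (isIntegral_natCast')
open scoped ComplexConjugate commutatorElement

universe u

variable {G : Type u} [Group G]

/-- Multiplication by a linear character of a quotient. -/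
noncomputable def tw [Finite G] {N : Subgroup G} [N.Normal] (χ : IrrCharacter G) (f : G ⧸ N →* ℂˣ) :
    IrrCharacter G :=
  ⟨_, LinearTwist.isIrr_mul_hom χ.2 (f.comp (QuotientGroup.mk' N))⟩

theorem tw_apply [Finite G] {N : Subgroup G} [N.Normal] (χ : IrrCharacter G) (f : G ⧸ N →* ℂˣ)
    (g : G) : (tw χ f : G → ℂ) g = (χ : G → ℂ) g * (f (g : G ⧸ N) : ℂ) := rfl

theorem tw_degree [Finite G] {N : Subgroup G} [N.Normal] (χ : IrrCharacter G)
    (f : G ⧸ N →* ℂˣ) : charDegree (tw χ f : G → ℂ) = charDegree (χ : G → ℂ) := by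
  unfold charDegree
  rw [tw_apply]
  simp

/-- Twisting is free on characters of degree prime to the index. -/
theorem tw_free [Finite G] {N : Subgroup G} [N.Normal] (χ : IrrCharacter G)
    (hcop : (charDegree (χ : G → ℂ)).Coprime N.index) (f : G ⧸ N →* ℂˣ) (h : tw χ f = χ) :
    f = 1 := by
  obtain ⟨c, n, ρ, hρ, rfl⟩ := χ
  haveI := hρ
  have hn : charDegree ρ.character = n := by simp [charDegree, Representation.char_one]
  rw [hn] at hcop
  refine MonoidHom.ext fun q => ?_
  obtain ⟨g, rfl⟩ := QuotientGroup.mk'_surjective N q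
  let σ : Representation ℂ G (Fin n → ℂ) :=
    { toFun := fun x => (f (x : G ⧸ N) : ℂ) • ρ x
      map_one' := by simp
      map_mul' := fun a b => by
        rw [QuotientGroup.mk_mul, map_mul, map_mul, Units.val_mul, smul_mul_smul_comm] }
  have hσ : σ.character = ρ.character := by
    funext x
    have h1 := congrFun (congrArg Subtype.val h) x
    change ρ.character x * (f (x : G ⧸ N) : ℂ) = ρ.character x at h1
    change LinearMap.trace ℂ _ ((f (x : G ⧸ N) : ℂ) • ρ x) = _
    rw [map_smul, smul_eq_mul, mul_comm]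
    exact h1
  obtain ⟨T, hT⟩ := CfsgLib.CharExtension.exists_unit_conj ρ σ hσ
  have hd := congrArg LinearMap.det (hT g)
  change LinearMap.det (T.1 * ρ g) = LinearMap.det (((f (g : G ⧸ N) : ℂ) • ρ g) * T.1) at hd
  rw [map_mul, map_mul, LinearMap.det_smul, Module.finrank_fin_fun, mul_assoc,
    mul_comm (LinearMap.det (ρ g)) (LinearMap.det T.1)] at hd
  have hu : IsUnit (LinearMap.det (ρ g)) := by
    have : IsUnit (ρ g) := ((Group.isUnit g).map ρ)
    exact this.map LinearMap.det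
  have hne : LinearMap.det T.1 * LinearMap.det (ρ g) ≠ 0 :=
    mul_ne_zero (T.isUnit.map LinearMap.det).ne_zero hu.ne_zero
  have hpow : f (g : G ⧸ N) ^ n = 1 :=
    Units.ext (mul_eq_right₀ hne |>.mp hd.symm)
  have hidx : f (g : G ⧸ N) ^ N.index = 1 := by
    rw [← map_pow, Subgroup.index_eq_card, pow_card_eq_one', map_one]
  show f (g : G ⧸ N) = 1
  rw [← orderOf_eq_one_iff]
  exact Nat.eq_one_of_dvd_coprimes hcop (orderOf_dvd_of_pow_eq_one hpow)
    (orderOf_dvd_of_pow_eq_one hidx)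

/-- A sum of a twist-invariant integral quantity over characters of degree prime to `p` is
divisible by the number of twists. -/
theorem orbit_sum [Finite G] {N : Subgroup G} [N.Normal] {p : ℕ} [hp : Fact p.Prime]
    (hidx : ∃ k : ℕ, N.index = p ^ k)
    [Fintype {χ : IrrCharacter G // ¬ p ∣ charDegree (χ : G → ℂ)}]
    (F : IrrCharacter G → ℂ) (hint : ∀ χ, IsIntegral ℤ (F χ))
    (hinv : ∀ χ (f : G ⧸ N →* ℂˣ), F (tw χ f) = F χ) :
    ∃ a : ℂ, IsIntegral ℤ a ∧ ∑ χ : {χ : IrrCharacter G // ¬ p ∣ charDegree (χ : G → ℂ)}, F χ.1 =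
      (Nat.card (G ⧸ N →* ℂˣ) : ℂ) * a := by
  classical
  let L := G ⧸ N →* ℂˣ
  haveI : Finite L := by
    refine Finite.of_injective (fun f : L => linearIrr (f.comp (QuotientGroup.mk' N))) fun f f' h => ?_
    exact (MonoidHom.cancel_right (QuotientGroup.mk'_surjective N)).mp (linearIrr_injective h)
  haveI : Fintype L := Fintype.ofFinite L
  let S := {χ : IrrCharacter G // ¬ p ∣ charDegree (χ : G → ℂ)}
  let t : S → L → S := fun χ f => ⟨tw χ.1 f, by rw [tw_degree]; exact χ.2⟩
  have ht : ∀ χ f f', t (t χ f) f' = t χ (f * f') := fun χ f f' => by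
    refine Subtype.ext (Subtype.ext (funext fun g => ?_))
    show (χ.1 : G → ℂ) g * _ * _ = (χ.1 : G → ℂ) g * _
    rw [mul_assoc, ← Units.val_mul]
    rfl
  have ht1 : ∀ χ, t χ 1 = χ := fun χ => by
    refine Subtype.ext (Subtype.ext (funext fun g => ?_))
    simp [t, tw_apply]
  let s : Setoid S := ⟨fun χ χ' => ∃ f, t χ f = χ', fun χ => ⟨1, ht1 χ⟩,
    fun ⟨f, hf⟩ => ⟨f⁻¹, by rw [← hf, ht, show f * f⁻¹ = (1 : L) from mul_inv_cancel f, ht1]⟩,
    fun ⟨f, hf⟩ ⟨f', hf'⟩ => ⟨f * f', by rw [← ht, hf, hf']⟩⟩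
  refine ⟨∑ q : Quotient s, F q.out.1, IsIntegral.sum _ fun q _ => hint _, ?_⟩
  rw [← Finset.sum_fiberwise (Finset.univ : Finset S) (fun χ => Quotient.mk s χ) fun χ => F χ.1,
    Finset.mul_sum]
  refine Finset.sum_congr rfl fun q _ => ?_
  have hfib : (Finset.univ.filter fun χ : S => Quotient.mk s χ = q) =
      Finset.univ.image (t q.out) := by
    ext χ
    simp only [Finset.mem_filter, Finset.mem_univ, true_and, Finset.mem_image]
    constructor
    · intro h
      exact Quotient.exact (a := q.out) (b := χ) (by rw [Quotient.out_eq, h])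
    · rintro ⟨f, rfl⟩
      exact (Quotient.sound (show s.r q.out (t q.out f) from ⟨f, rfl⟩)).symm.trans (Quotient.out_eq q)
  have hinj : Function.Injective (t q.out) := fun f f' h => by
    have h' := congrArg (fun χ => t χ f'⁻¹) h
    simp only [ht] at h'
    rw [show f' * f'⁻¹ = (1 : L) from mul_inv_cancel f', ht1] at h'
    obtain ⟨k, hk⟩ := hidx
    have := tw_free q.out.1 (hk ▸ ((hp.out.coprime_iff_not_dvd).mpr q.out.2).symm.pow_right k)
      (f * f'⁻¹) (congrArg Subtype.val h')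
    exact mul_inv_eq_one.mp this
  rw [hfib, Finset.sum_image hinj.injOn, Finset.sum_congr rfl (fun f _ => hinv q.out.1 f),
    Finset.sum_const, Finset.card_univ, ← Nat.card_eq_fintype_card, nsmul_eq_mul]

theorem card_quotient_hom [Finite G] (N : Subgroup G) [N.Normal] :
    Nat.card (G ⧸ N →* ℂˣ) = (commutator (G ⧸ N)).index := by
  rw [Nat.card_congr (Abelianization.lift (G := G ⧸ N) (A := ℂˣ))]
  haveI : NeZero (Monoid.exponent (Abelianization (G ⧸ N)) : ℂ) :=
    ⟨Nat.cast_ne_zero.mpr Monoid.exponent_ne_zero_of_finite⟩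
  rw [CommGroup.card_monoidHom_of_hasEnoughRootsOfUnity (Abelianization (G ⧸ N)) ℂ,
    Subgroup.index_eq_card]
  rfl

/-- The sum of a character over a normal subgroup outside its kernel vanishes on each coset. -/
theorem sum_coset_eq_zero [Finite G] {N : Subgroup G} [hN : N.Normal] [Fintype N]
    (χ : IrrCharacter G) {x : G} (hx : x ∈ N) (hne : (χ : G → ℂ) x ≠ (χ : G → ℂ) 1) (g : G) :
    ∑ n : N, (χ : G → ℂ) (g * n) = 0 := by
  obtain ⟨c, n₀, ρ, hρ, rfl⟩ := χ
  haveI := hρ
  let A : Module.End ℂ (Fin n₀ → ℂ) := ∑ n : N, ρ (n : G)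
  have hcomm : ∀ y, A * ρ y = ρ y * A := fun y => by
    simp only [A, Finset.sum_mul, Finset.mul_sum, ← map_mul]
    exact Fintype.sum_equiv ((MulAut.conjNormal y⁻¹).toEquiv) _ _ fun n => by
      show ρ _ = ρ (y * ((MulAut.conjNormal y⁻¹ n : N) : G))
      rw [MulAut.conjNormal_apply]
      congr 1; group
  obtain ⟨a, ha⟩ := CharScalar.exists_scalar ρ A hcomm
  have hA : ρ x * A = A := by
    simp only [A, Finset.mul_sum, ← map_mul]
    exact Fintype.sum_equiv (Equiv.mulLeft (⟨x, hx⟩ : N)) _ _ fun n => rfl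
  have ha0 : a = 0 := by
    by_contra h0
    refine hne ?_
    rw [ha, mul_smul_comm, mul_one] at hA
    have : ρ x = 1 := smul_right_injective _ h0 hA
    show LinearMap.trace ℂ _ (ρ x) = LinearMap.trace ℂ _ (ρ 1)
    rw [this, map_one ρ]
  show ∑ n : N, LinearMap.trace ℂ _ (ρ (g * n)) = 0
  simp only [map_mul, ← map_sum, ← Finset.mul_sum]
  rw [show (∑ n : N, ρ (n : G)) = A from rfl, ha, ha0, zero_smul, mul_zero, map_zero]

theorem pow_split {p a b c : ℕ} [hp : Fact p.Prime] (h : p ^ a + p ^ b = p ^ c) : a = b := by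
  have h2 := hp.out.two_le
  have hac : a < c := (Nat.pow_lt_pow_iff_right h2).mp (by
    have : 0 < p ^ b := pow_pos hp.out.pos _
    omega)
  have hbc : b < c := (Nat.pow_lt_pow_iff_right h2).mp (by
    have : 0 < p ^ a := pow_pos hp.out.pos _
    omega)
  rcases lt_trichotomy a b with hl | hl | hl
  · exfalso
    have h3 : p ^ (a + 1) ∣ p ^ a := by
      refine (Nat.dvd_add_left (pow_dvd_pow p hl)).mp ?_
      rw [h]; exact pow_dvd_pow p hac
    exact absurd ((Nat.pow_dvd_pow_iff_le_right h2).mp h3) (by omega)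
  · exact hl
  · exfalso
    have h3 : p ^ (b + 1) ∣ p ^ b := by
      refine (Nat.dvd_add_right (pow_dvd_pow p hl)).mp ?_
      rw [h]; exact pow_dvd_pow p hbc
    exact absurd ((Nat.pow_dvd_pow_iff_le_right h2).mp h3) (by omega)

/-- A sum over all characters, split off the unique one of degree divisible by `p`. -/
theorem sum_split_one [Finite G] {p : ℕ}
    [Fintype {χ : IrrCharacter G // ¬ p ∣ charDegree (χ : G → ℂ)}]
    (hone : Nat.card {χ : IrrCharacter G // p ∣ charDegree (χ : G → ℂ)} = 1)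
    (ψ : IrrCharacter G) (hψ : p ∣ charDegree (ψ : G → ℂ)) (F : IrrCharacter G → ℂ) :
    ∑ χ : IrrCharacter G, F χ =
      (∑ χ : {χ : IrrCharacter G // ¬ p ∣ charDegree (χ : G → ℂ)}, F χ.1) + F ψ := by
  classical
  obtain ⟨hsub, -⟩ := Nat.card_eq_one_iff_unique.mp hone
  rw [← Fintype.sum_subtype_add_sum_subtype
    (fun χ : IrrCharacter G => p ∣ charDegree (χ : G → ℂ)), add_comm]
  congr 1
  · exact Finset.sum_congr (by ext; simp) fun _ _ => rfl
  · exact Fintype.sum_eq_single (f := fun χ : {χ : IrrCharacter G // p ∣ charDegree (χ : G → ℂ)} =>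
      F χ.1) ⟨ψ, hψ⟩ fun χ hχ => absurd (hsub.elim χ ⟨ψ, hψ⟩) hχ

/-- With one character of degree divisible by `p` and a nontrivial normal `p`-complement, the
quotient by the complement is abelian. -/
theorem quotient_abelian [Finite G] {p : ℕ} [hp : Fact p.Prime] {N : Subgroup G} [N.Normal]
    (hidx : ∃ k : ℕ, N.index = p ^ k) (hNne : N ≠ ⊥)
    (hone : Nat.card {χ : IrrCharacter G // p ∣ charDegree (χ : G → ℂ)} = 1) :
    commutator (G ⧸ N) = ⊥ := by
  classical
  haveI := Fintype.ofFinite G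
  haveI := Fintype.ofFinite N
  by_contra hne
  obtain ⟨hsub, -⟩ := Nat.card_eq_one_iff_unique.mp hone
  obtain ⟨k, hk⟩ := hidx
  have hcardQ : Nat.card (G ⧸ N) = p ^ k := by rw [← Subgroup.index_eq_card, hk]
  have hpow : ∀ φ : IrrCharacter (G ⧸ N), charDegree (φ : G ⧸ N → ℂ) ≠ 1 →
      p ∣ charDegree (φ : G ⧸ N → ℂ) := fun φ hφ => by
    obtain ⟨i, -, hi⟩ := (Nat.dvd_prime_pow hp.out).mp (hcardQ ▸ (degree_eq φ).2.1)
    rw [hi] at hφ ⊢
    exact dvd_pow_self p fun h0 => hφ (by rw [h0, pow_zero])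
  let infl : IrrCharacter (G ⧸ N) → IrrCharacter G := fun φ =>
    ⟨_, Clifford.isIrrCharacter_pullback φ.2 (QuotientGroup.mk' N) (QuotientGroup.mk'_surjective N)⟩
  have hinfl : ∀ φ g, (infl φ : G → ℂ) g = (φ : G ⧸ N → ℂ) (g : G ⧸ N) := fun φ g => rfl
  have hdeg : ∀ φ, charDegree (infl φ : G → ℂ) = charDegree (φ : G ⧸ N → ℂ) := fun φ => by
    unfold charDegree
    rw [hinfl]; rfl
  obtain ⟨θ, hθ⟩ : ∃ θ : IrrCharacter (G ⧸ N), charDegree (θ : G ⧸ N → ℂ) ≠ 1 := by
    by_contra hall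
    push Not at hall
    haveI : IsEmpty {φ : IrrCharacter (G ⧸ N) // charDegree (φ : G ⧸ N → ℂ) ≠ 1} :=
      ⟨fun φ => φ.2 (hall φ.1)⟩
    have h := S4762.sum_split (G := G ⧸ N)
    rw [Fintype.sum_empty, add_zero] at h
    have := (commutator (G ⧸ N)).card_mul_index
    rw [h] at this
    exact hne (Subgroup.card_eq_one.mp
      (mul_left_eq_self₀.mp this |>.resolve_right Nat.card_pos.ne'))
  set ψ := infl θ with hψdef
  have hψ : p ∣ charDegree (ψ : G → ℂ) := by rw [hψdef, hdeg]; exact hpow θ hθ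
  have huniq : ∀ φ : {φ : IrrCharacter (G ⧸ N) // charDegree (φ : G ⧸ N → ℂ) ≠ 1},
      φ = ⟨θ, hθ⟩ := fun φ => by
    have h : infl φ.1 = ψ := congrArg Subtype.val
      (hsub.elim ⟨infl φ.1, by rw [hdeg]; exact hpow _ φ.2⟩ ⟨ψ, hψ⟩)
    refine Subtype.ext (Subtype.ext (funext fun q => ?_))
    obtain ⟨g, rfl⟩ := QuotientGroup.mk'_surjective N q
    exact congrFun (congrArg Subtype.val h) g
  have hsum : (commutator (G ⧸ N)).index + charDegree (θ : G ⧸ N → ℂ) ^ 2 = p ^ k := by
    rw [← hcardQ, ← S4762.sum_split (G := G ⧸ N)]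
    congr 1
    exact (Fintype.sum_eq_single
      (f := fun φ : {φ : IrrCharacter (G ⧸ N) // charDegree (φ : G ⧸ N → ℂ) ≠ 1} =>
        charDegree (φ.1 : G ⧸ N → ℂ) ^ 2) ⟨θ, hθ⟩
      (fun φ hφ => absurd (huniq φ) hφ)).symm
  obtain ⟨i, -, hi⟩ := (Nat.dvd_prime_pow hp.out).mp
    (hcardQ ▸ (commutator (G ⧸ N)).index_dvd_card)
  obtain ⟨j, -, hj⟩ := (Nat.dvd_prime_pow hp.out).mp (hcardQ ▸ (degree_eq θ).2.1)
  have hij : i = j + j := pow_split (p := p) (c := k) (by
    rw [← hsum, hi, hj, ← pow_mul, mul_two])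
  have hj0 : j ≠ 0 := fun h => hθ (by rw [hj, h, pow_zero])
  obtain ⟨x, hxN, hx1⟩ : ∃ x ∈ N, x ≠ (1 : G) := by
    by_contra h; push Not at h
    exact hNne (eq_bot_iff.mpr fun x hx => Subgroup.mem_bot.mpr (h x hx))
  obtain ⟨χ, hχ⟩ : ∃ χ : IrrCharacter G, (χ : G → ℂ) x ≠ (χ : G → ℂ) 1 := by
    by_contra h; push Not at h
    exact hx1 (isConj_one_left.mp ((isConj_iff_irr x 1).mpr h))
  have hψconst : ∀ g n, n ∈ N → (ψ : G → ℂ) (g * n) = (ψ : G → ℂ) g := fun g n hn => by
    rw [hψdef, hinfl, hinfl, QuotientGroup.mk_mul, (QuotientGroup.eq_one_iff n).mpr hn, mul_one]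
  have hχp : ¬ p ∣ charDegree (χ : G → ℂ) := fun h => by
    have : χ = ψ := congrArg Subtype.val (hsub.elim ⟨χ, h⟩ ⟨ψ, hψ⟩)
    exact hχ (by rw [this, ← one_mul x, hψconst 1 x hxN])
  -- the product of `χ` and `ψ`
  set Φ : G → ℂ := fun g => (χ : G → ℂ) g * (ψ : G → ℂ) g with hΦ
  have hΦc : IsCharacter G Φ := isCharacter_mul (irr_isCharacter χ) (irr_isCharacter ψ)
  have hzero : classInner Φ (ψ : G → ℂ) = 0 := by
    unfold classInner
    refine mul_eq_zero_of_right _ ?_
    have hrot : (Nat.card N : ℂ) * ∑ g : G, Φ g * conj ((ψ : G → ℂ) g) = 0 := by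
      calc (Nat.card N : ℂ) * ∑ g : G, Φ g * conj ((ψ : G → ℂ) g)
          = ∑ n : N, ∑ g : G, Φ (g * n) * conj ((ψ : G → ℂ) (g * n)) := by
            rw [Finset.sum_congr rfl (fun (n : N) _ =>
              show ∑ g : G, Φ (g * n) * conj ((ψ : G → ℂ) (g * n)) =
                  ∑ g : G, Φ g * conj ((ψ : G → ℂ) g) from
                Fintype.sum_equiv (Equiv.mulRight (n : G)) _ _ fun g => rfl),
              Finset.sum_const, Finset.card_univ, nsmul_eq_mul, Nat.card_eq_fintype_card]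
        _ = ∑ g : G, (∑ n : N, (χ : G → ℂ) (g * n)) *
              ((ψ : G → ℂ) g * conj ((ψ : G → ℂ) g)) := by
            rw [Finset.sum_comm]
            refine Finset.sum_congr rfl fun g _ => ?_
            rw [Finset.sum_mul]
            refine Finset.sum_congr rfl fun n _ => ?_
            simp only [hΦ, hψconst g n n.2, mul_assoc]
        _ = 0 := Finset.sum_eq_zero fun g _ => by
            rw [sum_coset_eq_zero χ hxN hχ g, zero_mul]
    exact (mul_eq_zero.mp hrot).resolve_left (Nat.cast_ne_zero.mpr Nat.card_pos.ne')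
  have hdec := congrFun (classFunction_eq_sum (isClassFunction_of_isCharacter hΦc)) 1
  rw [Finset.sum_apply] at hdec
  simp only [Pi.smul_apply, smul_eq_mul] at hdec
  rw [sum_split_one hone ψ hψ, hzero, zero_mul, add_zero] at hdec
  have hfix : ∀ f : G ⧸ N →* ℂˣ, tw ψ f = ψ := fun f =>
    congrArg Subtype.val (hsub.elim ⟨tw ψ f, by rw [tw_degree]; exact hψ⟩ ⟨ψ, hψ⟩)
  obtain ⟨a, ha, hsumS⟩ := orbit_sum (N := N) (p := p) ⟨k, hk⟩
    (fun φ => classInner Φ (φ : G → ℂ) * (φ : G → ℂ) 1) (fun φ => by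
      obtain ⟨b, hb⟩ := classInner_char_nat hΦc (irr_isCharacter φ)
      show IsIntegral ℤ (classInner Φ (φ : G → ℂ) * (φ : G → ℂ) 1)
      rw [hb, (degree_eq φ).1, ← Nat.cast_mul]
      exact isIntegral_natCast' _) (fun φ f => by
      have h1 : (tw φ f : G → ℂ) 1 = (φ : G → ℂ) 1 := by rw [tw_apply]; simp
      rw [h1]
      congr 1
      unfold classInner
      congr 1
      refine Finset.sum_congr rfl fun g _ => ?_
      simp only [hΦ, tw_apply, map_mul]
      have hs := congrFun (congrArg Subtype.val (hfix f⁻¹)) g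
      change (ψ : G → ℂ) g * ((f⁻¹) (g : G ⧸ N) : ℂ) = (ψ : G → ℂ) g at hs
      have hn : ((f⁻¹) (g : G ⧸ N) : ℂ) = conj (f (g : G ⧸ N) : ℂ) := by
        have h := irr_apply_inv (linearIrr (f.comp (QuotientGroup.mk' N))) g
        simpa [linearIrr] using h
      rw [hn] at hs
      linear_combination ((χ : G → ℂ) g * conj ((φ : G → ℂ) g)) * hs)
  rw [hsumS, card_quotient_hom, hi, hΦ] at hdec
  simp only at hdec
  rw [(degree_eq χ).1, (degree_eq ψ).1, hψdef, hdeg, hj] at hdec
  have hdvd : p ^ i ∣ charDegree (χ : G → ℂ) * p ^ j := by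
    refine CharScalar.dvd_of_isIntegral_div (pow_ne_zero _ hp.out.ne_zero) ?_
    rw [Nat.cast_mul, hdec, mul_div_cancel_left₀ _
      (Nat.cast_ne_zero.mpr (pow_ne_zero _ hp.out.ne_zero))]
    exact ha
  rw [hij, pow_add] at hdvd
  exact hχp ((dvd_pow_self p hj0).trans
    (Nat.dvd_of_mul_dvd_mul_right (pow_pos hp.out.pos j) hdvd))

theorem main [Finite G] (p : ℕ) [hp : Fact p.Prime] (hnil : ¬ Group.IsNilpotent G)
    (N : Subgroup G) [N.Normal] (hN : (Nat.card N).Coprime p) (hidx : ∃ k : ℕ, N.index = p ^ k)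
    (hone : Nat.card {χ : IrrCharacter G // p ∣ charDegree (χ : G → ℂ)} = 1) :
    Nat.card {C : ConjClasses G // p ∣ Nat.card C.carrier} = 1 := by
  classical
  haveI := Fintype.ofFinite G
  obtain ⟨hsub, ⟨ψ, hψ⟩⟩ := Nat.card_eq_one_iff_unique.mp hone
  obtain ⟨k, hk⟩ := hidx
  have hNne : N ≠ ⊥ := fun h => hnil <| by
    subst h
    rw [Subgroup.index_bot] at hk
    exact (IsPGroup.of_card hk).isNilpotent
  have hab := quotient_abelian ⟨k, hk⟩ hNne hone
  set m : ℕ := p ^ k with hm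
  have hm0 : (m : ℂ) ≠ 0 := Nat.cast_ne_zero.mpr (pow_ne_zero _ hp.out.ne_zero)
  have hcardL : Nat.card (G ⧸ N →* ℂˣ) = m := by
    rw [card_quotient_hom, hab, Subgroup.index_bot, ← Subgroup.index_eq_card, hk]
  have hψ0 : ∀ g, g ∉ N → (ψ : G → ℂ) g = 0 := fun g hg => by
    have hg' : (g : G ⧸ N) ∉ commutator (G ⧸ N) := by
      rw [hab, Subgroup.mem_bot, QuotientGroup.eq_one_iff]; exact hg
    obtain ⟨f, hf⟩ := S4762.exists_hom_ne_one hg'
    have h : tw ψ f = ψ :=
      congrArg Subtype.val (hsub.elim ⟨tw ψ f, by rw [tw_degree]; exact hψ⟩ ⟨ψ, hψ⟩)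
    have h2 : (ψ : G → ℂ) g * (f (g : G ⧸ N) : ℂ) = (ψ : G → ℂ) g :=
      congrFun (congrArg Subtype.val h) g
    by_contra hne
    exact hf (Units.ext (mul_left_cancel₀ hne (h2.trans (mul_one _).symm)))
  -- the basic column identity
  have key : ∀ g h : G, (g = h ∨ (g ∈ N ∧ h ∈ N)) → ∃ a : ℂ, IsIntegral ℤ a ∧
      (if IsConj g h then (Nat.card (Subgroup.centralizer ({g} : Set G)) : ℂ) else 0) =
        (m : ℂ) * a + (ψ : G → ℂ) g * conj ((ψ : G → ℂ) h) := by
    intro g h hgh
    obtain ⟨a, ha, hs⟩ := orbit_sum (N := N) (p := p) ⟨k, hk⟩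
      (fun χ => (χ : G → ℂ) g * conj ((χ : G → ℂ) h))
      (fun χ => (irr_isIntegral χ g).mul (isIntegral_conj (irr_isIntegral χ h)))
      (fun χ f => by
        have h1 : (f (g : G ⧸ N) : ℂ) * conj (f (h : G ⧸ N) : ℂ) = 1 := by
          rcases hgh with rfl | ⟨hg, hh⟩
          · have h2 := irr_apply_inv (linearIrr (f.comp (QuotientGroup.mk' N))) g
            simp only [linearIrr, MonoidHom.comp_apply, QuotientGroup.mk'_apply] at h2
            rw [← h2, ← Units.val_mul, ← map_mul, ← QuotientGroup.mk_mul, mul_inv_cancel,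
              QuotientGroup.mk_one, map_one, Units.val_one]
          · rw [(QuotientGroup.eq_one_iff g).mpr hg, (QuotientGroup.eq_one_iff h).mpr hh]
            simp
        simp only [tw_apply, map_mul]
        linear_combination ((χ : G → ℂ) g * conj ((χ : G → ℂ) h)) * h1)
    refine ⟨a, ha, ?_⟩
    rw [← column_orth g h, sum_split_one hone ψ hψ, hs, hcardL]
  have hsplit : ∀ g : G, p ∣ Nat.card (ConjClasses.mk g).carrier ↔
      ¬ m ∣ Nat.card (Subgroup.centralizer ({g} : Set G)) := by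
    intro g
    have hc : Nat.card (ConjClasses.mk g).carrier =
        (Subgroup.centralizer ({g} : Set G)).index := by
      rw [← card_isConj_eq_index g]
      exact Nat.card_congr (Equiv.subtypeEquivRight fun x => by
        rw [ConjClasses.mem_carrier_iff_mk_eq, ConjClasses.mk_eq_mk_iff_isConj]
        exact ⟨IsConj.symm, IsConj.symm⟩)
    rw [hc]
    have hmul := (Subgroup.centralizer ({g} : Set G)).card_mul_index
    rw [← N.card_mul_index, hk] at hmul
    constructor
    · intro h hd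
      have h' : m * p ∣ Nat.card N * m := hmul ▸ mul_dvd_mul hd h
      rw [mul_comm (Nat.card N)] at h'
      exact hp.out.one_lt.ne' (Nat.Coprime.eq_one_of_dvd hN.symm
        (Nat.dvd_of_mul_dvd_mul_left (pow_pos hp.out.pos k) h'))
    · intro h
      by_contra hnd
      refine h (Nat.Coprime.dvd_of_dvd_mul_right
        (((hp.out.coprime_iff_not_dvd).mpr hnd).pow_left k) ?_)
      rw [hmul]
      exact dvd_mul_left _ _
  have hbadN : ∀ g, p ∣ Nat.card (ConjClasses.mk g).carrier → g ∈ N := by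
    intro g hg
    by_contra hgN
    obtain ⟨a, ha, he⟩ := key g g (Or.inl rfl)
    rw [if_pos (IsConj.refl g), hψ0 g hgN, zero_mul, add_zero] at he
    refine (hsplit g).mp hg (CharScalar.dvd_of_isIntegral_div (pow_ne_zero _ hp.out.ne_zero) ?_)
    rw [he, mul_div_cancel_left₀ _ hm0]
    exact ha
  have hbad : ∀ x, p ∣ Nat.card (ConjClasses.mk x).carrier → ∃ (j u : ℕ) (A : ℂ), j < k ∧
      ¬ p ∣ u ∧ IsIntegral ℤ A ∧
      (ψ : G → ℂ) x * conj ((ψ : G → ℂ) x) = (p : ℂ) ^ j * ((u : ℂ) - (p : ℂ) * A) := by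
    intro x hx
    obtain ⟨j, u, hu, hju⟩ := Nat.exists_eq_pow_mul_and_not_dvd
      (n := Nat.card (Subgroup.centralizer ({x} : Set G))) Nat.card_pos.ne' p hp.out.ne_one
    have hjk : j < k := by
      by_contra hle
      push Not at hle
      exact (hsplit x).mp hx (hju ▸ (pow_dvd_pow p hle).mul_right u)
    obtain ⟨a, ha, he⟩ := key x x (Or.inl rfl)
    rw [if_pos (IsConj.refl x), hju] at he
    obtain ⟨d, hd⟩ := Nat.exists_eq_add_of_le hjk
    refine ⟨j, u, (p : ℂ) ^ d * a, hjk, hu, ((isIntegral_natCast' _).pow d).mul ha, ?_⟩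
    rw [hm, hd] at he
    push_cast at he
    rw [Nat.succ_eq_add_one, pow_add, pow_add, pow_one] at he
    linear_combination -he
  refine Nat.card_eq_one_iff_unique.mpr ⟨⟨?_⟩, ?_⟩
  · rintro ⟨C, hC⟩ ⟨D, hD⟩
    refine Subtype.ext ?_
    obtain ⟨x, rfl⟩ := ConjClasses.mk_surjective C
    obtain ⟨y, rfl⟩ := ConjClasses.mk_surjective D
    show ConjClasses.mk x = ConjClasses.mk y
    rw [ConjClasses.mk_eq_mk_iff_isConj]
    by_contra hxy
    obtain ⟨a, ha, he⟩ := key x y (Or.inr ⟨hbadN x hC, hbadN y hD⟩)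
    rw [if_neg hxy] at he
    obtain ⟨j, u, A, hjk, hu, hA, hx⟩ := hbad x hC
    obtain ⟨i, v, B, hik, hv, hB, hy⟩ := hbad y hD
    have hsq : (p : ℂ) ^ j * ((u : ℂ) - (p : ℂ) * A) * ((p : ℂ) ^ i * ((v : ℂ) - (p : ℂ) * B)) =
        ((p : ℂ) ^ k * (p : ℂ) ^ k) * (a * conj a) := by
      have he' := congrArg conj he
      simp only [map_add, map_mul, map_zero, Complex.conj_conj, map_natCast] at he'
      have hmc : (m : ℂ) = (p : ℂ) ^ k := by simp [hm]
      rw [hmc] at he he'
      rw [← hx, ← hy]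
      linear_combination
        -((conj ((ψ : G → ℂ) x) * (ψ : G → ℂ) y)) * he + ((p : ℂ) ^ k * a) * he'
    obtain ⟨d, hd⟩ : ∃ d, k + k = j + i + (1 + d) := ⟨k + k - (j + i + 1), by omega⟩
    rw [← pow_add, hd, pow_add, pow_add (p : ℂ) 1 d, pow_one] at hsq
    have hP : ((p : ℂ) ^ (j + i)) ≠ 0 := pow_ne_zero _ (Nat.cast_ne_zero.mpr hp.out.ne_zero)
    have huv : ((u * v : ℕ) : ℂ) / (p : ℂ) =
        (p : ℂ) ^ d * (a * conj a) + (u : ℂ) * B + A * (v : ℂ) - (p : ℂ) * A * B := by
      rw [div_eq_iff (Nat.cast_ne_zero.mpr hp.out.ne_zero)]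
      push_cast
      refine mul_left_cancel₀ hP ?_
      rw [pow_add] at hsq ⊢
      linear_combination hsq
    have hint : IsIntegral ℤ (((u * v : ℕ) : ℂ) / (p : ℂ)) := by
      rw [huv]
      exact (((((isIntegral_natCast' _).pow d).mul (ha.mul (isIntegral_conj ha))).add
        ((isIntegral_natCast' _).mul hB)).add (hA.mul (isIntegral_natCast' _))).sub
        (((isIntegral_natCast' _).mul hA).mul hB)
    exact (hp.out.dvd_mul.mp (CharScalar.dvd_of_isIntegral_div hp.out.ne_zero hint)).elim hu hv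
  · by_contra hne
    rw [not_nonempty_iff] at hne
    obtain ⟨P⟩ := (inferInstance : Nonempty (Sylow p G))
    have hPcard : Nat.card (P : Subgroup G) = m := by
      rw [P.card_eq_multiplicity, ← N.card_mul_index, hk,
        Nat.factorization_mul Nat.card_pos.ne' (pow_ne_zero _ hp.out.ne_zero), Finsupp.add_apply,
        Nat.factorization_eq_zero_of_not_dvd
          ((hp.out.coprime_iff_not_dvd).mp hN.symm), hp.out.factorization_pow,
        Finsupp.single_eq_same, zero_add]
    have hcentral : ¬ ¬ (⊤ : Subgroup G) ≤ Subgroup.centralizer ((P : Subgroup G) : Set G) := by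
      intro hlt
      obtain ⟨g, -, hg⟩ := CfsgLib.PrimRecog.exists_not_conj_mem hlt
      have hgood : m ∣ Nat.card (Subgroup.centralizer ({g} : Set G)) := by
        by_contra h
        exact hne.elim ⟨ConjClasses.mk g, (hsplit g).mpr h⟩
      obtain ⟨Q, hQcard⟩ := Sylow.exists_subgroup_card_pow_prime (G := Subgroup.centralizer ({g} : Set G)) p hgood
      let Q' : Subgroup G := Q.map (Subgroup.centralizer ({g} : Set G)).subtype
      have hQ' : Nat.card Q' = m := by
        rw [Subgroup.card_map_of_injective (Subgroup.subtype_injective _), hQcard]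
      obtain ⟨R, hR⟩ := (IsPGroup.of_card hQ').exists_le_sylow
      have hRQ : Q' = R := Subgroup.eq_of_le_of_card_ge hR (le_of_eq (by
        rw [hQ', R.card_eq_multiplicity, ← hPcard, P.card_eq_multiplicity]))
      obtain ⟨c, hc⟩ := MulAction.exists_smul_eq G P R
      refine hg c (Subgroup.mem_top c) ?_
      rw [Subgroup.mem_centralizer_iff]
      intro u hu
      have hu' : c * u * c⁻¹ ∈ Q' := by
        rw [hRQ, ← hc]
        exact Subgroup.smul_mem_pointwise_smul u (MulAut.conj c) (P : Subgroup G) hu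
      obtain ⟨q, -, hq⟩ := Subgroup.mem_map.mp hu'
      have hcom := Subgroup.mem_centralizer_singleton_iff.mp q.2
      rw [show (q : G) = c * u * c⁻¹ from hq] at hcom
      calc u * (c⁻¹ * g * c) = c⁻¹ * (c * u * c⁻¹ * g) * c := by group
        _ = c⁻¹ * (g * (c * u * c⁻¹)) * c := by rw [hcom]
        _ = c⁻¹ * g * c * u := by group
    have hall := not_not.mp hcentral
    haveI hPn : (P : Subgroup G).Normal := ⟨fun a ha g => by
      have := Subgroup.mem_centralizer_iff.mp (hall (Subgroup.mem_top g)) a ha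
      rwa [← this, mul_inv_cancel_right]⟩
    obtain ⟨d, hd1, hd2⟩ := CfsgLib.CharIto.degree_dvd_index_of_abelian_normal ψ.2
      (P : Subgroup G) hPn fun a ha b hb =>
        Subgroup.mem_centralizer_iff.mp (hall (Subgroup.mem_top b)) a ha
    refine P.not_dvd_index (hψ.trans ?_)
    rwa [Nat.cast_injective ((degree_eq ψ).1.symm.trans hd1)]

/-- Let p be a prime and G a finite group that is not nilpotent and has a normal p-complement (a normal subgroup of order prime to p and index a power of p). If G has exactly one irreducible complex character of degree divisible by p, then G has exactly one conjugacy class whose size is divisible by p. -/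
theorem result {G : Type*} [Group G] [Finite G] (p : ℕ) [Fact p.Prime] (hnil : ¬ Group.IsNilpotent G) (N : Subgroup G) [N.Normal] (hN : (Nat.card N).Coprime p) (hidx : ∃ k : ℕ, N.index = p ^ k) (hone : Nat.card {χ : Cfsg.IrrCharacter G // p ∣ Cfsg.charDegree (χ : G → ℂ)} = 1) : Nat.card {C : ConjClasses G // p ∣ Nat.card C.carrier} = 1 := by
  exact main p hnil N hN hidx hone

end Cfsg.Agent.S4763
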