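import Cfsg.Statements.S4751
import Cfsg.Agent.S4762
import Cfsg.Agent.S4763
import Cfsg.Agent.Lib.Characters.NormalRes
import Cfsg.Agent.Lib.Characters.Monomial
import Cfsg.Agent.Lib.PSL2.Recognition
import Cfsg.Agent.Lib.PCore.Basic

set_option autoImplicit false
open Cfsg

namespace Cfsg.Agent.S4751

open CfsgLib CfsgLib.Characters CfsgLib.ClassCount CfsgLib.NormalRes CfsgLib.BrauerPerm
open scoped ComplexConjugate commutatorElement

universe u

variable {G : Type u} [Group G] [Finite G]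

/-- The values on elements of order divisible by `p` have modulus one. -/
def Hyp (p : ℕ) (χ : IrrCharacter G) : Prop :=
  ∀ g : G, p ∣ orderOf g → Complex.normSq ((χ : G → ℂ) g) = 1

theorem hyp_of_root {p : ℕ} {χ : IrrCharacter G}
    (hroot : ∀ g : G, p ∣ orderOf g → ∃ n : ℕ, 0 < n ∧ ((χ : G → ℂ) g) ^ n = 1) : Hyp p χ := by
  intro g hg
  obtain ⟨n, hn, h⟩ := hroot g hg
  rw [Complex.normSq_eq_norm_sq, Complex.norm_eq_one_of_pow_eq_one h hn.ne', one_pow]

theorem dvd_orderOf_of_pgroup {p : ℕ} [hp : Fact p.Prime] {H : Subgroup G} (hH : IsPGroup p H)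
    {h : G} (hh : h ∈ H) (h1 : h ≠ 1) : p ∣ orderOf h := by
  obtain ⟨k, hk⟩ := IsPGroup.iff_orderOf.1 hH ⟨h, hh⟩
  rw [Subgroup.orderOf_mk h hh] at hk
  rcases Nat.eq_zero_or_pos k with rfl | hk0
  · exact absurd (orderOf_eq_one_iff.mp (hk.trans (pow_zero p))) h1
  · rw [hk]; exact dvd_pow_self p hk0.ne'

/-- The norm of a restriction, in natural numbers. -/
theorem norm_sum (χ : IrrCharacter G) (H : Subgroup G) [Fintype H] :
    ∃ m : IrrCharacter H → ℕ, (∀ θ, mult H (χ : G → ℂ) θ = (m θ : ℂ)) ∧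
      ∑ h : H, Complex.normSq ((χ : G → ℂ) h) = (Nat.card H : ℝ) * ∑ θ, (m θ : ℝ) ^ 2 ∧
      charDegree (χ : G → ℂ) = ∑ θ, m θ * charDegree (θ : H → ℂ) := by
  classical
  haveI := Fintype.ofFinite G
  choose m hm using fun θ : IrrCharacter H => mult_nat H (irr_isCharacter χ) θ
  refine ⟨m, hm, ?_, ?_⟩
  · have h := classInner_eq_sum_mul (φ := fun h : H => (χ : G → ℂ) h)
      (isClassFunction_res H (irr_isClassFunction χ))
    rw [show (∑ θ : IrrCharacter H, classInner (fun h : H => (χ : G → ℂ) h) (θ : H → ℂ) *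
        conj (classInner (fun h : H => (χ : G → ℂ) h) (θ : H → ℂ))) =
        ((∑ θ, (m θ : ℝ) ^ 2 : ℝ) : ℂ) by
      push_cast
      refine Finset.sum_congr rfl fun θ _ => ?_
      rw [show classInner (fun h : H => (χ : G → ℂ) h) (θ : H → ℂ) = (m θ : ℂ) from hm θ,
        Complex.conj_natCast, sq]] at h
    unfold classInner at h
    simp only [Complex.mul_conj] at h
    rw [← Complex.ofReal_sum, inv_mul_eq_iff_eq_mul₀ (Nat.cast_ne_zero.mpr Nat.card_pos.ne'),
      ← Complex.ofReal_natCast, ← Complex.ofReal_mul] at h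
    exact Complex.ofReal_inj.mp h
  · have h := res_eq_sum H (irr_isClassFunction χ) 1
    rw [Subgroup.coe_one, (degree_eq χ).1, Finset.sum_congr rfl fun θ _ => show
      mult H (χ : G → ℂ) θ * (θ : H → ℂ) 1 = ((m θ * charDegree (θ : H → ℂ) : ℕ) : ℂ) by
        rw [hm θ, (degree_eq θ).1, Nat.cast_mul], ← Nat.cast_sum, Nat.cast_inj] at h
    exact h

/-- On a `p`-subgroup the norm sum is known. -/
theorem pgroup_sum {p : ℕ} [Fact p.Prime] (χ : IrrCharacter G) (hS : Hyp p χ) (H : Subgroup G)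
    [Fintype H] (hH : IsPGroup p H) :
    ∑ h : H, Complex.normSq ((χ : G → ℂ) h) =
      (charDegree (χ : G → ℂ) : ℝ) ^ 2 + ((Nat.card H : ℝ) - 1) := by
  classical
  haveI := Fintype.ofFinite G
  rw [← Finset.add_sum_erase Finset.univ _ (Finset.mem_univ (1 : H))]
  congr 1
  · rw [Subgroup.coe_one, (degree_eq χ).1, Complex.normSq_natCast, sq]
  · have h1 : ∀ k ∈ Finset.univ.erase (1 : H), Complex.normSq ((χ : G → ℂ) (k : G)) = 1 :=
      fun k hk => hS _ (dvd_orderOf_of_pgroup hH k.2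
        fun e => (Finset.ne_of_mem_erase hk) (Subtype.ext e))
    rw [Finset.sum_congr rfl h1, Finset.sum_const, nsmul_one,
      Finset.card_erase_of_mem (Finset.mem_univ _), Finset.card_univ, ← Nat.card_eq_fintype_card,
      Nat.cast_sub (Nat.one_le_iff_ne_zero.mpr Nat.card_pos.ne'), Nat.cast_one]

/-- `m` records the multiplicities on a `p`-subgroup. -/
theorem pgroup_eq {p : ℕ} [Fact p.Prime] (χ : IrrCharacter G) (hS : Hyp p χ) (H : Subgroup G)
    [Fintype H] (hH : IsPGroup p H) {m : IrrCharacter H → ℕ}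
    (hsum : ∑ h : H, Complex.normSq ((χ : G → ℂ) h) = (Nat.card H : ℝ) * ∑ θ, (m θ : ℝ) ^ 2) :
    charDegree (χ : G → ℂ) ^ 2 + Nat.card H = Nat.card H * (∑ θ, m θ ^ 2) + 1 := by
  rw [pgroup_sum χ hS H hH] at hsum
  have : ((charDegree (χ : G → ℂ) ^ 2 + Nat.card H : ℕ) : ℝ) =
      ((Nat.card H * (∑ θ, m θ ^ 2) + 1 : ℕ) : ℝ) := by
    push_cast
    linarith
  exact_mod_cast this

/-- A faithful character of modulus its degree is scalar, so the element is central. -/
theorem mem_center_of_norm (χ : IrrCharacter G)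
    (hfaith : ∀ g : G, (χ : G → ℂ) g = (χ : G → ℂ) 1 → g = 1) {z : G}
    (hz : ‖(χ : G → ℂ) z‖ = ‖(χ : G → ℂ) 1‖) : z ∈ Subgroup.center G := by
  obtain ⟨f, n, ρ, hρ, rfl⟩ := χ
  change ‖ρ.character z‖ = ‖ρ.character 1‖ at hz
  rw [Representation.char_one, Complex.norm_natCast] at hz
  obtain ⟨w, hw⟩ := (norm_char_eq_iff_scalar ρ z).mp hz
  rw [Subgroup.mem_center_iff]
  intro g
  have h : ρ.character ((g * z)⁻¹ * (z * g)) = ρ.character 1 := by
    have h2 : ρ (z * g) = ρ (g * z) := by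
      rw [map_mul, map_mul, hw, ← Module.End.one_eq_id, smul_mul_assoc, mul_smul_comm, one_mul,
        mul_one]
    unfold Representation.character
    rw [map_mul ρ, h2, ← map_mul ρ, inv_mul_cancel]
  exact inv_mul_eq_one.mp (hfaith _ h)

/-- Central elements have order prime to `p`. -/
theorem center_coprime {p : ℕ} [hp : Fact p.Prime] (χ : IrrCharacter G) (hS : Hyp p χ)
    (hnl : charDegree (χ : G → ℂ) ≠ 1) : ¬ p ∣ Nat.card (Subgroup.center G) := by
  haveI := Fintype.ofFinite G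
  intro hdvd
  obtain ⟨z, hz⟩ := exists_prime_orderOf_dvd_card' p hdvd
  have hzp : orderOf (z : G) = p := by rw [Subgroup.orderOf_coe, hz]
  obtain ⟨c, -, hmul, hc⟩ := Cfsg.Agent.S4762.central_mul χ z.2
  have hcn : ‖c‖ = 1 := by
    have hpow : ∀ k : ℕ, (χ : G → ℂ) ((z : G) ^ k) = c ^ k * (χ : G → ℂ) 1 := fun k => by
      induction k with
      | zero => simp
      | succ k ih => rw [pow_succ' (z : G), hmul, ih, pow_succ' c]; ring
    have h := hpow (orderOf (z : G))
    rw [pow_orderOf_eq_one] at h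
    exact Complex.norm_eq_one_of_pow_eq_one
      ((mul_eq_right₀ (irr_one_ne_zero χ)).mp h.symm) (orderOf_pos _).ne'
  have h := hS _ (dvd_of_eq hzp.symm)
  rw [hc, (degree_eq χ).1, map_mul, Complex.normSq_eq_norm_sq, hcn, Complex.normSq_natCast,
    one_pow, one_mul] at h
  have h' : charDegree (χ : G → ℂ) * charDegree (χ : G → ℂ) = 1 := by exact_mod_cast h
  exact hnl (Nat.eq_one_of_mul_eq_one_left h')

/-- The structure of the character on a normal `p`-subgroup. -/
theorem core_structure {p : ℕ} [hp : Fact p.Prime] (χ : IrrCharacter G) (hS : Hyp p χ)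
    (hfaith : ∀ g : G, (χ : G → ℂ) g = (χ : G → ℂ) 1 → g = 1)
    (hnl : charDegree (χ : G → ℂ) ≠ 1) (P : Subgroup G) [P.Normal] [Fintype P]
    (hP : IsPGroup p P) (hP1 : P ≠ ⊥) :
    IsMulCommutative P ∧ charDegree (χ : G → ℂ) + 1 = Nat.card P ∧ 3 ≤ Nat.card P ∧
      mult P (χ : G → ℂ) (principalIrr P) = 0 ∧ Nat.card (IrrCharacter P) = Nat.card P ∧
      ∀ θ : IrrCharacter P, θ ≠ principalIrr P → mult P (χ : G → ℂ) θ = 1 := by
  classical
  haveI := Fintype.ofFinite G
  obtain ⟨m, hm, hsum, hdeg⟩ := norm_sum χ P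
  have heq := pgroup_eq χ hS P hP hsum
  set d := charDegree (χ : G → ℂ)
  set n := Nat.card P
  have hn2 : 2 ≤ n := P.one_lt_card_iff_ne_bot.mpr hP1
  obtain ⟨i, hi⟩ := IsPGroup.iff_card.mp hP
  have hpn : p ∣ n := by
    rcases Nat.eq_zero_or_pos i with rfl | hi0
    · rw [pow_zero] at hi; omega
    · rw [show n = _ from hi]; exact dvd_pow_self p hi0.ne'
  have hpd : ¬ p ∣ d := by
    intro h
    have h1 : p ∣ n * (∑ θ, m θ ^ 2) + 1 := heq ▸ dvd_add (h.trans (dvd_pow_self d two_ne_zero)) hpn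
    exact hp.out.not_dvd_one ((Nat.dvd_add_right (hpn.mul_right _)).mp h1)
  have hlin : ∀ θ : IrrCharacter P, m θ ≠ 0 → charDegree (θ : P → ℂ) = 1 := by
    intro θ hθ
    obtain ⟨j, -, hj⟩ := (Nat.dvd_prime_pow hp.out).mp (hi ▸ (degree_eq θ).2.1)
    have h := Clifford.clifford_degree (inferInstance : P.Normal) χ.2 θ.2
      (by rw [show classInner (fun n : P => (χ : G → ℂ) n) (θ : P → ℂ) = (m θ : ℂ) from hm θ]
          exact Nat.cast_ne_zero.mpr hθ)
    rw [show classInner (fun n : P => (χ : G → ℂ) n) (θ : P → ℂ) = (m θ : ℂ) from hm θ,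
      (degree_eq χ).1, (degree_eq θ).1, ← Nat.cast_mul, ← Nat.cast_mul, Nat.cast_inj] at h
    rcases Nat.eq_zero_or_pos j with rfl | hj0
    · rw [hj, pow_zero]
    · exact absurd (show p ∣ d by
        rw [show d = _ from h]; exact dvd_mul_of_dvd_right (hj ▸ dvd_pow_self p hj0.ne') _) hpd
  have hd : d = ∑ θ, m θ := by
    rw [show d = _ from hdeg]
    refine Finset.sum_congr rfl fun θ _ => ?_
    by_cases h : m θ = 0
    · rw [h, zero_mul]
    · rw [hlin θ h, mul_one]
  -- values forced to be the degree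
  have hone : ∀ u : P, (∀ θ : IrrCharacter P, m θ ≠ 0 → (θ : P → ℂ) u = 1) → u = 1 := by
    intro u hu
    refine Subtype.ext (hfaith _ ?_)
    rw [res_eq_sum P (irr_isClassFunction χ) u, (degree_eq χ).1, show (charDegree (χ : G → ℂ)) = d
      from rfl, hd, Nat.cast_sum]
    refine Finset.sum_congr rfl fun θ _ => ?_
    by_cases h : m θ = 0
    · rw [hm θ, h, Nat.cast_zero, zero_mul]
    · rw [hm θ, hu θ h, mul_one]
  have hcomm : IsMulCommutative P := isMulCommutative_iff.mpr fun a b => by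
    refine commutatorElement_eq_one_iff_mul_comm.mp (hone _ fun θ hθ => ?_)
    have h1 : (θ : P → ℂ) 1 = 1 := by rw [(degree_eq θ).1, hlin θ hθ, Nat.cast_one]
    obtain ⟨f, hf⟩ := exists_linearIrr_eq θ h1
    have hfc : f ⁅a, b⁆ = 1 := by
      rw [map_commutatorElement, commutatorElement_eq_one_iff_mul_comm, mul_comm]
    rw [← hf]
    simp [linearIrr, hfc]
  obtain ⟨θ₀, hθ₀⟩ : ∃ θ, m θ ≠ 0 := by
    by_contra h; push Not at h
    exact (degree_eq χ).2.2.ne' (show d = 0 by rw [hd]; exact Finset.sum_eq_zero fun θ _ => h θ)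
  have hconst : ∀ θ, m θ ≠ 0 → m θ = m θ₀ := by
    intro θ hθ
    obtain ⟨x, rfl⟩ := exists_conj_of_constituents P χ (θ := θ₀) (η := θ)
      (by rw [hm]; exact Nat.cast_ne_zero.mpr hθ₀) (by rw [hm]; exact Nat.cast_ne_zero.mpr hθ)
    have h := mult_twist P x (irr_isClassFunction χ) θ₀
    rw [hm, hm] at h
    exact_mod_cast h
  have htriv : m (principalIrr P) = 0 := by
    by_contra h
    have hall : ∀ θ, m θ ≠ 0 → θ = principalIrr P := fun θ hθ => by
      obtain ⟨x, rfl⟩ := exists_conj_of_constituents P χ (θ := principalIrr P) (η := θ)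
        (by rw [hm]; exact Nat.cast_ne_zero.mpr h) (by rw [hm]; exact Nat.cast_ne_zero.mpr hθ)
      exact Subtype.ext (funext fun u => rfl)
    refine hP1 (eq_bot_iff.mpr fun u hu => Subgroup.mem_bot.mpr ?_)
    exact congrArg Subtype.val (hone ⟨u, hu⟩ fun θ hθ => by rw [hall θ hθ]; rfl)
  set e := m θ₀
  set T := Finset.univ.filter fun θ : IrrCharacter P => m θ ≠ 0 with hT
  have hd' : d = e * T.card := by
    rw [hd, ← Finset.sum_filter_ne_zero, Finset.sum_congr rfl
      (fun θ hθ => hconst θ (Finset.mem_filter.mp hθ).2), Finset.sum_const, smul_eq_mul, mul_comm]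
  have hsq : (∑ θ, m θ ^ 2) = e * d := by
    rw [hd, Finset.mul_sum]
    refine Finset.sum_congr rfl fun θ _ => ?_
    by_cases h : m θ = 0
    · simp [h]
    · rw [sq]; nth_rewrite 1 [hconst θ h]; rfl
  have hcardI : Fintype.card (IrrCharacter P) = n := by
    rw [← Nat.card_eq_fintype_card, card_irr_eq_card_conjClasses]
    exact (Nat.card_eq_of_bijective ConjClasses.mk ⟨fun a b h => by
      obtain ⟨c, hc⟩ := isConj_iff.mp (ConjClasses.mk_eq_mk_iff_isConj.mp h)
      rw [← hc, isMulCommutative_iff.mp hcomm c a, mul_inv_cancel_right],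
      ConjClasses.mk_surjective⟩).symm
  have hsub : T ⊆ Finset.univ.erase (principalIrr P) := fun θ hθ =>
    Finset.mem_erase.mpr ⟨fun h => (Finset.mem_filter.mp hθ).2 (h ▸ htriv), Finset.mem_univ θ⟩
  have hTle : T.card ≤ n - 1 := by
    refine (Finset.card_le_card hsub).trans (le_of_eq ?_)
    rw [Finset.card_erase_of_mem (Finset.mem_univ _), Finset.card_univ, hcardI]
  rw [hsq] at heq
  have hd2 : 2 ≤ d := by
    have h0 : 0 < d := (degree_eq χ).2.2
    have h1 : d ≠ 1 := hnl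
    omega
  have he1 : 1 ≤ e := Nat.one_le_iff_ne_zero.mpr hθ₀
  have hle : d + e ≤ e * n := by
    have := Nat.mul_le_mul_left e hTle
    rw [← hd', Nat.mul_sub, mul_one] at this
    have h2 : e ≤ e * n := Nat.le_mul_of_pos_right e (by omega)
    omega
  obtain ⟨k, hk⟩ : ∃ k, e * n = d + k := ⟨e * n - d, by omega⟩
  have hdk : d * k + 1 = n := by nlinarith
  have hk1 : k = 1 := by
    by_contra hne
    have hk2 : 2 ≤ k := by omega
    have : n ≤ e * n := Nat.le_mul_of_pos_left n (by omega)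
    nlinarith
  subst hk1
  have he : e = 1 := by
    by_contra hne
    have : 2 * n ≤ e * n := Nat.mul_le_mul_right n (by omega)
    omega
  have hn : d + 1 = n := by rw [he, one_mul] at hk; omega
  refine ⟨hcomm, hn, by omega, by rw [hm, htriv, Nat.cast_zero],
    by rw [Nat.card_eq_fintype_card, hcardI], fun θ hθ => ?_⟩
  have hT' : T = Finset.univ.erase (principalIrr P) := Finset.eq_of_subset_of_card_le hsub (by
    rw [Finset.card_erase_of_mem (Finset.mem_univ _), Finset.card_univ, hcardI]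
    rw [he, one_mul] at hd'
    omega)
  have hθT : θ ∈ T := hT' ▸ Finset.mem_erase.mpr ⟨hθ, Finset.mem_univ θ⟩
  rw [hm θ, hconst θ (Finset.mem_filter.mp hθT).2]
  exact_mod_cast congrArg (fun t : ℕ => (t : ℂ)) he

/-- `p`-subgroups over the core are small. -/
theorem over_core {p : ℕ} [hp : Fact p.Prime] (χ : IrrCharacter G) (hS : Hyp p χ)
    (P K : Subgroup G) [Fintype K] (hPK : P ≤ K) (hK : IsPGroup p K)
    (hd : charDegree (χ : G → ℂ) + 1 = Nat.card P) (h3 : 3 ≤ Nat.card P) :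
    K = P ∨ (p = 2 ∧ Nat.card K = 2 * Nat.card P ∧ ∀ m : IrrCharacter K → ℕ,
      ∑ h : K, Complex.normSq ((χ : G → ℂ) h) = (Nat.card K : ℝ) * ∑ θ, (m θ : ℝ) ^ 2 →
        Nat.card P = 2 * ∑ θ, m θ ^ 2) := by
  obtain ⟨m, -, hsum, -⟩ := norm_sum χ K
  have heq := pgroup_eq χ hS K hK hsum
  set d := charDegree (χ : G → ℂ)
  obtain ⟨b, hb⟩ := IsPGroup.iff_card.mp (hK.to_le hPK)
  obtain ⟨c, hc⟩ := IsPGroup.iff_card.mp hK
  have hbc : b ≤ c :=
    (Nat.pow_dvd_pow_iff_le_right hp.out.two_le).mp (hb ▸ hc ▸ Subgroup.card_dvd_of_le hPK)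
  obtain ⟨a, rfl⟩ := Nat.exists_eq_add_of_le hbc
  have hb0 : b ≠ 0 := fun h => by rw [h, pow_zero] at hb; omega
  rcases Nat.eq_zero_or_pos a with rfl | ha
  · exact Or.inl (Subgroup.eq_of_le_of_card_ge hPK (by rw [hb, hc]; simp)).symm
  right
  have key : ∀ S : ℕ, d ^ 2 + Nat.card K = Nat.card K * S + 1 →
      Nat.card P + p ^ a = p ^ a * S + 2 := by
    intro S hS'
    rw [hc, pow_add, ← hb] at hS'
    refine Nat.eq_of_mul_eq_mul_left (show 0 < Nat.card P by omega) ?_
    nlinarith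
  have h1 := key _ heq
  have hp2 : p = 2 := by
    have hdvd : p ∣ p ^ a * (∑ θ, m θ ^ 2) + 2 := by
      rw [← h1, hb]
      exact dvd_add (dvd_pow_self p hb0) (dvd_pow_self p ha.ne')
    exact (Nat.prime_dvd_prime_iff_eq hp.out Nat.prime_two).mp
      ((Nat.dvd_add_right ((dvd_pow_self p ha.ne').mul_right _)).mp hdvd)
  subst hp2
  have hb2 : 2 ≤ b := by
    by_contra h
    have : b = 1 := by omega
    rw [this, pow_one] at hb
    omega
  have ha1 : a = 1 := by
    by_contra h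
    have hdvd : 4 ∣ 2 ^ a * (∑ θ, m θ ^ 2) + 2 := by
      rw [← h1, hb]
      exact dvd_add (pow_dvd_pow 2 hb2) (pow_dvd_pow 2 (show 2 ≤ a by omega))
    have h4 : 4 ∣ 2 ^ a * (∑ θ, m θ ^ 2) := (pow_dvd_pow 2 (show 2 ≤ a by omega)).mul_right _
    have := (Nat.dvd_add_right h4).mp hdvd
    norm_num at this
  subst ha1
  refine ⟨rfl, by rw [hc, hb, pow_succ, mul_comm], fun m' hm' => ?_⟩
  have := key _ (pgroup_eq χ hS K hK hm')
  omega

theorem centralizer_core {p : ℕ} [hp : Fact p.Prime] (χ : IrrCharacter G) (hS : Hyp p χ)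
    (hfaith : ∀ g : G, (χ : G → ℂ) g = (χ : G → ℂ) 1 → g = 1) (P : Subgroup G) [P.Normal]
    (hP : IsPGroup p P) (hab : IsMulCommutative P)
    (hd : charDegree (χ : G → ℂ) + 1 = Nat.card P) (h3 : 3 ≤ Nat.card P)
    {c : G} (hc : c ∈ Subgroup.centralizer (P : Set G)) : c ∈ P ⊔ Subgroup.center G := by
  classical
  haveI := Fintype.ofFinite G
  haveI := Fintype.ofFinite P
  have hcomK : ∀ x ∈ Subgroup.centralizer (P : Set G),
      IsMulCommutative (P ⊔ Subgroup.zpowers x : Subgroup G) := by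
    intro x hx
    rw [show P ⊔ Subgroup.zpowers x = Subgroup.closure ((P : Set G) ∪ {x}) by
      rw [Subgroup.closure_union, Subgroup.closure_eq, Subgroup.zpowers_eq_closure]]
    refine Subgroup.isMulCommutative_closure fun a ha b hb => ?_
    rcases ha with ha | rfl <;> rcases hb with hb | rfl
    · exact congrArg Subtype.val (isMulCommutative_iff.mp hab ⟨a, ha⟩ ⟨b, hb⟩)
    · exact Subgroup.mem_centralizer_iff.mp hx a ha
    · exact (Subgroup.mem_centralizer_iff.mp hx b hb).symm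
    · rfl
  -- degrees one on an abelian subgroup
  have hlow : ∀ (K : Subgroup G) [Fintype K] (m : IrrCharacter K → ℕ), IsMulCommutative K →
      charDegree (χ : G → ℂ) = ∑ θ, m θ * charDegree (θ : K → ℂ) →
      charDegree (χ : G → ℂ) ≤ ∑ θ, m θ ^ 2 := by
    intro K _ m hK hdeg
    rw [hdeg]
    refine Finset.sum_le_sum fun θ _ => ?_
    rw [LinearTwist.charDegree_eq_of_apply_one (χ := (θ : K → ℂ)) (n := 1)
      (by haveI := hK; rw [CharIto.degree_one_of_comm θ.2, Nat.cast_one]), mul_one, sq]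
    exact Nat.le_mul_self (m θ)
  have hpelem : ∀ x ∈ Subgroup.centralizer (P : Set G), (∃ k, orderOf x = p ^ k) → x ∈ P := by
    intro x hx ⟨k, hk⟩
    set K := P ⊔ Subgroup.zpowers x with hKdef
    haveI := Fintype.ofFinite K
    have hKp : IsPGroup p K :=
      hP.to_sup_of_normal_left (IsPGroup.of_card (n := k) (by rw [Nat.card_zpowers, hk]))
    rcases over_core χ hS P K le_sup_left hKp hd h3 with h | ⟨-, -, h⟩
    · exact h ▸ (le_sup_right : Subgroup.zpowers x ≤ K) (Subgroup.mem_zpowers x)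
    · exfalso
      obtain ⟨m, -, hsum, hdeg⟩ := norm_sum χ K
      have h1 := h m hsum
      have h2 := hlow K m (hcomK x hx) hdeg
      omega
  have hcentral : ∀ x ∈ Subgroup.centralizer (P : Set G), ¬ p ∣ orderOf x →
      x ∈ Subgroup.center G := by
    intro x hx hxo
    refine mem_center_of_norm χ hfaith ?_
    by_contra hne
    set K := P ⊔ Subgroup.zpowers x with hKdef
    haveI := Fintype.ofFinite K
    haveI := Fintype.ofFinite (Subgroup.zpowers x)
    obtain ⟨m, -, hsum, hdeg⟩ := norm_sum χ K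
    have hb2 := hlow K m (hcomK x hx) hdeg
    have hcopc : (Nat.card P).Coprime (Nat.card (Subgroup.zpowers x)) := by
      obtain ⟨i, hi⟩ := IsPGroup.iff_card.mp hP
      rw [hi, Nat.card_zpowers]
      exact (hp.out.coprime_iff_not_dvd.mpr hxo).pow_left i
    have hinf : P ⊓ Subgroup.zpowers x = ⊥ := Subgroup.inf_eq_bot_of_coprime hcopc
    let f : Subgroup.zpowers x × P → K := fun t => ⟨(t.2 : G) * t.1,
      K.mul_mem ((le_sup_left : P ≤ K) t.2.2) ((le_sup_right : Subgroup.zpowers x ≤ K) t.1.2)⟩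
    have hf : Function.Bijective f := by
      refine ⟨fun s t hst => ?_, fun k => ?_⟩
      · have e : (s.2 : G) * s.1 = (t.2 : G) * t.1 := congrArg Subtype.val hst
        have h1 : (t.2 : G)⁻¹ * s.2 ∈ P ⊓ Subgroup.zpowers x := by
          refine ⟨P.mul_mem (P.inv_mem t.2.2) s.2.2, ?_⟩
          rw [show (t.2 : G)⁻¹ * s.2 = (t.1 : G) * (s.1 : G)⁻¹ by
            rw [eq_mul_inv_iff_mul_eq, mul_assoc, e, inv_mul_cancel_left]]
          exact (Subgroup.zpowers x).mul_mem t.1.2 ((Subgroup.zpowers x).inv_mem s.1.2)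
        rw [hinf, Subgroup.mem_bot, inv_mul_eq_one] at h1
        exact Prod.ext (Subtype.ext (mul_left_cancel (a := (s.2 : G)) (by rw [e, h1])))
          (Subtype.ext h1.symm)
      · obtain ⟨u, hu, z, hz, huz⟩ := Subgroup.mem_sup_of_normal_left.mp k.2
        exact ⟨(⟨z, hz⟩, ⟨u, hu⟩), Subtype.ext huz⟩
    have hterm : ∀ z : Subgroup.zpowers x, ∑ u : P, Complex.normSq ((χ : G → ℂ) ((u : G) * z)) =
        Complex.normSq ((χ : G → ℂ) z) + ((Nat.card P : ℝ) - 1) := by
      intro z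
      rw [← Finset.add_sum_erase Finset.univ _ (Finset.mem_univ (1 : P))]
      congr 1
      · rw [Subgroup.coe_one, one_mul]
      · have h1 : ∀ u ∈ Finset.univ.erase (1 : P),
            Complex.normSq ((χ : G → ℂ) ((u : G) * z)) = 1 := fun u hu => hS _ ?_
        rw [Finset.sum_congr rfl h1, Finset.sum_const, nsmul_one,
          Finset.card_erase_of_mem (Finset.mem_univ _), Finset.card_univ,
          ← Nat.card_eq_fintype_card,
          Nat.cast_sub (Nat.one_le_iff_ne_zero.mpr Nat.card_pos.ne'), Nat.cast_one]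
        have hu1 : (u : G) ≠ 1 := fun e => (Finset.ne_of_mem_erase hu) (Subtype.ext e)
        have hcz : Commute (u : G) (z : G) := by
          obtain ⟨i, hi⟩ := Subgroup.mem_zpowers_iff.mp z.2
          rw [← hi]
          exact (show Commute (u : G) x from
            Subgroup.mem_centralizer_iff.mp hx u u.2).zpow_right i
        rw [hcz.orderOf_mul_eq_mul_orderOf_of_coprime ((hcopc.coprime_dvd_left
          (Subgroup.orderOf_dvd_natCard P u.2)).coprime_dvd_right
          (Subgroup.orderOf_dvd_natCard _ z.2))]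
        exact (dvd_orderOf_of_pgroup hP u.2 hu1).mul_right _
    have htot : ∑ k : K, Complex.normSq ((χ : G → ℂ) k) =
        (∑ z : Subgroup.zpowers x, Complex.normSq ((χ : G → ℂ) z)) +
          (Nat.card (Subgroup.zpowers x) : ℝ) * ((Nat.card P : ℝ) - 1) := by
      rw [← (Equiv.ofBijective f hf).sum_comp, Fintype.sum_prod_type]
      simp only [Equiv.ofBijective_apply, f]
      rw [Finset.sum_congr rfl fun z _ => hterm z, Finset.sum_add_distrib, Finset.sum_const,
        Finset.card_univ, ← Nat.card_eq_fintype_card, nsmul_eq_mul]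
    have hle : ∀ g : G, Complex.normSq ((χ : G → ℂ) g) ≤ (charDegree (χ : G → ℂ) : ℝ) ^ 2 := by
      intro g
      have hb := norm_le_degree_of_isCharacter (irr_isCharacter χ) g
      rw [(degree_eq χ).1, Complex.norm_natCast] at hb
      rw [Complex.normSq_eq_norm_sq]
      exact pow_le_pow_left₀ (norm_nonneg _) hb 2
    have hlt : Complex.normSq ((χ : G → ℂ) x) < (charDegree (χ : G → ℂ) : ℝ) ^ 2 := by
      refine lt_of_le_of_ne (hle x) fun e => hne ?_
      rw [Complex.normSq_eq_norm_sq] at e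
      rw [(degree_eq χ).1, Complex.norm_natCast]
      exact (pow_left_inj₀ (norm_nonneg _) (Nat.cast_nonneg _) two_ne_zero).mp e
    have hstrict : ∑ z : Subgroup.zpowers x, Complex.normSq ((χ : G → ℂ) z) <
        ∑ _z : Subgroup.zpowers x, (charDegree (χ : G → ℂ) : ℝ) ^ 2 :=
      Finset.sum_lt_sum (fun z _ => hle _) ⟨⟨x, Subgroup.mem_zpowers x⟩, Finset.mem_univ _, hlt⟩
    rw [Finset.sum_const, Finset.card_univ, ← Nat.card_eq_fintype_card, nsmul_eq_mul] at hstrict
    have hKcard : (Nat.card K : ℝ) = (Nat.card (Subgroup.zpowers x) : ℝ) * (Nat.card P : ℝ) := by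
      rw [← Nat.card_eq_of_bijective f hf, Nat.card_prod, Nat.cast_mul]
    have hdR : (charDegree (χ : G → ℂ) : ℝ) + 1 = (Nat.card P : ℝ) := by exact_mod_cast hd
    have hb2R : (charDegree (χ : G → ℂ) : ℝ) ≤ ∑ θ, (m θ : ℝ) ^ 2 := by exact_mod_cast hb2
    rw [htot, hKcard] at hsum
    have hzpos : (0 : ℝ) ≤ (Nat.card (Subgroup.zpowers x) : ℝ) * (Nat.card P : ℝ) := by positivity
    have h2 := mul_le_mul_of_nonneg_left hb2R hzpos
    rw [← hdR] at hsum h2
    linarith [h2, hsum, hstrict]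
  -- split `c` into its `p`-part and its `p'`-part
  set o := orderOf c
  have ho : o ≠ 0 := (orderOf_pos c).ne'
  set A := p ^ o.factorization p
  set B := ordCompl[p] o
  have hAB : A * B = o := Nat.ordProj_mul_ordCompl_eq_self _ _
  have hcop : IsCoprime (A : ℤ) (B : ℤ) :=
    Nat.isCoprime_iff_coprime.mpr ((Nat.coprime_ordCompl hp.out ho).pow_left _)
  obtain ⟨s, t, hst⟩ := hcop
  have hdec : c = c ^ (t * (B : ℤ)) * c ^ (s * (A : ℤ)) := by
    rw [← zpow_add, add_comm, hst, zpow_one]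
  rw [hdec]
  have hmem : ∀ i : ℤ, c ^ i ∈ Subgroup.centralizer (P : Set G) := fun i =>
    Subgroup.zpow_mem _ hc i
  have hz : ∀ (i : ℤ) (N M : ℕ), N * M = o → orderOf (c ^ (i * (M : ℤ))) ∣ N := by
    intro i N M h
    refine orderOf_dvd_of_pow_eq_one ?_
    rw [← zpow_natCast, ← zpow_mul, show i * (M : ℤ) * (N : ℤ) = ((N * M : ℕ) : ℤ) * i by
      push_cast; ring, h, zpow_mul, zpow_natCast, pow_orderOf_eq_one, one_zpow]
  refine Subgroup.mul_mem_sup (hpelem _ (hmem _) ?_) (hcentral _ (hmem _) ?_)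
  · obtain ⟨k, -, hk⟩ := (Nat.dvd_prime_pow hp.out).mp (hz t A B hAB)
    exact ⟨k, hk⟩
  · exact fun h => (hp.out.coprime_iff_not_dvd.mp (Nat.coprime_ordCompl hp.out ho))
      (h.trans (hz s B A (by rw [mul_comm, hAB])))

/-- The nonprincipal linear characters are conjugate. -/
theorem transitive (χ : IrrCharacter G) (P : Subgroup G) [P.Normal] [Fintype P]
    (hm : ∀ θ : IrrCharacter P, θ ≠ principalIrr P → mult P (χ : G → ℂ) θ = 1)
    {lam mu : P → ℂ} (hl : IsCharacter P lam) (hl1 : lam 1 = 1) (hlne : lam ≠ fun _ => (1 : ℂ))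
    (hu : IsCharacter P mu) (hu1 : mu 1 = 1) (hune : mu ≠ fun _ => (1 : ℂ)) :
    ∃ g : G, ∀ (x : G) (hx : x ∈ P) (hgx : g * x * g⁻¹ ∈ P),
      mu ⟨x, hx⟩ = lam ⟨g * x * g⁻¹, hgx⟩ := by
  let L : IrrCharacter P := linearIrr (CharIto.linearHom hl hl1)
  let M : IrrCharacter P := linearIrr (CharIto.linearHom hu hu1)
  have hLv : ∀ v, (L : P → ℂ) v = lam v := fun v => rfl
  have hMv : ∀ v, (M : P → ℂ) v = mu v := fun v => rfl
  have hL : L ≠ principalIrr P := fun e => hlne (funext fun v => by rw [← hLv, e]; rfl)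
  have hM : M ≠ principalIrr P := fun e => hune (funext fun v => by rw [← hMv, e]; rfl)
  obtain ⟨y, hy⟩ := exists_conj_of_constituents P χ (θ := L) (η := M)
    (by rw [hm L hL]; exact one_ne_zero) (by rw [hm M hM]; exact one_ne_zero)
  refine ⟨y⁻¹, fun x hx hgx => ?_⟩
  rw [← hMv, ← hy, twist_apply_eq, hLv]
  exact congrArg lam (Subtype.ext (by simp))

/-- The core has exponent `p`. -/
theorem exponent_core {p : ℕ} [hp : Fact p.Prime] (χ : IrrCharacter G)
    (hfaith : ∀ g : G, (χ : G → ℂ) g = (χ : G → ℂ) 1 → g = 1) (P : Subgroup G) [P.Normal]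
    [Fintype P] (hP : IsPGroup p P) (hab : IsMulCommutative P) (h3 : 3 ≤ Nat.card P)
    (hm : ∀ θ : IrrCharacter P, θ ≠ principalIrr P → mult P (χ : G → ℂ) θ = 1) :
    ∀ u ∈ P, u ^ p = 1 := by
  have hc : ∀ a b : P, a * b = b * a := isMulCommutative_iff.mp hab
  let pw : P →* P := MonoidHom.mk' (fun v => v ^ p) fun a b => (show Commute a b from hc a b).mul_pow p
  obtain ⟨i, hi⟩ := IsPGroup.iff_card.mp hP
  have hpn : p ∣ Nat.card P := by
    rw [hi]; exact dvd_pow_self p (fun h => by rw [hi, h, pow_zero] at h3; omega)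
  obtain ⟨w, hw⟩ := exists_prime_orderOf_dvd_card' p hpn
  have hsurj : pw.range ≠ ⊤ := by
    intro h
    have hinj : Function.Injective pw :=
      Finite.injective_iff_surjective.mpr (MonoidHom.range_eq_top.mp h)
    have h1 : pw w = pw 1 := by
      show w ^ p = 1 ^ p
      rw [one_pow, ← hw, pow_orderOf_eq_one]
    rw [hinj h1, orderOf_one] at hw
    exact hp.out.one_lt.ne hw
  haveI : pw.range.Normal :=
    ⟨fun n hn g => by rwa [hc g n, mul_inv_cancel_right]⟩
  obtain ⟨t, ht⟩ : ∃ t : P, t ∉ pw.range := by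
    by_contra h; push Not at h
    exact hsurj (eq_top_iff.mpr fun t _ => h t)
  have hbot : commutator (P ⧸ pw.range) = ⊥ := by
    rw [eq_bot_iff, commutator_def, Subgroup.commutator_le]
    intro a _ b _
    obtain ⟨a, rfl⟩ := QuotientGroup.mk'_surjective pw.range a
    obtain ⟨b, rfl⟩ := QuotientGroup.mk'_surjective pw.range b
    rw [Subgroup.mem_bot, commutatorElement_eq_one_iff_mul_comm, ← map_mul, ← map_mul, hc a b]
  obtain ⟨f, hf⟩ := Cfsg.Agent.S4762.exists_hom_ne_one (G := P ⧸ pw.range)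
    (g := (t : P ⧸ pw.range))
    (by rw [hbot, Subgroup.mem_bot, QuotientGroup.eq_one_iff]; exact ht)
  set μ : P →* ℂˣ := f.comp (QuotientGroup.mk' pw.range)
  have hμ : linearIrr μ ≠ principalIrr P := fun e =>
    hf (Units.ext (congrFun (congrArg Subtype.val e) t))
  have hkill : ∀ (v : P) (θ : IrrCharacter P), (θ : P → ℂ) (v ^ p) = (θ : P → ℂ) 1 := by
    intro v θ
    by_cases hθ : θ = principalIrr P
    · subst hθ; rfl
    · obtain ⟨y, rfl⟩ := exists_conj_of_constituents P χ (θ := linearIrr μ) (η := θ)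
        (by rw [hm _ hμ]; exact one_ne_zero) (by rw [hm θ hθ]; exact one_ne_zero)
      rw [twistIrr_apply, twistIrr_apply, map_pow, map_one]
      show (μ _ : ℂ) = (μ 1 : ℂ)
      have h1 : ∀ a : P, μ (a ^ p) = 1 := fun a => by
        show f ((a ^ p : P) : P ⧸ pw.range) = 1
        rw [(QuotientGroup.eq_one_iff (a ^ p)).mpr (MonoidHom.mem_range.mpr ⟨a, rfl⟩), map_one]
      rw [h1, map_one μ]
  intro u hu
  refine hfaith _ ?_
  have h := res_eq_sum P (irr_isClassFunction χ) ((⟨u, hu⟩ : P) ^ p)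
  rw [Subgroup.coe_pow] at h
  rw [h, Finset.sum_congr rfl fun θ _ => by rw [hkill ⟨u, hu⟩ θ],
    ← res_eq_sum P (irr_isClassFunction χ) 1, Subgroup.coe_one]

/-- The case of a core which is not Sylow has order four. -/
theorem two_core (χ : IrrCharacter G) (P S : Subgroup G) [P.Normal] [Fintype P] [Fintype S]
    (hPS : P ≤ S) (hab : IsMulCommutative P) (hex : ∀ u ∈ P, u ^ 2 = 1)
    (hd : charDegree (χ : G → ℂ) + 1 = Nat.card P)
    (hm0 : mult P (χ : G → ℂ) (principalIrr P) = 0)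
    (hm : ∀ θ : IrrCharacter P, θ ≠ principalIrr P → mult P (χ : G → ℂ) θ = 1)
    (hcard : Nat.card S = 2 * Nat.card P)
    (hsq : ∀ m : IrrCharacter S → ℕ,
      ∑ h : S, Complex.normSq ((χ : G → ℂ) h) = (Nat.card S : ℝ) * ∑ θ, (m θ : ℝ) ^ 2 →
        Nat.card P = 2 * ∑ θ, m θ ^ 2)
    {g : G} (hgS : g ∈ S) (hgP : g ∉ P) : Nat.card P ≤ 4 := by
  classical
  haveI := Fintype.ofFinite G
  have hc : ∀ a b : P, a * b = b * a := isMulCommutative_iff.mp hab
  have hex' : ∀ a : P, a * a = 1 := fun a => Subtype.ext (by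
    rw [Subgroup.coe_mul, Subgroup.coe_one, ← sq]; exact hex a a.2)
  have hinv : ∀ a : P, a⁻¹ = a := fun a => inv_eq_of_mul_eq_one_right (hex' a)
  set gS : S := ⟨g, hgS⟩
  set ι : P →* S := Subgroup.inclusion hPS
  have hidx : (P.subgroupOf S).index = 2 := by
    have h := (P.subgroupOf S).index_mul_card
    rw [Nat.card_congr (Subgroup.subgroupOfEquivOfLe hPS).toEquiv, hcard] at h
    exact Nat.eq_of_mul_eq_mul_right Nat.card_pos h
  have hcases : ∀ a : S, (∃ v : P, a = ι v) ∨ ∃ v : P, a = gS * ι v := by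
    intro a
    by_cases ha : (a : G) ∈ P
    · exact Or.inl ⟨⟨a, ha⟩, rfl⟩
    · refine Or.inr ⟨⟨g⁻¹ * a, ?_⟩, Subtype.ext (show (a : G) = g * (g⁻¹ * a) by group)⟩
      exact (Subgroup.mul_mem_iff_of_index_two hidx (a := gS⁻¹) (b := a)).mpr
        ⟨fun h => absurd (P.inv_mem_iff.mp h) hgP, fun h => absurd h ha⟩
  have hg2 : g * g ∈ P :=
    (Subgroup.mul_mem_iff_of_index_two hidx (a := gS) (b := gS)).mpr Iff.rfl
  set cj : P ≃* P := MulAut.conjNormal g
  have hcjι : ∀ v : P, ι (cj v) = gS * ι v * gS⁻¹ := fun v =>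
    Subtype.ext (MulAut.conjNormal_apply g v)
  have hcj2 : ∀ v : P, cj (cj v) = v := fun v => by
    apply Subtype.ext
    rw [MulAut.conjNormal_apply, MulAut.conjNormal_apply,
      show g * (g * (v : G) * g⁻¹) * g⁻¹ = (g * g) * v * (g * g)⁻¹ by group,
      show (g * g) * (v : G) = v * (g * g) from congrArg Subtype.val (hc ⟨g * g, hg2⟩ v),
      mul_inv_cancel_right]
  let φ : P →* P := MonoidHom.mk' (fun v => v * cj v) fun a b => by
    rw [map_mul, mul_assoc, ← mul_assoc b, hc b (cj a), mul_assoc, ← mul_assoc]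
  have hfix : ∀ v, cj (φ v) = φ v := fun v => by
    show cj (v * cj v) = v * cj v
    rw [map_mul, hcj2, hc]
  have hker : φ.range ≤ φ.ker := by
    rintro _ ⟨v, rfl⟩
    show φ v * cj (φ v) = 1
    rw [hfix, hex']
  have hprod : Nat.card φ.ker * Nat.card φ.range = Nat.card P := by
    rw [← Subgroup.index_ker, Subgroup.card_mul_index]
  have hIC := Subgroup.card_le_of_le hker
  set N : Subgroup S := φ.range.map ι
  have hNcard : Nat.card N = Nat.card φ.range :=
    Subgroup.card_map_of_injective (Subgroup.inclusion_injective hPS)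
  have hcent : ∀ v a : P, ι a * ι (φ v) * (ι a)⁻¹ = ι (φ v) := fun v a => by
    rw [← map_mul, hc, map_mul, mul_inv_cancel_right]
  haveI : N.Normal := by
    refine ⟨fun n hn s => ?_⟩
    obtain ⟨w, ⟨v, rfl⟩, rfl⟩ := hn
    suffices h : s * ι (φ v) * s⁻¹ = ι (φ v) by rw [h]; exact ⟨φ v, ⟨v, rfl⟩, rfl⟩
    rcases hcases s with ⟨a, rfl⟩ | ⟨a, rfl⟩
    · exact hcent v a
    · rw [show gS * ι a * ι (φ v) * (gS * ι a)⁻¹ = gS * (ι a * ι (φ v) * (ι a)⁻¹) * gS⁻¹ by group,
        hcent, ← hcjι, hfix]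
  haveI := Fintype.ofFinite N
  have hquot : ∀ a b : S, a * b * (b * a)⁻¹ ∈ N := by
    have hgv : ∀ v : P, Commute ((ι v : S) : S ⧸ N) (gS : S ⧸ N) := fun v => by
      refine (QuotientGroup.eq (s := N)).mpr ?_
      have h : (ι v * gS)⁻¹ * (gS * ι v) = ι (φ (cj v)) := by
        rw [show φ (cj v) = cj v * cj (cj v) from rfl, hcj2, map_mul, hcjι,
          show (ι v * gS)⁻¹ * (gS * ι v) = gS⁻¹ * (ι v)⁻¹ * gS * ι v by group,
          show (ι v)⁻¹ = ι v by rw [← map_inv, hinv]]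
        have hgg : gS⁻¹ = gS * (gS * gS)⁻¹ := by group
        have hggc : ∀ x : P, (gS * gS)⁻¹ * ι x = ι x * (gS * gS)⁻¹ := fun x => by
          rw [show gS * gS = ι ⟨g * g, hg2⟩ from rfl, ← map_inv, ← map_mul, ← map_mul, hc]
        calc gS⁻¹ * ι v * gS * ι v = gS * ((gS * gS)⁻¹ * ι v) * gS * ι v := by group
          _ = gS * ι v * gS⁻¹ * ι v := by rw [hggc]; group
      rw [show ((ι v : S) * gS)⁻¹ * (gS * ι v) = _ from h]
      exact ⟨_, ⟨_, rfl⟩, rfl⟩
    have hvv : ∀ v w : P, Commute ((ι v : S) : S ⧸ N) ((ι w : S) : S ⧸ N) := fun v w => by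
      show ((ι v * ι w : S) : S ⧸ N) = ((ι w * ι v : S) : S ⧸ N)
      rw [← map_mul, hc, map_mul]
    intro a b
    rw [← QuotientGroup.eq_one_iff, QuotientGroup.mk_mul, QuotientGroup.mk_inv,
      QuotientGroup.mk_mul, QuotientGroup.mk_mul, mul_inv_eq_one]
    rcases hcases a with ⟨v, rfl⟩ | ⟨v, rfl⟩ <;> rcases hcases b with ⟨w, rfl⟩ | ⟨w, rfl⟩
    · exact hvv v w
    · exact ((hgv v).mul_right (hvv v w) : Commute _ ((gS : S ⧸ N) * (ι w : S)))
    · exact ((hgv w).symm.mul_left (hvv v w) : Commute ((gS : S ⧸ N) * (ι v : S)) _)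
    · exact (((Commute.refl _).mul_right (hgv w).symm).mul_left ((hgv v).mul_right (hvv v w)) :
        Commute ((gS : S ⧸ N) * (ι v : S)) ((gS : S ⧸ N) * (ι w : S)))
  have hnorm : ∀ θ : IrrCharacter S, (∑ n : N, (θ : S → ℂ) n) =
      (if charDegree (θ : S → ℂ) = 1 then (Nat.card N : ℂ) else 0) := by
    intro θ
    split_ifs with hθ
    · obtain ⟨f, hf⟩ := exists_linearIrr_eq θ (by rw [(degree_eq θ).1, hθ, Nat.cast_one])
      rw [← hf, Finset.sum_eq_card_nsmul (b := 1), Finset.card_univ, ← Nat.card_eq_fintype_card,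
        nsmul_one]
      intro n _
      obtain ⟨w, ⟨v, rfl⟩, hn⟩ := n.2
      show (f (n : S) : ℂ) = 1
      rw [← hn, show φ v = v * cj v from rfl, map_mul, hcjι, map_mul, map_mul, map_mul,
        map_inv, mul_inv_cancel_comm, ← map_mul, ← map_mul, hex', map_one, map_one, Units.val_one]
    · obtain ⟨x, hx, hne⟩ : ∃ x ∈ N, (θ : S → ℂ) x ≠ (θ : S → ℂ) 1 := by
        by_contra h; push Not at h
        refine hθ ?_
        have h1 := CharMonomial.degree_one_of_commutator θ.2 fun a b => h _ (hquot a b)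
        rw [(degree_eq θ).1] at h1
        exact_mod_cast h1
      simpa using Cfsg.Agent.S4763.sum_coset_eq_zero θ hx hne 1
  have hdeg2 : ∀ θ : IrrCharacter S, charDegree (θ : S → ℂ) = 1 ∨ charDegree (θ : S → ℂ) = 2 := by
    intro θ
    haveI := Subgroup.normal_of_index_eq_two hidx
    obtain ⟨e, he, hdvd⟩ := CharIto.degree_dvd_index_of_abelian_normal θ.2 (P.subgroupOf S)
      inferInstance fun a ha b hb =>
        Subtype.ext (congrArg Subtype.val (hc ⟨a, ha⟩ ⟨b, hb⟩) :)
    rw [LinearTwist.charDegree_eq_of_apply_one he]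
    rw [hidx] at hdvd
    exact (Nat.dvd_prime Nat.prime_two).mp hdvd
  -- the values on the core
  have hval : ∀ v : P, v ≠ 1 → (χ : G → ℂ) v = -1 := by
    intro v hv
    have h0 := sum_degree_mul_irr (G := P) v
    have h1 : ∀ θ : IrrCharacter P, (θ : P → ℂ) 1 * (θ : P → ℂ) v = (θ : P → ℂ) v := fun θ => by
      haveI := hab; rw [CharIto.degree_one_of_comm θ.2, one_mul]
    rw [if_neg hv, Finset.sum_congr rfl fun θ _ => h1 θ,
      ← Finset.add_sum_erase Finset.univ _ (Finset.mem_univ (principalIrr P)),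
      principalIrr_apply] at h0
    rw [res_eq_sum P (irr_isClassFunction χ) v,
      ← Finset.add_sum_erase Finset.univ _ (Finset.mem_univ (principalIrr P)), hm0, zero_mul,
      zero_add]
    rw [Finset.sum_congr rfl fun θ hθ => show mult P (χ : G → ℂ) θ * (θ : P → ℂ) v = (θ : P → ℂ) v by
      rw [hm θ (Finset.ne_of_mem_erase hθ), one_mul]]
    exact eq_neg_of_add_eq_zero_right h0
  obtain ⟨m, hmS, hsum, hdeg⟩ := norm_sum χ S
  have hsq' := hsq m hsum
  set f := ∑ θ : IrrCharacter S, if charDegree (θ : S → ℂ) = 1 then m θ else 0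
  have hE1 : ∑ n : N, (χ : G → ℂ) ((n : S) : G) = (Nat.card N : ℂ) * (f : ℂ) := by
    have h1 : ∀ n : N, (χ : G → ℂ) ((n : S) : G) =
        ∑ θ : IrrCharacter S, mult S (χ : G → ℂ) θ * (θ : S → ℂ) (n : S) := fun n =>
      res_eq_sum S (irr_isClassFunction χ) (n : S)
    rw [Finset.sum_congr rfl fun n _ => h1 n, Finset.sum_comm]
    simp only [f, Nat.cast_sum, Finset.mul_sum]
    refine Finset.sum_congr rfl fun θ _ => ?_
    rw [← Finset.mul_sum, hnorm θ, hmS θ]
    split_ifs <;> simp [mul_comm]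
  have hE2 : ∑ n : N, (χ : G → ℂ) ((n : S) : G) =
      (charDegree (χ : G → ℂ) : ℂ) - ((Nat.card N : ℂ) - 1) := by
    have h1 : ∀ n ∈ Finset.univ.erase (1 : N), (χ : G → ℂ) ((n : S) : G) = -1 := by
      intro n hn
      obtain ⟨w, -, hw⟩ := n.2
      rw [← hw]
      refine hval w fun e => (Finset.ne_of_mem_erase hn) (Subtype.ext ?_)
      rw [← hw, e, map_one]; rfl
    rw [← Finset.add_sum_erase Finset.univ _ (Finset.mem_univ (1 : N)),
      Finset.sum_congr rfl h1, Finset.sum_const, Finset.card_erase_of_mem (Finset.mem_univ _),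
      Finset.card_univ, ← Nat.card_eq_fintype_card, Subgroup.coe_one, Subgroup.coe_one,
      (degree_eq χ).1, nsmul_eq_mul, Nat.cast_sub (Nat.one_le_iff_ne_zero.mpr Nat.card_pos.ne'),
      Nat.cast_one]
    ring
  rw [hE1] at hE2
  have hC : Nat.card N * (f + 1) = Nat.card P := by
    rw [← hd]
    have : ((Nat.card N * (f + 1) : ℕ) : ℂ) = ((charDegree (χ : G → ℂ) + 1 : ℕ) : ℂ) := by
      push_cast
      linear_combination hE2
    exact_mod_cast this
  have hf1 : f ≤ 1 := by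
    have h : charDegree (χ : G → ℂ) + f ≤ 2 * ∑ θ, m θ ^ 2 := by
      rw [hdeg, ← Finset.sum_add_distrib, Finset.mul_sum]
      refine Finset.sum_le_sum fun θ _ => ?_
      rcases hdeg2 θ with h | h <;> simp [h] <;> nlinarith [Nat.le_mul_self (m θ)]
    omega
  rw [hNcard] at hC
  have hker2 : Nat.card φ.ker = f + 1 := by
    rw [← hC, mul_comm] at hprod
    exact Nat.eq_of_mul_eq_mul_left Nat.card_pos hprod
  rw [← hprod]
  exact (Nat.mul_le_mul (show Nat.card φ.ker ≤ 2 by omega) (show Nat.card φ.range ≤ 2 by omega))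

/-- A normal fours group gives an action on three points. -/
theorem exists_three (P : Subgroup G) [P.Normal] (h4 : Nat.card P = 4) :
    ∃ Φ : G →* Equiv.Perm (Fin 3),
      (∀ g, Φ g = 1 ↔ g ∈ Subgroup.centralizer (P : Set G)) ∧
      ∀ g, ∀ u ∈ P, u ≠ 1 → g * u * g⁻¹ = u → ∃ i, Φ g i = i := by
  classical
  haveI := Fintype.ofFinite P
  have h3 : Nat.card {u : P // u ≠ 1} = 3 := by
    rw [Nat.card_eq_fintype_card, Fintype.card_subtype_compl, Fintype.card_subtype_eq,
      ← Nat.card_eq_fintype_card, h4]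
  let e := Finite.equivFinOfCardEq h3
  let act : G → Equiv.Perm {u : P // u ≠ 1} := fun g =>
    (MulAut.conjNormal g : P ≃* P).toEquiv.subtypeEquiv fun a =>
      (map_ne_one_iff (MulAut.conjNormal g : P ≃* P) (MulEquiv.injective _)).symm
  have hact : ∀ g u, (((act g u).1 : P) : G) = g * (u.1 : G) * g⁻¹ := fun g u =>
    MulAut.conjNormal_apply g u.1
  let Φ : G →* Equiv.Perm (Fin 3) := MonoidHom.mk' (fun g => e.permCongr (act g)) fun a b => by
    apply Equiv.ext; intro i
    simp only [Equiv.Perm.mul_apply, Equiv.permCongr_apply, Equiv.symm_apply_apply]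
    exact congrArg e (Subtype.ext (Subtype.ext (by rw [hact, hact, hact]; group)))
  have hΦ : ∀ g i, Φ g i = e (act g (e.symm i)) := fun g i => rfl
  refine ⟨Φ, fun g => ⟨fun h => ?_, fun h => ?_⟩, fun g u hu hu1 hgu => ?_⟩
  · rw [Subgroup.mem_centralizer_iff]
    intro u hu
    by_cases hu1 : u = 1
    · rw [hu1, one_mul, mul_one]
    · let v : {u : P // u ≠ 1} := ⟨⟨u, hu⟩, fun e => hu1 (congrArg Subtype.val e)⟩
      have h1 := Equiv.congr_fun h (e v)
      rw [hΦ, Equiv.symm_apply_apply, Equiv.Perm.one_apply, e.apply_eq_iff_eq] at h1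
      have h2 : g * u * g⁻¹ = u := (hact g v).symm.trans (by rw [h1])
      exact (mul_inv_eq_iff_eq_mul.mp h2).symm
  · apply Equiv.ext; intro i
    rw [hΦ, Equiv.Perm.one_apply, show act g (e.symm i) = e.symm i from Subtype.ext (Subtype.ext
      (by rw [hact, ← Subgroup.mem_centralizer_iff.mp h _ (e.symm i).1.2, mul_inv_cancel_right])),
      Equiv.apply_symm_apply]
  · refine ⟨e ⟨⟨u, hu⟩, fun e => hu1 (congrArg Subtype.val e)⟩, ?_⟩
    rw [hΦ, Equiv.symm_apply_apply]
    exact congrArg e (Subtype.ext (Subtype.ext ((hact g _).trans hgu)))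

theorem perm_three_exists : ∀ σ : Equiv.Perm (Fin 3),
    σ ^ 2 = 1 → σ ≠ 1 → ∃ τ, τ * σ * τ⁻¹ ≠ σ := by decide +kernel

theorem perm_three_cube : ∀ σ τ : Equiv.Perm (Fin 3),
    σ ^ 2 = 1 → σ ≠ 1 → τ ^ 2 = 1 → τ ≠ 1 → (σ * τ) ^ 3 = 1 := by decide +kernel

set_option synthInstance.maxSize 1024 in
theorem perm_three_gen : ∀ σ τ : Equiv.Perm (Fin 3),
    σ ^ 2 = 1 → σ ≠ 1 → τ ^ 2 = 1 → τ ≠ 1 → σ ≠ τ → ∀ ρ : Equiv.Perm (Fin 3),
      ρ ∈ [1, σ, τ, σ * τ, τ * σ, σ * τ * σ] := by decide +kernel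

theorem perm_three_order : ∀ σ : Equiv.Perm (Fin 3), σ ^ 2 = 1 ∨ σ ^ 3 = 1 := by decide +kernel

theorem perm_three_fixed : ∀ (σ : Equiv.Perm (Fin 3)) (i : Fin 3),
    σ ^ 3 = 1 → σ i = i → σ = 1 := by decide +kernel

/-- The exceptional case: a symmetric group of degree four times the centre. -/
theorem s4_split (P : Subgroup G) [P.Normal] (h4 : Nat.card P = 4) (hex : ∀ u ∈ P, u ^ 2 = 1)
    (hab : IsMulCommutative P) (hodd : Odd (Nat.card (Subgroup.center G)))
    (hPZ : P ⊓ Subgroup.center G = ⊥)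
    (hC : Subgroup.centralizer (P : Set G) = P ⊔ Subgroup.center G)
    {g : G} (hg2 : g * g ∈ P) (hgC : g ∉ Subgroup.centralizer (P : Set G))
    {α : Type*} [Finite α] (hα : Nat.card α = 3) (x : α → G)
    (hx : ∀ a b, (x a)⁻¹ * x b ∈ Subgroup.centralizer (P : Set G) → a = b) :
    ∃ H : Subgroup G, Nonempty (↥H ≃* Equiv.Perm (Fin 4)) ∧ H ⊓ Subgroup.center G = ⊥ ∧
      H ⊔ Subgroup.center G = ⊤ := by
  classical
  obtain ⟨Φ, hker, hfix⟩ := exists_three P h4
  have hPC : P ≤ Subgroup.centralizer (P : Set G) := by rw [hC]; exact le_sup_left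
  have hσ2 : Φ g ^ 2 = 1 := by
    rw [← map_pow, hker, sq]; exact hPC hg2
  have hσ1 : Φ g ≠ 1 := fun h => hgC ((hker g).mp h)
  have hsurj : Φ.range = ⊤ := by
    refine Subgroup.eq_top_of_card_eq _ ?_
    have h6 : Nat.card (Equiv.Perm (Fin 3)) = 6 := by rw [Nat.card_perm, Nat.card_fin]; rfl
    have hdvd := Subgroup.card_subgroup_dvd_card Φ.range
    have h3 : 3 ≤ Nat.card Φ.range := by
      refine hα.symm.trans_le ?_
      refine Nat.card_le_card_of_injective (fun a => (⟨Φ (x a), x a, rfl⟩ : Φ.range)) fun a b h =>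
        hx a b ((hker _).mp ?_)
      rw [map_mul, map_inv, show Φ (x a) = Φ (x b) from congrArg Subtype.val h, inv_mul_cancel]
    have h2 : 2 ∣ Nat.card Φ.range := by
      rw [← orderOf_eq_prime hσ2 hσ1]
      exact Subgroup.orderOf_dvd_natCard _ ⟨g, rfl⟩
    rw [h6] at hdvd ⊢
    have := Nat.le_of_dvd (by norm_num) hdvd
    generalize Nat.card Φ.range = n at *
    interval_cases n <;> omega
  obtain ⟨τ, hτ⟩ := perm_three_exists _ hσ2 hσ1
  obtain ⟨c, rfl⟩ : τ ∈ Φ.range := by rw [hsurj]; trivial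
  set g' := c * g * c⁻¹
  have hg'2 : g' * g' ∈ P := by
    rw [show g' * g' = c * (g * g) * c⁻¹ by simp only [g']; group]
    exact (inferInstance : P.Normal).conj_mem _ hg2 c
  have hΦg' : Φ g' = Φ c * Φ g * (Φ c)⁻¹ := by simp only [g', map_mul, map_inv]
  have hσ'2 : Φ g' ^ 2 = 1 := by rw [← map_pow, hker, sq]; exact hPC hg'2
  have hσ'1 : Φ g' ≠ 1 := fun h => hσ1 (by rwa [hΦg', conj_eq_one_iff] at h)
  have hne : Φ g ≠ Φ g' := fun h => hτ (by rw [← hΦg', ← h])
  set π := QuotientGroup.mk' P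
  have hπ1 : ∀ a ∈ P, π a = 1 := fun a ha => (QuotientGroup.eq_one_iff a).mpr ha
  have hgg : π g * π g = 1 := by rw [← map_mul, hπ1 _ hg2]
  have hgg' : π g' * π g' = 1 := by rw [← map_mul, hπ1 _ hg'2]
  set ū := π (g * g')
  have hinvu : π g * ū * (π g)⁻¹ = ū⁻¹ := by
    simp only [ū, map_mul, mul_inv_rev]
    rw [inv_eq_of_mul_eq_one_right hgg, inv_eq_of_mul_eq_one_right hgg', ← mul_assoc, hgg, one_mul]
  have hu3 : ū ^ 3 = 1 := by
    have hmem : (g * g') ^ 3 ∈ P ⊔ Subgroup.center G := by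
      rw [← hC, ← hker, map_pow, map_mul]
      exact perm_three_cube _ _ hσ2 hσ1 hσ'2 hσ'1
    obtain ⟨v, hv, z, hz, hvz⟩ := Subgroup.mem_sup_of_normal_left.mp hmem
    have h1 : ū ^ 3 = π z := by rw [← map_pow, ← hvz, map_mul, hπ1 v hv, one_mul]
    have h2 : π g * π z * (π g)⁻¹ = π z := by
      rw [← map_mul, ← map_inv, ← map_mul, Subgroup.mem_center_iff.mp hz g, mul_inv_cancel_right]
    have h3 : π z * π z = 1 := by
      nth_rewrite 1 [← h2]
      rw [← h1, ← conj_pow, hinvu, inv_pow, inv_mul_cancel]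
    have h4 : z * z ∈ P ⊓ Subgroup.center G :=
      ⟨(QuotientGroup.eq_one_iff (z * z)).mp (by rw [← h3, ← map_mul]; rfl),
        Subgroup.mul_mem _ hz hz⟩
    rw [hPZ, Subgroup.mem_bot, ← sq] at h4
    have h5 : orderOf z ∣ 1 := by
      rw [← (show Nat.Coprime 2 (Nat.card (Subgroup.center G)) from
        (Nat.coprime_two_left).mpr hodd)]
      exact Nat.dvd_gcd (orderOf_dvd_of_pow_eq_one h4) (Subgroup.orderOf_dvd_natCard _ hz)
    rw [h1, orderOf_eq_one_iff.mp (Nat.dvd_one.mp h5), map_one]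
  set K : Subgroup (G ⧸ P) := Subgroup.closure {π g, π g'}
  have hKcard : Nat.card K ≤ 6 := by
    set A := Subgroup.zpowers (π g)
    set B := Subgroup.zpowers ū
    have hnorm : A ≤ Subgroup.normalizer B := by
      rw [Subgroup.zpowers_le, Subgroup.mem_normalizer_iff]
      have hconj : ∀ h ∈ B, π g * h * (π g)⁻¹ ∈ B := by
        rintro h ⟨i, rfl⟩
        exact ⟨-i, by show ū ^ (-i) = _; rw [← conj_zpow, hinvu, inv_zpow']⟩
      refine fun h => ⟨hconj h, fun hh => ?_⟩
      have := hconj _ hh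
      rwa [show π g * (π g * h * (π g)⁻¹) * (π g)⁻¹ = (π g * π g) * h * (π g * π g)⁻¹ by group,
        hgg, one_mul, inv_one, mul_one] at this
    have hcoe := Subgroup.coe_mul_of_left_le_normalizer_right A B hnorm
    have hKle : K ≤ A ⊔ B := by
      rw [Subgroup.closure_le]
      rintro y (rfl | rfl)
      · exact (le_sup_left : A ≤ A ⊔ B) (Subgroup.mem_zpowers _)
      · rw [show π g' = (π g)⁻¹ * ū by simp [ū]]
        exact Subgroup.mul_mem_sup (A.inv_mem (Subgroup.mem_zpowers _)) (Subgroup.mem_zpowers _)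
    refine (Subgroup.card_le_of_le hKle).trans ?_
    refine (Nat.card_le_card_of_surjective
      (fun ab : A × B => (⟨(ab.1 : G ⧸ P) * ab.2, Subgroup.mul_mem_sup ab.1.2 ab.2.2⟩ :
        (A ⊔ B : Subgroup (G ⧸ P)))) ?_).trans ?_
    · rintro ⟨y, hy⟩
      have hy' : y ∈ ((A ⊔ B : Subgroup (G ⧸ P)) : Set (G ⧸ P)) := hy
      rw [hcoe] at hy'
      obtain ⟨a, ha, b, hb, rfl⟩ := hy'
      exact ⟨(⟨a, ha⟩, ⟨b, hb⟩), rfl⟩
    · rw [Nat.card_prod, Nat.card_zpowers, Nat.card_zpowers]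
      exact Nat.mul_le_mul (Nat.le_of_dvd two_pos (orderOf_dvd_of_pow_eq_one (by rw [sq, hgg])))
        (Nat.le_of_dvd three_pos (orderOf_dvd_of_pow_eq_one hu3))
  set H := K.comap π
  have hHP : P ≤ H := fun a ha => by
    show π a ∈ K
    rw [hπ1 a ha]; exact K.one_mem
  have hgH : g ∈ H := Subgroup.subset_closure (Set.mem_insert _ _)
  have hg'H : g' ∈ H := Subgroup.subset_closure (Set.mem_insert_of_mem _ rfl)
  have hHcard : Nat.card H ≤ 24 := by
    have h1 := H.card_mul_index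
    rw [show H.index = K.index from K.index_comap_of_surjective (QuotientGroup.mk'_surjective P),
      Subgroup.card_eq_card_quotient_mul_card_subgroup P, ← K.card_mul_index,
      mul_right_comm] at h1
    rw [Nat.eq_of_mul_eq_mul_right (Nat.pos_of_ne_zero Subgroup.index_ne_zero_of_finite) h1, h4]
    omega
  set ψ := Φ.comp H.subtype
  have hψ : ψ.range = ⊤ := by
    refine eq_top_iff.mpr fun ρ _ => ?_
    have a1 : Φ g ∈ ψ.range := ⟨⟨g, hgH⟩, rfl⟩
    have a2 : Φ g' ∈ ψ.range := ⟨⟨g', hg'H⟩, rfl⟩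
    have hρ := perm_three_gen _ _ hσ2 hσ1 hσ'2 hσ'1 hne ρ
    simp only [List.mem_cons, List.not_mem_nil, or_false] at hρ
    rcases hρ with rfl | rfl | rfl | rfl | rfl | rfl
    · exact one_mem _
    · exact a1
    · exact a2
    · exact mul_mem a1 a2
    · exact mul_mem a2 a1
    · exact mul_mem (mul_mem a1 a2) a1
  have hidx : ψ.ker.index = 6 := by
    rw [Subgroup.index_ker, hψ, Subgroup.card_top, Nat.card_perm, Nat.card_fin]; rfl
  have hPker : P.subgroupOf H ≤ ψ.ker := fun a ha => (hker _).mpr (hPC ha)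
  have hPcard : Nat.card (P.subgroupOf H) = 4 :=
    (Nat.card_congr (Subgroup.subgroupOfEquivOfLe hHP).toEquiv).trans h4
  have hkcard : Nat.card ψ.ker * 6 = Nat.card H := by rw [← hidx, Subgroup.card_mul_index]
  have hkge := Subgroup.card_le_of_le hPker
  have hkereq : P.subgroupOf H = ψ.ker := Subgroup.eq_of_le_of_card_ge hPker (by omega)
  have hH24 : Nat.card H = 24 := by omega
  have hmemP : ∀ a : H, Φ (a : G) = 1 → (a : G) ∈ P := fun a ha => by
    have : a ∈ ψ.ker := ha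
    rwa [← hkereq] at this
  refine ⟨H, CfsgLib.PSL2.nonempty_mulEquiv_symm_four hH24 fun a ha => ?_, ?_, ?_⟩
  · rcases perm_three_order (Φ a) with h | h
    · have h1 : (a : G) ^ 2 ∈ P := by
        have := hmemP (a ^ 2) (by rw [Subgroup.coe_pow, map_pow, h])
        rwa [Subgroup.coe_pow] at this
      have h2 : a ^ 4 = 1 := Subtype.ext (by
        rw [Subgroup.coe_pow, Subgroup.coe_one, show 4 = 2 * 2 from rfl, pow_mul, hex _ h1])
      have := Nat.le_of_dvd (by norm_num) (orderOf_dvd_of_pow_eq_one h2)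
      omega
    · have h1 : (a : G) ^ 3 ∈ P := by
        have := hmemP (a ^ 3) (by rw [Subgroup.coe_pow, map_pow, h])
        rwa [Subgroup.coe_pow] at this
      have h2 : (a : G) ^ 3 ≠ 1 := fun e => by
        have := Nat.le_of_dvd (by norm_num)
          (orderOf_dvd_of_pow_eq_one (Subtype.ext e : a ^ 3 = 1))
        omega
      obtain ⟨i, hi⟩ := hfix a _ h1 h2
        (by rw [((Commute.refl (a : G)).pow_right 3).eq, mul_inv_cancel_right])
      have h3 := hex _ (hmemP a (perm_three_fixed _ i h hi))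
      have := Nat.le_of_dvd two_pos (orderOf_dvd_of_pow_eq_one (Subtype.ext h3 : a ^ 2 = 1))
      omega
  · refine eq_bot_iff.mpr fun z hz => ?_
    rw [← hPZ]
    refine ⟨hmemP ⟨z, hz.1⟩ ((hker _).mpr ?_), hz.2⟩
    exact Subgroup.center_le_centralizer _ hz.2
  · refine eq_top_iff.mpr fun a _ => ?_
    obtain ⟨b, hb⟩ : Φ a ∈ ψ.range := by rw [hψ]; trivial
    have h1 : (b : G)⁻¹ * a ∈ P ⊔ Subgroup.center G := by
      rw [← hC, ← hker, map_mul, map_inv, show Φ (b : G) = Φ a from hb, inv_mul_cancel]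
    rw [← mul_inv_cancel_left (b : G) a]
    exact Subgroup.mul_mem _ ((le_sup_left : H ≤ _) b.2)
      ((sup_le_sup_right hHP _) h1)

/-- Let χ be a faithful, non-linear irreducible character of the finite group G (χ g = χ 1 only for g = 1, χ 1 ≠ 1) whose value at every element of order divisible by p is a root of unity, and suppose P = O_p(G) ≠ 1. Then either P is an elementary abelian Sylow p-subgroup of G, C_G(P) is the internal direct product of P and Z(G), G acts transitively by conjugation on the non-principal linear characters of P, and χ 1 = |P| − 1; or p = 2 and G is the internal direct product of a subgroup isomorphic to the symmetric group S₄ and the centre Z(G), which has odd order. -/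
theorem result {G : Type*} [Group G] [Finite G] (p : ℕ) [Fact p.Prime] (χ : Cfsg.IrrCharacter G) (hfaith : ∀ g : G, (χ : G → ℂ) g = (χ : G → ℂ) 1 → g = 1) (hnl : (χ : G → ℂ) 1 ≠ 1) (hroot : ∀ g : G, p ∣ orderOf g → ∃ n : ℕ, 0 < n ∧ ((χ : G → ℂ) g) ^ n = 1) (hP : Cfsg.pCore p G ≠ ⊥) : ((Nat.card ↥(Cfsg.pCore p G)).factorization p = (Nat.card G).factorization p ∧ Cfsg.IsElementaryAbelian p (Cfsg.pCore p G) ∧ Subgroup.centralizer ((Cfsg.pCore p G : Subgroup G) : Set G) = Cfsg.pCore p G ⊔ Subgroup.center G ∧ Cfsg.pCore p G ⊓ Subgroup.center G = ⊥ ∧ (∀ lam mu : ↥(Cfsg.pCore p G) → ℂ, Cfsg.IsCharacter ↥(Cfsg.pCore p G) lam → lam 1 = 1 → lam ≠ (fun _ => (1 : ℂ)) → Cfsg.IsCharacter ↥(Cfsg.pCore p G) mu → mu 1 = 1 → mu ≠ (fun _ => (1 : ℂ)) → ∃ g : G, ∀ (x : G) (hx : x ∈ Cfsg.pCore p G) (hgx : g * x * g⁻¹ ∈ Cfsg.pCore p G), mu ⟨x, hx⟩ = lam ⟨g * x * g⁻¹, hgx⟩) ∧ (χ : G → ℂ) 1 = (Nat.card ↥(Cfsg.pCore p G) : ℂ) - 1) ∨ (p = 2 ∧ Odd (Nat.card ↥(Subgroup.center G))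 ∧ ∃ H : Subgroup G, Nonempty (↥H ≃* Equiv.Perm (Fin 4)) ∧ H ⊓ Subgroup.center G = ⊥ ∧ H ⊔ Subgroup.center G = ⊤) := by
  classical
  set P := Cfsg.pCore p G with hPdef
  haveI := Fintype.ofFinite P
  haveI := Fintype.ofFinite G
  haveI : P.Normal := by rw [hPdef]; infer_instance
  have hS := hyp_of_root hroot
  have hnl' : charDegree (χ : G → ℂ) ≠ 1 := fun h => hnl (by rw [(degree_eq χ).1, h, Nat.cast_one])
  have hPp : IsPGroup p P := CfsgLib.PCore.pCore_isPGroup
  obtain ⟨hab, hd, h3, hm0, hcardI, hm⟩ := core_structure χ hS hfaith hnl' P hPp hP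
  have hzc := center_coprime χ hS hnl'
  have hPZ : P ⊓ Subgroup.center G = ⊥ := CfsgLib.PCore.inf_eq_bot_of_isPGroup_coprime hPp
    (Nat.Coprime.symm ((Fact.out : p.Prime).coprime_iff_not_dvd.mpr hzc))
  have hC : Subgroup.centralizer (P : Set G) = P ⊔ Subgroup.center G := by
    refine le_antisymm (fun c hc => centralizer_core χ hS hfaith P hPp hab hd h3 hc)
      (sup_le (fun a ha => ?_) (Subgroup.center_le_centralizer _))
    exact Subgroup.mem_centralizer_iff.mpr fun b hb =>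
      congrArg Subtype.val (isMulCommutative_iff.mp hab ⟨b, hb⟩ ⟨a, ha⟩)
  have hexp := exponent_core χ hfaith P hPp hab h3 hm
  obtain ⟨S⟩ : Nonempty (Sylow p G) := inferInstance
  haveI := Fintype.ofFinite (S : Subgroup G)
  rcases over_core χ hS P S (CfsgLib.PCore.pCore_le_sylow S) S.isPGroup' hd h3 with
    hSP | ⟨hp2, hScard, hsq⟩
  · refine Or.inl ⟨?_, ⟨hab, hexp⟩, hC, hPZ,
      fun lam mu a b c a' b' c' => transitive χ P hm a b c a' b' c', ?_⟩
    · rw [← hSP, S.card_eq_multiplicity, Nat.Prime.factorization_pow Fact.out,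
        Finsupp.single_eq_same]
    · rw [(degree_eq χ).1, ← hd, Nat.cast_add, Nat.cast_one, add_sub_cancel_right]
  · subst hp2
    have hodd : Odd (Nat.card (Subgroup.center G)) :=
      Nat.not_even_iff_odd.mp fun h => hzc (even_iff_two_dvd.mp h)
    obtain ⟨g, hgS, hgP⟩ : ∃ g ∈ (S : Subgroup G), g ∉ P := by
      by_contra h; push Not at h
      have h1 : Nat.card (S : Subgroup G) ≤ Nat.card P := Subgroup.card_le_of_le (fun a ha => h a ha)
      omega
    have hle := two_core χ P S (CfsgLib.PCore.pCore_le_sylow S) hab hexp hd hm0 hm hScard hsq hgS hgP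
    have h4 : Nat.card P = 4 := by
      obtain ⟨i, hi⟩ := IsPGroup.iff_card.mp hPp
      have hi' : i < 3 := by
        by_contra h; push Not at h
        have := Nat.pow_le_pow_right two_pos h
        omega
      interval_cases i <;> omega
    have hg2 : g * g ∈ P := by
      have hle' := CfsgLib.PCore.pCore_le_sylow S
      have hidx : (P.subgroupOf S).index = 2 := by
        have h := (P.subgroupOf S).index_mul_card
        rw [Nat.card_congr (Subgroup.subgroupOfEquivOfLe hle').toEquiv, hScard] at h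
        exact Nat.eq_of_mul_eq_mul_right Nat.card_pos h
      exact (Subgroup.mul_mem_iff_of_index_two hidx (a := ⟨g, hgS⟩) (b := ⟨g, hgS⟩)).mpr Iff.rfl
    have hgC : g ∉ Subgroup.centralizer (P : Set G) := by
      rw [hC]; intro h
      obtain ⟨v, hv, z, hz, rfl⟩ := Subgroup.mem_sup_of_normal_left.mp h
      have hzS : z ∈ (S : Subgroup G) := by
        have := (S : Subgroup G).mul_mem ((S : Subgroup G).inv_mem
          (CfsgLib.PCore.pCore_le_sylow S hv)) hgS
        rwa [inv_mul_cancel_left] at this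
      have hz1 : z = 1 := by
        have hinf := CfsgLib.PCore.inf_eq_bot_of_isPGroup_coprime
          (B := Subgroup.center G) S.isPGroup'
          (Nat.Coprime.symm (Nat.prime_two.coprime_iff_not_dvd.mpr hzc))
        have : z ∈ (S : Subgroup G) ⊓ Subgroup.center G := ⟨hzS, hz⟩
        rwa [hinf, Subgroup.mem_bot] at this
      exact hgP (by rw [hz1, mul_one]; exact hv)
    obtain ⟨θ₀, hθ₀⟩ : ∃ θ : IrrCharacter P, θ ≠ principalIrr P := by
      by_contra h; push Not at h
      haveI : Subsingleton (IrrCharacter P) := ⟨fun a b => (h a).trans (h b).symm⟩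
      have : Nat.card (IrrCharacter P) ≤ 1 := Finite.card_le_one_iff_subsingleton.mpr this
      omega
    choose x hx using fun η : {θ : IrrCharacter P // θ ≠ principalIrr P} =>
      exists_conj_of_constituents P χ (θ := θ₀) (η := η.1)
        (by rw [hm _ hθ₀]; exact one_ne_zero) (by rw [hm _ η.2]; exact one_ne_zero)
    refine Or.inr ⟨rfl, hodd, s4_split P h4 hexp hab hodd hPZ hC hg2 hgC (α := _) ?_ x ?_⟩
    · rw [Nat.card_eq_fintype_card, Fintype.card_subtype_compl, Fintype.card_subtype_eq,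
        ← Nat.card_eq_fintype_card, hcardI, h4]
    · intro a b hab'
      have h1 : twistIrr (MulAut.conjNormal ((x a)⁻¹ * x b)) θ₀ = θ₀ := by
        refine (twist_eq_iff P _ _ _).mpr fun k k' hk => congrArg _ (Subtype.ext ?_)
        rw [hk, ← Subgroup.mem_centralizer_iff.mp hab' _ k.2, mul_inv_cancel_right]
      apply Subtype.ext
      rw [← hx a, ← hx b]
      nth_rewrite 1 [← h1]
      rw [twist_twist, mul_inv_cancel_left]

end Cfsg.Agent.S4751
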