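import Cfsg.Statements.S4754
import Cfsg.Agent.Lib.Blocks.ClassCount

set_option autoImplicit false
open Cfsg

namespace Cfsg.Agent.S4754

/-- For elements x, y of a finite group G, the conjugacy class of x y equals the set of all products of a conjugate of x with a conjugate of y if and only if χ(1) χ(a x a⁻¹ b y b⁻¹) = χ(x) χ(y) for all a, b ∈ G and every irreducible character χ. -/
theorem result {G : Type*} [Group G] [Finite G] (x y : G) : (∀ z : G, IsConj (x * y) z ↔ ∃ a b : G, z = a * x * a⁻¹ * (b * y * b⁻¹)) ↔ ∀ (a b : G) (χ : Cfsg.IrrCharacter G), (χ : G → ℂ) 1 * (χ : G → ℂ) (a * x * a⁻¹ * (b * y * b⁻¹)) = (χ : G → ℂ) x * (χ : G → ℂ) y := by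
  classical
  have : Fintype G := Fintype.ofFinite G
  have hprod : ∀ a b : G, IsConj (a * x * a⁻¹) x ∧ IsConj (b * y * b⁻¹) y := fun a b =>
    ⟨(isConj_iff.2 ⟨a, rfl⟩ : IsConj x (a * x * a⁻¹)).symm,
      (isConj_iff.2 ⟨b, rfl⟩ : IsConj y (b * y * b⁻¹)).symm⟩
  constructor
  · intro h a b χ
    have hsum := CfsgLib.ClassCount.sum_char_mul χ x y 1
    have hconst : ∀ u ∈ CfsgLib.ClassCount.cls x, ∀ v ∈ CfsgLib.ClassCount.cls y,
        (χ : G → ℂ) (u * v * 1) = (χ : G → ℂ) (x * y) := by
      intro u hu v hv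
      obtain ⟨c, rfl⟩ := isConj_iff.1 (CfsgLib.ClassCount.mem_cls.1 hu)
      obtain ⟨d, rfl⟩ := isConj_iff.1 (CfsgLib.ClassCount.mem_cls.1 hv)
      rw [mul_one]
      exact (CfsgLib.Characters.classFunction_eq_of_isConj
        (CfsgLib.Characters.irr_isClassFunction χ) ((h _).2 ⟨c, d, rfl⟩)).symm
    rw [Finset.sum_congr rfl fun u hu => Finset.sum_congr rfl fun v hv => hconst u hu v hv,
      Finset.sum_const, Finset.sum_const, nsmul_eq_mul, nsmul_eq_mul,
      CfsgLib.ClassCount.card_cls, CfsgLib.ClassCount.card_cls] at hsum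
    rw [Cfsg.centralChar, Cfsg.centralChar] at hsum
    rw [CfsgLib.Characters.classFunction_eq_of_isConj
      (CfsgLib.Characters.irr_isClassFunction χ) ((h _).2 ⟨a, b, rfl⟩).symm]
    have h1 := CfsgLib.Characters.irr_one_ne_zero χ
    have hx0 : ((Subgroup.centralizer ({x} : Set G)).index : ℂ) ≠ 0 :=
      Nat.cast_ne_zero.2 Subgroup.index_ne_zero_of_finite
    have hy0 : ((Subgroup.centralizer ({y} : Set G)).index : ℂ) ≠ 0 :=
      Nat.cast_ne_zero.2 Subgroup.index_ne_zero_of_finite
    field_simp at hsum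
    first | linear_combination hsum | exact hsum
  · intro h z
    have hsame : ∀ a b : G, IsConj (x * y) (a * x * a⁻¹ * (b * y * b⁻¹)) := by
      intro a b
      rw [CfsgLib.Characters.isConj_iff_irr]
      intro χ
      have h1 := h 1 1 χ
      simp only [one_mul, inv_one, mul_one] at h1
      exact mul_left_cancel₀ (CfsgLib.Characters.irr_one_ne_zero χ) (h1.trans (h a b χ).symm)
    constructor
    · intro hz
      obtain ⟨c, rfl⟩ := isConj_iff.1 hz
      exact ⟨c, c, by group⟩
    · rintro ⟨a, b, rfl⟩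
      exact hsame a b

end Cfsg.Agent.S4754
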