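import Cfsg.Statements.S4755
import Cfsg.Agent.Lib.Blocks.ClassCount
import Cfsg.Agent.Lib.Characters.Counting

set_option autoImplicit false
open Cfsg

namespace Cfsg.Agent.S4755

/-- Let x, y be non-identity elements of the finite group G such that χ(x' y') = χ(x') χ(y') for all conjugates x' of x, y' of y and every irreducible character χ. Then the conjugacy class of x y is the set of all products of a conjugate of x with a conjugate of y; every irreducible character of degree greater than 1 vanishes at x y; and the conjugacy class of x y is the coset of the commutator subgroup containing x y. -/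
theorem result {G : Type*} [Group G] [Finite G] (x y : G) (hx : x ≠ 1) (hy : y ≠ 1) (h : ∀ (a b : G) (χ : Cfsg.IrrCharacter G), (χ : G → ℂ) (a * x * a⁻¹ * (b * y * b⁻¹)) = (χ : G → ℂ) (a * x * a⁻¹) * (χ : G → ℂ) (b * y * b⁻¹)) : (∀ z : G, IsConj (x * y) z ↔ ∃ a b : G, z = a * x * a⁻¹ * (b * y * b⁻¹)) ∧ (∀ χ : Cfsg.IrrCharacter G, (χ : G → ℂ) 1 ≠ 1 → (χ : G → ℂ) (x * y) = 0) ∧ (∀ z : G, IsConj (x * y) z ↔ (x * y)⁻¹ * z ∈ commutator G) := by
  classical
  have : Fintype G := Fintype.ofFinite G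
  have hcl : ∀ (χ : Cfsg.IrrCharacter G) (a b : G),
      (χ : G → ℂ) (a * x * a⁻¹ * (b * y * b⁻¹)) = (χ : G → ℂ) x * (χ : G → ℂ) y := by
    intro χ a b
    rw [h a b χ, ← CfsgLib.Characters.classFunction_eq_of_isConj
      (CfsgLib.Characters.irr_isClassFunction χ) (isConj_iff.2 ⟨a, rfl⟩ : IsConj x (a * x * a⁻¹)),
      ← CfsgLib.Characters.classFunction_eq_of_isConj
      (CfsgLib.Characters.irr_isClassFunction χ) (isConj_iff.2 ⟨b, rfl⟩ : IsConj y (b * y * b⁻¹))]
  have hxy : ∀ χ : Cfsg.IrrCharacter G, (χ : G → ℂ) (x * y) = (χ : G → ℂ) x * (χ : G → ℂ) y := by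
    intro χ
    have := hcl χ 1 1
    simpa using this
  have h1 : ∀ z : G, IsConj (x * y) z ↔ ∃ a b : G, z = a * x * a⁻¹ * (b * y * b⁻¹) := by
    intro z
    constructor
    · intro hz
      obtain ⟨c, rfl⟩ := isConj_iff.1 hz
      exact ⟨c, c, by group⟩
    · rintro ⟨a, b, rfl⟩
      rw [CfsgLib.Characters.isConj_iff_irr]
      intro χ
      rw [hxy, hcl]
  have h2 : ∀ χ : Cfsg.IrrCharacter G, (χ : G → ℂ) 1 ≠ 1 → (χ : G → ℂ) (x * y) = 0 := by
    intro χ hχ
    have hsum := CfsgLib.ClassCount.sum_char_mul χ x y 1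
    have hconst : ∀ u ∈ CfsgLib.ClassCount.cls x, ∀ v ∈ CfsgLib.ClassCount.cls y,
        (χ : G → ℂ) (u * v * 1) = (χ : G → ℂ) x * (χ : G → ℂ) y := by
      intro u hu v hv
      obtain ⟨c, rfl⟩ := isConj_iff.1 (CfsgLib.ClassCount.mem_cls.1 hu)
      obtain ⟨d, rfl⟩ := isConj_iff.1 (CfsgLib.ClassCount.mem_cls.1 hv)
      rw [mul_one]
      exact hcl χ c d
    rw [Finset.sum_congr rfl fun u hu => Finset.sum_congr rfl fun v hv => hconst u hu v hv,
      Finset.sum_const, Finset.sum_const, nsmul_eq_mul, nsmul_eq_mul,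
      CfsgLib.ClassCount.card_cls, CfsgLib.ClassCount.card_cls] at hsum
    rw [Cfsg.centralChar, Cfsg.centralChar] at hsum
    have h10 := CfsgLib.Characters.irr_one_ne_zero χ
    have hx0 : ((Subgroup.centralizer ({x} : Set G)).index : ℂ) ≠ 0 :=
      Nat.cast_ne_zero.2 Subgroup.index_ne_zero_of_finite
    have hy0 : ((Subgroup.centralizer ({y} : Set G)).index : ℂ) ≠ 0 :=
      Nat.cast_ne_zero.2 Subgroup.index_ne_zero_of_finite
    rw [hxy]
    field_simp at hsum
    by_contra hne
    apply hχ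
    obtain ⟨hx', hy'⟩ := mul_ne_zero_iff.1 hne
    apply mul_left_cancel₀ hne
    first | linear_combination hsum | linear_combination -hsum
  refine ⟨h1, h2, ?_⟩
  -- the class of `x * y` fills its coset of the derived subgroup
  set w := x * y with hw
  have hsub : ∀ z : G, IsConj w z → w⁻¹ * z ∈ commutator G := by
    intro z hz
    obtain ⟨c, rfl⟩ := isConj_iff.1 hz
    have : w⁻¹ * (c * w * c⁻¹) = w⁻¹ * c * w⁻¹⁻¹ * c⁻¹ := by group
    rw [this, ← commutatorElement_def]
    exact Subgroup.commutator_mem_commutator (Subgroup.mem_top _) (Subgroup.mem_top _)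
  have hcent : Nat.card (Subgroup.centralizer ({w} : Set G)) = (commutator G).index := by
    have hcol := CfsgLib.Characters.column_orth w w
    rw [if_pos (IsConj.refl w)] at hcol
    rw [← CfsgLib.Characters.card_linear_irr]
    have hterm : ∀ χ : Cfsg.IrrCharacter G, (χ : G → ℂ) w * (starRingEnd ℂ) ((χ : G → ℂ) w) =
        if (χ : G → ℂ) 1 = 1 then 1 else 0 := by
      intro χ
      split_ifs with hχ
      · obtain ⟨f, hf⟩ := CfsgLib.Characters.exists_linearIrr_eq χ hχ
        rw [← hf, ← CfsgLib.Characters.irr_apply_inv]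
        show (f w : ℂ) * (f w⁻¹ : ℂ) = 1
        rw [← Units.val_mul, ← map_mul, mul_inv_cancel, map_one, Units.val_one]
      · rw [h2 χ hχ, zero_mul]
    rw [Finset.sum_congr rfl fun χ _ => hterm χ, Finset.sum_boole] at hcol
    rw [Nat.card_eq_fintype_card (α := {χ : Cfsg.IrrCharacter G // (χ : G → ℂ) 1 = 1}),
      Fintype.card_subtype]
    exact_mod_cast hcol.symm
  let S1 : Finset G := CfsgLib.ClassCount.cls w
  let S2 : Finset G := Finset.univ.filter fun z => w⁻¹ * z ∈ commutator G
  have hle : S1 ⊆ S2 := fun z hz => Finset.mem_filter.2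
    ⟨Finset.mem_univ _, hsub z (CfsgLib.ClassCount.mem_cls.1 hz)⟩
  have hc2 : S2.card = Nat.card (commutator G) := by
    rw [Nat.card_eq_fintype_card, ← Fintype.card_coe]
    exact Fintype.card_congr
      { toFun := fun z => ⟨w⁻¹ * z.1, (Finset.mem_filter.1 z.2).2⟩
        invFun := fun d => ⟨w * d.1, Finset.mem_filter.2 ⟨Finset.mem_univ _, by simp⟩⟩
        left_inv := fun z => by simp
        right_inv := fun d => by simp }
  have hc1 : S1.card = Nat.card (commutator G) := by
    have e := CfsgLib.ClassCount.card_cls_mul_centralizer w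
    rw [hcent, ← Subgroup.card_mul_index (commutator G)] at e
    exact Nat.eq_of_mul_eq_mul_right (Nat.pos_of_ne_zero Subgroup.index_ne_zero_of_finite) e
  have heq : S1 = S2 := Finset.eq_of_subset_of_card_le hle (by rw [hc1, hc2])
  intro z
  rw [← CfsgLib.ClassCount.mem_cls]
  show z ∈ S1 ↔ _
  rw [heq]
  simp [S2]

end Cfsg.Agent.S4755
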