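import Cfsg.Statements.S4756
import Cfsg.Agent.S4762
import Cfsg.Agent.Lib.Characters.ItoMichlerPSolvable
import Cfsg.Agent.Lib.Blocks.DefectZeroVanish
import Cfsg.Agent.Lib.Coprime.Commutator
import Cfsg.Agent.Lib.FewOrders.Structure

set_option autoImplicit false
open Cfsg

namespace Cfsg.Agent.S4756

open CfsgLib CfsgLib.Characters CfsgLib.ClassCount
open scoped ComplexConjugate commutatorElement

universe u

variable {G : Type u} [Group G] [Finite G]

/-- The hypothesis of multiplicativity. -/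
def Mult (G : Type u) [Group G] : Prop :=
  ∀ (x y : G) (χ : IrrCharacter G), x ≠ 1 → y ≠ 1 →
    (∃ p q a b : ℕ, p.Prime ∧ q.Prime ∧ p ≠ q ∧ orderOf x = p ^ a ∧ orderOf y = q ^ b) →
    (χ : G → ℂ) (x * y) = (χ : G → ℂ) x * (χ : G → ℂ) y

/-- A nonlinear character vanishes at one of two prime power elements for distinct primes. -/
theorem zero_or_zero (h : Mult G) (χ : IrrCharacter G) (hχ : charDegree (χ : G → ℂ) ≠ 1)
    {x y : G} (hx : x ≠ 1) (hy : y ≠ 1) {p q a b : ℕ} (hp : p.Prime) (hq : q.Prime) (hpq : p ≠ q)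
    (hox : orderOf x = p ^ a) (hoy : orderOf y = q ^ b) :
    (χ : G → ℂ) x = 0 ∨ (χ : G → ℂ) y = 0 := by
  classical
  haveI := Fintype.ofFinite G
  have hcl : ∀ {z w : G}, IsConj z w → z ≠ 1 → w ≠ 1 ∧ orderOf w = orderOf z := by
    intro z w hzw hz
    obtain ⟨c, hc⟩ := isConj_iff.mp hzw
    refine ⟨fun e => hz ?_, ?_⟩
    · rw [e, conj_eq_one_iff] at hc; exact hc
    · rw [← hc]; exact (MulAut.conj c).orderOf_eq z
  have hval : ∀ u ∈ cls x, ∀ v ∈ cls y,
      (χ : G → ℂ) (u * v) = (χ : G → ℂ) x * (χ : G → ℂ) y := fun u hu v hv => by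
    obtain ⟨hu1, huo⟩ := hcl (mem_cls.mp hu) hx
    obtain ⟨hv1, hvo⟩ := hcl (mem_cls.mp hv) hy
    rw [h u v χ hu1 hv1 ⟨p, q, a, b, hp, hq, hpq, huo.trans hox, hvo.trans hoy⟩,
      classFunction_eq_of_isConj (irr_isClassFunction χ) (mem_cls.mp hu),
      classFunction_eq_of_isConj (irr_isClassFunction χ) (mem_cls.mp hv)]
  have hs := sum_char_mul χ x y 1
  simp only [mul_one] at hs
  rw [Finset.sum_congr rfl fun u hu => Finset.sum_congr rfl fun v hv => hval u hu v hv] at hs
  simp only [Finset.sum_const, nsmul_eq_mul, centralChar, ← card_cls] at hs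
  have hd : (χ : G → ℂ) 1 ≠ 0 := irr_one_ne_zero χ
  have hcx : ((cls x).card : ℂ) ≠ 0 :=
    Nat.cast_ne_zero.mpr (Finset.card_ne_zero.mpr ⟨x, mem_cls_self x⟩)
  have hcy : ((cls y).card : ℂ) ≠ 0 :=
    Nat.cast_ne_zero.mpr (Finset.card_ne_zero.mpr ⟨y, mem_cls_self y⟩)
  have h1 : ((cls x).card : ℂ) * ((cls y).card : ℂ) *
      ((χ : G → ℂ) x * (χ : G → ℂ) y) * ((χ : G → ℂ) 1 - 1) = 0 := by
    field_simp at hs
    linear_combination ((cls x).card : ℂ) * ((cls y).card : ℂ) * hs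
  have hd1 : (χ : G → ℂ) 1 - 1 ≠ 0 := fun e => hχ (by
    rw [sub_eq_zero, (degree_eq χ).1] at e
    exact_mod_cast e)
  exact mul_eq_zero.mp ((mul_eq_zero.mp ((mul_eq_zero.mp h1).resolve_right hd1)).resolve_left
    (mul_ne_zero hcx hcy))

/-- A character vanishing on the nontrivial `q`-elements has degree divisible by the `q`-part. -/
theorem qpart_dvd {q : ℕ} [Fact q.Prime] (χ : IrrCharacter G)
    (hvan : ∀ x : G, x ≠ 1 → (∃ a, orderOf x = q ^ a) → (χ : G → ℂ) x = 0) :
    q ^ (Nat.card G).factorization q ∣ charDegree (χ : G → ℂ) := by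
  classical
  haveI := Fintype.ofFinite G
  let P : Sylow q G := default
  obtain ⟨m, hm⟩ := exists_mult χ (P : Subgroup G)
  rw [Finset.sum_eq_single 1] at hm
  · rw [Subgroup.coe_one, inv_one, (degree_eq χ).1, P.card_eq_multiplicity] at hm
    exact ⟨m, by exact_mod_cast hm⟩
  · intro x _ hx
    refine hvan _ (fun e => hx (Subtype.ext (inv_eq_one.mp e))) ?_
    obtain ⟨a, ha⟩ := IsPGroup.iff_orderOf.1 P.isPGroup' x
    exact ⟨a, by rw [orderOf_inv, Subgroup.orderOf_coe, ha]⟩
  · intro hn; exact absurd (Finset.mem_univ _) hn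

theorem deg_sq_lt (χ : IrrCharacter G) (hχ : charDegree (χ : G → ℂ) ≠ 1) :
    charDegree (χ : G → ℂ) ^ 2 < Nat.card G := by
  classical
  haveI := Fintype.ofFinite G
  have hs := Cfsg.Agent.S4762.sum_split (G := G)
  have h1 : charDegree (χ : G → ℂ) ^ 2 ≤
      ∑ ψ : {ψ : IrrCharacter G // charDegree (ψ : G → ℂ) ≠ 1}, charDegree (ψ.1 : G → ℂ) ^ 2 :=
    Finset.single_le_sum (f := fun ψ : {ψ : IrrCharacter G // charDegree (ψ : G → ℂ) ≠ 1} =>
      charDegree (ψ.1 : G → ℂ) ^ 2) (fun _ _ => Nat.zero_le _) (Finset.mem_univ ⟨χ, hχ⟩)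
  have h2 : 0 < (commutator G).index := Nat.pos_of_ne_zero Subgroup.index_ne_zero_of_finite
  omega

/-- A non-linear character lives on one prime. -/
theorem exists_prime (h : Mult G) (χ : IrrCharacter G) (hχ : charDegree (χ : G → ℂ) ≠ 1) :
    ∃ p : ℕ, p.Prime ∧ ordCompl[p] (Nat.card G) ∣ charDegree (χ : G → ℂ) ∧
      ∀ g : G, (∃ q : ℕ, q.Prime ∧ q ≠ p ∧ q ∣ orderOf g) → (χ : G → ℂ) g = 0 := by
  classical
  haveI := Fintype.ofFinite G
  by_cases hex : ∃ (p a : ℕ) (x : G), p.Prime ∧ x ≠ 1 ∧ orderOf x = p ^ a ∧ (χ : G → ℂ) x ≠ 0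
  · obtain ⟨p, a, x, hp, hx, hox, hne⟩ := hex
    have hq : ∀ q : ℕ, q.Prime → q ≠ p →
        q ^ (Nat.card G).factorization q ∣ charDegree (χ : G → ℂ) := fun q hq hqp => by
      haveI : Fact q.Prime := ⟨hq⟩
      exact qpart_dvd χ fun y hy ⟨b, hb⟩ =>
        (zero_or_zero h χ hχ hx hy hp hq (Ne.symm hqp) hox hb).resolve_left hne
    refine ⟨p, hp, ?_, fun g ⟨q, hq', hqp, hqg⟩ => ?_⟩
    · have hm : ordCompl[p] (Nat.card G) ≠ 0 := (Nat.ordCompl_pos p Nat.card_pos.ne').ne'
      rw [← Nat.factorization_le_iff_dvd hm (degree_eq χ).2.2.ne', Nat.factorization_ordCompl]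
      intro q
      rw [Finsupp.erase_apply]
      split_ifs with hqp
      · exact Nat.zero_le _
      · by_cases hqpr : q.Prime
        · exact (hqpr.pow_dvd_iff_le_factorization (degree_eq χ).2.2.ne').mp (hq q hqpr hqp)
        · rw [Nat.factorization_eq_zero_of_not_prime _ hqpr]
          exact Nat.zero_le _
    · haveI : Fact q.Prime := ⟨hq'⟩
      exact CfsgLib.DefectZeroVanish.vanish_of_defect_zero χ (hq q hq' hqp) hqg
  · push Not at hex
    exfalso
    have hdvd : Nat.card G ∣ charDegree (χ : G → ℂ) := by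
      rw [← Nat.factorization_le_iff_dvd Nat.card_pos.ne' (degree_eq χ).2.2.ne']
      intro q
      by_cases hq : q.Prime
      · haveI : Fact q.Prime := ⟨hq⟩
        exact (hq.pow_dvd_iff_le_factorization (degree_eq χ).2.2.ne').mp
          (qpart_dvd χ fun x hx ⟨a, ha⟩ => hex q a x hq hx ha)
      · rw [Nat.factorization_eq_zero_of_not_prime _ hq]
        exact Nat.zero_le _
    have h1 := Nat.le_of_dvd (degree_eq χ).2.2 hdvd
    have h2 := deg_sq_lt χ hχ
    have h3 := Nat.le_self_pow (two_ne_zero) (charDegree (χ : G → ℂ))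
    omega

/-- If only linear characters are nonzero at `g`, the centralizer has order `[G : G']`. -/
theorem card_centralizer_of_vanish {g : G}
    (hv : ∀ χ : IrrCharacter G, charDegree (χ : G → ℂ) ≠ 1 → (χ : G → ℂ) g = 0) :
    Nat.card (Subgroup.centralizer ({g} : Set G)) = (commutator G).index := by
  classical
  haveI := Fintype.ofFinite G
  have h := column_orth g g
  rw [if_pos (IsConj.refl g), ← Fintype.sum_subtype_add_sum_subtype
    (fun χ : IrrCharacter G => (χ : G → ℂ) 1 = 1)] at h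
  have h2 : ∑ χ : {χ : IrrCharacter G // ¬ (χ : G → ℂ) 1 = 1},
      (χ.1 : G → ℂ) g * conj ((χ.1 : G → ℂ) g) = 0 := Finset.sum_eq_zero fun χ _ => by
    rw [hv χ.1 (fun e => χ.2 (by rw [(degree_eq χ.1).1, e, Nat.cast_one])), zero_mul]
  rw [h2, add_zero, Finset.sum_congr rfl (fun χ _ => ?_), Finset.sum_const, Finset.card_univ,
    nsmul_one, ← Nat.card_eq_fintype_card, card_linear_irr] at h
  · exact_mod_cast h.symm
  · obtain ⟨f, hf⟩ := exists_linearIrr_eq χ.1 χ.2
    rw [← irr_apply_inv χ.1 g, ← hf]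
    simp [linearIrr]

/-- The converse of `card_centralizer_of_vanish`. -/
theorem vanish_of_card_centralizer {g : G}
    (hc : Nat.card (Subgroup.centralizer ({g} : Set G)) = (commutator G).index)
    (χ : IrrCharacter G) (hχ : charDegree (χ : G → ℂ) ≠ 1) : (χ : G → ℂ) g = 0 := by
  classical
  haveI := Fintype.ofFinite G
  have h := column_orth g g
  rw [if_pos (IsConj.refl g), hc, ← Fintype.sum_subtype_add_sum_subtype
    (fun χ : IrrCharacter G => (χ : G → ℂ) 1 = 1)] at h
  rw [Finset.sum_congr rfl (fun (ψ : {χ : IrrCharacter G // (χ : G → ℂ) 1 = 1}) _ => show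
      (ψ.1 : G → ℂ) g * conj ((ψ.1 : G → ℂ) g) = 1 by
    obtain ⟨f, hf⟩ := exists_linearIrr_eq ψ.1 ψ.2
    rw [← irr_apply_inv ψ.1 g, ← hf]
    simp [linearIrr]), Finset.sum_const, Finset.card_univ, nsmul_one, ← Nat.card_eq_fintype_card,
    card_linear_irr, add_eq_left] at h
  simp only [Complex.mul_conj, ← Complex.ofReal_sum, Complex.ofReal_eq_zero] at h
  have hne : ¬ (χ : G → ℂ) 1 = 1 := fun e => hχ (LinearTwist.charDegree_eq_of_apply_one
    (by rw [e, Nat.cast_one]))
  exact Complex.normSq_eq_zero.mp ((Finset.sum_eq_zero_iff_of_nonneg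
    fun ψ _ => Complex.normSq_nonneg _).mp h ⟨χ, hne⟩ (Finset.mem_univ _))

/-- The structure asserted. -/
def Shape (G : Type u) [Group G] : Prop :=
  ∃ (p : ℕ) (_ : Fact p.Prime) (P : Sylow p G) (A : Subgroup G), (P : Subgroup G).Normal ∧
    IsCyclic ↥A ∧ A ≠ ⊥ ∧ (Nat.card ↥A).Coprime p ∧ A ⊔ (P : Subgroup G) = ⊤ ∧
    IsMulCommutative ↥((P : Subgroup G) ⊓ Subgroup.centralizer (A : Set G)) ∧
    (⁅A, (P : Subgroup G)⁆).Normal ∧
    ((P : Subgroup G) ⊓ Subgroup.centralizer (A : Set G)) ⊔ ⁅A, (P : Subgroup G)⁆ =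
      (P : Subgroup G) ∧
    ((P : Subgroup G) ⊓ Subgroup.centralizer (A : Set G)) ⊓ ⁅A, (P : Subgroup G)⁆ = ⊥ ∧
    ∀ a ∈ A, a ≠ 1 → ∀ d ∈ ⁅A, (P : Subgroup G)⁆, a * d = d * a → d = 1

theorem forward (h : Mult G) (hnab : ¬ IsMulCommutative G)
    (hnp : ¬ ∃ p : ℕ, p.Prime ∧ IsPGroup p G) : Shape G := by
  classical
  haveI := Fintype.ofFinite G
  obtain ⟨χ₀, hχ₀⟩ : ∃ χ : IrrCharacter G, charDegree (χ : G → ℂ) ≠ 1 := by
    by_contra hall
    push Not at hall
    exact hnab (isMulCommutative_iff.mpr (ItoMichler.comm_of_degree_one hall))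
  obtain ⟨p, hp, hm₀, -⟩ := exists_prime h χ₀ hχ₀
  haveI : Fact p.Prime := ⟨hp⟩
  set m := ordCompl[p] (Nat.card G) with hm
  set a₀ := (Nat.card G).factorization p
  have hG : p ^ a₀ * m = Nat.card G := Nat.ordProj_mul_ordCompl_eq_self _ _
  have hmpos : 0 < m := Nat.ordCompl_pos p Nat.card_pos.ne'
  have hmlt : m < p ^ a₀ := by
    have h1 := Nat.le_of_dvd (degree_eq χ₀).2.2 hm₀
    have h2 := deg_sq_lt χ₀ hχ₀
    have h3 : m * m < p ^ a₀ * m := by rw [hG]; nlinarith
    exact Nat.lt_of_mul_lt_mul_right h3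
  have hall : ∀ χ : IrrCharacter G, charDegree (χ : G → ℂ) ≠ 1 → m ∣ charDegree (χ : G → ℂ) ∧
      ∀ g : G, (∃ q : ℕ, q.Prime ∧ q ≠ p ∧ q ∣ orderOf g) → (χ : G → ℂ) g = 0 := by
    intro χ hχ
    obtain ⟨q, hq, hmq, hvan⟩ := exists_prime h χ hχ
    obtain rfl : q = p := by
      by_contra hqp
      set b := (Nat.card G).factorization q
      set mq := ordCompl[q] (Nat.card G)
      have hGq : q ^ b * mq = Nat.card G := Nat.ordProj_mul_ordCompl_eq_self _ _
      have hmqpos : 0 < mq := Nat.ordCompl_pos q Nat.card_pos.ne'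
      have hlt2 : mq < q ^ b := by
        have h1 := Nat.le_of_dvd (degree_eq χ).2.2 hmq
        have h2 := deg_sq_lt χ hχ
        have h3 : mq * mq < q ^ b * mq := by rw [hGq]; nlinarith
        exact Nat.lt_of_mul_lt_mul_right h3
      have hcop : Nat.Coprime (q ^ b) (p ^ a₀) :=
        Nat.Coprime.pow b a₀ ((Nat.coprime_primes hq hp).mpr hqp)
      have h1 : q ^ b ≤ m := Nat.le_of_dvd hmpos
        (hcop.dvd_of_dvd_mul_left (hG ▸ hGq ▸ dvd_mul_right _ _))
      have h2 : p ^ a₀ ≤ mq := Nat.le_of_dvd hmqpos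
        (hcop.symm.dvd_of_dvd_mul_left (hGq ▸ hG ▸ dvd_mul_right _ _))
      omega
    exact ⟨hmq, hvan⟩
  -- the derived group is a `p`-group
  have hidx : m ∣ (commutator G).index := by
    have hs := Cfsg.Agent.S4762.sum_split (G := G)
    have hdvd : m ∣ ∑ ψ : {ψ : IrrCharacter G // charDegree (ψ : G → ℂ) ≠ 1},
        charDegree (ψ.1 : G → ℂ) ^ 2 :=
      Finset.dvd_sum fun ψ _ => (hall ψ.1 ψ.2).1.trans (dvd_pow_self _ two_ne_zero)
    exact (Nat.dvd_add_left hdvd).mp (hs ▸ hG ▸ dvd_mul_left m _)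
  have hG'p : IsPGroup p (commutator G) := by
    obtain ⟨t, ht⟩ := hidx
    have h1 := (commutator G).card_mul_index
    rw [ht, ← hG] at h1
    have h2 : Nat.card (commutator G) ∣ p ^ a₀ := ⟨t, by
      refine Nat.eq_of_mul_eq_mul_right hmpos ?_
      rw [← h1]; ring⟩
    obtain ⟨i, -, hi⟩ := (Nat.dvd_prime_pow hp).mp h2
    exact IsPGroup.of_card hi
  let P : Sylow p G := default
  have hG'P : commutator G ≤ (P : Subgroup G) :=
    (PCore.le_pCore inferInstance hG'p).trans (PCore.pCore_le_sylow P)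
  haveI hPn : (P : Subgroup G).Normal := Subgroup.Normal.of_commutator_le (h := hG'P)
  obtain ⟨A, hA⟩ := Subgroup.exists_right_complement'_of_coprime P.card_coprime_index
  have hcard : Nat.card (P : Subgroup G) * Nat.card A = Nat.card G := hA.card_mul
  have hPidx : (P : Subgroup G).index = Nat.card A := hA.symm.index_eq_card
  have hAp : (Nat.card A).Coprime p := by
    rw [← hPidx]
    exact (hp.coprime_iff_not_dvd.mpr P.not_dvd_index).symm
  have hcopAP : (Nat.card A).Coprime (Nat.card (P : Subgroup G)) := by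
    rw [P.card_eq_multiplicity]
    exact hAp.pow_right _
  have hsup : A ⊔ (P : Subgroup G) = ⊤ := by rw [sup_comm]; exact hA.sup_eq_top
  have hAne : A ≠ ⊥ := fun e => hnp ⟨p, hp, by
    have := P.isPGroup'
    rw [show (P : Subgroup G) = ⊤ by rw [← hsup, e, bot_sup_eq]] at this
    exact this.of_equiv Subgroup.topEquiv⟩
  have hinf : A ⊓ (P : Subgroup G) = ⊥ := Subgroup.inf_eq_bot_of_coprime hcopAP
  have hcm : ∀ u v : G, ⁅u, v⁆ ∈ commutator G := fun u v =>
    Subgroup.commutator_mem_commutator (Subgroup.mem_top u) (Subgroup.mem_top v)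
  haveI hAab : IsMulCommutative A := isMulCommutative_iff.mpr fun u v => Subtype.ext <| by
    refine commutatorElement_eq_one_iff_mul_comm.mp ?_
    have h1 : ⁅(u : G), (v : G)⁆ ∈ A ⊓ (P : Subgroup G) := by
      refine ⟨?_, hG'P (hcm _ _)⟩
      rw [commutatorElement_def]
      exact A.mul_mem (A.mul_mem (A.mul_mem u.2 v.2) (A.inv_mem u.2)) (A.inv_mem v.2)
    rwa [hinf, Subgroup.mem_bot] at h1
  haveI hAsolv : Group.IsSolvable A := isSolvable_of_comm fun u v => isMulCommutative_iff.mp hAab u v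
  have hAP : A ≤ Subgroup.normalizer ((P : Subgroup G) : Set G) := by
    rw [Subgroup.normalizer_eq_top]; exact le_top
  have hAN : A ≤ Subgroup.normalizer ((commutator G : Subgroup G) : Set G) := by
    rw [Subgroup.normalizer_eq_top]; exact le_top
  have hcen : ∀ a ∈ A, a ≠ 1 →
      Nat.card (Subgroup.centralizer ({a} : Set G)) = (commutator G).index := by
    intro a ha ha1
    refine card_centralizer_of_vanish fun χ hχ => (hall χ hχ).2 a ?_
    obtain ⟨q, hq, hqd⟩ := Nat.exists_prime_and_dvd (mt orderOf_eq_one_iff.mp ha1)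
    exact ⟨q, hq, fun e => hp.coprime_iff_not_dvd.mp hAp.symm
      (e ▸ hqd.trans (Subgroup.orderOf_dvd_natCard A ha)), hqd⟩
  have hrep : ∀ S : Subgroup G, S ≤ A → ∀ u ∈ (P : Subgroup G),
      ∃ c ∈ (P : Subgroup G) ⊓ Subgroup.centralizer (S : Set G), u⁻¹ * c ∈ commutator G := by
    intro S hS u hu
    refine Coprime.exists_centralizing_rep S (P : Subgroup G) (hS.trans hAP)
      (hcopAP.coprime_dvd_left (Subgroup.card_dvd_of_le hS)) (Or.inl ?_) (commutator G) hG'P
      (hS.trans hAN) hu fun s _ => ?_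
    · exact @Group.isSolvable_of_isSolvable_injective _ _ _ _ (Subgroup.inclusion hS)
        (Subgroup.inclusion_injective hS) hAsolv
    · have : u⁻¹ * (s * u * s⁻¹) = ⁅u⁻¹, s⁆ := by simp [commutatorElement_def, mul_assoc]
      rw [this]
      exact hcm _ _
  -- the centralizer in `P` of a nontrivial element of `A` complements the derived group
  have hdisj : ∀ a ∈ A, a ≠ 1 → ∀ z ∈ (P : Subgroup G), a * z = z * a → z ∈ commutator G →
      z = 1 := by
    intro a ha ha1 z hzP hza hzG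
    set C := Subgroup.centralizer ({a} : Set G) with hC
    set CP := (P : Subgroup G) ⊓ C with hCP
    have hAC : A ≤ C := fun b hb => Subgroup.mem_centralizer_singleton_iff.mpr
      (congrArg Subtype.val (isMulCommutative_iff.mp hAab (⟨b, hb⟩ : A) ⟨a, ha⟩))
    have hCcard : Nat.card C = Nat.card A * Nat.card CP := by
      rw [← Nat.card_prod]
      refine (Nat.card_eq_of_bijective (fun t : A × CP => (⟨(t.1 : G) * t.2,
        C.mul_mem (hAC t.1.2) t.2.2.2⟩ : C)) ⟨?_, ?_⟩).symm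
      · rintro ⟨b, c⟩ ⟨b', c'⟩ e
        have e' : (b : G) * c = b' * c' := congrArg Subtype.val e
        have h1 : (b' : G)⁻¹ * b ∈ A ⊓ (P : Subgroup G) := by
          refine ⟨A.mul_mem (A.inv_mem b'.2) b.2, ?_⟩
          rw [show (b' : G)⁻¹ * b = c' * (c : G)⁻¹ by
            rw [eq_mul_inv_iff_mul_eq, mul_assoc, e', inv_mul_cancel_left]]
          exact (P : Subgroup G).mul_mem c'.2.1 ((P : Subgroup G).inv_mem c.2.1)
        rw [hinf, Subgroup.mem_bot, inv_mul_eq_one] at h1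
        obtain rfl : b = b' := Subtype.ext h1.symm
        exact Prod.ext rfl (Subtype.ext (mul_left_cancel e'))
      · rintro ⟨g, hg⟩
        obtain ⟨⟨u, b⟩, hub⟩ := hA.2 g
        have hub' : (u : G) * b = g := hub
        have huC : (u : G) ∈ C := by
          rw [show (u : G) = g * (b : G)⁻¹ by rw [← hub', mul_inv_cancel_right]]
          exact C.mul_mem hg (C.inv_mem (hAC b.2))
        refine ⟨(b, ⟨(b : G)⁻¹ * u * b, ?_, C.mul_mem (C.mul_mem (C.inv_mem (hAC b.2)) huC)
          (hAC b.2)⟩), Subtype.ext ?_⟩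
        · have := hPn.conj_mem _ u.2 (b : G)⁻¹
          rwa [inv_inv] at this
        · show (b : G) * ((b : G)⁻¹ * u * b) = g
          rw [← mul_assoc, ← mul_assoc, mul_inv_cancel, one_mul, hub']
    have hprod : Nat.card CP * Nat.card (commutator G) = Nat.card (P : Subgroup G) := by
      refine Nat.eq_of_mul_eq_mul_left (Nat.card_pos (α := A)) ?_
      rw [← mul_assoc, ← hCcard, hcen a ha ha1, mul_comm, Subgroup.card_mul_index, ← hcard,
        mul_comm]
    haveI := Fintype.ofFinite CP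
    haveI := Fintype.ofFinite (commutator G)
    let f : CP × commutator G → (P : Subgroup G) := fun t =>
      ⟨(t.1 : G) * t.2, (P : Subgroup G).mul_mem t.1.2.1 (hG'P t.2.2)⟩
    have hsurj : Function.Surjective f := by
      rintro ⟨u, hu⟩
      obtain ⟨c, hc, hn⟩ := hrep (Subgroup.zpowers a) (Subgroup.zpowers_le.mpr ha) u hu
      refine ⟨(⟨c, hc.1, Subgroup.mem_centralizer_singleton_iff.mpr
        (Subgroup.mem_centralizer_iff.mp hc.2 a (Subgroup.mem_zpowers a)).symm⟩,
        ⟨(u⁻¹ * c)⁻¹, (commutator G).inv_mem hn⟩), Subtype.ext ?_⟩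
      show c * (u⁻¹ * c)⁻¹ = u
      group
    have hinj : Function.Injective f :=
      (hsurj.bijective_of_nat_card_le (by rw [Nat.card_prod, hprod])).injective
    have h2 := @hinj (⟨z, hzP, Subgroup.mem_centralizer_singleton_iff.mpr hza.symm⟩, 1)
      (1, ⟨z, hzG⟩) (Subtype.ext (by simp [f]))
    exact congrArg (fun t : CP × commutator G => (t.1 : G)) h2
  obtain ⟨a₁, ha₁, ha₁1⟩ : ∃ a ∈ A, a ≠ (1 : G) := by
    by_contra h'; push Not at h'
    exact hAne (eq_bot_iff.mpr fun x hx => Subgroup.mem_bot.mpr (h' x hx))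
  set C := (P : Subgroup G) ⊓ Subgroup.centralizer (A : Set G) with hCdef
  set D := ⁅A, (P : Subgroup G)⁆ with hDdef
  have hCG' : ∀ z ∈ C, z ∈ commutator G → z = 1 := fun z hz hzG =>
    hdisj a₁ ha₁ ha₁1 z hz.1 (Subgroup.mem_centralizer_iff.mp hz.2 a₁ ha₁) hzG
  have hDle : D ≤ commutator G := Subgroup.commutator_mono le_top le_top
  haveI hDn : D.Normal := Subgroup.normalizer_eq_top_iff.mp (top_le_iff.mp (hsup ▸ sup_le
    (Coprime.le_normalizer_commutator_left A (P : Subgroup G))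
    (Coprime.le_normalizer_commutator_right A (P : Subgroup G))))
  have hCD : C ⊔ D = (P : Subgroup G) := by
    have := Coprime.commutator_sup_centralizer A (P : Subgroup G) hAP hcopAP (Or.inl hAsolv)
    rw [Subgroup.commutator_comm, sup_comm] at this
    exact this
  have hG'D : commutator G ≤ D := fun z hz => by
    obtain ⟨c, hc, d, hd, rfl⟩ := Subgroup.mem_sup_of_normal_right.mp (hCD ▸ hG'P hz : z ∈ C ⊔ D)
    have hc' : c ∈ commutator G := by
      have := (commutator G).mul_mem hz ((commutator G).inv_mem (hDle hd))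
      rwa [mul_inv_cancel_right] at this
    rw [hCG' c hc hc', one_mul]
    exact hd
  have hDne : D ≠ ⊥ := fun e => hnab <| isMulCommutative_iff.mpr fun u v => by
    have h1 := hG'D (hcm u v)
    rw [e, Subgroup.mem_bot] at h1
    exact commutatorElement_eq_one_iff_mul_comm.mp h1
  have hfpf : ∀ a ∈ A, a ≠ 1 → ∀ d ∈ D, a * d = d * a → d = 1 := fun a ha ha1 d hd hcomm =>
    hdisj a ha ha1 d (hG'P (hDle hd)) hcomm (hDle hd)
  refine ⟨p, ‹_›, P, A, hPn, FewOrders.isCyclic_of_conj_fpf D A hDne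
    (fun s hs hs1 v hv hcomm => hfpf s hs hs1 v hv hcomm.eq), hAne, hAp, hsup,
    isMulCommutative_iff.mpr fun u v => Subtype.ext (commutatorElement_eq_one_iff_mul_comm.mp
      (hCG' _ ?_ (hcm _ _))), hDn, hCD, eq_bot_iff.mpr fun z hz =>
      Subgroup.mem_bot.mpr (hCG' z hz.1 (hDle hz.2)), hfpf⟩
  rw [commutatorElement_def]
  exact C.mul_mem (C.mul_mem (C.mul_mem u.2 v.2) (C.inv_mem u.2)) (C.inv_mem v.2)

theorem backward (h : Shape G) : Mult G := by
  classical
  haveI := Fintype.ofFinite G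
  obtain ⟨p, hpF, P, A, hPn, hAc, hAne, hAp, hsup, hCab, hDn, hCD, hCDdisj, hfpf⟩ := h
  haveI := hPn
  haveI := hDn
  have hp := hpF.out
  set C := (P : Subgroup G) ⊓ Subgroup.centralizer (A : Set G) with hC
  set D := ⁅A, (P : Subgroup G)⁆ with hD
  have hDP : D ≤ (P : Subgroup G) := Subgroup.commutator_le_right A (P : Subgroup G)
  have hdec : ∀ g : G, ∃ a ∈ A, ∃ c ∈ C, ∃ d ∈ D, g = a * c * d := fun g => by
    have hg : g ∈ A ⊔ (P : Subgroup G) := hsup ▸ Subgroup.mem_top g
    obtain ⟨a, ha, u, hu, rfl⟩ := Subgroup.mem_sup_of_normal_right.mp hg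
    obtain ⟨c, hc, d, hd, rfl⟩ := Subgroup.mem_sup_of_normal_right.mp (hCD ▸ hu : u ∈ C ⊔ D)
    exact ⟨a, ha, c, hc, d, hd, (mul_assoc a c d).symm⟩
  haveI : IsMulCommutative A := IsCyclic.isMulCommutative
  have hAC : ∀ a ∈ A, ∀ c ∈ C, a * c = c * a := fun a ha c hc =>
    Subgroup.mem_centralizer_iff.mp hc.2 a ha
  have hG'D : commutator G ≤ D := by
    refine (Subgroup.Normal.quotient_commutative_iff_commutator_le (N := D)).mp
      (isMulCommutative_iff.mpr fun x y => ?_)
    obtain ⟨g, rfl⟩ := QuotientGroup.mk'_surjective D x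
    obtain ⟨g', rfl⟩ := QuotientGroup.mk'_surjective D y
    obtain ⟨a, ha, c, hc, d, hd, rfl⟩ := hdec g
    obtain ⟨a', ha', c', hc', d', hd', rfl⟩ := hdec g'
    have hk : ∀ d ∈ D, (QuotientGroup.mk' D) d = 1 := fun d hd =>
      (QuotientGroup.eq_one_iff d).mpr hd
    rw [map_mul _ (a * c) d, map_mul _ (a' * c') d', hk d hd, hk d' hd', mul_one, mul_one,
      ← map_mul, ← map_mul]
    congr 1
    calc a * c * (a' * c') = a * (c * a') * c' := by group
      _ = a * a' * (c * c') := by rw [← hAC a' ha' c hc]; group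
      _ = a' * a * (c' * c) := by
          rw [show a * a' = a' * a from congrArg Subtype.val
              (isMulCommutative_iff.mp ‹IsMulCommutative A› ⟨a, ha⟩ ⟨a', ha'⟩),
            show c * c' = c' * c from congrArg Subtype.val
              (isMulCommutative_iff.mp hCab ⟨c, hc⟩ ⟨c', hc'⟩)]
      _ = a' * (a * c') * c := by group
      _ = a' * c' * (a * c) := by rw [hAC a ha c' hc']; group
  have hDG : D = commutator G :=
    le_antisymm (Subgroup.commutator_mono le_top le_top) hG'D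
  -- the centralizers outside `P`
  have hcen : ∀ g : G, g ∉ (P : Subgroup G) →
      Nat.card (Subgroup.centralizer ({g} : Set G)) = (commutator G).index := by
    intro g hg
    obtain ⟨a, ha, c, hc, d, hd, rfl⟩ := hdec g
    have ha1 : a ≠ 1 := fun e => hg (by
      rw [e, one_mul]; exact (P : Subgroup G).mul_mem hc.1 (hDP hd))
    set x := a * c with hx
    have hcoprime : (orderOf a).Coprime (orderOf c) := by
      obtain ⟨i, hi⟩ := IsPGroup.iff_orderOf.1 P.isPGroup' ⟨c, hc.1⟩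
      rw [← Subgroup.orderOf_mk c hc.1, hi]
      exact (hAp.coprime_dvd_left (Subgroup.orderOf_dvd_natCard A ha)).pow_right i
    obtain ⟨k, hk⟩ : ∃ k : ℕ, x ^ k = a := by
      obtain ⟨k, hk1, hk0⟩ := Nat.chineseRemainder hcoprime 1 0
      refine ⟨k, ?_⟩
      rw [hx, (show Commute a c from hAC a ha c hc).mul_pow, pow_eq_pow_iff_modEq.mpr hk1,
        pow_eq_pow_iff_modEq.mpr hk0, pow_one, pow_zero, mul_one]
    let φ : D → D := fun e => ⟨x⁻¹ * e * x * (e : G)⁻¹, D.mul_mem (by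
      have := hDn.conj_mem _ e.2 x⁻¹
      rwa [inv_inv] at this) (D.inv_mem e.2)⟩
    have hφ : Function.Injective φ := fun e e' hee => by
      have h1 : x⁻¹ * (e : G) * x * (e : G)⁻¹ = x⁻¹ * (e' : G) * x * (e' : G)⁻¹ :=
        congrArg Subtype.val hee
      have h2 : Commute x ((e' : G)⁻¹ * e) := by
        show x * ((e' : G)⁻¹ * e) = (e' : G)⁻¹ * e * x
        calc x * ((e' : G)⁻¹ * e)
            = (e' : G)⁻¹ * x * (x⁻¹ * (e' : G) * x * (e' : G)⁻¹) * e := by group
          _ = (e' : G)⁻¹ * x * (x⁻¹ * (e : G) * x * (e : G)⁻¹) * e := by rw [h1]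
          _ = (e' : G)⁻¹ * e * x := by group
      have h3 := (h2.pow_left k)
      rw [hk] at h3
      exact Subtype.ext (inv_mul_eq_one.mp
        (hfpf a ha ha1 _ (D.mul_mem (D.inv_mem e'.2) e.2) h3.eq)).symm
    obtain ⟨e, he⟩ := (Finite.injective_iff_surjective.mp hφ) ⟨d, hd⟩
    have he' : x⁻¹ * (e : G) * x * (e : G)⁻¹ = d := congrArg Subtype.val he
    have hgx : IsConj x (x * d) := isConj_iff.mpr ⟨e, by rw [← he']; group⟩
    have hclass : Nat.card {y : G // IsConj x y} = Nat.card D := by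
      refine Nat.card_congr (Equiv.symm (Equiv.ofBijective (fun e : D => (⟨x * e, ?_⟩ :
        {y : G // IsConj x y})) ⟨fun e e' h => Subtype.ext (mul_left_cancel
          (congrArg Subtype.val h)), fun ⟨y, hy⟩ => ?_⟩))
      · obtain ⟨e', he''⟩ := (Finite.injective_iff_surjective.mp hφ) e
        exact isConj_iff.mpr ⟨e', by
          rw [← (show x⁻¹ * (e' : G) * x * (e' : G)⁻¹ = e from congrArg Subtype.val he'')]; group⟩
      · obtain ⟨w, hw⟩ := isConj_iff.mp hy
        have hm : x⁻¹ * y ∈ D := hG'D (by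
          rw [← hw, show x⁻¹ * (w * x * w⁻¹) = ⁅x⁻¹, w⁆ by
            rw [commutatorElement_def]; group]
          exact Subgroup.commutator_mem_commutator (Subgroup.mem_top _) (Subgroup.mem_top _))
        exact ⟨⟨_, hm⟩, Subtype.ext (mul_inv_cancel_left x y)⟩
    have hcl : Nat.card {y : G // IsConj (x * d) y} = Nat.card D := by
      rw [← hclass]
      exact Nat.card_congr (Equiv.subtypeEquivRight fun y =>
        ⟨fun h => hgx.trans h, fun h => hgx.symm.trans h⟩)
    have hmul := card_isConj_mul_card_centralizer (x * d)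
    rw [hcl, ← (commutator G).card_mul_index, hDG] at hmul
    exact Nat.eq_of_mul_eq_mul_left Nat.card_pos hmul
  intro x y χ hx hy hord
  obtain ⟨r, q, i, j, hr, hq, hrq, hox, hoy⟩ := hord
  by_cases hχ : charDegree (χ : G → ℂ) = 1
  · have h1 : (χ : G → ℂ) 1 = 1 := by rw [(degree_eq χ).1, hχ, Nat.cast_one]
    exact CharIto.map_mul_of_degree_one (irr_isCharacter χ) h1 x y
  have hv : ∀ g, g ∉ (P : Subgroup G) → (χ : G → ℂ) g = 0 := fun g hg =>
    vanish_of_card_centralizer (hcen g hg) χ hχ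
  have hpP : ∀ z ∈ (P : Subgroup G), ∀ l : ℕ, ∀ t : ℕ, l.Prime → z ≠ 1 → orderOf z = l ^ t →
      l = p := by
    intro z hz l t hl hz1 hzo
    obtain ⟨i', hi'⟩ := IsPGroup.iff_orderOf.1 P.isPGroup' ⟨z, hz⟩
    rw [Subgroup.orderOf_mk z hz, hzo] at hi'
    rcases Nat.eq_zero_or_pos t with rfl | ht
    · exact absurd (orderOf_eq_one_iff.mp (hzo.trans (pow_zero l))) hz1
    · exact (Nat.prime_dvd_prime_iff_eq hl hp).mp
        (hl.dvd_of_dvd_pow (hi' ▸ dvd_pow_self l ht.ne'))
  by_cases hxP : x ∈ (P : Subgroup G)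
  · have hyP : y ∉ (P : Subgroup G) := fun hyP =>
      hrq ((hpP x hxP r i hr hx hox).trans (hpP y hyP q j hq hy hoy).symm)
    rw [hv y hyP, mul_zero, hv _ fun h => hyP ((Subgroup.mul_mem_cancel_left _ hxP).mp h)]
  · rw [hv x hxP, zero_mul]
    refine hv _ fun h => hxP ?_
    rw [← QuotientGroup.eq_one_iff] at h ⊢
    rw [QuotientGroup.mk_mul] at h
    refine orderOf_eq_one_iff.mp (Nat.eq_one_of_dvd_coprimes
      (Nat.Coprime.pow i j ((Nat.coprime_primes hr hq).mpr hrq)) ?_ ?_)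
    · rw [← hox]; exact orderOf_map_dvd (QuotientGroup.mk' (P : Subgroup G)) x
    · rw [eq_inv_of_mul_eq_one_left h, orderOf_inv, ← hoy]
      exact orderOf_map_dvd (QuotientGroup.mk' (P : Subgroup G)) y

/-- For a finite group G the following are equivalent. (1) χ(x y) = χ(x) χ(y) for every irreducible character χ and all non-identity elements x, y of prime power orders for two different primes. (2) G is a p-group for some prime p, or G is abelian, or for some prime p: G = A P with P a normal Sylow p-subgroup and A a nontrivial cyclic subgroup of order prime to p such that, with C = C_P(A) and D = [A, P], one has P = C D, C abelian, D normal in G, C ∩ D = 1, and A acts fixed-point-freely on D (no non-identity element of A centralizes a non-identity element of D). -/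
theorem result {G : Type*} [Group G] [Finite G] : (∀ (x y : G) (χ : Cfsg.IrrCharacter G), x ≠ 1 → y ≠ 1 → (∃ p q a b : ℕ, p.Prime ∧ q.Prime ∧ p ≠ q ∧ orderOf x = p ^ a ∧ orderOf y = q ^ b) → (χ : G → ℂ) (x * y) = (χ : G → ℂ) x * (χ : G → ℂ) y) ↔ ((∃ p : ℕ, p.Prime ∧ IsPGroup p G) ∨ IsMulCommutative G ∨ ∃ (p : ℕ) (_ : Fact p.Prime) (P : Sylow p G) (A : Subgroup G), (P : Subgroup G).Normal ∧ IsCyclic ↥A ∧ A ≠ ⊥ ∧ (Nat.card ↥A).Coprime p ∧ A ⊔ (P : Subgroup G) = ⊤ ∧ IsMulCommutative ↥((P : Subgroup G) ⊓ Subgroup.centralizer (A : Set G)) ∧ (⁅A, (P : Subgroup G)⁆).Normal ∧ ((P : Subgroup G) ⊓ Subgroup.centralizer (A : Set G)) ⊔ ⁅A, (P : Subgroup G)⁆ = (P : Subgroup G) ∧ ((P : Subgroup G) ⊓ Subgroup.centralizer (A : Set G)) ⊓ ⁅A, (P : Subgroup G)⁆ = ⊥ ∧ ∀ a ∈ A, a ≠ 1 → ∀ d ∈ ⁅A, (P : Subgroup G)⁆, a * d = d * a → d = 1) := by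
  refine ⟨fun h => ?_, fun h => ?_⟩
  · by_cases hab : IsMulCommutative G
    · exact Or.inr (Or.inl hab)
    by_cases hp : ∃ p : ℕ, p.Prime ∧ IsPGroup p G
    · exact Or.inl hp
    exact Or.inr (Or.inr (forward h hab hp))
  · rcases h with ⟨p, hp, hP⟩ | hab | h
    · intro x y χ hx hy hord
      exfalso
      obtain ⟨r, q, a, b, hr, hq, hrq, hox, hoy⟩ := hord
      haveI : Fact p.Prime := ⟨hp⟩
      have key : ∀ z : G, ∀ l t : ℕ, l.Prime → z ≠ 1 → orderOf z = l ^ t → l = p := by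
        intro z l t hl hz hzo
        obtain ⟨i, hi⟩ := IsPGroup.iff_orderOf.1 hP z
        rcases Nat.eq_zero_or_pos t with rfl | ht
        · exact absurd (orderOf_eq_one_iff.mp (hzo.trans (pow_zero l))) hz
        · exact (Nat.prime_dvd_prime_iff_eq hl hp).mp
            (hl.dvd_of_dvd_pow ((hzo.symm.trans hi) ▸ dvd_pow_self l ht.ne'))
      exact hrq ((key x r a hr hx hox).trans (key y q b hq hy hoy).symm)
    · intro x y χ hx hy hord
      haveI := hab
      exact CfsgLib.CharIto.map_mul_of_degree_one (CfsgLib.Characters.irr_isCharacter χ)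
        (CfsgLib.CharIto.degree_one_of_comm χ.2) x y
    · exact backward h

end Cfsg.Agent.S4756
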