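import Cfsg.Statements.S4757
import Cfsg.Agent.Lib.Blocks.ClassCount
import Cfsg.Agent.Lib.Characters.Counting
import Cfsg.Agent.Lib.PCore.Basic

set_option autoImplicit false
open Cfsg

namespace Cfsg.Agent.S4757

/-- Let u ≠ 1 be an element of the finite group G and c a complex number such that every non-principal irreducible character χ satisfies χ(1) − χ(u) = c or χ(u) = 0. Then the following are equivalent: (a) u has order 2, G is generated by u together with O(G), the largest normal subgroup of G of odd order, and the centralizer of u is {1, u}; (b) G is not perfect; (c) c = 2. -/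
theorem result {G : Type*} [Group G] [Finite G] (u : G) (hu : u ≠ 1) (c : ℂ) (hyp : ∀ χ : Cfsg.IrrCharacter G, (χ : G → ℂ) ≠ (fun _ => (1 : ℂ)) → ((χ : G → ℂ) 1 - (χ : G → ℂ) u = c ∨ (χ : G → ℂ) u = 0)) : ((orderOf u = 2 ∧ Subgroup.zpowers u ⊔ Cfsg.oddCore G = ⊤ ∧ Subgroup.centralizer ({u} : Set G) = Subgroup.zpowers u) ↔ commutator G ≠ ⊤) ∧ (commutator G ≠ ⊤ ↔ c = 2) := by
  classical
  have : Fintype G := Fintype.ofFinite G
  have hcol0 : ∑ χ : Cfsg.IrrCharacter G, (χ : G → ℂ) 1 * (χ : G → ℂ) u = 0 := by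
    rw [CfsgLib.Characters.sum_degree_mul_irr, if_neg hu]
  let one : Cfsg.IrrCharacter G := ⟨fun _ => 1, CfsgLib.Characters.isIrrCharacter_one⟩
  have hone : ∀ χ : Cfsg.IrrCharacter G, χ ≠ one → (χ : G → ℂ) ≠ fun _ => (1 : ℂ) :=
    fun χ hχ h => hχ (Subtype.ext h)
  have hdeg : ∀ χ : Cfsg.IrrCharacter G, ∃ d : ℕ, 0 < d ∧ (χ : G → ℂ) 1 = d := fun χ =>
    ⟨_, (CfsgLib.ClassCount.degree_eq χ).2.2, (CfsgLib.ClassCount.degree_eq χ).1⟩
  -- the value at `u` as an integer, when `c` is `0` or `2`
  have hval : ∀ e : ℕ, c = e → ∀ χ : Cfsg.IrrCharacter G, χ ≠ one →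
      ∃ d : ℕ, 0 < d ∧ (χ : G → ℂ) 1 = d ∧
        ((χ : G → ℂ) u = ((d : ℤ) - e : ℤ) ∨ (χ : G → ℂ) u = 0) := by
    intro e he χ hχ
    obtain ⟨d, hd, hd1⟩ := hdeg χ
    refine ⟨d, hd, hd1, ?_⟩
    rcases hyp χ (hone χ hχ) with h | h
    · left
      push_cast
      rw [← hd1, ← he]
      linear_combination -h
    · exact Or.inr h
  have hsum_pos : ∀ e : ℕ, c = e → (∀ χ : Cfsg.IrrCharacter G, χ ≠ one → ∀ d : ℕ,
      (χ : G → ℂ) 1 = d → e ≤ d) → False := by
    intro e he hge
    have key : ∀ χ : Cfsg.IrrCharacter G, ∃ n : ℕ, (χ : G → ℂ) 1 * (χ : G → ℂ) u = n := by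
      intro χ
      by_cases hχ : χ = one
      · exact ⟨1, by subst hχ; simp [one]⟩
      · obtain ⟨d, hd, hd1, h | h⟩ := hval e he χ hχ
        · refine ⟨d * (d - e), ?_⟩
          rw [hd1, h]
          push_cast [Nat.cast_sub (hge χ hχ d hd1)]
          ring
        · exact ⟨0, by rw [h]; simp⟩
    choose n hn using key
    have h1 : n one = 1 := by
      have := hn one
      simp [one] at this
      exact_mod_cast this.symm
    rw [Finset.sum_congr rfl fun χ _ => hn χ, ← Nat.cast_sum, Nat.cast_eq_zero,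
      Finset.sum_eq_zero_iff] at hcol0
    exact one_ne_zero (h1.symm.trans (hcol0 one (Finset.mem_univ _)))
  have hlin : commutator G ≠ ⊤ ↔ ∃ χ : Cfsg.IrrCharacter G, χ ≠ one ∧ (χ : G → ℂ) 1 = 1 := by
    rw [Ne, ← Subgroup.index_eq_one, ← CfsgLib.Characters.card_linear_irr]
    constructor
    · intro hne
      by_contra hno
      simp only [not_exists, not_and] at hno
      apply hne
      have : Unique {χ : Cfsg.IrrCharacter G // (χ : G → ℂ) 1 = 1} :=
        { default := ⟨one, rfl⟩
          uniq := fun χ => Subtype.ext (by by_contra h; exact hno χ.1 h χ.2) }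
      exact Nat.card_unique
    · rintro ⟨χ, hχ, hχ1⟩ hc
      have := (Nat.card_eq_one_iff_unique.1 hc).1
      exact hχ (congrArg Subtype.val (this.elim ⟨χ, hχ1⟩ ⟨one, rfl⟩))
  -- a non-trivial linear character takes the value `1 - c` at `u`
  have hlval : ∀ f : G →* ℂˣ, CfsgLib.Characters.linearIrr f ≠ one → (f u : ℂ) = 1 - c := by
    intro f hf
    rcases hyp _ (hone _ hf) with h | h
    · have h' : ((f 1 : ℂˣ) : ℂ) - (f u : ℂ) = c := h
      rw [map_one, Units.val_one] at h'
      linear_combination -h'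
    · exact absurd h (f u).ne_zero
  have hA : commutator G ≠ ⊤ → c = 2 ∧
      ∃ f : G →* ℂˣ, (f u : ℂ) = -1 ∧ ∀ χ : Cfsg.IrrCharacter G, χ ≠ one →
        (χ : G → ℂ) 1 = 1 → χ = CfsgLib.Characters.linearIrr f := by
    intro hne
    obtain ⟨χ, hχ, hχ1⟩ := hlin.1 hne
    obtain ⟨f, rfl⟩ := CfsgLib.Characters.exists_linearIrr_eq χ hχ1
    have huniq : ∀ f' : G →* ℂˣ, CfsgLib.Characters.linearIrr f' ≠ one → f' = f := by
      intro f' hf'
      by_contra hff
      have hne1 : CfsgLib.Characters.linearIrr (f' * f⁻¹) ≠ one := by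
        intro h
        apply hff
        refine MonoidHom.ext fun g => Units.ext ?_
        have := congrFun (congrArg Subtype.val h) g
        change ((f' g * (f g)⁻¹ : ℂˣ) : ℂ) = 1 at this
        rw [Units.val_mul, Units.val_inv_eq_inv_val] at this
        have hfg := (f g).ne_zero
        field_simp at this
        exact this
      have h1 := hlval _ hne1
      change ((f' u * (f u)⁻¹ : ℂˣ) : ℂ) = 1 - c at h1
      rw [Units.val_mul, Units.val_inv_eq_inv_val, hlval f' hf', ← hlval f hχ,
        mul_inv_cancel₀ (f u).ne_zero, hlval f hχ] at h1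
      have hc0 : c = ((0 : ℕ) : ℂ) := by push_cast; linear_combination h1
      exact hsum_pos 0 hc0 (fun _ _ d _ => Nat.zero_le d)
    have hsq : (f u : ℂ) * (f u : ℂ) = 1 := by
      by_contra hsq
      have hne1 : CfsgLib.Characters.linearIrr f⁻¹ ≠ one := by
        intro h
        apply hχ
        refine Subtype.ext (funext fun g => ?_)
        have := congrFun (congrArg Subtype.val h) g
        change (((f g)⁻¹ : ℂˣ) : ℂ) = 1 at this
        show (f g : ℂ) = 1
        rw [Units.val_inv_eq_inv_val, inv_eq_one] at this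
        exact this
      have := huniq _ hne1
      apply hsq
      have h2 : (f u)⁻¹ = f u := DFunLike.congr_fun this u
      rw [← Units.val_mul]
      conv_lhs => rw [← h2]
      rw [h2]
      nth_rewrite 1 [← h2]
      rw [inv_mul_cancel, Units.val_one]
    rcases mul_self_eq_one_iff.1 hsq with h | h
    · exfalso
      have hc0 : c = ((0 : ℕ) : ℂ) := by
        have := hlval f hχ
        rw [h] at this
        push_cast; linear_combination this
      exact hsum_pos 0 hc0 (fun _ _ d _ => Nat.zero_le d)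
    · refine ⟨?_, f, h, fun χ' hχ' hχ'1 => ?_⟩
      · have := hlval f hχ
        rw [h] at this
        linear_combination this
      · obtain ⟨f', rfl⟩ := CfsgLib.Characters.exists_linearIrr_eq χ' hχ'1
        rw [huniq f' hχ']
  have hB : c = 2 → commutator G ≠ ⊤ := by
    intro hc
    refine hlin.2 ?_
    by_contra hno
    simp only [not_exists, not_and] at hno
    refine hsum_pos 2 (by rw [hc]; norm_num) fun χ hχ d hd => ?_
    obtain ⟨d', hd', hd1⟩ := hdeg χ
    have hdd : d = d' := by exact_mod_cast hd.symm.trans hd1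
    subst hdd
    by_contra hlt
    have : d = 1 := by omega
    subst this
    exact hno χ hχ (by rw [hd]; norm_num)
  refine ⟨⟨?_, ?_⟩, ⟨fun h => (hA h).1, hB⟩⟩
  · rintro ⟨hord, htop, -⟩ hcomm
    have hO : (Cfsg.oddCore G).Normal := Subgroup.sSup_normal _ (fun _ h => h.1)
    have hcyc : ∀ q : G ⧸ Cfsg.oddCore G, q ∈ Subgroup.zpowers (QuotientGroup.mk u) := by
      intro q
      induction q using QuotientGroup.induction_on with
      | _ g =>
        have hg : g ∈ Subgroup.zpowers u ⊔ Cfsg.oddCore G := by rw [htop]; exact Subgroup.mem_top g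
        obtain ⟨a, ⟨k, hk⟩, b, hb, hab⟩ := Subgroup.mem_sup_of_normal_right.1 hg
        refine ⟨k, ?_⟩
        subst hab; subst hk
        show (QuotientGroup.mk u : G ⧸ Cfsg.oddCore G) ^ k = _
        rw [QuotientGroup.mk_mul, (QuotientGroup.eq_one_iff b).2 hb, mul_one, QuotientGroup.mk_zpow]
    have hle : commutator G ≤ Cfsg.oddCore G := by
      rw [commutator_def, Subgroup.commutator_le]
      intro a _ b _
      rw [← QuotientGroup.eq_one_iff]
      obtain ⟨i, hi⟩ := hcyc (QuotientGroup.mk a)
      obtain ⟨j, hj⟩ := hcyc (QuotientGroup.mk b)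
      rw [← QuotientGroup.mk'_apply, map_commutatorElement, QuotientGroup.mk'_apply,
        QuotientGroup.mk'_apply, ← hi, ← hj, commutatorElement_eq_one_iff_mul_comm]
      exact (Commute.zpow_zpow (Commute.refl _) i j).eq
    rw [hcomm] at hle
    have h2 : ¬ 2 ∣ Nat.card (Cfsg.oddCore G) := CfsgLib.PCore.not_dvd_card_pPrimeCore
    rw [top_le_iff.1 hle, Subgroup.card_top] at h2
    exact h2 (hord ▸ orderOf_dvd_natCard u)
  · intro hne
    obtain ⟨hc, f, hfu, hf⟩ := hA hne
    have hf1 : CfsgLib.Characters.linearIrr f ≠ one := by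
      intro h
      have := congrFun (congrArg Subtype.val h) u
      change (f u : ℂ) = 1 at this
      rw [hfu] at this
      norm_num at this
    have hnl : ∀ χ : Cfsg.IrrCharacter G, χ ≠ one → χ ≠ CfsgLib.Characters.linearIrr f →
        (χ : G → ℂ) u = 0 := by
      have key : ∀ χ : Cfsg.IrrCharacter G, χ ≠ one → χ ≠ CfsgLib.Characters.linearIrr f →
          ∃ n : ℕ, (χ : G → ℂ) 1 * (χ : G → ℂ) u = n := by
        intro χ h1 h2
        obtain ⟨d, hd, hd1, h | h⟩ := hval 2 (by rw [hc]; norm_num) χ h1
        · have hd2 : 2 ≤ d := by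
            by_contra hlt
            exact h2 (hf χ h1 (by rw [hd1, show d = 1 by omega, Nat.cast_one]))
          refine ⟨d * (d - 2), ?_⟩
          rw [hd1, h]
          push_cast [Nat.cast_sub hd2]
          ring
        · exact ⟨0, by rw [h]; simp⟩
      intro χ h1 h2
      let R := (Finset.univ.erase one).erase (CfsgLib.Characters.linearIrr f)
      have hR : ∑ ψ ∈ R, (ψ : G → ℂ) 1 * (ψ : G → ℂ) u = 0 := by
        rw [← Finset.add_sum_erase _ _ (Finset.mem_univ one),
          ← Finset.add_sum_erase _ _ (Finset.mem_erase.2 ⟨hf1, Finset.mem_univ _⟩)] at hcol0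
        have e1 : (one : G → ℂ) 1 * (one : G → ℂ) u = 1 := by simp [one]
        have e2 : (CfsgLib.Characters.linearIrr f : G → ℂ) 1 *
            (CfsgLib.Characters.linearIrr f : G → ℂ) u = -1 := by
          show (f 1 : ℂ) * (f u : ℂ) = -1
          rw [map_one, hfu]; simp
        rw [e1, e2] at hcol0
        linear_combination hcol0
      have hmem : ∀ ψ ∈ R, ψ ≠ one ∧ ψ ≠ CfsgLib.Characters.linearIrr f := by
        intro ψ hψ
        simp only [R, Finset.mem_erase] at hψ
        exact ⟨hψ.2.1, hψ.1⟩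
      choose! n hn using key
      rw [Finset.sum_congr rfl fun ψ hψ => hn ψ (hmem ψ hψ).1 (hmem ψ hψ).2, ← Nat.cast_sum,
        Nat.cast_eq_zero, Finset.sum_eq_zero_iff] at hR
      have h0 := hn χ h1 h2
      rw [hR χ (by simp [R, h1, h2]), Nat.cast_zero] at h0
      exact (mul_eq_zero.1 h0).resolve_left (CfsgLib.Characters.irr_one_ne_zero χ)
    have hcard : Nat.card (Subgroup.centralizer ({u} : Set G)) = 2 := by
      have h := CfsgLib.Characters.column_orth u u
      rw [if_pos (IsConj.refl u), Fintype.sum_eq_add one (CfsgLib.Characters.linearIrr f) hf1.symm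
        (fun χ hχ => by rw [hnl χ hχ.1 hχ.2, zero_mul])] at h
      change (1 : ℂ) * (starRingEnd ℂ) 1 + (f u : ℂ) * (starRingEnd ℂ) (f u : ℂ) = _ at h
      rw [hfu] at h
      norm_num at h
      rw [Nat.card_eq_fintype_card]
      exact_mod_cast h.symm
    have huC : u ∈ Subgroup.centralizer ({u} : Set G) := by
      rw [Subgroup.mem_centralizer_iff]; rintro x rfl; rfl
    have hord : orderOf u = 2 := by
      have h := Subgroup.orderOf_dvd_natCard _ huC
      rw [hcard] at h
      rcases (Nat.dvd_prime Nat.prime_two).1 h with h | h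
      · exact absurd (orderOf_eq_one_iff.1 h) hu
      · exact h
    have hCz : Subgroup.centralizer ({u} : Set G) = Subgroup.zpowers u := by
      symm
      refine Subgroup.eq_of_le_of_card_ge (Subgroup.zpowers_le.2 huC) ?_
      rw [hcard, Nat.card_zpowers, hord]
    have hP : ∀ P : Sylow 2 G, u ∈ (P : Subgroup G) → Nat.card (P : Subgroup G) = 2 := by
      intro P hu'
      have hle : Subgroup.zpowers u ≤ (P : Subgroup G) := Subgroup.zpowers_le.2 hu'
      have : Nontrivial (P : Subgroup G) :=
        ⟨⟨⟨u, hu'⟩, 1, fun h => hu (congrArg Subtype.val h)⟩⟩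
      have hnt := P.2.center_nontrivial
      obtain ⟨⟨⟨z, hzP⟩, hz⟩, hz1⟩ := exists_ne (1 : Subgroup.center (P : Subgroup G))
      have hzc : ∀ a ∈ (P : Subgroup G), a * z = z * a := fun a ha =>
        congrArg Subtype.val (Subgroup.mem_center_iff.1 hz ⟨a, ha⟩)
      have hzu : z = u := by
        have hzC : z ∈ Subgroup.centralizer ({u} : Set G) := by
          rw [Subgroup.mem_centralizer_iff]; rintro x rfl; exact hzc x hu'
        rw [hCz, Subgroup.mem_zpowers_iff] at hzC
        obtain ⟨k, hk⟩ := hzC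
        rcases Int.even_or_odd k with ⟨j, hj⟩ | ⟨j, hj⟩
        · exfalso
          apply hz1
          refine Subtype.ext (Subtype.ext ?_)
          show z = 1
          rw [← hk, hj, ← two_mul, zpow_mul]
          simp [← hord, pow_orderOf_eq_one]
        · rw [← hk, hj, zpow_add, zpow_mul]
          simp [← hord, pow_orderOf_eq_one]
      have hPle : (P : Subgroup G) ≤ Subgroup.centralizer ({u} : Set G) := by
        intro a ha
        rw [Subgroup.mem_centralizer_iff]
        rintro x rfl
        have := hzc a ha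
        rw [hzu] at this
        exact this.symm
      rw [hCz] at hPle
      rw [le_antisymm hPle hle, Nat.card_zpowers, hord]
    obtain ⟨P, hPu⟩ := (IsPGroup.of_card (n := 1) (by
      rw [Nat.card_zpowers, hord, pow_one] : Nat.card (Subgroup.zpowers u) = 2 ^ 1)).exists_le_sylow
    have hP2 := hP P (hPu (Subgroup.mem_zpowers u))
    refine ⟨hord, ?_, hCz⟩
    let φ : G →* ℂˣ := f
    have hKn : φ.ker.Normal := inferInstance
    have huK : u ∉ φ.ker := by
      intro h
      have : (f u : ℂ) = 1 := by rw [MonoidHom.mem_ker.1 h, Units.val_one]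
      rw [hfu] at this
      norm_num at this
    have hK2 : ¬ 2 ∣ Nat.card φ.ker := by
      intro h2
      obtain ⟨t, ht⟩ := exists_prime_orderOf_dvd_card' 2 h2
      have ht' : orderOf (t : G) = 2 := by rw [Subgroup.orderOf_coe]; exact ht
      obtain ⟨Q, hQ⟩ := (IsPGroup.of_card (n := 1) (by
        rw [Nat.card_zpowers, ht', pow_one] :
          Nat.card (Subgroup.zpowers (t : G)) = 2 ^ 1)).exists_le_sylow
      obtain ⟨g, hg⟩ := MulAction.exists_smul_eq G Q P
      have htP : g * (t : G) * g⁻¹ ∈ (P : Subgroup G) := by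
        rw [← hg, Sylow.coe_subgroup_smul]
        exact Subgroup.smul_mem_pointwise_smul _ _ _ (hQ (Subgroup.mem_zpowers _))
      have hz : Subgroup.zpowers u = (P : Subgroup G) :=
        Subgroup.eq_of_le_of_card_ge hPu (by rw [hP2, Nat.card_zpowers, hord])
      have htK : g * (t : G) * g⁻¹ ∈ φ.ker := hKn.conj_mem _ t.2 g
      rw [← hz, Subgroup.mem_zpowers_iff] at htP
      obtain ⟨k, hk⟩ := htP
      rcases Int.even_or_odd k with ⟨j, hj⟩ | ⟨j, hj⟩
      · have h1 : g * (t : G) * g⁻¹ = 1 := by
          rw [← hk, hj, ← two_mul, zpow_mul]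
          simp [← hord, pow_orderOf_eq_one]
        rw [conj_eq_one_iff] at h1
        rw [h1, orderOf_one] at ht'
        norm_num at ht'
      · apply huK
        have h1 : g * (t : G) * g⁻¹ = u := by
          rw [← hk, hj, zpow_add, zpow_mul]
          simp [← hord, pow_orderOf_eq_one]
        rwa [h1] at htK
    have hKO : φ.ker ≤ Cfsg.oddCore G := CfsgLib.PCore.le_pPrimeCore_of_not_dvd hKn hK2
    rw [eq_top_iff]
    intro g _
    have himg : ∀ a : G, φ a = 1 ∨ φ a = φ u := by
      intro a
      have hsub : CfsgLib.Characters.linearIrr (f * f) = one := by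
        by_contra h
        have h' := hf _ h (by simp [CfsgLib.Characters.linearIrr])
        have := congrFun (congrArg Subtype.val h') u
        change ((f u * f u : ℂˣ) : ℂ) = (f u : ℂ) at this
        rw [Units.val_mul, hfu] at this
        norm_num at this
      have hsq : (f a : ℂ) * (f a : ℂ) = 1 := by
        have := congrFun (congrArg Subtype.val hsub) a
        change ((f a * f a : ℂˣ) : ℂ) = 1 at this
        rwa [Units.val_mul] at this
      rcases mul_self_eq_one_iff.1 hsq with h | h
      · left; exact Units.ext h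
      · right; exact Units.ext (h.trans hfu.symm)
    rcases himg g with h | h
    · exact Subgroup.mem_sup_right (hKO h)
    · have : u⁻¹ * g ∈ φ.ker := by rw [MonoidHom.mem_ker, map_mul, map_inv, h, inv_mul_cancel]
      have e : g = u * (u⁻¹ * g) := by group
      rw [e]
      exact mul_mem (Subgroup.mem_sup_left (Subgroup.mem_zpowers u)) (Subgroup.mem_sup_right (hKO this))

end Cfsg.Agent.S4757
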