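import Cfsg.Statements.S4758
import Cfsg.Agent.Lib.Blocks.ConstFourColumn
import Cfsg.Agent.Lib.Small.OrderSixty
import Cfsg.Agent.Lib.PCore.Basic
import Cfsg.Agent.Lib.TwoGroups.OneInvolution
import Cfsg.Agent.S3378

set_option autoImplicit false
open Cfsg

namespace Cfsg.Agent.S4758

open CfsgLib.ConstFour CfsgLib.Chars17 CfsgLib.ClassCount CfsgLib.Characters

theorem alt_five_two : ∀ h : alternatingGroup (Fin 5), h ^ 4 = 1 → h ^ 2 = 1 := by
  decide +kernel

theorem alt_five_involutions :
    Fintype.card {h : alternatingGroup (Fin 5) // h ^ 2 = 1 ∧ h ≠ 1} = 15 := by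
  decide +kernel

/-- Facts about a simple group of order 60. -/
theorem sixty_facts {Q : Type*} [Group Q] [Finite Q] [IsSimpleGroup Q] (h : Nat.card Q = 60) :
    Nat.card {x : Q // x ^ 2 = 1 ∧ x ≠ 1} = 15 ∧ ∀ x : Q, x ^ 4 = 1 → x ^ 2 = 1 := by
  obtain ⟨e⟩ := CfsgLib.Small.nonempty_mulEquiv_alternating_five h
  refine ⟨?_, fun x hx => e.injective ?_⟩
  · rw [← alt_five_involutions, ← Nat.card_eq_fintype_card]
    exact Nat.card_congr (e.toEquiv.subtypeEquiv fun x => by
      simp [← map_pow])
  · rw [map_pow, map_one]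
    exact alt_five_two _ (by rw [← map_pow, hx, map_one])

/-- A fixed point free involutive conjugation inverts. -/
theorem conj_inverts {G : Type*} [Group G] [Finite G] (D : Subgroup G) (g : G)
    (hD : ∀ x ∈ D, g * x * g⁻¹ ∈ D) (hinv : ∀ x ∈ D, g * (g * x * g⁻¹) * g⁻¹ = x)
    (hfix : ∀ x ∈ D, g * x * g⁻¹ = x → x = 1) :
    (∀ x ∈ D, g * x * g⁻¹ = x⁻¹) ∧ ∀ x ∈ D, ∀ y ∈ D, x * y = y * x := by
  let φ : D →* D :=
    { toFun := fun x => ⟨g * x.1 * g⁻¹, hD x.1 x.2⟩
      map_one' := Subtype.ext (by simp)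
      map_mul' := fun a b => Subtype.ext (by simp [mul_assoc]) }
  have hφ : MonoidHom.FixedPointFree φ := fun x hx =>
    Subtype.ext (hfix x.1 x.2 (congrArg Subtype.val hx))
  have h2 : Function.Involutive φ := fun x => Subtype.ext (hinv x.1 x.2)
  refine ⟨fun x hx => ?_, fun x hx y hy => ?_⟩
  · exact congrArg Subtype.val (congrFun (hφ.coe_eq_inv_of_involutive h2) ⟨x, hx⟩)
  · exact congrArg Subtype.val (hφ.commute_all_of_involutive h2 ⟨x, hx⟩ ⟨y, hy⟩).eq

theorem oddCore_le {G : Type*} [Group G] [Finite G] (K : Subgroup G) [K.Normal]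
    [hs : IsSimpleGroup (G ⧸ K)] (h60 : Nat.card (G ⧸ K) = 60) : oddCore G ≤ K := by
  haveI : (oddCore G).Normal := inferInstance
  rcases hs.eq_bot_or_eq_top_of_normal ((oddCore G).map (QuotientGroup.mk' K))
    ((inferInstance : (oddCore G).Normal).map _ (QuotientGroup.mk'_surjective K)) with e | e
  · rwa [Subgroup.map_eq_bot_iff, QuotientGroup.ker_mk'] at e
  · exfalso
    have h1 := Subgroup.card_map_dvd (f := QuotientGroup.mk' K) (H := oddCore G)
    rw [e, Subgroup.card_top, h60] at h1
    haveI : Fact (Nat.Prime 2) := ⟨Nat.prime_two⟩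
    exact CfsgLib.PCore.not_dvd_card_pPrimeCore (p := 2) (G := G) (dvd_trans (by norm_num) h1)

section Four

variable {G : Type*} [Group G] [Finite G] {u : G}

/-- The structure when `u` has order four. -/
theorem order_four (K : Subgroup G) [K.Normal] [IsSimpleGroup (G ⧸ K)]
    (hK : Nat.card (G ⧸ K) = 60) (hp : commutator G = ⊤) (hu4 : orderOf u = 4)
    (hz : u * u ∈ K) (huK : u ∉ K)
    (hC : Nat.card (Subgroup.centralizer ({u} : Set G)) = 4) :
    IsMulCommutative ↥(oddCore G) ∧
      Nonempty (G ⧸ oddCore G ≃* Matrix.SpecialLinearGroup (Fin 2) (ZMod 5)) := by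
  classical
  haveI := Fintype.ofFinite G
  haveI : Fact (Nat.Prime 2) := ⟨Nat.prime_two⟩
  obtain ⟨hinv15, htwo⟩ := sixty_facts hK
  have hG : Nat.card G = 60 * Nat.card K := by
    rw [Subgroup.card_eq_card_quotient_mul_card_subgroup K, hK]
  set q := QuotientGroup.mk' K with hq
  have hq1 : ∀ x, q x = 1 ↔ x ∈ K := fun x => QuotientGroup.eq_one_iff x
  have hub : q u ^ 2 = 1 ∧ q u ≠ 1 := by
    refine ⟨?_, fun e => huK ((hq1 u).1 e)⟩
    rw [← map_pow, hq1, pow_two]; exact hz
  -- every element over an involution is conjugate to `u`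
  have hconj : ∀ g : G, q g ^ 2 = 1 → q g ≠ 1 → IsConj u g := by
    intro g h1 h2
    have hsub : cls u ⊆ Finset.univ.filter (fun g : G => q g ^ 2 = 1 ∧ q g ≠ 1) := by
      intro x hx
      obtain ⟨c, rfl⟩ := isConj_iff.1 (mem_cls.1 hx)
      simp only [Finset.mem_filter, Finset.mem_univ, true_and, map_mul, map_inv]
      exact ⟨by rw [conj_pow, hub.1, mul_one, mul_inv_cancel], fun e => hub.2
        (conj_eq_one_iff.1 e)⟩
    have hcard : (Finset.univ.filter (fun g : G => q g ^ 2 = 1 ∧ q g ≠ 1)).card ≤ (cls u).card := by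
      have e1 : (Finset.univ.filter (fun g : G => q g ^ 2 = 1 ∧ q g ≠ 1)).card =
          Nat.card K * 15 := by
        rw [← hinv15, ← Fintype.card_subtype, ← Nat.card_eq_fintype_card, ← Nat.card_prod]
        exact Nat.card_congr (QuotientGroup.preimageMkEquivSubgroupProdSet K
          {x : G ⧸ K | x ^ 2 = 1 ∧ x ≠ 1})
      have e2 := card_cls_mul_centralizer u
      rw [hC, hG] at e2
      omega
    have := Finset.eq_of_subset_of_card_le hsub hcard
    exact mem_cls.1 (this ▸ by simp [h1, h2])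
  -- facts about conjugates of `u`
  have hord : ∀ g, IsConj u g → orderOf g = 4 ∧ Subgroup.centralizer ({g} : Set G) =
      Subgroup.zpowers g := by
    intro g hg
    have h4 : orderOf g = 4 := by
      obtain ⟨c, rfl⟩ := isConj_iff.1 hg
      rw [← hu4]
      exact orderOf_injective (MulAut.conj c).toMonoidHom (MulEquiv.injective _) u
    refine ⟨h4, (Subgroup.eq_of_le_of_card_ge ?_ ?_).symm⟩
    · rw [Subgroup.zpowers_le, Subgroup.mem_centralizer_singleton_iff]
    · have e1 := card_cls_mul_centralizer u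
      have e2 := card_cls_mul_centralizer g
      have ec : cls g = cls u := by
        ext x; simp only [mem_cls]; exact ⟨fun h => hg.trans h, fun h => hg.symm.trans h⟩
      rw [ec, ← e1, hC] at e2
      rw [Nat.card_zpowers, h4]
      exact le_of_eq (Nat.eq_of_mul_eq_mul_left (Finset.card_pos.2 ⟨u, mem_cls_self u⟩) e2)
  have hmem4 : ∀ g x : G, IsConj u g → x * g = g * x → x = 1 ∨ x = g ∨ x = g ^ 2 ∨ x = g ^ 3 := by
    intro g x hg hx
    have h1 : x ∈ Subgroup.zpowers g := by
      rw [← (hord g hg).2, Subgroup.mem_centralizer_singleton_iff]; exact hx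
    rw [mem_zpowers_iff_mem_range_orderOf, (hord g hg).1] at h1
    simp only [Finset.mem_image, Finset.mem_range] at h1
    obtain ⟨k, hk, rfl⟩ := h1
    interval_cases k <;> simp
  have hu4' : u ^ 4 = 1 := hu4 ▸ pow_orderOf_eq_one u
  have hz1 : u ^ 2 ≠ 1 := fun e => by
    have := Nat.le_of_dvd two_pos (orderOf_dvd_of_pow_eq_one e); omega
  have hzK : u ^ 2 ∈ K := by rw [pow_two]; exact hz
  -- the Sylow subgroup
  have hpu : IsPGroup 2 (Subgroup.zpowers u) :=
    IsPGroup.of_card (n := 2) (by rw [Nat.card_zpowers, hu4]; norm_num)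
  obtain ⟨W, hW⟩ := hpu.exists_le_sylow
  have huW : u ∈ W := hW (Subgroup.mem_zpowers u)
  let P' : Sylow 2 (G ⧸ K) := W.mapSurjective (QuotientGroup.mk'_surjective K)
  have hP'4 : Nat.card P' = 4 := by
    rw [Sylow.card_eq_multiplicity, hK]
    have : (60 : ℕ).factorization 2 = 2 := by
      rw [show (60 : ℕ) = 2 ^ 2 * 15 by norm_num, Nat.factorization_mul (by norm_num) (by norm_num),
        Finsupp.add_apply, Nat.prime_two.factorization_pow, Finsupp.single_eq_same,
        Nat.factorization_eq_zero_of_not_dvd (by norm_num : ¬ 2 ∣ 15)]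
    rw [this]; norm_num
  have hin : ∀ g ∈ W, q g ∈ (P' : Subgroup (G ⧸ K)) := fun g hg => by
    rw [Sylow.coe_mapSurjective]; exact Subgroup.mem_map_of_mem _ hg
  have hWout : ∀ g ∈ W, g ∉ K → IsConj u g := by
    intro g hg hgK
    refine hconj g (htwo _ ?_) fun e => hgK ((hq1 g).1 e)
    have := orderOf_dvd_natCard (⟨q g, hin g hg⟩ : (P' : Subgroup (G ⧸ K)))
    rw [hP'4, Subgroup.orderOf_mk] at this
    exact orderOf_dvd_iff_pow_eq_one.1 this
  have hW8 : 8 ≤ Nat.card W := by
    have h2 : 2 ∣ Nat.card K := by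
      have h1 : orderOf (⟨u ^ 2, hzK⟩ : K) = 2 := by
        rw [Subgroup.orderOf_mk]
        exact orderOf_eq_prime (by rw [← pow_mul]; exact hu4') hz1
      exact h1 ▸ orderOf_dvd_natCard _
    have h8 : 2 ^ 3 ∣ Nat.card G := by
      obtain ⟨m, hm⟩ := h2
      exact ⟨15 * m, by rw [hG, hm]; ring⟩
    exact Nat.le_of_dvd Nat.card_pos (W.pow_dvd_card_of_pow_dvd_card h8)
  -- `z = u²` is central in `W`
  have hWC : ¬ ∀ g ∈ W, g * u = u * g := by
    intro hall
    have : (W : Subgroup G) ≤ Subgroup.centralizer ({u} : Set G) := fun g hg =>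
      Subgroup.mem_centralizer_singleton_iff.2 (hall g hg)
    have := Subgroup.card_le_of_le this
    omega
  have hzW : ∀ g ∈ W, g * u ^ 2 = u ^ 2 * g := by
    haveI : Nontrivial W := Finite.one_lt_card_iff_nontrivial.1 (by omega)
    haveI := W.2.center_nontrivial
    obtain ⟨⟨⟨c, hcW⟩, hc⟩, hc1⟩ := exists_ne (1 : Subgroup.center (W : Subgroup G))
    have hcc : ∀ g ∈ W, g * c = c * g := fun g hg =>
      congrArg Subtype.val (Subgroup.mem_center_iff.1 hc ⟨g, hg⟩)
    have hne : c ≠ 1 := fun e => hc1 (Subtype.ext (Subtype.ext e))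
    rcases hmem4 u c (IsConj.refl u) (hcc u huW).symm with e | e | e | e
    · exact absurd e hne
    · exact absurd (fun g hg => e ▸ hcc g hg) hWC
    · exact fun g hg => e ▸ hcc g hg
    · refine absurd (fun g hg => ?_) hWC
      have h1 : Commute g (u ^ 3) := e ▸ hcc g hg
      have h2 := h1.pow_right 3
      rwa [← pow_mul, show u ^ (3 * 3) = u by
        rw [show 3 * 3 = 4 * 2 + 1 from rfl, pow_succ, pow_mul, hu4', one_pow, one_mul]] at h2
  have hsq : ∀ g ∈ W, g ∉ K → g ^ 2 = u ^ 2 := by
    intro g hg hgK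
    have hgc := hWout g hg hgK
    have hg4 : g ^ 4 = 1 := (hord g hgc).1 ▸ pow_orderOf_eq_one g
    rcases hmem4 g (u ^ 2) hgc (hzW g hg).symm with e | e | e | e
    · exact absurd e hz1
    · exact absurd (e ▸ hzK) hgK
    · exact e.symm
    · exfalso
      apply hgK
      have h3 : g ^ 3 ∈ K := e ▸ hzK
      have : g = (g ^ 3) ^ 3 := by
        rw [← pow_mul, show 3 * 3 = 4 * 2 + 1 from rfl, pow_succ, pow_mul, hg4, one_pow, one_mul]
      rw [this]; exact pow_mem h3 3
  obtain ⟨v, hvW, hv1, hv2⟩ : ∃ v ∈ W, q v ≠ 1 ∧ q v ≠ q u := by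
    by_contra hc
    push Not at hc
    have hle : Nat.card P' ≤ 2 := by
      rw [show Nat.card P' = Nat.card ((P' : Subgroup (G ⧸ K)) : Set (G ⧸ K)) from rfl,
        Nat.card_coe_set_eq]
      refine le_trans (Set.ncard_le_ncard (t := ({1, q u} : Set (G ⧸ K))) ?_ (Set.toFinite _))
        (le_of_le_of_eq (Set.ncard_insert_le _ _) (by rw [Set.ncard_singleton]))
      intro x hx
      rw [SetLike.mem_coe, Sylow.coe_mapSurjective] at hx
      obtain ⟨y, hy, rfl⟩ := hx
      by_cases e : q y = 1
      · exact Or.inl e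
      · exact Or.inr (hc y hy e)
    omega
  have hvK : v ∉ K := fun e => hv1 ((hq1 v).2 e)
  have huvK : u * v ∉ K := by
    rw [← hq1, map_mul]
    intro e
    apply hv2
    rw [eq_inv_of_mul_eq_one_right e, eq_comm, ← mul_eq_one_iff_eq_inv, ← pow_two]
    exact hub.1
  -- `W ⊓ K = {1, u²}`
  have hQ : ∀ x ∈ W, x ∈ K → x = 1 ∨ x = u ^ 2 := by
    intro x hx hxK
    have hinvert : ∀ g ∈ W, g ∉ K → g⁻¹ * x * g = x⁻¹ := by
      intro g hg hgK
      have h1 : g * x ∉ K := fun e => hgK (by simpa using K.mul_mem e (K.inv_mem hxK))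
      have h2 := hsq (g * x) ((W : Subgroup G).mul_mem hg hx) h1
      rw [← hsq g hg hgK, pow_two, pow_two, mul_assoc g x, mul_right_inj, ← mul_assoc] at h2
      calc g⁻¹ * x * g = g⁻¹ * (x * g * x) * x⁻¹ := by group
        _ = x⁻¹ := by rw [h2]; group
    have hu' := hinvert u huW huK
    have hv' := hinvert v hvW hvK
    have huv' := hinvert (u * v) ((W : Subgroup G).mul_mem huW hvW) huvK
    have hxx : x⁻¹ = x := by
      rw [← huv']
      calc (u * v)⁻¹ * x * (u * v) = v⁻¹ * (u⁻¹ * x * u) * v := by group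
        _ = (v⁻¹ * x * v)⁻¹ := by rw [hu']; group
        _ = x := by rw [hv', inv_inv]
    rw [hxx] at hu'
    rcases hmem4 u x (IsConj.refl u) (by
        calc x * u = u * (u⁻¹ * x * u) := by group
          _ = u * x := by rw [hu']) with e | e | e | e
    · exact Or.inl e
    · exact absurd (e ▸ hxK) huK
    · exact Or.inr e
    · exfalso
      apply huK
      have : u = (u ^ 3) ^ 3 := by
        rw [← pow_mul, show 3 * 3 = 4 * 2 + 1 from rfl, pow_succ, pow_mul, hu4', one_pow, one_mul]
      rw [this]; exact pow_mem (e ▸ hxK) 3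
  -- orders
  have hWcard : Nat.card W = 8 := by
    let f : (W : Subgroup G) →* G ⧸ K := q.comp (W : Subgroup G).subtype
    have hr : f.range = (P' : Subgroup (G ⧸ K)) := by
      rw [MonoidHom.range_comp, Subgroup.range_subtype, Sylow.coe_mapSurjective]
    have hk : Nat.card f.ker = 2 := by
      rw [Nat.card_eq_two_iff]
      refine ⟨1, ⟨⟨u ^ 2, (W : Subgroup G).pow_mem huW 2⟩, (hq1 _).2 hzK⟩,
        fun e => hz1 (congrArg (fun y : f.ker => y.1.1) e).symm, ?_⟩
      rw [Set.eq_univ_iff_forall]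
      rintro ⟨⟨x, hx⟩, hxk⟩
      rcases hQ x hx ((hq1 x).1 hxk) with rfl | rfl
      · exact Or.inl rfl
      · exact Or.inr rfl
    rw [Subgroup.card_eq_card_quotient_mul_card_subgroup f.ker, hk,
      Nat.card_congr (QuotientGroup.quotientKerEquivRange f).toEquiv, hr, hP'4]
  obtain ⟨m, hm, hmodd⟩ : ∃ m, Nat.card K = 2 * m ∧ ¬ 2 ∣ m := by
    have h1 := (W : Subgroup G).card_mul_index
    have h2 := W.not_dvd_index
    rw [hG] at h1
    have hc : Nat.card W = Nat.card (W : Subgroup G) := rfl
    rw [← hc, hWcard] at h1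
    exact ⟨Nat.card K / 2, by omega, by omega⟩
  -- the normal 2-complement of `K`
  have hO : oddCore G ≤ K ∧ Nat.card (oddCore G) = m := by
    have hle := oddCore_le K hK
    refine ⟨hle, ?_⟩
    let P : Sylow 2 K := default
    have hPc : Nat.card P = 2 := by
      rw [Sylow.card_eq_multiplicity, hm,
        Nat.factorization_mul two_ne_zero (by omega), Finsupp.add_apply,
        Nat.prime_two.factorization_self, Nat.factorization_eq_zero_of_not_dvd hmodd]
      norm_num
    have hPcyc : IsCyclic P := isCyclic_of_prime_card hPc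
    have hmin : (Nat.card K).minFac = 2 := by rw [Nat.minFac_eq_two_iff, hm]; exact Dvd.intro m rfl
    have hN := IsCyclic.normalizer_le_centralizer hmin hPcyc
    have hcomp := (MonoidHom.ker_transferSylow_isComplement' P hN).card_mul
    set L := (MonoidHom.transferSylow P hN).ker
    have hc : Nat.card P = Nat.card (P : Subgroup K) := rfl
    rw [← hc, hPc, hm] at hcomp
    have hLm : Nat.card L = m := by omega
    have hLchar : ∀ x : K, x ∈ L ↔ x ^ m = 1 := by
      intro x
      constructor
      · intro hx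
        have := orderOf_dvd_natCard (⟨x, hx⟩ : L)
        rw [hLm, Subgroup.orderOf_mk] at this
        exact orderOf_dvd_iff_pow_eq_one.1 this
      · intro hx
        have hidx : L.index = 2 := by
          have := L.card_mul_index
          rw [hLm, hm] at this
          exact Nat.eq_of_mul_eq_mul_left (by omega : 0 < m) (by linarith)
        have h1 : x ^ 2 ∈ L := Subgroup.sq_mem_of_index_two hidx x
        obtain ⟨k, hk⟩ : ∃ k, m = 2 * k + 1 := ⟨m / 2, by omega⟩
        rw [hk, pow_succ, pow_mul] at hx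
        rw [eq_inv_of_mul_eq_one_right hx]
        exact inv_mem (pow_mem h1 k)
    have hLn : (L.map K.subtype).Normal := ⟨by
      rintro _ ⟨x, hx, rfl⟩ g
      refine ⟨⟨g * x * g⁻¹, (inferInstance : K.Normal).conj_mem _ x.2 g⟩, (hLchar _).2 ?_, rfl⟩
      have := congrArg Subtype.val ((hLchar x).1 hx)
      apply Subtype.ext
      simp only [SubmonoidClass.coe_pow, Subgroup.coe_one] at this ⊢
      rw [conj_pow, this, mul_one, mul_inv_cancel]⟩
    have hLc : Nat.card (L.map K.subtype) = m := by
      rw [← hLm]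
      exact (Nat.card_congr (L.equivMapOfInjective K.subtype K.subtype_injective).toEquiv).symm
    have hLO : L.map K.subtype ≤ oddCore G :=
      CfsgLib.PCore.le_pPrimeCore_of_not_dvd hLn (by rw [hLc]; exact hmodd)
    have hOL : oddCore G ≤ L.map K.subtype := by
      intro x hx
      refine ⟨⟨x, hle hx⟩, (hLchar _).2 ?_, rfl⟩
      rw [← orderOf_dvd_iff_pow_eq_one]
      have h1 : orderOf (⟨x, hle hx⟩ : K) ∣ 2 * m := hm ▸ orderOf_dvd_natCard _
      have h2 : ¬ 2 ∣ orderOf (⟨x, hle hx⟩ : K) := by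
        rw [Subgroup.orderOf_mk]
        intro hd
        exact CfsgLib.PCore.not_dvd_card_pPrimeCore (p := 2) (G := G)
          (hd.trans (Subgroup.orderOf_dvd_natCard _ hx))
      exact ((Nat.prime_two.coprime_iff_not_dvd.2 h2).symm).dvd_of_dvd_mul_left h1
    rw [le_antisymm hOL hLO, hLc]
  obtain ⟨hOK, hOc⟩ := hO
  have hodd : ∀ x ∈ oddCore G, x ^ 4 = 1 → x = 1 := by
    intro x hx hx4
    have h1 : orderOf x ∣ m := hOc ▸ Subgroup.orderOf_dvd_natCard _ hx
    have h2 : orderOf x ∣ 4 := orderOf_dvd_of_pow_eq_one hx4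
    have h3 : Nat.Coprime 4 m := by
      rw [show 4 = 2 ^ 2 from rfl]
      exact (Nat.prime_two.coprime_iff_not_dvd.2 hmodd).pow_left 2
    exact orderOf_eq_one_iff.1 (Nat.eq_one_of_dvd_coprimes h3 h2 h1)
  refine ⟨?_, ?_⟩
  · have hON : (oddCore G).Normal := inferInstance
    have hfix : ∀ g ∈ W, g ∉ K → ∀ x ∈ oddCore G, g * x * g⁻¹ = x → x = 1 := by
      intro g hg hgK x hx e
      have hgc := hWout g hg hgK
      have hg4 : g ^ 4 = 1 := (hord g hgc).1 ▸ pow_orderOf_eq_one g
      refine hodd x hx ?_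
      rcases hmem4 g x hgc (mul_inv_eq_iff_eq_mul.1 e).symm with rfl | rfl | rfl | rfl
      · exact one_pow 4
      · exact hg4
      · rw [← pow_mul, mul_comm, pow_mul, hg4, one_pow]
      · rw [← pow_mul, mul_comm, pow_mul, hg4, one_pow]
    let D := oddCore G ⊓ Subgroup.centralizer ({u ^ 2} : Set G)
    have hinvD : ∀ g ∈ W, g ∉ K → ∀ x ∈ D, g * x * g⁻¹ = x⁻¹ := by
      intro g hg hgK
      refine (conj_inverts D g (fun x hx => ⟨hON.conj_mem _ hx.1 g, ?_⟩) (fun x hx => ?_)
        (fun x hx => hfix g hg hgK x hx.1)).1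
      · have h1 := Subgroup.mem_centralizer_singleton_iff.1 hx.2
        show g * x * g⁻¹ ∈ Subgroup.centralizer ({u ^ 2} : Set G)
        rw [Subgroup.mem_centralizer_singleton_iff]
        have h2 : Commute g (u ^ 2) := hzW g hg
        exact ((h2.mul_left (show Commute x (u ^ 2) from h1)).mul_left h2.inv_left).eq
      · have h1 := Subgroup.mem_centralizer_singleton_iff.1 hx.2
        calc g * (g * x * g⁻¹) * g⁻¹ = g ^ 2 * x * (g ^ 2)⁻¹ := by rw [pow_two]; group
          _ = x := by rw [hsq g hg hgK, ← h1, mul_inv_cancel_right]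
    have hDbot : ∀ x ∈ D, x = 1 := by
      intro x hx
      have e1 := hinvD u huW huK x hx
      have e2 := hinvD v hvW hvK x hx
      have e3 := hinvD (u * v) ((W : Subgroup G).mul_mem huW hvW) huvK x hx
      have e4 : x⁻¹ = x := by
        rw [← e3]
        calc u * v * x * (u * v)⁻¹ = u * (v * x * v⁻¹) * u⁻¹ := by group
          _ = (u * x * u⁻¹)⁻¹ := by rw [e2]; group
          _ = x := by rw [e1, inv_inv]
      refine hodd x hx.1 ?_
      rw [show x ^ 4 = (x * x) ^ 2 by rw [← pow_two, ← pow_mul]]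
      nth_rewrite 1 [← e4]
      rw [inv_mul_cancel, one_pow]
    refine ⟨⟨fun a b => Subtype.ext ((conj_inverts (oddCore G) (u ^ 2)
      (fun x hx => hON.conj_mem _ hx _) (fun x _ => ?_) (fun x hx e => ?_)).2 a a.2 b b.2)⟩⟩
    · calc u ^ 2 * (u ^ 2 * x * (u ^ 2)⁻¹) * (u ^ 2)⁻¹ = (u ^ 4) * x * (u ^ 4)⁻¹ := by group
        _ = x := by rw [hu4', one_mul, inv_one, mul_one]
    · exact hDbot x ⟨hx, Subgroup.mem_centralizer_singleton_iff.2
        (mul_inv_eq_iff_eq_mul.1 e).symm⟩
  · haveI : Nontrivial (G ⧸ oddCore G) := by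
      rw [← Finite.one_lt_card_iff_nontrivial, ← Subgroup.index_eq_card]
      refine Subgroup.one_lt_index_of_ne_top fun e => huK (hOK ?_)
      rw [e]; exact Subgroup.mem_top u
    have h120 : Nat.card (G ⧸ oddCore G) = 120 := by
      have := Subgroup.card_eq_card_quotient_mul_card_subgroup (oddCore G)
      rw [hG, hm, hOc] at this
      have : 120 * m = Nat.card (G ⧸ oddCore G) * m := by linarith
      exact (Nat.eq_of_mul_eq_mul_right (by omega) this).symm
    have hns : ¬ Group.IsSolvable (G ⧸ oddCore G) := fun hs =>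
      (Group.IsSolvable.commutator_lt_top_of_nontrivial _).ne (perfect_quotient hp (oddCore G))
    refine Cfsg.Agent.S3378.result.1 _ h120 hns fun P => ?_
    have hone : ∀ a b : (W : Subgroup G), orderOf a = 2 → orderOf b = 2 → a = b := by
      have key : ∀ a : (W : Subgroup G), orderOf a = 2 → (a : G) = u ^ 2 := by
        intro a ha
        have ha2 : (a : G) ^ 2 = 1 := by
          have h2 := pow_orderOf_eq_one a
          rw [ha] at h2
          rw [← SubmonoidClass.coe_pow, h2]; rfl
        have hane : (a : G) ≠ 1 := fun e => by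
          rw [show a = 1 from Subtype.ext e, orderOf_one] at ha
          omega
        have haK : (a : G) ∈ K := by
          by_contra hn
          exact hz1 ((hsq a a.2 hn).symm.trans ha2)
        exact (hQ a a.2 haK).resolve_left hane
      exact fun a b ha hb => Subtype.ext ((key a ha).trans (key b hb).symm)
    rcases CfsgLib.TwoGroups.OneInvolution.isCyclic_or_quaternion W.2 hone with hc | ⟨n, hn, ⟨e⟩⟩
    · exfalso
      haveI := hc
      letI := IsCyclic.commGroup (α := (W : Subgroup G))
      have hcomm : v * u = u * v :=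
        congrArg Subtype.val (mul_comm (⟨v, hvW⟩ : (W : Subgroup G)) ⟨u, huW⟩)
      rcases hmem4 u v (IsConj.refl u) hcomm with rfl | rfl | rfl | rfl
      · exact hv1 (map_one q)
      · exact hv2 rfl
      · exact hvK hzK
      · apply hv2
        rw [map_pow, show 3 = 2 + 1 from rfl, pow_succ, hub.1, one_mul]
    · have hn1 : n = 1 := by
        have e8 := Nat.card_congr e.toEquiv
        rw [Nat.card_eq_fintype_card (α := QuaternionGroup (2 ^ n)), QuaternionGroup.card] at e8
        have hc : Nat.card W = Nat.card (W : Subgroup G) := rfl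
        rw [← hc, hWcard] at e8
        by_contra hne
        have := Nat.pow_le_pow_right (show 0 < 2 by norm_num) (show 2 ≤ n by omega)
        omega
      subst hn1
      let f : (W : Subgroup G) →* G ⧸ oddCore G :=
        (QuotientGroup.mk' (oddCore G)).comp (W : Subgroup G).subtype
      have hf : Function.Injective f := by
        rw [injective_iff_map_eq_one]
        intro x hx
        have hxO : (x : G) ∈ oddCore G := (QuotientGroup.eq_one_iff (x : G)).1 hx
        refine Subtype.ext (hodd _ hxO ?_)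
        by_cases hxK : (x : G) ∈ K
        · rcases hQ x x.2 hxK with e | e
          · rw [e, one_pow]
          · rw [e, ← pow_mul, mul_comm, pow_mul, hu4', one_pow]
        · exact absurd (hOK hxO) hxK
      have hr : f.range =
          ((W.mapSurjective (QuotientGroup.mk'_surjective (oddCore G)) : Sylow 2 _) : Subgroup _) := by
        rw [MonoidHom.range_comp, Subgroup.range_subtype, Sylow.coe_mapSurjective]
      exact ⟨(P.equiv _).trans ((MulEquiv.subgroupCongr hr).symm.trans
        ((MonoidHom.ofInjective hf).symm.trans e))⟩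

end Four

/-- Let u ≠ 1 be an element of the finite group G such that every non-principal irreducible character χ satisfies χ(1) − χ(u) = 4 or χ(u) = 0. Then O(G), the largest normal subgroup of odd order, is abelian, and either G ⧸ O(G) ≅ PSL₂(5) and u is an involution, or G ⧸ O(G) ≅ SL₂(5) and u has order 4. -/
theorem result {G : Type*} [Group G] [Finite G] (u : G) (hu : u ≠ 1) (hyp : ∀ χ : Cfsg.IrrCharacter G, (χ : G → ℂ) ≠ (fun _ => (1 : ℂ)) → ((χ : G → ℂ) 1 - (χ : G → ℂ) u = 4 ∨ (χ : G → ℂ) u = 0)) : IsMulCommutative ↥(Cfsg.oddCore G) ∧ ((Nonempty (G ⧸ Cfsg.oddCore G ≃* Matrix.ProjectiveSpecialLinearGroup (Fin 2) (ZMod 5)) ∧ orderOf u = 2) ∨ (Nonempty (G ⧸ Cfsg.oddCore G ≃* Matrix.SpecialLinearGroup (Fin 2) (ZMod 5)) ∧ orderOf u = 4)) := by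
  haveI := Fintype.ofFinite G
  have h : Hyp u := ⟨hu, hyp⟩
  obtain ⟨a, b, θ, K, hKn, hc, hK60, hsimp, hzK, huK⟩ := exists_data h
  haveI : Fact (Nat.Prime 5) := ⟨by norm_num⟩
  have hC := hc.card_centralizer h
  have hord : orderOf u ∣ 4 := by
    rw [← hC]
    exact Subgroup.orderOf_dvd_natCard _ (Subgroup.mem_centralizer_singleton_iff.2 rfl)
  rcases (show orderOf u = 2 ∨ orderOf u = 4 by
      have h0 : orderOf u ≠ 1 := fun e => hu (orderOf_eq_one_iff.1 e)
      have := Nat.le_of_dvd (by norm_num) hord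
      rcases (show orderOf u = 0 ∨ orderOf u = 2 ∨ orderOf u = 3 ∨ orderOf u = 4 by omega) with
        e | e | e | e
      · exact absurd e (orderOf_pos u).ne'
      · exact Or.inl e
      · rw [e] at hord; norm_num at hord
      · exact Or.inr e) with h2 | h4
  · classical
    have hu2 : u * u = 1 := by rw [← pow_two, ← h2, pow_orderOf_eq_one]
    have hP := hc.pairs_eq h u
    rw [inv_eq_of_mul_eq_one_right hu2, IsT.value h hc.ha, IsT.value h hc.hb,
      val_eq h θ, hc.val_θ, Nat.card_eq_fintype_card] at hP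
    have hG30 : Fintype.card G = 30 * (pairs u u {u}).card := by
      have e : (Fintype.card G : ℂ) = ((30 * (pairs u u {u}).card : ℕ) : ℂ) := by
        push_cast at hP ⊢
        linear_combination (-15 / 8 : ℂ) * hP
      exact_mod_cast e
    have hle : (pairs u u {u}).card ≤ 2 := by
      let s : Finset G := ((Finset.univ.filter fun x : G => x * u = u * x).erase 1).erase u
      have hs : s.card = 2 := by
        have h4 : (Finset.univ.filter fun x : G => x * u = u * x).card = 4 := by
          rw [← hC, Nat.card_eq_fintype_card, ← Fintype.card_subtype]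
          exact Fintype.card_congr (Equiv.subtypeEquivRight fun x =>
            Subgroup.mem_centralizer_singleton_iff.symm)
        rw [Finset.card_erase_of_mem (Finset.mem_erase.2 ⟨hu, by simp⟩),
          Finset.card_erase_of_mem (by simp), h4]
      rw [← hs]
      have hmem : ∀ z ∈ pairs u u {u}, IsConj u z.1 ∧ IsConj u z.2 ∧ z.1 * z.2 = u := by
        intro z hz
        simp only [pairs, Finset.mem_filter, Finset.mem_product, mem_cls,
          Finset.mem_singleton] at hz
        exact ⟨hz.1.1, hz.1.2, hz.2⟩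
      refine Finset.card_le_card_of_injOn Prod.fst ?_ ?_
      · intro z hz
        obtain ⟨h1, h3, hzu⟩ := hmem z hz
        have hsq : ∀ x, IsConj u x → x * x = 1 := fun x hx => by
          obtain ⟨c, rfl⟩ := isConj_iff.1 hx
          calc c * u * c⁻¹ * (c * u * c⁻¹) = c * (u * u) * c⁻¹ := by group
            _ = 1 := by rw [hu2, mul_one, mul_inv_cancel]
        have hne : ∀ x, IsConj u x → x ≠ 1 := fun x hx e => hu (isConj_one_left.1 (e ▸ hx))
        have hw : z.2 = z.1 * u := by
          rw [← hzu, ← mul_assoc, hsq _ h1, one_mul]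
        have hcomm : z.1 * u = u * z.1 := by
          have := hsq _ h3
          rw [hw] at this
          have h5 := inv_eq_of_mul_eq_one_right this
          rw [mul_inv_rev, inv_eq_of_mul_eq_one_right hu2,
            inv_eq_of_mul_eq_one_right (hsq _ h1)] at h5
          exact h5.symm
        simp only [s, Finset.mem_coe, Finset.mem_erase, Finset.mem_filter, Finset.mem_univ,
          true_and]
        refine ⟨fun e => hne _ h3 ?_, hne _ h1, hcomm⟩
        rw [hw, e, hu2]
      · intro z hz z' hz' e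
        obtain ⟨-, -, e1⟩ := hmem z hz
        obtain ⟨-, -, e2⟩ := hmem z' hz'
        refine Prod.ext e (mul_left_cancel (a := z.1) ?_)
        rw [e1, e, e2]
    have hKbot : K = ⊥ := by
      apply Subgroup.eq_bot_of_card_eq
      have := Subgroup.card_eq_card_quotient_mul_card_subgroup K
      rw [hK60, Nat.card_eq_fintype_card, hG30] at this
      have := Nat.card_pos (α := K)
      omega
    subst hKbot
    have hO : oddCore G = ⊥ := le_bot_iff.1 (oddCore_le ⊥ hK60)
    refine ⟨?_, Or.inl ⟨?_, h2⟩⟩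
    · rw [hO]; infer_instance
    · obtain ⟨e⟩ := CfsgLib.Small.nonempty_mulEquiv_psl_five (G := G ⧸ (⊥ : Subgroup G)) hK60
      exact ⟨(QuotientGroup.quotientMulEquivOfEq hO).trans e⟩
  · obtain ⟨hA, hI⟩ := order_four K hK60 (perfect h) h4 hzK huK hC
    exact ⟨hA, Or.inr ⟨hI, h4⟩⟩

end Cfsg.Agent.S4758
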