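import Cfsg.Statements.S4765
import Cfsg.Agent.Lib.SL2Char.Projective

set_option autoImplicit false
open Cfsg

namespace Cfsg.Agent.S4765

open CfsgLib.SL2Char CfsgLib.Chars17

/-- Let F be a finite field of characteristic p with at least 4 elements. Then PSL(2,F) has exactly one irreducible complex character of degree divisible by p, and its degree is the order of F. -/
theorem result (p : ℕ) [Fact p.Prime] (F : Type*) [Field F] [Fintype F] [CharP F p] (hF : 4 ≤ Fintype.card F) : Nat.card {χ : Cfsg.IrrCharacter (Matrix.ProjectiveSpecialLinearGroup (Fin 2) F) // p ∣ Cfsg.charDegree (χ : Matrix.ProjectiveSpecialLinearGroup (Fin 2) F → ℂ)} = 1 ∧ ∀ χ : Cfsg.IrrCharacter (Matrix.ProjectiveSpecialLinearGroup (Fin 2) F), p ∣ Cfsg.charDegree (χ : Matrix.ProjectiveSpecialLinearGroup (Fin 2) F → ℂ) → Cfsg.charDegree (χ : Matrix.ProjectiveSpecialLinearGroup (Fin 2) F → ℂ) = Fintype.card F := by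
  classical
  obtain ⟨η, hη, hηd⟩ := Projective.exists_steinberg (F := F)
  have key : ∀ χ : Cfsg.IrrCharacter (Matrix.ProjectiveSpecialLinearGroup (Fin 2) F),
      p ∣ Cfsg.charDegree (χ : Matrix.ProjectiveSpecialLinearGroup (Fin 2) F → ℂ) → χ = η := by
    intro χ hχ
    rw [← Projective.charDegree_infl] at hχ
    obtain ⟨e, -⟩ := Projective.eq_steinberg_of_dvd p hF _ hχ
    exact infl_injective _ (Subtype.ext (e.trans hη.symm))
  refine ⟨Nat.card_eq_one_iff_exists.2 ⟨⟨η, ?_⟩, fun χ => Subtype.ext (key χ.1 χ.2)⟩,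
    fun χ hχ => by rw [key χ hχ, hηd]⟩
  rw [hηd]
  obtain ⟨n, -, hn⟩ := FiniteField.card F p
  exact hn ▸ dvd_pow_self p n.pos.ne'

end Cfsg.Agent.S4765
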