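import Cfsg.Statements.S4768
import Cfsg.Agent.S4736
import Cfsg.Agent.Lib.OddOrder.PuigSeries

set_option autoImplicit false
open Cfsg

namespace Cfsg.Agent.S4768

open CfsgLib CfsgLib.Characters CfsgLib.ClassCount CfsgLib.NormalRes CfsgLib.PCore
open scoped ComplexConjugate commutatorElement

universe u

variable {G : Type u} [Group G] [Finite G] {p : ℕ}

/-- The number of irreducible characters of degree divisible by `p`. -/
noncomputable def cnt (p : ℕ) (G : Type u) [Group G] : ℕ :=
  Nat.card {χ : IrrCharacter G // p ∣ charDegree (χ : G → ℂ)}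

theorem dl_lift {A B : Type*} [Group A] [Group B] (f : A →* B)
    (hab : ∀ a ∈ f.ker, ∀ b ∈ f.ker, a * b = b * a) {k : ℕ} (h : derivedSeries B k = ⊥) :
    derivedSeries A (k + 1) = ⊥ := by
  have hle : derivedSeries A k ≤ f.ker := by
    have h1 := map_derivedSeries_le_derivedSeries f k
    rw [h, le_bot_iff, Subgroup.map_eq_bot_iff] at h1
    exact h1
  rw [derivedSeries_succ, eq_bot_iff, Subgroup.commutator_le]
  intro a ha b hb
  rw [Subgroup.mem_bot]
  exact commutatorElement_eq_one_iff_mul_comm.mpr (hab a (hle ha) b (hle hb))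

theorem dl_injective {A B : Type*} [Group A] [Group B] (f : A →* B)
    (hinj : Function.Injective f) {k : ℕ} (h : derivedSeries B k = ⊥) :
    derivedSeries A k = ⊥ := by
  have h1 := map_derivedSeries_le_derivedSeries f k
  rw [h, le_bot_iff, Subgroup.map_eq_bot_iff_of_injective _ hinj] at h1
  exact h1

theorem dl_mono {A : Type*} [Group A] {k l : ℕ} (hkl : k ≤ l) (h : derivedSeries A k = ⊥) :
    derivedSeries A l = ⊥ :=
  le_bot_iff.mp (h ▸ derivedSeries_antitone A hkl)

/-- The map of a Sylow subgroup into its image in a quotient. -/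
noncomputable def toImage [Fact p.Prime] (P : Sylow p G) (N : Subgroup G) [N.Normal] :
    (P : Subgroup G) →* (P.mapSurjective (QuotientGroup.mk'_surjective N) : Subgroup (G ⧸ N)) :=
  ((QuotientGroup.mk' N).comp (P : Subgroup G).subtype).codRestrict _ fun a => by
    rw [Sylow.coe_mapSurjective]
    exact Subgroup.mem_map_of_mem _ a.2

theorem toImage_ker [Fact p.Prime] (P : Sylow p G) (N : Subgroup G) [N.Normal]
    {a : (P : Subgroup G)} (ha : a ∈ (toImage P N).ker) : (a : G) ∈ N := by
  rw [MonoidHom.mem_ker] at ha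
  exact (QuotientGroup.eq_one_iff _).mp (congrArg Subtype.val ha)

theorem toImage_injective [Fact p.Prime] (P : Sylow p G) (N : Subgroup G) [N.Normal]
    (hN : (Nat.card N).Coprime p) : Function.Injective (toImage P N) := by
  refine (MonoidHom.ker_eq_bot_iff _).mp (eq_bot_iff.mpr fun a ha => ?_)
  have h : (a : G) ∈ (P : Subgroup G) ⊓ N := ⟨a.2, toImage_ker P N ha⟩
  rw [inf_eq_bot_of_isPGroup_coprime P.isPGroup' hN, Subgroup.mem_bot] at h
  exact Subgroup.mem_bot.mpr (Subtype.ext h)

/-- Constituents inherit the kernel. -/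
theorem constituent_ker (H : Subgroup G) [Fintype H] (χ : IrrCharacter G) (θ : IrrCharacter H)
    (hθ : mult H (χ : G → ℂ) θ ≠ 0) {h : H} (hh : (χ : G → ℂ) h = (χ : G → ℂ) 1) :
    (θ : H → ℂ) h = (θ : H → ℂ) 1 := by
  choose m hm using fun η : IrrCharacter H => mult_nat H (irr_isCharacter χ) η
  have hre : ∀ η : IrrCharacter H, ((η : H → ℂ) h).re ≤ (charDegree (η : H → ℂ) : ℝ) := fun η => by
    have hb := norm_le_degree_of_isCharacter (irr_isCharacter η) h
    rw [(degree_eq η).1, Complex.norm_natCast] at hb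
    exact ((le_abs_self _).trans (Complex.abs_re_le_norm _)).trans hb
  have h1 : ∑ η : IrrCharacter H, (m η : ℝ) * ((charDegree (η : H → ℂ) : ℝ) - ((η : H → ℂ) h).re)
      = 0 := by
    have hh' := hh
    rw [res_eq_sum H (irr_isClassFunction χ) h,
      show (χ : G → ℂ) 1 = (χ : G → ℂ) ((1 : H) : G) from rfl,
      res_eq_sum H (irr_isClassFunction χ) 1] at hh'
    have h' := congrArg Complex.re hh'
    simp only [hm, (degree_eq (G := H) _).1, Complex.re_sum, ← Complex.ofReal_natCast,
      Complex.re_ofReal_mul, Complex.ofReal_re] at h'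
    simp only [mul_sub, Finset.sum_sub_distrib]
    linarith
  have h2 := (Finset.sum_eq_zero_iff_of_nonneg (fun η _ =>
    mul_nonneg (Nat.cast_nonneg _) (sub_nonneg.mpr (hre η)))).mp h1 θ (Finset.mem_univ θ)
  have hm0 : (m θ : ℝ) ≠ 0 := by
    intro h0
    exact hθ (by rw [hm θ, Nat.cast_eq_zero.mp h0, Nat.cast_zero])
  have hval := (mul_eq_zero.mp h2).resolve_left hm0
  rw [(degree_eq θ).1]
  have hb := norm_le_degree_of_isCharacter (irr_isCharacter θ) h
  rw [(degree_eq θ).1, Complex.norm_natCast] at hb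
  have hre' : ((θ : H → ℂ) h).re = (charDegree (θ : H → ℂ) : ℝ) := by linarith
  have him : ((θ : H → ℂ) h).im = 0 := by
    have hsq := pow_le_pow_left₀ (norm_nonneg _) hb 2
    rw [← Complex.normSq_eq_norm_sq, Complex.normSq_apply, hre'] at hsq
    nlinarith
  exact Complex.ext (by simp [hre']) (by simp [him])

/-- Inflation from a quotient counts strictly fewer characters once one is nontrivial below. -/
theorem cnt_quotient_lt (N : Subgroup G) [N.Normal] (χ : IrrCharacter G)
    (hχ : p ∣ charDegree (χ : G → ℂ)) {x : G} (hx : x ∈ N)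
    (hne : (χ : G → ℂ) x ≠ (χ : G → ℂ) 1) : cnt p (G ⧸ N) < cnt p G := by
  let f : {φ : IrrCharacter (G ⧸ N) // p ∣ charDegree (φ : G ⧸ N → ℂ)} →
      {χ : IrrCharacter G // p ∣ charDegree (χ : G → ℂ)} := fun φ =>
    ⟨⟨_, Clifford.isIrrCharacter_pullback φ.1.2 (QuotientGroup.mk' N)
      (QuotientGroup.mk'_surjective N)⟩, by simpa [charDegree] using φ.2⟩
  have hf : Function.Injective f := fun φ φ' h => by
    refine Subtype.ext (Subtype.ext (funext fun q => ?_))
    obtain ⟨g, rfl⟩ := QuotientGroup.mk'_surjective N q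
    exact congrFun (congrArg (fun t => (t.1.1 : G → ℂ)) h) g
  classical
  haveI := Fintype.ofFinite {φ : IrrCharacter (G ⧸ N) // p ∣ charDegree (φ : G ⧸ N → ℂ)}
  haveI := Fintype.ofFinite {χ : IrrCharacter G // p ∣ charDegree (χ : G → ℂ)}
  rw [cnt, cnt, Nat.card_eq_fintype_card, Nat.card_eq_fintype_card]
  refine Fintype.card_lt_of_injective_not_surjective f hf fun hs => ?_
  obtain ⟨φ, hφ⟩ := hs ⟨χ, hχ⟩
  have he : ∀ g : G, (φ.1 : G ⧸ N → ℂ) (g : G ⧸ N) = (χ : G → ℂ) g := fun g =>
    congrFun (congrArg (fun t => (t.1.1 : G → ℂ)) hφ) g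
  refine hne ?_
  rw [← he x, ← he 1, (QuotientGroup.eq_one_iff x).mpr hx, QuotientGroup.mk_one]

theorem cnt_quotient_le (N : Subgroup G) [N.Normal] : cnt p (G ⧸ N) ≤ cnt p G := by
  refine Nat.card_le_card_of_injective (fun φ =>
    ⟨⟨_, Clifford.isIrrCharacter_pullback φ.1.2 (QuotientGroup.mk' N)
      (QuotientGroup.mk'_surjective N)⟩, by simpa [charDegree] using φ.2⟩) fun φ φ' h => ?_
  refine Subtype.ext (Subtype.ext (funext fun q => ?_))
  obtain ⟨g, rfl⟩ := QuotientGroup.mk'_surjective N q
  exact congrFun (congrArg (fun t => (t.1.1 : G → ℂ)) h) g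

/-- With trivial `p`-core and `p` in the order, some degree divisible by `p` lives above `O_p'`. -/
theorem exists_singular_above [hp : Fact p.Prime] (hsolv : IsPSolvable p G)
    (hcore : pCore p G = ⊥) (hdvd : p ∣ Nat.card G) :
    ∃ χ : IrrCharacter G, p ∣ charDegree (χ : G → ℂ) ∧
      ∃ x ∈ pPrimeCore p G, (χ : G → ℂ) x ≠ (χ : G → ℂ) 1 := by
  classical
  haveI := Fintype.ofFinite G
  by_contra hno
  push Not at hno
  set K := pPrimeCore p G with hK
  have hntY : Nontrivial (G ⧸ K) := by
    rw [← Finite.one_lt_card_iff_nontrivial, ← Subgroup.index_eq_card]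
    refine Subgroup.one_lt_index_of_ne_top fun h => ?_
    have h2 : ¬ p ∣ Nat.card K := not_dvd_card_pPrimeCore
    rw [h, Subgroup.card_top] at h2
    exact h2 hdvd
  have hQ0 : pCore p (G ⧸ K) ≠ ⊥ :=
    pCore_ne_bot (isPSolvable_quotient hsolv K) pPrimeCore_quotient_pPrimeCore
  set A := Subgroup.centralizer (pCore p (G ⧸ K) : Set (G ⧸ K)) ⊓ pCore p (G ⧸ K) with hA
  have hAne : A ≠ ⊥ := by
    haveI : Nontrivial (pCore p (G ⧸ K)) := (Subgroup.nontrivial_iff_ne_bot _).mpr hQ0
    haveI := IsPGroup.center_nontrivial (pCore_isPGroup (p := p) (G := G ⧸ K))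
    obtain ⟨z, hz⟩ := exists_ne (1 : Subgroup.center (pCore p (G ⧸ K)))
    refine fun h => hz (Subtype.ext (Subtype.ext ?_))
    have hzA : ((z : pCore p (G ⧸ K)) : G ⧸ K) ∈ A :=
      ⟨Subgroup.mem_centralizer_iff.mpr fun b hb =>
        congrArg Subtype.val (Subgroup.mem_center_iff.mp z.2 ⟨b, hb⟩), (z : pCore p (G ⧸ K)).2⟩
    rw [h, Subgroup.mem_bot] at hzA
    exact hzA
  set L := A.comap (QuotientGroup.mk' K) with hL
  haveI : L.Normal := Subgroup.Normal.comap inferInstance _
  haveI := Fintype.ofFinite L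
  have hdegL : ∀ θ : IrrCharacter L, ¬ p ∣ charDegree (θ : L → ℂ) := by
    intro θ hθ
    obtain ⟨χ, hχ⟩ := exists_mult_ne_zero_of_irr L θ
    have hchi : p ∣ charDegree (χ : G → ℂ) := by
      obtain ⟨e, he⟩ := mult_nat L (irr_isCharacter χ) θ
      have h := Clifford.clifford_degree (inferInstance : L.Normal) χ.2 θ.2 hχ
      rw [show classInner (fun n : L => (χ : G → ℂ) n) (θ : L → ℂ) = (e : ℂ) from he,
        (degree_eq χ).1, (degree_eq θ).1, ← Nat.cast_mul, ← Nat.cast_mul, Nat.cast_inj] at h
      rw [h]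
      exact dvd_mul_of_dvd_right hθ _
    have hker : ∀ k ∈ K.subgroupOf L, (θ : L → ℂ) k = (θ : L → ℂ) 1 := fun k hk =>
      constituent_ker L χ θ hχ (hno χ hchi k (Subgroup.mem_subgroupOf.mp hk))
    obtain ⟨φ, hφ⟩ := Cfsg.Agent.S4736.exists_deflation (K.subgroupOf L) θ hker
    haveI : IsMulCommutative (L ⧸ K.subgroupOf L) := isMulCommutative_iff.mpr fun a b => by
      obtain ⟨a, rfl⟩ := QuotientGroup.mk'_surjective _ a
      obtain ⟨b, rfl⟩ := QuotientGroup.mk'_surjective _ b
      rw [← map_mul, ← map_mul, QuotientGroup.mk'_apply, QuotientGroup.mk'_apply, QuotientGroup.eq,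
        Subgroup.mem_subgroupOf, ← QuotientGroup.eq_one_iff]
      have ha : (((a : G)) : G ⧸ K) ∈ A := a.2
      have hb : (((b : G)) : G ⧸ K) ∈ A := b.2
      have hc := Subgroup.mem_centralizer_iff.mp hb.1 _ ha.2
      simp only [Subgroup.coe_mul, Subgroup.coe_inv, QuotientGroup.mk_mul, QuotientGroup.mk_inv]
      rw [hc]
      exact inv_mul_cancel _
    have h1 : (θ : L → ℂ) 1 = 1 := by
      rw [hφ 1]
      exact CharIto.degree_one_of_comm φ.2
    rw [LinearTwist.charDegree_eq_of_apply_one (n := 1) (by rw [h1, Nat.cast_one])] at hθ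
    exact hp.out.not_dvd_one hθ
  obtain ⟨S⟩ := (inferInstance : Nonempty (Sylow p L))
  have hSn := ItoMichler.normal_sylow (isPSolvable_subgroup hsolv L) hdegL S
  have hSbot : (S : Subgroup L) = ⊥ := by
    rw [eq_bot_iff]
    intro a ha
    have h := Subgroup.mem_map_of_mem L.subtype (le_pCore hSn S.isPGroup' ha)
    rw [map_pCore_subtype_of_normal L, hcore, inf_bot_eq, Subgroup.mem_bot] at h
    exact Subgroup.mem_bot.mpr (Subtype.ext h)
  have hpL : ¬ p ∣ Nat.card L := by
    have h := S.not_dvd_index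
    rwa [hSbot, Subgroup.index_bot] at h
  refine hAne (eq_bot_iff.mpr fun y hy => ?_)
  obtain ⟨g, rfl⟩ := QuotientGroup.mk'_surjective K y
  exact Subgroup.mem_bot.mpr ((QuotientGroup.eq_one_iff g).mpr
    (le_pPrimeCore_of_not_dvd inferInstance hpL hy))

theorem main [hp : Fact p.Prime] (hsolv : IsPSolvable p G) (P : Sylow p G) :
    derivedSeries (P : Subgroup G) (cnt p G + 1) = ⊥ := by
  classical
  suffices key : ∀ (n : ℕ) (X : Type u) [Group X] [Finite X], Nat.card X = n → IsPSolvable p X →
      ∀ P : Sylow p X, derivedSeries (P : Subgroup X) (cnt p X + 1) = ⊥ from key _ G rfl hsolv P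
  intro n
  induction n using Nat.strong_induction_on with
  | _ n ih =>
    intro X _ _ hn hX P
    haveI := Fintype.ofFinite X
    have hlt : ∀ N : Subgroup X, N ≠ ⊥ → ∀ [N.Normal], Nat.card (X ⧸ N) < n := fun N hN _ => by
      have h1 := N.card_eq_card_quotient_mul_card_subgroup
      have h2 : 1 < Nat.card N := N.one_lt_card_iff_ne_bot.mpr hN
      rw [hn] at h1
      have h3 : 0 < Nat.card (X ⧸ N) := Nat.card_pos
      nlinarith
    by_cases hK : pPrimeCore p X = ⊥
    swap
    · exact dl_injective (toImage P _) (toImage_injective P _ pPrimeCore_coprime)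
        (dl_mono (Nat.succ_le_succ (cnt_quotient_le _))
          (ih _ (hlt _ hK) _ rfl (isPSolvable_quotient hX _) _))
    by_cases hPab : ∀ a ∈ (P : Subgroup X), ∀ b ∈ (P : Subgroup X), a * b = b * a
    · refine dl_mono (Nat.le_add_left 1 _) ?_
      rw [derivedSeries_one, eq_bot_iff, commutator_def, Subgroup.commutator_le]
      intro a _ b _
      rw [Subgroup.mem_bot]
      exact commutatorElement_eq_one_iff_mul_comm.mpr (Subtype.ext (hPab a a.2 b b.2))
    haveI : Nontrivial X := by
      by_contra h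
      rw [not_nontrivial_iff_subsingleton] at h
      exact hPab fun a _ b _ => Subsingleton.elim _ _
    have hQ : pCore p X ≠ ⊥ := pCore_ne_bot hX hK
    set Q := pCore p X with hQdef
    by_cases hQab : ∀ a ∈ Q, ∀ b ∈ Q, a * b = b * a
    · -- abelian core
      set Y := X ⧸ Q
      set PY := P.mapSurjective (QuotientGroup.mk'_surjective Q) with hPY
      have hYsolv : IsPSolvable p Y := isPSolvable_quotient hX Q
      have hdvd : p ∣ Nat.card Y := by
        by_contra hnd
        refine hPab fun a ha b hb => hQab a ?_ b ?_ <;>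
        · have hbot : (PY : Subgroup Y) = ⊥ := by
            refine eq_bot_of_isPGroup_coprime PY.isPGroup' ?_
            exact Nat.Coprime.coprime_dvd_left (Subgroup.card_subgroup_dvd_card _)
              (coprime_of_not_dvd_card hnd)
          rw [hPY, Sylow.coe_mapSurjective, Subgroup.map_eq_bot_iff, QuotientGroup.ker_mk'] at hbot
          exact hbot (by assumption)
      have hKY : pPrimeCore p Y ≠ ⊥ := fun h => by
        haveI : Nontrivial Y := by
          rw [← Finite.one_lt_card_iff_nontrivial]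
          exact lt_of_lt_of_le hp.out.one_lt (Nat.le_of_dvd Nat.card_pos hdvd)
        exact pCore_ne_bot hYsolv h pCore_quotient_pCore
      obtain ⟨χ, hχ, x, hx, hne⟩ := exists_singular_above hYsolv pCore_quotient_pCore hdvd
      have h1 : cnt p (Y ⧸ pPrimeCore p Y) < cnt p Y := cnt_quotient_lt _ χ hχ hx hne
      have hlt2 : Nat.card (Y ⧸ pPrimeCore p Y) < n :=
        lt_of_le_of_lt (Nat.le_of_dvd Nat.card_pos (Subgroup.card_quotient_dvd_card _)) (hlt Q hQ)
      have h2 : derivedSeries (PY : Subgroup Y) (cnt p Y) = ⊥ :=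
        dl_injective (toImage PY _) (toImage_injective PY _ pPrimeCore_coprime)
          (dl_mono h1 (ih _ hlt2 _ rfl (isPSolvable_quotient hYsolv _) _))
      refine dl_mono (Nat.succ_le_succ (cnt_quotient_le Q)) (dl_lift (toImage P Q) ?_ h2)
      exact fun a ha b hb => Subtype.ext (hQab a (toImage_ker P Q ha) b (toImage_ker P Q hb))
    · -- nonabelian core
      haveI hQnil : Group.IsNilpotent Q := (pCore_isPGroup (p := p) (G := X)).isNilpotent
      have hcne : commutator Q ≠ ⊥ := fun h => hQab fun a ha b hb => by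
        have hm : ⁅(⟨a, ha⟩ : Q), ⟨b, hb⟩⁆ ∈ commutator Q :=
          Subgroup.commutator_mem_commutator (Subgroup.mem_top _) (Subgroup.mem_top _)
        rw [h, Subgroup.mem_bot] at hm
        exact congrArg Subtype.val (commutatorElement_eq_one_iff_mul_comm.mp hm)
      have hzne := CfsgLib.OddOrder.PuigSeries.inf_center_ne_bot (commutator Q) hcne
      set N := (Subgroup.center Q ⊓ commutator Q).map Q.subtype with hN
      haveI hNn : N.Normal := by
        rw [hN, Subgroup.map_inf _ _ _ (Subgroup.subtype_injective Q)]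
        exact Subgroup.normal_inf_normal _ _
      have hNne : N ≠ ⊥ := by
        rw [hN, Ne, Subgroup.map_eq_bot_iff_of_injective _ (Subgroup.subtype_injective Q)]
        exact hzne
      obtain ⟨z, hz, hz1⟩ : ∃ z ∈ Subgroup.center Q ⊓ commutator Q, z ≠ 1 := by
        by_contra h; push Not at h
        exact hzne (eq_bot_iff.mpr fun z hz => Subgroup.mem_bot.mpr (h z hz))
      obtain ⟨θ, hθ⟩ : ∃ θ : IrrCharacter Q, (θ : Q → ℂ) z ≠ (θ : Q → ℂ) 1 := by
        by_contra h; push Not at h
        exact hz1 (isConj_one_left.mp ((isConj_iff_irr z 1).mpr h))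
      have hθp : p ∣ charDegree (θ : Q → ℂ) := by
        obtain ⟨j, hj⟩ := IsPGroup.iff_card.mp (pCore_isPGroup (p := p) (G := X))
        obtain ⟨i, -, hi⟩ := (Nat.dvd_prime_pow hp.out).mp (hj ▸ (degree_eq θ).2.1)
        rcases Nat.eq_zero_or_pos i with rfl | hi0
        · exfalso
          have h1 : (θ : Q → ℂ) 1 = 1 := by rw [(degree_eq θ).1, hi]; simp
          obtain ⟨f, hf⟩ := exists_linearIrr_eq θ h1
          have hfz : f z = 1 := Abelianization.commutator_subset_ker f hz.2
          exact hθ (by rw [← hf]; simp [linearIrr, hfz])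
        · rw [hi]; exact dvd_pow_self p hi0.ne'
      haveI := Fintype.ofFinite Q
      obtain ⟨χ, hχ⟩ := exists_mult_ne_zero_of_irr Q θ
      have hχp : p ∣ charDegree (χ : X → ℂ) := by
        obtain ⟨e, he⟩ := mult_nat Q (irr_isCharacter χ) θ
        have h := Clifford.clifford_degree (inferInstance : Q.Normal) χ.2 θ.2 hχ
        rw [show classInner (fun n : Q => (χ : X → ℂ) n) (θ : Q → ℂ) = (e : ℂ) from he,
          (degree_eq χ).1, (degree_eq θ).1, ← Nat.cast_mul, ← Nat.cast_mul, Nat.cast_inj] at h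
        rw [h]
        exact dvd_mul_of_dvd_right hθp _
      have hlt' : cnt p (X ⧸ N) < cnt p X :=
        cnt_quotient_lt N χ hχp (Subgroup.mem_map_of_mem Q.subtype hz)
          fun h => hθ (constituent_ker Q χ θ hχ h)
      refine dl_mono (Nat.succ_le_succ hlt') (dl_lift (toImage P N) ?_
        (ih _ (hlt N hNne) _ rfl (isPSolvable_quotient hX _) _))
      intro a ha b hb
      obtain ⟨a', ha', hae⟩ := Subgroup.mem_map.mp (toImage_ker P N ha)
      obtain ⟨b', -, hbe⟩ := Subgroup.mem_map.mp (toImage_ker P N hb)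
      refine Subtype.ext ?_
      show (a : X) * b = b * a
      rw [← hae, ← hbe]
      exact congrArg Subtype.val (Subgroup.mem_center_iff.mp ha'.1 b').symm

/-- Let p be a prime, G a finite p-solvable group and P a Sylow p-subgroup of G. If n is the number of irreducible complex characters of G whose degree is divisible by p, then the (n+1)-st term of the derived series of P is trivial. (The p-solvable case has a direct inductive proof.) -/
theorem result {G : Type*} [Group G] [Finite G] (p : ℕ) [Fact p.Prime] (hG : Cfsg.IsPSolvable p G) (P : Sylow p G) : derivedSeries ↥(P : Subgroup G) (Nat.card {χ : Cfsg.IrrCharacter G // p ∣ Cfsg.charDegree (χ : G → ℂ)} + 1) = ⊥ := by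
  exact main hG P

end Cfsg.Agent.S4768
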