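import Cfsg.Statements.S4774
import Cfsg.Agent.Lib.SL2Char.Projective

set_option autoImplicit false
open Cfsg

namespace Cfsg.Agent.S4774

open CfsgLib.SL2Char CfsgLib.Chars17

/-- The degree graph from the shape of the degree set. -/
theorem graph_of_shape (S : Type*) [Group S] (t n q : ℕ) (ht : t.Prime) (hn : 0 < n)
    (hq : q = t ^ n) (hodd : Odd q)
    (hshape : ∀ d ∈ charDegrees S, d = 1 ∨ d = q ∨ d ∣ q + 1 ∨ d ∣ q - 1)
    (h1 : q + 1 ∈ charDegrees S) (h2 : q - 1 ∈ charDegrees S) (h3 : q ∈ charDegrees S) :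
    degreePrimes S = {r : ℕ | r.Prime ∧ r ∣ q * (q ^ 2 - 1)} ∧
      ∀ r s : ℕ, (degreeGraph S).Adj r s ↔ (r ≠ s ∧ r.Prime ∧ s.Prime ∧ r ∣ q ^ 2 - 1 ∧
        s ∣ q ^ 2 - 1 ∧ (r = 2 ∨ s = 2 ∨ (r ∣ q + 1 ∧ s ∣ q + 1) ∨ (r ∣ q - 1 ∧ s ∣ q - 1))) := by
  have hfac : q ^ 2 - 1 = (q + 1) * (q - 1) := by simpa using Nat.sq_sub_sq q 1
  have htwo : 2 ∣ q + 1 ∧ 2 ∣ q - 1 := by
    obtain ⟨k, hk⟩ := hodd
    exact ⟨⟨k + 1, by omega⟩, ⟨k, by omega⟩⟩
  refine ⟨?_, fun r s => ⟨?_, ?_⟩⟩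
  · ext r
    constructor
    · rintro ⟨hr, d, hd, hrd⟩
      refine ⟨hr, ?_⟩
      rw [hfac]
      rcases hshape d hd with rfl | rfl | e | e
      · exact absurd hrd hr.not_dvd_one
      · exact hrd.mul_right _
      · exact ((hrd.trans e).mul_right _).mul_left _
      · exact ((hrd.trans e).mul_left _).mul_left _
    · rintro ⟨hr, hd⟩
      rw [hfac] at hd
      rcases hr.dvd_mul.1 hd with e | e
      · exact ⟨hr, q, h3, e⟩
      · rcases hr.dvd_mul.1 e with e' | e'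
        · exact ⟨hr, q + 1, h1, e'⟩
        · exact ⟨hr, q - 1, h2, e'⟩
  · rintro ⟨hrs, hr, hs, d, hd, hdvd⟩
    have hrd := (dvd_mul_right r s).trans hdvd
    have hsd := (dvd_mul_left s r).trans hdvd
    rcases hshape d hd with rfl | rfl | e | e
    · exact absurd hrd hr.not_dvd_one
    · exfalso
      rw [hq] at hrd hsd
      exact hrs (((Nat.prime_dvd_prime_iff_eq hr ht).1 (hr.dvd_of_dvd_pow hrd)).trans
        ((Nat.prime_dvd_prime_iff_eq hs ht).1 (hs.dvd_of_dvd_pow hsd)).symm)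
    · refine ⟨hrs, hr, hs, ?_, ?_, Or.inr (Or.inr (Or.inl ⟨hrd.trans e, hsd.trans e⟩))⟩ <;> rw [hfac]
      · exact (hrd.trans e).mul_right _
      · exact (hsd.trans e).mul_right _
    · refine ⟨hrs, hr, hs, ?_, ?_, Or.inr (Or.inr (Or.inr ⟨hrd.trans e, hsd.trans e⟩))⟩ <;> rw [hfac]
      · exact (hrd.trans e).mul_left _
      · exact (hsd.trans e).mul_left _
  · rintro ⟨hrs, hr, hs, hr2, hs2, hcase⟩
    have hcop : r.Coprime s := (Nat.coprime_primes hr hs).2 hrs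
    have key : (r ∣ q + 1 ∧ s ∣ q + 1) ∨ (r ∣ q - 1 ∧ s ∣ q - 1) := by
      rw [hfac] at hr2 hs2
      rcases hcase with rfl | rfl | h | h
      · rcases hs.dvd_mul.1 hs2 with e | e
        · exact Or.inl ⟨htwo.1, e⟩
        · exact Or.inr ⟨htwo.2, e⟩
      · rcases hr.dvd_mul.1 hr2 with e | e
        · exact Or.inl ⟨e, htwo.1⟩
        · exact Or.inr ⟨e, htwo.2⟩
      · exact Or.inl h
      · exact Or.inr h
    rcases key with ⟨a, b⟩ | ⟨a, b⟩
    · exact ⟨hrs, hr, hs, q + 1, h1, hcop.mul_dvd_of_dvd_of_dvd a b⟩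
    · exact ⟨hrs, hr, hs, q - 1, h2, hcop.mul_dvd_of_dvd_of_dvd a b⟩

/-- Let F be a finite field of odd characteristic t with q > 5 elements and let S be isomorphic to PSL(2,F) or to SL(2,F). Then the vertices of the character degree graph of S are the primes dividing q(q²−1); the prime t is adjacent to no vertex; two distinct primes dividing q² − 1 are adjacent exactly when one of them is 2, or both divide q + 1, or both divide q − 1. -/
theorem result (F : Type*) [Field F] [Fintype F] (t : ℕ) [Fact t.Prime] [CharP F t] (ht : t ≠ 2) (q : ℕ) (hq : Fintype.card F = q) (h5 : 5 < q) {S : Type*} [Group S] [Finite S] (hS : Nonempty (S ≃* Matrix.ProjectiveSpecialLinearGroup (Fin 2) F) ∨ Nonempty (S ≃* Matrix.SpecialLinearGroup (Fin 2) F)) : Cfsg.degreePrimes S = {r : ℕ | r.Prime ∧ r ∣ q * (q ^ 2 - 1)} ∧ ∀ r s : ℕ, (Cfsg.degreeGraph S).Adj r s ↔ (r ≠ s ∧ r.Prime ∧ s.Prime ∧ r ∣ q ^ 2 - 1 ∧ s ∣ q ^ 2 - 1 ∧ (r = 2 ∨ s = 2 ∨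 (r ∣ q + 1 ∧ s ∣ q + 1) ∨ (r ∣ q - 1 ∧ s ∣ q - 1))) := by
  classical
  subst hq
  obtain ⟨n, hprime, hn⟩ := FiniteField.card F t
  have hodd : Odd (Fintype.card F) := by
    rw [hn]; exact (hprime.odd_of_ne_two ht).pow
  have hsub := Projective.charDegrees_projective_subset (F := F)
  have hst : Fintype.card F ∈ Cfsg.charDegrees (Matrix.ProjectiveSpecialLinearGroup (Fin 2) F) := by
    obtain ⟨η, -, hη⟩ := Projective.exists_steinberg (F := F)
    exact ⟨η, hη⟩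
  have h1 := Projective.mem_charDegrees_succ hodd h5
  have h2 := Projective.mem_charDegrees_pred hodd h5
  rcases hS with ⟨⟨e⟩⟩ | ⟨⟨e⟩⟩
  · refine graph_of_shape S t n _ hprime n.pos hn hodd ?_ ?_ ?_ ?_ <;>
      rw [CfsgLib.Chars17.SLTwoEven.charDegrees_congr e]
    · exact fun d hd => Projective.degree_shape hodd (hsub hd)
    · exact h1
    · exact h2
    · exact hst
  · refine graph_of_shape S t n _ hprime n.pos hn hodd ?_ ?_ ?_ ?_ <;>
      rw [CfsgLib.Chars17.SLTwoEven.charDegrees_congr e]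
    · exact fun d hd => Projective.degree_shape hodd hd
    · exact hsub h1
    · exact hsub h2
    · exact hsub hst

end Cfsg.Agent.S4774
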