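import Cfsg.Statements.S4775
import Cfsg.Agent.Lib.SuzukiChars.Degrees
import Cfsg.Agent.Lib.Chars17.SLTwoEven

set_option autoImplicit false
open Cfsg

namespace Cfsg.Agent.S4775

/-- Let F be a finite field with q = 2^(2m+1) ≥ 8 elements and let S be isomorphic to the Suzuki group over F. Then the vertices of the character degree graph of S are 2 and the primes dividing (q − 1)(q² + 1); the primes dividing (q − 1)(q² + 1) are pairwise adjacent, and 2 is adjacent exactly to the primes dividing q − 1. -/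
theorem result (F : Type*) [Field F] [Fintype F] (m : ℕ) (hm : 1 ≤ m) (q : ℕ) (hq : Fintype.card F = q) (hqm : q = 2 ^ (2 * m + 1)) {S : Type*} [Group S] [Finite S] (hS : Nonempty (S ≃* ↥(Cfsg.Lie.Sz F (2 ^ (m + 1))))) : Cfsg.degreePrimes S = {r : ℕ | r.Prime ∧ (r = 2 ∨ r ∣ (q - 1) * (q ^ 2 + 1))} ∧ ∀ r s : ℕ, (Cfsg.degreeGraph S).Adj r s ↔ (r ≠ s ∧ r.Prime ∧ s.Prime ∧ ((r ∣ (q - 1) * (q ^ 2 + 1) ∧ s ∣ (q - 1) * (q ^ 2 + 1)) ∨ (r = 2 ∧ s ∣ q - 1) ∨ (s = 2 ∧ r ∣ q - 1))) := by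
  obtain ⟨e⟩ := hS
  classical
  have hF : Fintype.card F = 2 ^ (2 * m + 1) := hq.trans hqm
  obtain ⟨hchar, ⟨P⟩⟩ := CfsgLib.SuzukiGroup.exists_params hF
  have := hchar
  let _ : Fintype ↥(Cfsg.Lie.Sz F (2 ^ (m + 1))) := Fintype.ofFinite _
  have hD : charDegrees S = {1, q ^ 2, q ^ 2 + 1, (q - 1) * CfsgLib.SuzukiGroup.toA m,
      (q - 1) * CfsgLib.SuzukiGroup.toB m, (q - 1) * 2 ^ m} := by
    rw [CfsgLib.Chars17.SLTwoEven.charDegrees_congr e, CfsgLib.SuzukiChars.charDegrees_sz P hF hm, hq]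
  set A := CfsgLib.SuzukiGroup.toA m with hA
  set B := CfsgLib.SuzukiGroup.toB m with hB
  have hAB : A * B = q ^ 2 + 1 := by rw [hA, hB, hqm]; exact CfsgLib.SuzukiGroup.toA_mul_toB m
  obtain ⟨hcA, hcB⟩ := CfsgLib.SuzukiGroup.q_sub_one_coprime (m := m) hF hm
  rw [hq, ← hA] at hcA
  rw [hq, ← hB] at hcB
  have hqe : Even q := hqm ▸ Nat.even_pow.2 ⟨even_two, by omega⟩
  have hq1 : 1 ≤ q := hqm ▸ Nat.one_le_two_pow
  have h2q1 : ¬ 2 ∣ q - 1 := fun h => by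
    obtain ⟨c, hc⟩ := hqe
    omega
  have h2sq : ¬ 2 ∣ q ^ 2 + 1 := fun h => by
    obtain ⟨c, hc⟩ := (Nat.even_pow.2 ⟨hqe, two_ne_zero⟩ : Even (q ^ 2))
    omega
  have hmem : ∀ d, d ∈ charDegrees S ↔ d = 1 ∨ d = q ^ 2 ∨ d = q ^ 2 + 1 ∨ d = (q - 1) * A ∨
      d = (q - 1) * B ∨ d = (q - 1) * 2 ^ m := fun d => by rw [hD]; simp
  have htwo : ∀ r, r.Prime → r ∣ q ^ 2 → r = 2 := fun r hr h => by
    rw [hqm, ← pow_mul] at h
    exact (Nat.prime_dvd_prime_iff_eq hr Nat.prime_two).1 (hr.dvd_of_dvd_pow h)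
  -- a prime of a degree
  have hpr : ∀ r, r.Prime → ∀ d ∈ charDegrees S, r ∣ d → r = 2 ∨ r ∣ (q - 1) * (q ^ 2 + 1) := by
    intro r hr d hd hrd
    rcases (hmem d).1 hd with rfl | rfl | rfl | rfl | rfl | rfl
    · exact absurd hrd hr.not_dvd_one
    · exact Or.inl (htwo r hr hrd)
    · exact Or.inr (hrd.mul_left _)
    · exact Or.inr (hrd.trans (Nat.mul_dvd_mul_left _ (hAB ▸ dvd_mul_right A B)))
    · exact Or.inr (hrd.trans (Nat.mul_dvd_mul_left _ (hAB ▸ dvd_mul_left B A)))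
    · rcases hr.dvd_mul.1 hrd with h | h
      · exact Or.inr (h.mul_right _)
      · exact Or.inl ((Nat.prime_dvd_prime_iff_eq hr Nat.prime_two).1 (hr.dvd_of_dvd_pow h))
  -- a prime adjacent to two
  have hadj2 : ∀ r, r.Prime → r ≠ 2 → ∀ d ∈ charDegrees S, 2 * r ∣ d → r ∣ q - 1 := by
    intro r hr hr2 d hd hrd
    have h2 : 2 ∣ d := dvd_of_mul_right_dvd hrd
    have hr' : r ∣ d := dvd_of_mul_left_dvd hrd
    have hAB2 : ¬ 2 ∣ A ∧ ¬ 2 ∣ B := ⟨fun h => h2sq (hAB ▸ h.mul_right B), fun h => h2sq (hAB ▸ h.mul_left A)⟩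
    rcases (hmem d).1 hd with rfl | rfl | rfl | rfl | rfl | rfl
    · exact absurd hr' hr.not_dvd_one
    · exact absurd (htwo r hr hr') hr2
    · exact absurd h2 h2sq
    · exact absurd h2 (fun h => (Nat.prime_two.dvd_mul.1 h).elim h2q1 hAB2.1)
    · exact absurd h2 (fun h => (Nat.prime_two.dvd_mul.1 h).elim h2q1 hAB2.2)
    · exact (hr.dvd_mul.1 hr').resolve_right fun h =>
        hr2 ((Nat.prime_dvd_prime_iff_eq hr Nat.prime_two).1 (hr.dvd_of_dvd_pow h))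
  have hsplit : ∀ r, r.Prime → r ∣ (q - 1) * (q ^ 2 + 1) → r ∣ q - 1 ∨ r ∣ A ∨ r ∣ B := fun r hr h => by
    rw [← hAB] at h
    rcases hr.dvd_mul.1 h with h | h
    · exact Or.inl h
    · exact Or.inr (hr.dvd_mul.1 h)
  have h2m : 2 ∣ 2 ^ m := dvd_pow_self 2 (by omega)
  refine ⟨Set.ext fun r => ?_, fun r s => ?_⟩
  · simp only [degreePrimes, Set.mem_ofPred_eq]
    refine and_congr_right fun hr => ⟨fun ⟨d, hd, hrd⟩ => hpr r hr d hd hrd, ?_⟩
    rintro (rfl | h)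
    · exact ⟨(q - 1) * 2 ^ m, (hmem _).2 (by simp), h2m.mul_left _⟩
    · rcases hsplit r hr h with h | h | h
      · exact ⟨(q - 1) * A, (hmem _).2 (by simp), h.mul_right _⟩
      · exact ⟨(q - 1) * A, (hmem _).2 (by simp), h.mul_left _⟩
      · exact ⟨(q - 1) * B, (hmem _).2 (by simp), h.mul_left _⟩
  · simp only [degreeGraph]
    constructor
    · rintro ⟨hne, hr, hs, d, hd, hrs⟩
      refine ⟨hne, hr, hs, ?_⟩
      by_cases hr2 : r = 2
      · subst hr2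
        exact Or.inr (Or.inl ⟨rfl, hadj2 s hs (Ne.symm hne) d hd hrs⟩)
      by_cases hs2 : s = 2
      · subst hs2
        exact Or.inr (Or.inr ⟨rfl, hadj2 r hr hne d hd (by rwa [mul_comm])⟩)
      exact Or.inl ⟨(hpr r hr d hd (dvd_of_mul_right_dvd hrs)).resolve_left hr2,
        (hpr s hs d hd (dvd_of_mul_left_dvd hrs)).resolve_left hs2⟩
    · rintro ⟨hne, hr, hs, h⟩
      refine ⟨hne, hr, hs, ?_⟩
      have hco : r.Coprime s := (Nat.coprime_primes hr hs).2 hne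
      have use' : ∀ d, d ∈ charDegrees S → r ∣ d → s ∣ d → ∃ d ∈ charDegrees S, r * s ∣ d :=
        fun d hd h1 h2 => ⟨d, hd, hco.mul_dvd_of_dvd_of_dvd h1 h2⟩
      rcases h with ⟨h1, h2⟩ | ⟨rfl, h2⟩ | ⟨rfl, h2⟩
      · rcases hsplit r hr h1 with a | a | a <;> rcases hsplit s hs h2 with b | b | b
        · exact use' _ ((hmem ((q - 1) * A)).2 (by simp)) (a.mul_right _) (b.mul_right _)
        · exact use' _ ((hmem ((q - 1) * A)).2 (by simp)) (a.mul_right _) (b.mul_left _)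
        · exact use' _ ((hmem ((q - 1) * B)).2 (by simp)) (a.mul_right _) (b.mul_left _)
        · exact use' _ ((hmem ((q - 1) * A)).2 (by simp)) (a.mul_left _) (b.mul_right _)
        · exact use' _ ((hmem ((q - 1) * A)).2 (by simp)) (a.mul_left _) (b.mul_left _)
        · exact use' _ ((hmem (q ^ 2 + 1)).2 (by simp)) (hAB ▸ a.mul_right _) (hAB ▸ b.mul_left _)
        · exact use' _ ((hmem ((q - 1) * B)).2 (by simp)) (a.mul_left _) (b.mul_right _)
        · exact use' _ ((hmem (q ^ 2 + 1)).2 (by simp)) (hAB ▸ a.mul_left _) (hAB ▸ b.mul_right _)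
        · exact use' _ ((hmem ((q - 1) * B)).2 (by simp)) (a.mul_left _) (b.mul_left _)
      · exact use' _ ((hmem ((q - 1) * 2 ^ m)).2 (by simp)) (h2m.mul_left _) (h2.mul_right _)
      · exact use' _ ((hmem ((q - 1) * 2 ^ m)).2 (by simp)) (h2.mul_right _) (h2m.mul_left _)

end Cfsg.Agent.S4775
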