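import Cfsg.Statements.S4784
import Cfsg.Agent.Lib.Blocks.PermRealConstituent

set_option autoImplicit false
open Cfsg

namespace Cfsg.Agent.S4784

/-- Let H be a subgroup of the finite group G and consider the permutation character of G on the cosets of H (the function induced from the principal character of H). Then exactly one irreducible constituent of it is real-valued with Frobenius–Schur indicator +1 (namely the principal character) if and only if the normal core of H has odd index in G. -/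
theorem result {G : Type*} [Group G] [Fintype G] (H : Subgroup G) : Nat.card {χ : Cfsg.IrrCharacter G // Cfsg.classInner (Cfsg.indFun H (fun _ : H => (1 : ℂ))) (χ : G → ℂ) ≠ 0 ∧ (∀ g : G, (starRingEnd ℂ) ((χ : G → ℂ) g) = (χ : G → ℂ) g) ∧ (Nat.card G : ℂ)⁻¹ * ∑ g : G, (χ : G → ℂ) (g * g) = 1} = 1 ↔ Odd H.normalCore.index := by
  classical
  let : Fintype ↥H := Fintype.ofFinite _
  have h1 : Cfsg.classInner (Cfsg.indFun H (fun _ : H => (1 : ℂ))) (fun _ : G => (1 : ℂ)) ≠ 0 := by
    rw [CfsgLib.Induction.classInner_indFun (H := H) (fun _ : H => (1 : ℂ)) (ψ := fun _ : G => (1 : ℂ))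
      (fun _ _ => rfl)]
    simp [Cfsg.classInner]
  let one : {χ : Cfsg.IrrCharacter G // Cfsg.classInner (Cfsg.indFun H (fun _ : H => (1 : ℂ)))
      (χ : G → ℂ) ≠ 0 ∧ (∀ g : G, (starRingEnd ℂ) ((χ : G → ℂ) g) = (χ : G → ℂ) g) ∧
      (Nat.card G : ℂ)⁻¹ * ∑ g : G, (χ : G → ℂ) (g * g) = 1} :=
    ⟨⟨fun _ => 1, CfsgLib.Characters.isIrrCharacter_one⟩, h1, fun g => by simp, by simp⟩
  constructor
  · intro hone
    by_contra hev
    obtain ⟨χ, hne, hcl, hnu⟩ := CfsgLib.PermReal.exists_of_even H hev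
    have hsub := (Nat.card_eq_one_iff_unique.1 hone).1
    have hfs : CfsgLib.FrobSchur.fsInd (χ : G → ℂ) = 1 :=
      (CfsgLib.FrobSchur.fsInd_eq_sum _).trans hnu
    have hreal := CfsgLib.FrobSchur.real_of_fsInd_ne_zero χ.2 (by rw [hfs]; exact one_ne_zero)
    have h := hsub.elim ⟨χ, hcl, fun g => Complex.conj_eq_iff_im.2 (hreal g), hnu⟩ one
    exact hne (congrArg (fun x => ((x.1 : Cfsg.IrrCharacter G) : G → ℂ)) h)
  · intro hodd
    refine Nat.card_eq_one_iff_unique.2 ⟨⟨fun a b => ?_⟩, ⟨one⟩⟩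
    have key : ∀ x : {χ : Cfsg.IrrCharacter G // Cfsg.classInner (Cfsg.indFun H (fun _ : H => (1 : ℂ)))
      (χ : G → ℂ) ≠ 0 ∧ (∀ g : G, (starRingEnd ℂ) ((χ : G → ℂ) g) = (χ : G → ℂ) g) ∧
      (Nat.card G : ℂ)⁻¹ * ∑ g : G, (χ : G → ℂ) (g * g) = 1}, x = one := by
      rintro ⟨χ, hcl, hreal, hnu⟩
      refine Subtype.ext (Subtype.ext ?_)
      by_contra hne
      rw [CfsgLib.Induction.classInner_indFun (H := H) (fun _ : H => (1 : ℂ))
        (CfsgLib.Characters.irr_isClassFunction χ)] at hcl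
      have h0 := CfsgLib.PermReal.nu_eq_zero_of_odd H.normalCore hodd χ hne
        (fun g k hk => CfsgLib.PermReal.core_fixed H χ hcl g k hk)
      rw [CfsgLib.PermReal.nu, hnu] at h0
      exact one_ne_zero h0
    rw [key a, key b]

end Cfsg.Agent.S4784
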