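import Cfsg.Statements.S4796
import Cfsg.Agent.Lib.Chars17.PrimeCodegree
import Cfsg.Agent.Lib.Frobenius.Basic

set_option autoImplicit false
open Cfsg

namespace Cfsg.Agent.S4796

open CfsgLib.Chars17 CfsgLib.Characters


/-- Let G be a finite group with a faithful irreducible complex character χ whose codegree #G / χ(1) is a prime p (for a faithful character the kernel is trivial, so the codegree is #G / χ(1)). Then either G is cyclic of order p, or G is a Frobenius group whose Frobenius kernel has order p: some proper non-trivial subgroup H satisfies H ∩ gHg⁻¹ = 1 for every element g outside H, and the set of elements lying in no conjugate of H, together with the identity, has exactly p elements. -/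
theorem result {G : Type*} [Group G] [Finite G] (χ : Cfsg.IrrCharacter G) (hfaith : ∀ g : G, (χ : G → ℂ) g = (χ : G → ℂ) 1 → g = 1) (p : ℕ) (hp : p.Prime) (hcod : Nat.card G = p * Cfsg.charDegree (χ : G → ℂ)) : (IsCyclic G ∧ Nat.card G = p) ∨ ∃ H : Subgroup G, Cfsg.IsFrobeniusComplement H ∧ Nat.card ↥(Cfsg.frobeniusKernel H) = p := by
  haveI := Fact.mk hp
  rcases exists_normal_of_prime_codegree χ hp hcod with h | ⟨P, hPn, hPcard, hPidx, hcop, hone, hcent⟩
  · rw [h, mul_one] at hcod
    exact .inl ⟨isCyclic_of_prime_card hcod, hcod⟩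
  right
  obtain ⟨H, hH⟩ := Subgroup.exists_right_complement'_of_coprime (N := P) hcop
  have hHidx : H.index = p := by rw [hH.index_eq_card, hPcard]
  have hFrob : Cfsg.IsFrobeniusComplement H := by
    refine ⟨fun h => ?_, fun h => ?_, fun g hg => ?_⟩
    · subst h
      rw [Subgroup.isComplement'_bot_right] at hH
      rw [hH, Subgroup.index_top] at hone
      exact lt_irrefl _ hone
    · rw [h, Subgroup.index_top] at hHidx
      exact hp.ne_one hHidx.symm
    · rw [Subgroup.eq_bot_iff_forall]
      intro x hx
      obtain ⟨hxH, hxg⟩ := hx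
      replace hxg := CfsgLib.Frobenius.mem_conj_smul_iff.1 hxg
      obtain ⟨⟨⟨a, ha⟩, ⟨b, hb⟩⟩, hab⟩ := hH.2 g
      dsimp only at hab
      subst hab
      have hy : a⁻¹ * x * a ∈ H := by
        have := H.mul_mem (H.mul_mem hb hxg) (H.inv_mem hb)
        simpa [mul_assoc] using this
      have hdiff : x⁻¹ * (a⁻¹ * x * a) ∈ P ⊓ H := by
        refine ⟨?_, H.mul_mem (H.inv_mem hxH) hy⟩
        have := hPn.conj_mem _ (P.inv_mem ha) x⁻¹
        simpa [mul_assoc] using P.mul_mem this ha
      rw [hH.disjoint.eq_bot, Subgroup.mem_bot, inv_mul_eq_one] at hdiff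
      by_contra hx1
      apply hg
      have hcomm : Commute a x := by
        calc a * x = a * (a⁻¹ * x * a) := by rw [← hdiff]
          _ = x * a := by group
      by_cases ha1 : a = 1
      · rw [ha1, one_mul]; exact hb
      exfalso
      refine hx1 (Subgroup.mem_bot.1 (hH.disjoint.eq_bot ▸ ⟨hcent x ?_, hxH⟩))
      intro a' ha'
      have hz := zpowers_eq_top_of_prime_card hPcard (g := (⟨a, ha⟩ : P))
        (fun h => ha1 (congrArg Subtype.val h))
      obtain ⟨i, hi⟩ := Subgroup.mem_zpowers_iff.1 (hz ▸ Subgroup.mem_top (⟨a', ha'⟩ : P))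
      have hi' := congrArg Subtype.val hi
      simp only [SubgroupClass.coe_zpow] at hi'
      rw [← hi']
      exact ((hcomm.zpow_left i).symm).eq
  exact ⟨H, hFrob, by
    rw [Nat.card_coe_set_eq, CfsgLib.Frobenius.ncard_frobeniusKernel hFrob, hHidx]⟩

end Cfsg.Agent.S4796
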