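import Cfsg.Statements.S4797
import Cfsg.Agent.Lib.Chars17.PrimeCodegree

set_option autoImplicit false
open Cfsg

namespace Cfsg.Agent.S4797

open CfsgLib.Chars17 CfsgLib.Characters


/-- The codegree of an irreducible complex character χ of a finite group G is [G : ker χ] / χ(1), where ker χ is the set of elements at which χ takes the value χ(1). A non-trivial finite group is perfect if and only if no irreducible complex character of it has prime codegree. -/
theorem result {G : Type*} [Group G] [Finite G] [Nontrivial G] : commutator G = ⊤ ↔ ∀ χ : Cfsg.IrrCharacter G, ¬ ((Nat.card G / (Nat.card {g : G // (χ : G → ℂ) g = (χ : G → ℂ) 1} * Cfsg.charDegree (χ : G → ℂ)))).Prime := by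
  classical
  let _ := Fintype.ofFinite G
  constructor
  · intro hperf χ hprime
    have hmul := codegree_mul χ
    set q := Nat.card G / (Nat.card {g : G // (χ : G → ℂ) g = (χ : G → ℂ) 1} *
      charDegree (χ : G → ℂ)) with hq
    obtain ⟨η, hη⟩ := exists_infl_eq (irrKer χ) (le_refl (irrKer χ))
    have hdeg : charDegree (η : G ⧸ irrKer χ → ℂ) = charDegree (χ : G → ℂ) := by
      conv_rhs => rw [← hη]
      simp [charDegree, infl_apply]
    have hcard : Nat.card (G ⧸ irrKer χ) = q * charDegree (η : G ⧸ irrKer χ → ℂ) := by
      rw [hdeg, hmul, Subgroup.index]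
    -- the quotient has no nontrivial homomorphism to a commutative group
    have hperf' : ∀ {A : Type} [CommGroup A] (f : G ⧸ irrKer χ →* A), ∀ x, f x = 1 := by
      intro A _ f x
      induction x using QuotientGroup.induction_on with | H g => ?_
      exact Abelianization.commutator_subset_ker (f.comp (QuotientGroup.mk' (irrKer χ)))
        (hperf ▸ Subgroup.mem_top g)
    rcases exists_normal_of_prime_codegree η hprime hcard with hd | ⟨P, hPn, hPcard, -, -, hone, hcent⟩
    · obtain ⟨n, ρ, hρ, hρη⟩ := η.2
      have hn : n = 1 := by
        rw [← hρη] at hd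
        simpa [charDegree] using hd
      subst hn
      let f : G ⧸ irrKer χ →* ℂ :=
        { toFun := fun x => (matOf ρ x) 0 0
          map_one' := by simp
          map_mul' := fun a b => by simp [map_mul, Matrix.mul_apply] }
      have hf : ∀ x, f x = (η : G ⧸ irrKer χ → ℂ) x := fun x => by
        rw [← hρη, ← trace_matOf]
        simp [f, Matrix.trace]
      have htriv : ∀ x, (η : G ⧸ irrKer χ → ℂ) x = 1 := fun x => by
        rw [← hf]
        exact congrArg Units.val (hperf' f.toHomUnits x)
      have hχ1 : irrKer χ = ⊤ := (irrKer_eq_top_iff χ).2 (by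
        funext g
        rw [← hη, infl_apply, htriv])
      rw [hχ1, Subgroup.index_top] at hmul
      exact hprime.ne_one (Nat.eq_one_of_mul_eq_one_right hmul)
    · haveI := Fact.mk hprime
      haveI := isCyclic_of_prime_card hPcard
      let u := (IsCyclic.mulAutMulEquiv P).symm
      have hall : ∀ x : G ⧸ irrKer χ, x ∈ P := fun x => hcent x fun a ha => by
        have h1 := hperf' (u.symm.toMonoidHom.comp (MulAut.conjNormal (H := P))) x
        have h2 : MulAut.conjNormal (H := P) x = 1 := u.symm.injective (h1.trans u.symm.map_one.symm)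
        have h3 := congrArg (fun φ : MulAut P => ((φ ⟨a, ha⟩ : P) : G ⧸ irrKer χ)) h2
        simp only [MulAut.conjNormal_apply, MulAut.one_apply] at h3
        exact mul_inv_eq_iff_eq_mul.1 h3
      rw [(Subgroup.eq_top_iff' P).2 hall, Subgroup.index_top] at hone
      exact lt_irrefl _ hone
  · intro h
    by_contra hne
    obtain ⟨M, hM, hMle⟩ := (eq_top_or_exists_le_coatom (commutator G)).resolve_left hne
    haveI : M.Normal := ⟨fun g hg x => by
      have := M.mul_mem (hMle (Subgroup.commutator_mem_commutator (Subgroup.mem_top x)
        (Subgroup.mem_top g))) hg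
      simpa [commutatorElement_def, mul_assoc] using this⟩
    have hsub : ∀ L : Subgroup (G ⧸ M), L = ⊥ ∨ L = ⊤ := by
      intro L
      have hle : M ≤ L.comap (QuotientGroup.mk' M) := fun x hx => by
        rw [Subgroup.mem_comap, QuotientGroup.mk'_apply, (QuotientGroup.eq_one_iff x).2 hx]
        exact L.one_mem
      rcases hle.eq_or_lt with h' | h'
      · left
        rw [← Subgroup.map_comap_eq_self_of_surjective (QuotientGroup.mk'_surjective M) L, ← h',
          QuotientGroup.map_mk'_self]
      · right
        rw [← Subgroup.map_comap_eq_self_of_surjective (QuotientGroup.mk'_surjective M) L,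
          hM.2 _ h', Subgroup.map_top_of_surjective _ (QuotientGroup.mk'_surjective M)]
    haveI : Nontrivial (G ⧸ M) := by
      refine not_subsingleton_iff_nontrivial.1 fun hss => hM.1 ?_
      exact QuotientGroup.subsingleton_iff.1 hss
    obtain ⟨η, hη⟩ := exists_nontrivial_irr (G := G ⧸ M)
    let χ := infl M η
    have hker : irrKer χ = M := by
      refine ((hM.le_iff).1 (le_irrKer_infl M η)).resolve_left fun htop => hη (Subtype.ext ?_)
      funext x
      induction x using QuotientGroup.induction_on with | H g => ?_
      exact congrFun ((irrKer_eq_top_iff χ).1 htop) g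
    obtain ⟨p, hp, hpdvd⟩ := Nat.exists_prime_and_dvd (Finite.one_lt_card (α := G ⧸ M)).ne'
    haveI := Fact.mk hp
    obtain ⟨x, hx⟩ := exists_prime_orderOf_dvd_card' p hpdvd
    have hcardp : Nat.card (G ⧸ M) = p := by
      rw [← hx, ← Nat.card_zpowers, ((hsub (Subgroup.zpowers x)).resolve_left fun h' => by
        rw [Subgroup.zpowers_eq_bot] at h'
        rw [h', orderOf_one] at hx
        exact hp.ne_one hx.symm), Subgroup.card_top]
    have hmul := codegree_mul χ
    have hd : charDegree (χ : G → ℂ) = 1 := by
      haveI := isCyclic_of_prime_card hcardp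
      haveI : IsMulCommutative (G ⧸ M) := ⟨⟨IsCyclic.commGroup.mul_comm⟩⟩
      have hd1 : charDegree (η : G ⧸ M → ℂ) = 1 := by
        obtain ⟨n, ρ, hρ, hρη⟩ := η.2
        haveI := hρ
        rw [← hρη]
        simp [charDegree, Representation.IsIrreducible.finrank_eq_one_of_isMulCommutative ρ,
          -Module.finrank_fin_fun]
      rw [← hd1]
      simp [charDegree, χ, infl_apply]
    rw [hd, mul_one, hker, Subgroup.index, hcardp] at hmul
    refine h χ ?_
    rw [hd, hmul]
    exact hp

end Cfsg.Agent.S4797
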