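import Cfsg.Statements.S4798
import Cfsg.Agent.Lib.Chars17.Constituents

set_option autoImplicit false
open Cfsg

namespace Cfsg.Agent.S4798

open CfsgLib.Chars17 CfsgLib.Characters


/-- Let p be a prime and χ a faithful irreducible complex character of the finite group G (χ(g) = χ(1) only for g = 1), so that its codegree is #G / χ(1). Then #G / χ(1) is a power of p if and only if χ is induced from a character of a Sylow p-subgroup of G. -/
theorem result {G : Type*} [Group G] [Fintype G] (p : ℕ) [Fact p.Prime] (χ : Cfsg.IrrCharacter G) (hfaith : ∀ g : G, (χ : G → ℂ) g = (χ : G → ℂ) 1 → g = 1) : (∃ k : ℕ, Nat.card G = p ^ k * Cfsg.charDegree (χ : G → ℂ)) ↔ ∃ (P : Sylow p G) (θ : ↥(P : Subgroup G) → ℂ), Cfsg.IsCharacter ↥(P : Subgroup G) θ ∧ (χ : G → ℂ) = Cfsg.indFun (P : Subgroup G) θ := by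
  classical
  have hd0 : 0 < charDegree (χ : G → ℂ) := irrDegree_pos χ
  constructor
  · rintro ⟨k, hk⟩
    let P : Sylow p G := default
    set A := (Nat.card G).factorization p with hA
    have hPcard : Nat.card (P : Subgroup G) = p ^ A := P.card_eq_multiplicity
    have hp : p.Prime := Fact.out
    have hkA : k ≤ A := (hp.pow_dvd_iff_le_factorization Nat.card_pos.ne').1 ⟨_, hk⟩
    have hdeg : charDegree (χ : G → ℂ) = (P : Subgroup G).index * p ^ (A - k) := by
      have h1 := Subgroup.card_mul_index (P : Subgroup G)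
      rw [hPcard, hk] at h1
      refine Nat.eq_of_mul_eq_mul_left (pow_pos hp.pos k) ?_
      rw [← h1, mul_comm _ (p ^ (A - k)), ← mul_assoc, ← pow_add, Nat.add_sub_cancel' hkA]
    obtain ⟨m, -, hm, hd⟩ := exists_decomp (isCharacter_res (P : Subgroup G) (irr_isCharacter χ))
    rw [charDegree_res] at hd
    obtain ⟨ψ, hψm, hψd⟩ : ∃ ψ, m ψ ≠ 0 ∧ charDegree (ψ : ↥(P : Subgroup G) → ℂ) ≤ p ^ (A - k) := by
      by_contra! hcon
      have hdvd : p ^ (A - k + 1) ∣ charDegree (χ : G → ℂ) := by
        rw [hd]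
        refine Finset.dvd_sum fun ψ _ => ?_
        by_cases h0 : m ψ = 0
        · simp [h0]
        · obtain ⟨i, -, hi⟩ := (Nat.dvd_prime_pow hp).1 (hPcard ▸ irrDegree_dvd_card ψ)
          rw [hi]
          refine dvd_mul_of_dvd_right (pow_dvd_pow p ?_) _
          have := hcon ψ h0
          rw [hi, Nat.pow_lt_pow_iff_right hp.one_lt] at this
          omega
      rw [hdeg, pow_succ, mul_comm (p ^ (A - k)) p] at hdvd
      exact P.not_dvd_index (Nat.dvd_of_mul_dvd_mul_right (pow_pos hp.pos _) hdvd)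
    have hchar := CfsgLib.Induction.isCharacter_indFun (P : Subgroup G) (irr_isCharacter ψ)
    refine ⟨P, ψ, irr_isCharacter ψ, ?_⟩
    refine (eq_of_classInner_ne_of_degree_le hchar χ ?_ ?_).symm
    · rw [CfsgLib.Induction.classInner_indFun _ _ (irr_isClassFunction χ), classInner_conj_symm,
        hm, map_natCast, Nat.cast_ne_zero]
      exact hψm
    · rw [charDegree_indFun _ (irr_isCharacter ψ), hdeg]
      exact Nat.mul_le_mul_left _ hψd
  · rintro ⟨P, θ, hθ, hχ⟩
    have hd : charDegree (χ : G → ℂ) = (P : Subgroup G).index * charDegree θ := by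
      rw [hχ, charDegree_indFun _ hθ]
    obtain ⟨c, hc⟩ := irrDegree_dvd_card χ
    have h1 := Subgroup.card_mul_index (P : Subgroup G)
    rw [hc, hd, mul_comm, mul_assoc] at h1
    obtain ⟨i, hi⟩ := IsPGroup.iff_card.1 P.2
    have hidx : 0 < (P : Subgroup G).index := Nat.pos_of_ne_zero Subgroup.index_ne_zero_of_finite
    have h2 := Nat.eq_of_mul_eq_mul_left hidx h1
    obtain ⟨k, -, hk⟩ := (Nat.dvd_prime_pow (Fact.out : p.Prime)).1
      (hi ▸ (Dvd.intro_left (charDegree θ) h2.symm) : c ∣ p ^ i)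
    exact ⟨k, by rw [hc, hk, mul_comm]⟩

end Cfsg.Agent.S4798
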