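import Cfsg.Statements.S4801
import Cfsg.Agent.Lib.Chars17.Constituents

set_option autoImplicit false
open Cfsg

namespace Cfsg.Agent.S4801

open CfsgLib.Chars17 CfsgLib.Characters


/-- The codegree of an irreducible complex character χ of a finite group G is [G : ker χ] / χ(1), where ker χ is the set of elements at which χ takes the value χ(1). Let S be a finite simple group and G a finite group such that every codegree of an irreducible character of S is a codegree of an irreducible character of G. Then the order of S divides the order of G. -/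
theorem result {S : Type*} [Group S] [Finite S] (hS : IsSimpleGroup S) {G : Type*} [Group G] [Finite G] (hsub : ∀ χ : Cfsg.IrrCharacter S, ∃ ψ : Cfsg.IrrCharacter G, (Nat.card S / (Nat.card {g : S // (χ : S → ℂ) g = (χ : S → ℂ) 1} * Cfsg.charDegree (χ : S → ℂ))) = (Nat.card G / (Nat.card {g : G // (ψ : G → ℂ) g = (ψ : G → ℂ) 1} * Cfsg.charDegree (ψ : G → ℂ)))) : Nat.card S ∣ Nat.card G := by
  classical
  let _ := Fintype.ofFinite S
  have hSn : Nontrivial S := hS.toNontrivial
  refine (Nat.dvd_iff_prime_pow_dvd_dvd _ _).2 fun q k hq hqk => ?_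
  rcases Nat.eq_zero_or_pos k with rfl | hk
  · simp
  have hqS : q ∣ Nat.card S := (dvd_pow_self q hk.ne').trans hqk
  obtain ⟨χ, hχ1, hχq⟩ : ∃ χ : IrrCharacter S, χ ≠ principalIrr S ∧
      ¬ q ∣ charDegree (χ : S → ℂ) := by
    by_contra! hcon
    have hs := natSum_sq_degrees (G := S)
    rw [← Finset.add_sum_erase _ _ (Finset.mem_univ (principalIrr S))] at hs
    have h1 : charDegree (principalIrr S : S → ℂ) = 1 := by simp [charDegree]
    rw [h1, one_pow] at hs
    have hdvd : q ∣ ∑ χ ∈ Finset.univ.erase (principalIrr S), charDegree (χ : S → ℂ) ^ 2 :=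
      Finset.dvd_sum fun χ hχ => dvd_pow (hcon χ (Finset.ne_of_mem_erase hχ)) two_ne_zero
    rw [← hs] at hqS
    exact hq.not_dvd_one ((Nat.dvd_add_left hdvd).1 hqS)
  have hker : irrKer χ = ⊥ := by
    rcases hS.eq_bot_or_eq_top_of_normal (irrKer χ) inferInstance with h | h
    · exact h
    · exact absurd (Subtype.ext ((irrKer_eq_top_iff χ).1 h)) hχ1
  obtain ⟨ψ, hψ⟩ := hsub χ
  have hc := codegree_mul χ
  rw [hψ, hker, Subgroup.index_bot] at hc
  rw [← hc] at hqk
  exact ((Nat.Coprime.pow_left k (hq.coprime_iff_not_dvd.2 hχq)).dvd_of_dvd_mul_right hqk).trans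
    (codegree_dvd_card ψ)

end Cfsg.Agent.S4801
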