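import Cfsg.Statements.S4802
import Cfsg.Agent.Lib.Chars17.IrrBasic

set_option autoImplicit false
open Cfsg

namespace Cfsg.Agent.S4802

open CfsgLib.Chars17 CfsgLib.Characters


/-- Let N < M be normal subgroups of the finite group G and g ∈ M ∖ N. Then the conjugacy class of g is exactly M ∖ N if and only if every irreducible complex character of G whose kernel contains N takes the same value at all elements of M ∖ N, and every irreducible complex character of G whose kernel does not contain N vanishes at g. -/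
theorem result {G : Type*} [Group G] [Finite G] (N M : Subgroup G) [N.Normal] [M.Normal] (hNM : N < M) (g : G) (hgM : g ∈ M) (hgN : g ∉ N) : {h : G | IsConj g h} = (M : Set G) \ (N : Set G) ↔ ((∀ χ : Cfsg.IrrCharacter G, (∀ x ∈ N, (χ : G → ℂ) x = (χ : G → ℂ) 1) → ∀ x ∈ M, x ∉ N → ∀ y ∈ M, y ∉ N → (χ : G → ℂ) x = (χ : G → ℂ) y) ∧ (∀ χ : Cfsg.IrrCharacter G, (∃ x ∈ N, (χ : G → ℂ) x ≠ (χ : G → ℂ) 1) → (χ : G → ℂ) g = 0)) := by
  classical
  let _ := Fintype.ofFinite G
  constructor
  · intro hset
    have hmem : ∀ x ∈ M, x ∉ N → IsConj g x := fun x hxM hxN => by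
      have : x ∈ {h : G | IsConj g h} := by rw [hset]; exact ⟨hxM, hxN⟩
      exact this
    refine ⟨fun χ _ x hxM hxN y hyM hyN => classFunction_eq_of_isConj (irr_isClassFunction χ)
      ((hmem x hxM hxN).symm.trans (hmem y hyM hyN)), fun χ hχ => ?_⟩
    have hker : ¬ N ≤ irrKer χ := fun h => by
      obtain ⟨x, hx, hx'⟩ := hχ
      exact hx' (h hx)
    have hs := sum_coset_eq_zero hker g
    have hconst : ∀ n : N, (χ : G → ℂ) (g * n) = (χ : G → ℂ) g := fun n =>
      (classFunction_eq_of_isConj (irr_isClassFunction χ)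
        (hmem (g * n) (M.mul_mem hgM (hNM.le n.2))
          (fun h => hgN ((N.mul_mem_cancel_right n.2).1 h)))).symm
    rw [Finset.sum_congr rfl fun n _ => hconst n,
      Finset.sum_const, Finset.card_univ, nsmul_eq_mul, mul_eq_zero] at hs
    exact hs.resolve_left (Nat.cast_ne_zero.2 Fintype.card_ne_zero)
  · rintro ⟨h1, h2⟩
    ext y
    constructor
    · intro hy
      obtain ⟨c, hc⟩ := isConj_iff.1 hy
      subst hc
      refine ⟨‹M.Normal›.conj_mem g hgM c, fun h => hgN ?_⟩
      have := ‹N.Normal›.conj_mem _ h c⁻¹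
      simpa [mul_assoc] using this
    · rintro ⟨hyM, hyN⟩
      by_contra hnc
      have hcol := column_orth g y
      rw [if_neg (show ¬ IsConj g y from hnc)] at hcol
      have hterm : ∀ χ : IrrCharacter G, (χ : G → ℂ) g * starRingEnd ℂ ((χ : G → ℂ) y) =
          (Complex.normSq ((χ : G → ℂ) g) : ℂ) := by
        intro χ
        by_cases hk : N ≤ irrKer χ
        · rw [h1 χ (fun x hx => hk hx) y hyM hyN g hgM hgN, Complex.mul_conj]
        · obtain ⟨x, hx, hx'⟩ := SetLike.not_le_iff_exists.1 hk
          rw [h2 χ ⟨x, hx, hx'⟩]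
          simp
      rw [Finset.sum_congr rfl fun χ _ => hterm χ, ← Complex.ofReal_sum, Complex.ofReal_eq_zero] at hcol
      have := (Finset.sum_eq_zero_iff_of_nonneg fun χ _ => Complex.normSq_nonneg _).1 hcol
        (principalIrr G) (Finset.mem_univ _)
      simp at this

end Cfsg.Agent.S4802
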