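import Cfsg.Statements.S4805
import Cfsg.Agent.Lib.Chars17.PGroupGalois
import Cfsg.Agent.Lib.OneClassDerived.Solvable

set_option autoImplicit false
open Cfsg

namespace Cfsg.Agent.S4805

open CfsgLib.Chars17 CfsgLib.Chars17.PGalois CfsgLib.Characters
open scoped commutatorElement ComplexConjugate

theorem mem_commutator_of_central_mod {G : Type*} [Group G] [Finite G] (χ : IrrCharacter G)
    (hoff : ∀ x : G, x ∉ commutator G → (χ : G → ℂ) x = 0) (m : G)
    (hm : ∀ y : G, ⁅m, y⁆ ∈ irrKer χ) : m ∈ commutator G := by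
  by_contra hmD
  obtain ⟨n, ρ, hρ, hχ⟩ := χ.2
  haveI := hρ
  have hcomm : ∀ y, ρ m * ρ y = ρ y * ρ m := fun y => by
    have h1 : ρ ⁅m, y⁆ = 1 := by rw [← character_eq_one_iff, hχ]; exact hm y
    rw [← map_mul, ← map_mul, show m * y = ⁅m, y⁆ * (y * m) by
      rw [commutatorElement_def]; group, map_mul, h1, one_mul]
  obtain ⟨c, hc⟩ := schur_scalar ρ (ρ m) hcomm
  have h0 := hoff m hmD
  rw [← hχ] at h0
  have h1 := irr_one_ne_zero χ
  rw [← hχ] at h1
  simp only [Representation.character] at h0 h1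
  rw [hc, map_smul, smul_eq_mul, mul_eq_zero] at h0
  rw [map_one] at h1
  rcases h0 with rfl | h0
  · rw [zero_smul] at hc
    have hinv : ρ m⁻¹ * ρ m = 1 := by rw [← map_mul, inv_mul_cancel, map_one]
    rw [hc, mul_zero] at hinv
    exact h1 (by rw [← hinv]; simp)
  · exact h1 h0

open scoped Classical in
theorem sum_linear {G : Type*} [Group G] [Finite G] [Fintype (IrrCharacter G)] (x y : G) :
    ∑ ψ ∈ Finset.univ.filter (fun ψ : IrrCharacter G => charDegree (ψ : G → ℂ) = 1),
      (ψ : G → ℂ) x * conj ((ψ : G → ℂ) y) =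
      if x⁻¹ * y ∈ commutator G then ((commutator G).index : ℂ) else 0 := by
  classical
  rw [Finset.filter_congr fun ψ _ => charDegree_eq_one_iff ψ, sum_filter_le_irrKer (commutator G)]
  simp only [infl_apply]
  have hab : ∀ a b : G ⧸ commutator G, a * b = b * a := fun a b => by
    induction a using QuotientGroup.induction_on with
    | H a =>
      induction b using QuotientGroup.induction_on with
      | H b =>
        rw [← QuotientGroup.mk_mul, ← QuotientGroup.mk_mul, QuotientGroup.eq]
        have h1 : ⁅b⁻¹, a⁻¹⁆ ∈ commutator G :=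
          Subgroup.commutator_mem_commutator (Subgroup.mem_top _) (Subgroup.mem_top _)
        simpa [commutatorElement_def, mul_assoc] using h1
  have hiff : IsConj (x : G ⧸ commutator G) (y : G ⧸ commutator G) ↔ x⁻¹ * y ∈ commutator G := by
    rw [isConj_iff, ← QuotientGroup.eq]
    exact ⟨fun ⟨c, hc⟩ => by rw [← hc, hab c, mul_inv_cancel_right], fun h => ⟨1, by simp [h]⟩⟩
  rw [column_orth]
  by_cases h : x⁻¹ * y ∈ commutator G
  · rw [if_pos h, if_pos (hiff.2 h), Subgroup.index_eq_card,
      show Subgroup.centralizer ({(x : G ⧸ commutator G)} : Set (G ⧸ commutator G)) = ⊤ from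
        eq_top_iff.2 fun c _ => Subgroup.mem_centralizer_singleton_iff.2 (hab _ _),
      Subgroup.card_top]
  · rw [if_neg h, if_neg (fun h' => h (hiff.1 h'))]

/-- Let G be a finite group, g an element outside the centre of G, and χ an irreducible complex character of degree greater than one with χ(g) ≠ 0 such that every other irreducible character of degree greater than one vanishes at g. Then g lies in the derived subgroup G′ and χ(g) = −[G : G′]/χ(1); G′ is the union of the kernel of χ (the elements where χ takes the value χ(1)) and the conjugacy class of g, and χ vanishes outside G′; every irreducible character of degree greater than one whose kernel contains that of χ equals χ; and G is solvable. -/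
theorem result {G : Type*} [Group G] [Finite G] (g : G) (hg : g ∉ Subgroup.center G) (χ : Cfsg.IrrCharacter G) (hχ1 : Cfsg.charDegree (χ : G → ℂ) ≠ 1) (hχg : (χ : G → ℂ) g ≠ 0) (hother : ∀ ψ : Cfsg.IrrCharacter G, Cfsg.charDegree (ψ : G → ℂ) ≠ 1 → ψ ≠ χ → (ψ : G → ℂ) g = 0) : g ∈ commutator G ∧ (χ : G → ℂ) g = -(((commutator G).index : ℂ) / (χ : G → ℂ) 1) ∧ ((commutator G : Set G) = {x : G | (χ : G → ℂ) x = (χ : G → ℂ) 1} ∪ {h : G | IsConj g h}) ∧ (∀ x : G, x ∉ commutator G → (χ : G → ℂ) x = 0) ∧ (∀ ψ : Cfsg.IrrCharacter G, Cfsg.charDegree (ψ : G → ℂ) ≠ 1 → (∀ x : G, (χ : G → ℂ) x = (χ : G → ℂ) 1 → (ψ : G → ℂ) x = (ψ : G → ℂ) 1) → ψ = χ) ∧ Group.IsSolvable G := by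
  classical
  let _ := Fintype.ofFinite G
  set D := commutator G with hD
  -- column orthogonality against `g`
  have horth : ∀ h : G, ¬ IsConj h g →
      (if h⁻¹ * g ∈ D then ((D.index : ℕ) : ℂ) else 0) + (χ : G → ℂ) h * conj ((χ : G → ℂ) g) = 0 := by
    intro h hne
    have h1 := column_orth h g
    rw [if_neg hne, ← Finset.sum_filter_add_sum_filter_not Finset.univ
      (fun ψ : IrrCharacter G => charDegree (ψ : G → ℂ) = 1), sum_linear, Finset.sum_eq_single χ
      (fun ψ hψ hne => by rw [hother ψ (Finset.mem_filter.1 hψ).2 hne, map_zero, mul_zero])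
      (fun h => absurd (Finset.mem_filter.2 (⟨Finset.mem_univ χ, hχ1⟩ : χ ∈ Finset.univ ∧ ¬ charDegree (χ : G → ℂ) = 1)) h)] at h1
    exact h1
  have hidx : ((D.index : ℕ) : ℂ) ≠ 0 := Nat.cast_ne_zero.2 D.index_ne_zero_of_finite
  have hg1 : g ≠ 1 := fun h => hg (h ▸ one_mem _)
  have h1 := horth 1 (fun h => hg1 (isConj_one_right.1 h))
  rw [inv_one, one_mul] at h1
  have hgD : g ∈ D := by
    by_contra h
    rw [if_neg h, zero_add, mul_eq_zero] at h1
    rcases h1 with h1 | h1
    · exact irr_one_ne_zero χ h1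
    · exact hχg ((map_eq_zero _).1 h1)
  rw [if_pos hgD] at h1
  have hval : (χ : G → ℂ) g = -((D.index : ℂ) / (χ : G → ℂ) 1) := by
    have h2 : conj ((χ : G → ℂ) g) = -((D.index : ℂ) / (χ : G → ℂ) 1) := by
      rw [← neg_div, eq_div_iff (irr_one_ne_zero χ)]
      linear_combination h1
    have h3 := congrArg conj h2
    rwa [Complex.conj_conj, map_neg, map_div₀, map_natCast, conj_irr_one] at h3
  have hoff : ∀ x : G, x ∉ D → (χ : G → ℂ) x = 0 := fun x hx => by
    have hne : ¬ IsConj x g := fun h => hx (by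
      obtain ⟨c, hc⟩ := isConj_iff.1 h.symm
      rw [← hc]; exact Subgroup.Normal.conj_mem inferInstance g hgD c)
    have h2 := horth x hne
    have h3 : x⁻¹ * g ∉ D := fun h => hx (by simpa using D.mul_mem hgD (D.inv_mem h))
    rw [if_neg h3, zero_add, mul_eq_zero] at h2
    exact h2.resolve_right fun h => hχg ((map_eq_zero _).1 h)
  have hin : ∀ x ∈ D, ¬ IsConj x g → (χ : G → ℂ) x = (χ : G → ℂ) 1 := fun x hx hne => by
    have h2 := horth x hne
    rw [if_pos (D.mul_mem (D.inv_mem hx) hgD)] at h2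
    exact mul_right_cancel₀ (fun h => hχg ((map_eq_zero _).1 h))
      (show (χ : G → ℂ) x * conj ((χ : G → ℂ) g) = (χ : G → ℂ) 1 * conj ((χ : G → ℂ) g) by
        linear_combination h2 - h1)
  have hgK : g ∉ irrKer χ := fun h => by
    have h2 : (χ : G → ℂ) 1 * conj ((χ : G → ℂ) g) = (χ : G → ℂ) 1 * (χ : G → ℂ) 1 := by
      rw [mem_irrKer.1 h, conj_irr_one]
    rw [h2] at h1
    obtain ⟨d, -, hd⟩ := irr_exists_degree χ.2
    rw [hd, ← Nat.cast_mul, ← Nat.cast_add, Nat.cast_eq_zero] at h1
    exact D.index_ne_zero_of_finite (by omega)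
  have hKD : irrKer χ ≤ D := fun x hx => by
    by_contra h
    exact irr_one_ne_zero χ ((mem_irrKer.1 hx).symm.trans (hoff x h))
  have hclass : ∀ x ∈ D, x ∉ irrKer χ → IsConj g x := fun x hx hxK => by
    by_contra h
    exact hxK (mem_irrKer.2 (hin x hx fun h' => h h'.symm))
  refine ⟨hgD, hval, ?_, hoff, fun ψ hψ hker => ?_, ?_⟩
  · ext x
    refine ⟨fun hx => ?_, ?_⟩
    · by_cases hc : IsConj g x
      · exact Or.inr hc
      · exact Or.inl (hin x hx fun h => hc h.symm)
    · rintro (hx | hx)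
      · exact hKD hx
      · obtain ⟨c, rfl⟩ := isConj_iff.1 hx
        exact Subgroup.Normal.conj_mem inferInstance g hgD c
  · by_contra hne
    have h0 : (ψ : G → ℂ) g = 0 := hother ψ hψ hne
    have hnot : ¬ D ≤ irrKer ψ := fun h => hψ ((charDegree_eq_one_iff ψ).2 h)
    have hs := sum_coset_eq_zero hnot 1
    simp only [one_mul] at hs
    have hterm : ∀ x : D, (ψ : G → ℂ) x = if (x : G) ∈ irrKer χ then (ψ : G → ℂ) 1 else 0 := by
      intro x
      by_cases hx : (x : G) ∈ irrKer χ
      · rw [if_pos hx, hker x (mem_irrKer.1 hx)]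
      · rw [if_neg hx, ← h0]
        exact (classFunction_eq_of_isConj (irr_isClassFunction ψ) (hclass x x.2 hx)).symm
    rw [Finset.sum_congr rfl fun x _ => hterm x, Finset.sum_ite, Finset.sum_const_zero, add_zero,
      Finset.sum_const, nsmul_eq_mul, mul_eq_zero, Nat.cast_eq_zero, Finset.card_eq_zero,
      Finset.filter_eq_empty_iff] at hs
    rcases hs with hs | hs
    · exact hs (Finset.mem_univ (1 : D)) (by simp)
    · exact irr_one_ne_zero ψ hs
  · exact CfsgLib.OneClassDerived.solvable_of_derived_diff_class (irrKer χ) g hKD hgD hgK hclass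
      fun m hm => mem_commutator_of_central_mod χ hoff m hm

end Cfsg.Agent.S4805
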