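import Cfsg.Statements.S4807
import Cfsg.Agent.Lib.RelMcKay.Main

set_option autoImplicit false
open Cfsg

namespace Cfsg.Agent.S4807

/-- Let p be a prime and G a finite p-solvable group, L a normal subgroup of G, S a Sylow p-subgroup of G and P the subgroup generated by L and S (so P/L is a Sylow p-subgroup of G/L), and let ν be an irreducible complex character of L that is invariant under conjugation by every element of P. Let N be the normalizer of P in G (it contains L). Then the number of irreducible characters of G of degree prime to p lying over ν (restriction to L not orthogonal to ν) equals the number of irreducible characters of N of degree prime to p lying over ν. -/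
theorem result {G : Type*} [Group G] [Finite G] (p : ℕ) [Fact p.Prime] (hG : Cfsg.IsPSolvable p G) (L : Subgroup G) [L.Normal] (S : Sylow p G) (P : Subgroup G) (hP : P = L ⊔ (S : Subgroup G)) (hLN : L ≤ (Subgroup.normalizer ((P : Subgroup G) : Set G))) (ν : Cfsg.IrrCharacter ↥L) (hν : ∀ x ∈ P, Cfsg.IsConjCharOf L x (ν : ↥L → ℂ) (ν : ↥L → ℂ)) : Nat.card {χ : Cfsg.IrrCharacter G // ¬ p ∣ Cfsg.charDegree (χ : G → ℂ) ∧ (∑ᶠ l : ↥L, (χ : G → ℂ) (l : G) * (starRingEnd ℂ) ((ν : ↥L → ℂ) l)) ≠ 0} = Nat.card {ψ : Cfsg.IrrCharacter ↥(Subgroup.normalizer ((P : Subgroup G) : Set G)) // ¬ p ∣ Cfsg.charDegree (ψ : ↥(Subgroup.normalizer ((P : Subgroup G) : Set G)) → ℂ) ∧ (∑ᶠ l : ↥L, (ψ : ↥(Subgroup.normalizer ((P : Subgroup G) : Set G)) → ℂ) (Subgroup.inclusion hLN l) * (starRingEnd ℂ) ((ν : ↥L → ℂ) l)) ≠ 0} := by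
  classical
  haveI := Fintype.ofFinite G
  haveI := Fintype.ofFinite L
  subst hP
  have hp : p.Prime := Fact.out
  have he : Subgroup.normalizer ((L.subtype.range ⊔ (S : Subgroup G) : Subgroup G) : Set G) =
      Subgroup.normalizer ((L ⊔ (S : Subgroup G) : Subgroup G) : Set G) := by
    rw [Subgroup.range_subtype]
  have hN : ∀ l : L, L.subtype l ∈
      Subgroup.normalizer ((L.subtype.range ⊔ (S : Subgroup G) : Subgroup G) : Set G) :=
    fun l => he.symm ▸ hLN l.2
  have key := CfsgLib.RelMcKay.claim_all hp _ G L L.subtype L.subtype_injective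
    (by rw [Subgroup.range_subtype]; infer_instance) hG rfl S S.isPGroup' S.not_dvd_index ν
    (fun s hs => hν s (Subgroup.mem_sup_right hs)) hN
  rw [CfsgLib.RelMcKay.cnt_eq_of_eq L.subtype he hN (fun l => hLN l.2) ν] at key
  have hconv : ∀ (f : L → ℂ) (g : L → ℂ),
      (∑ᶠ a, f a * (starRingEnd ℂ) (g a)) ≠ 0 ↔ classInner f g ≠ 0 := by
    intro f g
    rw [finsum_eq_sum_of_fintype, classInner, mul_ne_zero_iff, and_iff_right
      (inv_ne_zero (Nat.cast_ne_zero.2 Nat.card_pos.ne'))]
  refine Eq.trans (Nat.card_congr (Equiv.subtypeEquivRight fun χ => and_congr_right fun _ => ?_))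
    (key.trans (Nat.card_congr (Equiv.subtypeEquivRight fun χ => and_congr_right fun _ => ?_)))
  · rw [CfsgLib.RelMcKay.over_iff]
    exact hconv _ _
  · rw [CfsgLib.RelMcKay.over_iff]
    exact (hconv _ _).symm

end Cfsg.Agent.S4807
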