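import Cfsg.Statements.S4808
import Cfsg.Agent.Lib.Chars17.Constituents

set_option autoImplicit false
open Cfsg

namespace Cfsg.Agent.S4808

open CfsgLib.Chars17 CfsgLib.Characters


/-- The codegree of an irreducible complex character χ of a finite group G is [G : ker χ] / χ(1), where ker χ is the set of elements at which χ takes the value χ(1). A prime divides the order of G if and only if it divides the codegree of some irreducible complex character of G. -/
theorem result {G : Type*} [Group G] [Finite G] (p : ℕ) (hp : p.Prime) : p ∣ Nat.card G ↔ ∃ χ : Cfsg.IrrCharacter G, p ∣ (Nat.card G / (Nat.card {g : G // (χ : G → ℂ) g = (χ : G → ℂ) 1} * Cfsg.charDegree (χ : G → ℂ))) := by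
  classical
  let _ := Fintype.ofFinite G
  refine ⟨fun hpG => ?_, fun ⟨χ, h⟩ => h.trans (codegree_dvd_card χ)⟩
  obtain ⟨M, ⟨hMn, hMp⟩, hMmax⟩ := (Set.toFinite
    {K : Subgroup G | K.Normal ∧ p ∣ K.index}).exists_maximal
      ⟨⊥, inferInstance, by rwa [Subgroup.index_bot]⟩
  haveI := hMn
  have hbig : ∀ K : Subgroup G, K.Normal → M < K → ¬ p ∣ K.index := fun K hK hlt h =>
    hlt.not_ge (hMmax ⟨hK, h⟩ hlt.le)
  obtain ⟨N, ⟨hNn, hNlt⟩, hNmin⟩ := (Set.toFinite
    {K : Subgroup G | K.Normal ∧ M < K}).exists_minimal ⟨⊤, inferInstance, lt_top_iff_ne_top.2 fun h => by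
      rw [h, Subgroup.index_top] at hMp; exact hp.not_dvd_one hMp⟩
  haveI := hNn
  have hleast : ∀ K : Subgroup G, K.Normal → M < K → N ≤ K := by
    intro K hK hlt
    haveI := hK
    rcases (le_inf hNlt.le hlt.le).lt_or_eq with h | h
    · exact (hNmin ⟨inferInstance, h⟩ inf_le_left).trans inf_le_right
    · exfalso
      have h1 : (N ⊓ K).index ∣ N.index * K.index := by
        rw [← Subgroup.relIndex_mul_index (inf_le_left : N ⊓ K ≤ N), Subgroup.inf_relIndex_left,
          mul_comm]
        exact mul_dvd_mul_left _ (Subgroup.relIndex_dvd_index_of_normal K N)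
      rw [← h] at h1
      exact ((Nat.Prime.dvd_mul hp).1 (hMp.trans h1)).elim (hbig N hNn hNlt) (hbig K hK hlt)
  by_contra! hcon
  have hsum : ∀ (L : Subgroup G), L.Normal →
      ∑ χ ∈ Finset.univ.filter (fun χ : IrrCharacter G => L ≤ irrKer χ),
        charDegree (χ : G → ℂ) ^ 2 = L.index := by
    intro L hL
    haveI := hL
    rw [sum_filter_le_irrKer L, Subgroup.index]
    simp only [← natSum_sq_degrees (G := G ⧸ L)]
    exact Finset.sum_congr rfl fun η _ => rfl
  have hdiv : ∀ χ : IrrCharacter G, M ≤ irrKer χ → ¬ N ≤ irrKer χ →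
      p ∣ charDegree (χ : G → ℂ) := by
    intro χ hM hN
    have hker : irrKer χ = M := by
      by_contra hne
      exact hN (hleast _ inferInstance (lt_of_le_of_ne hM (Ne.symm hne)))
    have h2 := codegree_mul χ
    rw [hker] at h2
    rw [← h2] at hMp
    exact ((Nat.Prime.dvd_mul hp).1 hMp).resolve_left (hcon χ)
  have h1 := hsum M hMn
  rw [← Finset.sum_filter_add_sum_filter_not
    (Finset.univ.filter fun χ : IrrCharacter G => M ≤ irrKer χ) (fun χ => N ≤ irrKer χ),
    Finset.filter_filter, Finset.filter_filter,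
    Finset.filter_congr (q := fun χ : IrrCharacter G => N ≤ irrKer χ) fun χ _ =>
      ⟨fun h => h.2, fun h => ⟨hNlt.le.trans h, h⟩⟩, hsum N hNn] at h1
  rw [← h1] at hMp
  refine hbig N hNn hNlt ((Nat.dvd_add_left (Finset.dvd_sum fun χ hχ => ?_)).1 hMp)
  obtain ⟨-, hM, hN⟩ := Finset.mem_filter.1 hχ
  exact dvd_pow (hdiv χ hM hN) two_ne_zero

end Cfsg.Agent.S4808
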