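import Cfsg.Statements.S4811
import Cfsg.Agent.Lib.Structure80.ThreePrimes

set_option autoImplicit false
open Cfsg

namespace Cfsg.Agent.S4811

/-- For every finite solvable group G the character degree graph of G (vertices: the primes dividing some irreducible complex character degree; edges: distinct primes whose product divides some degree) has at most two connected components. -/
theorem result {G : Type*} [Group G] [Finite G] [Group.IsSolvable G] : Nat.card ((Cfsg.degreeGraph G).induce (Cfsg.degreePrimes G)).ConnectedComponent ≤ 2 := by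
  classical
  by_contra hgt
  push Not at hgt
  haveI : Finite (((Cfsg.degreeGraph G).induce (Cfsg.degreePrimes G)).ConnectedComponent) :=
    Nat.finite_of_card_ne_zero (by omega)
  haveI := Fintype.ofFinite ((Cfsg.degreeGraph G).induce (Cfsg.degreePrimes G)).ConnectedComponent
  rw [Nat.card_eq_fintype_card, Fintype.two_lt_card_iff] at hgt
  obtain ⟨c, d, e, hcd, hce, hde⟩ := hgt
  obtain ⟨⟨p, hp, dp, ⟨χp, rfl⟩, hpd⟩, rfl⟩ := c.exists_rep
  obtain ⟨⟨q, hq, dq, ⟨χq, rfl⟩, hqd⟩, rfl⟩ := d.exists_rep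
  obtain ⟨⟨r, hr, dr, ⟨χr, rfl⟩, hrd⟩, rfl⟩ := e.exists_rep
  have key : ∀ {x y : Cfsg.degreePrimes G},
      Quot.mk ((Cfsg.degreeGraph G).induce (Cfsg.degreePrimes G)).Reachable x ≠ Quot.mk _ y →
        (x : ℕ) ≠ (y : ℕ) ∧ ¬ CfsgLib.Palfy80.DegDvd ((x : ℕ) * (y : ℕ)) G := by
    intro x y h
    have hne : (x : ℕ) ≠ (y : ℕ) := fun e => h (by rw [Subtype.ext e])
    refine ⟨hne, fun ⟨χ, hχ⟩ => h (Quot.sound (SimpleGraph.Adj.reachable ?_))⟩
    exact ⟨hne, x.2.1, y.2.1, _, ⟨χ, rfl⟩, hχ⟩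
  obtain ⟨npq, e1⟩ := key hcd
  obtain ⟨npr, e2⟩ := key hce
  obtain ⟨nqr, e3⟩ := key hde
  exact CfsgLib.Palfy80.three_primes (Nat.card G) rfl
    (l := p) (a := q) (b := r) ⟨hp, hq, hr, npq, npr, nqr, ⟨χp, hpd⟩, ⟨χq, hqd⟩, ⟨χr, hrd⟩, e1, e2, e3⟩

end Cfsg.Agent.S4811
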