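import Cfsg.Statements.S4814
import Cfsg.Agent.Lib.Chars17.CommutatorCount

set_option autoImplicit false
open Cfsg

namespace Cfsg.Agent.S4814

open CfsgLib.Chars17 CfsgLib.Characters


/-- Let G be a finite group such that the sum, over the irreducible complex characters χ of G, of 1/χ(1)² is less than 2. Then every element of G is a product of two commutators. -/
theorem result {G : Type*} [Group G] [Finite G]
    (h : ∑ᶠ χ : Cfsg.IrrCharacter G, 1 / ‖(χ : G → ℂ) 1‖ ^ 2 < (2 : ℝ)) (g : G) :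
    ∃ a b c d : G, (a * b * a⁻¹ * b⁻¹) * (c * d * c⁻¹ * d⁻¹) = g := by
  classical
  let _ := Fintype.ofFinite G
  by_contra! hcon
  have hcount := card_two_commutators_eq g
  have hempty : IsEmpty {q : (G × G) × (G × G) // (q.1.1 * q.1.2 * q.1.1⁻¹ * q.1.2⁻¹) *
      (q.2.1 * q.2.2 * q.2.1⁻¹ * q.2.2⁻¹) = g} :=
    ⟨fun q => hcon q.1.1.1 q.1.1.2 q.1.2.1 q.1.2.2 q.2⟩
  rw [Nat.card_of_isEmpty, Nat.cast_zero, eq_comm, mul_eq_zero,
    ← Finset.add_sum_erase _ _ (Finset.mem_univ (principalIrr G))] at hcount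
  have h0 := hcount.resolve_left (pow_ne_zero _ (Nat.cast_ne_zero.2 Nat.card_pos.ne'))
  simp only [principalIrr_apply, one_pow, div_one] at h0
  rw [finsum_eq_sum_of_fintype, ← Finset.add_sum_erase _ _ (Finset.mem_univ (principalIrr G))] at h
  simp only [principalIrr_apply, norm_one, one_pow, div_one] at h
  have h1 : ‖∑ χ ∈ Finset.univ.erase (principalIrr G),
      (χ : G → ℂ) g / (χ : G → ℂ) 1 ^ 3‖ ≤
      ∑ χ ∈ Finset.univ.erase (principalIrr G), 1 / ‖(χ : G → ℂ) 1‖ ^ 2 := by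
    refine (norm_sum_le _ _).trans (Finset.sum_le_sum fun χ _ => ?_)
    have hpos : 0 < ‖(χ : G → ℂ) 1‖ := norm_pos_iff.2 (irr_one_ne_zero χ)
    rw [norm_div, norm_pow, div_le_div_iff₀ (pow_pos hpos 3) (pow_pos hpos 2)]
    have := norm_irr_le χ g
    nlinarith [pow_pos hpos 2, norm_nonneg ((χ : G → ℂ) g)]
  rw [show (∑ χ ∈ Finset.univ.erase (principalIrr G), (χ : G → ℂ) g / (χ : G → ℂ) 1 ^ 3) = -1 by
    linear_combination h0, norm_neg, norm_one] at h1
  linarith

end Cfsg.Agent.S4814
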