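import Cfsg.Statements.S4825
import Cfsg.Agent.Lib.Chars17.Constituents
import Cfsg.Agent.Lib.Characters.Clifford
import Cfsg.Agent.Lib.Blocks.WeakOrth

set_option autoImplicit false
open Cfsg

namespace Cfsg.Agent.S4825

open CfsgLib.Chars17 CfsgLib.Characters
open scoped ComplexConjugate

theorem sq_eq_one_zmod_two : ∀ z : ZMod 2, z ≠ 0 → (1 : ZMod 2) = z ^ 2 := by decide

theorem sq_eq_one_zmod_three : ∀ z : ZMod 3, z ≠ 0 → (1 : ZMod 3) = z ^ 2 := by decide

/-- A root of unity of `p`-power order is congruent to `1`. -/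
theorem root_sub_one_mem {p : ℕ} {M : Ideal Cfsg.AlgInt} (hM : Cfsg.IsPModular p M) {z : Cfsg.AlgInt}
    {k : ℕ} (hz : z ^ p ^ k = 1) : z - 1 ∈ M := by
  haveI := Fact.mk hM.1
  haveI := hM.2.1
  obtain ⟨r, hr⟩ := exists_add_pow_prime_pow_eq hM.1 (z - 1) 1 k
  rw [sub_add_cancel, hz, one_pow] at hr
  have h : (z - 1) ^ p ^ k = (p : Cfsg.AlgInt) * (-((z - 1) * 1 * r)) := by linear_combination -hr
  exact hM.2.1.isPrime.mem_of_pow_mem _ (h ▸ M.mul_mem_right _ hM.2.2)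

/-- The value at a `p`-element is congruent to the degree. -/
theorem exists_algInt_congr {G : Type*} [Group G] [Finite G] {p : ℕ} {M : Ideal Cfsg.AlgInt}
    (hM : Cfsg.IsPModular p M) (χ : Cfsg.IrrCharacter G) {x : G} {k : ℕ} (hx : x ^ p ^ k = 1) :
    ∃ a : Cfsg.AlgInt, (a : ℂ) = (χ : G → ℂ) x ∧
      a - (charDegree (χ : G → ℂ) : Cfsg.AlgInt) ∈ M := by
  haveI := Fact.mk hM.1
  obtain ⟨n, ρ, -, hρ⟩ := χ.2
  have hpos : 0 < p ^ k := pow_pos hM.1.pos k
  obtain ⟨ω, hω⟩ : ∃ ω : ℂ, IsPrimitiveRoot ω (p ^ k) :=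
    ⟨_, Complex.isPrimitiveRoot_exp _ hpos.ne'⟩
  obtain ⟨d, hd, -⟩ := exists_trace_pow_eq_sum hpos hω (matOf ρ x)
    (by rw [← map_pow, hx, map_one])
  let w : Cfsg.AlgInt := ⟨ω, hω.isIntegral hpos⟩
  refine ⟨∑ j : Fin (p ^ k), (d j : Cfsg.AlgInt) * w ^ (j : ℕ), ?_, ?_⟩
  · have h1 := hd 1
    rw [pow_one, trace_matOf, hρ] at h1
    rw [h1]
    simp [w]
  · have h0 := hd 0
    rw [pow_zero, ← map_one (matOf ρ), trace_matOf, hρ, ← cast_irrDegree] at h0
    simp only [pow_zero, mul_one] at h0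
    rw [← Nat.cast_sum, Nat.cast_inj] at h0
    rw [h0, Nat.cast_sum, ← Finset.sum_sub_distrib]
    refine M.sum_mem fun j _ => ?_
    rw [show (d j : Cfsg.AlgInt) * w ^ (j : ℕ) - (d j : Cfsg.AlgInt) =
      (d j : Cfsg.AlgInt) * (w ^ (j : ℕ) - 1) by ring]
    refine M.mul_mem_left _ (root_sub_one_mem hM (k := k) ?_)
    apply Subtype.ext
    simp [w, ← pow_mul, mul_comm (j : ℕ), pow_mul ω (p ^ k), hω.pow_eq_one]

/-- Block orthogonality relative to a normal subgroup, outside it. -/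
theorem sum_over_eq_zero {G : Type*} [Group G] [Fintype G] {p : ℕ} [Fact p.Prime]
    {M : Ideal Cfsg.AlgInt} (hM : Cfsg.IsPModular p M) {B : Set (Cfsg.IrrCharacter G)}
    (hB : Cfsg.IsPBlock M B) [DecidablePred (· ∈ B)] (N : Subgroup G) [N.Normal] [Fintype N]
    (θ : Cfsg.IrrCharacter N) {x : G} (hx : ∀ n : N, p ∣ orderOf (x * (n : G))) :
    ∑ χ ∈ (Finset.univ.filter (· ∈ B)).filter (fun χ : Cfsg.IrrCharacter G =>
        classInner (fun n : N => (χ : G → ℂ) n) (θ : N → ℂ) ≠ 0),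
      (χ : G → ℂ) 1 * (χ : G → ℂ) x = 0 := by
  classical
  have hN : N.Normal := inferInstance
  set S : N → ℂ := ∑ ψ ∈ (CfsgLib.Clifford.conjOrbit_finite hN (θ : N → ℂ)).toFinset, ψ with hS
  have horb : ∀ ψ ∈ (CfsgLib.Clifford.conjOrbit_finite hN (θ : N → ℂ)).toFinset,
      ∃ g, ψ = CfsgLib.Clifford.conjChar hN (θ : N → ℂ) g := fun ψ hψ =>
    (CfsgLib.Clifford.conjOrbit_finite hN (θ : N → ℂ)).mem_toFinset.1 hψ
  have hSinv : ∀ (g : G) (n : N), S ⟨g * n * g⁻¹, hN.conj_mem n n.2 g⟩ = S n := by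
    intro g n
    simp only [hS, Finset.sum_apply]
    refine Finset.sum_bij (fun ψ _ => CfsgLib.Clifford.conjChar hN ψ g) (fun ψ hψ => ?_)
      (fun a _ b _ h => ?_) (fun ψ hψ => ?_) (fun ψ _ => rfl)
    · obtain ⟨a, rfl⟩ := horb ψ hψ
      exact (CfsgLib.Clifford.conjOrbit_finite hN (θ : N → ℂ)).mem_toFinset.2
        ⟨_, CfsgLib.Clifford.conjChar_mul hN _ a g⟩
    · have := congrArg (fun f => CfsgLib.Clifford.conjChar hN f g⁻¹) h
      simpa [CfsgLib.Clifford.conjChar_mul, CfsgLib.Clifford.conjChar_one] using this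
    · obtain ⟨a, rfl⟩ := horb ψ hψ
      refine ⟨_, (CfsgLib.Clifford.conjOrbit_finite hN (θ : N → ℂ)).mem_toFinset.2
        ⟨a * g⁻¹, rfl⟩, ?_⟩
      rw [CfsgLib.Clifford.conjChar_mul, inv_mul_cancel_right]
  let a : G → ℂ := extendByZero N (fun n => conj (S n))
  have ha : IsClassFunction G a := by
    intro g h
    show extendByZero N _ _ = extendByZero N _ _
    by_cases hg : g ∈ N
    · rw [CfsgLib.Induction.extendByZero_mem N _ (hN.conj_mem g hg h),
        CfsgLib.Induction.extendByZero_mem N _ hg]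
      exact congrArg conj (hSinv h ⟨g, hg⟩)
    · rw [CfsgLib.Induction.extendByZero_notMem N _ hg, CfsgLib.Induction.extendByZero_notMem N]
      intro hh
      exact hg (by simpa [mul_assoc] using hN.conj_mem _ hh h⁻¹)
  have hF : ∀ g : G, p ∣ orderOf g →
      ∑ χ ∈ Finset.univ.filter (· ∈ B), (χ : G → ℂ) 1 * (χ : G → ℂ) g = 0 := by
    intro g hg
    have h := CfsgLib.Blocks.weak_orth hM hB (x := (1 : G)) (y := g⁻¹)
      (by rw [orderOf_one]; exact hM.1.not_dvd_one) (by rwa [orderOf_inv])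
    simpa [irr_apply_inv] using h
  have hkey : ∀ χ : Cfsg.IrrCharacter G, ∑ n : N, conj (S n) * (χ : G → ℂ) (x * n) =
      if classInner (fun n : N => (χ : G → ℂ) n) (θ : N → ℂ) ≠ 0 then
        (Nat.card N : ℂ) / (θ : N → ℂ) 1 * (χ : G → ℂ) x else 0 := by
    intro χ
    obtain ⟨d, ρ, hρ, hχ⟩ := χ.2
    haveI := hρ
    have h1 : ∑ n : N, conj (S n) * (χ : G → ℂ) (x * n) =
        LinearMap.trace ℂ _ (ρ x * funEnd ρ a) := by
      rw [← CfsgLib.Induction.sum_extendByZero_mul N (fun n => conj (S n))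
        (fun g => (χ : G → ℂ) (x * g))]
      simp [funEnd, a, Finset.mul_sum, mul_smul_comm, map_sum, ← hχ, Representation.character]
    rw [h1, funEnd_eq_smul ρ ha, mul_smul_comm, mul_one, map_smul, smul_eq_mul,
      show ρ.character = (χ : G → ℂ) from hχ,
      show LinearMap.trace ℂ (Fin d → ℂ) (ρ x) = (χ : G → ℂ) x from congrFun hχ x]
    have hd : (Module.finrank ℂ (Fin d → ℂ) : ℂ) = (χ : G → ℂ) 1 := by
      rw [← hχ, Representation.char_one]
    have h2 : ∑ g : G, a g * (χ : G → ℂ) g =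
        (Nat.card N : ℂ) * classInner (fun n : N => (χ : G → ℂ) n) S := by
      rw [CfsgLib.Induction.sum_extendByZero_mul, classInner,
        mul_inv_cancel_left₀ (Nat.cast_ne_zero.2 Nat.card_pos.ne')]
      exact Finset.sum_congr rfl fun n _ => mul_comm _ _
    rw [hd, h2]
    have hcl := irr_isClassFunction χ
    have h3 : classInner (fun n : N => (χ : G → ℂ) n) S =
        ((CfsgLib.Clifford.conjOrbit_finite hN (θ : N → ℂ)).toFinset.card : ℂ) *
          classInner (fun n : N => (χ : G → ℂ) n) (θ : N → ℂ) := by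
      rw [hS, classInner_sum_right]
      refine (Finset.sum_congr rfl fun ψ hψ => ?_).trans (by rw [Finset.sum_const, nsmul_eq_mul])
      obtain ⟨g, rfl⟩ := horb ψ hψ
      exact CfsgLib.Clifford.classInner_res_conjChar hN hcl _ _
    rw [h3]
    split_ifs with h
    · have hdeg := CfsgLib.Clifford.clifford_degree hN χ.2 θ.2 h
      rw [← CfsgLib.Clifford.card_conjOrbit] at hdeg
      have h0 := irr_one_ne_zero χ
      rw [hdeg] at h0 ⊢
      simp only [mul_ne_zero_iff] at h0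
      obtain ⟨⟨hi, ht⟩, hθ⟩ := h0
      field_simp
    · rw [not_not] at h
      simp [h]
  have hz : ∑ n : N, conj (S n) * ∑ χ ∈ Finset.univ.filter (· ∈ B),
      (χ : G → ℂ) 1 * (χ : G → ℂ) (x * n) = 0 :=
    Finset.sum_eq_zero fun n _ => by rw [hF _ (hx n), mul_zero]
  simp only [Finset.mul_sum] at hz
  rw [Finset.sum_comm] at hz
  simp only [mul_left_comm, ← Finset.mul_sum, hkey, mul_ite, mul_zero] at hz
  rw [← Finset.sum_filter] at hz
  simp only [mul_left_comm _ ((Nat.card N : ℂ) / (θ : N → ℂ) 1), ← Finset.mul_sum] at hz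
  refine (mul_eq_zero.1 hz).resolve_left (div_ne_zero (Nat.cast_ne_zero.2 Nat.card_pos.ne') ?_)
  exact irr_one_ne_zero θ


/-- Let p be a prime, G a finite group with Sylow p-subgroup P, M a maximal ideal of the algebraic integers containing p, and B a p-block of G with defect group P. Let N be a normal subgroup of G not containing P and θ an irreducible character of N. Then the number of irreducible characters in B of degree prime to p lying over θ (having θ as a constituent on restriction to N) is either 0 or at least 2, and when p ≤ 3 it is divisible by p. -/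
theorem result {G : Type*} [Group G] [Fintype G] (p : ℕ) [Fact p.Prime] (P : Sylow p G) (M : Ideal Cfsg.AlgInt) (hM : Cfsg.IsPModular p M) (B : Set (Cfsg.IrrCharacter G)) (hB : Cfsg.IsPBlock M B) (hBP : Cfsg.IsDefectGroup p M B P) (N : Subgroup G) [N.Normal] [Fintype N] (hPN : ¬ (P : Subgroup G) ≤ N) (θ : Cfsg.IrrCharacter N) :
    (Nat.card {χ : Cfsg.IrrCharacter G // χ ∈ B ∧ ¬ p ∣ Cfsg.charDegree (χ : G → ℂ) ∧ Cfsg.classInner (fun n : N => (χ : G → ℂ) n) (θ : N → ℂ) ≠ 0} = 0 ∨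
      2 ≤ Nat.card {χ : Cfsg.IrrCharacter G // χ ∈ B ∧ ¬ p ∣ Cfsg.charDegree (χ : G → ℂ) ∧ Cfsg.classInner (fun n : N => (χ : G → ℂ) n) (θ : N → ℂ) ≠ 0}) ∧
    (p ≤ 3 → p ∣ Nat.card {χ : Cfsg.IrrCharacter G // χ ∈ B ∧ ¬ p ∣ Cfsg.charDegree (χ : G → ℂ) ∧ Cfsg.classInner (fun n : N => (χ : G → ℂ) n) (θ : N → ℂ) ≠ 0}) := by
  classical
  obtain ⟨x, hxP, hxN⟩ := SetLike.not_le_iff_exists.1 hPN
  obtain ⟨k, hk⟩ := P.2 ⟨x, hxP⟩
  have hxk : x ^ p ^ k = 1 := by simpa using congrArg Subtype.val hk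
  have hsing : ∀ n : N, p ∣ orderOf (x * (n : G)) := by
    intro n
    refine dvd_trans ?_ (orderOf_map_dvd (QuotientGroup.mk' N) (x * (n : G)))
    obtain ⟨i, -, hi⟩ := (Nat.dvd_prime_pow (Fact.out : p.Prime)).1
      ((orderOf_map_dvd (QuotientGroup.mk' N) x).trans (orderOf_dvd_of_pow_eq_one hxk))
    have he : QuotientGroup.mk' N (x * (n : G)) = QuotientGroup.mk' N x := by
      rw [map_mul, QuotientGroup.mk'_apply N (n : G), (QuotientGroup.eq_one_iff (n : G)).2 n.2,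
        mul_one]
    rw [he, hi]
    refine dvd_pow_self p fun h0 => hxN ?_
    rw [h0, pow_zero, orderOf_eq_one_iff, QuotientGroup.mk'_apply, QuotientGroup.eq_one_iff] at hi
    exact hi
  have h0 := sum_over_eq_zero hM hB N θ hsing
  set U := (Finset.univ.filter (· ∈ B)).filter (fun χ : Cfsg.IrrCharacter G =>
    classInner (fun n : N => (χ : G → ℂ) n) (θ : N → ℂ) ≠ 0) with hU
  choose a ha hacong using fun χ : Cfsg.IrrCharacter G => exists_algInt_congr hM χ hxk
  have h1 : ((∑ χ ∈ U, charDegree (χ : G → ℂ) ^ 2 : ℕ) : Cfsg.AlgInt) ∈ M := by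
    have h2 : ∑ χ ∈ U, (charDegree (χ : G → ℂ) : Cfsg.AlgInt) * a χ = 0 := by
      apply Subtype.ext
      simpa [ha, cast_irrDegree] using h0
    rw [Nat.cast_sum, ← sub_zero (∑ χ ∈ U, ((charDegree (χ : G → ℂ) ^ 2 : ℕ) : Cfsg.AlgInt)),
      ← h2, ← Finset.sum_sub_distrib]
    refine M.sum_mem fun χ _ => ?_
    rw [Nat.cast_pow, show (charDegree (χ : G → ℂ) : Cfsg.AlgInt) ^ 2 -
        (charDegree (χ : G → ℂ) : Cfsg.AlgInt) * a χ =
      -((charDegree (χ : G → ℂ) : Cfsg.AlgInt) * (a χ - (charDegree (χ : G → ℂ) : Cfsg.AlgInt))) by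
        ring]
    exact M.neg_mem (M.mul_mem_left _ (hacong χ))
  rw [CfsgLib.Blocks.natCast_mem_iff hM, ← Finset.sum_filter_add_sum_filter_not U
    (fun χ : Cfsg.IrrCharacter G => p ∣ charDegree (χ : G → ℂ)),
    Nat.dvd_add_right (Finset.dvd_sum fun χ hχ => dvd_pow (Finset.mem_filter.1 hχ).2 two_ne_zero)] at h1
  set T := U.filter (fun χ : Cfsg.IrrCharacter G => ¬ p ∣ charDegree (χ : G → ℂ)) with hT
  replace h1 : p ∣ ∑ χ ∈ T, charDegree (χ : G → ℂ) ^ 2 := by convert h1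
  have hcard : Nat.card {χ : Cfsg.IrrCharacter G // χ ∈ B ∧ ¬ p ∣ Cfsg.charDegree (χ : G → ℂ) ∧
      Cfsg.classInner (fun n : N => (χ : G → ℂ) n) (θ : N → ℂ) ≠ 0} = T.card := by
    rw [Nat.card_eq_fintype_card, Fintype.card_of_subtype T]
    intro χ
    simp only [hT, hU, Finset.mem_filter, Finset.mem_univ, true_and]
    tauto
  rw [hcard]
  refine ⟨?_, fun hp3 => ?_⟩
  · by_contra hcon
    obtain ⟨χ, hχ⟩ := Finset.card_eq_one.1 (show T.card = 1 by omega)
    rw [hχ, Finset.sum_singleton] at h1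
    have hmem : χ ∈ T := hχ ▸ Finset.mem_singleton_self χ
    exact (Finset.mem_filter.1 hmem).2 ((Fact.out : p.Prime).dvd_of_dvd_pow h1)
  · rw [← CharP.cast_eq_zero_iff (ZMod p) p]
    rw [← CharP.cast_eq_zero_iff (ZMod p) p, Nat.cast_sum] at h1
    rw [← h1, Finset.card_eq_sum_ones, Nat.cast_sum]
    refine Finset.sum_congr rfl fun χ hχ => ?_
    rw [Nat.cast_pow, Nat.cast_one]
    have h4 : (charDegree (χ : G → ℂ) : ZMod p) ≠ 0 := by
      rw [Ne, CharP.cast_eq_zero_iff (ZMod p) p]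
      exact (Finset.mem_filter.1 hχ).2
    obtain rfl | rfl : p = 2 ∨ p = 3 := by have := (Fact.out : p.Prime).two_le; omega
    · exact sq_eq_one_zmod_two _ h4
    · exact sq_eq_one_zmod_three _ h4

end Cfsg.Agent.S4825
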