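import Cfsg.Statements.S4828
import Cfsg.Agent.Lib.Chars17.MaxPair
import Cfsg.Agent.S4657

set_option autoImplicit false
open Cfsg

namespace Cfsg.Agent.S4828

/-- Let p be a prime, M a maximal ideal of the algebraic integers containing p, and (Q, e) a Brauer pair of the finite group G (Q a p-subgroup, e a block of C_G(Q)). Then (Q, e) is a maximal Brauer pair of some block of G if and only if e contains an irreducible character θ such that θ takes the value θ(1) at every element of Z(Q) = Q ∩ C_G(Q), the p-part of θ(1) times the p-part of the order of Z(Q) equals the p-part of the order of C_G(Q) (θ has defect zero as a character of C_G(Q)/Z(Q)), and every element of N_G(Q) of p-power order that stabilizes e lies in Q·C_G(Q) (the stabilizer of e in N_G(Q) has index prime to p over Q·C_G(Q)). -/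
theorem result {G : Type*} [Group G] [Finite G] (p : ℕ) [Fact p.Prime] (M : Ideal Cfsg.AlgInt) (hM : Cfsg.IsPModular p M) (Q : Subgroup G) (e : Set (Cfsg.IrrCharacter (Subgroup.centralizer (Q : Set G)))) (he : Cfsg.IsBrauerPair p M Q e) :
    (∃ B : Set (Cfsg.IrrCharacter G), Cfsg.IsMaximalBrauerPair p M B Q e) ↔
      ∃ θ ∈ e, (∀ z : Subgroup.centralizer (Q : Set G), (z : G) ∈ Q → (θ : Subgroup.centralizer (Q : Set G) → ℂ) z = (θ : Subgroup.centralizer (Q : Set G) → ℂ) 1) ∧
        (Cfsg.charDegree (θ : Subgroup.centralizer (Q : Set G) → ℂ)).factorization p + (Nat.card ↥(Q ⊓ Subgroup.centralizer (Q : Set G))).factorization p = (Nat.card (Subgroup.centralizer (Q : Set G))).factorization p ∧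
        (∀ g : G, g ∈ Subgroup.normalizer (Q : Set G) → Cfsg.StabilizesBlock (Subgroup.centralizer (Q : Set G)) e g → (∃ k : ℕ, orderOf g = p ^ k) → g ∈ Q ⊔ Subgroup.centralizer (Q : Set G)) := by
  obtain ⟨hQ, heb⟩ := he
  haveI : M.IsMaximal := hM.2.1
  letI := Fintype.ofFinite G
  have := CfsgLib.BrauerPairs.charP_res hM
  set f := CfsgLib.BrauerPairs.eA hM (Subgroup.centralizer (Q : Set G)) e with hf
  have hT : ∀ y : G, y ∈ CfsgLib.BrauerPairs.pairStab Q f ↔
      y ∈ Subgroup.normalizer (Q : Set G) ∧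
        Cfsg.StabilizesBlock (Subgroup.centralizer (Q : Set G)) e y := fun y =>
    ⟨fun hy => ⟨hy.1, (CfsgLib.BrauerPairs.stabilizesBlock_iff_conjA hM
        (CfsgLib.BrauerPairs.normalizer_le_normalizer_cz Q hy.1) heb).2 hy.2⟩,
      fun hy => ⟨hy.1, (CfsgLib.BrauerPairs.stabilizesBlock_iff_conjA hM
        (CfsgLib.BrauerPairs.normalizer_le_normalizer_cz Q hy.1) heb).1 hy.2⟩⟩
  have hS : CfsgLib.BrauerPairs.BrSetup p Q f (CfsgLib.BrauerPairs.pairStab Q f) :=
    CfsgLib.BrauerPairs.setup_of_stab hM hQ heb hT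
  have hex : ∃ B, Cfsg.IsBrauerPairOf p M B Q e :=
    (Cfsg.Agent.S4657.result p M hM Q e ⟨hQ, heb⟩).exists
  rw [CfsgLib.Chars17.MaxPair.exists_maximal_iff hM hQ heb hex,
    CfsgLib.Chars17.MaxPair.inTr_iff hS,
    CfsgLib.Chars17.MaxPair.not_dvd_relIndex_iff (sup_le hS.le hS.cz_le) hS.le_norm]
  constructor
  · rintro ⟨h1, h2⟩
    obtain ⟨θ, hθ, hker, heq⟩ := CfsgLib.Chars17.MaxPair.exists_theta hM hQ heb h1
    exact ⟨θ, hθ, fun z hz => hker hz, heq, fun g hg hst hord => h2 g ((hT g).2 ⟨hg, hst⟩) hord⟩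
  · rintro ⟨θ, hθ, hker, heq, hst⟩
    exact ⟨CfsgLib.Chars17.MaxPair.inTr_of_theta hM hQ heb hθ (fun z hz => hker z hz) heq,
      fun g hg hord => hst g ((hT g).1 hg).1 ((hT g).1 hg).2 hord⟩

end Cfsg.Agent.S4828
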