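import Cfsg.Statements.S4837
import Cfsg.Agent.Lib.Chars17.TwoClassSylow

set_option autoImplicit false
open Cfsg

namespace Cfsg.Agent.S4837

open CfsgLib.Chars17 CfsgLib.Characters
open scoped ComplexConjugate

theorem stabilizer_sylow {G : Type*} [Group G] [Finite G] {χ : IrrCharacter G} {c : G}
    (H : TwoClass χ c) (p : ℕ) [Fact p.Prime] (hNp : IsPGroup p H.supp)
    (μ : IrrCharacter H.supp) (hμ : (μ : H.supp → ℂ) ≠ fun _ => 1) :
    ∃ P : Sylow p G, ∀ g : G, g ∈ (P : Subgroup G) ↔
      ∀ n n' : H.supp, (n' : G) = g * n * g⁻¹ → (μ : H.supp → ℂ) n' = (μ : H.supp → ℂ) n := by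
  classical
  let _ := Fintype.ofFinite G
  obtain ⟨a, n, -, hN, hcard, hpk, hfac⟩ := H.sylow_params p hNp
  set k := Nat.card {g : G // IsConj c g} with hk
  have hNcard : Nat.card H.supp = k + 1 := H.card_supp
  let cj : G → H.supp ≃* H.supp := fun g => MulAut.conjNormal g
  have hcj : ∀ (g : G) (x x' : H.supp), (x' : G) = g * x * g⁻¹ ↔ x' = cj g x := fun g x x' => by
    rw [Subtype.ext_iff, MulAut.conjNormal_apply]
  let S : Subgroup G :=
    { carrier := {g | ∀ x : H.supp, (μ : H.supp → ℂ) (cj g x) = (μ : H.supp → ℂ) x}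
      one_mem' := fun x => by simp [cj]
      mul_mem' := fun {u v} hu hv x => by
        have e : cj (u * v) x = cj u (cj v x) := by simp [cj, map_mul, MulAut.mul_apply]
        rw [e, hu, hv]
      inv_mem' := fun {u} hu x => by
        have e : cj u (cj u⁻¹ x) = x := by simp [cj, map_inv]
        conv_rhs => rw [← e, hu] }
  have hirr : ∀ g : G, IsIrrCharacter H.supp (fun x => (μ : H.supp → ℂ) (cj g x)) := fun g =>
    isIrrCharacter_comp_mulEquiv (cj g) μ.2
  let f : H.supp → ℂ := fun x => ∑ g : G, (μ : H.supp → ℂ) (cj g x)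
  -- the inner product of `f` with `μ` counts the stabiliser
  have h1 : classInner f (μ : H.supp → ℂ) = (Nat.card S : ℂ) := by
    have : f = ∑ g : G, fun x => (μ : H.supp → ℂ) (cj g x) := by funext x; simp [f]
    rw [this, classInner_sum_left, Nat.card_eq_fintype_card, Fintype.card_subtype,
      Finset.natCast_card_filter]
    refine Finset.sum_congr rfl fun g _ => ?_
    split_ifs with hg
    · have e : (fun x => (μ : H.supp → ℂ) (cj g x)) = (μ : H.supp → ℂ) := funext hg
      rw [e, classInner_irr_self μ.2]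
    · exact classInner_irr_ne (hirr g) μ.2 fun h => hg (congrFun h)
  have h2 : classInner f (fun _ => 1 : H.supp → ℂ) = 0 := by
    have : f = ∑ g : G, fun x => (μ : H.supp → ℂ) (cj g x) := by funext x; simp [f]
    rw [this, classInner_sum_left]
    refine Finset.sum_eq_zero fun g _ => classInner_irr_ne (hirr g) isIrrCharacter_one fun h => hμ ?_
    funext x
    simpa using congrFun h ((cj g).symm x)
  have hμ1 : (μ : H.supp → ℂ) 1 = 1 := by
    obtain ⟨p', -, -, hab, -⟩ := H.supp_elementaryAbelian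
    obtain ⟨d, ρ, hρ, hρμ⟩ := μ.2
    haveI := hab
    haveI := hρ
    rw [← hρμ, Representation.char_one, Representation.IsIrreducible.finrank_eq_one_of_isMulCommutative ρ,
      Nat.cast_one]
  let c' : H.supp := ⟨c, H.self_mem_supp⟩
  have hf1 : f 1 = (Nat.card G : ℂ) := by simp [f, hμ1]
  have hfx : ∀ x : H.supp, x ≠ 1 → f x = f c' := by
    intro x hx
    obtain ⟨b, hb⟩ := H.exists_conj H.self_mem_supp x.2 H.ne_one fun h => hx (Subtype.ext h)
    have hx' : x = cj b c' := (hcj b c' x).1 hb.symm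
    subst hx'
    refine Fintype.sum_equiv (Equiv.mulRight b) _ _ fun g => ?_
    simp [cj, map_mul, MulAut.mul_apply]
  have hcalc : ∀ ν : H.supp → ℂ, ν 1 = 1 → (k + 1 : ℂ) * classInner f ν =
      (Nat.card G : ℂ) - f c' + f c' * ∑ x : H.supp, conj (ν x) := by
    intro ν hν
    rw [classInner, hNcard, Nat.cast_add, Nat.cast_one, mul_inv_cancel_left₀
      (by exact_mod_cast Nat.succ_ne_zero k), Finset.mul_sum,
      ← Finset.add_sum_erase _ _ (Finset.mem_univ (1 : H.supp)),
      ← Finset.add_sum_erase _ _ (Finset.mem_univ (1 : H.supp)),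
      Finset.sum_congr rfl (s₁ := Finset.univ.erase (1 : H.supp)) fun x hx => by
        rw [hfx x (Finset.ne_of_mem_erase hx)], hf1, hν, map_one]
    ring
  have e1 := hcalc _ hμ1
  have e2 := hcalc (fun _ => 1) rfl
  have hz : ∑ x : H.supp, conj ((μ : H.supp → ℂ) x) = 0 := by
    have := classInner_irr_ne (isIrrCharacter_one (G := H.supp)) μ.2 fun h => hμ h.symm
    simpa [classInner, Nat.card_pos.ne'] using this
  rw [hz, mul_zero, add_zero, h1] at e1
  rw [h2, mul_zero] at e2
  simp only [map_one, Finset.sum_const, Finset.card_univ, ← Nat.card_eq_fintype_card, hNcard,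
    nsmul_eq_mul, mul_one, Nat.cast_add, Nat.cast_one] at e2
  have hSk : Nat.card S * k = Nat.card G := by
    have : ((k : ℂ) + 1) * ((Nat.card S * k : ℕ) - (Nat.card G : ℂ)) = 0 := by
      push_cast
      linear_combination (k : ℂ) * e1 + e2
    rw [mul_eq_zero, sub_eq_zero] at this
    exact_mod_cast this.resolve_left (by exact_mod_cast Nat.succ_ne_zero k)
  rw [hcard] at hSk
  haveI : Nonempty {g : G // IsConj c g} := ⟨⟨c, IsConj.refl c⟩⟩
  have hS := Nat.eq_of_mul_eq_mul_right Nat.card_pos hSk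
  refine ⟨Sylow.ofCard S (by rw [hfac, hS]), fun g => ?_⟩
  rw [Sylow.coe_ofCard]
  exact ⟨fun hg x x' hxx => by rw [(hcj g x x').1 hxx]; exact hg x,
    fun hg x => hg x (cj g x) ((hcj g x _).2 rfl)⟩


/-- Let G be a finite group of order greater than 2 with an irreducible character χ nonzero on exactly two conjugacy classes, and let N be the set of elements where χ is nonzero, given as a nontrivial normal p-subgroup of G for the prime p. Then for every nonidentity x in N the centralizer C_G(x) is a Sylow p-subgroup of G, and for every irreducible character λ ≠ 1 of N the stabilizer of λ in G (its inertia group) is a Sylow p-subgroup of G. -/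
theorem result {G : Type*} [Group G] [Finite G] (hG : 2 < Nat.card G) (χ : Cfsg.IrrCharacter G) (hχ : Nat.card {C : ConjClasses G // ∃ g ∈ C.carrier, (χ : G → ℂ) g ≠ 0} = 2) (p : ℕ) [Fact p.Prime] (N : Subgroup G) [N.Normal] (hN : ∀ g : G, g ∈ N ↔ (χ : G → ℂ) g ≠ 0) (hNp : IsPGroup p N) (hN1 : N ≠ ⊥) :
    (∀ x ∈ N, x ≠ 1 → ∃ P : Sylow p G, Subgroup.centralizer ({x} : Set G) = P) ∧
      (∀ μ : Cfsg.IrrCharacter N, (μ : N → ℂ) ≠ (fun _ => (1 : ℂ)) → ∃ P : Sylow p G, ∀ g : G, g ∈ (P : Subgroup G) ↔ ∀ n n' : N, (n' : G) = g * n * g⁻¹ → (μ : N → ℂ) n' = (μ : N → ℂ) n) := by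
  obtain ⟨c, H⟩ := exists_twoClass hG χ hχ
  obtain rfl := H.eq_supp hN
  exact ⟨fun x hx hx1 => H.exists_sylow_centralizer p hNp hx hx1,
    fun μ hμ => stabilizer_sylow H p hNp μ hμ⟩

end Cfsg.Agent.S4837
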