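import Cfsg.Statements.S4838
import Cfsg.Agent.Lib.Chars17.TwoClassSylow

set_option autoImplicit false
open Cfsg

namespace Cfsg.Agent.S4838

open CfsgLib.Chars17 CfsgLib.Characters
open scoped commutatorElement

variable {G : Type*} [Group G] [Finite G] {χ : IrrCharacter G} {c : G}

theorem card_centralizer_eq (H : TwoClass χ c) (N : Subgroup G) [N.Normal] (hN : N = H.supp)
    {x : G} (hx : x ∉ N) :
    Nat.card (Subgroup.centralizer ({x} : Set G)) =
      Nat.card (Subgroup.centralizer ({(x : G ⧸ N)} : Set (G ⧸ N))) := by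
  classical
  let _ := Fintype.ofFinite G
  have hx0 : (χ : G → ℂ) x = 0 := by
    by_contra h
    exact hx (hN ▸ H.mem_supp_iff.2 h)
  have hiff : ∀ ψ : IrrCharacter G, N ≤ irrKer ψ ↔ ψ ≠ χ := by
    intro ψ
    constructor
    · intro h hψ
      exact H.ne_one (H.eq_one_of_apply_eq
        (mem_irrKer.1 (hψ ▸ h (hN ▸ H.self_mem_supp))))
    · intro h
      rw [hN, TwoClass.supp]
      exact iInf₂_le (f := fun (ψ : IrrCharacter G) _ => irrKer ψ) ψ h
  have h1 := column_orth x x
  rw [if_pos (IsConj.refl x), ← Finset.sum_filter_add_sum_filter_not Finset.univ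
    (fun ψ => N ≤ irrKer ψ), sum_filter_le_irrKer N,
    Finset.sum_eq_zero (s := Finset.univ.filter fun ψ => ¬ N ≤ irrKer ψ) fun ψ hψ => by
      rw [Finset.mem_filter_univ, hiff, not_not] at hψ
      rw [hψ, hx0, zero_mul], add_zero] at h1
  have h2 := column_orth (x : G ⧸ N) (x : G ⧸ N)
  rw [if_pos (IsConj.refl _)] at h2
  simp only [infl_apply] at h1
  rw [h2] at h1
  exact_mod_cast h1.symm

theorem index_centralizer_ge (H : TwoClass χ c) (p : ℕ) [hp : Fact p.Prime]
    (N : Subgroup G) [N.Normal] (hN : N = H.supp)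
    (P : Sylow p G) {z : G} (hzN : z ∉ N) (hNP : N ≤ P) :
    Nat.card (Subgroup.centralizer ({z} : Set G) ⊓ P : Subgroup G) * Nat.card N ≤
      Nat.card (P : Subgroup G) := by
  have hNp : IsPGroup p N := P.2.to_le hNP
  obtain ⟨i, hi⟩ := IsPGroup.iff_card.1
    (P.2.to_le (inf_le_right : Subgroup.centralizer ({z} : Set G) ⊓ P ≤ P))
  obtain ⟨n, hn⟩ := IsPGroup.iff_card.1 hNp
  have h1 : p ^ i ∣ Nat.card (G ⧸ N) := by
    rw [← hi]
    refine (Subgroup.card_dvd_of_le inf_le_left).trans ?_
    rw [card_centralizer_eq H N hN hzN]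
    exact Subgroup.card_subgroup_dvd_card _
  have h2 : p ^ (i + n) ∣ Nat.card G := by
    rw [Subgroup.card_eq_card_quotient_mul_card_subgroup N, hn, pow_add]
    exact Nat.mul_dvd_mul_right h1 _
  rw [hi, hn, ← pow_add, P.card_eq_multiplicity]
  exact Nat.pow_le_pow_right hp.out.pos
    ((hp.out.pow_dvd_iff_le_factorization Nat.card_pos.ne').1 h2)

theorem upper_le (H : TwoClass χ c) (p : ℕ) [hp : Fact p.Prime] (hNp : IsPGroup p H.supp)
    (P : Sylow p G) (i : ℕ)
    (hi : Subgroup.upperCentralSeries ↥(P : Subgroup G) i ≤ H.supp.subgroupOf (P : Subgroup G))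
    (hne : Subgroup.upperCentralSeries ↥(P : Subgroup G) i ≠ H.supp.subgroupOf (P : Subgroup G)) :
    Subgroup.upperCentralSeries ↥(P : Subgroup G) (i + 1) ≤ H.supp.subgroupOf (P : Subgroup G) := by
  classical
  intro z hz
  by_contra hzN
  have hNP : H.supp ≤ (P : Subgroup G) := hNp.le_sylow_of_normal P
  set Z := Subgroup.upperCentralSeries ↥(P : Subgroup G) i
  have hlt : Nat.card Z < Nat.card H.supp := by
    rw [← Nat.card_congr (Subgroup.subgroupOfEquivOfLe hNP).toEquiv]
    rcases (Subgroup.card_le_of_le hi).lt_or_eq with h | h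
    · exact h
    · exact absurd (Subgroup.eq_of_le_of_card_ge hi h.ge) hne
  -- cosets of the centraliser inject into `Z`
  set C := (Subgroup.centralizer ({(z : G)} : Set G)).subgroupOf (P : Subgroup G)
  let φ : ↥(P : Subgroup G) ⧸ C → Z := fun q =>
    ⟨⁅z, q.out⁆, (Subgroup.mem_upperCentralSeries_succ_iff.1 hz _)⟩
  have hφ : Function.Injective φ := by
    intro q r h
    have h' : z * q.out * z⁻¹ * q.out⁻¹ = z * r.out * z⁻¹ * r.out⁻¹ := congrArg Subtype.val h
    rw [← q.out_eq, ← r.out_eq, eq_comm]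
    apply Quotient.sound
    show QuotientGroup.leftRel C r.out q.out
    rw [QuotientGroup.leftRel_apply, Subgroup.mem_subgroupOf, Subgroup.mem_centralizer_singleton_iff]
    have h1 : q.out * z⁻¹ * q.out⁻¹ = r.out * z⁻¹ * r.out⁻¹ :=
      mul_left_cancel (a := z) (by simpa only [mul_assoc] using h')
    have h2 : q.out * z * q.out⁻¹ = r.out * z * r.out⁻¹ := by
      have := congrArg (·⁻¹) h1
      simpa [mul_assoc] using this
    have h3 : (r.out⁻¹ * q.out) * z = z * (r.out⁻¹ * q.out) := by
      calc (r.out⁻¹ * q.out) * z = r.out⁻¹ * (q.out * z * q.out⁻¹) * q.out := by group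
        _ = _ := by rw [h2]; group
    exact_mod_cast congrArg Subtype.val h3
  have hcardle := Nat.card_le_card_of_injective φ hφ
  have h4 := index_centralizer_ge H p H.supp rfl P (z := (z : G))
    (fun h => hzN (Subgroup.mem_subgroupOf.2 h)) hNP
  rw [← Subgroup.card_mul_index C] at h4
  have hCeq : Nat.card C = Nat.card (Subgroup.centralizer ({(z : G)} : Set G) ⊓ P : Subgroup G) := by
    show Nat.card ((Subgroup.centralizer ({(z : G)} : Set G)).subgroupOf (P : Subgroup G)) = _
    rw [← Subgroup.inf_subgroupOf_right]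
    exact Nat.card_congr (Subgroup.subgroupOfEquivOfLe inf_le_right).toEquiv
  rw [← hCeq] at h4
  have := Nat.le_of_mul_le_mul_left h4 Nat.card_pos
  rw [Subgroup.index] at this
  omega

theorem exists_eq_supp (H : TwoClass χ c) (p : ℕ) [hp : Fact p.Prime] (hNp : IsPGroup p H.supp)
    (P : Sylow p G) :
    ∃ i : ℕ, Subgroup.upperCentralSeries ↥(P : Subgroup G) i = H.supp.subgroupOf (P : Subgroup G) := by
  by_contra hcon
  rw [not_exists] at hcon
  have hall : ∀ i, Subgroup.upperCentralSeries ↥(P : Subgroup G) i ≤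
      H.supp.subgroupOf (P : Subgroup G) := by
    intro i
    induction i with
    | zero => simp
    | succ i ih => exact upper_le H p hNp P i ih (hcon i)
  haveI : Group.IsNilpotent ↥(P : Subgroup G) := P.2.isNilpotent
  obtain ⟨i, hi⟩ := Group.IsNilpotent.nilpotent ↥(P : Subgroup G)
  exact hcon i (le_antisymm (hall i) (hi ▸ le_top))


/-- Let G be a finite group of order greater than 2 with an irreducible character χ nonzero on exactly two conjugacy classes, N the normal p-subgroup of elements where χ is nonzero, and P a Sylow p-subgroup of G. Then (a) for every x outside N the centralizer of x in G has the same order as the centralizer of xN in G/N; (b) the centre of P lies in N, and equals N exactly when P is normal in G; (c) N, viewed inside P, is a term of the upper central series of P. -/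
theorem result {G : Type*} [Group G] [Finite G] (hG : 2 < Nat.card G) (χ : Cfsg.IrrCharacter G) (hχ : Nat.card {C : ConjClasses G // ∃ g ∈ C.carrier, (χ : G → ℂ) g ≠ 0} = 2) (p : ℕ) [Fact p.Prime] (N : Subgroup G) [N.Normal] (hN : ∀ g : G, g ∈ N ↔ (χ : G → ℂ) g ≠ 0) (hNp : IsPGroup p N) (hN1 : N ≠ ⊥) (P : Sylow p G) :
    (∀ x : G, x ∉ N → Nat.card (Subgroup.centralizer ({x} : Set G)) = Nat.card (Subgroup.centralizer ({(x : G ⧸ N)} : Set (G ⧸ N)))) ∧
      ((Subgroup.center ↥(P : Subgroup G)).map (P : Subgroup G).subtype ≤ N ∧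
        ((Subgroup.center ↥(P : Subgroup G)).map (P : Subgroup G).subtype = N ↔ (P : Subgroup G).Normal)) ∧
      (∃ i : ℕ, Subgroup.upperCentralSeries ↥(P : Subgroup G) i = N.subgroupOf (P : Subgroup G)) := by
  obtain ⟨c, H⟩ := exists_twoClass hG χ hχ
  have hNH := H.eq_supp hN
  refine ⟨fun x hx => card_centralizer_eq H N hNH hx, ?_⟩
  subst hNH
  have hNP : H.supp ≤ (P : Subgroup G) := hNp.le_sylow_of_normal P
  refine ⟨?_, exists_eq_supp H p hNp P⟩
  have hne : (Subgroup.center ↥(P : Subgroup G)).map (P : Subgroup G).subtype ≠ ⊥ := by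
    haveI : Nontrivial ↥(P : Subgroup G) :=
      (Subgroup.nontrivial_iff_ne_bot _).2 fun h => hN1 (le_bot_iff.1 (h ▸ hNP))
    haveI := P.2.center_nontrivial
    rw [Ne, Subgroup.map_eq_bot_iff_of_injective _ (P : Subgroup G).subtype_injective]
    exact (Subgroup.nontrivial_iff_ne_bot _).1 inferInstance
  have hle : (Subgroup.center ↥(P : Subgroup G)).map (P : Subgroup G).subtype ≤ H.supp := by
    rw [Subgroup.map_le_iff_le_comap, ← Subgroup.upperCentralSeries_one]
    refine upper_le H p hNp P 0 (by simp) fun h => hN1 ?_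
    rw [Subgroup.upperCentralSeries_zero, eq_comm, Subgroup.subgroupOf_eq_bot] at h
    exact h.eq_bot_of_le hNP
  refine ⟨hle, fun heq => ?_, fun hnorm => ?_⟩
  · have hPC : ∀ x ∈ H.supp, (P : Subgroup G) ≤ Subgroup.centralizer ({x} : Set G) := by
      intro x hx g hg
      rw [← heq] at hx
      obtain ⟨z, hz, rfl⟩ := hx
      rw [Subgroup.mem_centralizer_singleton_iff]
      exact congrArg Subtype.val (Subgroup.mem_center_iff.1 hz ⟨g, hg⟩)
    have hPeq : (P : Subgroup G) = Subgroup.centralizer (H.supp : Set G) := by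
      refine le_antisymm (fun g hg => Subgroup.mem_centralizer_iff.2 fun x hx => ?_) fun g hg => ?_
      · exact (Subgroup.mem_centralizer_singleton_iff.1 (hPC x hx hg)).symm
      · obtain ⟨Q, hQ⟩ := H.exists_sylow_centralizer p hNp H.self_mem_supp H.ne_one
        have hQP : (Q : Subgroup G) = P := P.3 Q.2 (hQ ▸ hPC c H.self_mem_supp)
        rw [← hQP, ← hQ, Subgroup.mem_centralizer_singleton_iff]
        exact (Subgroup.mem_centralizer_iff.1 hg c H.self_mem_supp).symm
    rw [hPeq]
    infer_instance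
  · haveI := hnorm
    exact le_antisymm hle (H.supp_le_normal inferInstance hne)

end Cfsg.Agent.S4838
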