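import Cfsg.Statements.S4839
import Cfsg.Agent.S4838
import Cfsg.Agent.Lib.PCore.Basic
import Cfsg.Agent.Lib.Frobenius.Basic
import Cfsg.Agent.Lib.Involutions.BaerSuzuki

set_option autoImplicit false
open Cfsg

namespace Cfsg.Agent.S4839

open CfsgLib.Chars17 CfsgLib.Characters
open scoped Pointwise

variable {G : Type*} [Group G] [Finite G] {χ : IrrCharacter G} {c : G}

/-- If the centralizer of `u` covers the centralizer of its image, and meets `N` nontrivially,
then it is strictly bigger. -/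
theorem no_covering (H : TwoClass χ c) (N : Subgroup G) [N.Normal] (hN : N = H.supp) {u : G}
    (hu : u ∉ N) {x : G} (hx : x ∈ N) (hx1 : x ≠ 1) (hxu : x * u = u * x)
    (hcov : ∀ g : G, g * u * g⁻¹ * u⁻¹ ∈ N → ∃ v ∈ N, (v * g) * u = u * (v * g)) : False := by
  set C := Subgroup.centralizer ({u} : Set G) with hC
  set D := Subgroup.centralizer ({(u : G ⧸ N)} : Set (G ⧸ N)) with hD
  have hmaps : ∀ g : C, ((g : G) : G ⧸ N) ∈ D := fun g =>
    Subgroup.mem_centralizer_singleton_iff.2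
      (by rw [← QuotientGroup.mk_mul, Subgroup.mem_centralizer_singleton_iff.1 g.2,
        QuotientGroup.mk_mul])
  let f : C → D := fun g => ⟨((g : G) : G ⧸ N), hmaps g⟩
  have hsurj : Function.Surjective f := by
    rintro ⟨q, hq⟩
    induction q using QuotientGroup.induction_on with | H g => ?_
    have hg : g * u * g⁻¹ * u⁻¹ ∈ N := by
      rw [← QuotientGroup.eq_one_iff]
      simp only [QuotientGroup.mk_mul, QuotientGroup.mk_inv]
      rw [Subgroup.mem_centralizer_singleton_iff.1 hq, mul_inv_cancel_right, mul_inv_cancel]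
    obtain ⟨v, hv, hvg⟩ := hcov g hg
    refine ⟨⟨v * g, Subgroup.mem_centralizer_singleton_iff.2 hvg⟩, Subtype.ext ?_⟩
    show ((v * g : G) : G ⧸ N) = _
    rw [QuotientGroup.mk_mul, (QuotientGroup.eq_one_iff v).2 hv, one_mul]
  have hcard : Nat.card C = Nat.card D := Cfsg.Agent.S4838.card_centralizer_eq H N hN hu
  have hinj := (Nat.bijective_iff_surjective_and_card f).2 ⟨hsurj, hcard⟩
  have hxC : x ∈ C := Subgroup.mem_centralizer_singleton_iff.2 hxu
  have h1 : f ⟨x, hxC⟩ = f 1 := Subtype.ext (by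
    show ((x : G) : G ⧸ N) = ((1 : G) : G ⧸ N)
    rw [(QuotientGroup.eq_one_iff x).2 hx, QuotientGroup.mk_one])
  exact hx1 (congrArg Subtype.val (hinj.1 h1))

/-- An element of `p`-power order fixes a nonidentity element of a normal `p`-subgroup. -/
theorem exists_fixed {p : ℕ} [Fact p.Prime] (N : Subgroup G) [N.Normal] (hNp : IsPGroup p N)
    (hN1 : N ≠ ⊥) {u : G} {k : ℕ} (hu : u ^ p ^ k = 1) : ∃ x ∈ N, x ≠ 1 ∧ x * u = u * x := by
  let Q : Subgroup G := Subgroup.zpowers u
  have hQ : IsPGroup p Q := fun g => by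
    obtain ⟨i, hi⟩ := Subgroup.mem_zpowers_iff.1 g.2
    refine ⟨k, Subtype.ext ?_⟩
    rw [SubmonoidClass.coe_pow, OneMemClass.coe_one, ← hi, ← zpow_natCast, ← zpow_mul, mul_comm,
      zpow_mul, zpow_natCast, hu, one_zpow]
  let _ : MulAction Q N := MulAction.compHom N ((MulAut.conjNormal (H := N)).comp Q.subtype)
  have h1 : (1 : N) ∈ MulAction.fixedPoints Q N := fun g => map_one (MulAut.conjNormal (H := N) (g : G))
  haveI : Nontrivial N := (Subgroup.nontrivial_iff_ne_bot N).2 hN1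
  obtain ⟨n, hn0, hn⟩ := (hNp.nontrivial_iff_card).1 inferInstance
  obtain ⟨b, hb, hb1⟩ := hQ.exists_fixed_point_of_prime_dvd_card_of_fixed_point N
    (hn ▸ dvd_pow_self p hn0.ne') h1
  refine ⟨b, b.2, fun h => hb1 (Subtype.ext h.symm), ?_⟩
  have h2 := congrArg Subtype.val (hb ⟨u, Subgroup.mem_zpowers u⟩)
  change ((MulAut.conjNormal (H := N) u b : N) : G) = b at h2
  rw [MulAut.conjNormal_apply, mul_inv_eq_iff_eq_mul] at h2
  exact h2.symm

theorem orderOf_pow_of_commute (H : TwoClass χ c) (p : ℕ) [Fact p.Prime]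
    (hNp : IsPGroup p H.supp) {g x : G} (hx : x ∈ H.supp) (hx1 : x ≠ 1) (h : g * x = x * g) :
    ∃ i, orderOf g = p ^ i := by
  obtain ⟨Q, hQ⟩ := H.exists_sylow_centralizer p hNp hx hx1
  obtain ⟨i, hi⟩ := Q.2 ⟨g, hQ ▸ Subgroup.mem_centralizer_singleton_iff.2 h⟩
  obtain ⟨j, -, hj⟩ := (Nat.dvd_prime_pow (Fact.out : p.Prime)).1
    (orderOf_dvd_of_pow_eq_one (x := g) (n := p ^ i) (by simpa using congrArg Subtype.val hi))
  exact ⟨j, hj⟩

theorem centralizer_supp_le (H : TwoClass χ c) (p : ℕ) [Fact p.Prime] (hNp : IsPGroup p H.supp)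
    (hcore : H.supp = Cfsg.pCore p G) : Subgroup.centralizer (H.supp : Set G) ≤ H.supp := by
  rw [hcore]
  refine CfsgLib.PCore.le_pCore inferInstance ?_
  obtain ⟨Q, hQ⟩ := H.exists_sylow_centralizer p hNp H.self_mem_supp H.ne_one
  refine Q.2.to_le fun g hg => hQ ▸ Subgroup.mem_centralizer_singleton_iff.2 ?_
  exact (Subgroup.mem_centralizer_iff.1 hg c (hcore ▸ H.self_mem_supp)).symm

/-- The odd case: an involution inverts `N` and is central modulo `N`. -/
theorem odd_case (H : TwoClass χ c) (p : ℕ) [hp : Fact p.Prime] (hp2 : p ≠ 2)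
    (hNp : IsPGroup p H.supp) (hcore : H.supp = Cfsg.pCore p G) :
    ¬ p ∣ H.supp.index := by
  intro hdvd
  obtain ⟨q, hq⟩ := exists_prime_orderOf_dvd_card' (G := G ⧸ H.supp) p hdvd
  obtain ⟨u, rfl⟩ := QuotientGroup.mk_surjective q
  obtain ⟨a, n, hn0, hN, hcard, hpk, -⟩ := H.sylow_params p hNp
  obtain ⟨p', hp', -, hel⟩ := H.supp_elementaryAbelian
  have hab : ∀ x ∈ H.supp, ∀ y ∈ H.supp, x * y = y * x := fun x hx y hy =>
    congrArg Subtype.val (hel.1.is_comm.comm ⟨x, hx⟩ ⟨y, hy⟩)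
  have hodd : Odd (p ^ n) := (hp.out.odd_of_ne_two hp2).pow
  have heven : 2 ∣ Nat.card G := by
    rw [hcard]
    refine dvd_mul_of_dvd_right ?_ _
    obtain ⟨t, ht⟩ := hodd
    rw [← hN, H.card_supp] at ht
    exact ⟨t, by omega⟩
  obtain ⟨t, ht⟩ := exists_prime_orderOf_dvd_card' (G := G) 2 heven
  have ht1 : t * t = 1 := by rw [← sq, ← ht, pow_orderOf_eq_one]
  have htinv : t⁻¹ = t := inv_eq_of_mul_eq_one_right ht1
  have hfix : ∀ x ∈ H.supp, t * x * t⁻¹ = x → x = 1 := by
    intro x hx hfx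
    by_contra hx1
    obtain ⟨i, hi⟩ := orderOf_pow_of_commute H p hNp hx hx1 (mul_inv_eq_iff_eq_mul.1 hfx)
    rw [ht] at hi
    rcases Nat.eq_zero_or_pos i with rfl | hi0
    · rw [pow_zero] at hi; omega
    · exact hp2 ((Nat.prime_dvd_prime_iff_eq hp.out Nat.prime_two).1 (hi ▸ dvd_pow_self p hi0.ne'))
  have hneg : ∀ x ∈ H.supp, t * x * t⁻¹ = x⁻¹ := by
    intro x hx
    have hy : t * x * t⁻¹ ∈ H.supp := H.supp_normal.conj_mem x hx t
    refine eq_inv_of_mul_eq_one_left (hfix _ (mul_mem hy hx) ?_)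
    rw [show t * (t * x * t⁻¹ * x) * t⁻¹ = (t * t) * x * (t * t)⁻¹ * (t * x * t⁻¹) by group,
      ht1, inv_one, mul_one, one_mul]
    exact hab x hx _ hy
  -- square roots in `N`
  obtain ⟨s, hs⟩ := hodd
  have hsqrt : ∀ v ∈ H.supp, ∃ w ∈ H.supp, w * w = v := fun v hv => ⟨v ^ (s + 1), pow_mem hv _, by
    have h1 : (⟨v, hv⟩ : H.supp) ^ Nat.card H.supp = 1 := pow_card_eq_one'
    rw [← pow_add, show s + 1 + (s + 1) = Nat.card H.supp + 1 by omega, pow_succ]
    rw [show v ^ Nat.card H.supp = 1 from congrArg Subtype.val h1, one_mul]⟩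
  -- `t` is central modulo `N`
  have hcent : ∀ g : G, t * g * t * g⁻¹ ∈ H.supp := fun g => by
    refine centralizer_supp_le H p hNp hcore (Subgroup.mem_centralizer_iff.2 fun x hx => ?_)
    have hx' : g⁻¹ * x * g ∈ H.supp := by simpa using H.supp_normal.conj_mem x hx g⁻¹
    have e : (t * g * t * g⁻¹) * x * (t * g * t * g⁻¹)⁻¹ = x := by
      calc (t * g * t * g⁻¹) * x * (t * g * t * g⁻¹)⁻¹
          = t * (g * (t * (g⁻¹ * x * g) * t⁻¹) * g⁻¹) * t⁻¹ := by group
        _ = t * x⁻¹ * t⁻¹ := by rw [hneg _ hx']; group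
        _ = x := by rw [hneg _ (inv_mem hx), inv_inv]
    exact (mul_inv_eq_iff_eq_mul.1 e).symm
  -- every coset contains an element commuting with `t`
  have hlift : ∀ g : G, ∃ w ∈ H.supp, t * (w * g) * t⁻¹ = w * g := by
    intro g
    obtain ⟨w, hw, hww⟩ := hsqrt _ (hcent g)
    refine ⟨w, hw, ?_⟩
    calc t * (w * g) * t⁻¹ = (t * w * t⁻¹) * (t * g * t⁻¹ * g⁻¹) * g := by group
      _ = w⁻¹ * (w * w) * g := by rw [hneg w hw, htinv, hww]
      _ = w * g := by group
  obtain ⟨w, hw, hwu⟩ := hlift u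
  have hmk : ((w * u : G) : G ⧸ H.supp) = (u : G ⧸ H.supp) := by
    rw [QuotientGroup.mk_mul, (QuotientGroup.eq_one_iff w).2 hw, one_mul]
  have hnot : w * u ∉ H.supp := fun h => by
    rw [← hmk, (QuotientGroup.eq_one_iff (w * u)).2 h, orderOf_one] at hq
    exact hp.out.ne_one hq.symm
  have hpow : ∃ k, (w * u) ^ p ^ k = 1 := by
    have h1 : (w * u) ^ p ∈ H.supp := by
      rw [← QuotientGroup.eq_one_iff, QuotientGroup.mk_pow, hmk, ← hq, pow_orderOf_eq_one]
    obtain ⟨k, hk⟩ := hNp ⟨_, h1⟩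
    refine ⟨k + 1, ?_⟩
    have := congrArg Subtype.val hk
    simp only [SubmonoidClass.coe_pow, OneMemClass.coe_one] at this
    rw [pow_succ', pow_mul, this]
  obtain ⟨k, hk⟩ := hpow
  obtain ⟨x, hx, hx1, hxu⟩ := exists_fixed H.supp hNp H.supp_ne_bot hk
  refine no_covering H H.supp rfl hnot hx hx1 hxu fun g hg => ?_
  obtain ⟨v, hv, hvg⟩ := hlift g
  refine ⟨v, hv, ?_⟩
  set g' := v * g with hg'
  have hcN : g' * (w * u) * g'⁻¹ * (w * u)⁻¹ ∈ H.supp := by
    rw [← QuotientGroup.eq_one_iff] at hg ⊢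
    simp only [hg', QuotientGroup.mk_mul, QuotientGroup.mk_inv,
      (QuotientGroup.eq_one_iff v).2 hv, one_mul] at hg ⊢
    exact hg
  have hfx : t * (g' * (w * u) * g'⁻¹ * (w * u)⁻¹) * t⁻¹ = g' * (w * u) * g'⁻¹ * (w * u)⁻¹ := by
    calc t * (g' * (w * u) * g'⁻¹ * (w * u)⁻¹) * t⁻¹
        = (t * g' * t⁻¹) * (t * (w * u) * t⁻¹) * (t * g' * t⁻¹)⁻¹ * (t * (w * u) * t⁻¹)⁻¹ := by group
      _ = _ := by rw [hvg, hwu]
  have := hfix _ hcN hfx
  rwa [mul_inv_eq_one, mul_inv_eq_iff_eq_mul] at this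

/-- The even case, through the Baer-Suzuki theorem. -/
theorem even_case (H : TwoClass χ c) (hNp : IsPGroup 2 H.supp)
    (hcore : H.supp = Cfsg.pCore 2 G) : ¬ 2 ∣ H.supp.index := by
  intro hdvd
  classical
  obtain ⟨q, hq⟩ := exists_prime_orderOf_dvd_card' (G := G ⧸ H.supp) 2 hdvd
  obtain ⟨u, rfl⟩ := QuotientGroup.mk_surjective q
  have huN : u ∉ H.supp := fun h => by
    rw [(QuotientGroup.eq_one_iff u).2 h, orderOf_one] at hq; omega
  have hu2 : u * u ∈ H.supp := by
    rw [← QuotientGroup.eq_one_iff, QuotientGroup.mk_mul, ← sq, ← hq, pow_orderOf_eq_one]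
  obtain ⟨p', hp', hpg', hel⟩ := H.supp_elementaryAbelian
  have hab : ∀ x ∈ H.supp, ∀ y ∈ H.supp, x * y = y * x := fun x hx y hy =>
    congrArg Subtype.val (hel.1.is_comm.comm ⟨x, hx⟩ ⟨y, hy⟩)
  have h2 : p' = 2 := by
    have hc1 : c ^ p' = 1 := hel.2 c H.self_mem_supp
    obtain ⟨k, hk⟩ := hNp ⟨c, H.self_mem_supp⟩
    have hk' : c ^ 2 ^ k = 1 := by simpa using congrArg Subtype.val hk
    by_contra hne
    exact H.ne_one (orderOf_eq_one_iff.1 (Nat.eq_one_of_dvd_coprimes
      (((Nat.coprime_primes hp' Nat.prime_two).2 hne).pow_right k)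
      (orderOf_dvd_of_pow_eq_one hc1) (orderOf_dvd_of_pow_eq_one hk')))
  have hexp : ∀ x ∈ H.supp, x * x = 1 := fun x hx => by
    have := hel.2 x hx; rwa [h2, sq] at this
  -- two conjugates with trivial common fixed points
  obtain ⟨g0, hg0⟩ : ∃ g : G, ∀ x ∈ H.supp, u * x = x * u → (g * u * g⁻¹) * x = x * (g * u * g⁻¹) →
      x = 1 := by
    by_contra! hcon
    refine huN ?_
    have hB : ∀ g : G, IsPGroup 2 (Subgroup.closure ({u, g * u * g⁻¹} : Set G)) := by
      intro g
      obtain ⟨x, hx, hxu, hxg, hx1⟩ := hcon g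
      obtain ⟨Q, hQ⟩ := H.exists_sylow_centralizer 2 hNp hx hx1
      refine Q.2.to_le ((Subgroup.closure_le _).2 ?_)
      rintro y (rfl | rfl) <;> rw [← hQ] <;>
        exact Subgroup.mem_centralizer_singleton_iff.2 (by assumption)
    obtain ⟨K, hKn, hKp, huK⟩ := CfsgLib.Involutions.exists_normal_isPGroup_of_mem hB
    rw [hcore]
    exact CfsgLib.PCore.le_pCore hKn hKp huK
  -- the fixed points form the image of `v ↦ v * u v u⁻¹`
  let W : Set H.supp := {x | u * (x : G) = (x : G) * u}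
  let f : H.supp → W := fun v =>
    ⟨v * ⟨u * v * u⁻¹, H.supp_normal.conj_mem v v.2 u⟩, by
      show u * ((v : G) * (u * v * u⁻¹)) = ((v : G) * (u * v * u⁻¹)) * u
      have e : (u * u) * v * (u * u)⁻¹ = (v : G) := by
        rw [hab _ hu2 v v.2, mul_inv_cancel_right]
      calc u * ((v : G) * (u * v * u⁻¹)) = (u * v * u⁻¹) * ((u * u) * v * (u * u)⁻¹) * u := by group
        _ = _ := by rw [e, hab _ (H.supp_normal.conj_mem v v.2 u) v v.2]⟩
  have hWsurj : Function.Surjective f := by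
    -- both `W` and the fixed points of a conjugate embed
    let e : W × W → H.supp := fun p =>
      p.1.1 * ⟨g0 * p.2.1 * g0⁻¹, H.supp_normal.conj_mem _ p.2.1.2 g0⟩
    have hinj : Function.Injective e := by
      rintro ⟨a, b⟩ ⟨a', b'⟩ h
      have h' : (a.1 : G) * (g0 * b.1 * g0⁻¹) = a'.1 * (g0 * b'.1 * g0⁻¹) := congrArg Subtype.val h
      set z : G := (a'.1 : G)⁻¹ * a.1 with hz
      have hz' : z = g0 * ((b'.1 : G) * (b.1 : G)⁻¹) * g0⁻¹ := by
        calc z = (a'.1 : G)⁻¹ * (a.1 * (g0 * b.1 * g0⁻¹)) * (g0 * b.1 * g0⁻¹)⁻¹ := by rw [hz]; group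
          _ = _ := by rw [h']; group
      have hca : Commute u (a.1 : G) := a.2
      have hca' : Commute u (a'.1 : G) := a'.2
      have hcb : Commute u (b.1 : G) := b.2
      have hcb' : Commute u (b'.1 : G) := b'.2
      have hz1 : z = 1 := hg0 z (mul_mem (inv_mem a'.1.2) a.1.2)
        (hca'.inv_right.mul_right hca).eq (by
          rw [hz']
          calc g0 * u * g0⁻¹ * (g0 * ((b'.1 : G) * (b.1 : G)⁻¹) * g0⁻¹)
              = g0 * (u * ((b'.1 : G) * (b.1 : G)⁻¹)) * g0⁻¹ := by group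
            _ = g0 * (((b'.1 : G) * (b.1 : G)⁻¹) * u) * g0⁻¹ := by
              rw [(hcb'.mul_right hcb.inv_right).eq]
            _ = _ := by group)
      have ha : a = a' := Subtype.ext (Subtype.ext (inv_mul_eq_one.1 hz1).symm)
      subst ha
      have hb := mul_left_cancel h'
      exact Prod.ext rfl (Subtype.ext (Subtype.ext (mul_left_cancel (mul_right_cancel hb))))
    have hle1 := Nat.card_le_card_of_injective e hinj
    rw [Nat.card_prod] at hle1
    let F : H.supp →* H.supp :=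
      { toFun := fun v => (f v : W).1
        map_one' := Subtype.ext (by simp [f])
        map_mul' := fun v w => Subtype.ext (by
          show (v : G) * w * (u * (v * w) * u⁻¹) =
            (v : G) * (u * v * u⁻¹) * ((w : G) * (u * w * u⁻¹))
          calc (v : G) * w * (u * (v * w) * u⁻¹)
              = (v : G) * ((w : G) * (u * v * u⁻¹)) * (u * w * u⁻¹) := by group
            _ = _ := by rw [hab w w.2 _ (H.supp_normal.conj_mem v v.2 u)]; group) }
    have hker : (F.ker : Set H.supp) = W := by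
      ext v
      show F v = 1 ↔ u * (v : G) = v * u
      rw [Subtype.ext_iff]
      show (v : G) * (u * v * u⁻¹) = 1 ↔ _
      rw [mul_eq_one_iff_inv_eq, inv_eq_of_mul_eq_one_right (hexp v v.2)]
      constructor
      · intro hh; exact (eq_mul_inv_iff_mul_eq.1 hh).symm
      · intro hh; rw [hh, mul_inv_cancel_right]
    have hcardeq := Subgroup.card_mul_index F.ker
    rw [Subgroup.index_ker] at hcardeq
    have hWker : Nat.card F.ker = Nat.card W :=
      Nat.card_congr (Equiv.setCongr hker)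
    rw [hWker] at hcardeq
    haveI : Nonempty W := ⟨⟨1, by simp [W]⟩⟩
    have hge : Nat.card W ≤ Nat.card F.range :=
      Nat.le_of_mul_le_mul_left (hle1.trans hcardeq.ge) Nat.card_pos
    have hsub : (F.range : Set H.supp) ⊆ W := by
      rintro _ ⟨v, rfl⟩
      exact (f v).2
    have hEq : (F.range : Set H.supp) = W :=
      Set.eq_of_subset_of_ncard_le hsub (by
        rw [← Nat.card_coe_set_eq, ← Nat.card_coe_set_eq]; exact hge) (Set.toFinite _)
    intro x
    obtain ⟨v, hv⟩ := (Set.ext_iff.1 hEq x.1).2 x.2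
    exact ⟨v, Subtype.ext hv⟩
  -- an involution in the coset of `u`
  have hmem : (⟨u * u, hu2⟩ : H.supp) ∈ W := by
    show u * (u * u) = u * u * u
    group
  obtain ⟨v, hv⟩ := hWsurj ⟨_, hmem⟩
  have hv' : (v : G) * (u * v * u⁻¹) = u * u := congrArg (fun z : W => (z.1 : G)) hv
  set u0 := (v : G) * u with hu0
  have hu0sq : u0 * u0 = 1 := by
    rw [hu0, show (v : G) * u * (v * u) = (v * (u * v * u⁻¹)) * (u * u) by group, hv', hexp _ hu2]
  have hu0N : u0 ∉ H.supp := fun h => huN ((H.supp.mul_mem_cancel_left v.2).1 h)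
  obtain ⟨x, hx, hx1, hxu⟩ := exists_fixed H.supp hNp H.supp_ne_bot (u := u0) (k := 1)
    (by rw [pow_one, sq, hu0sq])
  refine no_covering H H.supp rfl hu0N hx hx1 hxu fun g hg => ?_
  set z := g * u0 * g⁻¹ * u0⁻¹ with hz
  have hinv0 : u0⁻¹ = u0 := inv_eq_of_mul_eq_one_right hu0sq
  have hzW : (⟨z, hg⟩ : H.supp) ∈ W := by
    show u * z = z * u
    have h1 : z * (u0 * z * u0⁻¹) = 1 := by
      calc z * (u0 * z * u0⁻¹) = (z * u0) * (z * u0) * (u0 * u0)⁻¹ := by group
        _ = g * (u0 * u0) * g⁻¹ * (u0 * u0)⁻¹ := by rw [hz]; group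
        _ = 1 := by rw [hu0sq]; group
    rw [mul_eq_one_iff_inv_eq, inv_eq_of_mul_eq_one_right (hexp z hg)] at h1
    have h2 : u0 * z * u0⁻¹ = (v : G) * (u * z * u⁻¹) * (v : G)⁻¹ := by rw [hu0]; group
    rw [h2, hab _ v.2 _ (H.supp_normal.conj_mem z hg u), mul_inv_cancel_right] at h1
    exact (eq_mul_inv_iff_mul_eq.1 h1).symm
  obtain ⟨w, hw⟩ := hWsurj ⟨_, hzW⟩
  have hw' : (w : G) * (u * w * u⁻¹) = z := congrArg (fun t : W => (t.1 : G)) hw
  refine ⟨(w : G)⁻¹, inv_mem w.2, ?_⟩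
  have hwu : u0 * (w : G) * u0⁻¹ = u * w * u⁻¹ := by
    calc u0 * (w : G) * u0⁻¹ = (v : G) * (u * w * u⁻¹) * (v : G)⁻¹ := by rw [hu0]; group
      _ = _ := by rw [hab _ v.2 _ (H.supp_normal.conj_mem _ w.2 u), mul_inv_cancel_right]
  rw [← hwu] at hw'
  have hwi : (w : G)⁻¹ = w := inv_eq_of_mul_eq_one_right (hexp w w.2)
  calc (w : G)⁻¹ * g * u0 = (w : G)⁻¹ * z * (u0 * g) := by rw [hz]; group
    _ = (w : G)⁻¹ * (w * (u0 * w * u0⁻¹)) * (u0 * g) := by rw [hw']
    _ = u0 * ((w : G) * g) := by group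
    _ = u0 * ((w : G)⁻¹ * g) := by rw [hwi]

/-- The equivalence. -/
theorem main (H : TwoClass χ c) (hG : 2 < Nat.card G) (p : ℕ) [hp : Fact p.Prime]
    (hNp : IsPGroup p H.supp) :
    H.supp = Cfsg.pCore p G ↔ ∃ A : Subgroup G, Cfsg.IsFrobeniusComplement A ∧
      Cfsg.frobeniusKernel A = (H.supp : Set G) ∧ Nat.card A + 1 = Nat.card H.supp := by
  obtain ⟨a, n, hn0, hN, hcard, hpk, hfac⟩ := H.sylow_params p hNp
  have hk : Nat.card {g : G // IsConj c g} + 1 = p ^ n := by rw [← hN, H.card_supp]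
  constructor
  · intro hcore
    have hidx : ¬ p ∣ H.supp.index := by
      rcases eq_or_ne p 2 with rfl | h
      · exact even_case H hNp hcore
      · exact odd_case H p h hNp hcore
    have hmul := Subgroup.card_mul_index H.supp
    rw [hN, hcard] at hmul
    have ha : a = 0 := by
      by_contra h0
      apply hidx
      have : H.supp.index = p ^ (2 * a) * Nat.card {g : G // IsConj c g} :=
        Nat.eq_of_mul_eq_mul_left (pow_pos hp.out.pos n) (by rw [hmul, pow_add]; ring)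
      rw [this]
      exact dvd_mul_of_dvd_left (dvd_pow_self p (by omega)) _
    subst ha
    have hidx' : H.supp.index = Nat.card {g : G // IsConj c g} :=
      Nat.eq_of_mul_eq_mul_left (pow_pos hp.out.pos n) (by rw [hmul]; simp)
    obtain ⟨A, hA⟩ := Subgroup.exists_right_complement'_of_coprime (N := H.supp) (by
      rw [hN]; exact (hp.out.coprime_iff_not_dvd.2 hidx).pow_left n)
    have hAcard : Nat.card A + 1 = Nat.card H.supp := by
      rw [← hA.symm.index_eq_card, hidx', hk, hN]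
    have hfpf : ∀ x ∈ H.supp, x ≠ 1 → ∀ g ∈ A, g * x = x * g → g = 1 := by
      intro x hx hx1 g hg hc
      obtain ⟨i, hi⟩ := orderOf_pow_of_commute H p hNp hx hx1 hc
      have h1 : orderOf g ∣ Nat.card A := Subgroup.orderOf_dvd_natCard A hg
      rcases Nat.eq_zero_or_pos i with rfl | hi0
      · exact orderOf_eq_one_iff.1 (by simpa using hi)
      · exfalso
        rw [← hA.symm.index_eq_card] at h1
        exact hidx ((dvd_pow_self p hi0.ne').trans (hi ▸ h1))
    have hF : Cfsg.IsFrobeniusComplement A := by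
      refine ⟨fun h => ?_, fun h => ?_, fun g hg => ?_⟩
      · rw [h, Subgroup.card_bot, hN] at hAcard
        rw [hcard] at hG
        simp only [Nat.mul_zero, Nat.zero_add] at hG
        rw [← hAcard] at hG hk
        omega
      · rw [h, Subgroup.card_top] at hAcard
        have := Subgroup.card_le_card_group H.supp
        omega
      · rw [Subgroup.eq_bot_iff_forall]
        rintro x ⟨hxA, hxg⟩
        replace hxg := CfsgLib.Frobenius.mem_conj_smul_iff.1 hxg
        obtain ⟨⟨⟨b, hb⟩, ⟨h, hh⟩⟩, hbh⟩ := hA.2 g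
        dsimp only at hbh
        subst hbh
        have hy : b⁻¹ * x * b ∈ A := by
          have := A.mul_mem (A.mul_mem hh hxg) (A.inv_mem hh)
          simpa [mul_assoc] using this
        have hdiff : x⁻¹ * (b⁻¹ * x * b) ∈ H.supp ⊓ A := by
          refine ⟨?_, A.mul_mem (A.inv_mem hxA) hy⟩
          have := H.supp_normal.conj_mem _ (inv_mem hb) x⁻¹
          simpa [mul_assoc] using mul_mem this hb
        rw [hA.disjoint.eq_bot, Subgroup.mem_bot, inv_mul_eq_one] at hdiff
        by_cases hb1 : b = 1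
        · exact absurd (by rw [hb1, one_mul]; exact hh) hg
        refine hfpf b hb hb1 x hxA ?_
        calc x * b = b * (b⁻¹ * x * b) := by group
          _ = b * x := by rw [← hdiff]
    refine ⟨A, hF, ?_, hAcard⟩
    refine (Set.eq_of_subset_of_ncard_le (fun x hx => ?_) ?_ (Set.toFinite _)).symm
    · rw [CfsgLib.Frobenius.mem_frobeniusKernel_iff_dvd_index hF, hA.index_eq_card]
      exact Subgroup.orderOf_dvd_natCard _ hx
    · rw [CfsgLib.Frobenius.ncard_frobeniusKernel hF, hA.index_eq_card, ← Nat.card_coe_set_eq]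
      rfl
  · rintro ⟨A, hF, hker, hAcard⟩
    refine Subgroup.eq_of_le_of_card_ge (CfsgLib.PCore.le_pCore inferInstance hNp) ?_
    obtain ⟨i, hi⟩ := IsPGroup.iff_card.1 (CfsgLib.PCore.pCore_isPGroup (p := p) (G := G))
    have hidx : A.index = Nat.card H.supp := by
      rw [← CfsgLib.Frobenius.ncard_frobeniusKernel hF, hker, ← Nat.card_coe_set_eq]; rfl
    have hG' := Subgroup.card_mul_index A
    have hd := Subgroup.card_subgroup_dvd_card (Cfsg.pCore p G)
    rw [← hG', hidx, hN, hi] at hd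
    rw [hi, hN]
    refine Nat.le_of_dvd (pow_pos hp.out.pos n) (Nat.Coprime.dvd_of_dvd_mul_left ?_ hd)
    refine (hp.out.coprime_iff_not_dvd.2 fun h => hp.out.not_dvd_one ?_).pow_left i
    rw [hN] at hAcard
    exact (Nat.dvd_add_right h).1 (hAcard ▸ dvd_pow_self p hn0.ne')


/-- Let G be a finite group of order greater than 2 with an irreducible character χ nonzero on exactly two conjugacy classes, and let N be the normal p-subgroup of elements where χ is nonzero. Then N is the whole p-core O_p(G) if and only if G is a doubly transitive Frobenius group with kernel N: G has a Frobenius complement H whose Frobenius kernel is N and whose order is one less than that of N. -/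
theorem result {G : Type*} [Group G] [Finite G] (hG : 2 < Nat.card G) (χ : Cfsg.IrrCharacter G) (hχ : Nat.card {C : ConjClasses G // ∃ g ∈ C.carrier, (χ : G → ℂ) g ≠ 0} = 2) (p : ℕ) [Fact p.Prime] (N : Subgroup G) [N.Normal] (hN : ∀ g : G, g ∈ N ↔ (χ : G → ℂ) g ≠ 0) (hNp : IsPGroup p N) (hN1 : N ≠ ⊥) :
    N = Cfsg.pCore p G ↔ ∃ H : Subgroup G, Cfsg.IsFrobeniusComplement H ∧ Cfsg.frobeniusKernel H = (N : Set G) ∧ Nat.card H + 1 = Nat.card N := by
  obtain ⟨c, H⟩ := exists_twoClass hG χ hχ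
  obtain rfl := H.eq_supp hN
  exact main H hG p hNp

end Cfsg.Agent.S4839
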