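import Cfsg.Statements.S4840
import Cfsg.Agent.Lib.Chars17.TwoClassSylow
import Cfsg.Agent.Lib.Chars17.FpfSolvable
import Cfsg.Agent.Lib.PCore.Basic

set_option autoImplicit false
open Cfsg

namespace Cfsg.Agent.S4840

open CfsgLib.Chars17 CfsgLib.PCore

/-- Let G be a finite solvable group of order greater than 2 with an irreducible character nonzero on exactly two conjugacy classes. Then there is exactly one prime p with O_p(G) ≠ 1, and the quotient G/O_p(G) has a normal p-complement and commutative Sylow p-subgroups. -/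
theorem result {G : Type*} [Group G] [Finite G] [hs : Group.IsSolvable G] (hG : 2 < Nat.card G) (χ : Cfsg.IrrCharacter G) (hχ : Nat.card {C : ConjClasses G // ∃ g ∈ C.carrier, (χ : G → ℂ) g ≠ 0} = 2) :
    ∃ p : ℕ, p.Prime ∧ (∀ q : ℕ, q.Prime → (Cfsg.pCore q G ≠ ⊥ ↔ q = p)) ∧
      Cfsg.HasNormalPComplement p (G ⧸ Cfsg.pCore p G) ∧ ∀ Q : Sylow p (G ⧸ Cfsg.pCore p G), IsMulCommutative (Q : Subgroup (G ⧸ Cfsg.pCore p G)) := by
  obtain ⟨c, H⟩ := exists_twoClass hG χ hχ
  obtain ⟨p, hp, hNp, hel⟩ := H.supp_elementaryAbelian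
  haveI := Fact.mk hp
  have hiff : ∀ q : ℕ, q.Prime → (Cfsg.pCore q G ≠ ⊥ ↔ q = p) := by
    intro q hq
    constructor
    · intro hne
      by_contra hqp
      haveI := Fact.mk hq
      haveI : Nontrivial H.supp := (Subgroup.nontrivial_iff_ne_bot _).2 H.supp_ne_bot
      obtain ⟨n, hn0, hn⟩ := hNp.nontrivial_iff_card.1 inferInstance
      obtain ⟨m, hm⟩ := IsPGroup.iff_card.1 (pCore_isPGroup (p := q) (G := G))
      have h1 := Subgroup.card_dvd_of_le
        (H.supp_le_normal (pCore_normal q G) hne)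
      rw [hn, hm] at h1
      exact hqp ((Nat.prime_dvd_prime_iff_eq hp hq).1
        (hp.dvd_of_dvd_pow ((dvd_pow_self p hn0.ne').trans h1))).symm
    · rintro rfl h0
      exact H.supp_ne_bot (le_bot_iff.1 ((le_pCore inferInstance hNp).trans h0.le))
  refine ⟨p, hp, hiff, ?_⟩
  haveI : (Cfsg.pCore p G).Normal := pCore_normal p G
  letI : CommGroup H.supp :=
    { (inferInstance : Group H.supp) with mul_comm := hel.1.is_comm.comm }
  -- `O_p(G)` is the centraliser of `N`
  have hcore : Cfsg.pCore p G = Subgroup.centralizer (H.supp : Set G) := by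
    obtain ⟨P, hP⟩ := H.exists_sylow_centralizer p hNp H.self_mem_supp H.ne_one
    refine le_antisymm ?_ (le_pCore inferInstance (P.2.to_le (hP ▸
      Subgroup.centralizer_le (Set.singleton_subset_iff.2 H.self_mem_supp))))
    set R := Cfsg.pCore p G with hR
    set Z := (Subgroup.center R).map R.subtype with hZ
    have hRne : R ≠ ⊥ := (hiff p hp).2 rfl
    haveI : Nontrivial R := (Subgroup.nontrivial_iff_ne_bot _).2 hRne
    haveI := (pCore_isPGroup (p := p) (G := G)).center_nontrivial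
    have hne : Z ≠ ⊥ := by
      rw [Ne, hZ, Subgroup.map_eq_bot_iff_of_injective _ R.subtype_injective]
      exact (Subgroup.nontrivial_iff_ne_bot _).1 inferInstance
    intro r hr
    rw [Subgroup.mem_centralizer_iff]
    intro n hn
    obtain ⟨z, hz, rfl⟩ := H.supp_le_normal (K := Z) (by rw [hZ]; infer_instance) hne hn
    exact congrArg Subtype.val (Subgroup.mem_center_iff.1 hz ⟨r, hr⟩).symm
  let φ : G →* MulAut H.supp := MulAut.conjNormal
  have hker : ∀ g : G, g ∈ Cfsg.pCore p G → φ g = 1 := by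
    intro g hg
    rw [hcore, Subgroup.mem_centralizer_iff] at hg
    ext v
    show ((MulAut.conjNormal g v : H.supp) : G) = v
    rw [MulAut.conjNormal_apply, mul_inv_eq_iff_eq_mul]
    exact (hg v v.2).symm
  let ψ : G ⧸ Cfsg.pCore p G →* MulAut H.supp :=
    QuotientGroup.lift _ φ fun g hg => MonoidHom.mem_ker.2 (hker g hg)
  letI : MulDistribMulAction (G ⧸ Cfsg.pCore p G) H.supp :=
    MulDistribMulAction.compHom H.supp ψ
  have hsmul : ∀ (g : G) (v : H.supp),
      (((g : G ⧸ Cfsg.pCore p G) • v : H.supp) : G) = g * v * g⁻¹ :=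
    fun g v => MulAut.conjNormal_apply g v
  refine FpfSolvable.structure_quotient (N := H.supp)
    ⟨fun v => Subtype.ext (by simpa using hel.2 v v.2),
      (Subgroup.nontrivial_iff_ne_bot _).2 H.supp_ne_bot, ?_, ?_, ?_⟩
  · intro v w hv hw
    obtain ⟨g, hg⟩ := H.exists_conj v.2 w.2 (by simpa using hv) (by simpa using hw)
    exact ⟨(g : G ⧸ Cfsg.pCore p G), Subtype.ext ((hsmul g v).trans hg)⟩
  · intro k v hv hk
    obtain ⟨g, rfl⟩ := QuotientGroup.mk_surjective k
    obtain ⟨P, hP⟩ := H.exists_sylow_centralizer p hNp v.2 (by simpa using hv)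
    have hgP : g ∈ (P : Subgroup G) := hP ▸ Subgroup.mem_centralizer_singleton_iff.2
      (mul_inv_eq_iff_eq_mul.1 ((hsmul g v).symm.trans (congrArg Subtype.val hk)))
    obtain ⟨i, hi⟩ := P.2 ⟨g, hgP⟩
    have h1 : (g : G ⧸ Cfsg.pCore p G) ^ p ^ i = 1 := by
      rw [← QuotientGroup.mk_pow, show g ^ p ^ i = 1 by simpa using congrArg Subtype.val hi,
        QuotientGroup.mk_one]
    obtain ⟨j, -, hj⟩ := (Nat.dvd_prime_pow hp).1 (orderOf_dvd_of_pow_eq_one h1)
    exact ⟨j, hj⟩
  · intro M hM hMp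
    have hle : M.comap (QuotientGroup.mk' _) ≤ Cfsg.pCore p G :=
      le_pCore inferInstance (hMp.comap_of_ker_isPGroup (QuotientGroup.mk' _)
        (by rw [QuotientGroup.ker_mk']; exact pCore_isPGroup))
    rw [eq_bot_iff]
    intro q hq
    obtain ⟨g, rfl⟩ := QuotientGroup.mk_surjective q
    exact Subgroup.mem_bot.2 ((QuotientGroup.eq_one_iff g).2 (hle hq))

end Cfsg.Agent.S4840
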