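import Cfsg.Statements.S4843
import Cfsg.Agent.Lib.Chars17.MatRep

set_option autoImplicit false
open Cfsg

namespace Cfsg.Agent.S4843

open Matrix CfsgLib.Chars17
open scoped Kronecker ComplexConjugate

variable {G : Type*} [Group G] [Finite G]

theorem eq_of_commutator_eq_one {x y : G} (h : x * y * x⁻¹ * y⁻¹ = 1) : x * y = y * x := by
  rwa [mul_inv_eq_one, mul_inv_eq_iff_eq_mul] at h

theorem normal_nilpotent_le_center {d : ℕ} (hd : 0 < d) (M : G →* Matrix (Fin d) (Fin d) ℂ)
    (χ : G → ℂ) (htr : ∀ g, (M g).trace = χ g)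
    (hχ : Cfsg.IsIrrCharacter G χ) (hfaith : ∀ g : G, χ g = χ 1 → g = 1) (k : ℕ)
    (hk : Nat.Coprime k (Nat.card G))
    (hirr : Cfsg.IsIrrCharacter G (fun g => χ g * χ (g ^ k)))
    (N : Subgroup G) [N.Normal] [Group.IsNilpotent N] : N ≤ Subgroup.center G := by
  classical
  let := Fintype.ofFinite G
  set n := Nat.card G with hn
  have hn0 : 0 < n := Nat.card_pos
  have hne : Nonempty (Fin d) := ⟨⟨0, hd⟩⟩
  obtain ⟨σ, hσ⟩ := exists_ringHom_pow_on_roots hn0 hk
  have hMpow : ∀ g, M g ^ n = 1 := fun g => by rw [← map_pow, pow_card_eq_one', map_one]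
  have hσχ : ∀ g, σ (χ g) = χ (g ^ k) := fun g => by
    rw [← htr, ← htr, map_pow, ringHom_trace_eq_trace_pow hn0 σ hσ _ (hMpow g)]
  have hinv : ∀ g, χ g⁻¹ = conj (χ g) := by
    intro g
    have hroot : ∀ z : ℂ, z ^ n = 1 → conj z = z ^ (n - 1) := by
      intro z hz
      rw [← Complex.inv_eq_conj (Complex.norm_eq_one_of_pow_eq_one hz hn0.ne')]
      refine inv_eq_of_mul_eq_one_right ?_
      rw [← pow_succ', Nat.sub_add_cancel hn0, hz]
    rw [← htr, ← htr, ringHom_trace_eq_trace_pow hn0 _ hroot _ (hMpow g), ← map_pow]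
    congr 2
    refine inv_eq_of_mul_eq_one_right ?_
    rw [← pow_succ', Nat.sub_add_cancel hn0, hn, pow_card_eq_one']
  have hMirr : Cfsg.IsIrrCharacter G fun g => (M g).trace := by simpa only [htr] using hχ
  have hker : ∀ g, M g = 1 → g = 1 := fun g hg =>
    hfaith g (by rw [← htr, ← htr, hg, map_one])
  have hscal : ∀ (g : G) (c : ℂ), M g = c • 1 → g ∈ Subgroup.center G := by
    intro g c hg
    rw [Subgroup.mem_center_iff]
    intro x
    refine eq_of_commutator_eq_one (hker _ ?_)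
    have hc : M x * M g = M g * M x := by simp [hg]
    rw [map_mul, map_mul, map_mul, hc, mul_assoc (M g), ← map_mul M x, mul_inv_cancel, map_one,
      mul_one, ← map_mul, mul_inv_cancel, map_one]
  have hcen : ∀ z ∈ Subgroup.center G, ∃ c : ℂ, M z = c • 1 := fun z hz =>
    scalar_of_commute M hMirr (fun g => by
      rw [← map_mul, ← map_mul, Subgroup.mem_center_iff.1 hz g])
  obtain ⟨e, he⟩ : ∃ e : ℕ, n ∣ k * e + 1 := by
    obtain ⟨l, hl⟩ : ∃ l : ℕ, k * l ≡ 1 [MOD n] := by
      rcases (Nat.succ_le_iff.2 hn0).eq_or_lt with h1 | h1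
      · exact ⟨0, by rw [← h1]; exact Nat.modEq_one⟩
      · obtain ⟨m, -, hm⟩ := Nat.exists_mul_mod_eq_one_of_coprime hk h1
        exact ⟨m, by rw [Nat.ModEq, hm, Nat.mod_eq_of_lt h1]⟩
    refine ⟨l * (n - 1), Nat.modEq_zero_iff_dvd.1 ?_⟩
    calc k * (l * (n - 1)) + 1 = k * l * (n - 1) + 1 := by ring
      _ ≡ 1 * (n - 1) + 1 [MOD n] := Nat.ModEq.add_right _ (Nat.ModEq.mul_right _ hl)
      _ ≡ 0 [MOD n] := by
        rw [one_mul, Nat.sub_add_cancel hn0]; exact Nat.modEq_zero_iff_dvd.2 dvd_rfl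
  have hpowinv : ∀ g : G, (g ^ e) ^ k = g⁻¹ := by
    intro g
    rw [eq_inv_iff_mul_eq_one, ← pow_mul, ← pow_succ, mul_comm]
    obtain ⟨c, hc⟩ := he
    rw [hc, pow_mul, hn, pow_card_eq_one', one_pow]
  let Mσ : G →* Matrix (Fin d) (Fin d) ℂ := σ.mapMatrix.toMonoidHom.comp M
  have hMσ : ∀ g, (Mσ g).trace = χ (g ^ k) := fun g => by
    rw [← hσχ, ← htr]
    exact (AddMonoidHom.map_trace σ.toAddMonoidHom (M g)).symm
  let R : G →* Matrix (Fin d × Fin d) (Fin d × Fin d) ℂ :=
    { toFun := fun g => M g ⊗ₖ Mσ g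
      map_one' := by simp
      map_mul' := fun a b => by simp [Matrix.mul_kronecker_mul] }
  have hRirr : Cfsg.IsIrrCharacter G fun g => (R g).trace := by
    have : (fun g => (R g).trace) = fun g => χ g * χ (g ^ k) := by
      funext g
      show (M g ⊗ₖ Mσ g).trace = _
      rw [Matrix.trace_kronecker, htr, hMσ]
    rwa [this]
  -- the operator attached to a normal subgroup
  have hQ : ∀ (A : Subgroup G), A.Normal → ∃ c : ℂ, c ≠ 0 ∧
      (∑ a : A, M (a : G) ⊗ₖ Mσ ((a : G) ^ e)) = c • 1 := by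
    intro A hA
    obtain ⟨c, hc⟩ := scalar_of_commute R hRirr
      (Q := ∑ a : A, M (a : G) ⊗ₖ Mσ ((a : G) ^ e)) (by
        intro g
        show (M g ⊗ₖ Mσ g) * _ = _ * (M g ⊗ₖ Mσ g)
        rw [Finset.mul_sum, Finset.sum_mul]
        refine Fintype.sum_equiv
          ({ toFun := fun a => ⟨g * (a : G) * g⁻¹, hA.conj_mem _ a.2 g⟩
             invFun := fun a => ⟨g⁻¹ * (a : G) * g, by simpa using hA.conj_mem _ a.2 g⁻¹⟩
             left_inv := fun a => Subtype.ext (by simp [mul_assoc])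
             right_inv := fun a => Subtype.ext (by simp [mul_assoc]) } : A ≃ A) _ _ fun a => ?_
        show _ = M (g * a * g⁻¹) ⊗ₖ Mσ ((g * a * g⁻¹) ^ e) * _
        rw [← Matrix.mul_kronecker_mul, ← Matrix.mul_kronecker_mul, ← map_mul, ← map_mul,
          ← map_mul, ← map_mul, conj_pow, inv_mul_cancel_right, inv_mul_cancel_right])
    refine ⟨c, ?_, hc⟩
    rintro rfl
    rw [zero_smul] at hc
    have h0 := congrArg Matrix.trace hc
    rw [Matrix.trace_zero, Matrix.trace_sum] at h0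
    simp only [Matrix.trace_kronecker, htr, hMσ, hpowinv, hinv, Complex.mul_conj] at h0
    rw [← Complex.ofReal_sum, Complex.ofReal_eq_zero] at h0
    have h1 := (Finset.sum_eq_zero_iff_of_nonneg fun a _ => Complex.normSq_nonneg _).1 h0 1
      (Finset.mem_univ _)
    rw [Complex.normSq_eq_zero, ← htr, OneMemClass.coe_one, map_one, Matrix.trace_one,
      Fintype.card_fin, Nat.cast_eq_zero] at h1
    omega
  have habel : ∀ (A : Subgroup G), A.Normal → (∀ x ∈ A, ∀ y ∈ A, x * y = y * x) →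
      A ≤ Subgroup.center G := by
    intro A hA hcomm b hb
    obtain ⟨c, hc0, hc⟩ := hQ A hA
    have h1 : (M b ⊗ₖ Mσ (b ^ e)) * (c • 1 : Matrix (Fin d × Fin d) (Fin d × Fin d) ℂ) = c • 1 := by
      rw [← hc, Finset.mul_sum]
      refine Fintype.sum_equiv (Equiv.mulLeft (⟨b, hb⟩ : A)) _ _ fun a => ?_
      rw [Equiv.coe_mulLeft, Subgroup.coe_mul, Commute.mul_pow (hcomm b hb a a.2), map_mul,
        map_mul, Matrix.mul_kronecker_mul]
    rw [mul_smul_comm, mul_one, (smul_right_injective _ hc0).eq_iff] at h1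
    obtain ⟨c', hc'⟩ := scalar_of_kronecker_eq_one h1
    exact hscal b c' hc'
  set Z := Subgroup.center G with hZ
  let C : Subgroup (G ⧸ Z) :=
    Subgroup.centralizer ((N.map (QuotientGroup.mk' Z) : Subgroup (G ⧸ Z)) : Set (G ⧸ Z))
  haveI : (N.map (QuotientGroup.mk' Z)).Normal :=
    Subgroup.Normal.map inferInstance _ (QuotientGroup.mk'_surjective Z)
  let A : Subgroup G := N ⊓ C.comap (QuotientGroup.mk' Z)
  have hAn : A.Normal := inferInstance
  have hcomm : ∀ a ∈ A, ∀ x ∈ N, a * x * a⁻¹ * x⁻¹ ∈ Z := by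
    intro a ha x hx
    have h := Subgroup.mem_centralizer_iff.1 ha.2 _ (Subgroup.mem_map_of_mem _ hx)
    rw [← QuotientGroup.eq_one_iff]
    simp only [QuotientGroup.mk'_apply, QuotientGroup.mk_mul, QuotientGroup.mk_inv] at h ⊢
    rw [← h, mul_inv_cancel_right, mul_inv_cancel]
  have hAZ : A ≤ Z := by
    by_contra hnot
    obtain ⟨b, hbA, hbZ⟩ := SetLike.not_le_iff_exists.1 hnot
    have hvan : ∀ b ∈ A, b ∉ Z → χ b = 0 := by
      intro b hbA hbZ
      by_contra hχb
      apply hbZ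
      apply habel (A ⊓ Subgroup.centralizer (A : Set G)) inferInstance
      · intro x hx y hy
        exact (Subgroup.mem_centralizer_iff.1 hx.2 y hy.1).symm
      refine ⟨hbA, Subgroup.mem_centralizer_iff.2 fun x hx => eq_of_commutator_eq_one ?_⟩
      obtain ⟨c, hc⟩ := hcen _ (hcomm x hx b hbA.1)
      have hMb : M (x * b * x⁻¹) = c • M b := by
        rw [show x * b * x⁻¹ = x * b * x⁻¹ * b⁻¹ * b by group, map_mul, hc]
        simp
      have ht : χ (x * b * x⁻¹) = χ b := by
        rw [← htr, ← htr, map_mul, map_mul, Matrix.trace_mul_cycle, ← map_mul M x⁻¹,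
          inv_mul_cancel, map_one, one_mul]
      rw [← htr, hMb, Matrix.trace_smul, htr, smul_eq_mul, mul_eq_right₀ hχb] at ht
      rw [ht, one_smul] at hc
      exact hker _ hc
    obtain ⟨c, -, hc⟩ := hQ A hAn
    have h1 := congrArg Matrix.trace
      (congrArg (fun X => (M b ⊗ₖ Mσ (b ^ e)) * X) hc)
    simp only [mul_smul_comm, mul_one, Matrix.trace_smul, Matrix.trace_kronecker, htr,
      hvan b hbA hbZ, zero_mul, smul_zero, Finset.mul_sum, Matrix.trace_sum,
      ← Matrix.mul_kronecker_mul, ← map_mul, hMσ] at h1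
    have h2 : ∀ a : A, χ (b * a) * χ ((b ^ e * (a : G) ^ e) ^ k) =
        (Complex.normSq (χ (b * a)) : ℂ) := by
      intro a
      by_cases hba : b * (a : G) ∈ Z
      · have hc1 : Commute b (a : G) := by
          have := Subgroup.mem_center_iff.1 hba b
          rw [mul_assoc b (a : G) b] at this
          exact mul_left_cancel this
        rw [← hc1.mul_pow, hpowinv, hinv, Complex.mul_conj]
      · rw [hvan _ (mul_mem hbA a.2) hba]; simp
    simp only [h2] at h1
    rw [← Complex.ofReal_sum, Complex.ofReal_eq_zero] at h1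
    have h3 := (Finset.sum_eq_zero_iff_of_nonneg fun a _ => Complex.normSq_nonneg _).1 h1
      ⟨b⁻¹, inv_mem hbA⟩ (Finset.mem_univ _)
    simp only [mul_inv_cancel, Complex.normSq_eq_zero] at h3
    rw [← htr, map_one, Matrix.trace_one, Fintype.card_fin, Nat.cast_eq_zero] at h3
    omega
  have hser : ∀ i, ∀ a ∈ Subgroup.upperCentralSeries N i, (a : G) ∈ Z := by
    intro i
    induction i with
    | zero =>
      intro a ha
      rw [Subgroup.upperCentralSeries_zero, Subgroup.mem_bot] at ha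
      simp [ha]
    | succ i ih =>
      intro a ha
      refine hAZ ⟨a.2, Subgroup.mem_centralizer_iff.2 ?_⟩
      rintro _ ⟨x, hx, rfl⟩
      have h := ih _ (Subgroup.mem_upperCentralSeries_succ_iff.1 ha ⟨x, hx⟩)
      rw [commutatorElement_def] at h; push_cast at h
      show ((x * (a : G) : G) : G ⧸ Z) = (((a : G) * x : G) : G ⧸ Z)
      apply QuotientGroup.eq.2
      have h' := Subgroup.mem_center_iff.1 h ((a : G) * x)
      have e1 : (x * (a : G))⁻¹ * ((a : G) * x) = (a : G) * x * (a : G)⁻¹ * x⁻¹ := by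
        calc (x * (a : G))⁻¹ * ((a : G) * x)
            = ((a : G) * x)⁻¹ * (((a : G) * x * (a : G)⁻¹ * x⁻¹) * ((a : G) * x)) := by group
          _ = _ := by rw [← h', inv_mul_cancel_left]
      rwa [e1]
  intro x hx
  obtain ⟨i, hi⟩ := Group.IsNilpotent.nilpotent N
  exact hser i ⟨x, hx⟩ (by rw [hi]; trivial)

/-- Let G be a finite group with a faithful irreducible character χ (taking the value χ(1) only at the identity) and let k be prime to the order of G, so that g ↦ χ(g^k) is a Galois conjugate of χ. If the pointwise product g ↦ χ(g)·χ(g^k) is again an irreducible character, then the Fitting subgroup of G equals its centre. -/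
theorem result {G : Type*} [Group G] [Finite G] (χ : Cfsg.IrrCharacter G) (hfaith : ∀ g : G, (χ : G → ℂ) g = (χ : G → ℂ) 1 → g = 1) (k : ℕ) (hk : Nat.Coprime k (Nat.card G)) (hirr : Cfsg.IsIrrCharacter G (fun g => (χ : G → ℂ) g * (χ : G → ℂ) (g ^ k))) : Cfsg.fittingSubgroup G = Subgroup.center G := by
  obtain ⟨d, M, hd, htr⟩ := IsIrrCharacter.exists_mat χ.2
  refine le_antisymm (sSup_le ?_) (le_sSup ⟨inferInstance, ?_⟩)
  rotate_left
  · exact ⟨⟨1, eq_top_iff.2 fun x _ => by
      rw [Subgroup.upperCentralSeries_one, Subgroup.mem_center_iff]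
      exact fun y => Subtype.ext (Subgroup.mem_center_iff.1 x.2 y)⟩⟩
  rintro N ⟨h1, h2⟩
  exact normal_nilpotent_le_center hd M _ htr χ.2 hfaith k hk hirr N

end Cfsg.Agent.S4843
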