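import Cfsg.Statements.S4850
import Cfsg.Agent.Lib.Chars17.VanishingPSingular
import Cfsg.Agent.Lib.Structure.NilpotentSubnormal

set_option autoImplicit false
open Cfsg

namespace Cfsg.Agent.S4850

open CfsgLib.Chars17.Vanishing CfsgLib.PCore
open scoped commutatorElement

/-- Let p be a prime and G a finite solvable group whose vanishing elements (elements at which some irreducible character is zero) of order divisible by p all have the same order, with at least one such element. Let P be a Sylow p-subgroup of G. Then the derived subgroup of P is subnormal in G and the image of P in G/O_p(G) is cyclic. -/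
theorem result {G : Type*} [Group G] [Finite G] [hs : Group.IsSolvable G] (p : ℕ) [Fact p.Prime] (b : ℕ) (hvo : {n : ℕ | p ∣ n ∧ ∃ (g : G) (χ : Cfsg.IrrCharacter G), orderOf g = n ∧ (χ : G → ℂ) g = 0} = {b}) (P : Sylow p G) :
    ((commutator ↥(P : Subgroup G)).map (P : Subgroup G).subtype).IsSubnormal ∧ IsCyclic ↥((P : Subgroup G).map (QuotientGroup.mk' (Cfsg.pCore p G))) := by
  haveI := pCore_normal p G
  set R := Cfsg.pCore p G with hR
  have hp : p.Prime := Fact.out
  have hall : ∀ g : G, Vanishes g → p ∣ orderOf g → orderOf g = b := by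
    rintro g ⟨χ, hχ⟩ hd
    have : orderOf g ∈ {n : ℕ | p ∣ n ∧ ∃ (g : G) (χ : Cfsg.IrrCharacter G),
        orderOf g = n ∧ (χ : G → ℂ) g = 0} := ⟨hd, g, χ, rfl, hχ⟩
    rw [hvo] at this
    exact this
  haveI : Group.IsSolvable (G ⧸ R) := Group.isSolvable_of_surjective (QuotientGroup.mk'_surjective R)
  have hH : VHyp p (G ⧸ R) := by
    constructor
    · intro y hy hd hyp hd'
      obtain ⟨g, rfl⟩ := QuotientGroup.mk_surjective y
      have hg := hd.trans (orderOf_map_dvd (QuotientGroup.mk' R) g)
      have h1 := hall g (vanishes_of_quotient R hy) hg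
      rw [← QuotientGroup.mk_pow] at hyp hd'
      have h2 := hall (g ^ p) (vanishes_of_quotient R hyp)
        (hd'.trans (orderOf_map_dvd (QuotientGroup.mk' R) (g ^ p)))
      rw [orderOf_pow' g hp.ne_zero, Nat.gcd_eq_right hg, h1] at h2
      have hb : 0 < b := h1 ▸ orderOf_pos g
      have := Nat.div_lt_self hb hp.one_lt
      omega
    · rintro y u ⟨i, hi⟩ hy1 hy hyu hu1 ⟨m, hm, hum⟩ hvu
      obtain ⟨g, rfl⟩ := QuotientGroup.mk_surjective y
      obtain ⟨h, hh⟩ := QuotientGroup.mk_surjective ((g : G ⧸ R) * u)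
      rw [← hh] at hvu
      have hpy : p ∣ orderOf (g : G ⧸ R) := by
        obtain ⟨j, -, hj⟩ := (Nat.dvd_prime_pow hp).1 (orderOf_dvd_of_pow_eq_one hi)
        rcases Nat.eq_zero_or_pos j with rfl | hj0
        · exact absurd (orderOf_eq_one_iff.1 (by simpa using hj)) hy1
        · exact hj ▸ dvd_pow_self p hj0.ne'
      have hcop : (orderOf (g : G ⧸ R)).Coprime (orderOf u) :=
        Nat.Coprime.coprime_dvd_right (orderOf_dvd_of_pow_eq_one hum) (Nat.Coprime.coprime_dvd_left
          (orderOf_dvd_of_pow_eq_one hi) ((hp.coprime_iff_not_dvd.2 hm).pow_left i))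
      have hd := hyu.orderOf_mul_eq_mul_orderOf_of_coprime hcop
      rw [← hh] at hd
      have h1 := hall g (vanishes_of_quotient R hy)
        (hpy.trans (orderOf_map_dvd (QuotientGroup.mk' R) g))
      have h2 := hall h (vanishes_of_quotient R hvu)
        (((hpy.mul_right _).trans hd.symm.dvd).trans (orderOf_map_dvd (QuotientGroup.mk' R) h))
      obtain ⟨k, hk⟩ : ∃ k, g ^ p ^ k = 1 := by
        have hmem : g ^ p ^ i ∈ R := by rw [← QuotientGroup.eq_one_iff, QuotientGroup.mk_pow, hi]
        obtain ⟨j, hj⟩ := pCore_isPGroup (p := p) (G := G) ⟨_, hmem⟩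
        exact ⟨i + j, by rw [pow_add, pow_mul]; simpa using congrArg Subtype.val hj⟩
      have hdu : orderOf u ∣ p ^ k := by
        refine Nat.dvd_trans ?_ (orderOf_dvd_of_pow_eq_one hk)
        rw [h1, ← h2]
        refine (Dvd.intro_left _ hd.symm).trans ?_
        exact orderOf_map_dvd (QuotientGroup.mk' R) h
      exact hu1 (orderOf_eq_one_iff.1 (Nat.eq_one_of_dvd_coprimes
        ((hp.coprime_iff_not_dvd.2 hm).pow_left k) hdu (orderOf_dvd_of_pow_eq_one hum)))
  have hcyc : IsCyclic ↥((P : Subgroup G).map (QuotientGroup.mk' R)) :=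
    isCyclic_sylow hH pCore_quotient_pCore (P.mapSurjective (QuotientGroup.mk'_surjective R))
  refine ⟨CfsgLib.Structure.isSubnormal_of_le_nilpotent_subnormal (F := R) ?_ ?_ ?_, hcyc⟩
  · exact Subgroup.Normal.isSubnormal inferInstance
  · exact (pCore_isPGroup (p := p) (G := G)).isNilpotent
  · haveI := hcyc
    haveI := IsCyclic.isMulCommutative (α := ↥((P : Subgroup G).map (QuotientGroup.mk' R)))
    rw [Subgroup.map_le_iff_le_comap, commutator_eq_closure, Subgroup.closure_le]
    rintro c ⟨x, y, rfl⟩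
    show ((⁅x, y⁆ : (P : Subgroup G)) : G) ∈ R
    rw [← QuotientGroup.eq_one_iff]
    have h1 := congrArg Subtype.val (mul_comm'
      (⟨_, Subgroup.mem_map_of_mem (QuotientGroup.mk' R) x.2⟩ :
        ↥((P : Subgroup G).map (QuotientGroup.mk' R)))
      ⟨_, Subgroup.mem_map_of_mem (QuotientGroup.mk' R) y.2⟩)
    simp only [Subgroup.coe_mul, QuotientGroup.mk'_apply] at h1
    simp only [commutatorElement_def, Subgroup.coe_mul, Subgroup.coe_inv, QuotientGroup.mk_mul,
      QuotientGroup.mk_inv]
    rw [h1]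
    group

end Cfsg.Agent.S4850
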