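import Cfsg.Statements.S4859
import Cfsg.Agent.Lib.Characters.FrobSchur
import Cfsg.Agent.Lib.Characters.Decomp

set_option autoImplicit false
open Cfsg

namespace Cfsg.Agent.S4859

open CfsgLib.Characters


/-- Let p be an odd prime, G a finite group and x an element of G whose order is a power of p (possibly 1) and whose centralizer has even order. Let y be a 2-element of the centralizer of x whose order is largest among the 2-elements of that centralizer. Then x * y is not a square in G, and some non-principal real-valued irreducible character of G does not vanish at x * y. -/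
theorem result {G : Type*} [Group G] [Finite G] (p : ℕ) [Fact p.Prime] (hp : p ≠ 2) (x : G) (hx : ∃ k : ℕ, orderOf x = p ^ k) (heven : Even (Nat.card (Subgroup.centralizer ({x} : Set G)))) (y : G) (hy : y ∈ Subgroup.centralizer ({x} : Set G)) (hy2 : ∃ k : ℕ, orderOf y = 2 ^ k) (hmax : ∀ z ∈ Subgroup.centralizer ({x} : Set G), (∃ k : ℕ, orderOf z = 2 ^ k) → orderOf z ≤ orderOf y) : (¬ ∃ u : G, u * u = x * y) ∧ ∃ χ : Cfsg.IrrCharacter G, ¬ ((χ : G → ℂ) = fun _ => (1 : ℂ)) ∧ (∀ g : G, ((χ : G → ℂ) g).im = 0) ∧ (χ : G → ℂ) (x * y) ≠ 0 := by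
  classical
  let _ := Fintype.ofFinite G
  obtain ⟨k, hk⟩ := hx
  obtain ⟨j, hj⟩ := hy2
  have hodd : Odd (p ^ k) := ((Fact.out : p.Prime).odd_of_ne_two hp).pow
  have hxy : Commute x y := (Subgroup.mem_centralizer_singleton_iff.1 hy).symm
  have hy1 : y ≠ 1 := by
    intro hy1
    obtain ⟨z, hz⟩ := exists_prime_orderOf_dvd_card' (G := Subgroup.centralizer ({x} : Set G)) 2
      heven.two_dvd
    have := hmax z z.2 ⟨1, by rw [Subgroup.orderOf_coe, hz, pow_one]⟩
    rw [Subgroup.orderOf_coe, hz, hy1, orderOf_one] at this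
    omega
  have hno : ¬ ∃ u : G, u * u = x * y := by
    rintro ⟨u, hu⟩
    have hcop : (orderOf x).Coprime (orderOf y) := by
      rw [hk, hj]
      exact ((Nat.coprime_primes Fact.out Nat.prime_two).2 hp).pow k j
    -- `u` centralises `x`
    have hux : Commute u x := by
      have h1 : Commute u (x * y) := by rw [← hu]; exact (Commute.refl u).mul_right (Commute.refl u)
      obtain ⟨m, hm1, hm2⟩ := Nat.chineseRemainder hcop 1 0
      have hxm : (x * y) ^ m = x := by
        rw [hxy.mul_pow, pow_eq_pow_iff_modEq.2 hm1, pow_eq_pow_iff_modEq.2 hm2, pow_one, pow_zero,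
          mul_one]
      exact hxm ▸ h1.pow_right m
    obtain ⟨t, ht⟩ := hodd
    set v := u * (x ^ (t + 1))⁻¹ with hv
    have hvC : v ∈ Subgroup.centralizer ({x} : Set G) := by
      rw [Subgroup.mem_centralizer_singleton_iff]
      exact (hux.mul_left (((Commute.refl x).pow_left _).inv_left)).eq
    have hv2 : v * v = y := by
      have hc : Commute u (x ^ (t + 1))⁻¹ := (hux.pow_right _).inv_right
      have hxx : x ^ (t + 1) * x ^ (t + 1) = x := by
        rw [← pow_add, show t + 1 + (t + 1) = p ^ k + 1 by omega, pow_succ, ← hk,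
          pow_orderOf_eq_one, one_mul]
      calc v * v = u * u * ((x ^ (t + 1))⁻¹ * (x ^ (t + 1))⁻¹) := hc.symm.mul_mul_mul_comm _ _
        _ = y := by rw [← mul_inv_rev, hxx, hu, hxy.eq, mul_inv_cancel_right]
    have hvpow : v ^ 2 ^ (j + 1) = 1 := by
      rw [pow_succ', pow_mul, sq, hv2, ← hj, pow_orderOf_eq_one]
    obtain ⟨i, hi, hiv⟩ := (Nat.dvd_prime_pow Nat.prime_two).1 (orderOf_dvd_of_pow_eq_one hvpow)
    have hle := hmax v hvC ⟨i, hiv⟩
    have hv1 : v ≠ 1 := fun h => hy1 (by rw [← hv2, h, one_mul])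
    have h2 : orderOf y = orderOf v / (orderOf v).gcd 2 := by
      rw [← hv2, ← sq, orderOf_pow]
    have hi0 : i ≠ 0 := fun h => hv1 (orderOf_eq_one_iff.1 (by rw [hiv, h, pow_zero]))
    rw [hiv, Nat.gcd_eq_right (dvd_pow_self 2 hi0)] at h2
    rw [hiv, h2] at hle
    have := Nat.div_lt_self (Nat.two_pow_pos i) one_lt_two
    omega
  refine ⟨hno, ?_⟩
  -- the square root counting function
  let θ : G → ℂ := fun g => ∑ u : G, if u * u = g then 1 else 0
  have hθ : IsClassFunction G θ := fun g h => by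
    refine Fintype.sum_equiv (MulAut.conj h⁻¹).toEquiv _ _ fun u => ?_
    refine if_congr ?_ rfl rfl
    simp only [MulEquiv.toEquiv_eq_coe, EquivLike.coe_coe, MulAut.conj_apply, inv_inv]
    constructor
    · intro hh
      calc h⁻¹ * u * h * (h⁻¹ * u * h) = h⁻¹ * (u * u) * h := by group
        _ = g := by rw [hh]; group
    · intro hh
      rw [← hh]; group
  have hinner : ∀ χ : IrrCharacter G, classInner θ (χ : G → ℂ) =
      starRingEnd ℂ (CfsgLib.FrobSchur.fsInd (χ : G → ℂ)) := fun χ => by
    rw [CfsgLib.FrobSchur.fsInd_eq_sum, classInner, map_mul, map_inv₀, map_natCast, map_sum]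
    simp only [θ, Finset.sum_mul, ite_mul, one_mul, zero_mul]
    rw [Finset.sum_comm]
    simp
  have hzero : θ (x * y) = 0 := Finset.sum_eq_zero fun u _ => if_neg fun h => hno ⟨u, h⟩
  rw [classFunction_eq_sum hθ, Finset.sum_apply,
    ← Finset.add_sum_erase _ _ (Finset.mem_univ (principalIrr G))] at hzero
  have hprinc : classInner θ (principalIrr G : G → ℂ) = 1 := by
    rw [hinner, CfsgLib.FrobSchur.fsInd_eq_sum]
    simp [Nat.card_eq_fintype_card]
  rw [Pi.smul_apply, hprinc, principalIrr_apply, one_smul] at hzero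
  by_contra! hcon
  rw [Finset.sum_eq_zero fun χ hχ => ?_, add_zero] at hzero
  · exact one_ne_zero hzero
  rw [Pi.smul_apply, smul_eq_mul, mul_eq_zero, hinner, map_eq_zero]
  by_cases hν : CfsgLib.FrobSchur.fsInd (χ : G → ℂ) = 0
  · exact .inl hν
  · exact .inr (hcon χ (fun h => Finset.ne_of_mem_erase hχ (Subtype.ext h))
      (CfsgLib.FrobSchur.real_of_fsInd_ne_zero χ.2 hν))

end Cfsg.Agent.S4859
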