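import Cfsg.Statements.S4872
import Cfsg.Agent.Lib.CharCorr.NormalSylow
import Cfsg.Agent.Lib.Blocks.DefectZeroVanish
import Cfsg.Agent.Lib.Characters.FrobSchur
import Cfsg.Agent.Lib.Characters.BrauerPerm
import Mathlib.GroupTheory.IndexNormal

set_option autoImplicit false
open Cfsg

namespace Cfsg.Agent.S4872

open CfsgLib.Characters CfsgLib.CharCorr CfsgLib.CharCorrQ
open scoped ComplexConjugate

universe u

/-- Multiplicities below a normal subgroup with a two-group quotient are powers of two. -/
theorem mult_pow_two : ∀ (n : ℕ) (G : Type u) [Group G] [Finite G], Nat.card G = n →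
    ∀ (N : Subgroup G) [N.Normal] [Fintype N], IsPGroup 2 (G ⧸ N) →
    ∀ (χ : Cfsg.IrrCharacter G) (φ : Cfsg.IrrCharacter N),
      mult N.subtype χ φ = 0 ∨ ∃ i, mult N.subtype χ φ = 2 ^ i := by
  intro n
  induction n using Nat.strong_induction_on with
  | _ n ih =>
    intro G _ _ hn N _ _ h2 χ φ
    classical
    haveI := Fintype.ofFinite G
    obtain ⟨k, hk⟩ := IsPGroup.iff_card.mp h2
    rcases k with _ | k
    · -- the trivial case
      have hN : N = ⊤ := Subgroup.index_eq_one.mp (by rw [Subgroup.index_eq_card, hk, pow_zero])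
      have hsurj : Function.Surjective N.subtype := fun g =>
        ⟨⟨g, hN ▸ Subgroup.mem_top g⟩, rfl⟩
      let χN : Cfsg.IrrCharacter N :=
        ⟨_, CfsgLib.Clifford.isIrrCharacter_pullback χ.2 N.subtype hsurj⟩
      by_cases he : χN = φ
      · refine Or.inr ⟨0, mult_eq_of_classInner_eq _ _ _ ?_⟩
        rw [pow_zero, Nat.cast_one, ← he]
        exact classInner_irr_self χN.2
      · refine Or.inl (mult_eq_of_classInner_eq _ _ _ ?_)
        rw [Nat.cast_zero]
        exact classInner_irr_ne χN.2 φ.2 fun e => he (Subtype.ext e)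
    · -- a normal subgroup of index two above `N`
      obtain ⟨Mq, hMq⟩ := Sylow.exists_subgroup_card_pow_prime (G := G ⧸ N) 2 (n := k)
        (hk ▸ pow_dvd_pow 2 k.le_succ)
      let M : Subgroup G := Mq.comap (QuotientGroup.mk' N)
      have hidx : M.index = 2 := by
        rw [Subgroup.index_comap_of_surjective _ (QuotientGroup.mk'_surjective N)]
        have h1 := Subgroup.card_mul_index Mq
        rw [hMq, hk, pow_succ] at h1
        exact Nat.eq_of_mul_eq_mul_left (pow_pos two_pos k) h1
      haveI hMn : M.Normal := Subgroup.normal_of_index_eq_two hidx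
      letI := Fintype.ofFinite M
      have hNM : N ≤ M := fun x hx => by
        change QuotientGroup.mk' N x ∈ Mq
        rw [QuotientGroup.mk'_apply, (QuotientGroup.eq_one_iff x).mpr hx]
        exact Mq.one_mem
      let N' := N.subgroupOf M
      haveI : N'.Normal := (inferInstance : N.Normal).subgroupOf M
      letI := Fintype.ofFinite N'
      have h2' : IsPGroup 2 (M ⧸ N') := by
        have h1 : Nat.card (M ⧸ N') ∣ 2 ^ (k + 1) := by
          rw [← Subgroup.index_eq_card, ← hk, ← Subgroup.index_eq_card]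
          exact Subgroup.relIndex_dvd_index_of_normal N M
        obtain ⟨i, -, hi⟩ := (Nat.dvd_prime_pow Nat.prime_two).mp h1
        exact IsPGroup.of_card hi
      have hcard : Nat.card M < n := by
        have h1 := Subgroup.card_mul_index M
        rw [hidx, hn] at h1
        have := Nat.card_pos (α := M)
        omega
      let kM : N →* M := Subgroup.inclusion hNM
      have hcomp : M.subtype.comp kM = N.subtype := MonoidHom.ext fun _ => rfl
      let e : N' ≃* N := Subgroup.subgroupOfEquivOfLe hNM
      have hkM : ∀ (ψ : Cfsg.IrrCharacter M) (τ : Cfsg.IrrCharacter N),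
          mult N'.subtype ψ (twistIrr e τ) = mult kM ψ τ := fun ψ τ => by
        rw [← mult_comp_equiv kM e ψ τ]
        rfl
      -- the constituents of `χ` on `M`
      have hsq : ∑ ψ : Cfsg.IrrCharacter M, mult M.subtype χ ψ * mult M.subtype χ ψ ≤ 2 := by
        have h1 : Cfsg.classInner ((χ : G → ℂ) ∘ M.subtype) ((χ : G → ℂ) ∘ M.subtype) =
            ((∑ ψ : Cfsg.IrrCharacter M, mult M.subtype χ ψ * mult M.subtype χ ψ : ℕ) : ℂ) := by
          conv_lhs => arg 2; rw [irr_res_eq_sum χ M.subtype]
          rw [classInner_sum_right]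
          push_cast
          exact Finset.sum_congr rfl fun ψ _ => by
            rw [classInner_smul_right, mult_spec, Complex.conj_natCast]
        have h2 := congrArg Complex.re h1
        have hG := congrArg Complex.re (classInner_irr_self χ.2)
        simp only [Cfsg.classInner, Complex.mul_re, Complex.re_sum, ← Complex.ofReal_natCast,
          ← Complex.ofReal_inv, Complex.ofReal_re, Complex.ofReal_im, Function.comp_apply,
          Subgroup.subtype_apply, Complex.conj_re, Complex.conj_im, mul_neg, sub_neg_eq_add,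
          zero_mul, sub_zero, Complex.one_re] at h2 hG
        have hle : ∑ x : M, (((χ : G → ℂ) x).re * ((χ : G → ℂ) x).re +
            ((χ : G → ℂ) x).im * ((χ : G → ℂ) x).im) ≤ ∑ x : G, (((χ : G → ℂ) x).re *
            ((χ : G → ℂ) x).re + ((χ : G → ℂ) x).im * ((χ : G → ℂ) x).im) := by
          rw [← Finset.sum_subtype (Finset.univ.filter (· ∈ M)) (fun x => by simp)
            (fun x : G => ((χ : G → ℂ) x).re * ((χ : G → ℂ) x).re +
              ((χ : G → ℂ) x).im * ((χ : G → ℂ) x).im)]
          exact Finset.sum_le_sum_of_subset_of_nonneg (Finset.subset_univ _)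
            fun x _ _ => by nlinarith [mul_self_nonneg ((χ : G → ℂ) x).re, mul_self_nonneg ((χ : G → ℂ) x).im]
        have hcG : (Nat.card G : ℝ) = 2 * Nat.card M := by
          rw [← Subgroup.card_mul_index M, hidx]; push_cast; ring
        have hM0 : (0 : ℝ) < Nat.card M := Nat.cast_pos.mpr Nat.card_pos
        rw [inv_mul_eq_iff_eq_mul₀ (by rw [hcG]; positivity), mul_one, hcG] at hG
        rw [inv_mul_eq_iff_eq_mul₀ hM0.ne'] at h2
        rw [h2, hG] at hle
        have : ((∑ ψ : Cfsg.IrrCharacter M, mult M.subtype χ ψ * mult M.subtype χ ψ : ℕ) : ℝ) ≤ 2 :=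
          le_of_mul_le_mul_left (by linarith) hM0
        exact_mod_cast this
      let Ψ := Finset.univ.filter fun ψ : Cfsg.IrrCharacter M =>
        mult M.subtype χ ψ * mult kM ψ φ ≠ 0
      have hone : ∀ ψ, mult M.subtype χ ψ ≠ 0 → mult M.subtype χ ψ = 1 := fun ψ h => by
        have h1 := (Finset.single_le_sum (f := fun ω => mult M.subtype χ ω * mult M.subtype χ ω)
          (fun _ _ => Nat.zero_le _) (Finset.mem_univ ψ)).trans hsq
        have : mult M.subtype χ ψ < 2 := by nlinarith
        omega
      have hΨc : Ψ.card ≤ 2 := by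
        refine le_trans ?_ hsq
        rw [Finset.card_eq_sum_ones]
        refine le_trans (Finset.sum_le_sum fun ψ hψ => ?_)
          (Finset.sum_le_sum_of_subset (Finset.subset_univ Ψ))
        rw [hone ψ (left_ne_zero_of_mul (Finset.mem_filter.mp hψ).2)]
      have hsum : mult N.subtype χ φ = ∑ ψ ∈ Ψ, mult kM ψ φ := by
        rw [← hcomp, mult_comp, ← Finset.sum_filter_ne_zero]
        refine Finset.sum_congr rfl fun ψ hψ => ?_
        rw [hone ψ (left_ne_zero_of_mul (Finset.mem_filter.mp hψ).2), one_mul]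
      rcases Ψ.eq_empty_or_nonempty with hΨ | ⟨ψ₀, hψ₀⟩
      · exact Or.inl (by rw [hsum, hΨ, Finset.sum_empty])
      · obtain ⟨-, hψ₀ne⟩ := Finset.mem_filter.mp hψ₀
        have hequal : ∀ ψ ∈ Ψ, mult kM ψ φ = mult kM ψ₀ φ := by
          intro ψ hψ
          have hψne := (Finset.mem_filter.mp hψ).2
          obtain ⟨g, hg⟩ := CfsgLib.Clifford.exists_conj_of_constituent hMn χ.2 ψ₀.2 ψ.2
            (by rw [inner_eq_mult]; exact_mod_cast left_ne_zero_of_mul hψ₀ne)
            (by rw [inner_eq_mult]; exact_mod_cast left_ne_zero_of_mul hψne)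
          have hψtw : twistIrr (MulAut.conjNormal g : MulAut M) ψ₀ = ψ := Subtype.ext (by
            rw [hg]
            funext m
            simp only [twistIrr_apply, CfsgLib.Clifford.conjChar]
            congr 1)
          set φ₀ : Cfsg.IrrCharacter N := twistIrr (MulAut.conjNormal g⁻¹ : MulAut N) φ with hφ₀
          have hφ₀g : twistIrr (MulAut.conjNormal g : MulAut N) φ₀ = φ := Subtype.ext (by
            funext m
            simp only [hφ₀, twistIrr_apply]
            refine congrArg _ (Subtype.ext ?_)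
            simp [MulAut.conjNormal_apply, mul_assoc])
          have h3 := mult_twist kM (MulAut.conjNormal g : MulAut M) (MulAut.conjNormal g : MulAut N)
            (fun c => Subtype.ext rfl) ψ₀ φ₀
          rw [hψtw, hφ₀g] at h3
          rw [h3]
          obtain ⟨m, hm⟩ := CfsgLib.Clifford.exists_conj_of_constituent
            (inferInstance : N'.Normal) ψ₀.2 (twistIrr e φ).2 (twistIrr e φ₀).2
            (by rw [inner_eq_mult, hkM]; exact_mod_cast right_ne_zero_of_mul hψ₀ne)
            (by rw [inner_eq_mult, hkM, ← h3]; exact_mod_cast right_ne_zero_of_mul hψne)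
          have h4 : Cfsg.classInner (fun x : N' => (ψ₀ : M → ℂ) x) (twistIrr e φ₀ : N' → ℂ) =
              Cfsg.classInner (fun x : N' => (ψ₀ : M → ℂ) x) (twistIrr e φ : N' → ℂ) := by
            rw [hm]
            exact CfsgLib.Clifford.classInner_res_conjChar _ (irr_isClassFunction ψ₀) _ m
          rw [inner_eq_mult, inner_eq_mult, hkM, hkM] at h4
          exact_mod_cast h4
        rw [hsum, Finset.sum_congr rfl hequal, Finset.sum_const, smul_eq_mul]
        obtain ⟨i, hi⟩ : ∃ i, mult kM ψ₀ φ = 2 ^ i := by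
          rcases ih _ hcard M rfl N' h2' ψ₀ (twistIrr e φ) with h | h
          · exact absurd ((hkM ψ₀ φ).symm.trans h) (right_ne_zero_of_mul hψ₀ne)
          · rwa [hkM] at h
        have hpos : 0 < Ψ.card := Finset.card_pos.mpr ⟨ψ₀, hψ₀⟩
        refine Or.inr ?_
        rcases Nat.lt_or_ge Ψ.card 2 with h | h
        · exact ⟨i, by rw [show Ψ.card = 1 by omega, one_mul, hi]⟩
        · exact ⟨i + 1, by rw [show Ψ.card = 2 by omega, hi, pow_succ, mul_comm]⟩


/-- Let N be a normal subgroup of the finite group G with G/N a 2-group, and let φ be an irreducible complex character of N of 2-defect zero (the 2-part of #N divides φ(1)) whose complex conjugate is G-conjugate to φ. Then some irreducible character of G with Frobenius–Schur indicator +1 contains φ with multiplicity exactly one on restriction to N. -/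
theorem result {G : Type*} [Group G] [Finite G] (N : Subgroup G) [N.Normal] (h2 : IsPGroup 2 (G ⧸ N)) (φ : Cfsg.IrrCharacter ↥N) (hdef : 2 ^ (Nat.card ↥N).factorization 2 ∣ Cfsg.charDegree (φ : ↥N → ℂ)) (hconj : ∃ g : G, ∀ n n' : ↥N, (n' : G) = g * (n : G) * g⁻¹ → (φ : ↥N → ℂ) n' = (starRingEnd ℂ) ((φ : ↥N → ℂ) n)) : ∃ χ : Cfsg.IrrCharacter G, (Nat.card G : ℂ)⁻¹ * ∑ᶠ g : G, (χ : G → ℂ) (g * g) = 1 ∧ (Nat.card ↥N : ℂ)⁻¹ * ∑ᶠ n : ↥N, (χ : G → ℂ) n * (starRingEnd ℂ) ((φ : ↥N → ℂ) n) = 1 := by
  classical
  haveI := Fintype.ofFinite G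
  haveI : Fintype N := Fintype.ofFinite N
  let P : Sylow 2 G := default
  let S : Subgroup G := P
  haveI : Fintype S := Fintype.ofFinite S
  let one : Cfsg.IrrCharacter S := ⟨_, isIrrCharacter_one⟩
  let a : Cfsg.IrrCharacter G → ℕ := fun χ => mult S.subtype χ one
  let e : Cfsg.IrrCharacter G → ℕ := fun χ => mult N.subtype χ φ
  obtain ⟨d, hd0, hd⟩ := irr_exists_degree φ.2
  have hdeg : Cfsg.charDegree (φ : N → ℂ) = d := by simp [Cfsg.charDegree, hd]
  rw [hdeg] at hdef
  obtain ⟨k, hk⟩ := IsPGroup.iff_card.mp h2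
  have hk' : N.index = 2 ^ k := hk
  have hN0 : (Nat.card N : ℂ) ≠ 0 := Nat.cast_ne_zero.mpr Nat.card_pos.ne'
  have hS0 : (Nat.card S : ℂ) ≠ 0 := Nat.cast_ne_zero.mpr Nat.card_pos.ne'
  have hScard : Nat.card S = 2 ^ (Nat.card N).factorization 2 * N.index := by
    rw [show S = (P : Subgroup G) from rfl, P.card_eq_multiplicity, hk', ← pow_add,
      ← Subgroup.card_mul_index N, hk', Nat.factorization_mul Nat.card_pos.ne' (by positivity),
      Finsupp.add_apply, Nat.Prime.factorization_pow Nat.prime_two, Finsupp.single_eq_same]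
  -- the weighted count
  have hcount : (∑ χ : Cfsg.IrrCharacter G, a χ * e χ) * 2 ^ (Nat.card N).factorization 2 = d := by
    have h3 : Cfsg.indFun S (one : S → ℂ) =
        ∑ χ : Cfsg.IrrCharacter G, (a χ : ℂ) • (χ : G → ℂ) := by
      rw [classFunction_eq_sum (CfsgLib.Induction.isClassFunction_indFun S (one : S → ℂ))]
      refine Finset.sum_congr rfl fun χ _ => ?_
      rw [CfsgLib.Induction.classInner_indFun S _ (irr_isClassFunction χ), classInner_conj_symm,
        inner_eq_mult, Complex.conj_natCast]
    have h4 : Cfsg.classInner (fun n : N => Cfsg.indFun S (one : S → ℂ) n) (φ : N → ℂ) =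
        ((∑ χ : Cfsg.IrrCharacter G, a χ * e χ : ℕ) : ℂ) := by
      have h5 : (fun n : N => Cfsg.indFun S (one : S → ℂ) n) =
          ∑ χ : Cfsg.IrrCharacter G, (a χ : ℂ) • fun n : N => (χ : G → ℂ) n := by
        funext n
        rw [h3]
        simp
      rw [h5, classInner_sum_left]
      push_cast
      exact Finset.sum_congr rfl fun χ _ => by rw [classInner_smul_left, inner_eq_mult]
    have h6 : ∀ x : G, ∑ n : N,
        Cfsg.extendByZero S (one : S → ℂ) (x⁻¹ * n * x) * conj ((φ : N → ℂ) n) = (d : ℂ) := by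
      intro x
      rw [Finset.sum_eq_single 1]
      · rw [OneMemClass.coe_one, mul_one, inv_mul_cancel,
          CfsgLib.Induction.extendByZero_mem S _ S.one_mem, hd, Complex.conj_natCast]
        exact one_mul _
      · intro n _ hn
        by_cases hm : x⁻¹ * (n : G) * x ∈ S
        · obtain ⟨j, hj⟩ := IsPGroup.iff_orderOf.mp P.isPGroup' ⟨_, hm⟩
          rw [Subgroup.orderOf_mk, show orderOf (x⁻¹ * (n : G) * x) = orderOf n by
            rw [← Subgroup.orderOf_coe n, ← (MulAut.conj x⁻¹).orderOf_eq (n : G)]; simp] at hj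
          have hdvd : 2 ∣ orderOf n := by
            rw [hj]
            refine dvd_pow_self 2 ?_
            rintro rfl
            exact hn (orderOf_eq_one_iff.mp hj)
          rw [CfsgLib.DefectZeroVanish.vanish_of_defect_zero φ (hdeg ▸ hdef) hdvd, map_zero,
            mul_zero]
        · rw [CfsgLib.Induction.extendByZero_notMem S _ hm, zero_mul]
      · exact fun h => absurd (Finset.mem_univ _) h
    rw [Cfsg.classInner, inv_mul_eq_iff_eq_mul₀ hN0] at h4
    simp only [CfsgLib.Induction.indFun_apply, mul_assoc, Finset.sum_mul, ← Finset.mul_sum] at h4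
    rw [Finset.sum_comm, inv_mul_eq_iff_eq_mul₀ hS0] at h4
    rw [Finset.sum_congr rfl fun (x : G) _ => by simpa only [mul_assoc] using h6 x,
      Finset.sum_const, Finset.card_univ, ← Nat.card_eq_fintype_card, nsmul_eq_mul, hScard,
      ← Subgroup.card_mul_index N] at h4
    have h7 : Nat.card N * N.index * d = 2 ^ (Nat.card N).factorization 2 * N.index *
        (Nat.card N * ∑ χ : Cfsg.IrrCharacter G, a χ * e χ) := by exact_mod_cast h4
    refine Nat.eq_of_mul_eq_mul_left (Nat.mul_pos (Nat.card_pos (α := N))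
      (Nat.pos_of_ne_zero (Subgroup.index_ne_zero_of_finite (H := N)))) ?_
    rw [h7]
    ring
  have hodd : ((∑ χ : Cfsg.IrrCharacter G, a χ * e χ : ℕ) : ZMod 2) ≠ 0 := by
    rw [Ne, ZMod.natCast_eq_zero_iff]
    intro hd2
    have h8 : 2 ^ ((Nat.card N).factorization 2 + 1) ∣ Nat.card N := by
      refine dvd_trans ?_ (hdeg ▸ charDegree_irr_dvd_card φ)
      rw [← hcount, pow_succ, mul_comm]
      exact mul_dvd_mul_right hd2 _
    exact Nat.pow_succ_factorization_not_dvd Nat.card_pos.ne' Nat.prime_two h8
  -- some strongly real constituent has odd weight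
  obtain ⟨χ, hν, hχ⟩ : ∃ χ : Cfsg.IrrCharacter G,
      CfsgLib.FrobSchur.fsInd (χ : G → ℂ) = 1 ∧ ¬ 2 ∣ a χ * e χ := by
    by_contra hne
    push Not at hne
    refine hodd ?_
    rw [Nat.cast_sum]
    let σ := CfsgLib.BrauerPerm.conjIrr (K := G)
    have hσσ : ∀ χ, σ (σ χ) = χ := fun χ => Subtype.ext (funext fun g => by simp [σ])
    have hea : ∀ χ, a (σ χ) * e (σ χ) = a χ * e χ := by
      intro χ
      obtain ⟨g, hg⟩ := hconj
      congr 1
      · refine mult_eq_of_classInner_eq _ _ _ ?_
        have h := congrArg conj (mult_spec S.subtype χ one)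
        rw [Complex.conj_natCast] at h
        rw [← h]
        simp [Cfsg.classInner, map_sum, σ, one]
      · refine mult_eq_of_classInner_eq _ _ _ ?_
        have h := congrArg conj (mult_spec N.subtype χ φ)
        rw [Complex.conj_natCast] at h
        rw [← h]
        simp only [Cfsg.classInner, map_mul, map_inv₀, Complex.conj_natCast, map_sum,
          Function.comp_apply, Subgroup.subtype_apply, σ, CfsgLib.BrauerPerm.conjIrr_apply,
          Complex.conj_conj]
        congr 1
        refine (Fintype.sum_equiv (MulAut.conjNormal g : MulAut N).toEquiv _ _ fun n => ?_).symm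
        simp only [MulEquiv.toEquiv_eq_coe, EquivLike.coe_coe]
        rw [hg n (MulAut.conjNormal g n) (MulAut.conjNormal_apply ..), Complex.conj_conj,
          MulAut.conjNormal_apply, irr_isClassFunction χ]
    refine Finset.sum_involution (fun χ _ => σ χ) (fun χ _ => ?_) (fun χ _ hne' => ?_)
      (fun χ _ => Finset.mem_univ _) (fun χ _ => hσσ χ)
    · rw [hea χ, CharTwo.add_self_eq_zero]
    · intro hfix
      apply hne'
      rw [ZMod.natCast_eq_zero_iff]
      have hreal := (CfsgLib.BrauerPerm.conjIrr_eq_self_iff χ).mp hfix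
      rcases CfsgLib.FrobSchur.fsInd_cases χ.2 with ⟨-, h | h⟩ | ⟨h, -⟩
      · exact hne χ h
      · obtain ⟨j, hj, hje⟩ := CfsgLib.FrobSchur.even_classInner_of_fsInd S.subtype χ.2 h one.2 (by
          rw [CfsgLib.FrobSchur.fsInd_eq_sum]
          simp [one, Nat.card_eq_fintype_card])
        have haj : a χ = j := mult_eq_of_classInner_eq _ _ _ hje
        exact dvd_mul_of_dvd_left (haj ▸ even_iff_two_dvd.mp hj) _
      · exact absurd hreal h
  refine ⟨χ, hν, ?_⟩
  have he1 : e χ = 1 := by
    rcases mult_pow_two _ G rfl N h2 χ φ with h | ⟨i, hi⟩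
    · exact absurd (show 2 ∣ a χ * e χ by rw [show e χ = 0 from h, mul_zero]; exact dvd_zero _) hχ
    · rcases i with _ | i
      · exact hi
      · refine absurd ?_ hχ
        rw [show e χ = 2 ^ (i + 1) from hi]
        exact Dvd.dvd.mul_left (dvd_pow_self 2 (Nat.succ_ne_zero i)) _
  have := inner_eq_mult N χ φ
  rw [show mult N.subtype χ φ = 1 from he1, Nat.cast_one] at this
  rw [finsum_eq_sum_of_fintype]
  exact this

end Cfsg.Agent.S4872
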