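import Cfsg.Statements.S4873
import Cfsg.Agent.Lib.Characters.RealOverNormal
-- import your own Cfsg.Agent.* helpers here

set_option autoImplicit false
open Cfsg

namespace Cfsg.Agent.S4873

/-- Let N be a normal subgroup of odd index in the finite group G. Then every irreducible complex character of N with Frobenius–Schur indicator +1 lies under exactly one irreducible character of G with Frobenius–Schur indicator +1. -/
theorem result {G : Type*} [Group G] [Finite G] (N : Subgroup G) [N.Normal] (hodd : Odd N.index) (φ : Cfsg.IrrCharacter ↥N) (hφ : (Nat.card ↥N : ℂ)⁻¹ * ∑ᶠ g : ↥N, (φ : ↥N → ℂ) (g * g) = 1) : ∃! χ : Cfsg.IrrCharacter G, (Nat.card G : ℂ)⁻¹ * ∑ᶠ g : G, (χ : G → ℂ) (g * g) = 1 ∧ (∑ᶠ n : ↥N, (χ : G → ℂ) n * (starRingEnd ℂ) ((φ : ↥N → ℂ) n)) ≠ 0 := by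
  haveI := Fintype.ofFinite N
  obtain ⟨χ, ⟨h1, h2⟩, h3⟩ :=
    CfsgLib.RealOverNormal.existsUnique_fsInd_one N hodd φ hφ
  have key : ∀ ψ : Cfsg.IrrCharacter G,
      (∑ᶠ n : ↥N, (ψ : G → ℂ) n * (starRingEnd ℂ) ((φ : ↥N → ℂ) n)) ≠ 0 ↔
        CfsgLib.NormalRes.mult N (ψ : G → ℂ) φ ≠ 0 := fun ψ => by
    simp [CfsgLib.NormalRes.mult, Cfsg.classInner, finsum_eq_sum_of_fintype]
  exact ⟨χ, ⟨h1, (key χ).mpr h2⟩, fun ψ hψ => h3 ψ ⟨hψ.1, (key ψ).mp hψ.2⟩⟩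

end Cfsg.Agent.S4873
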