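import Cfsg.Statements.S4878
import Cfsg.Agent.Lib.CoprimeTrans.SLFive
import Cfsg.Agent.Lib.CoprimeTrans.TwoClass
import Cfsg.Agent.Lib.CoprimeTrans.Eleven

set_option autoImplicit false
set_option linter.style.haveILetI false
set_option synthInstance.maxHeartbeats 100000
open Cfsg
open CfsgLib.CoprimeTrans

namespace Cfsg.Agent.S4878

/-- Let p be a prime and G a finite p-solvable group of order divisible by p in which all non-identity p-elements are conjugate. Then G has at least p conjugacy classes of p-regular elements; or G has exactly p − 1 of them and is isomorphic to the one-dimensional affine group over the field with p elements; or p = 11, G has exactly 9 of them, G has order 121·120 and G is a Frobenius group whose complement is isomorphic to SL(2,5). -/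
theorem result {G : Type*} [Group G] [Finite G] (p : ℕ) [Fact p.Prime] (hsolv : Cfsg.IsPSolvable p G) (hdiv : p ∣ Nat.card G) (hconj : ∀ x y : G, x ≠ 1 → y ≠ 1 → (∃ k : ℕ, orderOf x = p ^ k) → (∃ k : ℕ, orderOf y = p ^ k) → IsConj x y) : p ≤ Nat.card {c : ConjClasses G // ∃ g : G, ConjClasses.mk g = c ∧ ¬ p ∣ orderOf g} ∨ (Nat.card {c : ConjClasses G // ∃ g : G, ConjClasses.mk g = c ∧ ¬ p ∣ orderOf g} = p - 1 ∧ Nonempty (G ≃* ↥(Cfsg.affineGroup (ZMod p)))) ∨ (p = 11 ∧ Nat.card {c : ConjClasses G // ∃ g : G, ConjClasses.mk g = c ∧ ¬ p ∣ orderOf g} = 9 ∧ (Nat.card G = 121 * 120 ∧ ∃ H : Subgroup G, Cfsg.IsFrobeniusComplement H ∧ Nonempty (↥H ≃* Matrix.SpecialLinearGroup (Fin 2) (ZMod 5)))) := by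
  classical
  have hp : p.Prime := Fact.out
  set N := Cfsg.pPrimeCore p G with hN
  haveI hNn : N.Normal := inferInstance
  set π := QuotientGroup.mk' N with hπ
  have hf : Function.Surjective π := QuotientGroup.mk'_surjective N
  have hNcop : ¬ p ∣ Nat.card N :=
    hp.coprime_iff_not_dvd.1 (CfsgLib.PCore.pPrimeCore_coprime (p := p) (G := G)).symm
  have hdivQ : p ∣ Nat.card (G ⧸ N) := by
    rw [N.card_eq_card_quotient_mul_card_subgroup] at hdiv
    exact (hp.dvd_mul.1 hdiv).resolve_right hNcop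
  have hconjQ : ∀ x y : G ⧸ N, x ≠ 1 → y ≠ 1 → (∃ k : ℕ, orderOf x = p ^ k) →
      (∃ k : ℕ, orderOf y = p ^ k) → IsConj x y := by
    intro x y hx hy hxp hyp
    obtain ⟨a, rfl, ha⟩ := exists_lift_pPower p π hf x hxp
    obtain ⟨b, rfl, hb⟩ := exists_lift_pPower p π hf y hyp
    exact π.map_isConj (hconj a b (fun h => hx (by rw [h, map_one]))
      (fun h => hy (by rw [h, map_one])) ha hb)
  obtain ⟨P, H, hPn, hPp, hPne, hexp, hab, hidx, hC, hPH, htrP⟩ :=
    top_structure (CfsgLib.PCore.isPSolvable_quotient hsolv N)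
      CfsgLib.PCore.pPrimeCore_quotient_pPrimeCore hdivQ hconjQ
  haveI := hPn
  have hdisj : ∀ x, x ∈ P → x ∈ H → x = 1 := fun x hx hx' =>
    Subgroup.disjoint_def.1 hPH.disjoint hx hx'
  have hfaith : ∀ g ∈ H, (∀ v ∈ P, g * v = v * g) → g = 1 := fun g hg h =>
    hdisj g (hC.le (Subgroup.mem_centralizer_iff.2 fun v hv => (h v hv).symm)) hg
  obtain ⟨M, iM1, iM2, iM3, ρ, e, hρ, htr, he1, hfix⟩ := exists_linear P hexp hab H hfaith htrP
  letI := iM1
  letI := iM2
  haveI := iM3
  obtain ⟨v₀, hv₀, hv₀1⟩ := (Subgroup.bot_or_exists_ne_one P).resolve_left hPne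
  have hv : e ⟨v₀, hv₀⟩ ≠ 0 := fun h => hv₀1 (congrArg Subtype.val (e.injective (h.trans he1.symm)))
  haveI : Nontrivial M := ⟨⟨_, _, hv⟩⟩
  have hcop : ¬ p ∣ Nat.card H := hPH.symm.index_eq_card ▸ hidx
  let S : Subgroup H :=
    { carrier := {g | ρ g (e ⟨v₀, hv₀⟩) = e ⟨v₀, hv₀⟩}
      one_mem' := by show ρ 1 _ = _; rw [map_one]; rfl
      mul_mem' := fun {a b} ha hb => by
        show ρ (a * b) _ = _
        rw [map_mul]
        show ρ a (ρ b _) = _
        rw [hb, ha]
      inv_mem' := fun {a} ha => by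
        show ρ a⁻¹ _ = _
        conv_lhs => rw [← ha]
        show (ρ a⁻¹ * ρ a) _ = _
        rw [← map_mul, inv_mul_cancel, map_one]; rfl }
  have hR : Nat.card (RegClass p (G ⧸ N)) = Nat.card (ConjClasses H) :=
    card_regClass_complement P H hPp hab hidx hPH
  have hge : Nat.card (RegClass p (G ⧸ N)) ≤ Nat.card (RegClass p G) := card_le_regClass π hf
  have hbij : N = ⊥ → Function.Bijective π := fun h => ⟨by
    rw [← MonoidHom.ker_eq_bot_iff, hπ, QuotientGroup.ker_mk', h], hf⟩
  have hcardP : Nat.card P = p ^ Module.finrank (ZMod p) M := by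
    rw [Nat.card_congr e, Module.natCard_eq_pow_finrank (K := ZMod p) (V := M), Nat.card_zmod]
  show p ≤ Nat.card (RegClass p G) ∨ (Nat.card (RegClass p G) = p - 1 ∧ _) ∨
    (p = 11 ∧ Nat.card (RegClass p G) = 9 ∧ _)
  rcases le_classes hρ htr hcop hv S (fun g => Iff.rfl) with h | ⟨hn1, -, hH, hk⟩ |
    ⟨h11, hn2, hH, hS, hk, hz⟩
  · exact Or.inl (by omega)
  · by_cases hNbot : N = ⊥
    · refine Or.inr (Or.inl ⟨?_, ?_⟩)
      · rw [card_regClass_eq π (hbij hNbot), hR, hk]
      · obtain ⟨f⟩ := nonempty_affineGroup P H (by rw [hcardP, hn1, pow_one]) hH hPH hC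
        exact ⟨(MulEquiv.ofBijective π (hbij hNbot)).trans f⟩
    · refine Or.inl ?_
      obtain ⟨n, hn, hn1'⟩ := (Subgroup.bot_or_exists_ne_one N).resolve_left hNbot
      have hπn : π n = 1 := (QuotientGroup.eq_one_iff n).2 hn
      have h1 : ¬ p ∣ orderOf (1 : G) := by rw [orderOf_one]; exact hp.not_dvd_one
      have h2 : ¬ p ∣ orderOf n := regular_of_map π (by rw [hπ, QuotientGroup.ker_mk']; exact hNcop)
        (by rw [hπn, orderOf_one]; exact hp.not_dvd_one)
      have h3 := card_add_one_le_regClass (p := p) π hf h1 h2 (by rw [map_one, hπn])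
        (fun h => hn1' (isConj_one_right.1 h))
      have := hp.two_le
      omega
  · subst h11
    have hfree : ∀ (g : H) (w : M), w ≠ 0 → ρ g w = w → g = 1 := by
      intro g w hw hgw
      obtain ⟨a, ha⟩ := htr _ w hv hw
      have hmem : a⁻¹ * g * a ∈ S := by
        show ρ (a⁻¹ * g * a) _ = _
        rw [map_mul, map_mul]
        show ρ a⁻¹ (ρ g (ρ a _)) = _
        rw [ha, hgw, ← ha]
        show (ρ a⁻¹ * ρ a) _ = _
        rw [← map_mul, inv_mul_cancel, map_one]; rfl
      rw [Subgroup.card_eq_one.1 hS, Subgroup.mem_bot] at hmem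
      calc g = a * (a⁻¹ * g * a) * a⁻¹ := by group
        _ = 1 := by rw [hmem, mul_one, mul_inv_cancel]
    obtain ⟨θ⟩ := nonempty_sl25 hρ htr rfl hn2 hH hz hk hfree
    have hP2 : Nat.card P = 11 ^ 2 := by rw [hcardP, hn2]
    have hQ : Nat.card (G ⧸ N) = 14520 := by rw [← hPH.card_mul_card, hP2, hH]; norm_num
    by_cases hNbot : N = ⊥
    · refine Or.inr (Or.inr ⟨rfl, ?_, ?_, ?_⟩)
      · rw [card_regClass_eq π (hbij hNbot), hR, hk]
      · rw [Nat.card_congr (MulEquiv.ofBijective π (hbij hNbot)).toEquiv, hQ]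
      let f := MulEquiv.ofBijective π (hbij hNbot)
      let f' : H.comap f.toMonoidHom ≃* H :=
        { toFun := fun x => ⟨f x.1, x.2⟩
          invFun := fun y => ⟨f.symm y.1, show f (f.symm y.1) ∈ H by
            rw [MulEquiv.apply_symm_apply]; exact y.2⟩
          left_inv := fun x => Subtype.ext (f.symm_apply_apply x.1)
          right_inv := fun y => Subtype.ext (f.apply_symm_apply y.1)
          map_mul' := fun a b => Subtype.ext (map_mul f a.1 b.1) }
      refine ⟨H.comap f.toMonoidHom, ⟨?_, ?_, ?_⟩, ⟨f'.trans θ⟩⟩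
      · intro h
        have h' := congrArg (fun K : Subgroup G => K.index) h
        simp only [Subgroup.index_comap_of_surjective H (f := f.toMonoidHom) f.surjective,
          Subgroup.index_bot] at h'
        rw [Nat.card_congr f.toEquiv, hQ, hPH.index_eq_card, hP2] at h'
        norm_num at h'
      · intro h
        have h' := congrArg (fun K : Subgroup G => K.index) h
        simp only [Subgroup.index_comap_of_surjective H (f := f.toMonoidHom) f.surjective,
          Subgroup.index_top] at h'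
        rw [hPH.index_eq_card, hP2] at h'
        norm_num at h'
      · intro g hg
        rw [Subgroup.eq_bot_iff_forall]
        intro x hx2'
        obtain ⟨hx, hx'⟩ := Subgroup.mem_inf.1 hx2'
        rw [Subgroup.mem_pointwise_smul_iff_inv_smul_mem, ← map_inv, MulAut.smul_def,
          MulAut.conj_apply, inv_inv] at hx'
        have hx1 : f x ∈ H := hx
        have hx2 : f (g⁻¹ * x * g) ∈ H := hx'
        rw [map_mul, map_mul, map_inv] at hx2
        obtain ⟨⟨⟨u, hu⟩, ⟨b, hb⟩⟩, hq⟩ := hPH.2 (f g)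
        change u * b = f g at hq
        have hu1 : u ≠ 1 := fun h => hg (show f g ∈ H by rwa [← hq, h, one_mul])
        rw [← hq] at hx2
        have hx3 : u⁻¹ * f x * u ∈ H := by
          have := mul_mem (mul_mem hb hx2) (inv_mem hb)
          rwa [show b * ((u * b)⁻¹ * f x * (u * b)) * b⁻¹ = u⁻¹ * f x * u by group] at this
        have h4 : (f x)⁻¹ * (u⁻¹ * f x * u) = 1 := hdisj _ (by
          rw [show (f x)⁻¹ * (u⁻¹ * f x * u) = ((f x)⁻¹ * u⁻¹ * (f x)⁻¹⁻¹) * u by group]
          exact mul_mem (hPn.conj_mem _ (inv_mem hu) _) hu) (mul_mem (inv_mem hx1) hx3)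
        have h5 : f x * u = u * f x := by
          have h6 := inv_mul_eq_one.1 h4
          rw [mul_assoc, eq_inv_mul_iff_mul_eq] at h6
          exact h6.symm
        have h7 := hfree ⟨f x, hx1⟩ (e ⟨u, hu⟩)
          (fun h => hu1 (congrArg Subtype.val (e.injective (h.trans he1.symm))))
          ((hfix _ _).2 h5)
        exact f.injective ((congrArg Subtype.val h7).trans f.map_one.symm)
    · refine Or.inl ?_
      haveI : Fact (Nat.Prime 2) := ⟨Nat.prime_two⟩
      obtain ⟨z, hz'⟩ := exists_prime_orderOf_dvd_card'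
        (G := scalars (CfsgLib.TransLinear.act ρ)) 2 (dvd_of_eq hz.symm)
      rw [← Subgroup.orderOf_coe, ← Subgroup.orderOf_coe] at hz'
      set t : G ⧸ N := ((z : H) : G ⧸ N) with ht
      have htc : ∀ u : G ⧸ N, u * t * u⁻¹ * t⁻¹ ∈ P := by
        intro q
        obtain ⟨⟨⟨u, hu⟩, ⟨b, hb⟩⟩, rfl⟩ := hPH.2 q
        change u * b * t * (u * b)⁻¹ * t⁻¹ ∈ P
        have hbt : b * t = t * b := congrArg Subtype.val
          (scalars_comm (CfsgLib.TransLinear.act_injective ρ hρ) z.2 ⟨b, hb⟩)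
        rw [show u * b * t * (u * b)⁻¹ * t⁻¹ = u * (b * t) * b⁻¹ * u⁻¹ * t⁻¹ by group, hbt,
          show u * (t * b) * b⁻¹ * u⁻¹ * t⁻¹ = u * (t * u⁻¹ * t⁻¹) by group]
        exact mul_mem hu (hPn.conj_mem _ (inv_mem hu) t)
      have h := eleven_extra N hNcop hNbot hQ P hP2 hexp hab
        (fun v hv w hw h1 h2 => by
          obtain ⟨g, -, hg⟩ := htrP v hv w hw h1 h2
          exact ⟨g, hg⟩) t hz' htc
      omega

end Cfsg.Agent.S4878
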