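import Cfsg.Statements.S4885
import Cfsg.Statements.S4885
import Cfsg.Agent.Lib.CrossDegrees.Main

set_option autoImplicit false
open Cfsg

namespace Cfsg.Agent.S4885

/-- Let p and q be primes dividing the order of the finite group G, and suppose G is p-solvable and q-solvable. Fix maximal ideals of the algebraic integers containing p and q, defining the principal p-block and the principal q-block. If the irreducible characters of degree prime to p in the principal p-block are exactly the irreducible characters of degree prime to q in the principal q-block, then p = q. -/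
theorem result {G : Type*} [Group G] [Finite G] (p q : ℕ) [Fact p.Prime] [Fact q.Prime] (hp : p ∣ Nat.card G) (hq : q ∣ Nat.card G) (hps : Cfsg.IsPSolvable p G) (hqs : Cfsg.IsPSolvable q G) (Mp Mq : Ideal Cfsg.AlgInt) (hMp : Cfsg.IsPModular p Mp) (hMq : Cfsg.IsPModular q Mq) (h : ∀ χ : Cfsg.IrrCharacter G, (χ ∈ Cfsg.principalBlock Mp G ∧ ¬ p ∣ Cfsg.charDegree (χ : G → ℂ)) ↔ (χ ∈ Cfsg.principalBlock Mq G ∧ ¬ q ∣ Cfsg.charDegree (χ : G → ℂ))) : p = q := by
  by_contra hpq
  obtain ⟨P, Q, hc⟩ := CfsgLib.CrossDegrees.exists_commute (Nat.card G) le_rfl hpq hps hqs Mp Mq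
    hMp hMq (fun χ h1 h2 => ((h χ).1 ⟨h1, h2⟩).2) (fun χ h1 h2 => ((h χ).2 ⟨h1, h2⟩).2)
  obtain ⟨χ, hχB, hχd, P', x, hx, hne⟩ :=
    CfsgLib.CrossDegrees.exists_nontrivial_on_sylow hps hMp hp
  have hPle := CfsgLib.CrossDegrees.sylow_le_pPrimeCore (Ne.symm hpq) hqs Q P
    (fun a ha b hb => (hc b hb a ha).symm)
  have hidx : ¬ p ∣ (Cfsg.pPrimeCore q G).index := fun hd =>
    P.not_dvd_index (hd.trans (Subgroup.index_dvd_of_le hPle))
  have hxN : x ∈ Cfsg.pPrimeCore q G :=
    CfsgLib.CrossDegrees.le_of_isPGroup_of_not_dvd_index P'.isPGroup' hidx hx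
  exact hne (CfsgLib.PrincipalSq.apply_eq_degree_of_coprime hMq (Cfsg.pPrimeCore q G)
    CfsgLib.PCore.not_dvd_card_pPrimeCore χ ((h χ).1 ⟨hχB, hχd⟩).1 ⟨x, hxN⟩)

end Cfsg.Agent.S4885
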