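import Cfsg.Statements.S4888
import Cfsg.Agent.Lib.Blocks.PrincipalNilpotent
-- import your own Cfsg.Agent.* helpers here

set_option autoImplicit false
open Cfsg

namespace Cfsg.Agent.S4888

/-- Let G be a finite group, p a prime and M a maximal ideal of the algebraic integers containing p. Then all height-zero irreducible characters of the principal p-block of G (equivalently, all its characters of degree prime to p) have the same degree if and only if G has a normal p-complement. -/
theorem result {G : Type*} [Group G] [Finite G] (p : ℕ) [Fact p.Prime] (M : Ideal Cfsg.AlgInt) (hM : Cfsg.IsPModular p M) : (∃ d : ℕ, ∀ χ : Cfsg.IrrCharacter G, χ ∈ (Cfsg.principalBlock M G) → Cfsg.blockHeight p (Cfsg.principalBlock M G) (χ : G → ℂ) = 0 → Cfsg.charDegree (χ : G → ℂ) = d) ↔ Cfsg.HasNormalPComplement p G := by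
  haveI := Fintype.ofFinite G
  have hone : CfsgLib.Characters.principalIrr G ∈ Cfsg.principalBlock M G :=
    CfsgLib.Blocks.sameBlock_refl hM (fun _ : G => (1 : ℂ))
  have h1deg : Cfsg.charDegree ((CfsgLib.Characters.principalIrr G : Cfsg.IrrCharacter G) : G → ℂ) = 1 :=
    CfsgLib.LinearTwist.charDegree_eq_of_apply_one (by simp)
  have hmin : sInf ((fun ψ : Cfsg.IrrCharacter G => (Cfsg.charDegree (ψ : G → ℂ)).factorization p) ''
      Cfsg.principalBlock M G) = 0 :=
    Nat.sInf_eq_zero.mpr (Or.inl ⟨_, hone, by simp only [h1deg, Nat.factorization_one]; rfl⟩)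
  have key : ∀ χ : Cfsg.IrrCharacter G,
      Cfsg.blockHeight p (Cfsg.principalBlock M G) (χ : G → ℂ) = 0 ↔
        ¬ p ∣ Cfsg.charDegree (χ : G → ℂ) := by
    intro χ
    rw [Cfsg.blockHeight, hmin, Nat.sub_zero, Nat.factorization_eq_zero_iff]
    have := CfsgLib.PrincipalSq.charDegree_pos χ
    have hp : p.Prime := Fact.out
    constructor
    · rintro (h | h | h)
      · exact absurd hp h
      · exact h
      · omega
    · exact fun h => Or.inr (Or.inl h)
  constructor
  · rintro ⟨d, hd⟩
    have hd1 : d = 1 := by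
      rw [← hd _ hone ((key _).mpr (by rw [h1deg]; exact (Fact.out : p.Prime).not_dvd_one)), h1deg]
    subst hd1
    exact CfsgLib.PrincipalSq.hasNormalPComplement_of_linear hM
      fun χ hχ hdeg => hd χ hχ ((key χ).mpr hdeg)
  · intro h
    exact ⟨1, fun χ hχ h0 =>
      CfsgLib.PrincipalSq.charDegree_eq_one_of_complement hM h χ hχ ((key χ).mp h0)⟩

end Cfsg.Agent.S4888
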