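import Cfsg.Statements.S4889
import Cfsg.Agent.Lib.EqualDegree.Brauer
import Cfsg.Agent.Lib.NilBlk.Main
import Cfsg.Agent.Lib.Chars17.PGroupGalois

set_option autoImplicit false
open Cfsg CfsgLib
open CfsgLib.BrauerPairs

namespace Cfsg.Agent.S4889

/-- Let G be a finite group, p a prime, M a maximal ideal of the algebraic integers containing p, and B a p-block of G that has an abelian defect group and in which every irreducible character has height zero. Then all irreducible characters of B have the same degree if and only if B is a nilpotent block. -/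
theorem result {G : Type*} [Group G] [Finite G] (p : ℕ) [Fact p.Prime] (M : Ideal Cfsg.AlgInt) (hM : Cfsg.IsPModular p M) (B : Set (Cfsg.IrrCharacter G)) (hB : Cfsg.IsPBlock M B) (D : Subgroup G) (hD : Cfsg.IsDefectGroup p M B D) (hDab : IsMulCommutative ↥D) (h0 : ∀ χ : Cfsg.IrrCharacter G, χ ∈ B → Cfsg.blockHeight p B (χ : G → ℂ) = 0) : (∃ d : ℕ, ∀ χ : Cfsg.IrrCharacter G, χ ∈ B → Cfsg.charDegree (χ : G → ℂ) = d) ↔ Cfsg.IsNilpotentBlock p M B := by
  classical
  letI : Fintype G := Fintype.ofFinite G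
  haveI := hM.2.1
  haveI := charP_res (M := M) hM
  haveI := BPStar.isAlgClosed_res hM
  obtain ⟨e, hmax⟩ := NilBlk.exists_maximalPair hM hB hD
  constructor
  · rintro ⟨d, hdeg⟩
    obtain ⟨S⟩ := ModRep.exists_sys (K := ResK M) (G := G)
    obtain ⟨i, hd⟩ := EqualDegree.exists_data hM S hB hdeg
    obtain ⟨hP, -⟩ := (isMaximalBrauerPair_iff hM B D e).1 hmax
    obtain ⟨he, -, hOP⟩ := (isBrauerPairOf_iff hM B D e).1 hP
    have hab : ∀ x ∈ D, ∀ y ∈ D, x * y = y * x := fun x hx y hy =>
      congrArg Subtype.val (hDab.is_comm.comm (⟨x, hx⟩ : D) ⟨y, hy⟩)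
    refine (nilpotent_iff_of_abelian hM hmax hab).2 fun x hx hxe => ?_
    exact hd.mem_cz_of_stab hD (fun y hy => mem_cz.2 fun z hz => hab z hz y hy) h0 he hOP.cover hx
      ((stabilizesBlock_iff_conjA hM (normalizer_le_normalizer_cz D hx) he).1 hxe)
  · intro hnil
    letI : Fintype D := Fintype.ofFinite D
    obtain ⟨χ₀, -, Φ, hΦ⟩ := NilBlk.exists_equiv (NilBlk.nilCtx_of_nilpotent hM hnil hmax)
    refine ⟨charDegree (χ₀ : G → ℂ), fun χ hχ => ?_⟩
    obtain ⟨lam, hlam⟩ := Φ.surjective ⟨χ, hχ⟩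
    have h := (hΦ lam).2 1
    have hreg : IsPRegular p (1 : G) := by
      show ¬ p ∣ orderOf (1 : G)
      rw [orderOf_one]; exact (Fact.out : p.Prime).not_dvd_one
    have hl1 : (lam : D → ℂ) 1 = 1 := by
      simpa using CharGalois.irr_pow_of_comm lam 1 0
    rw [hlam, pRegularPart, pRegularPart, if_pos hreg, if_pos hreg] at h
    rw [← (ClassCount.degree_eq lam).1, hl1, one_mul] at h
    exact congrArg (fun c : ℂ => ⌊c.re⌋₊) h

end Cfsg.Agent.S4889
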