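import Cfsg.Statements.S4892
import Cfsg.Agent.Lib.Blocks.PRationalExt
import Cfsg.Agent.Lib.Blocks12.PSolvableBound

set_option autoImplicit false
open Cfsg

namespace Cfsg.Agent.S4892

open CfsgLib.Characters CfsgLib.Blocks CfsgLib.PRational CfsgLib.PRationalExt

universe u

variable {p : ℕ} {M : Ideal AlgInt}

/-- The determinant of a `p`-rational character has order prime to `p` (`p` odd). -/
theorem det_pow_eq_one {H : Type u} [Group H] [Finite H] {a q : ℕ} (hp : p.Prime) (hp2 : p ≠ 2)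
    (hpq : ¬ p ∣ q) (hH : Nat.card H ∣ p ^ a * q) {θ : H → ℂ} (hθ : IsIrrCharacter H θ)
    (hfix : ∀ σ : ℂ ≃+* ℂ, Fix q σ → ∀ x, σ (θ x) = θ x) (x : H) : detChar θ x ^ q = 1 := by
  have hq0 : q ≠ 0 := fun h => hpq (h ▸ dvd_zero p)
  haveI : NeZero (p ^ a * q) := ⟨mul_ne_zero (pow_ne_zero _ hp.ne_zero) hq0⟩
  have hco : Nat.Coprime (p ^ a) q := Nat.Coprime.pow_left _ (hp.coprime_iff_not_dvd.2 hpq)
  obtain ⟨k, hka, hkq⟩ := Nat.chineseRemainder hco 2 1
  have hkcop : k.Coprime (p ^ a * q) := by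
    refine Nat.Coprime.mul_right ?_ ?_
    · rw [Nat.Coprime, hka.gcd_eq]
      exact Nat.Coprime.pow_right a ((Nat.coprime_primes Nat.prime_two hp).2 hp2.symm)
    · rw [Nat.Coprime, hkq.gcd_eq, Nat.gcd_one_left]
  obtain ⟨σ, hσ⟩ := CfsgLib.CharGalois.exists_autComplex (p ^ a * q) hkcop
  have hσfix : Fix q σ := fun z hz => by
    rw [hσ z (by rw [mul_comm, pow_mul, hz, one_pow]), pow_eq_of_modEq hz hkq, pow_one]
  have h1 := congrFun (CfsgLib.PSolvableBound.detChar_map σ hθ) x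
  rw [show (fun y => σ (θ y)) = θ from funext (hfix σ hσfix)] at h1
  obtain ⟨D, hD⟩ := exists_detHom hθ
  rw [hD] at h1 ⊢
  simp only at h1 ⊢
  set w : ℂ := (D x : ℂ) with hw
  have hwn : w ^ (p ^ a * q) = 1 := by
    obtain ⟨c, hc⟩ := hH
    rw [hw, ← Units.val_pow_eq_pow_val, ← map_pow, hc, pow_mul, pow_card_eq_one', one_pow, map_one,
      Units.val_one]
  have hv : (w ^ q) ^ p ^ a = 1 := by rw [← pow_mul, mul_comm, hwn]
  have h2 : σ (w ^ q) = w ^ q * w ^ q := by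
    rw [hσ _ (by rw [pow_mul, hv, one_pow]), pow_eq_of_modEq hv hka, sq]
  rw [map_pow, ← h1] at h2
  have h0 : w ^ q ≠ 0 := fun h0 => by
    rw [h0, zero_pow (pow_ne_zero _ hp.ne_zero)] at hv; exact zero_ne_one hv
  exact mul_left_cancel₀ h0 (h2.symm.trans (mul_one _).symm)

theorem main {G : Type u} [Group G] [Finite G] [Fact p.Prime] (hp2 : p ≠ 2)
    (hM : IsPModular p M) (N : Subgroup G) [N.Normal] (θ : IrrCharacter N)
    (hinv : ∀ g : G, ∀ n n' : N, (n' : G) = g * (n : G) * g⁻¹ →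
      (θ : N → ℂ) n' = (θ : N → ℂ) n)
    (hdeg : ¬ p ∣ charDegree (θ : N → ℂ))
    (hrat : ∃ m : ℕ, ¬ p ∣ m ∧ ∀ n : N, (θ : N → ℂ) n ∈ IntermediateField.adjoin ℚ
      ({Complex.exp (2 * Real.pi * Complex.I / m)} : Set ℂ))
    (hB : θ ∈ principalBlock M N) (Q : Sylow p N)
    (hidx : ∃ a : ℕ, (N ⊔ Subgroup.centralizer
      (((Q : Subgroup N).map N.subtype : Subgroup G) : Set G)).index = p ^ a) :
    ∃ χ : IrrCharacter G, χ ∈ principalBlock M G ∧
      (∃ n : ℕ, ¬ p ∣ n ∧ ∀ g : G, (χ : G → ℂ) g ∈ IntermediateField.adjoin ℚ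
        ({Complex.exp (2 * Real.pi * Complex.I / n)} : Set ℂ)) ∧
      ∀ n : N, (χ : G → ℂ) n = (θ : N → ℂ) n := by
  classical
  have hp : p.Prime := Fact.out
  set Qc : Subgroup G := (Q : Subgroup N).map N.subtype with hQc
  set C : Subgroup G := Subgroup.centralizer (Qc : Set G) with hC
  set M0 : Subgroup G := N ⊔ C with hM0
  set a : ℕ := (Nat.card G).factorization p with ha
  set q : ℕ := Nat.card G / p ^ a with hq
  have hq0 : q ≠ 0 := (Nat.ordCompl_pos p Nat.card_pos.ne').ne'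
  haveI : NeZero q := ⟨hq0⟩
  haveI : NeZero (Nat.card G) := ⟨Nat.card_pos.ne'⟩
  have hpq : ¬ p ∣ q := Nat.not_dvd_ordCompl hp Nat.card_pos.ne'
  have hcard : Nat.card G = p ^ a * q := (Nat.ordProj_mul_ordCompl_eq_self _ _).symm
  have hcardH : ∀ H : Subgroup G, Nat.card H ∣ p ^ a * q := fun H =>
    hcard ▸ Subgroup.card_subgroup_dvd_card H
  -- the setting in `M0`
  set Nrm : Subgroup G := Subgroup.normalizer (Qc : Set G) with hNrm
  have hfrat : Nrm ⊔ N = ⊤ := Sylow.normalizer_sup_eq_top Q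
  have hCconj : ∀ t ∈ Nrm, ∀ z ∈ C, t * z * t⁻¹ ∈ C := by
    intro t ht z hz
    rw [hC, Subgroup.mem_centralizer_iff] at hz ⊢
    intro y hy
    have hy' : t⁻¹ * y * t ∈ Qc := by
      have := (Subgroup.mem_normalizer_iff.1 ht (t⁻¹ * y * t)).2 (by simpa [mul_assoc] using hy)
      exact this
    have h := hz _ hy'
    calc y * (t * z * t⁻¹) = t * ((t⁻¹ * y * t) * z) * t⁻¹ := by group
      _ = t * (z * (t⁻¹ * y * t)) * t⁻¹ := by rw [h]
      _ = t * z * t⁻¹ * y := by group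
  haveI hM0n : M0.Normal := by
    refine ⟨fun x hx g => ?_⟩
    obtain ⟨t, ht, n, hn, rfl⟩ :=
      Subgroup.mem_sup_of_normal_right.1 (hfrat ▸ Subgroup.mem_top g : g ∈ Nrm ⊔ N)
    have hn' : n ∈ M0 := (le_sup_left : N ≤ M0) hn
    have hx' : n * x * n⁻¹ ∈ M0 := M0.mul_mem (M0.mul_mem hn' hx) (M0.inv_mem hn')
    obtain ⟨m, hm, z, hz, hmz⟩ := Subgroup.mem_sup_of_normal_left.1 hx'
    rw [show t * n * x * (t * n)⁻¹ = t * (n * x * n⁻¹) * t⁻¹ by group, ← hmz,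
      show t * (m * z) * t⁻¹ = (t * m * t⁻¹) * (t * z * t⁻¹) by group]
    exact M0.mul_mem ((le_sup_left : N ≤ M0) ((inferInstance : N.Normal).conj_mem m hm t))
      ((le_sup_right : C ≤ M0) (hCconj t ht z hz))
  have hNM : N ≤ M0 := le_sup_left
  haveI := Fintype.ofFinite M0
  haveI := Fintype.ofFinite N
  haveI := Fintype.ofFinite (N.subgroupOf M0)
  obtain ⟨θ0, hθ0, hθ0v⟩ :=
    CfsgLib.Blk4.AlperinDade.principal_subgroupOf (K := M0) hNM θ hB
  let e : N.subgroupOf M0 ≃* N := Subgroup.subgroupOfEquivOfLe hNM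
  let Q0 : Sylow p (N.subgroupOf M0) := Q.mapSurjective (f := e.symm.toMonoidHom) e.symm.surjective
  set C0 := Subgroup.centralizer
    (((Q0 : Subgroup (N.subgroupOf M0)).map (N.subgroupOf M0).subtype : Subgroup M0) : Set M0)
    with hC0
  have hQ0 : ∀ y : M0, y ∈ (Q0 : Subgroup (N.subgroupOf M0)).map (N.subgroupOf M0).subtype ↔
      (y : G) ∈ Qc := by
    intro y
    constructor
    · rintro ⟨w, hw, rfl⟩
      obtain ⟨v, hv, rfl⟩ := hw
      exact ⟨v, hv, rfl⟩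
    · rintro ⟨v, hv, hvy⟩
      exact ⟨e.symm v, ⟨v, hv, rfl⟩, Subtype.ext hvy⟩
  have hC0iff : ∀ z : M0, z ∈ C0 ↔ (z : G) ∈ C := by
    intro z
    simp only [hC0, hC, Subgroup.mem_centralizer_iff, SetLike.mem_coe, hQ0]
    refine ⟨fun h y hy => ?_, fun h y hy => Subtype.ext (h y hy)⟩
    obtain ⟨v, -, hvy⟩ := id hy
    have hyM : y ∈ M0 := hvy ▸ hNM v.2
    exact congrArg Subtype.val (h ⟨y, hyM⟩ hy)
  have hcov : N.subgroupOf M0 ⊔ C0 = ⊤ := by
    refine eq_top_iff.2 fun x _ => ?_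
    obtain ⟨m, hm, z, hz, hmz⟩ := Subgroup.mem_sup_of_normal_left.1 x.2
    rw [show x = ⟨m, hNM hm⟩ * ⟨z, (le_sup_right : C ≤ M0) hz⟩ from Subtype.ext hmz.symm]
    exact Subgroup.mul_mem_sup (Subgroup.mem_subgroupOf.2 hm) ((hC0iff _).2 hz)
  have hinv0 : ∀ (g : M0) (n : N.subgroupOf M0),
      (θ0 : N.subgroupOf M0 → ℂ) ⟨g * n * g⁻¹,
        (inferInstance : (N.subgroupOf M0).Normal).conj_mem (n : M0) n.2 g⟩ =
      (θ0 : N.subgroupOf M0 → ℂ) n := fun g n => by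
    rw [hθ0v, hθ0v]
    exact hinv g _ _ rfl
  have hdeg0 : ¬ p ∣ charDegree (θ0 : N.subgroupOf M0 → ℂ) := by
    have h1 := CfsgLib.LinearTwist.apply_one_eq_charDegree (irr_isCharacter θ0)
    rw [hθ0v 1, show (⟨(((1 : N.subgroupOf M0) : M0) : G), (1 : N.subgroupOf M0).2⟩ : N) = 1 from rfl,
      CfsgLib.LinearTwist.apply_one_eq_charDegree (irr_isCharacter θ), Nat.cast_inj] at h1
    rwa [← h1]
  -- `p`-rationality of `θ`
  obtain ⟨m, hm, hmv⟩ := hrat
  have hθfix : ∀ σ : ℂ ≃+* ℂ, Fix q σ → ∀ n : N, σ ((θ : N → ℂ) n) = (θ : N → ℂ) n :=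
    fun σ hσ n => fixed_of_rational hp hq0 hpq (hcardH N) (irr_isCharacter θ) hm n (hmv n) hσ
  have hcardN0 : Nat.card (N.subgroupOf M0) ∣ p ^ a * q := by
    rw [Nat.card_congr e.toEquiv]
    exact hcardH N
  have hdet : ∀ n, detChar (θ0 : N.subgroupOf M0 → ℂ) n ^ q = 1 :=
    det_pow_eq_one hp hp2 hpq hcardN0 θ0.2 fun σ hσ x => by rw [hθ0v]; exact hθfix σ hσ _
  obtain ⟨χ2, hχ2B, hχ2, huniq⟩ :=
    exists_canon hM (N.subgroupOf M0) Q0 hcov θ0 hinv0 hθ0 hdeg0 hpq (hcardH M0) hdet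
  -- invariance under automorphisms
  have hd0 : (χ2 : M0 → ℂ) 1 = (charDegree (θ : N → ℂ) : ℂ) := by
    refine ((hχ2.ext 1).trans (hθ0v 1)).trans ?_
    exact CfsgLib.LinearTwist.apply_one_eq_charDegree (irr_isCharacter θ)
  have hdne : (charDegree (θ : N → ℂ) : ℂ) ≠ 0 :=
    Nat.cast_ne_zero.2 fun h => hdeg (h ▸ dvd_zero p)
  have hσ2 : ∀ σ : ℂ ≃+* ℂ, Fix q σ → ∀ x, σ ((χ2 : M0 → ℂ) x) = (χ2 : M0 → ℂ) x := by
    intro σ hσ x
    refine congrFun (huniq _ ⟨CfsgLib.CharGalois.isIrrCharacter_map σ χ2.2, fun n => ?_,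
      fun g => ?_, fun z hz hzq => ?_⟩) x
    · show σ ((χ2 : M0 → ℂ) n) = _
      rw [hχ2.ext, hθ0v]
      exact hθfix σ hσ _
    · rw [CfsgLib.PSolvableBound.detChar_map σ χ2.2]
      show σ (detChar (χ2 : M0 → ℂ) g) ^ q = 1
      rw [← map_pow, hχ2.det, map_one]
    · have h1 := hχ2.congr z hz hzq
      have h2 := MemLocalIdeal.mul_right hM
        (congr_of_fix hM hq0 (hcardH M0) (isCharacter_of_irr χ2.2) z hσ)
        (inv_natCast_mem_lRing hM hdeg)
      have h3 := MemLocalIdeal.add hM h2 h1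
      unfold CfsgLib.Blk4.AlperinDade.Congr1
      convert h3 using 1
      beta_reduce
      rw [hd0, map_natCast]
      field_simp
      ring
  -- invariance under `G`
  have hG2 : ∀ (g : G) (x : M0),
      (χ2 : M0 → ℂ) ⟨g * x * g⁻¹, hM0n.conj_mem (x : G) x.2 g⟩ = (χ2 : M0 → ℂ) x := by
    have hnrm : ∀ t ∈ Nrm, ∀ x : M0,
        (χ2 : M0 → ℂ) ⟨t * x * t⁻¹, hM0n.conj_mem (x : G) x.2 t⟩ = (χ2 : M0 → ℂ) x := by
      intro t ht
      let c : M0 ≃* M0 := MulAut.conjNormal (H := M0) t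
      have hirr : IsIrrCharacter M0 (fun x => (χ2 : M0 → ℂ) (c x)) :=
        CfsgLib.CharCorr.isIrrCharacter_comp_equiv χ2.2 c
      have hcan := huniq _ ⟨hirr, fun n => ?_, fun g => ?_, fun z hz hzq => ?_⟩
      · intro x
        refine (congrArg (χ2 : M0 → ℂ) (Subtype.ext ?_)).trans (congrFun hcan x)
        show t * (x : G) * t⁻¹ = ((c x : M0) : G)
        exact (MulAut.conjNormal_apply t x).symm
      · show (χ2 : M0 → ℂ) (c n) = _
        have hcn : c (n : M0) ∈ N.subgroupOf M0 := by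
          rw [Subgroup.mem_subgroupOf, MulAut.conjNormal_apply]
          exact (inferInstance : N.Normal).conj_mem _ n.2 t
        rw [hθ0v]
        refine ((hχ2.ext ⟨_, hcn⟩).trans (hθ0v _)).trans ?_
        exact hinv t _ _ (MulAut.conjNormal_apply t (n : M0))
      · have h1 := congrFun (detChar_comp χ2.2 c.toMonoidHom hirr) g
        show detChar (fun x => (χ2 : M0 → ℂ) (c.toMonoidHom x)) g ^ q = 1
        rw [h1]
        exact hχ2.det _
      · have h1 := hχ2.congr (c z) ((hC0iff _).2 (by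
          rw [MulAut.conjNormal_apply]
          exact hCconj t ht _ ((hC0iff z).1 hz))) (by rw [← map_pow, hzq, map_one])
        unfold CfsgLib.Blk4.AlperinDade.Congr1 at h1 ⊢
        beta_reduce
        rw [map_one]
        exact h1
    intro g x
    obtain ⟨t, ht, n, hn, rfl⟩ :=
      Subgroup.mem_sup_of_normal_right.1 (hfrat ▸ Subgroup.mem_top g : g ∈ Nrm ⊔ N)
    have h1 := irr_isClassFunction χ2 x ⟨n, hNM hn⟩
    rw [← h1]
    refine (congrArg (χ2 : M0 → ℂ) (Subtype.ext ?_)).trans (hnrm t ht _)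
    show t * n * (x : G) * (t * n)⁻¹ = t * (n * (x : G) * n⁻¹) * t⁻¹
    group
  -- extension to `G`
  obtain ⟨b, hb⟩ := hidx
  have hbidx : M0.index = p ^ b := hb
  have hcopd : Nat.Coprime M0.index (charDegree (θ : N → ℂ)) := by
    rw [hbidx]; exact Nat.Coprime.pow_left b (hp.coprime_iff_not_dvd.2 hdeg)
  obtain ⟨D2, hD2⟩ := exists_detHom χ2.2
  have hD2inv : CfsgLib.LinearExt.InvHom M0 D2 := fun g x => by
    refine Units.ext ?_
    have h := CfsgLib.CharExtension.detChar_invariant M0 χ2.2 hG2 g x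
    rw [hD2] at h
    exact h
  have hD2q : D2 ^ q = 1 := MonoidHom.ext fun x => Units.ext (by
    rw [MonoidHom.pow_apply, Units.val_pow_eq_pow_val, ← congrFun hD2 x, hχ2.det,
      MonoidHom.one_apply, Units.val_one])
  obtain ⟨μ, hμ⟩ := CfsgLib.LinearExt.extends_of_coprime (a := M0.index) (b := q)
    (by rw [hbidx]; exact Nat.Coprime.pow_left b (hp.coprime_iff_not_dvd.2 hpq))
    (CfsgLib.LinearExt.powExtends_index hD2inv le_rfl D2 fun _ => rfl)
    (CfsgLib.LinearExt.powExtends_of_pow_eq_one hD2q)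
  obtain ⟨k0, hk0a, hk0q⟩ := exists_exp_one_zero (a := a) hp hpq
  let ν : G →* ℂˣ := μ ^ k0
  have hνq : ∀ g, ν g ^ q = 1 := fun g => by
    obtain ⟨c, hc⟩ := hk0a
    show (μ ^ k0) g ^ q = 1
    rw [MonoidHom.pow_apply, ← pow_mul, hc, show p ^ a * c * q = p ^ a * q * c by ring, pow_mul,
      ← hcard, ← map_pow, pow_card_eq_one', map_one, one_pow]
  have hνv : ∀ x : M0, (ν x : ℂ) = detChar (χ2 : M0 → ℂ) x := fun x => by
    rw [hD2]
    show (((μ ^ k0) x : ℂˣ) : ℂ) = (D2 x : ℂ)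
    rw [MonoidHom.pow_apply, hμ, pow_eq_of_modEq (n := q) ?_ hk0q, pow_one]
    rw [← MonoidHom.pow_apply, hD2q, MonoidHom.one_apply]
  have hext := CfsgLib.CharExtension.extends_of_det M0 χ2.2 hG2 (charDegree (θ : N → ℂ)) hd0 hcopd
    (fun g => (ν g : ℂ)) (isCharacter_of_irr (isIrrCharacter_of_hom ν)) (by simp) hνv
  obtain ⟨χG, ⟨hχG, hχGv, hχGd⟩, hχGu⟩ := CfsgLib.CharExtension.existsUnique_ext_det M0 χ2.2
    (charDegree (θ : N → ℂ)) hd0 hcopd hext ν hνv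
  have hσG : ∀ σ : ℂ ≃+* ℂ, Fix q σ → ∀ g, σ (χG g) = χG g := by
    intro σ hσ g
    refine congrFun (hχGu _ ⟨CfsgLib.CharGalois.isIrrCharacter_map σ hχG, fun x => ?_, ?_⟩) g
    · show σ (χG x) = _
      rw [hχGv, hσ2 σ hσ]
    · rw [CfsgLib.PSolvableBound.detChar_map σ hχG, hχGd]
      funext y
      exact hσ _ (by rw [← Units.val_pow_eq_pow_val, hνq, Units.val_one])
  refine ⟨⟨χG, hχG⟩, ?_, ⟨q, hpq, fun g => mem_adjoin_of_fixed (n := Nat.card G)
    ⟨p ^ a, hcard.trans (mul_comm _ _)⟩ dvd_rfl (isCharacter_of_irr hχG) g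
    fun σ hσ => hσG σ hσ g⟩, fun n => ?_⟩
  · refine CfsgLib.PrincipalSq.mem_principal_of_extension hM M0
      (IsPGroup.of_card (n := b) (by rw [← Subgroup.index_eq_card]; exact hbidx))
      ⟨χG, hχG⟩ χ2 hχGv hχ2B ?_
    have h1 := CfsgLib.LinearTwist.apply_one_eq_charDegree (isCharacter_of_irr χ2.2)
    rw [hd0, Nat.cast_inj] at h1
    rwa [← h1]
  · show χG (n : G) = _
    exact (hχGv ⟨n, hNM n.2⟩).trans
      ((hχ2.ext ⟨⟨n, hNM n.2⟩, n.2⟩).trans (hθ0v _))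

/-- Let p be an odd prime, M a maximal ideal of the algebraic integers containing p, N a normal subgroup of the finite group G, and θ an irreducible character of N that is G-invariant, of degree prime to p, p-rational (values in the field generated over ℚ by a root of unity of order prime to p) and lies in the principal p-block of N. Let Q be a Sylow p-subgroup of N and suppose the index of N·C_G(Q) in G is a power of p. Then θ extends to a p-rational irreducible character of G lying in the principal p-block of G. -/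
theorem result {G : Type*} [Group G] [Finite G] (p : ℕ) [Fact p.Prime] (hp : p ≠ 2) (M : Ideal Cfsg.AlgInt) (hM : Cfsg.IsPModular p M) (N : Subgroup G) [N.Normal] (θ : Cfsg.IrrCharacter ↥N) (hinv : ∀ g : G, ∀ n n' : ↥N, (n' : G) = g * (n : G) * g⁻¹ → (θ : ↥N → ℂ) n' = (θ : ↥N → ℂ) n) (hdeg : ¬ p ∣ Cfsg.charDegree (θ : ↥N → ℂ)) (hrat : ∃ m : ℕ, ¬ p ∣ m ∧ ∀ n : ↥N, (θ : ↥N → ℂ) n ∈ IntermediateField.adjoin ℚ ({Complex.exp (2 * Real.pi * Complex.I / m)} : Set ℂ)) (hB : θ ∈ Cfsg.principalBlock M ↥N) (Q : Sylow p ↥N) (hidx : ∃ a : ℕ, (N ⊔ Subgroup.centralizer (((Q : Subgroup ↥N).map N.subtype : Subgroup G) : Set G)).index = p ^ a) : ∃ χ : Cfsg.IrrCharacter G, χ ∈ (Cfsg.principalBlock M G) ∧ (∃ n : ℕ, ¬ p ∣ n ∧ ∀ g : G, (χ : G → ℂ) g ∈ IntermediateField.adjoin ℚ ({Complex.exp (2 * Real.pi * Complex.I / n)} : Set ℂ)) ∧ ∀ n : ↥N, (χ : G → ℂ) n = (θ : ↥N → ℂ) n := by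
  exact main hp hM N θ hinv hdeg hrat hB Q hidx

end Cfsg.Agent.S4892
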