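import Cfsg.Statements.S4911
import Cfsg.Agent.Lib.CharCorr.Solvable
import Cfsg.Agent.Lib.Characters.BrauerPerm
-- import your own Cfsg.Agent.* helpers here

set_option autoImplicit false
open Cfsg

namespace Cfsg.Agent.S4911

open CfsgLib.CharCorr in
/-- Real characters of the fixed points. -/
theorem card_real {C : Type*} [Group C] [Finite C] :
    Nat.card {χ : Cfsg.IrrCharacter C // ∀ g, ((χ : C → ℂ) g).im = 0} =
      Nat.card {c : ConjClasses C // ∀ g, ConjClasses.mk g = c → IsConj g g⁻¹} := by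
  classical
  refine Eq.trans ?_ ((CfsgLib.BrauerPerm.card_fixed_eq (CfsgLib.BrauerPerm.conjIrr (K := C))
    (fun g => g⁻¹) (Equiv.inv C).bijective (fun χ k => ?_)).trans ?_)
  · exact Nat.card_congr (Equiv.subtypeEquivRight fun χ =>
      (CfsgLib.BrauerPerm.conjIrr_eq_self_iff χ).symm)
  · rw [CfsgLib.BrauerPerm.conjIrr_apply, ← CfsgLib.Characters.irr_apply_inv, inv_inv]
  · refine Nat.card_congr (Equiv.subtypeEquivRight fun c => forall_congr' fun g => ?_)
    refine imp_congr_right fun hg => ?_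
    rw [← hg, ConjClasses.mk_eq_mk_iff_isConj]
    exact isConj_comm

/-- Let P and K be subgroups of a finite group with P a p-group normalizing K and K of order prime to p. Then the number of P-invariant real-valued irreducible complex characters of K equals the number of conjugacy classes of K that are real (closed under inversion) and P-invariant. Moreover, if every real-valued irreducible character of K is P-invariant, then every real element of K (one conjugate in K to its inverse) is conjugate in K to an element centralized by P. -/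
theorem result {G : Type*} [Group G] [Finite G] (p : ℕ) [Fact p.Prime] (P K : Subgroup G) (hP : IsPGroup p ↥P) (hK : ¬ p ∣ Nat.card ↥K) (hPK : P ≤ Subgroup.normalizer (K : Set G)) : Nat.card {θ : Cfsg.IrrCharacter ↥K // (∀ k : ↥K, ((θ : ↥K → ℂ) k).im = 0) ∧ (∀ x ∈ P, ∀ k k' : ↥K, (k' : G) = x * (k : G) * x⁻¹ → (θ : ↥K → ℂ) k' = (θ : ↥K → ℂ) k)} = Nat.card {c : ConjClasses ↥K // (∀ k : ↥K, ConjClasses.mk k = c → IsConj k k⁻¹) ∧ ∀ k : ↥K, ConjClasses.mk k = c → ∀ x ∈ P, ∀ k' : ↥K, (k' : G) = x * (k : G) * x⁻¹ → ConjClasses.mk k' = c} ∧ ((∀ θ : Cfsg.IrrCharacter ↥K, (∀ k : ↥K, ((θ : ↥K → ℂ) k).im = 0) → (∀ x ∈ P, ∀ k k' : ↥K, (k' : G) = x * (k : G) * x⁻¹ → (θ : ↥K → ℂ) k' = (θ : ↥K → ℂ) k)) → ∀ k : ↥K, IsConj k k⁻¹ → ∃ k' : ↥K, IsConj k k' ∧ ∀ x ∈ P, x * (k' : G) * x⁻¹ = (k' : G)) := by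
  classical
  haveI := Fintype.ofFinite G
  have hp : p.Prime := Fact.out
  have hn : ∀ x ∈ P, ∀ k ∈ K, x * k * x⁻¹ ∈ K := fun x hx k hk =>
    (Subgroup.mem_normalizer_iff.mp (hPK hx) k).mp hk
  haveI : Fintype K := Fintype.ofFinite K
  let act := CfsgLib.CharCorr.subgroupAct K P hn
  let C := CfsgLib.CharCorr.fixedSub act
  haveI : Fintype C := Fintype.ofFinite C
  have hf := CfsgLib.CharCorr.isFixedHom_fixedSub act
  have hinv := fun θ : Cfsg.IrrCharacter K => CfsgLib.CharCorr.inv_subgroupAct_iff K P hn θ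
  -- conjugation commutes with the correspondence
  have hmc : ∀ (θ : Cfsg.IrrCharacter K) (γ : Cfsg.IrrCharacter C),
      CfsgLib.CharCorr.mult C.subtype (CfsgLib.BrauerPerm.conjIrr θ)
        (CfsgLib.BrauerPerm.conjIrr γ) = CfsgLib.CharCorr.mult C.subtype θ γ := by
    intro θ γ
    refine CfsgLib.CharCorr.mult_eq_of_classInner_eq _ _ _ ?_
    have h := congrArg (starRingEnd ℂ) (CfsgLib.CharCorr.mult_spec C.subtype θ γ)
    rw [Complex.conj_natCast] at h
    rw [← h]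
    simp [Cfsg.classInner, map_sum]
  have hu := fun (θ : Cfsg.IrrCharacter K) (h : CfsgLib.CharCorr.Inv act θ) =>
    CfsgLib.CharCorr.existsUnique_mult hp hP hf hK h
  have hreal : ∀ (θ : Cfsg.IrrCharacter K) (γ : Cfsg.IrrCharacter C),
      CfsgLib.CharCorr.Inv act θ → ¬ p ∣ CfsgLib.CharCorr.mult C.subtype θ γ →
      ((∀ k, ((θ : K → ℂ) k).im = 0) ↔ ∀ c, ((γ : C → ℂ) c).im = 0) := by
    intro θ γ hθ hγ
    rw [← CfsgLib.BrauerPerm.conjIrr_eq_self_iff, ← CfsgLib.BrauerPerm.conjIrr_eq_self_iff]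
    constructor
    · intro h
      refine (hu θ hθ).unique ?_ hγ
      rw [← h, hmc]
      exact hγ
    · intro h
      refine CfsgLib.CharCorr.mult_injective hp hP hf hK (fun s g => ?_) hθ (γ := γ) ?_ hγ
      · simp only [CfsgLib.BrauerPerm.conjIrr_apply, hθ s g]
      · rw [← h, hmc]
        exact hγ
  let A := {θ : Cfsg.IrrCharacter ↥K // (∀ k : ↥K, ((θ : ↥K → ℂ) k).im = 0) ∧
    (∀ x ∈ P, ∀ k k' : ↥K, (k' : G) = x * (k : G) * x⁻¹ → (θ : ↥K → ℂ) k' = (θ : ↥K → ℂ) k)}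
  have hA : Nat.card A = Nat.card {γ : Cfsg.IrrCharacter C // ∀ g, ((γ : C → ℂ) g).im = 0} := by
    refine Nat.card_eq_of_bijective (fun θ => ⟨(hu θ.1 ((hinv _).mpr θ.2.2)).choose,
      (hreal _ _ ((hinv _).mpr θ.2.2) (hu θ.1 ((hinv _).mpr θ.2.2)).choose_spec.1).mp θ.2.1⟩)
      ⟨fun θ η h => ?_, fun γ => ?_⟩
    · have h' := congrArg Subtype.val h
      simp only at h'
      exact Subtype.ext (CfsgLib.CharCorr.mult_injective hp hP hf hK ((hinv _).mpr θ.2.2)
        ((hinv _).mpr η.2.2) (hu θ.1 ((hinv _).mpr θ.2.2)).choose_spec.1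
        (h'.symm ▸ (hu η.1 ((hinv _).mpr η.2.2)).choose_spec.1))
    · obtain ⟨θ, hθ, hm⟩ := CfsgLib.CharCorr.exists_mult hp hP hf hK γ.1
      refine ⟨⟨θ, (hreal θ γ.1 hθ hm).mpr γ.2, (hinv θ).mp hθ⟩, Subtype.ext ?_⟩
      exact ((hu θ hθ).choose_spec.2 γ.1 hm).symm
  let B := {c : ConjClasses ↥K // (∀ k : ↥K, ConjClasses.mk k = c → IsConj k k⁻¹) ∧
    ∀ k : ↥K, ConjClasses.mk k = c → ∀ x ∈ P, ∀ k' : ↥K, (k' : G) = x * (k : G) * x⁻¹ →
      ConjClasses.mk k' = c}
  have hB : Nat.card {c : ConjClasses C // ∀ g, ConjClasses.mk g = c → IsConj g g⁻¹} =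
      Nat.card B := by
    refine Nat.card_eq_of_bijective (fun c => ⟨ConjClasses.map C.subtype c.1, ?_, ?_⟩) ⟨?_, ?_⟩
    · intro k hk
      obtain ⟨d, hd⟩ := ConjClasses.exists_rep c.1
      have h1 : IsConj k (d : K) := by
        rw [← ConjClasses.mk_eq_mk_iff_isConj, hk, ← hd]; rfl
      have h2 : IsConj (d : K) (d : K)⁻¹ := C.subtype.map_isConj (c.2 d hd)
      obtain ⟨e, he⟩ := isConj_iff.mp h1
      refine h1.trans (h2.trans (isConj_iff.mpr ⟨e⁻¹, ?_⟩))
      rw [← he]; group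
    · intro k hk x hx k' hk'
      obtain ⟨d, hd⟩ := ConjClasses.exists_rep c.1
      have h1 : IsConj k (d : K) := by
        rw [← ConjClasses.mk_eq_mk_iff_isConj, hk, ← hd]; rfl
      have h2 : k' = act ⟨x, hx⟩ k := Subtype.ext hk'
      have h3 := (act ⟨x, hx⟩).toMonoidHom.map_isConj h1
      change IsConj (act ⟨x, hx⟩ k) (act ⟨x, hx⟩ (d : K)) at h3
      rw [d.2 ⟨x, hx⟩, ← h2] at h3
      rw [← hd]
      exact ConjClasses.mk_eq_mk_iff_isConj.mpr h3
    · rintro ⟨c, hc⟩ ⟨d, hd⟩ h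
      obtain ⟨c, rfl⟩ := ConjClasses.exists_rep c
      obtain ⟨d, rfl⟩ := ConjClasses.exists_rep d
      exact Subtype.ext (ConjClasses.mk_eq_mk_iff_isConj.mpr
        (CfsgLib.CharCorr.isConj_of_isConj_map hp hP hf hK
          (ConjClasses.mk_eq_mk_iff_isConj.mp (congrArg Subtype.val h))))
    · rintro ⟨c, hr, hc⟩
      obtain ⟨k, rfl⟩ := ConjClasses.exists_rep c
      obtain ⟨d, hd⟩ := CfsgLib.CharCorr.exists_fixed_of_class hp hP hf hK k fun s =>
        (ConjClasses.mk_eq_mk_iff_isConj.mp (hc k rfl s.1 s.2 _ rfl)).symm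
      refine ⟨⟨ConjClasses.mk d, fun g hg => ?_⟩,
        Subtype.ext (ConjClasses.mk_eq_mk_iff_isConj.mpr hd.symm)⟩
      refine CfsgLib.CharCorr.isConj_of_isConj_map hp hP hf hK ?_
      have h1 : IsConj (g : K) k :=
        (C.subtype.map_isConj (ConjClasses.mk_eq_mk_iff_isConj.mp hg)).trans hd.symm
      obtain ⟨e, he⟩ := isConj_iff.mp h1
      refine h1.trans ((hr k rfl).trans (isConj_iff.mpr ⟨e⁻¹, ?_⟩))
      rw [← he, map_inv, Subgroup.subtype_apply]; group
  have hAB : Nat.card A = Nat.card B := hA.trans (card_real.trans hB)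
  refine ⟨hAB, fun hall k hk => ?_⟩
  have hall' : Nat.card A = Nat.card {θ : Cfsg.IrrCharacter ↥K // ∀ k : ↥K,
      ((θ : ↥K → ℂ) k).im = 0} :=
    Nat.card_congr (Equiv.subtypeEquivRight fun θ => ⟨fun h => h.1, fun h => ⟨h, hall θ h⟩⟩)
  rw [card_real] at hall'
  haveI : Finite (ConjClasses ↥K) := Finite.of_surjective _ ConjClasses.mk_surjective
  let ι : B → {c : ConjClasses ↥K // ∀ g, ConjClasses.mk g = c → IsConj g g⁻¹} :=
    fun c => ⟨c.1, c.2.1⟩
  have hbij : Function.Bijective ι :=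
    Function.Injective.bijective_of_nat_card_le (fun a b h => Subtype.ext (congrArg (fun z => z.1) h))
      (hall'.symm.trans hAB).le
  obtain ⟨c, hc⟩ := hbij.2 ⟨ConjClasses.mk k, fun g hg => by
    have h1 : IsConj g k := ConjClasses.mk_eq_mk_iff_isConj.mp hg
    obtain ⟨e, he⟩ := isConj_iff.mp h1
    refine h1.trans (hk.trans (isConj_iff.mpr ⟨e⁻¹, ?_⟩))
    rw [← he]; group⟩
  have hc' : c.1 = ConjClasses.mk k := congrArg Subtype.val hc
  obtain ⟨d, hd⟩ := CfsgLib.CharCorr.exists_fixed_of_class hp hP hf hK k fun s =>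
    (ConjClasses.mk_eq_mk_iff_isConj.mp
      ((c.2.2 k hc'.symm s.1 s.2 _ rfl).trans hc')).symm
  exact ⟨(d : K), hd, fun x hx => congrArg Subtype.val (d.2 ⟨x, hx⟩)⟩

end Cfsg.Agent.S4911
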