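import Cfsg.Statements.S4912
import Cfsg.Agent.Lib.Characters.LinearCount
-- import your own Cfsg.Agent.* helpers here

set_option autoImplicit false
open Cfsg

namespace Cfsg.Agent.S4912

/-- Let G be a finite group with a non-abelian minimal normal subgroup N, and let φ be an irreducible complex character of N with stabilizer I in G such that φ extends to an irreducible character of I with Frobenius–Schur indicator +1. Put d = φ(1)·[G : I]. Then the number of linear characters of G with Frobenius–Schur indicator +1 is at most [G : I] times the number of irreducible characters of G of degree d with Frobenius–Schur indicator +1. -/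
theorem result {G : Type*} [Group G] [Finite G] (N : Subgroup G) (hN : N.Normal) (hN1 : N ≠ ⊥) (hmin : ∀ M : Subgroup G, M.Normal → M ≤ N → M = ⊥ ∨ M = N) (hna : ¬ IsMulCommutative ↥N) (φ : Cfsg.IrrCharacter ↥N) (I : Subgroup G) (hI : ∀ g : G, g ∈ I ↔ ∀ n n' : ↥N, (n' : G) = g * (n : G) * g⁻¹ → (φ : ↥N → ℂ) n' = (φ : ↥N → ℂ) n) (hNI : N ≤ I) (hext : ∃ ψ : Cfsg.IrrCharacter ↥I, (Nat.card ↥I : ℂ)⁻¹ * ∑ᶠ g : ↥I, (ψ : ↥I → ℂ) (g * g) = 1 ∧ ∀ n : ↥N, (ψ : ↥I → ℂ) (Subgroup.inclusion hNI n) = (φ : ↥N → ℂ) n) : Nat.card {χ : Cfsg.IrrCharacter G // Cfsg.charDegree (χ : G → ℂ) = 1 ∧ (Nat.card G : ℂ)⁻¹ * ∑ᶠ g : G, (χ : G → ℂ) (g * g) = 1} ≤ I.index * Nat.card {χ : Cfsg.IrrCharacter G // Cfsg.charDegree (χ : G → ℂ) = Cfsg.charDegree (φ : ↥N → ℂ) * I.index ∧ (Nat.card G : ℂ)⁻¹ * ∑ᶠ g : G, (χ : G → ℂ) (g * g) = 1} := by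
  obtain ⟨ψ, hν, hψ⟩ := hext
  refine CfsgLib.LinearCount.card_linear_le N hN hmin hna φ I hI hNI ψ hψ
    (P := fun {X} _ χ => CfsgLib.FrobSchur.fsInd χ = 1) ?_ ?_
  · intro f hf
    haveI := Fintype.ofFinite G
    haveI := Fintype.ofFinite I
    have hr := CfsgLib.FrobSchur.real_of_fsInd_ne_zero
      (CfsgLib.Characters.isIrrCharacter_of_hom f) (by rw [hf]; exact one_ne_zero)
    have h2 : ∀ g : G, ((f (g * g) : ℂˣ) : ℂ) = 1 := by
      intro g
      have h1 := CfsgLib.Characters.irr_apply_inv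
        ⟨_, CfsgLib.Characters.isIrrCharacter_of_hom f⟩ g
      simp only [map_inv, Units.val_inv_eq_inv_val, Complex.conj_eq_iff_im.mpr (hr g)] at h1
      rw [map_mul, Units.val_mul]
      calc ((f g : ℂˣ) : ℂ) * (f g : ℂ) = ((f g : ℂˣ) : ℂ)⁻¹ * (f g : ℂ) := by rw [h1]
        _ = 1 := inv_mul_cancel₀ (Units.ne_zero _)
    rw [CfsgLib.FrobSchur.fsInd_eq_sum,
      Finset.sum_congr rfl (fun (x : ↥I) _ => show ((f ((x * x : ↥I) : G) : ℂˣ) : ℂ) = 1 from h2 (x : G))]
    simp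
  · intro f hf _
    haveI := Fintype.ofFinite N
    haveI := Fintype.ofFinite I
    have hθ := CfsgLib.LinearTwist.isIrr_mul_hom ψ.2 (f.comp I.subtype)
    have hres : ∀ n : ↥N, (ψ : ↥I → ℂ) (Subgroup.inclusion hNI n) *
        ((f.comp I.subtype) (Subgroup.inclusion hNI n) : ℂ) = (φ : ↥N → ℂ) n := fun n => by
      rw [hψ]
      simp [CfsgLib.LinearTwist.hom_trivial_of_minimal hN hmin hna f n n.2]
    refine CfsgLib.LinearTwist.fsInd_indFun_of_inertia hN φ.2 I ?_ hNI hθ hres ?_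
    · ext g
      rw [hI, CfsgLib.Clifford.mem_inertia]
      exact ⟨fun h n => h n _ rfl, fun h n n' hn => by
        rw [← h n]; exact congrArg _ (Subtype.ext hn)⟩
    · have hr := CfsgLib.FrobSchur.real_of_fsInd_ne_zero
        (CfsgLib.Characters.isIrrCharacter_of_hom (f.comp I.subtype))
        (by change CfsgLib.FrobSchur.fsInd (fun x : ↥I => (f (x : G) : ℂ)) ≠ 0
            rw [hf]; exact one_ne_zero)
      have h2 : ∀ g : ↥I, ((f.comp I.subtype) (g * g) : ℂ) = 1 := by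
        intro g
        have h1 := CfsgLib.Characters.irr_apply_inv
          ⟨_, CfsgLib.Characters.isIrrCharacter_of_hom (f.comp I.subtype)⟩ g
        simp only [map_inv, Units.val_inv_eq_inv_val, Complex.conj_eq_iff_im.mpr (hr g)] at h1
        rw [map_mul, Units.val_mul]
        calc (((f.comp I.subtype) g : ℂˣ) : ℂ) * ((f.comp I.subtype) g : ℂ)
            = (((f.comp I.subtype) g : ℂˣ) : ℂ)⁻¹ * ((f.comp I.subtype) g : ℂ) := by rw [h1]
          _ = 1 := inv_mul_cancel₀ (Units.ne_zero _)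
      rw [CfsgLib.FrobSchur.fsInd_eq_sum,
        Finset.sum_congr rfl (fun (x : ↥I) _ => show (ψ : ↥I → ℂ) (x * x) * ((f ((x * x : ↥I) : G) : ℂˣ) : ℂ) = (ψ : ↥I → ℂ) (x * x) from (congrArg _ (h2 x)).trans (mul_one _)),
        ← CfsgLib.FrobSchur.fsInd_eq_sum]
      exact hν

end Cfsg.Agent.S4912
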