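import Cfsg.Statements.S4914
import Cfsg.Agent.Lib.CharCorr.NormalSylow

set_option autoImplicit false
open Cfsg

namespace Cfsg.Agent.S4914

/-- Let P and K be subgroups of a finite group G with P a p-group normalizing K, and suppose K has a normal Sylow p-subgroup Q. Let C be the subgroup of those k ∈ K whose commutator with every element of P lies in Q (so that C/Q is the fixed-point subgroup of P on K/Q). Then there is a bijection f from the P-invariant irreducible complex characters of K onto the P-invariant irreducible complex characters of C such that, for every P-invariant irreducible character χ of K, the multiplicity of f(χ) in the restriction of χ to C is a natural number congruent to 1 or to −1 modulo p, every other P-invariant irreducible character of C occurs in that restriction with multiplicity divisible by p, and the degrees of χ and f(χ) are congruent modulo p up to sign. -/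
theorem result {G : Type*} [Group G] [Finite G] (p : ℕ) [Fact p.Prime] (P K Q C : Subgroup G) (hP : IsPGroup p ↥P) (hPK : P ≤ Subgroup.normalizer (K : Set G)) (hQK : Q ≤ K) (hQn : ∀ k ∈ K, ∀ q ∈ Q, k * q * k⁻¹ ∈ Q) (hQp : ∃ a : ℕ, Nat.card ↥Q = p ^ a) (hQsyl : ¬ p ∣ Q.relIndex K) (hCK : C ≤ K) (hC : ∀ k : G, k ∈ C ↔ (k ∈ K ∧ ∀ x ∈ P, x * k * x⁻¹ * k⁻¹ ∈ Q)) : ∃ f : {χ : Cfsg.IrrCharacter ↥K // (∀ x ∈ P, ∀ k k' : ↥K, (k' : G) = x * (k : G) * x⁻¹ → (χ : ↥K → ℂ) k' = (χ : ↥K → ℂ) k)} → {ξ : Cfsg.IrrCharacter ↥C // (∀ x ∈ P, ∀ k k' : ↥C, (k' : G) = x * (k : G) * x⁻¹ → (ξ : ↥C → ℂ) k' = (ξ : ↥C → ℂ) k)}, Function.Bijective f ∧ ∀ χ, (∀ ξ : {ξ : Cfsg.IrrCharacter ↥C // (∀ x ∈ P, ∀ k k' : ↥C, (k' : G) = x * (k : G) * x⁻¹ → (ξ : ↥C → ℂ) k' = (ξ : ↥C → ℂ) k)}, ∃ m : ℕ, (Nat.card ↥C : ℂ)⁻¹ * ∑ᶠ c : ↥C, (χ.1 : ↥K → ℂ) (Subgroup.inclusion hCK c) * (starRingEnd ℂ) ((ξ.1 : ↥C → ℂ) c) = (m : ℂ) ∧ (ξ = f χ → ((m : ZMod p) =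 1 ∨ (m : ZMod p) = -1)) ∧ (ξ ≠ f χ → p ∣ m)) ∧ ((Cfsg.charDegree ((f χ).1 : ↥C → ℂ) : ZMod p) = (Cfsg.charDegree (χ.1 : ↥K → ℂ) : ZMod p) ∨ (Cfsg.charDegree ((f χ).1 : ↥C → ℂ) : ZMod p) = -(Cfsg.charDegree (χ.1 : ↥K → ℂ) : ZMod p)) := by
  classical
  haveI := Fintype.ofFinite G
  have hp : p.Prime := Fact.out
  obtain ⟨a, ha⟩ := hQp
  have hn : ∀ x ∈ P, ∀ k ∈ K, x * k * x⁻¹ ∈ K := fun x hx k hk =>
    (Subgroup.mem_normalizer_iff.mp (hPK hx) k).mp hk
  let act := CfsgLib.CharCorr.subgroupAct K P hn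
  let Q' : Subgroup K := Q.subgroupOf K
  let C' : Subgroup K := C.subgroupOf K
  haveI hQn' : Q'.Normal := ⟨fun q hq g => hQn g g.2 q hq⟩
  letI : Fintype K := Fintype.ofFinite K
  letI : Fintype Q' := Fintype.ofFinite Q'
  letI : Fintype C' := Fintype.ofFinite C'
  letI : Fintype C := Fintype.ofFinite C
  have hcardQ : Nat.card Q' = p ^ a := by
    rw [Nat.card_congr (Subgroup.subgroupOfEquivOfLe hQK).toEquiv, ha]
  have hcop : ¬ p ∣ Q'.index := hQsyl
  -- a normal Sylow subgroup contains every element of `p`-power order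
  have hQchar : ∀ x : K, x ^ (p ^ a) = 1 → x ∈ Q' := fun x hx => by
    rw [← QuotientGroup.eq_one_iff, ← orderOf_eq_one_iff]
    refine Nat.eq_one_of_dvd_coprimes ((hp.coprime_iff_not_dvd.mpr hcop).pow_left a)
      (orderOf_dvd_of_pow_eq_one ?_) ?_
    · rw [← QuotientGroup.mk_pow, hx, QuotientGroup.mk_one]
    · rw [Subgroup.index_eq_card]
      exact orderOf_dvd_natCard _
  have hset : CfsgLib.CharCorrQ.SylowSetting p act Q' C' :=
    { prime := hp
      pgroup := hP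
      qgroup := ⟨a, hcardQ⟩
      coprime := hcop
      stable := fun s q hq => hQchar _ (by
        have h1 : (⟨q, hq⟩ : Q') ^ (p ^ a) = 1 := by rw [← hcardQ, pow_card_eq_one']
        have h2 : q ^ (p ^ a) = 1 := by simpa using congrArg Subtype.val h1
        rw [← map_pow, h2, map_one])
      mem_iff := fun x => ⟨fun hx s => ((hC (x : G)).mp hx).2 s.1 s.2,
        fun hx => (hC (x : G)).mpr ⟨x.2, fun g hg => hx ⟨g, hg⟩⟩⟩ }
  obtain ⟨f, hf, hprop⟩ := CfsgLib.CharCorrQ.exists_correspondence hset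
  let e : C' ≃* C := Subgroup.subgroupOfEquivOfLe hCK
  have hX : ∀ χ : Cfsg.IrrCharacter K, CfsgLib.CharCorr.Inv act χ ↔
      ∀ x ∈ P, ∀ k k' : ↥K, (k' : G) = x * (k : G) * x⁻¹ → (χ : ↥K → ℂ) k' = (χ : ↥K → ℂ) k :=
    fun χ => CfsgLib.CharCorr.inv_subgroupAct_iff K P hn χ
  let X := {χ : Cfsg.IrrCharacter ↥K // (∀ x ∈ P, ∀ k k' : ↥K, (k' : G) = x * (k : G) * x⁻¹ →
    (χ : ↥K → ℂ) k' = (χ : ↥K → ℂ) k)}
  let Y := {ξ : Cfsg.IrrCharacter ↥C // (∀ x ∈ P, ∀ k k' : ↥C, (k' : G) = x * (k : G) * x⁻¹ →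
    (ξ : ↥C → ℂ) k' = (ξ : ↥C → ℂ) k)}
  let Y' := {ξ : Cfsg.IrrCharacter C' //
    CfsgLib.CharCorr.Inv (CfsgLib.CharCorr.restrictAct act C' hset.stableC) ξ}
  let eX : X ≃ {χ : Cfsg.IrrCharacter K // CfsgLib.CharCorr.Inv act χ} :=
    Equiv.subtypeEquivRight fun χ => (hX χ).symm
  let toY : Y' → Y := fun ξ => ⟨CfsgLib.CharCorr.twistIrr e.symm ξ.1, fun x hx k k' hk => by
    have h1 := ξ.2 ⟨x, hx⟩ (e.symm k)
    have h2 : CfsgLib.CharCorr.restrictAct act C' hset.stableC ⟨x, hx⟩ (e.symm k) = e.symm k' :=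
      Subtype.ext (Subtype.ext hk.symm)
    rw [h2] at h1
    exact h1⟩
  let fromY : Y → Y' := fun ξ => ⟨CfsgLib.CharCorr.twistIrr e ξ.1, fun s c =>
    ξ.2 s.1 s.2 (e c) (e (CfsgLib.CharCorr.restrictAct act C' hset.stableC s c)) rfl⟩
  let eY : Y' ≃ Y :=
    { toFun := toY
      invFun := fromY
      left_inv := fun ξ => Subtype.ext (Subtype.ext (funext fun c => by simp [toY, fromY]))
      right_inv := fun ξ => Subtype.ext (Subtype.ext (funext fun c => by simp [toY, fromY])) }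
  refine ⟨fun χ => eY (f (eX χ)), (eY.bijective.comp hf).comp eX.bijective, fun χ => ⟨fun ξ => ?_, ?_⟩⟩
  · obtain ⟨h1, h2, -⟩ := hprop (eX χ)
    refine ⟨CfsgLib.CharCorr.mult C'.subtype χ.1 (eY.symm ξ).1, ?_, fun he => ?_, fun he => ?_⟩
    · rw [← CfsgLib.CharCorr.mult_spec, finsum_eq_sum_of_fintype]
      unfold Cfsg.classInner
      rw [Nat.card_congr e.toEquiv]
      congr 1
      exact (Fintype.sum_equiv e.toEquiv _ _ fun c => rfl).symm
    · rw [he, Equiv.symm_apply_apply]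
      exact h1
    · exact h2 _ fun hc => he (eY.symm_apply_eq.mp hc)
  · have h3 := (hprop (eX χ)).2.2
    have h4 : Cfsg.charDegree ((eY (f (eX χ))).1 : ↥C → ℂ) =
        Cfsg.charDegree ((f (eX χ)).1 : C' → ℂ) := by
      simp [Cfsg.charDegree, eY, toY]
    rw [h4]
    exact h3

end Cfsg.Agent.S4914
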