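import Cfsg.Statements.S4916
import Cfsg.Agent.Lib.Blocks.PrincipalNilpotent
-- import your own Cfsg.Agent.* helpers here

set_option autoImplicit false
open Cfsg

namespace Cfsg.Agent.S4916

/-- Let G be a finite group, p a prime and M a maximal ideal of the algebraic integers containing p. Then the principal character is the only irreducible character of degree prime to p in the principal p-block of G if and only if p does not divide the order of G. -/
theorem result {G : Type*} [Group G] [Finite G] (p : ℕ) [Fact p.Prime] (M : Ideal Cfsg.AlgInt) (hM : Cfsg.IsPModular p M) : (∀ χ : Cfsg.IrrCharacter G, χ ∈ Cfsg.principalBlock M G → ¬ p ∣ Cfsg.charDegree (χ : G → ℂ) → (χ : G → ℂ) = fun _ => (1 : ℂ)) ↔ ¬ p ∣ Nat.card G := by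
  classical
  haveI := Fintype.ofFinite G
  have hone : CfsgLib.Characters.principalIrr G ∈ Cfsg.principalBlock M G :=
    CfsgLib.Blocks.sameBlock_refl hM (fun _ : G => (1 : ℂ))
  constructor
  · intro h hp
    have hd := CfsgLib.PrincipalSq.dvd_sum_sq hM hp
      (CfsgLib.Blocks.isPBlock_principalBlock (G := G) M)
    rw [← Finset.add_sum_erase _ _ (Finset.mem_filter.mpr
      ⟨Finset.mem_univ (CfsgLib.Characters.principalIrr G), hone⟩)] at hd
    have h2 : p ∣ ∑ χ ∈ ((Finset.univ.filter (· ∈ Cfsg.principalBlock M G)).erase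
        (CfsgLib.Characters.principalIrr G)), Cfsg.charDegree (χ : G → ℂ) ^ 2 := by
      refine Finset.dvd_sum fun χ hχ => ?_
      obtain ⟨hne, hχ⟩ := Finset.mem_erase.mp hχ
      refine dvd_pow ?_ two_ne_zero
      by_contra hdeg
      exact hne (Subtype.ext (h χ (Finset.mem_filter.mp hχ).2 hdeg))
    rw [Nat.dvd_add_left h2, CfsgLib.LinearTwist.charDegree_eq_of_apply_one (n := 1) (by simp),
      one_pow] at hd
    exact (Fact.out : p.Prime).not_dvd_one hd
  · intro hp χ hχ _
    have h1 : ∀ g : G, (χ : G → ℂ) g = (χ : G → ℂ) 1 := fun g =>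
      CfsgLib.PrincipalSq.apply_eq_degree_of_coprime hM ⊤ (by rwa [Subgroup.card_top]) χ hχ
        ⟨g, Subgroup.mem_top g⟩
    have hn := CfsgLib.Characters.classInner_irr_self χ.2
    have hi := CfsgLib.Characters.irr_one_ne_zero χ
    by_contra hne
    have h0 := CfsgLib.Characters.classInner_irr_ne χ.2
      (CfsgLib.Characters.isIrrCharacter_one (G := G)) hne
    simp only [Cfsg.classInner, h1, map_one, mul_one, Finset.sum_const, nsmul_eq_mul,
      Finset.card_univ, ← Nat.card_eq_fintype_card] at h0
    rcases mul_eq_zero.mp h0 with h | h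
    · exact absurd h (inv_ne_zero (Nat.cast_ne_zero.mpr Nat.card_pos.ne'))
    · rcases mul_eq_zero.mp h with h' | h'
      · exact absurd h' (Nat.cast_ne_zero.mpr Nat.card_pos.ne')
      · exact hi h'

end Cfsg.Agent.S4916
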