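import Cfsg.Statements.S4923
import Cfsg.Agent.Lib.PGroup.MaximalClass
import Cfsg.Agent.Lib.Characters.Values
import Mathlib.RingTheory.Polynomial.Cyclotomic.Roots
import Mathlib.FieldTheory.IntermediateField.Adjoin.Basic

set_option autoImplicit false
open Cfsg

namespace Cfsg.Agent.S4923

open CfsgLib.Characters
open scoped ComplexConjugate commutatorElement

variable {G : Type*} [Group G] [Finite G]

/-- All powers of an element at once. -/
theorem exists_eigen_powers (χ : Cfsg.IrrCharacter G) (g : G) :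
    ∃ (N : ℕ) (ω : Fin N → ℂ), (∀ j, ω j ^ orderOf g = 1) ∧
      ∀ i : ℕ, (χ : G → ℂ) (g ^ i) = ∑ j, ω j ^ i := by
  obtain ⟨-, d, ρ, hρ, rfl⟩ := χ
  obtain ⟨b, ω, h1, h2⟩ := exists_eigenbasis ρ g
  refine ⟨_, ω, h1, fun i => character_eq_sum_of_eigenbasis ρ (g ^ i) b (fun j => ω j ^ i) ?_⟩
  intro j
  induction i with
  | zero => simp
  | succ i ih =>
    rw [pow_succ, map_mul, Module.End.mul_apply, h2, map_smul, ih, smul_smul, pow_succ']

/-- The set of values at an element. -/
def vals (g : G) : Set ℂ := {z : ℂ | ∃ χ : Cfsg.IrrCharacter G, (χ : G → ℂ) g = z}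

open Classical in
/-- The sum of the powers of a root of unity over the conjugate powers lies in the field of values. -/
theorem classSum_mem (g : G) {m : ℕ} (hm : orderOf g = m) {ζ : ℂ} (hζ : ζ ^ m = 1) :
    (∑ i ∈ (Finset.range m).filter (fun i => IsConj g (g ^ i)), ζ ^ i) ∈
      IntermediateField.adjoin ℚ (vals g) := by
  haveI := Fintype.ofFinite G
  set F := IntermediateField.adjoin ℚ (vals g)
  set C := Nat.card (Subgroup.centralizer ({g} : Set G)) with hC
  have hC0 : (C : ℂ) ≠ 0 := Nat.cast_ne_zero.mpr Nat.card_pos.ne'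
  have key : (C : ℂ) * (∑ i ∈ (Finset.range m).filter (fun i => IsConj g (g ^ i)), ζ ^ i) =
      ∑ χ : Cfsg.IrrCharacter G, (χ : G → ℂ) g *
        conj (∑ i ∈ Finset.range m, (χ : G → ℂ) (g ^ i) * conj (ζ ^ i)) := by
    simp only [map_sum, map_mul, Complex.conj_conj, Finset.mul_sum]
    rw [Finset.sum_comm, Finset.sum_filter]
    refine Finset.sum_congr rfl fun i _ => ?_
    have h := column_orth g (g ^ i)
    simp only [← mul_assoc, ← Finset.sum_mul, h, ← hC]
    split_ifs <;> simp
  have hint : ∀ χ : Cfsg.IrrCharacter G,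
      conj (∑ i ∈ Finset.range m, (χ : G → ℂ) (g ^ i) * conj (ζ ^ i)) ∈ F := by
    intro χ
    obtain ⟨N, ω, hω, hpow⟩ := exists_eigen_powers χ g
    simp only [hpow, map_sum, map_mul, Complex.conj_conj, Finset.sum_mul]
    rw [Finset.sum_comm]
    refine sum_mem fun j _ => ?_
    have hz : (conj (ω j) * ζ) ^ m = 1 := by
      rw [mul_pow, hζ, mul_one, ← map_pow, ← hm, hω j, map_one]
    simp only [map_pow, ← mul_pow]
    by_cases h1 : conj (ω j) * ζ = 1
    · simp only [h1, one_pow, Finset.sum_const, Finset.card_range, nsmul_one]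
      exact natCast_mem F m
    · rw [geom_sum_eq h1, hz, sub_self, zero_div]
      exact zero_mem F
  have hval : ∀ χ : Cfsg.IrrCharacter G, (χ : G → ℂ) g ∈ F := fun χ =>
    IntermediateField.subset_adjoin ℚ _ ⟨χ, rfl⟩
  have h2 : (C : ℂ) * (∑ i ∈ (Finset.range m).filter (fun i => IsConj g (g ^ i)), ζ ^ i) ∈ F := by
    rw [key]
    exact sum_mem fun χ _ => mul_mem (hval χ) (hint χ)
  have h3 := mul_mem (inv_mem (natCast_mem F C)) h2
  rw [inv_mul_cancel_left₀ hC0] at h3
  convert h3

/-- If `g ^ r` is conjugate to `g`, the values lie in a field containing the orbit sums. -/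
theorem vals_subset {g : G} {m r : ℕ} (hm : orderOf g = m) [NeZero m] {ζ : ℂ}
    (hζ : IsPrimitiveRoot ζ m) (hr : IsConj g (g ^ r)) (K : IntermediateField ℚ ℂ)
    (hK : ∀ i : ℕ, ζ ^ i + (ζ ^ r) ^ i ∈ K) : IntermediateField.adjoin ℚ (vals g) ≤ K := by
  refine IntermediateField.adjoin_le_iff.mpr ?_
  rintro z ⟨χ, rfl⟩
  obtain ⟨N, ω, hω, hpow⟩ := exists_eigen_powers χ g
  have h1 : (χ : G → ℂ) g = ∑ j, ω j := by simpa using hpow 1
  have h2 : (χ : G → ℂ) g = ∑ j, ω j ^ r := by
    rw [← hpow r]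
    exact classFunction_eq_of_isConj (irr_isClassFunction χ) hr
  have h3 : (2 : ℂ) * (χ : G → ℂ) g ∈ K := by
    rw [two_mul]
    nth_rw 2 [h2]
    rw [h1, ← Finset.sum_add_distrib]
    refine sum_mem fun j _ => ?_
    obtain ⟨i, -, hi⟩ := hζ.eq_pow_of_pow_eq_one (hm ▸ hω j : ω j ^ m = 1)
    rw [← hi, ← pow_mul, mul_comm i r, pow_mul]
    exact hK i
  have h4 := mul_mem (inv_mem (ofNat_mem K 2)) h3
  rw [inv_mul_cancel_left₀ two_ne_zero] at h4
  exact h4

/-- Power sums of two numbers lie in the field of their sum, if the product does. -/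
theorem powSum_mem {x y : ℂ} (K : IntermediateField ℚ ℂ) (hs : x + y ∈ K) (hp : x * y ∈ K) :
    ∀ i : ℕ, x ^ i + y ^ i ∈ K
  | 0 => by simpa [two_mul] using (add_mem (one_mem K) (one_mem K))
  | 1 => by simpa using hs
  | (i + 2) => by
    rw [show x ^ (i + 2) + y ^ (i + 2) =
      (x + y) * (x ^ (i + 1) + y ^ (i + 1)) - (x * y) * (x ^ i + y ^ i) by ring]
    exact sub_mem (mul_mem hs (powSum_mem K hs hp (i + 1))) (mul_mem hp (powSum_mem K hs hp i))

/-- The primitive root is not in the field of its square. -/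
theorem not_mem_sq {a : ℕ} {ζ : ℂ} (ha : 2 ≤ a) (hζ : IsPrimitiveRoot ζ (2 ^ a)) :
    ζ ∉ IntermediateField.adjoin ℚ ({ζ ^ 2} : Set ℂ) := by
  intro h
  have h2 : IsPrimitiveRoot (ζ ^ 2) (2 ^ (a - 1)) :=
    hζ.pow (pow_pos two_pos a) (by rw [← pow_succ', Nat.sub_add_cancel (by omega : 1 ≤ a)])
  have hz1 : IsIntegral ℚ ζ := ⟨Polynomial.X ^ 2 ^ a - Polynomial.C 1,
    Polynomial.monic_X_pow_sub_C _ (pow_pos two_pos a).ne', by simp [hζ.pow_eq_one]⟩
  have hz2 : IsIntegral ℚ (ζ ^ 2) := hz1.pow 2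
  have hle : IntermediateField.adjoin ℚ ({ζ} : Set ℂ) ≤ IntermediateField.adjoin ℚ ({ζ ^ 2} : Set ℂ) :=
    IntermediateField.adjoin_le_iff.mpr (Set.singleton_subset_iff.mpr h)
  haveI := IntermediateField.adjoin.finiteDimensional hz2
  have h3 : Module.finrank ℚ (IntermediateField.adjoin ℚ ({ζ} : Set ℂ)) ≤
      Module.finrank ℚ (IntermediateField.adjoin ℚ ({ζ ^ 2} : Set ℂ)) :=
    LinearMap.finrank_le_finrank_of_injective
      (f := (IntermediateField.inclusion hle).toLinearMap) (IntermediateField.inclusion hle).injective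
  rw [IntermediateField.adjoin.finrank hz1, IntermediateField.adjoin.finrank hz2,
    ← Polynomial.cyclotomic_eq_minpoly_rat hζ (pow_pos two_pos a),
    ← Polynomial.cyclotomic_eq_minpoly_rat h2 (pow_pos two_pos _), Polynomial.natDegree_cyclotomic,
    Polynomial.natDegree_cyclotomic, Nat.totient_prime_pow Nat.prime_two (by omega),
    Nat.totient_prime_pow Nat.prime_two (by omega)] at h3
  have := (Nat.pow_le_pow_iff_right (by norm_num : 1 < 2)).mp (by simpa using h3)
  omega

theorem gen_not_mem_sq {a : ℕ} {ζ : ℂ} (ha : 3 ≤ a) (hζ : IsPrimitiveRoot ζ (2 ^ a)) :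
    ζ + ζ⁻¹ ∉ IntermediateField.adjoin ℚ ({ζ ^ 2} : Set ℂ) ∧
    ζ - ζ⁻¹ ∉ IntermediateField.adjoin ℚ ({ζ ^ 2} : Set ℂ) := by
  set K := IntermediateField.adjoin ℚ ({ζ ^ 2} : Set ℂ)
  have hw : ζ ^ 2 ∈ K := IntermediateField.subset_adjoin ℚ _ rfl
  have hζ0 : ζ ≠ 0 := hζ.ne_zero (pow_pos two_pos a).ne'
  have hne : ∀ c : ℂ, (c = 1 ∨ c = -1) → 1 + c * (ζ ^ 2)⁻¹ ≠ 0 := by
    intro c hc h0
    have h8 : (8 : ℕ) ≤ 2 ^ a := by
      calc (8 : ℕ) = 2 ^ 3 := by norm_num
        _ ≤ 2 ^ a := Nat.pow_le_pow_right two_pos ha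
    have h1 : ζ ^ 2 = -c := by
      have := congrArg (fun z => z * ζ ^ 2) h0
      simp only [add_mul, one_mul, mul_assoc, inv_mul_cancel₀ (pow_ne_zero 2 hζ0), mul_one, zero_mul] at this
      exact eq_neg_of_add_eq_zero_left this
    have h4 : ζ ^ 4 = 1 := by
      rw [show ζ ^ 4 = (ζ ^ 2) ^ 2 by ring, h1]
      rcases hc with rfl | rfl <;> norm_num
    have := Nat.le_of_dvd (by norm_num) (hζ.dvd_of_pow_eq_one 4 h4)
    omega
  constructor
  · intro h
    refine not_mem_sq (by omega) hζ ?_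
    have hb : 1 + 1 * (ζ ^ 2)⁻¹ ∈ K := add_mem (one_mem K) (mul_mem (one_mem K) (inv_mem hw))
    have := mul_mem h (inv_mem hb)
    rwa [show ζ + ζ⁻¹ = ζ * (1 + 1 * (ζ ^ 2)⁻¹) by field_simp,
      mul_inv_cancel_right₀ (hne 1 (Or.inl rfl))] at this
  · intro h
    refine not_mem_sq (by omega) hζ ?_
    have hb : 1 + (-1) * (ζ ^ 2)⁻¹ ∈ K := add_mem (one_mem K) (mul_mem (neg_mem (one_mem K)) (inv_mem hw))
    have := mul_mem h (inv_mem hb)
    rwa [show ζ - ζ⁻¹ = ζ * (1 + (-1) * (ζ ^ 2)⁻¹) by field_simp; ring,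
      mul_inv_cancel_right₀ (hne (-1) (Or.inr rfl))] at this

theorem pow_half_eq {m h : ℕ} (hm : m = 2 * h) (hh : 0 < h) {ζ : ℂ} (hζ : IsPrimitiveRoot ζ m) :
    ζ ^ h = -1 :=
  (hζ.pow (hm ▸ Nat.mul_pos two_pos hh) (by rw [hm, mul_comm])).eq_neg_one_of_two_right

/-- From a cyclic maximal subgroup of a maximal class Sylow subgroup. -/
theorem exists_element (P : Sylow 2 G) (n : ℕ) (hn : 3 ≤ n) (hP : Nat.card P = 2 ^ n) (ζ : ℂ)
    (hζ : IsPrimitiveRoot ζ (2 ^ (n - 1))) (hidx : (commutator ↥(P : Subgroup G)).index = 4) :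
    ∃ g : G, g ∈ (P : Subgroup G) ∧ 2 ∣ (Subgroup.centralizer ({g} : Set G)).index ∧
      (IntermediateField.adjoin ℚ (vals g) = IntermediateField.adjoin ℚ ({ζ + ζ⁻¹} : Set ℂ) ∨
        IntermediateField.adjoin ℚ (vals g) = IntermediateField.adjoin ℚ ({ζ - ζ⁻¹} : Set ℂ)) := by
  classical
  replace hP : Nat.card (P : Subgroup G) = 2 ^ n := hP
  haveI := Fintype.ofFinite G
  haveI : Fact (Nat.Prime 2) := ⟨Nat.prime_two⟩
  have hcl := CfsgLib.MaxClass.class_of_abelianization n P hn hP
    (by rw [← Subgroup.index_eq_card]; exact hidx)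
  obtain ⟨a, t, hgen, hta, ha, hZ, ht2, htz⟩ := CfsgLib.MaxClass.exists_generators hn hP hcl
  obtain ⟨hZc, -, -⟩ := CfsgLib.MaxClass.center_of_class (p := 2) hP hn hcl
  set m := 2 ^ (n - 1) with hm
  set h := 2 ^ (n - 2) with hh
  have hmh : m = 2 * h := by rw [hm, hh, ← pow_succ', show n - 2 + 1 = n - 1 by omega]
  have hh2 : 2 ≤ h := by
    rw [hh]
    calc 2 = 2 ^ 1 := by norm_num
      _ ≤ 2 ^ (n - 2) := Nat.pow_le_pow_right two_pos (by omega)
  haveI : NeZero m := ⟨(pow_pos two_pos _).ne'⟩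
  -- the exponent of `t`
  obtain ⟨r, hr, hrc⟩ : ∃ r : ℕ, t * a * t⁻¹ = a ^ r ∧ (r = m - 1 ∨ r = h - 1) := by
    obtain ⟨j, hj⟩ := (mem_powers_iff_mem_zpowers).mpr (hZ htz)
    simp only at hj
    have hz2 : (a ^ j) ^ 2 = 1 := by
      rw [hj]
      have := pow_card_eq_one' (x := (⟨_, htz⟩ : Subgroup.center ↥(P : Subgroup G)))
      rw [hZc] at this
      simpa using congrArg Subtype.val this
    rw [← pow_mul] at hz2
    have h1 := orderOf_dvd_of_pow_eq_one hz2
    rw [ha, hmh, mul_comm j 2] at h1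
    obtain ⟨l, hl⟩ := Nat.dvd_of_mul_dvd_mul_left two_pos h1
    have hconj : t * a * t⁻¹ = a ^ j * a⁻¹ := by rw [hj, mul_inv_cancel_right]
    have hainv : a ^ (m - 1) = a⁻¹ := by
      refine eq_inv_of_mul_eq_one_left ?_
      rw [← pow_succ, Nat.sub_add_cancel (show 1 ≤ m by omega), ← ha, pow_orderOf_eq_one]
    rcases Nat.even_or_odd l with ⟨u, hu⟩ | ⟨u, hu⟩
    · refine ⟨m - 1, ?_, Or.inl rfl⟩
      rw [hainv, hconj, hl, hu, show h * (u + u) = m * u by rw [hmh]; ring, pow_mul,
        show a ^ m = 1 by rw [← ha, pow_orderOf_eq_one], one_pow, one_mul]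
    · refine ⟨h - 1, ?_, Or.inr rfl⟩
      have e : a ^ h = a ^ (h - 1) * a := by rw [← pow_succ, Nat.sub_add_cancel (by omega)]
      rw [hconj, hl, hu, show h * (2 * u + 1) = m * u + h by rw [hmh]; ring, pow_add, pow_mul,
        show a ^ m = 1 by rw [← ha, pow_orderOf_eq_one], one_pow, one_mul, e,
        mul_inv_cancel_right]
  have hrm : r < m := by rcases hrc with rfl | rfl <;> omega
  have hr1 : r ≠ 1 := by
    intro h1
    rw [h1, pow_one, mul_inv_eq_iff_eq_mul] at hr
    refine CfsgLib.MaxClass.not_isMulCommutative_of_class (p := 2) hP hn hcl ?_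
    have hle : (⊤ : Subgroup P) ≤ Subgroup.centralizer ({a} : Set ↥(P : Subgroup G)) ⊓ Subgroup.centralizer ({t} : Set ↥(P : Subgroup G)) := by
      rw [← hgen]
      refine sup_le ?_ ?_ <;> refine le_inf ?_ ?_ <;> rw [Subgroup.zpowers_le, Subgroup.mem_centralizer_singleton_iff]
      · exact hr.symm
      · exact hr
    have hca : ∀ y, y * a = a * y := fun y =>
      Subgroup.mem_centralizer_singleton_iff.mp (hle (Subgroup.mem_top y)).1
    have hct : ∀ y, y * t = t * y := fun y =>
      Subgroup.mem_centralizer_singleton_iff.mp (hle (Subgroup.mem_top y)).2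
    have hcen : (⊤ : Subgroup P) ≤ Subgroup.center ↥(P : Subgroup G) := by
      rw [← hgen]
      refine sup_le ?_ ?_ <;> rw [Subgroup.zpowers_le, Subgroup.mem_center_iff] <;> assumption
    exact ⟨⟨fun x y => Subgroup.mem_center_iff.mp (hcen (Subgroup.mem_top y)) x⟩⟩
  set g : G := (a : G) with hg
  have hog : orderOf g = m := by rw [hg, Subgroup.orderOf_coe, ha, hm]
  have hgP : g ∈ (P : Subgroup G) := a.2
  have hgr : (t : G) * g * (t : G)⁻¹ = g ^ r := by
    simpa [hg] using congrArg Subtype.val hr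
  set C := Subgroup.centralizer ({g} : Set G) with hC
  have hvG : (Nat.card G).factorization 2 = n := by
    have := P.card_eq_multiplicity
    rw [hP] at this
    exact (Nat.pow_right_injective le_rfl this).symm
  refine ⟨g, hgP, ?_, ?_⟩
  · -- the class has even size
    by_contra hodd
    let Q : Sylow 2 C := default
    have hQ : Nat.card Q = 2 ^ n := by
      rw [Q.card_eq_multiplicity]
      congr 1
      rw [← hvG, ← Subgroup.card_mul_index C, Nat.factorization_mul Nat.card_pos.ne'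
        Subgroup.index_ne_zero_of_finite, Finsupp.add_apply, Nat.factorization_eq_zero_of_not_dvd hodd,
        add_zero]
    have hQG : Nat.card ((Q : Subgroup C).map C.subtype) = 2 ^ n := by
      rw [Subgroup.card_map_of_injective C.subtype_injective]; exact hQ
    let R : Sylow 2 G := Sylow.ofCard ((Q : Subgroup C).map C.subtype) (by rw [hQG, hvG])
    obtain ⟨x, hx⟩ := MulAction.exists_smul_eq G P R
    have hgR : ∀ y ∈ (R : Subgroup G), y * g = g * y := by
      rintro _ ⟨y, -, rfl⟩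
      exact Subgroup.mem_centralizer_singleton_iff.mp y.2
    have hg' : g ∈ (R : Subgroup G) := by
      have hpg : IsPGroup 2 ((R : Subgroup G) ⊔ Subgroup.zpowers g : Subgroup G) := by
        refine IsPGroup.to_sup_of_normal_left' R.2 (P.2.to_le (Subgroup.zpowers_le.mpr hgP)) ?_
        refine Subgroup.zpowers_le.mpr (Subgroup.mem_normalizer_iff.mpr fun y => ?_)
        constructor
        · intro hy
          rwa [← hgR y hy, mul_inv_cancel_right]
        · intro hy
          have e := hgR _ hy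
          rw [inv_mul_cancel_right] at e
          have e2 : g * y * g⁻¹ = y := by
            have := mul_left_cancel (show g * y = g * (g * y * g⁻¹) from e)
            exact this.symm
          rwa [e2] at hy
      rw [← R.3 hpg le_sup_left]
      exact Subgroup.mem_sup_right (Subgroup.mem_zpowers g)
    rw [← hx, Sylow.coe_subgroup_smul] at hgR hg'
    obtain ⟨y, hy, hyg⟩ := hg'
    have hyc : (⟨y, hy⟩ : (P : Subgroup G)) ∈ Subgroup.center ↥(P : Subgroup G) := Subgroup.mem_center_iff.mpr fun z => by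
      have hzR := hgR _ (Subgroup.mem_map_of_mem _ z.2)
      rw [← hyg] at hzR
      apply Subtype.ext
      have := hzR
      simp only [MulDistribMulAction.toMonoidEnd_apply] at this
      exact mul_left_cancel (a := x) (mul_right_cancel (b := x⁻¹) (by
        simpa [mul_assoc] using this))
    have h2 : y ^ 2 = 1 := by
      have := pow_card_eq_one' (x := (⟨_, hyc⟩ : Subgroup.center ↥(P : Subgroup G)))
      rw [hZc] at this
      simpa using congrArg (fun z : Subgroup.center ↥(P : Subgroup G) => ((z : (P : Subgroup G)) : G)) this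
    have hg2 : g ^ 2 = 1 := by
      have hyg' : x * y * x⁻¹ = g := hyg
      rw [← hyg', conj_pow, h2, mul_one, mul_inv_cancel]
    have := Nat.le_of_dvd two_pos (hog ▸ orderOf_dvd_of_pow_eq_one hg2)
    omega
  · -- the conjugate powers
    let A := Subgroup.zpowers g
    have hAcard : Nat.card A = m := by rw [Nat.card_zpowers, hog]
    set ψ := A.normalizerMonoidHom with hψ
    have hψ2 : Nat.card ψ.range ≤ 2 := by
      obtain ⟨i, -, hi⟩ := (Nat.dvd_prime_pow Nat.prime_two).mp (show Nat.card ψ.range ∣ 2 ^ (n - 2) by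
        refine ψ.range.card_subgroup_dvd_card.trans ?_
        rw [IsCyclic.card_mulAut, hAcard, hm, Nat.totient_prime_pow Nat.prime_two (by omega)]
        simp [Nat.sub_sub])
      have hker : m ∣ Nat.card ψ.ker := by
        rw [← hAcard, hψ, Subgroup.normalizerMonoidHom_ker,
          Nat.card_congr (Subgroup.subgroupOfEquivOfLe (show Subgroup.centralizer (A : Set G) ≤
            Subgroup.normalizer (A : Set G) from Subgroup.centralizer_le_normalizer (G := G) (s := A))).toEquiv]
        refine Subgroup.card_dvd_of_le fun y hy => Subgroup.mem_centralizer_iff.mpr fun z hz => ?_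
        obtain ⟨i, rfl⟩ := Subgroup.mem_zpowers_iff.mp hy
        obtain ⟨j, rfl⟩ := Subgroup.mem_zpowers_iff.mp hz
        rw [← zpow_add, ← zpow_add, add_comm]
      have hd : 2 ^ i * 2 ^ (n - 1) ∣ Nat.card G := by
        refine dvd_trans ?_ (Subgroup.card_subgroup_dvd_card (Subgroup.normalizer (A : Set G)))
        rw [← Subgroup.card_mul_index ψ.ker, Subgroup.index_ker, hi, mul_comm]
        exact mul_dvd_mul hker dvd_rfl
      rw [hi]
      rw [← pow_add] at hd
      have := (Nat.Prime.pow_dvd_iff_le_factorization Nat.prime_two Nat.card_pos.ne').mp hd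
      rw [hvG] at this
      calc 2 ^ i ≤ 2 ^ 1 := Nat.pow_le_pow_right two_pos (by omega)
        _ = 2 := by norm_num
    have hnorm : ∀ (x : G) (i : ℕ), x * g * x⁻¹ = g ^ i → x ∈ Subgroup.normalizer (A : Set G) := by
      intro x i hx
      have hle : A.map (MulAut.conj x).toMonoidHom ≤ A := by
        rw [MonoidHom.map_zpowers, Subgroup.zpowers_le]
        change x * g * x⁻¹ ∈ A
        rw [hx]
        exact Subgroup.pow_mem _ (Subgroup.mem_zpowers g) i
      have heq : A.map (MulAut.conj x).toMonoidHom = A := Subgroup.eq_of_le_of_card_ge hle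
        (by rw [Subgroup.card_map_of_injective (MulAut.conj x).injective])
      refine Subgroup.mem_normalizer_iff.mpr fun y => ⟨fun hy => hle ⟨y, hy, rfl⟩, fun hy => ?_⟩
      rw [← heq] at hy
      obtain ⟨z, hz, hzy⟩ := hy
      change x * z * x⁻¹ = x * y * x⁻¹ at hzy
      rw [← mul_left_cancel (mul_right_cancel hzy)]
      exact hz
    have ht' : (t : G) ∈ Subgroup.normalizer (A : Set G) := hnorm _ _ hgr
    have hψt : ψ ⟨_, ht'⟩ ≠ 1 := fun h1 => by
      have h2 := congrArg (fun e : MulAut A => ((e ⟨g, Subgroup.mem_zpowers g⟩ : A) : G)) h1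
      change (t : G) * g * (t : G)⁻¹ = g at h2
      rw [hgr] at h2
      refine hr1 (pow_injOn_Iio_orderOf (x := g) ?_ ?_ (h2.trans (pow_one g).symm))
      · rw [Set.mem_Iio, hog]; exact hrm
      · rw [Set.mem_Iio, hog]; omega
    have hS : (Finset.range m).filter (fun i => IsConj g (g ^ i)) = {1, r} := by
      ext i
      rw [Finset.mem_filter, Finset.mem_range, Finset.mem_insert, Finset.mem_singleton]
      constructor
      · rintro ⟨hi, hc⟩
        obtain ⟨x, hx⟩ := isConj_iff.mp hc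
        have hxN := hnorm x i hx
        rcases eq_or_ne (ψ ⟨x, hxN⟩) 1 with h1 | h1
        · left
          have h2 := congrArg (fun e : MulAut A => ((e ⟨g, Subgroup.mem_zpowers g⟩ : A) : G)) h1
          change x * g * x⁻¹ = g at h2
          rw [hx] at h2
          refine pow_injOn_Iio_orderOf (x := g) ?_ ?_ (h2.trans (pow_one g).symm)
          · rw [Set.mem_Iio, hog]; exact hi
          · rw [Set.mem_Iio, hog]; omega
        · right
          have h2 : ψ ⟨x, hxN⟩ = ψ ⟨_, ht'⟩ := by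
            by_contra hne
            haveI : Fintype ψ.range := Fintype.ofFinite _
            have h3 : ({1, ⟨_, ⟨x, hxN⟩, rfl⟩, ⟨_, ⟨(t : G), ht'⟩, rfl⟩} : Finset ψ.range).card = 3 :=
              Finset.card_eq_three.mpr ⟨_, _, _, fun e => h1 (congrArg Subtype.val e).symm,
                fun e => hψt (congrArg Subtype.val e).symm, fun e => hne (congrArg Subtype.val e), rfl⟩
            have h4 := Finset.card_le_univ ({1, ⟨_, ⟨x, hxN⟩, rfl⟩, ⟨_, ⟨(t : G), ht'⟩, rfl⟩} : Finset ψ.range)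
            rw [h3, ← Nat.card_eq_fintype_card] at h4
            omega
          have h5 := congrArg (fun e : MulAut A => ((e ⟨g, Subgroup.mem_zpowers g⟩ : A) : G)) h2
          change x * g * x⁻¹ = (t : G) * g * (t : G)⁻¹ at h5
          rw [hx, hgr] at h5
          refine pow_injOn_Iio_orderOf (x := g) ?_ ?_ h5
          · rw [Set.mem_Iio, hog]; exact hi
          · rw [Set.mem_Iio, hog]; exact hrm
      · rintro (rfl | rfl)
        · exact ⟨by omega, by rw [pow_one]⟩
        · exact ⟨hrm, isConj_iff.mpr ⟨_, hgr⟩⟩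
    have hmem := classSum_mem g hog hζ.pow_eq_one
    rw [show ∀ (d : DecidablePred fun i : ℕ => IsConj g (g ^ i)),
        @Finset.filter ℕ (fun i => IsConj g (g ^ i)) d (Finset.range m) = {1, r} from fun d => by
          rw [← hS]; congr, Finset.sum_pair (Ne.symm hr1), pow_one] at hmem
    have hζ0 : ζ ≠ 0 := hζ.ne_zero (pow_pos two_pos _).ne'
    have hrpow : ζ ^ r = ζ⁻¹ ∨ ζ ^ r = -ζ⁻¹ := by
      rcases hrc with rfl | rfl
      · left
        refine eq_inv_of_mul_eq_one_left ?_
        rw [← pow_succ, Nat.sub_add_cancel (show 1 ≤ m by omega),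
          hζ.pow_eq_one]
      · right
        refine mul_right_cancel₀ hζ0 ?_
        rw [← pow_succ, Nat.sub_add_cancel (by omega), pow_half_eq hmh (by omega) hζ, neg_mul,
          inv_mul_cancel₀ hζ0]
    obtain ⟨y, hy⟩ : ∃ y, y = ζ ^ r := ⟨_, rfl⟩
    have hgc : IsConj g (g ^ r) := isConj_iff.mpr ⟨_, hgr⟩
    have hfield : IntermediateField.adjoin ℚ (vals g) =
        IntermediateField.adjoin ℚ ({ζ + ζ ^ r} : Set ℂ) := by
      rw [← hy] at hmem hrpow ⊢
      have hs : ζ + y ∈ IntermediateField.adjoin ℚ ({ζ + y} : Set ℂ) :=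
        IntermediateField.subset_adjoin ℚ _ (Set.mem_singleton _)
      have hp : ζ * y ∈ IntermediateField.adjoin ℚ ({ζ + y} : Set ℂ) := by
        rcases hrpow with e | e
        · rw [show ζ * y = 1 by rw [e, mul_inv_cancel₀ hζ0]]
          exact one_mem _
        · rw [show ζ * y = -1 by rw [e, mul_neg, mul_inv_cancel₀ hζ0]]
          exact neg_mem (one_mem _)
      refine le_antisymm (vals_subset hog hζ hgc _ fun i => ?_)
        (IntermediateField.adjoin_le_iff.mpr (Set.singleton_subset_iff.mpr hmem))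
      rw [← hy]
      exact powSum_mem (x := ζ) (y := y) (IntermediateField.adjoin ℚ ({ζ + y} : Set ℂ)) hs hp i
    rcases hrpow with e | e
    · left; rw [hfield, e]
    · right; rw [hfield, e, ← sub_eq_add_neg]

/-- A square root of one modulo a power of two. -/
theorem half_dvd {k r : ℕ} (h : 2 ^ (k + 1) ∣ (r * r - 1)) (hr : r % 2 = 1) :
    2 ^ k ∣ r - 1 ∨ 2 ^ k ∣ r + 1 := by
  obtain ⟨j, rfl⟩ : ∃ j, r = 2 * j + 1 := ⟨r / 2, by omega⟩
  rw [show (2 * j + 1) * (2 * j + 1) - 1 = 4 * (j * (j + 1)) by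
    rw [show (2 * j + 1) * (2 * j + 1) = 4 * (j * (j + 1)) + 1 by ring, Nat.add_sub_cancel]] at h
  rcases k with _ | k
  · exact Or.inl (one_dvd _)
  · rw [show 2 ^ (k + 1 + 1) = 4 * 2 ^ k by ring, Nat.mul_dvd_mul_iff_left (by norm_num)] at h
    rcases Nat.even_or_odd j with hj | hj
    · refine Or.inl ?_
      rw [Nat.add_sub_cancel, pow_succ']
      exact mul_dvd_mul_left 2 ((Nat.Coprime.pow_left k ((Nat.prime_two.coprime_iff_not_dvd).mpr
        (by rw [← even_iff_two_dvd]; simpa [Nat.not_even_iff_odd] using hj.add_one))).dvd_of_dvd_mul_right h)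
    · refine Or.inr ?_
      rw [show 2 * j + 1 + 1 = 2 * (j + 1) by ring, pow_succ']
      exact mul_dvd_mul_left 2 ((Nat.Coprime.pow_left k ((Nat.prime_two.coprime_iff_not_dvd).mpr
        (by rw [← even_iff_two_dvd]; simpa [Nat.not_even_iff_odd] using hj))).dvd_of_dvd_mul_left h)

theorem commutator_index_eq_four (P : Sylow 2 G) (n : ℕ) (hn : 3 ≤ n) (hP : Nat.card P = 2 ^ n)
    (ζ : ℂ) (hζ : IsPrimitiveRoot ζ (2 ^ (n - 1))) (g : G) (hgP : g ∈ (P : Subgroup G))
    (hev : 2 ∣ (Subgroup.centralizer ({g} : Set G)).index)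
    (hf : IntermediateField.adjoin ℚ (vals g) = IntermediateField.adjoin ℚ ({ζ + ζ⁻¹} : Set ℂ) ∨
      IntermediateField.adjoin ℚ (vals g) = IntermediateField.adjoin ℚ ({ζ - ζ⁻¹} : Set ℂ)) :
    (commutator ↥(P : Subgroup G)).index = 4 := by
  classical
  replace hP : Nat.card (P : Subgroup G) = 2 ^ n := hP
  haveI : Fact (Nat.Prime 2) := ⟨Nat.prime_two⟩
  let a : (P : Subgroup G) := ⟨g, hgP⟩
  obtain ⟨x, hxa⟩ : ∃ x : (P : Subgroup G), ¬ x * a = a * x := by
    by_contra hall
    push Not at hall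
    refine P.not_dvd_index (hev.trans (Subgroup.index_dvd_of_le fun y hy => ?_))
    exact Subgroup.mem_centralizer_singleton_iff.mpr (congrArg Subtype.val (hall ⟨y, hy⟩))
  have hncomm : ¬ IsMulCommutative ↥(P : Subgroup G) := fun hc => hxa (hc.is_comm.comm x a)
  haveI hnil : Group.IsNilpotent ↥(P : Subgroup G) := (IsPGroup.of_card hP).isNilpotent
  obtain rfl | hn4 := hn.eq_or_lt
  · -- order eight
    obtain ⟨j, hj, hq, hc⟩ := CfsgLib.MaxClass.card_center_quotient (p := 2) hP (by omega)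
    have hj2 : j = 2 := by
      rcases Nat.lt_or_ge j 2 with h | h
      · exact absurd (CfsgLib.MaxClass.abelian_of_center_quotient_le (p := 2) (by omega) hq) hncomm
      · omega
    subst hj2
    have hle : commutator ↥(P : Subgroup G) ≤ Subgroup.center ↥(P : Subgroup G) := by
      rw [← QuotientGroup.ker_mk' (Subgroup.center ↥(P : Subgroup G))]
      haveI : IsMulCommutative (↥(P : Subgroup G) ⧸ Subgroup.center ↥(P : Subgroup G)) :=
        ⟨⟨IsPGroup.commutative_of_card_eq_prime_sq hq⟩⟩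
      rw [commutator_def, Subgroup.commutator_le]
      intro u _ v _
      rw [MonoidHom.mem_ker, map_commutatorElement, commutatorElement_eq_one_iff_mul_comm]
      exact IsPGroup.commutative_of_card_eq_prime_sq hq _ _
    have hne : commutator ↥(P : Subgroup G) ≠ ⊥ := fun hb => hncomm ⟨⟨fun u v => by
      rw [← commutatorElement_eq_one_iff_mul_comm, ← Subgroup.mem_bot, ← hb, commutator_def]
      exact Subgroup.commutator_mem_commutator (Subgroup.mem_top u) (Subgroup.mem_top v)⟩⟩
    have h1 : 1 < Nat.card (commutator ↥(P : Subgroup G)) := (Subgroup.one_lt_card_iff_ne_bot _).mpr hne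
    have h2 : Nat.card (commutator ↥(P : Subgroup G)) ≤ 2 := by
      calc Nat.card (commutator ↥(P : Subgroup G)) ≤ Nat.card (Subgroup.center ↥(P : Subgroup G)) :=
            Nat.le_of_dvd Nat.card_pos (Subgroup.card_dvd_of_le hle)
        _ = 2 := by rw [hc]; norm_num
    have h3 := Subgroup.card_mul_index (commutator ↥(P : Subgroup G))
    rw [hP, show Nat.card (commutator ↥(P : Subgroup G)) = 2 by omega] at h3
    omega
  · have hn4' : 4 ≤ n := hn4
    set k := n - 2 with hk
    have hk2 : 2 ≤ k := by omega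
    rw [show n - 1 = k + 1 by omega] at hζ
    obtain ⟨hns1, hns2⟩ := gen_not_mem_sq (a := k + 1) (by omega) hζ
    set K := IntermediateField.adjoin ℚ ({ζ ^ 2} : Set ℂ) with hK
    have hbad : ¬ IntermediateField.adjoin ℚ (vals g) ≤ K := by
      intro hle
      rcases hf with e | e
      · exact hns1 (hle (e ▸ IntermediateField.subset_adjoin ℚ _ rfl))
      · exact hns2 (hle (e ▸ IntermediateField.subset_adjoin ℚ _ rfl))
    have hw : ζ ^ 2 ∈ K := IntermediateField.subset_adjoin ℚ _ rfl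
    have hw2 : IsPrimitiveRoot (ζ ^ 2) (2 ^ k) :=
      hζ.pow (pow_pos two_pos _) (by rw [← pow_succ'])
    -- the order of `g`
    obtain ⟨j, hj, hoj⟩ := (Nat.dvd_prime_pow Nat.prime_two).mp (hP ▸ orderOf_dvd_natCard a)
    have hoa : orderOf g = 2 ^ j := by rw [← hoj]; exact Subgroup.orderOf_coe a
    have hj1 : k < j := by
      by_contra hle
      push Not at hle
      refine hbad (IntermediateField.adjoin_le_iff.mpr ?_)
      rintro z ⟨χ, rfl⟩
      obtain ⟨N, ω, hω, hpow⟩ := exists_eigen_powers χ g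
      rw [show (χ : G → ℂ) g = ∑ i, ω i by simpa using hpow 1]
      refine sum_mem fun i _ => ?_
      haveI : NeZero (2 ^ k) := ⟨(pow_pos two_pos k).ne'⟩
      have h1 : ω i ^ 2 ^ k = 1 := by
        obtain ⟨c, hc⟩ := pow_dvd_pow 2 hle
        rw [hc, pow_mul, ← hoa, hω i, one_pow]
      obtain ⟨l, -, hl⟩ := hw2.eq_pow_of_pow_eq_one h1
      rw [← hl]
      exact pow_mem hw l
    have hjn : j ≠ n := by
      rintro rfl
      refine hxa ?_
      have htop : Subgroup.zpowers a = ⊤ := Subgroup.eq_top_of_card_eq _ (by rw [Nat.card_zpowers, hoj, hP])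
      obtain ⟨i, hi⟩ := Subgroup.mem_zpowers_iff.mp (htop ▸ Subgroup.mem_top x)
      rw [← hi]
      exact ((Commute.refl a).zpow_left i).eq
    have hj' : j = k + 1 := by omega
    subst hj'
    have hA : (Subgroup.zpowers a).index = 2 := by
      have h1 := Subgroup.card_mul_index (Subgroup.zpowers a)
      rw [Nat.card_zpowers, hoj, hP, show n = k + 1 + 1 by omega, pow_succ 2 (k + 1)] at h1
      exact Nat.eq_of_mul_eq_mul_left (pow_pos two_pos _) h1
    haveI hAn := Subgroup.normal_of_index_eq_two hA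
    obtain ⟨r, hr⟩ := mem_powers_iff_mem_zpowers.mpr (hAn.conj_mem a (Subgroup.mem_zpowers a) x)
    simp only at hr
    have hxx : (x * x) * a * (x * x)⁻¹ = a := by
      obtain ⟨i, hi⟩ := Subgroup.mem_zpowers_iff.mp (Subgroup.mul_self_mem_of_index_two hA x)
      rw [← hi, ((Commute.refl a).zpow_left i).eq, mul_inv_cancel_right]
    have hrr : a ^ (r * r) = a ^ 1 := by
      have e : x * (x * a * x⁻¹) * x⁻¹ = (x * x) * a * (x * x)⁻¹ := by group
      rw [hxx, ← hr, ← conj_pow, ← hr, ← pow_mul] at e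
      rw [pow_one]; exact e
    rw [pow_eq_pow_iff_modEq, hoj] at hrr
    have hrodd : r % 2 = 1 := by
      have h2 : r * r ≡ 1 [MOD 2] := hrr.of_dvd (dvd_pow_self 2 (Nat.succ_ne_zero k))
      unfold Nat.ModEq at h2
      rw [Nat.mul_mod] at h2
      rcases Nat.mod_two_eq_zero_or_one r with h | h <;> rw [h] at h2 <;> simp_all
    have hr0 : 1 ≤ r := by omega
    have hdvd : 2 ^ (k + 1) ∣ r * r - 1 := (Nat.modEq_iff_dvd' (Nat.one_le_iff_ne_zero.mpr
      (mul_ne_zero (by omega) (by omega)))).mp hrr.symm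
    have hr1 : ¬ 2 ^ k ∣ r - 1 := by
      intro hd
      obtain ⟨l, hl⟩ := hd
      have hre : r = 2 ^ k * l + 1 := by omega
      have hgconj : IsConj g (g ^ r) := isConj_iff.mpr ⟨(x : G), by
        simpa using congrArg Subtype.val hr.symm⟩
      rcases Nat.even_or_odd l with ⟨u, hu⟩ | ⟨u, hu⟩
      · refine hxa ?_
        have h1 : a ^ r = a := by
          rw [hre, hu, show 2 ^ k * (u + u) + 1 = 2 ^ (k + 1) * u + 1 by ring, pow_add, pow_one,
            pow_mul, ← hoj, pow_orderOf_eq_one, one_pow, one_mul]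
        rw [h1] at hr
        exact (mul_inv_eq_iff_eq_mul.mp hr.symm)
      · refine hbad ?_
        haveI : NeZero (2 ^ (k + 1)) := ⟨(pow_pos two_pos _).ne'⟩
        refine vals_subset hoa hζ hgconj K fun i => ?_
        have h1 : ζ ^ r = -ζ := by
          rw [hre, hu, show 2 ^ k * (2 * u + 1) + 1 = 2 ^ (k + 1) * u + (2 ^ k + 1) by ring, pow_add,
            pow_mul, hζ.pow_eq_one, one_pow, one_mul, pow_succ,
            pow_half_eq (by rw [pow_succ']) (pow_pos two_pos k) hζ, neg_one_mul]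
        rw [h1]
        rcases Nat.even_or_odd i with ⟨v, hv⟩ | hi
        · subst hv
          rw [show (-ζ) ^ (v + v) = (ζ ^ 2) ^ v by rw [← two_mul, pow_mul, neg_sq],
            show ζ ^ (v + v) = (ζ ^ 2) ^ v by rw [← two_mul, pow_mul]]
          exact add_mem (pow_mem hw v) (pow_mem hw v)
        · rw [hi.neg_pow, add_neg_cancel]
          exact zero_mem K
    have hr2 : 2 ^ k ∣ r + 1 := (half_dvd hdvd hrodd).resolve_left hr1
    -- the square of `a` is a commutator
    have ha2 : a ^ 2 ∈ commutator ↥(P : Subgroup G) := by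
      have h4 : 4 ∣ r + 1 := dvd_trans (by
        calc (4 : ℕ) = 2 ^ 2 := by norm_num
          _ ∣ 2 ^ k := pow_dvd_pow 2 hk2) hr2
      obtain ⟨u, hu⟩ : ∃ u, r - 1 = 2 * u ∧ Odd u := by
        obtain ⟨c, hc⟩ := h4
        exact ⟨2 * c - 1, by omega, ⟨c - 1, by omega⟩⟩
      have h1 : a ^ (r - 1) ∈ commutator ↥(P : Subgroup G) := by
        have h2 : a ^ (r - 1) = ⁅x, a⁆ := by
          rw [commutatorElement_def, ← hr, eq_mul_inv_iff_mul_eq, ← pow_succ,
            Nat.sub_add_cancel hr0]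
        rw [h2, commutator_def]
        exact Subgroup.commutator_mem_commutator (Subgroup.mem_top x) (Subgroup.mem_top a)
      rw [hu.1, pow_mul] at h1
      have hcop : (orderOf (a ^ 2)).Coprime u := by
        refine Nat.Coprime.coprime_dvd_left ((orderOf_pow_dvd 2).trans hoj.dvd) ?_
        exact Nat.Coprime.pow_left _ (Nat.prime_two.coprime_iff_not_dvd.mpr hu.2.not_two_dvd_nat)
      obtain ⟨v, hv⟩ := exists_pow_eq_self_of_coprime hcop.symm
      rw [← hv]
      exact Subgroup.pow_mem _ h1 v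
    -- the quotient by it is abelian
    let Z := Subgroup.zpowers (a ^ 2)
    have hZn : Z.Normal := by
      refine ⟨fun z hz y => ?_⟩
      obtain ⟨i, rfl⟩ := Subgroup.mem_zpowers_iff.mp hz
      obtain ⟨s, hs⟩ := Subgroup.mem_zpowers_iff.mp (hAn.conj_mem a (Subgroup.mem_zpowers a) y)
      refine Subgroup.mem_zpowers_iff.mpr ⟨s * i, ?_⟩
      have e : y * a ^ 2 * y⁻¹ = (a ^ 2) ^ s := by
        rw [← conj_pow, ← hs, ← zpow_natCast, ← zpow_natCast, ← zpow_mul, ← zpow_mul, mul_comm]
      rw [zpow_mul, ← e, ← conj_zpow]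
    have hZi : Z.index = 4 := by
      have h1 := Subgroup.card_mul_index Z
      rw [Nat.card_zpowers, orderOf_pow_of_dvd two_ne_zero (by rw [hoj]; exact dvd_pow_self 2 (by omega)),
        hoj, hP, pow_succ, Nat.mul_div_cancel _ two_pos, show n = k + 2 by omega, pow_add] at h1
      have := Nat.eq_of_mul_eq_mul_left (pow_pos two_pos k) h1
      omega
    have hle : commutator ↥(P : Subgroup G) ≤ Z := by
      haveI := hZn
      have hc4 : Nat.card (↥(P : Subgroup G) ⧸ Z) = 2 ^ 2 := by rw [← Subgroup.index_eq_card, hZi]; norm_num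
      rw [← QuotientGroup.ker_mk' Z, commutator_def, Subgroup.commutator_le]
      intro u _ v _
      rw [MonoidHom.mem_ker, map_commutatorElement, commutatorElement_eq_one_iff_mul_comm]
      exact IsPGroup.commutative_of_card_eq_prime_sq hc4 _ _
    rw [le_antisymm hle (Subgroup.zpowers_le.mpr ha2)]
    exact hZi


/-- Let G be a finite group with Sylow 2-subgroup P of order 2^n ≥ 8, and let ζ be a primitive 2^(n−1)-th root of unity in ℂ. Then the commutator subgroup of P has index 4 in P if and only if there is an element g of P whose conjugacy class in G has even size and such that the field generated over ℚ by the values at g of all irreducible complex characters of G equals ℚ(ζ + ζ⁻¹) or ℚ(ζ − ζ⁻¹). -/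
theorem result {G : Type*} [Group G] [Finite G] (P : Sylow 2 G) (n : ℕ) (hn : 3 ≤ n) (hP : Nat.card P = 2 ^ n) (ζ : ℂ) (hζ : IsPrimitiveRoot ζ (2 ^ (n - 1))) :
    (commutator ↥P).index = 4 ↔
      ∃ g : G, g ∈ (P : Subgroup G) ∧ 2 ∣ (Subgroup.centralizer ({g} : Set G)).index ∧
        (IntermediateField.adjoin ℚ {z : ℂ | ∃ χ : Cfsg.IrrCharacter G, (χ : G → ℂ) g = z} = IntermediateField.adjoin ℚ ({ζ + ζ⁻¹} : Set ℂ) ∨
          IntermediateField.adjoin ℚ {z : ℂ | ∃ χ : Cfsg.IrrCharacter G, (χ : G → ℂ) g = z} = IntermediateField.adjoin ℚ ({ζ - ζ⁻¹} : Set ℂ)) := by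
  exact ⟨exists_element P n hn hP ζ hζ, fun ⟨g, h1, h2, h3⟩ =>
    commutator_index_eq_four P n hn hP ζ hζ g h1 h2 h3⟩

end Cfsg.Agent.S4923
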