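import Cfsg.Statements.S4931
import Cfsg.Agent.Lib.Transfer.Tate
import Cfsg.Agent.Lib.Transfer.NormalComplement
import Cfsg.Agent.Lib.Characters.Ito
import Cfsg.Agent.Lib.Characters.Clifford
import Cfsg.Agent.Lib.Characters.Values
import Cfsg.Agent.Lib.Characters.Decomp
import Cfsg.Agent.Lib.PGroup.Frattini

set_option autoImplicit false
open Cfsg

namespace Cfsg.Agent.S4931

open scoped commutatorElement

open CfsgLib.Characters

variable {G : Type*} [Group G] [Finite G]

/-- The kernel of an irreducible character. -/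
theorem exists_kernel (χ : Cfsg.IrrCharacter G) :
    ∃ K : Subgroup G, K.Normal ∧ ∀ g, g ∈ K ↔ (χ : G → ℂ) g = (χ : G → ℂ) 1 := by
  obtain ⟨-, n, ρ, hρ, rfl⟩ := χ
  refine ⟨MonoidHom.ker ρ, MonoidHom.normal_ker _, fun g => ?_⟩
  change g ∈ MonoidHom.ker ρ ↔ ρ.character g = ρ.character 1
  rw [MonoidHom.mem_ker, show ρ.character 1 = (Module.finrank ℂ (Fin n → ℂ) : ℂ) from
    Representation.char_one ρ, char_eq_degree_iff]
  rfl

/-- The irreducible characters of a quotient separate it. -/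
theorem eq_one_of_forall_irr (x : G) (h : ∀ θ : Cfsg.IrrCharacter G, (θ : G → ℂ) x = (θ : G → ℂ) 1) :
    x = 1 := by
  haveI := Fintype.ofFinite G
  exact isConj_one_right.mp ((isConj_iff_irr 1 x).mpr fun θ => (h θ).symm)

variable (p : ℕ) [Fact p.Prime] (P : Sylow p G)

/-- A homomorphism from a subgroup onto the quotient by a complement. -/
theorem complement_gives_extension (N K : Subgroup G) [K.Normal] (h1 : K ⊔ N = ⊤) (h2 : K ⊓ N = ⊥)
    (θ : Cfsg.IrrCharacter N) :
    ∃ χ : Cfsg.IrrCharacter G, ∀ x : N, (χ : G → ℂ) x = (θ : N → ℂ) x := by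
  haveI := Fintype.ofFinite G
  let φ : N →* G ⧸ K := (QuotientGroup.mk' K).comp N.subtype
  have hφ : Function.Bijective φ := by
    constructor
    · rw [injective_iff_map_eq_one]
      intro x hx
      have : (x : G) ∈ K ⊓ N := ⟨(QuotientGroup.eq_one_iff _).mp hx, x.2⟩
      rw [h2, Subgroup.mem_bot] at this
      exact Subtype.ext this
    · intro y
      induction y using QuotientGroup.induction_on with
      | _ g =>
        obtain ⟨k, hk, n, hn, rfl⟩ :=
          Subgroup.mem_sup_of_normal_left.mp (show g ∈ K ⊔ N by rw [h1]; trivial)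
        refine ⟨⟨n, hn⟩, ?_⟩
        change ((n : G) : G ⧸ K) = ((k * n : G) : G ⧸ K)
        rw [QuotientGroup.mk_mul, (QuotientGroup.eq_one_iff k).mpr hk, one_mul]
  let e : N ≃* G ⧸ K := MulEquiv.ofBijective φ hφ
  have h3 := CfsgLib.Clifford.isIrrCharacter_pullback θ.2
    (e.symm.toMonoidHom.comp (QuotientGroup.mk' K))
    (e.symm.surjective.comp (QuotientGroup.mk'_surjective K))
  refine ⟨⟨_, h3⟩, fun x => congrArg (θ : N → ℂ) ?_⟩
  exact e.symm_apply_apply x

/-- If all characters of the normalizer of degree prime to `p` extend then there is a complement. -/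
theorem complement_of_extensions
    (hext : ∀ θ : Cfsg.IrrCharacter (Subgroup.normalizer ((P : Subgroup G) : Set G)),
      ¬ p ∣ Cfsg.charDegree (θ : Subgroup.normalizer ((P : Subgroup G) : Set G) → ℂ) →
      ∃ χ : Cfsg.IrrCharacter G, ∀ x : Subgroup.normalizer ((P : Subgroup G) : Set G),
        (χ : G → ℂ) x = (θ : Subgroup.normalizer ((P : Subgroup G) : Set G) → ℂ) x) :
    ∃ K : Subgroup G, K.Normal ∧ K ⊔ Subgroup.normalizer ((P : Subgroup G) : Set G) = ⊤ ∧
      K ⊓ Subgroup.normalizer ((P : Subgroup G) : Set G) = ⊥ := by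
  classical
  have hp : p.Prime := Fact.out
  haveI := Fintype.ofFinite G
  set N := Subgroup.normalizer ((P : Subgroup G) : Set G) with hN
  have hPN : (P : Subgroup G) ≤ N := Subgroup.le_normalizer
  let P₁ : Subgroup N := (P : Subgroup G).subgroupOf N
  haveI hP₁n : P₁.Normal := Subgroup.normal_in_normalizer
  let D : Subgroup N := ⁅P₁, P₁⁆
  haveI hDn : D.Normal := inferInstanceAs (⁅P₁, P₁⁆).Normal
  have hDP : D ≤ P₁ := Subgroup.commutator_le_self P₁
  have hP₁i : ¬ p ∣ P₁.index := fun hd =>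
    P.not_dvd_index (hd.trans ((Subgroup.relIndex_mul_index hPN) ▸ dvd_mul_right _ _))
  -- a character of `N ⧸ D` extends
  have hxD : ∀ θ : Cfsg.IrrCharacter (N ⧸ D), ∃ χ : Cfsg.IrrCharacter G,
      ∀ x : N, (χ : G → ℂ) x = (θ : N ⧸ D → ℂ) (x : N ⧸ D) := by
    intro θ
    have hsurj := QuotientGroup.mk'_surjective D
    have hinfl := CfsgLib.Clifford.isIrrCharacter_pullback θ.2 (QuotientGroup.mk' D) hsurj
    refine hext ⟨_, hinfl⟩ ?_
    have hA : (P₁.map (QuotientGroup.mk' D)).Normal := hP₁n.map _ hsurj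
    obtain ⟨d, hd, hdvd⟩ := CfsgLib.CharIto.degree_dvd_index_of_abelian_normal θ.2 _ hA (by
      rintro _ ⟨a, ha, rfl⟩ _ ⟨b, hb, rfl⟩
      rw [← commutatorElement_eq_one_iff_mul_comm, ← map_commutatorElement]
      exact (QuotientGroup.eq_one_iff _).mpr (Subgroup.commutator_mem_commutator ha hb))
    have hdeg : Cfsg.charDegree (fun x => (θ : N ⧸ D → ℂ) (QuotientGroup.mk' D x)) = d := by
      simp [Cfsg.charDegree, hd]
    change ¬ p ∣ Cfsg.charDegree (fun x => (θ : N ⧸ D → ℂ) (QuotientGroup.mk' D x))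
    rw [hdeg]
    intro hpd
    refine hP₁i ((hpd.trans hdvd).trans ?_)
    exact Subgroup.index_map_dvd _ hsurj
  choose χ hχ using hxD
  choose Ker hKern hKer using fun θ => exists_kernel (χ θ)
  -- `K ∩ N` is the derived subgroup of `P`
  let K : Subgroup G := ⨅ θ, Ker θ
  haveI hKn : K.Normal := Subgroup.normal_iInf_normal hKern
  have hKN : ∀ x : N, (x : G) ∈ K ↔ x ∈ D := by
    intro x
    simp only [K, Subgroup.mem_iInf, hKer]
    constructor
    · intro h
      rw [← QuotientGroup.eq_one_iff]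
      refine eq_one_of_forall_irr _ fun θ => ?_
      have := h θ
      rw [hχ θ x, ← Subgroup.coe_one N, hχ θ 1] at this
      exact this
    · intro h θ
      rw [hχ θ x, (QuotientGroup.eq_one_iff x).mpr h, ← Subgroup.coe_one N, hχ θ 1]
      rfl
  -- the subgroup generated by the conjugates of `P`
  set M : Subgroup G := Subgroup.normalClosure ((P : Subgroup G) : Set G) with hM
  have hPM : (P : Subgroup G) ≤ M := Subgroup.le_normalClosure
  haveI hMn : M.Normal := Subgroup.normalClosure_normal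
  have hMN : ∀ x : N, (x : G) ∈ M → x ∈ P₁ := by
    intro x hx
    rw [← QuotientGroup.eq_one_iff]
    refine eq_one_of_forall_irr _ fun ω => ?_
    let π : N ⧸ D →* N ⧸ P₁ := QuotientGroup.map D P₁ (MonoidHom.id N) hDP
    have hπ : Function.Surjective π := fun y => by
      induction y using QuotientGroup.induction_on with
      | _ a => exact ⟨(a : N ⧸ D), rfl⟩
    let θ : Cfsg.IrrCharacter (N ⧸ D) :=
      ⟨_, CfsgLib.Clifford.isIrrCharacter_pullback ω.2 π hπ⟩
    have hMK : M ≤ Ker θ := by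
      haveI := hKern θ
      refine Subgroup.normalClosure_le_normal fun y hy => ?_
      rw [SetLike.mem_coe, hKer θ, show y = ((⟨y, hPN hy⟩ : N) : G) from rfl, hχ θ,
        ← Subgroup.coe_one N, hχ θ 1]
      change (ω : N ⧸ P₁ → ℂ) ((⟨y, hPN hy⟩ : N) : N ⧸ P₁) = (ω : N ⧸ P₁ → ℂ) ((1 : N) : N ⧸ P₁)
      rw [(QuotientGroup.eq_one_iff (N := P₁) _).mpr (show (⟨y, hPN hy⟩ : N) ∈ P₁ from hy),
        QuotientGroup.mk_one]
    have := (hKer θ x).mp (hMK hx)
    rw [hχ θ x, ← Subgroup.coe_one N, hχ θ 1] at this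
    exact this
  -- `M` modulo `K ∩ M`
  let K₀ : Subgroup M := K.subgroupOf M
  haveI : K₀.Normal := hKn.subgroupOf M
  let PM : Sylow p M := P.subtype hPM
  have hPMcoe : (PM : Subgroup M) = (P : Subgroup G).subgroupOf M := P.coe_subtype hPM
  let Pq : Sylow p (M ⧸ K₀) := PM.mapSurjective (QuotientGroup.mk'_surjective K₀)
  have hPq : (Pq : Subgroup (M ⧸ K₀)) = (PM : Subgroup M).map (QuotientGroup.mk' K₀) := rfl
  have hcompl : Cfsg.HasNormalPComplement p (M ⧸ K₀) := by
    refine CfsgLib.Transfer.hasNormalPComplement_of_normalizer_le Pq fun y hy => ?_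
    have habel : ∀ a ∈ (Pq : Subgroup (M ⧸ K₀)), ∀ b ∈ (Pq : Subgroup (M ⧸ K₀)), a * b = b * a := by
      rw [hPq]
      rintro _ ⟨a, ha, rfl⟩ _ ⟨b, hb, rfl⟩
      rw [← commutatorElement_eq_one_iff_mul_comm, ← map_commutatorElement]
      refine (QuotientGroup.eq_one_iff _).mpr ?_
      rw [hPMcoe] at ha hb
      exact (hKN ⁅(⟨(a : G), hPN ha⟩ : N), ⟨(b : G), hPN hb⟩⁆).mpr
        (Subgroup.commutator_mem_commutator ha hb)
    suffices hy' : y ∈ (Pq : Subgroup (M ⧸ K₀)) from
      Subgroup.mem_centralizer_iff.mpr fun b hb => habel b hb y hy'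
    obtain ⟨x, rfl⟩ := QuotientGroup.mk_surjective y
    let U : Subgroup M := (Pq : Subgroup (M ⧸ K₀)).comap (QuotientGroup.mk' K₀)
    have hPU : (PM : Subgroup M) ≤ U := fun a ha => Subgroup.mem_map_of_mem _ ha
    have hxU : ((x • PM : Sylow p M) : Subgroup M) ≤ U := by
      rw [Sylow.coe_subgroup_smul]
      intro a ha
      obtain ⟨b, hb, rfl⟩ := ha
      change QuotientGroup.mk' K₀ (x * b * x⁻¹) ∈ (Pq : Subgroup (M ⧸ K₀))
      rw [map_mul, map_mul, map_inv]
      exact (Subgroup.mem_normalizer_iff.mp hy _).mp (hPU hb)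
    obtain ⟨u, hu⟩ := MulAction.exists_smul_eq U ((x • PM).subtype hxU) (PM.subtype hPU)
    rw [Sylow.smul_subtype] at hu
    have hu' : (u : M) • x • PM = PM := Sylow.subtype_injective hu
    rw [← mul_smul, Sylow.smul_eq_iff_mem_normalizer] at hu'
    replace hu' : ∀ g : M, (g : G) ∈ (P : Subgroup G) ↔
        (((u : M) * x * g * ((u : M) * x)⁻¹ : M) : G) ∈ (P : Subgroup G) := fun g => by
      have h := Subgroup.mem_normalizer_iff.mp hu' g
      rwa [hPMcoe, Subgroup.mem_subgroupOf, Subgroup.mem_subgroupOf] at h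
    have hNx : (((u : M) * x : M) : G) ∈ N := by
      refine Subgroup.mem_normalizer_iff.mpr fun g => ?_
      constructor
      · intro hg
        exact (hu' ⟨g, hPM hg⟩).mp hg
      · intro hg
        have hgM : g ∈ M := by
          have h := hMn.conj_mem _ (hPM hg) (((u : M) * x : M) : G)⁻¹
          simpa [mul_assoc] using h
        exact (hu' ⟨g, hgM⟩).mpr hg
    have hP' := hMN ⟨_, hNx⟩ ((u : M) * x).2
    have h5 : (u : M) * x ∈ U := hPU (hPMcoe ▸ hP')
    exact (U.mul_mem_cancel_left u.2).mp h5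
  -- Tate
  have hM' : Cfsg.HasNormalPComplement p M := by
    refine CfsgLib.Transfer.hasNormalPComplement_of_inf_le_frattini PM fun x hx => ?_
    have hxq : ((x : M) : M ⧸ K₀) = 1 := by
      have h1 : ((x : M) : M ⧸ K₀) ∈ Cfsg.pResidual p (M ⧸ K₀) :=
        (CfsgLib.Transfer.map_pResidual_of_surjective (p := p) (QuotientGroup.mk' K₀)
          (QuotientGroup.mk'_surjective K₀)).le (Subgroup.mem_map_of_mem _ hx.2)
      have h2 := CfsgLib.Transfer.hasNormalPComplement_iff.mp hcompl
      obtain ⟨k, hk⟩ := PM.2 ⟨x, hx.1⟩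
      refine orderOf_eq_one_iff.mp (Nat.eq_one_of_dvd_coprimes
        ((hp.coprime_iff_not_dvd.mpr h2).pow_left k) (orderOf_dvd_of_pow_eq_one ?_)
        ((Subgroup.orderOf_dvd_natCard _ h1)))
      rw [← QuotientGroup.mk_pow, show (x : M) ^ p ^ k = 1 from by simpa using congrArg Subtype.val hk,
        QuotientGroup.mk_one]
    have hxK : ((x : M) : G) ∈ K := (QuotientGroup.eq_one_iff (N := K₀) (x : M)).mp hxq
    have hxP : ((x : M) : G) ∈ (P : Subgroup G) := by
      have := hx.1
      rw [hPMcoe] at this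
      exact this
    have hxD : (⟨_, hPN hxP⟩ : N) ∈ D := (hKN ⟨_, hPN hxP⟩).mp hxK
    let j : PM →* G := M.subtype.comp (PM : Subgroup M).subtype
    have hjr : j.range = (P : Subgroup G) := by
      rw [MonoidHom.range_comp, Subgroup.range_subtype, hPMcoe, Subgroup.subgroupOf_map_subtype,
        inf_eq_left.mpr hPM]
    have hDsub : D.map N.subtype = (commutator PM).map j := by
      rw [commutator_def, Subgroup.map_commutator, Subgroup.map_commutator, ← MonoidHom.range_eq_map,
        hjr, Subgroup.subgroupOf_map_subtype, inf_eq_left.mpr hPN]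
    obtain ⟨z, hz, hzx⟩ : ((x : M) : G) ∈ (commutator PM).map j :=
      hDsub ▸ Subgroup.mem_map_of_mem N.subtype hxD
    refine ⟨z, ?_, Subtype.ext hzx⟩
    exact CfsgLib.PGroup.commutator_le_frattini PM.2 hz
  obtain ⟨P₂, L₀, hL₀n, hL₀c⟩ := hM'
  haveI := hL₀n
  obtain ⟨hL₀eq, hL₀card⟩ := CfsgLib.Transfer.eq_pResidual_of_isComplement' P₂ L₀ hL₀c
  haveI : L₀.Characteristic := hL₀eq ▸ CfsgLib.Transfer.pResidual_characteristic
  let L : Subgroup G := L₀.map M.subtype
  refine ⟨L, inferInstanceAs (L₀.map M.subtype).Normal, ?_, ?_⟩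
  · have hPL : M ≤ L ⊔ N := by
      have h1 : L₀ ⊔ (PM : Subgroup M) = ⊤ := by
        refine CfsgLib.Transfer.eq_top_of_pResidual_le (p := p) (hL₀eq ▸ le_sup_left) fun hd => ?_
        exact PM.not_dvd_index (hd.trans (Subgroup.index_dvd_of_le le_sup_right))
      intro m hm
      have h2 : (⟨m, hm⟩ : M) ∈ L₀ ⊔ (PM : Subgroup M) := h1 ▸ Subgroup.mem_top _
      obtain ⟨l, hl, q, hq, hlq⟩ := Subgroup.mem_sup_of_normal_left.mp h2
      rw [show m = (l : G) * q from (congrArg Subtype.val hlq).symm]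
      rw [hPMcoe] at hq
      exact Subgroup.mul_mem_sup (Subgroup.mem_map_of_mem M.subtype hl) (hPN hq)
    refine top_le_iff.mp ?_
    calc (⊤ : Subgroup G) = Subgroup.normalizer ((P : Subgroup G) : Set G) ⊔ M := by
          have := Sylow.normalizer_sup_eq_top (PM)
          rw [hPMcoe, Subgroup.subgroupOf_map_subtype, inf_eq_left.mpr hPM] at this
          exact this.symm
      _ ≤ L ⊔ N := sup_le le_sup_right hPL
  · rw [Subgroup.eq_bot_iff_forall]
    rintro x ⟨⟨l, hl, rfl⟩, hxN⟩
    have hlP := hMN ⟨_, hxN⟩ l.2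
    obtain ⟨k, hk⟩ := P.2 ⟨(l : G), hlP⟩
    have h1 : l ^ p ^ k = 1 := Subtype.ext (by simpa using congrArg Subtype.val hk)
    have h2 : orderOf l = 1 := Nat.eq_one_of_dvd_coprimes
      ((hp.coprime_iff_not_dvd.mpr hL₀card).pow_left k) (orderOf_dvd_of_pow_eq_one h1)
      (Subgroup.orderOf_dvd_natCard L₀ hl)
    rw [orderOf_eq_one_iff.mp h2]
    rfl


/-- Let G be a finite group, p a prime and P a Sylow p-subgroup of G with normalizer N. Then every irreducible complex character of N of degree not divisible by p is the restriction of an irreducible character of G if and only if there is a normal subgroup K of G with KN = G and K ∩ N = 1. -/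
theorem result {G : Type*} [Group G] [Finite G] (p : ℕ) [Fact p.Prime] (P : Sylow p G) :
    (∀ θ : Cfsg.IrrCharacter ↥(Subgroup.normalizer ((P : Subgroup G) : Set G)), ¬ p ∣ Cfsg.charDegree (θ : ↥(Subgroup.normalizer ((P : Subgroup G) : Set G)) → ℂ) →
        ∃ χ : Cfsg.IrrCharacter G, ∀ x : ↥(Subgroup.normalizer ((P : Subgroup G) : Set G)), (χ : G → ℂ) x = (θ : ↥(Subgroup.normalizer ((P : Subgroup G) : Set G)) → ℂ) x) ↔
      ∃ K : Subgroup G, K.Normal ∧ K ⊔ Subgroup.normalizer ((P : Subgroup G) : Set G) = ⊤ ∧ K ⊓ Subgroup.normalizer ((P : Subgroup G) : Set G) = ⊥ := by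
  exact ⟨complement_of_extensions p P, fun ⟨K, hK, h1, h2⟩ θ _ =>
    haveI := hK; complement_gives_extension _ K h1 h2 θ⟩

end Cfsg.Agent.S4931
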