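import Cfsg.Statements.S4930
import Cfsg.Agent.S4931
import Cfsg.Agent.Lib.CharCorr.PGroup
import Cfsg.Agent.Lib.CharCorr.Solvable
import Cfsg.Agent.Lib.Characters.Induction
import Cfsg.Agent.Lib.Characters.LinearExt
import Cfsg.Agent.Lib.Chars17.IrrBasic

set_option autoImplicit false
open Cfsg

namespace Cfsg.Agent.S4930

open CfsgLib.Characters
open scoped ComplexConjugate commutatorElement

variable {G : Type*} [Group G] [Finite G]

theorem natDegree_eq (χ : IrrCharacter G) :
    ((Cfsg.charDegree (χ : G → ℂ) : ℕ) : ℂ) = (χ : G → ℂ) 1 :=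
  (CfsgLib.CharCorr.irr_one_eq_charDegree χ).symm

/-- A character of odd degree is trivial on the derived group of a normal 2-subgroup. -/
theorem derived_le_irrKer (Q : Subgroup G) (hQn : Q.Normal) (hQ : IsPGroup 2 Q)
    (θ : IrrCharacter G) (hθ : ¬ 2 ∣ Cfsg.charDegree (θ : G → ℂ)) :
    ⁅Q, Q⁆ ≤ CfsgLib.Chars17.irrKer θ := by
  classical
  haveI := Fintype.ofFinite G
  haveI : Fintype Q := Fintype.ofFinite _
  haveI := hQn
  intro x hx
  rw [CfsgLib.Chars17.mem_irrKer]
  have hres := CfsgLib.Clifford.isCharacter_subtype (irr_isCharacter θ) Q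
  have hne : (fun n : Q => (θ : G → ℂ) n) ≠ 0 := fun h0 => irr_one_ne_zero θ (congrFun h0 1)
  obtain ⟨l, hl⟩ := CfsgLib.Clifford.exists_constituent hres hne
  -- the constituents are linear
  have hdeg := CfsgLib.Clifford.clifford_degree hQn θ.2 l.2 hl
  obtain ⟨e, he⟩ := classInner_char_nat hres (irr_isCharacter l)
  rw [he, ← natDegree_eq θ, ← natDegree_eq l] at hdeg
  have hdeg' : Cfsg.charDegree (θ : G → ℂ) =
      e * (CfsgLib.Clifford.inertia hQn (l : Q → ℂ)).index * Cfsg.charDegree (l : Q → ℂ) := by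
    exact_mod_cast hdeg
  have hl1 : (l : Q → ℂ) 1 = 1 := by
    obtain ⟨k, hk⟩ := IsPGroup.iff_card.1 hQ
    obtain ⟨i, -, hi⟩ := (Nat.dvd_prime_pow Nat.prime_two).1
      (hk ▸ CfsgLib.CharCorr.charDegree_irr_dvd_card l)
    rw [← natDegree_eq l, hi]
    rcases i with _ | i
    · simp
    · exact absurd (hdeg'.symm ▸ dvd_mul_of_dvd_right (hi ▸ dvd_pow_self 2 i.succ_ne_zero) _) hθ
  obtain ⟨f, hf⟩ := CfsgLib.LinearExt.exists_unitsHom (irr_isCharacter l) hl1
  -- the derived group lies in every conjugate of the kernel of `f`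
  have hker : ⁅Q, Q⁆ ≤ f.ker.map Q.subtype := by
    rw [Subgroup.commutator_le]
    intro a ha b hb
    refine ⟨⁅(⟨a, ha⟩ : Q), ⟨b, hb⟩⁆, ?_, rfl⟩
    rw [SetLike.mem_coe, MonoidHom.mem_ker, map_commutatorElement, commutatorElement_eq_one_iff_mul_comm]
    exact mul_comm _ _
  have hxQ : x ∈ Q := Subgroup.commutator_le_self Q hx
  have hval : ∀ ψ ∈ (CfsgLib.Clifford.conjOrbit_finite hQn (l : Q → ℂ)).toFinset,
      ψ ⟨x, hxQ⟩ = ψ 1 := by
    intro ψ hψ
    obtain ⟨g, rfl⟩ := (CfsgLib.Clifford.conjOrbit_finite hQn (l : Q → ℂ)).mem_toFinset.1 hψ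
    rw [CfsgLib.Clifford.conjChar_apply_one, hl1]
    haveI : (⁅Q, Q⁆).Normal := inferInstance
    obtain ⟨y, hy, hyg⟩ := hker ((inferInstance : (⁅Q, Q⁆).Normal).conj_mem x hx g)
    show (l : Q → ℂ) ⟨g * x * g⁻¹, _⟩ = 1
    rw [show (⟨g * x * g⁻¹, hQn.conj_mem x hxQ g⟩ : Q) = y from Subtype.ext hyg.symm, congrFun hf y,
      (show f y = 1 from hy), Units.val_one]
  have hcl := CfsgLib.Clifford.clifford hQn θ.2 l.2 hl
  have h1 := congrFun hcl ⟨x, hxQ⟩
  have h2 := congrFun hcl 1
  simp only [Pi.smul_apply, Finset.sum_apply] at h1 h2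
  rw [Finset.sum_congr rfl hval, ← h2] at h1
  exact h1

variable (P : Sylow 2 G)

/-- The derived group of the Sylow subgroup, inside the normalizer. -/
abbrev derivedIn : Subgroup (Subgroup.normalizer ((P : Subgroup G) : Set G)) :=
  ⁅(P : Subgroup G).subgroupOf (Subgroup.normalizer ((P : Subgroup G) : Set G)),
    (P : Subgroup G).subgroupOf (Subgroup.normalizer ((P : Subgroup G) : Set G))⁆

/-- The odd degree characters of the normalizer are those trivial on the derived group. -/
theorem odd_iff_derived (θ : IrrCharacter (Subgroup.normalizer ((P : Subgroup G) : Set G))) :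
    ¬ 2 ∣ Cfsg.charDegree (θ : Subgroup.normalizer ((P : Subgroup G) : Set G) → ℂ) ↔
      derivedIn P ≤ CfsgLib.Chars17.irrKer θ := by
  classical
  haveI hQn : ((P : Subgroup G).subgroupOf (Subgroup.normalizer ((P : Subgroup G) : Set G))).Normal := Subgroup.normal_in_normalizer
  refine ⟨derived_le_irrKer _ hQn (P.2.comap_subtype) θ, fun h => ?_⟩
  haveI : (derivedIn P).Normal := Subgroup.commutator_normal _ _
  obtain ⟨η, rfl⟩ := CfsgLib.Chars17.exists_infl_eq (derivedIn P) h
  haveI : Fintype ((Subgroup.normalizer ((P : Subgroup G) : Set G)) ⧸ derivedIn P) := Fintype.ofFinite _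
  have hsurj := QuotientGroup.mk'_surjective (derivedIn P)
  obtain ⟨d, hd, hdvd⟩ := CfsgLib.CharIto.degree_dvd_index_of_abelian_normal η.2 _
    (hQn.map (QuotientGroup.mk' (derivedIn P)) hsurj) (by
      rintro _ ⟨a, ha, rfl⟩ _ ⟨b, hb, rfl⟩
      rw [← commutatorElement_eq_one_iff_mul_comm, ← map_commutatorElement]
      exact (QuotientGroup.eq_one_iff _).mpr (Subgroup.commutator_mem_commutator ha hb))
  intro h2
  have hdeg : Cfsg.charDegree ((CfsgLib.Chars17.infl (derivedIn P) η : IrrCharacter (Subgroup.normalizer ((P : Subgroup G) : Set G))) : (Subgroup.normalizer ((P : Subgroup G) : Set G)) → ℂ) = d := by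
    simp [Cfsg.charDegree, CfsgLib.Chars17.infl_apply, hd]
  rw [hdeg] at h2
  refine P.not_dvd_index ((h2.trans hdvd).trans ((Subgroup.index_map_dvd _ hsurj).trans ?_))
  exact (Subgroup.relIndex_mul_index (Subgroup.le_normalizer : (P : Subgroup G) ≤ (Subgroup.normalizer ((P : Subgroup G) : Set G)))) ▸
    dvd_mul_right _ _

/-- The sum of the squares of the odd degrees of the normalizer. -/
theorem sum_odd_normalizer [Fintype (IrrCharacter (Subgroup.normalizer ((P : Subgroup G) : Set G)))]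
    [DecidablePred fun θ : IrrCharacter (Subgroup.normalizer ((P : Subgroup G) : Set G)) =>
      ¬ 2 ∣ Cfsg.charDegree (θ : Subgroup.normalizer ((P : Subgroup G) : Set G) → ℂ)] :
    Nat.card (commutator P) * ∑ θ ∈ Finset.univ.filter (fun θ :
        IrrCharacter (Subgroup.normalizer ((P : Subgroup G) : Set G)) =>
          ¬ 2 ∣ Cfsg.charDegree (θ : Subgroup.normalizer ((P : Subgroup G) : Set G) → ℂ)),
        Cfsg.charDegree (θ : Subgroup.normalizer ((P : Subgroup G) : Set G) → ℂ) ^ 2 =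
      Nat.card (Subgroup.normalizer ((P : Subgroup G) : Set G)) := by
  classical
  haveI hQn : ((P : Subgroup G).subgroupOf (Subgroup.normalizer ((P : Subgroup G) : Set G))).Normal := Subgroup.normal_in_normalizer
  haveI : (derivedIn P).Normal := Subgroup.commutator_normal _ _
  haveI : Fintype ((Subgroup.normalizer ((P : Subgroup G) : Set G)) ⧸ derivedIn P) := Fintype.ofFinite _
  rw [Finset.filter_congr (q := fun θ => derivedIn P ≤ CfsgLib.Chars17.irrKer θ)
    (fun θ _ => odd_iff_derived P θ), CfsgLib.Chars17.sum_filter_le_irrKer (derivedIn P)]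
  rw [Finset.sum_congr rfl fun η _ => show
    Cfsg.charDegree ((CfsgLib.Chars17.infl (derivedIn P) η : IrrCharacter (Subgroup.normalizer ((P : Subgroup G) : Set G))) : (Subgroup.normalizer ((P : Subgroup G) : Set G)) → ℂ) ^ 2 =
      Cfsg.charDegree (η : (Subgroup.normalizer ((P : Subgroup G) : Set G)) ⧸ derivedIn P → ℂ) ^ 2 by
    simp [Cfsg.charDegree, CfsgLib.Chars17.infl_apply],
    CfsgLib.Chars17.natSum_sq_degrees, Subgroup.card_eq_card_quotient_mul_card_subgroup (derivedIn P),
    mul_comm]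
  congr 1
  have hPN : (P : Subgroup G) ≤ (Subgroup.normalizer ((P : Subgroup G) : Set G)) := Subgroup.le_normalizer
  have e1 : (derivedIn P).map (Subgroup.normalizer ((P : Subgroup G) : Set G)).subtype = (commutator P).map (P : Subgroup G).subtype := by
    rw [commutator_def, Subgroup.map_commutator, Subgroup.map_commutator,
      Subgroup.subgroupOf_map_subtype, inf_eq_left.mpr hPN, ← MonoidHom.range_eq_map,
      Subgroup.range_subtype]
  rw [← Subgroup.card_map_of_injective (f := (P : Subgroup G).subtype) Subtype.val_injective,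
    ← Subgroup.card_map_of_injective (f := (Subgroup.normalizer ((P : Subgroup G) : Set G)).subtype) (K := derivedIn P) Subtype.val_injective, e1]

/-- With a normal complement every odd degree character is trivial on it. -/
theorem complement_le_irrKer (K : Subgroup G) (hK : K.Normal)
    (hKN : K ⊓ Subgroup.normalizer ((P : Subgroup G) : Set G) = ⊥) (χ : IrrCharacter G)
    (hχ : ¬ 2 ∣ Cfsg.charDegree (χ : G → ℂ)) : K ≤ CfsgLib.Chars17.irrKer χ := by
  classical
  haveI := hK
  haveI := Fintype.ofFinite G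
  haveI : Fintype K := Fintype.ofFinite _
  have hres := CfsgLib.Clifford.isCharacter_subtype (irr_isCharacter χ) K
  have hne : (fun n : K => (χ : G → ℂ) n) ≠ 0 := fun h0 => irr_one_ne_zero χ (congrFun h0 1)
  obtain ⟨l, hl⟩ := CfsgLib.Clifford.exists_constituent hres hne
  have hdeg := CfsgLib.Clifford.clifford_degree hK χ.2 l.2 hl
  obtain ⟨e, he⟩ := classInner_char_nat hres (irr_isCharacter l)
  rw [he, ← natDegree_eq χ, ← natDegree_eq l] at hdeg
  have hdeg' : Cfsg.charDegree (χ : G → ℂ) =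
      e * (CfsgLib.Clifford.inertia hK (l : K → ℂ)).index * Cfsg.charDegree (l : K → ℂ) := by
    exact_mod_cast hdeg
  set T := CfsgLib.Clifford.inertia hK (l : K → ℂ) with hT
  have hTodd : ¬ 2 ∣ T.index := fun h =>
    hχ (hdeg'.symm ▸ dvd_mul_of_dvd_left (dvd_mul_of_dvd_right h _) _)
  -- a Sylow subgroup inside the inertia group
  obtain ⟨R⟩ : Nonempty (Sylow 2 T) := inferInstance
  have hR : ¬ 2 ∣ ((R : Subgroup T).map T.subtype).index := by
    rw [Subgroup.index_map_subtype]
    exact (Nat.prime_two.dvd_mul).not.2 (fun h => h.elim R.not_dvd_index hTodd)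
  have hRp : IsPGroup 2 ((R : Subgroup T).map T.subtype) := R.2.map _
  let Q : Sylow 2 G := hRp.toSylow hR
  obtain ⟨g, hg⟩ := MulAction.exists_smul_eq G Q P
  -- a constituent fixed by `P`
  let l' : IrrCharacter K := ⟨CfsgLib.Clifford.conjChar hK (l : K → ℂ) g⁻¹,
    CfsgLib.Clifford.isIrrCharacter_conjChar hK l.2 g⁻¹⟩
  have hl' : classInner (fun n : K => (χ : G → ℂ) n) (l' : K → ℂ) ≠ 0 := by
    show classInner _ (CfsgLib.Clifford.conjChar hK (l : K → ℂ) g⁻¹) ≠ 0
    rw [CfsgLib.Clifford.classInner_res_conjChar hK (irr_isClassFunction χ)]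
    exact hl
  let act : (P : Subgroup G) →* MulAut K := MulAut.conjNormal.comp (P : Subgroup G).subtype
  have hinv : CfsgLib.CharCorr.Inv act l' := by
    intro s n
    have hs : g⁻¹ * (s : G) * g ∈ T := by
      have h1 : (s : G) ∈ ((g • Q : Sylow 2 G) : Subgroup G) := by rw [hg]; exact s.2
      rw [Sylow.coe_subgroup_smul, Subgroup.mem_pointwise_smul_iff_inv_smul_mem] at h1
      obtain ⟨y, -, hy⟩ := (show ((MulAut.conj g)⁻¹ • (s : G)) ∈ (R : Subgroup T).map T.subtype from h1)
      have h2 : (MulAut.conj g)⁻¹ • (s : G) = g⁻¹ * (s : G) * g := by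
        simp [MulAut.smul_def, mul_assoc]
      rw [← h2, ← hy]
      exact y.2
    have h3 := CfsgLib.Clifford.mem_inertia.1 hs
      ⟨g⁻¹ * (n : G) * g, by simpa using hK.conj_mem (n : G) n.2 g⁻¹⟩
    show (l : K → ℂ) _ = (l : K → ℂ) _
    refine ((congrArg (l : K → ℂ) ?_).trans h3).trans (congrArg (l : K → ℂ) ?_)
    · refine Subtype.ext ?_
      show g⁻¹ * ((act s n : K) : G) * g⁻¹⁻¹ = _
      simp [act, mul_assoc]
    · refine Subtype.ext ?_
      show g⁻¹ * (n : G) * g = g⁻¹ * (n : G) * g⁻¹⁻¹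
      rw [inv_inv]
  -- uniqueness of the fixed constituent
  have hfix : CfsgLib.CharCorr.IsFixedHom act (⊥ : Subgroup K).subtype := by
    refine ⟨Subgroup.subtype_injective _, fun s c => ?_, fun x hx => ⟨⟨x, ?_⟩, rfl⟩⟩
    · rw [show c = 1 from Subsingleton.elim _ _, map_one, map_one]
    · have hxN : (x : G) ∈ Subgroup.normalizer ((P : Subgroup G) : Set G) := by
        refine Subgroup.mem_normalizer_iff.mpr fun y => ?_
        have hc : ∀ y ∈ (P : Subgroup G), (x : G) * y * (x : G)⁻¹ = y := by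
          intro y hy
          have h4 : y * (x : G) * y⁻¹ = x := congrArg Subtype.val (hx ⟨y, hy⟩)
          rw [mul_inv_eq_iff_eq_mul] at h4 ⊢
          exact h4.symm
        refine ⟨fun hy => by rw [hc y hy]; exact hy, fun hy => ?_⟩
        have h5 := hc _ hy
        have h6 : (x : G) * y * (x : G)⁻¹ = y := mul_left_cancel (mul_right_cancel h5)
        rwa [h6] at hy
      have hmem : (x : G) ∈ K ⊓ Subgroup.normalizer ((P : Subgroup G) : Set G) := ⟨x.2, hxN⟩
      rw [hKN, Subgroup.mem_bot] at hmem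
      exact Subgroup.mem_bot.2 (Subtype.ext hmem)
  have hKodd : ¬ 2 ∣ Nat.card K := by
    intro h2
    obtain ⟨y, hy⟩ := exists_prime_orderOf_dvd_card' (G := K) 2 h2
    -- an element of order two lies in a conjugate of `P`
    have hy' : IsPGroup 2 (Subgroup.zpowers (y : G)) := IsPGroup.of_card (n := 1) (by
      rw [Nat.card_zpowers, pow_one, Subgroup.orderOf_coe, hy])
    obtain ⟨Q', hQ'⟩ := hy'.exists_le_sylow
    obtain ⟨a, ha⟩ := MulAction.exists_smul_eq G Q' P
    have hyP : a * (y : G) * a⁻¹ ∈ (P : Subgroup G) := by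
      rw [← ha, Sylow.coe_subgroup_smul]
      exact ⟨(y : G), hQ' (Subgroup.mem_zpowers _), by simp⟩
    have hmem : a * (y : G) * a⁻¹ ∈ K ⊓ Subgroup.normalizer ((P : Subgroup G) : Set G) :=
      ⟨hK.conj_mem _ y.2 a, Subgroup.le_normalizer hyP⟩
    rw [hKN, Subgroup.mem_bot, conj_eq_one_iff] at hmem
    rw [show y = 1 from Subtype.ext hmem, orderOf_one] at hy
    omega
  have h1 : CfsgLib.CharCorr.Inv act (principalIrr K) := fun s n => rfl
  have hl'eq : l' = principalIrr K := by
    obtain ⟨γ, hγ, -⟩ := CfsgLib.CharCorr.existsUnique_mult Nat.prime_two P.2 hfix hKodd hinv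
    obtain ⟨γ', hγ', -⟩ := CfsgLib.CharCorr.existsUnique_mult Nat.prime_two P.2 hfix hKodd h1
    have hγγ : γ' = γ := by
      refine Subtype.ext (funext fun c => ?_)
      have hd : ∀ δ : IrrCharacter (⊥ : Subgroup K), (δ : (⊥ : Subgroup K) → ℂ) 1 = 1 := fun δ => by
        have h := CfsgLib.CharCorr.charDegree_irr_dvd_card δ
        rw [Subgroup.card_bot, Nat.dvd_one] at h
        rw [← natDegree_eq δ, h, Nat.cast_one]
      rw [show c = 1 from Subsingleton.elim _ _, hd, hd]
    exact CfsgLib.CharCorr.mult_injective Nat.prime_two P.2 hfix hKodd hinv h1 hγ (hγγ ▸ hγ')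
  intro x hx
  rw [CfsgLib.Chars17.mem_irrKer]
  have hcl := CfsgLib.Clifford.clifford hK χ.2 l'.2 hl'
  have h2 := congrFun hcl ⟨x, hx⟩
  have h3 := congrFun hcl 1
  simp only [Pi.smul_apply, Finset.sum_apply] at h2 h3
  rw [Finset.sum_congr rfl (g := fun ψ : K → ℂ => ψ 1) (fun ψ hψ => ?_), ← h3] at h2
  · exact h2
  · obtain ⟨a, rfl⟩ := (CfsgLib.Clifford.conjOrbit_finite hK (l' : K → ℂ)).mem_toFinset.1 hψ
    rw [hl'eq]; rfl


/-- Let G be a finite group, P a Sylow 2-subgroup of G with normalizer N, and P′ the commutator subgroup of P. Then the sum of the squares of the degrees of the irreducible complex characters of G of odd degree is at least the index of P′ in N (the order of N divided by the order of P′), and equality holds if and only if N has a normal complement in G: a normal subgroup K of G with K ∩ N = 1 and KN = G. -/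
theorem result {G : Type*} [Group G] [Finite G] (P : Sylow 2 G) :
    Nat.card (Subgroup.normalizer ((P : Subgroup G) : Set G)) ≤ Nat.card (commutator ↥P) * (∑ᶠ χ : {χ : Cfsg.IrrCharacter G // ¬ 2 ∣ Cfsg.charDegree (χ : G → ℂ)}, Cfsg.charDegree (χ.1 : G → ℂ) ^ 2) ∧
    (Nat.card (Subgroup.normalizer ((P : Subgroup G) : Set G)) = Nat.card (commutator ↥P) * (∑ᶠ χ : {χ : Cfsg.IrrCharacter G // ¬ 2 ∣ Cfsg.charDegree (χ : G → ℂ)}, Cfsg.charDegree (χ.1 : G → ℂ) ^ 2) ↔
      ∃ K : Subgroup G, K.Normal ∧ K ⊓ Subgroup.normalizer ((P : Subgroup G) : Set G) = ⊥ ∧ K ⊔ Subgroup.normalizer ((P : Subgroup G) : Set G) = ⊤) := by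
  classical
  haveI := Fintype.ofFinite G
  set N := Subgroup.normalizer ((P : Subgroup G) : Set G) with hN
  haveI : Fintype N := Fintype.ofFinite _
  have hsumN := sum_odd_normalizer P
  have hfs : (∑ᶠ χ : {χ : Cfsg.IrrCharacter G // ¬ 2 ∣ Cfsg.charDegree (χ : G → ℂ)},
      Cfsg.charDegree (χ.1 : G → ℂ) ^ 2) = ∑ χ ∈ Finset.univ.filter
        (fun χ : IrrCharacter G => ¬ 2 ∣ Cfsg.charDegree (χ : G → ℂ)),
        Cfsg.charDegree (χ : G → ℂ) ^ 2 := by
    rw [finsum_eq_sum_of_fintype]
    exact (Finset.sum_subtype _ (by simp) (fun χ : IrrCharacter G =>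
      Cfsg.charDegree (χ : G → ℂ) ^ 2)).symm
  rw [hfs]
  set OG := Finset.univ.filter (fun χ : IrrCharacter G => ¬ 2 ∣ Cfsg.charDegree (χ : G → ℂ)) with hOG
  set ON := Finset.univ.filter (fun θ : IrrCharacter N => ¬ 2 ∣ Cfsg.charDegree (θ : N → ℂ)) with hON
  -- multiplicities
  have hm : ∀ (χ : IrrCharacter G) (θ : IrrCharacter N), ∃ m : ℕ,
      classInner (fun n : N => (χ : G → ℂ) n) (θ : N → ℂ) = m := fun χ θ =>
    classInner_char_nat (CfsgLib.Clifford.isCharacter_subtype (irr_isCharacter χ) N) (irr_isCharacter θ)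
  choose m hm using hm
  have hres : ∀ χ : IrrCharacter G, (fun n : N => (χ : G → ℂ) n) =
      ∑ θ : IrrCharacter N, (m χ θ : ℂ) • (θ : N → ℂ) := by
    intro χ
    obtain ⟨q, hq, hqs⟩ := CfsgLib.Clifford.exists_mult
      (CfsgLib.Clifford.isCharacter_subtype (irr_isCharacter χ) N)
    conv_lhs => rw [hqs]
    refine Finset.sum_congr rfl fun θ _ => ?_
    rw [← hm χ θ, hq θ]
  have hdeg : ∀ χ : IrrCharacter G, Cfsg.charDegree (χ : G → ℂ) =
      ∑ θ : IrrCharacter N, m χ θ * Cfsg.charDegree (θ : N → ℂ) := by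
    intro χ
    have h := congrFun (hres χ) 1
    simp only [Finset.sum_apply, Pi.smul_apply, smul_eq_mul, ← natDegree_eq] at h
    rw [show ((1 : N) : G) = 1 from rfl, ← natDegree_eq χ] at h
    exact_mod_cast h
  have hindex : ¬ 2 ∣ N.index := fun hd => P.not_dvd_index (hd.trans
    ((Subgroup.relIndex_mul_index (Subgroup.le_normalizer : (P : Subgroup G) ≤ N)) ▸ dvd_mul_left _ _))
  have hover : ∀ θ ∈ ON, ∃ χ ∈ OG, m χ θ ≠ 0 := by
    intro θ hθ
    simp only [hON, Finset.mem_filter, Finset.mem_univ, true_and] at hθ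
    by_contra hc
    push Not at hc
    obtain ⟨q, hq, hqs⟩ := CfsgLib.Clifford.exists_mult
      (CfsgLib.Induction.isCharacter_indFun N (irr_isCharacter θ))
    have hqm : ∀ χ, q χ = m χ θ := by
      intro χ
      have h := hq χ
      rw [CfsgLib.Induction.classInner_indFun N (θ : N → ℂ) (irr_isClassFunction χ),
        classInner_conj_symm, hm, Complex.conj_natCast] at h
      exact_mod_cast h.symm
    have h := congrFun hqs 1
    rw [CfsgLib.Induction.indFun_one_apply] at h
    simp only [Finset.sum_apply, Pi.smul_apply, smul_eq_mul, ← natDegree_eq, hqm] at h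
    have h2 : N.index * Cfsg.charDegree (θ : N → ℂ) =
        ∑ χ : IrrCharacter G, m χ θ * Cfsg.charDegree (χ : G → ℂ) := by exact_mod_cast h
    have h3 : 2 ∣ ∑ χ : IrrCharacter G, m χ θ * Cfsg.charDegree (χ : G → ℂ) := by
      refine Finset.dvd_sum fun χ _ => ?_
      by_cases hχ : χ ∈ OG
      · rw [hc χ hχ, zero_mul]; exact dvd_zero 2
      · simp only [hOG, Finset.mem_filter, Finset.mem_univ, true_and, not_not] at hχ
        exact dvd_mul_of_dvd_right hχ _
    rw [← h2] at h3
    exact (Nat.prime_two.dvd_mul.1 h3).elim hindex hθ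
  -- the two chains
  have hA : ∀ θ ∈ ON, Cfsg.charDegree (θ : N → ℂ) ^ 2 ≤
      ∑ χ ∈ OG, (m χ θ * Cfsg.charDegree (θ : N → ℂ)) ^ 2 := by
    intro θ hθ
    obtain ⟨χ, hχ, hne⟩ := hover θ hθ
    refine le_trans ?_ (Finset.single_le_sum (fun x _ => Nat.zero_le _) hχ)
    exact Nat.pow_le_pow_left (Nat.le_mul_of_pos_left _ (Nat.pos_of_ne_zero hne)) 2
  have hB : ∀ χ ∈ OG, ∑ θ ∈ ON, (m χ θ * Cfsg.charDegree (θ : N → ℂ)) ^ 2 ≤
      Cfsg.charDegree (χ : G → ℂ) ^ 2 := by
    intro χ _
    refine (Finset.sum_sq_le_sq_sum_of_nonneg fun θ _ => Nat.zero_le _).trans ?_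
    rw [hdeg χ]
    exact Nat.pow_le_pow_left (Finset.sum_le_sum_of_subset (Finset.subset_univ _)) 2
  have hle : ∑ θ ∈ ON, Cfsg.charDegree (θ : N → ℂ) ^ 2 ≤
      ∑ χ ∈ OG, Cfsg.charDegree (χ : G → ℂ) ^ 2 := by
    refine (Finset.sum_le_sum hA).trans ?_
    rw [Finset.sum_comm]
    exact Finset.sum_le_sum hB
  refine ⟨?_, ?_, ?_⟩
  · rw [← hsumN]; exact Nat.mul_le_mul_left _ hle
  · -- equality gives extensions
    intro heq
    have heq' : ∑ θ ∈ ON, Cfsg.charDegree (θ : N → ℂ) ^ 2 =
        ∑ χ ∈ OG, Cfsg.charDegree (χ : G → ℂ) ^ 2 :=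
      Nat.eq_of_mul_eq_mul_left Nat.card_pos (hsumN.trans heq)
    have hA' := (Finset.sum_eq_sum_iff_of_le hA).1 (le_antisymm (Finset.sum_le_sum hA)
      (by rw [heq', Finset.sum_comm]; exact Finset.sum_le_sum hB))
    have hB' := (Finset.sum_eq_sum_iff_of_le hB).1 (le_antisymm (Finset.sum_le_sum hB)
      (by rw [← heq', Finset.sum_comm]; exact Finset.sum_le_sum hA))
    obtain ⟨K, hK, hsup, hinf⟩ := Cfsg.Agent.S4931.complement_of_extensions 2 P fun θ hθ => by
      have hθ' : θ ∈ ON := Finset.mem_filter.2 ⟨Finset.mem_univ _, hθ⟩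
      obtain ⟨χ, hχ, hne⟩ := hover θ hθ'
      have hd0 : 0 < Cfsg.charDegree (θ : N → ℂ) := CfsgLib.CharCorr.charDegree_irr_pos θ
      have h1 := hA' θ hθ'
      have hm1 : m χ θ = 1 := by
        by_contra h
        have h4 : 2 ≤ m χ θ := by omega
        have h5 : (m χ θ * Cfsg.charDegree (θ : N → ℂ)) ^ 2 ≤ Cfsg.charDegree (θ : N → ℂ) ^ 2 :=
          h1 ▸ Finset.single_le_sum (f := fun χ => (m χ θ * Cfsg.charDegree (θ : N → ℂ)) ^ 2)
            (fun x _ => Nat.zero_le _) hχ
        have h6 := le_trans (Nat.mul_le_mul_right _ h4)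
          ((Nat.pow_le_pow_iff_left two_ne_zero).1 h5)
        omega
      have h2 := hB' χ hχ
      have hrest : ∀ η : IrrCharacter N, η ≠ θ → m χ η = 0 := by
        intro η hη
        by_contra h
        set a : IrrCharacter N → ℕ := fun ξ => m χ ξ * Cfsg.charDegree (ξ : N → ℂ) with ha
        have hda : Cfsg.charDegree (χ : G → ℂ) = a θ + ∑ ξ ∈ Finset.univ.erase θ, a ξ := by
          rw [hdeg χ, Finset.add_sum_erase _ a (Finset.mem_univ θ)]
        have hle2 : ∑ ξ ∈ ON, a ξ ^ 2 ≤ a θ ^ 2 + (∑ ξ ∈ Finset.univ.erase θ, a ξ) ^ 2 := by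
          rw [← Finset.add_sum_erase _ _ hθ']
          refine Nat.add_le_add_left ((Finset.sum_sq_le_sq_sum_of_nonneg
            fun ξ _ => Nat.zero_le _).trans (Nat.pow_le_pow_left
              (Finset.sum_le_sum_of_subset (Finset.erase_subset_erase _ (Finset.subset_univ _))) 2)) _
        have hpos : 0 < a η := Nat.mul_pos (Nat.pos_of_ne_zero h)
          (CfsgLib.CharCorr.charDegree_irr_pos η)
        have hpos2 : 0 < ∑ ξ ∈ Finset.univ.erase θ, a ξ :=
          lt_of_lt_of_le hpos (Finset.single_le_sum (f := a) (fun _ _ => Nat.zero_le _)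
            (Finset.mem_erase.2 ⟨hη, Finset.mem_univ η⟩))
        have hposθ : 0 < a θ := by simp [ha, hm1, hd0]
        change ∑ ξ ∈ ON, a ξ ^ 2 = Cfsg.charDegree (χ : G → ℂ) ^ 2 at h2
        rw [h2, hda] at hle2
        nlinarith [Nat.mul_pos hposθ hpos2]
      refine ⟨χ, fun x => ?_⟩
      have h3 := congrFun (hres χ) x
      rw [Finset.sum_apply, Finset.sum_eq_single θ (fun η _ hη => by simp [hrest η hη]) (by simp),
        Pi.smul_apply, hm1, Nat.cast_one, one_smul] at h3
      exact h3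
    exact ⟨K, hK, hinf, hsup⟩
  · -- a complement gives equality
    rintro ⟨K, hK, hinf, hsup⟩
    haveI := hK
    rw [← hsumN]
    congr 1
    haveI : Fintype (G ⧸ K) := Fintype.ofFinite _
    let φ : N →* G ⧸ K := (QuotientGroup.mk' K).comp N.subtype
    have hφ : Function.Bijective φ := by
      constructor
      · rw [injective_iff_map_eq_one]
        intro x hx
        have h : (x : G) ∈ K ⊓ N := ⟨(QuotientGroup.eq_one_iff _).mp hx, x.2⟩
        rw [hinf, Subgroup.mem_bot] at h
        exact Subtype.ext h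
      · intro y
        induction y using QuotientGroup.induction_on with
        | _ g =>
          obtain ⟨k, hk, n, hn, rfl⟩ :=
            Subgroup.mem_sup_of_normal_left.mp (show g ∈ K ⊔ N by rw [hsup]; trivial)
          refine ⟨⟨n, hn⟩, ?_⟩
          change ((n : G) : G ⧸ K) = ((k * n : G) : G ⧸ K)
          rw [QuotientGroup.mk_mul, (QuotientGroup.eq_one_iff k).mpr hk, one_mul]
    let e : N ≃* G ⧸ K := MulEquiv.ofBijective φ hφ
    refine Finset.sum_bij (fun θ _ => CfsgLib.Chars17.infl K (CfsgLib.CharCorr.twistIrr e.symm θ))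
      ?_ ?_ ?_ ?_
    · intro θ hθ
      simp only [hON, Finset.mem_filter, Finset.mem_univ, true_and] at hθ
      simpa [hOG, Cfsg.charDegree, CfsgLib.Chars17.infl_apply] using hθ
    · intro θ _ θ' _ h
      have h2 := CfsgLib.Chars17.infl_injective K h
      refine Subtype.ext (funext fun x => ?_)
      have h3 := congrFun (congrArg Subtype.val h2) (e x)
      simpa using h3
    · intro χ hχ
      simp only [hOG, Finset.mem_filter, Finset.mem_univ, true_and] at hχ
      obtain ⟨η, rfl⟩ := CfsgLib.Chars17.exists_infl_eq K (complement_le_irrKer P K hK hinf χ hχ)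
      have he : CfsgLib.CharCorr.twistIrr e.symm (CfsgLib.CharCorr.twistIrr e η) = η :=
        Subtype.ext (funext fun y => by simp)
      refine ⟨CfsgLib.CharCorr.twistIrr e η, ?_, by rw [he]⟩
      simpa [hON, Cfsg.charDegree, CfsgLib.Chars17.infl_apply] using hχ
    · intro θ _
      simp [Cfsg.charDegree, CfsgLib.Chars17.infl_apply]

end Cfsg.Agent.S4930
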