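import Cfsg.Statements.S4955
import Cfsg.Agent.Lib.KGV.Ito
import Cfsg.Agent.Lib.Chars17.IrrBasic
import Mathlib.Tactic.Group

set_option autoImplicit false
open Cfsg

namespace Cfsg.Agent.S4955

/-- Let X be a finite group with an abelian normal Sylow p-subgroup V (a normal p-subgroup of index prime to p in which any two elements commute), and let G be a complement to V in X. Then for every v in V, writing C for the centralizer of v in G, the number k(X) of conjugacy classes of X satisfies k(X) ≤ (order of C)·(order of V) − ((order of G) − k(G)); the statement is written with the subtracted term moved to the left. In particular, if some v in V is centralized by no nonidentity element of G, then k(X) is at most the order of V. -/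
theorem result {X : Type*} [Group X] [Finite X] (p : ℕ) [Fact p.Prime] (V : Subgroup X) [V.Normal] (hVp : IsPGroup p V) (hidx : ¬ p ∣ V.index) (hab : ∀ a ∈ V, ∀ b ∈ V, a * b = b * a) (G : Subgroup X) (hGV : Subgroup.IsComplement' V G) (v : X) (hv : v ∈ V) : Nat.card (ConjClasses X) + Nat.card G ≤ Nat.card ↥(G ⊓ Subgroup.centralizer ({v} : Set X)) * Nat.card V + Nat.card (ConjClasses G) := by
  classical
  haveI : Fintype X := Fintype.ofFinite X
  obtain ⟨k, hk⟩ := hVp ⟨v, hv⟩
  have hvk : v ^ p ^ k = 1 := congrArg Subtype.val hk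
  set C := Subgroup.centralizer ({v} : Set X) with hC
  have hnz : ∀ χ : Cfsg.IrrCharacter X, (χ : X → ℂ) v ≠ 0 := by
    intro χ
    obtain ⟨d, -, hd⟩ := CfsgLib.Characters.irr_exists_degree χ.2
    refine CfsgLib.KGV.char_pElement_ne_zero (Fact.out : p.Prime) (CfsgLib.Characters.irr_isCharacter χ) hd (fun hpd => hidx ?_) hvk
    exact hpd.trans (CfsgLib.KGV.irrDegree_dvd_abelian_index V inferInstance hab χ d hd)
  set S1 := (Finset.univ : Finset (Cfsg.IrrCharacter X)).filter fun χ => ¬ V ≤ CfsgLib.Chars17.irrKer χ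
  set S0 := (Finset.univ : Finset (Cfsg.IrrCharacter X)).filter fun χ => V ≤ CfsgLib.Chars17.irrKer χ
  have hQ : Nat.card (X ⧸ V) = Nat.card G := by
    rw [← Subgroup.index_eq_card]; exact hGV.symm.index_eq_card
  have hS0 : ∑ χ ∈ S0, (χ : X → ℂ) v * (starRingEnd ℂ) ((χ : X → ℂ) v) = (Nat.card G : ℂ) := by
    rw [show S0 = _ from rfl, CfsgLib.Chars17.sum_filter_le_irrKer V, ← hQ]
    have h := CfsgLib.Characters.sum_sq_degrees (G := X ⧸ V)
    rw [← h]
    refine Finset.sum_congr rfl fun η _ => ?_
    rw [CfsgLib.Chars17.infl_apply, (QuotientGroup.eq_one_iff v).2 hv, CfsgLib.Chars17.conj_irr_one η, sq]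
  have hS0card : S0.card = Nat.card (ConjClasses G) := by
    rw [Finset.card_eq_sum_ones, show S0 = _ from rfl, CfsgLib.Chars17.sum_filter_le_irrKer V, ← Finset.card_eq_sum_ones,
      Finset.card_univ, ← Nat.card_eq_fintype_card, CfsgLib.Characters.card_irr_eq_card_conjClasses]
    let e : G ≃* X ⧸ V := MulEquiv.ofBijective ((QuotientGroup.mk' V).comp G.subtype) (by
      rw [Nat.bijective_iff_injective_and_card]
      refine ⟨?_, hQ.symm⟩
      intro a b hab'
      have h1 : (a : X)⁻¹ * b ∈ V := QuotientGroup.eq.1 hab'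
      have h2 : (a : X)⁻¹ * b ∈ G := mul_mem (inv_mem a.2) b.2
      have h3 : (a : X)⁻¹ * b ∈ V ⊓ G := ⟨h1, h2⟩
      rw [hGV.disjoint.eq_bot, Subgroup.mem_bot, inv_mul_eq_one] at h3
      exact Subtype.ext h3)
    refine (Nat.card_congr ?_).symm
    refine Equiv.ofBijective (ConjClasses.map e.toMonoidHom) ⟨?_, ConjClasses.map_surjective e.surjective⟩
    intro a b
    obtain ⟨a, rfl⟩ := ConjClasses.mk_surjective a
    obtain ⟨b, rfl⟩ := ConjClasses.mk_surjective b
    intro h
    have h' := e.symm.toMonoidHom.map_isConj (ConjClasses.mk_eq_mk_iff_isConj.1 h)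
    exact ConjClasses.mk_eq_mk_iff_isConj.2 (by simpa using h')
  have hsum : ∑ χ ∈ S1, (χ : X → ℂ) v * (starRingEnd ℂ) ((χ : X → ℂ) v) = (Nat.card C : ℂ) - (Nat.card G : ℂ) := by
    have h := CfsgLib.Characters.column_orth v v
    rw [if_pos (IsConj.refl v), ← Finset.sum_filter_add_sum_filter_not Finset.univ (fun χ : Cfsg.IrrCharacter X => V ≤ CfsgLib.Chars17.irrKer χ), hS0] at h
    linear_combination h
  have key := CfsgLib.KGV.card_ne_zero_le_sum_normSq S1 (Nat.card_pos (α := X)) (fun χ => (χ : X → ℂ) v)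
    (fun χ _ => CfsgLib.KGV.char_mem_rootField (CfsgLib.Characters.irr_isCharacter χ) v)
    (fun χ _ => CfsgLib.KGV.char_isIntegral (CfsgLib.Characters.irr_isCharacter χ) v)
    ((Nat.card C : ℚ) - Nat.card G) (by push_cast; exact hsum)
  rw [Finset.filter_true_of_mem (fun χ _ => hnz χ)] at key
  have hcards : S0.card + S1.card = Nat.card (ConjClasses X) := by
    rw [← CfsgLib.Characters.card_irr_eq_card_conjClasses, Nat.card_eq_fintype_card, ← Finset.card_univ]
    exact Finset.card_filter_add_card_filter_not _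
  push_cast at key
  have h1 : S1.card + Nat.card G ≤ Nat.card C := by
    have : ((S1.card + Nat.card G : ℕ) : ℝ) ≤ (Nat.card C : ℝ) := by push_cast; linarith
    exact_mod_cast this
  have h2 : Nat.card C ≤ Nat.card ↥(G ⊓ C) * Nat.card V := by
    have hbij : Function.Bijective (fun p : V × G => (p.1 : X) * p.2) := hGV
    rw [mul_comm, ← Nat.card_prod]
    refine Nat.card_le_card_of_surjective (fun q : V × ↥(G ⊓ C) => (⟨(q.1 : X) * q.2,
      mul_mem (Subgroup.mem_centralizer_singleton_iff.2 (hab q.1 q.1.2 v hv)) q.2.2.2⟩ : C)) ?_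
    rintro ⟨c, hc⟩
    obtain ⟨⟨u, g⟩, hug⟩ := hbij.surjective c
    have hg : (g : X) ∈ C := by
      have : (g : X) = (u : X)⁻¹ * c := by rw [← hug]; group
      rw [this]
      exact mul_mem (inv_mem (Subgroup.mem_centralizer_singleton_iff.2 (hab u u.2 v hv))) hc
    exact ⟨(u, ⟨g, g.2, hg⟩), Subtype.ext hug⟩
  omega

end Cfsg.Agent.S4955
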