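import Cfsg.Statements.S4956
import Mathlib.Tactic.Group
import Mathlib.GroupTheory.CommutingProbability
import Mathlib.Tactic.Ring
import Mathlib.Algebra.BigOperators.Group.Finset.Lemmas
import Mathlib.Algebra.Group.Subgroup.Finite

set_option autoImplicit false
open Cfsg

namespace Cfsg.Agent.S4956

open scoped Classical in
theorem fibre_count {X : Type*} [Group X] [Finite X] (V : Subgroup X) [V.Normal]
    (hab : ∀ a ∈ V, ∀ b ∈ V, a * b = b * a) (G : Subgroup X)
    (hcop : (Nat.card V).Coprime (Nat.card G)) (g h : G) (hgh : Commute g h) :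
    Nat.card {p : V × V // Commute ((p.1 : X) * g) ((p.2 : X) * h)} =
      Nat.card V * Nat.card {v : V // Commute (v : X) g ∧ Commute (v : X) h} := by
  letI : CommGroup ↥V :=
    { (inferInstance : Group ↥V) with mul_comm := fun a b => Subtype.ext (hab a a.2 b b.2) }
  let c : G → V →* V := fun a => (MulAut.conjNormal (a : X) : MulAut V).toMonoidHom
  have hc : ∀ a v, ((c a v : V) : X) = a * v * (a : X)⁻¹ := fun a v => MulAut.conjNormal_apply _ _
  have hcm : ∀ a b v, c (a * b) v = c a (c b v) := by
    intro a b v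
    apply Subtype.ext
    simp only [hc, Subgroup.coe_mul, mul_inv_rev, mul_assoc]
  have hc1 : ∀ v, c 1 v = v := fun v => Subtype.ext (by simp [hc])
  let A : Subgroup G := Subgroup.closure {g, h}
  haveI : Fintype A := Fintype.ofFinite A
  haveI : Fintype V := Fintype.ofFinite V
  have hgA : g ∈ A := Subgroup.subset_closure (by simp)
  have hhA : h ∈ A := Subgroup.subset_closure (by simp)
  let L : V × V →* V :=
    { toFun := fun p => p.1 / c h p.1 * (c g p.2 / p.2)
      map_one' := by simp
      map_mul' := fun p q => by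
        simp only [Prod.fst_mul, Prod.snd_mul, map_mul, mul_div_mul_comm]
        exact mul_mul_mul_comm _ _ _ _ }
  let e : V →* V := ∏ a : A, c a
  have he : ∀ v, e v = ∏ a : A, c a v := fun v => MonoidHom.finsetProd_apply _ _ _
  have heA : ∀ a ∈ A, ∀ v, e (c a v) = e v := by
    intro a ha v
    rw [he, he]
    refine Fintype.prod_equiv (Equiv.mulRight ⟨a, ha⟩) _ _ fun b => ?_
    simp [← hcm]
  have hAe : ∀ a ∈ A, ∀ v, c a (e v) = e v := by
    intro a ha v
    rw [he, map_prod]
    refine Fintype.prod_equiv (Equiv.mulLeft ⟨a, ha⟩) _ _ fun b => ?_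
    simp [← hcm]
  let n := Nat.card A
  have hn : (Nat.card V).Coprime n := hcop.coprime_dvd_right (Subgroup.card_subgroup_dvd_card A)
  have hfix : ∀ v, (∀ a ∈ A, c a v = v) → e v = v ^ n := by
    intro v hv
    rw [he, Finset.prod_congr rfl fun (b : A) _ => hv (b : G) b.2, Finset.prod_const, Finset.card_univ, ← Nat.card_eq_fintype_card]
  have hrange : L.range = e.ker := by
    apply le_antisymm
    · rintro _ ⟨p, rfl⟩
      simp [MonoidHom.mem_ker, L, map_mul, map_div, heA g hgA, heA h hhA]
    · intro v hv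
      let T : Submonoid G :=
        { carrier := {a | ∀ w, w / c a w ∈ L.range}
          one_mem' := fun w => by rw [hc1, div_self']; exact one_mem _
          mul_mem' := by
            intro a b ha hb w
            have := mul_mem (hb w) (ha (c b w))
            rwa [div_mul_div_cancel, ← hcm] at this }
      have hTg : g ∈ T := fun w => ⟨(1, w⁻¹), by simp [L, div_eq_mul_inv, mul_comm]⟩
      have hTh : h ∈ T := fun w => ⟨(w, 1), by simp [L]⟩
      have hAT : A.toSubmonoid ≤ T := by
        rw [show A.toSubmonoid = Submonoid.closure ({g, h} : Set G) from Subgroup.closure_toSubmonoid_of_isOfFinOrder fun x _ => isOfFinOrder_of_finite x]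
        exact Submonoid.closure_le.2 (by rintro x (rfl | rfl) <;> assumption)
      have hp : v ^ n = ∏ a : A, (v / c a v) := by
        rw [Finset.prod_div_distrib, ← he, MonoidHom.mem_ker.1 hv, div_one, Finset.prod_const, Finset.card_univ, ← Nat.card_eq_fintype_card]
      have hvn : v ^ n ∈ L.range := hp ▸ Subgroup.prod_mem _ fun a _ => hAT a.2 v
      have : v = (v ^ n) ^ ((Nat.card V).gcdB n) := by
        have hb := Nat.gcd_eq_gcd_ab (Nat.card V) n
        rw [hn.gcd_eq_one] at hb
        calc v = v ^ ((1 : ℕ) : ℤ) := by simp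
          _ = v ^ ((Nat.card V : ℤ) * (Nat.card V).gcdA n + (n : ℤ) * (Nat.card V).gcdB n) := by rw [hb]
          _ = (v ^ n) ^ (Nat.card V).gcdB n := by
            rw [zpow_add, zpow_mul, zpow_natCast, pow_card_eq_one', one_zpow, one_mul, zpow_mul, zpow_natCast]
      rw [this]
      exact zpow_mem hvn _
  have herange : Nat.card e.range = Nat.card {v : V // Commute (v : X) g ∧ Commute (v : X) h} := by
    apply Nat.card_congr
    refine (Equiv.subtypeEquivRight fun v => ?_)
    constructor
    · rintro ⟨w, rfl⟩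
      constructor
      · have := congrArg Subtype.val (hAe g hgA w)
        rw [hc, mul_inv_eq_iff_eq_mul] at this
        exact this.symm
      · have := congrArg Subtype.val (hAe h hhA w)
        rw [hc, mul_inv_eq_iff_eq_mul] at this
        exact this.symm
    · rintro ⟨h1, h2⟩
      let S : Subgroup G :=
        { carrier := {a | c a v = v}
          one_mem' := hc1 v
          mul_mem' := fun {a b} (ha : c a v = v) (hb : c b v = v) => show c (a * b) v = v by rw [hcm, hb, ha]
          inv_mem' := fun {a} (ha : c a v = v) => show c a⁻¹ v = v by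
            conv_lhs => rw [← ha, ← hcm, inv_mul_cancel, hc1] }
      have hAS : A ≤ S := (Subgroup.closure_le _).2 (by
        rintro x (rfl | rfl)
        · exact Subtype.ext (by rw [hc, mul_inv_eq_iff_eq_mul]; exact h1.eq.symm)
        · exact Subtype.ext (by rw [hc, mul_inv_eq_iff_eq_mul]; exact h2.eq.symm))
      obtain ⟨w, hw⟩ := (powCoprime hn).surjective v
      have hw' : w ^ n = v := hw
      refine ⟨w, ?_⟩
      rw [← hw', hfix w]
      intro a ha
      apply (powCoprime hn).injective
      change (c a w) ^ n = w ^ n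
      rw [← map_pow, hw']
      exact hAS ha
  have hker : Nat.card {p : V × V // Commute ((p.1 : X) * g) ((p.2 : X) * h)} = Nat.card L.ker := by
    apply Nat.card_congr
    refine Equiv.subtypeEquivRight fun p => ?_
    have hghX : (g : X) * h = h * g := congrArg Subtype.val hgh.eq
    have e1 : (p.1 : X) * g * ((p.2 : X) * h) = (((p.1 * c g p.2 : V)) : X) * ((g : X) * h) := by
      rw [Subgroup.coe_mul, hc]; group
    have e2 : (p.2 : X) * h * ((p.1 : X) * g) = (((p.2 * c h p.1 : V)) : X) * ((h : X) * g) := by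
      rw [Subgroup.coe_mul, hc]; group
    rw [commute_iff_eq, e1, e2, ← hghX, mul_left_inj, SetLike.coe_eq_coe, MonoidHom.mem_ker]
    simp only [L, MonoidHom.coe_mk, OneHom.coe_mk]
    rw [div_mul_div_comm, div_eq_one, mul_comm (c h p.1) p.2]
  have h1 := Subgroup.card_mul_index L.ker
  have h2 := Subgroup.card_mul_index e.ker
  rw [Subgroup.index_ker, hrange, Nat.card_prod] at h1
  rw [Subgroup.index_ker, herange] at h2
  rw [hker]
  have hpos : 0 < Nat.card e.ker := Nat.card_pos
  apply Nat.eq_of_mul_eq_mul_right hpos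
  rw [h1, mul_assoc, mul_comm _ (Nat.card e.ker), h2]


/-- Let X be a finite group, V an abelian normal subgroup of X (any two elements of V commute) and G a complement to V in X whose order is coprime to that of V. Let S be a set of representatives of the orbits of G on V under conjugation: S lies in V and every element of V is conjugate under G to exactly one member of S. Then the number of conjugacy classes of X equals the sum, over s in S, of the number of conjugacy classes of the centralizer of s in G. -/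
theorem result {X : Type*} [Group X] [Finite X] (V : Subgroup X) [V.Normal] (hab : ∀ a ∈ V, ∀ b ∈ V, a * b = b * a) (G : Subgroup X) (hGV : Subgroup.IsComplement' V G) (hcop : (Nat.card V).Coprime (Nat.card G)) (S : Finset X) (hSV : ∀ s ∈ S, s ∈ V) (hrep : ∀ v ∈ V, ∃! s, s ∈ S ∧ ∃ g ∈ G, g * v * g⁻¹ = s) : Nat.card (ConjClasses X) = ∑ s ∈ S, Nat.card (ConjClasses ↥(G ⊓ Subgroup.centralizer ({s} : Set X))) := by
  classical
  have hV : ∀ v ∈ V, ∀ a : X, a * v * a⁻¹ ∈ V := fun v hv a => Subgroup.Normal.conj_mem inferInstance v hv a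
  haveI : Fintype X := Fintype.ofFinite X
  let CG := {p : G × G // Commute p.1 p.2}
  let f : V → ℕ := fun v => Nat.card (ConjClasses ↥(G ⊓ Subgroup.centralizer ({(v : X)} : Set X)))
  let m : V → ℕ := fun v => Nat.card ↥(G ⊓ Subgroup.centralizer ({(v : X)} : Set X))
  have hbij : Function.Bijective (fun p : V × G => (p.1 : X) * p.2) := hGV
  let E : X ≃ V × G := (Equiv.ofBijective _ hbij).symm
  have hEv : ∀ x : X, ((E x).1 : X) * (E x).2 = x := fun x => (Equiv.ofBijective _ hbij).apply_symm_apply x
  have huniq : ∀ (u w : V) (a b : G), (u : X) * a = w * b → a = b := fun u w a b h =>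
    congrArg Prod.snd (hbij.injective (a₁ := (u, a)) (a₂ := (w, b)) h)
  have hcG : ∀ (u w : V) (a b : G), Commute ((u : X) * a) ((w : X) * b) → Commute a b := by
    intro u w a b h
    refine huniq (⟨u * (a * w * (a : X)⁻¹), mul_mem u.2 (hV w w.2 a)⟩) (⟨w * (b * u * (b : X)⁻¹), mul_mem w.2 (hV u u.2 b)⟩) (a * b) (b * a) ?_
    simp only [Subgroup.coe_mul]
    calc _ = (u : X) * a * ((w : X) * b) := by group
      _ = _ := h.eq
      _ = _ := by group
  let e0 : {p : X × X // Commute p.1 p.2} ≃ Σ q : CG, {p : V × V // Commute ((p.1 : X) * q.1.1) ((p.2 : X) * q.1.2)} :=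
    { toFun := fun p => ⟨⟨((E p.1.1).2, (E p.1.2).2), hcG (E p.1.1).1 (E p.1.2).1 _ _ (by rw [hEv, hEv]; exact p.2)⟩,
        ⟨((E p.1.1).1, (E p.1.2).1), by simp only [hEv]; exact p.2⟩⟩
      invFun := fun q => ⟨((q.2.1.1 : X) * q.1.1.1, (q.2.1.2 : X) * q.1.1.2), q.2.2⟩
      left_inv := fun p => Subtype.ext (Prod.ext (hEv _) (hEv _))
      right_inv := by
        rintro ⟨⟨⟨a, b⟩, hab'⟩, ⟨⟨u, w⟩, huw⟩⟩
        have e1 : E ((u : X) * a) = (u, a) := (Equiv.ofBijective _ hbij).symm_apply_apply (u, a)
        have e2 : E ((w : X) * b) = (w, b) := (Equiv.ofBijective _ hbij).symm_apply_apply (w, b)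
        refine Sigma.subtype_ext ?_ ?_
        · apply Subtype.ext
          change ((E _).2, (E _).2) = (a, b)
          rw [e1, e2]
        · change ((E _).1, (E _).1) = (u, w)
          rw [e1, e2] }
  let e1 : (Σ q : CG, {v : V // Commute (v : X) q.1.1 ∧ Commute (v : X) q.1.2}) ≃
      Σ v : V, {p : ↥(G ⊓ Subgroup.centralizer ({(v : X)} : Set X)) × ↥(G ⊓ Subgroup.centralizer ({(v : X)} : Set X)) // Commute p.1 p.2} :=
    { toFun := fun z => ⟨z.2.1,
        ⟨(⟨z.1.1.1, z.1.1.1.2, Subgroup.mem_centralizer_singleton_iff.2 z.2.2.1.eq.symm⟩,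
          ⟨z.1.1.2, z.1.1.2.2, Subgroup.mem_centralizer_singleton_iff.2 z.2.2.2.eq.symm⟩),
          Subtype.ext (congrArg Subtype.val z.1.2.eq :)⟩⟩
      invFun := fun z => ⟨⟨(⟨z.2.1.1, z.2.1.1.2.1⟩, ⟨z.2.1.2, z.2.1.2.2.1⟩), Subtype.ext (congrArg Subtype.val z.2.2.eq :)⟩,
        ⟨z.1, (Subgroup.mem_centralizer_singleton_iff.1 z.2.1.1.2.2).symm, (Subgroup.mem_centralizer_singleton_iff.1 z.2.1.2.2.2).symm⟩⟩
      left_inv := fun _ => rfl
      right_inv := fun _ => rfl }
  have hsum : Nat.card {p : X × X // Commute p.1 p.2} = Nat.card V * ∑ v : V, f v * m v := by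
    rw [Nat.card_congr e0, Nat.card_sigma, Finset.sum_congr rfl fun q _ => fibre_count V hab G hcop q.1.1 q.1.2 q.2,
      ← Finset.mul_sum, ← Nat.card_sigma, Nat.card_congr e1, Nat.card_sigma]
    simp only [card_comm_eq_card_conjClasses_mul_card, f, m]
  have hinv : ∀ (a : X) (v w : V), a ∈ G → a * v * a⁻¹ = w → f v = f w ∧ m v = m w := by
    intro a v w ha hw
    have hmap : (G ⊓ Subgroup.centralizer ({(v : X)} : Set X)).map (MulAut.conj a).toMonoidHom =
        G ⊓ Subgroup.centralizer ({(w : X)} : Set X) := by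
      ext y
      rw [Subgroup.mem_map_equiv, Subgroup.mem_inf, Subgroup.mem_inf, Subgroup.mem_centralizer_singleton_iff,
        Subgroup.mem_centralizer_singleton_iff, MulAut.conj_symm_apply, ← hw]
      refine and_congr ?_ ?_
      · rw [Subgroup.mul_mem_cancel_right _ ha, Subgroup.mul_mem_cancel_left _ (inv_mem ha)]
      · constructor <;> intro h
        · calc y * (a * v * a⁻¹) = a * (a⁻¹ * y * a * v) * a⁻¹ := by group
            _ = _ := by rw [h]; group
        · calc a⁻¹ * y * a * (v : X) = a⁻¹ * (y * (a * v * a⁻¹)) * a := by group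
            _ = _ := by rw [h]; group
    let eq' := ((MulAut.conj a).subgroupMap (G ⊓ Subgroup.centralizer ({(v : X)} : Set X))).trans (MulEquiv.subgroupCongr hmap)
    refine ⟨?_, Nat.card_congr eq'.toEquiv⟩
    have := Nat.card_congr eq'.toEquiv
    have h' : Nat.card {p : ↥(G ⊓ Subgroup.centralizer ({(v : X)} : Set X)) × ↥(G ⊓ Subgroup.centralizer ({(v : X)} : Set X)) // Commute p.1 p.2} =
        Nat.card {p : ↥(G ⊓ Subgroup.centralizer ({(w : X)} : Set X)) × ↥(G ⊓ Subgroup.centralizer ({(w : X)} : Set X)) // Commute p.1 p.2} :=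
      Nat.card_congr ((Equiv.prodCongr eq'.toEquiv eq'.toEquiv).subtypeEquiv fun p =>
        ⟨fun h => h.map eq'.toMonoidHom, fun h => by simpa using h.map eq'.symm.toMonoidHom⟩)
    rw [card_comm_eq_card_conjClasses_mul_card, card_comm_eq_card_conjClasses_mul_card, ← this] at h'
    exact Nat.eq_of_mul_eq_mul_right Nat.card_pos h'
  choose r hr using fun v : V => (hrep v v.2).exists
  have horb : ∀ s ∈ S, ∑ v ∈ Finset.univ.filter (fun v : V => r v = s), f v * m v =
      Nat.card (ConjClasses ↥(G ⊓ Subgroup.centralizer ({s} : Set X))) * Nat.card G := by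
    intro s hs
    let s' : V := ⟨s, hSV s hs⟩
    letI : MulAction G V := MulAction.compHom V ((MulAut.conjNormal (H := V)).comp G.subtype)
    have hact : ∀ (a : G) (v : V), ((a • v : V) : X) = a * v * (a : X)⁻¹ := fun a v => MulAut.conjNormal_apply _ _
    have hfil : ∀ v : V, r v = s ↔ v ∈ MulAction.orbit G s' := by
      intro v
      constructor
      · rintro rfl
        obtain ⟨a, ha, h⟩ := (hr v).2
        exact ⟨(⟨a, ha⟩ : G)⁻¹, Subtype.ext (by rw [hact]; simp only [s', ← h, InvMemClass.coe_inv]; group)⟩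
      · rintro ⟨a, rfl⟩
        refine (hrep _ (a • s' : V).2).unique (hr _) ⟨hs, (a : X)⁻¹, inv_mem a.2, ?_⟩
        rw [hact]; group; rfl
    have hstab : Nat.card (MulAction.stabilizer G s') = m s' := by
      refine Nat.card_congr ⟨fun a => ⟨a.1, a.1.2, Subgroup.mem_centralizer_singleton_iff.2 ?_⟩, fun a => ⟨⟨a, a.2.1⟩, ?_⟩, fun _ => rfl, fun _ => rfl⟩
      · have := congrArg Subtype.val a.2
        rw [hact, mul_inv_eq_iff_eq_mul] at this
        exact this
      · apply Subtype.ext
        rw [hact, mul_inv_eq_iff_eq_mul]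
        exact Subgroup.mem_centralizer_singleton_iff.1 a.2.2
    have hconst : ∀ v ∈ Finset.univ.filter (fun v : V => r v = s), f v * m v = f s' * m s' := by
      intro v hv
      obtain ⟨a, ha, h⟩ := (hr v).2
      rw [(Finset.mem_filter.1 hv).2] at h
      rw [(hinv a v s' ha h).1, (hinv a v s' ha h).2]
    rw [Finset.sum_congr rfl hconst, Finset.sum_const, smul_eq_mul]
    have hcard : (Finset.univ.filter (fun v : V => r v = s)).card = Nat.card (MulAction.orbit G s') := by
      rw [Nat.card_eq_fintype_card, ← Set.toFinset_card]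
      congr 1
      ext v
      simp [hfil]
    have hos := MulAction.card_orbit_mul_card_stabilizer_eq_card_group G s'
    simp only [← Nat.card_eq_fintype_card] at hos
    rw [hstab] at hos
    rw [hcard, ← hos]
    simp only [f, s']
    ring
  have htot : ∑ v : V, f v * m v = (∑ s ∈ S, Nat.card (ConjClasses ↥(G ⊓ Subgroup.centralizer ({s} : Set X)))) * Nat.card G := by
    rw [Finset.sum_mul, ← Finset.sum_congr rfl horb, Finset.sum_fiberwise_of_maps_to (fun v _ => (hr v).1)]
  rw [card_comm_eq_card_conjClasses_mul_card, htot, ← hGV.card_mul] at hsum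
  apply Nat.eq_of_mul_eq_mul_right (show 0 < Nat.card V * Nat.card G from Nat.mul_pos Nat.card_pos Nat.card_pos)
  rw [hsum]
  ring

end Cfsg.Agent.S4956
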