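import Cfsg.Statements.S4957
import Cfsg.Agent.Lib.CoprimeTrans.Bound
import Cfsg.Agent.Lib.CoprimeTrans.Affine
import Cfsg.Agent.S4956

set_option autoImplicit false
set_option linter.style.haveILetI false
open Cfsg

namespace Cfsg.Agent.S4957

/-- Let X be a finite group and V a normal subgroup of X in which every element has order dividing the prime p, whose index in X is prime to p and which is its own centralizer in X; so V is an elementary abelian normal Sylow p-subgroup, and any complement G to V in X is a group of order prime to p acting faithfully on the vector space V by conjugation (the coprime linear setting of the k(GV) problem). Suppose a complement G to V in X is transitive by conjugation on the nonidentity elements of V. Then X has at most (order of V) conjugacy classes, and if equality holds then G is cyclic (hence, being transitive, a Singer cycle), or V has order 8 and G has order 21 (the nonabelian group of order 21 inside the simple group of order 168), or V has order 9 and G has order 16 (a semidihedral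 Sylow 2-subgroup of the 2-dimensional general linear group over the field with 3 elements). -/
theorem result {X : Type*} [Group X] [Finite X] (p : ℕ) [Fact p.Prime] (V : Subgroup X) [V.Normal] (hVexp : ∀ v ∈ V, v ^ p = 1) (hidx : ¬ p ∣ V.index) (hself : Subgroup.centralizer (V : Set X) = V) (G : Subgroup X) (hGV : Subgroup.IsComplement' V G) (htrans : ∀ v ∈ V, ∀ w ∈ V, v ≠ 1 → w ≠ 1 → ∃ g ∈ G, g * v * g⁻¹ = w) : Nat.card (ConjClasses X) ≤ Nat.card V ∧ (Nat.card (ConjClasses X) = Nat.card V → (IsCyclic G ∨ (Nat.card V = 8 ∧ Nat.card G = 21) ∨ (Nat.card V = 9 ∧ Nat.card G = 16))) := by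
  classical
  have hab : ∀ a ∈ V, ∀ b ∈ V, a * b = b * a := fun a ha b hb => by
    have h : a ∈ Subgroup.centralizer (V : Set X) := hself.symm ▸ ha
    exact (Subgroup.mem_centralizer_iff.1 h b hb).symm
  have hidxG : V.index = Nat.card G := hGV.symm.index_eq_card
  by_cases hV : V = ⊥
  · have hsub : ∀ x : X, x = 1 := fun x => by
      have : x ∈ Subgroup.centralizer (V : Set X) := Subgroup.mem_centralizer_iff.2 fun v hv => by
        rw [hV, SetLike.mem_coe, Subgroup.mem_bot] at hv
        rw [hv, one_mul, mul_one]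
      rwa [hself, hV, Subgroup.mem_bot] at this
    haveI : Subsingleton X := ⟨fun a b => by rw [hsub a, hsub b]⟩
    refine ⟨?_, fun _ => Or.inl ?_⟩
    · rw [hV, Subgroup.card_bot]
      exact (Nat.card_le_card_of_surjective ConjClasses.mk ConjClasses.mk_surjective).trans
        (le_of_eq (Nat.card_of_subsingleton (1 : X)))
    · infer_instance
  have hfaith : ∀ g ∈ G, (∀ v ∈ V, g * v = v * g) → g = 1 := fun g hg h => by
    have h1 : g ∈ V ⊓ G := Subgroup.mem_inf.2
      ⟨hself.le (Subgroup.mem_centralizer_iff.2 fun v hv => (h v hv).symm), hg⟩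
    rwa [hGV.disjoint.eq_bot, Subgroup.mem_bot] at h1
  obtain ⟨M, iM1, iM2, iM3, ρ, e, hρ, htr, he1, hfix⟩ :=
    CfsgLib.CoprimeTrans.exists_linear V hVexp hab G hfaith htrans
  letI := iM1
  letI := iM2
  haveI := iM3
  obtain ⟨v₀, hv₀, hv₀1⟩ := (Subgroup.bot_or_exists_ne_one V).resolve_left hV
  have hv : e ⟨v₀, hv₀⟩ ≠ 0 := fun h => hv₀1 (congrArg Subtype.val (e.injective (h.trans he1.symm)))
  haveI : Nontrivial M := ⟨⟨_, _, hv⟩⟩
  set H : Subgroup G := (Subgroup.centralizer ({v₀} : Set X)).subgroupOf G with hH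
  have hbound := CfsgLib.CoprimeTrans.class_bound hρ htr (hidxG ▸ hidx) hv H fun g => by
    rw [hH, Subgroup.mem_subgroupOf, Subgroup.mem_centralizer_singleton_iff, hfix]
  have hM : Nat.card M = Nat.card V := (Nat.card_congr e).symm
  have hVp : IsPGroup p V := fun x => ⟨1, Subtype.ext (by rw [pow_one]; exact hVexp _ x.2)⟩
  obtain ⟨c, hc⟩ := IsPGroup.iff_card.1 hVp
  have hk := Cfsg.Agent.S4956.result V hab G hGV (by
    rw [hc]
    exact Nat.Coprime.pow_left c ((Fact.out : p.Prime).coprime_iff_not_dvd.2 (hidxG ▸ hidx)))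
    {1, v₀} (fun s hs => by
      rcases Finset.mem_insert.1 hs with rfl | hs
      · exact one_mem V
      · rw [Finset.mem_singleton.1 hs]; exact hv₀)
    (fun w hw => by
      by_cases hw1 : w = 1
      · refine ⟨1, ⟨Finset.mem_insert_self _ _, 1, one_mem G, by simp [hw1]⟩, ?_⟩
        rintro s ⟨-, g, -, hgs⟩
        rw [← hgs, hw1, mul_one, mul_inv_cancel]
      · obtain ⟨g, hg, hgw⟩ := htrans w hw v₀ hv₀ hw1 hv₀1
        refine ⟨v₀, ⟨Finset.mem_insert_of_mem (Finset.mem_singleton_self _), g, hg, hgw⟩, ?_⟩
        rintro s ⟨hs, g', -, hgs⟩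
        rcases Finset.mem_insert.1 hs with rfl | hs
        · exact absurd (conj_eq_one_iff.1 hgs) hw1
        · exact Finset.mem_singleton.1 hs)
  rw [Finset.sum_pair (Ne.symm hv₀1)] at hk
  have h1 : (G ⊓ Subgroup.centralizer ({(1 : X)} : Set X)) = G := inf_eq_left.2 fun g _ =>
    Subgroup.mem_centralizer_singleton_iff.2 (by simp)
  rw [h1] at hk
  have h2 : Nat.card (ConjClasses H) =
      Nat.card (ConjClasses ↥(G ⊓ Subgroup.centralizer ({v₀} : Set X))) := by
    let f : H ≃* ↥(G ⊓ Subgroup.centralizer ({v₀} : Set X)) :=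
      { toFun := fun x => ⟨((x : G) : X), Subgroup.mem_inf.2 ⟨(x : G).2, x.2⟩⟩
        invFun := fun x => ⟨⟨x.1, (Subgroup.mem_inf.1 x.2).1⟩, (Subgroup.mem_inf.1 x.2).2⟩
        left_inv := fun _ => rfl
        right_inv := fun _ => rfl
        map_mul' := fun _ _ => rfl }
    refine Nat.card_congr (Equiv.ofBijective (ConjClasses.map f.toMonoidHom)
      ⟨fun a b => ?_, ConjClasses.map_surjective f.surjective⟩)
    obtain ⟨a, rfl⟩ := ConjClasses.mk_surjective a
    obtain ⟨b, rfl⟩ := ConjClasses.mk_surjective b
    intro h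
    have h' := f.symm.toMonoidHom.map_isConj (ConjClasses.mk_eq_mk_iff_isConj.1 h)
    exact ConjClasses.mk_eq_mk_iff_isConj.2 (by simpa using h')
  rw [hM] at hbound
  refine ⟨by omega, fun heq => hbound.2 (by omega)⟩

end Cfsg.Agent.S4957
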