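import Cfsg.Statements.S4959
import Cfsg.Agent.Lib.KGV.SelfDualPsi
set_option autoImplicit false
set_option linter.style.haveILetI false
open Cfsg

namespace Cfsg.Agent.S4959

/-- Let X be a finite group and V a normal subgroup of X in which every element has order dividing the prime p, whose index in X is prime to p and which is its own centralizer in X; so V is an elementary abelian normal Sylow p-subgroup, and any complement G to V in X is a group of order prime to p acting faithfully on the vector space V by conjugation (the coprime linear setting of the k(GV) problem). Let G be a complement to V in X, let v be in V and let H be the centralizer of v in G. Suppose there is a subgroup U of V normalized by H, on which H acts faithfully, and carrying an H-invariant bi-additive pairing β with values in the integers modulo p that is nondegenerate on U (equivalently: the restriction of the module V to H has a faithful self-dual submodule; such a v is called a real vector for G). Then the number of conjugacy classes of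 X is at most the order of V (the real-vector criterion for the k(GV) problem). The pairing is given as a function on X whose relevant values are those on pairs from U. -/
theorem result {X : Type*} [Group X] [Finite X] (p : ℕ) [Fact p.Prime] (V : Subgroup X) [V.Normal] (hVexp : ∀ v ∈ V, v ^ p = 1) (hidx : ¬ p ∣ V.index) (hself : Subgroup.centralizer (V : Set X) = V) (G : Subgroup X) (hGV : Subgroup.IsComplement' V G) (v : X) (hv : v ∈ V) (U : Subgroup X) (hUV : U ≤ V) (hUinv : ∀ h ∈ G, h * v * h⁻¹ = v → ∀ u ∈ U, h * u * h⁻¹ ∈ U) (hUfaith : ∀ h ∈ G, h * v * h⁻¹ = v → (∀ u ∈ U, h * u * h⁻¹ = u) → h = 1) (β : X → X → ZMod p) (hβl : ∀ u ∈ U, ∀ u' ∈ U, ∀ w ∈ U, β (u * u') w = β u w + β u' w) (hβr : ∀ u ∈ U, ∀ w ∈ U, ∀ w' ∈ U, β u (w * w') = β u w + β u w') (hβinv : ∀ h ∈ G, h * v * h⁻¹ = v → ∀ u ∈ U, ∀ w ∈ U, β (h * u * h⁻¹) (h * w * h⁻¹) = β u w) (hβnd : ∀ u ∈ U, (∀ w ∈ U, β u w = 0) → u = 1) : Nat.card (ConjClasses X) ≤ Nat.card V := by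
  classical
  obtain ⟨M, hM⟩ := CfsgLib.KGV.exists_isPModular p (Fact.out : p.Prime)
  have hVp : IsPGroup p V := fun x => ⟨1, Subtype.ext (by simpa using hVexp x x.2)⟩
  have hVab : ∀ a ∈ V, ∀ b ∈ V, a * b = b * a := by
    intro a ha b hb
    have hb' : b ∈ Subgroup.centralizer (V : Set X) := hself.symm ▸ hb
    exact Subgroup.mem_centralizer_iff.1 hb' a ha
  obtain ⟨C, hC⟩ : ∃ C, C = G ⊓ Subgroup.centralizer ({v} : Set X) := ⟨_, rfl⟩
  have hCG : C ≤ G := hC ▸ inf_le_left
  have hCv : ∀ h ∈ C, h * v * h⁻¹ = v := fun h hh => by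
    rw [mul_inv_eq_iff_eq_mul]
    exact Subgroup.mem_centralizer_singleton_iff.1 (hC ▸ hh : h ∈ G ⊓ _).2
  have hpC : ¬ p ∣ Nat.card C := fun h => hidx (by
    rw [hGV.symm.index_eq_card]; exact h.trans (Subgroup.card_dvd_of_le hCG))
  letI : CommGroup U :=
    { (inferInstance : Group U) with
      mul_comm := fun a b => Subtype.ext (hVab a (hUV a.2) b (hUV b.2)) }
  have hexp : ∀ x : Additive U, p • x = 0 := fun x => by
    apply Additive.toMul.injective
    rw [toMul_nsmul, toMul_zero]
    exact Subtype.ext (by rw [SubgroupClass.coe_pow, hVexp _ (hUV x.toMul.2), OneMemClass.coe_one])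
  haveI : Module (ZMod p) (Additive U) := AddCommGroup.zmodModule hexp
  let act : C → Module.End (ZMod p) (Additive U) := fun y =>
    (MonoidHom.toAdditive
      ({ toFun := fun u => ⟨(y : X) * u * (y : X)⁻¹, hUinv y (hCG y.2) (hCv y y.2) u u.2⟩
         map_one' := Subtype.ext (by simp)
         map_mul' := fun a b => Subtype.ext (by simp [mul_assoc]) } : U →* U)).toZModLinearMap p
  have hone : act 1 = 1 := by
    refine LinearMap.ext fun u => ?_
    apply Additive.toMul.injective
    apply Subtype.ext
    show (1 : X) * (u.toMul : X) * (1 : X)⁻¹ = (u.toMul : X)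
    simp
  have hmul : ∀ a b, act (a * b) = act a * act b := fun a b => by
    refine LinearMap.ext fun u => ?_
    apply Additive.toMul.injective
    apply Subtype.ext
    show (a : X) * b * (u.toMul : X) * ((a : X) * b)⁻¹ = (a : X) * ((b : X) * u.toMul * (b : X)⁻¹) * (a : X)⁻¹
    group
  let ρ : Representation (ZMod p) C (Additive U) := MonoidHom.mk ⟨act, hone⟩ hmul
  let B : LinearMap.BilinForm (ZMod p) (Additive U) :=
    (AddMonoidHom.mk' (fun u : Additive U =>
        (AddMonoidHom.mk' (fun w : Additive U => β (u.toMul : X) (w.toMul : X))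
          (fun a b => hβr _ u.toMul.2 _ a.toMul.2 _ b.toMul.2)).toZModLinearMap p)
      (fun a b => LinearMap.ext fun w => hβl _ a.toMul.2 _ b.toMul.2 _ w.toMul.2)).toZModLinearMap p
  obtain ⟨N, ψ, m, n, hN, hcl, hint, hv', h1, hm, hI, hle⟩ :=
    CfsgLib.KGV.hasPsi_selfDual (M := M) ρ hM hpC B
      (fun g x y => hβinv g (hCG g.2) (hCv g g.2) _ x.toMul.2 _ y.toMul.2)
      (fun x _ h => Additive.toMul.injective (Subtype.ext
        (hβnd _ x.toMul.2 fun w hw => h (Additive.ofMul ⟨w, hw⟩) trivial)))
  refine CfsgLib.KGV.knorr_of_pow_smul hM V hVp hidx hVab G hGV v hv C hC hN ψ hcl hint hv' h1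
    (fun y hy => (hI y).resolve_left fun htriv => hy ?_) m hm (fun y => ?_)
  · refine Subtype.ext (hUfaith y (hCG y.2) (hCv y y.2) fun u hu => ?_)
    exact congrArg (fun z : Additive U => (z.toMul : X))
      (LinearMap.congr_fun htriv (Additive.ofMul ⟨u, hu⟩))
  · set Z := Subgroup.centralizer ({(y : X)} : Set X) with hZ
    have hfix : Nat.card (CfsgLib.KGV.fix ρ y) = Nat.card ↥(U ⊓ Z) := by
      refine Nat.card_congr ⟨fun z => ⟨(z.1.toMul : X), z.1.toMul.2, ?_⟩,
        fun z => ⟨Additive.ofMul ⟨z.1, z.2.1⟩, ?_⟩, fun _ => rfl, fun _ => rfl⟩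
      · have hz := congrArg (fun w : Additive U => (w.toMul : X)) ((CfsgLib.KGV.mem_fix ρ).1 z.2)
        exact Subgroup.mem_centralizer_singleton_iff.2 (mul_inv_eq_iff_eq_mul.1 hz).symm
      · rw [CfsgLib.KGV.mem_fix]
        exact congrArg Additive.ofMul (Subtype.ext (mul_inv_eq_iff_eq_mul.2
          (Subgroup.mem_centralizer_singleton_iff.1 z.2.2).symm))
    have h2 := hle y
    simp only [hfix, Nat.card_congr (Additive.toMul (α := U))] at h2
    have hrel : U.relIndex (V ⊓ Z) ≤ U.relIndex V :=
      Subgroup.relIndex_le_of_le_right inf_le_left Subgroup.index_ne_zero_of_finite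
    have e1 : Nat.card ↥(U ⊓ Z) * U.relIndex (V ⊓ Z) = Nat.card ↥(V ⊓ Z) := by
      rw [← Subgroup.inf_relIndex_right U (V ⊓ Z), show U ⊓ (V ⊓ Z) = U ⊓ Z by
          rw [← inf_assoc, inf_eq_left.2 hUV],
        ← Subgroup.relIndex_bot_left, ← Subgroup.relIndex_bot_left,
        Subgroup.relIndex_mul_relIndex _ _ _ bot_le (inf_le_inf_right Z hUV)]
    have e2 : Nat.card U * U.relIndex V = Nat.card V := by
      rw [← Subgroup.relIndex_bot_left, ← Subgroup.relIndex_bot_left,
        Subgroup.relIndex_mul_relIndex _ _ _ bot_le hUV]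
    calc m y * Nat.card ↥(V ⊓ Z) = m y * Nat.card ↥(U ⊓ Z) * U.relIndex (V ⊓ Z) := by
          rw [← e1, mul_assoc]
      _ ≤ Nat.card U * U.relIndex V := Nat.mul_le_mul h2 hrel
      _ = Nat.card V := e2

end Cfsg.Agent.S4959
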