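import Cfsg.Statements.S4964
import Cfsg.Agent.Lib.KGV.NormalPSubgroup
import Cfsg.Agent.Lib.Coprime.Commutator
import Cfsg.Agent.Lib.PGroup.Frattini
import Mathlib.Tactic.Group

set_option autoImplicit false
set_option linter.style.haveILetI false
open Cfsg CfsgLib.Blocks

namespace Cfsg.Agent.S4964

theorem centralizer_le_comap {G : Type*} [Group G] (N : Subgroup G) [N.Normal] (x : G) :
    Subgroup.centralizer ({x} : Set G) ≤
      (Subgroup.centralizer ({(x : G ⧸ N)} : Set (G ⧸ N))).comap (QuotientGroup.mk' N) := by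
  intro y hy
  rw [Subgroup.mem_comap, Subgroup.mem_centralizer_singleton_iff, QuotientGroup.mk'_apply,
    ← QuotientGroup.mk_mul, ← QuotientGroup.mk_mul, Subgroup.mem_centralizer_singleton_iff.1 hy]

/-- Central characters of inflated characters. -/
theorem centralChar_infl {G : Type*} [Group G] (N : Subgroup G) [N.Normal]
    (f : G ⧸ N → ℂ) (x : G) :
    Cfsg.centralChar (f ∘ QuotientGroup.mk) x =
        ((Subgroup.centralizer ({x} : Set G)).relIndex
          ((Subgroup.centralizer ({(x : G ⧸ N)} : Set (G ⧸ N))).comap (QuotientGroup.mk' N)) : ℂ) *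
        Cfsg.centralChar f (x : G ⧸ N) := by
  simp only [Cfsg.centralChar, Function.comp_apply]
  rw [← Subgroup.relIndex_mul_index (centralizer_le_comap N x),
    Subgroup.index_comap_of_surjective _ (QuotientGroup.mk'_surjective N), QuotientGroup.mk_one]
  push_cast
  ring

/-- Let D be a normal p-subgroup of the finite group G, let D′ be its commutator subgroup (normal in G), and fix a maximal ideal M of the algebraic integers containing p. Then (i) two irreducible characters of G ⧸ D′ lie in the same p-block if and only if their inflations to G do, and (ii) every p-block of G contains the inflation of some irreducible character of G ⧸ D′; so inflation induces a bijection between the p-blocks of G ⧸ D′ and the p-blocks of G. -/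
theorem result {G : Type*} [Group G] [Finite G] (p : ℕ) [Fact p.Prime] (M : Ideal Cfsg.AlgInt) (hM : Cfsg.IsPModular p M) (D : Subgroup G) [D.Normal] (hD : IsPGroup p D) : (∀ χ ψ : Cfsg.IrrCharacter (G ⧸ ⁅D, D⁆), Cfsg.SameBlock M (χ : G ⧸ ⁅D, D⁆ → ℂ) (ψ : G ⧸ ⁅D, D⁆ → ℂ) ↔ Cfsg.SameBlock M ((χ : G ⧸ ⁅D, D⁆ → ℂ) ∘ QuotientGroup.mk) ((ψ : G ⧸ ⁅D, D⁆ → ℂ) ∘ QuotientGroup.mk)) ∧ ∀ B : Set (Cfsg.IrrCharacter G), Cfsg.IsPBlock M B → ∃ χ : Cfsg.IrrCharacter (G ⧸ ⁅D, D⁆), ∃ θ ∈ B, (θ : G → ℂ) = (χ : G ⧸ ⁅D, D⁆ → ℂ) ∘ QuotientGroup.mk := by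
  classical
  haveI : Fintype G := Fintype.ofFinite G
  haveI : Fintype (G ⧸ ⁅D, D⁆) := Fintype.ofFinite _
  have hp : p.Prime := Fact.out
  have hND : ⁅D, D⁆ ≤ D := Subgroup.commutator_le.2 fun a ha b hb =>
    mul_mem (mul_mem (mul_mem ha hb) (inv_mem ha)) (inv_mem hb)
  refine ⟨fun χ ψ => ⟨?_, ?_⟩, fun B hB => ?_⟩
  · intro h x
    rw [centralChar_infl, centralChar_infl, ← mul_sub]
    exact MemLocalIdeal.mul_left hM (natCast_mem (lRing hM) _) (h (x : G ⧸ ⁅D, D⁆))
  · intro h
    by_contra hne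
    set D' := D.map (QuotientGroup.mk' ⁅D, D⁆) with hD'
    haveI : D'.Normal := Subgroup.Normal.map inferInstance _ (QuotientGroup.mk'_surjective _)
    have hD'p : IsPGroup p D' := hD.map _
    set B' := Cfsg.blockOf M (χ : G ⧸ ⁅D, D⁆ → ℂ) with hB'def
    have hB' : Cfsg.IsPBlock M B' := isPBlock_blockOf χ
    have hψ : ψ ∉ B' := hne
    apply not_memLocalIdeal_one hM
    have e : (1 : ℂ) = omega (χ : G ⧸ ⁅D, D⁆ → ℂ) (blockIdem B') - omega (ψ : G ⧸ ⁅D, D⁆ → ℂ) (blockIdem B') := by
      rw [omega_blockIdem, omega_blockIdem, if_pos (mem_blockOf_self hM χ), if_neg hψ, sub_zero]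
    rw [e, omega_eq_sum_classes χ (blockIdem_mem_center B'), omega_eq_sum_classes ψ (blockIdem_mem_center B'),
      ← Finset.sum_sub_distrib]
    refine MemLocalIdeal.sum hM _ fun c _ => ?_
    rw [coeff_blockIdem, ← mul_sub]
    obtain ⟨x₀, hx₀⟩ := QuotientGroup.mk_surjective c.out
    by_cases hsing : p ∣ orderOf c.out
    · rw [blockCoeff_eq_zero_of_singular hM hB' hsing, zero_mul]
      exact memLocalIdeal_zero hM
    refine MemLocalIdeal.mul_left hM (memLocalRing_blockCoeff hM hB' _) ?_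
    by_cases hcen : c.out ∈ Subgroup.centralizer (D' : Set (G ⧸ ⁅D, D⁆))
    swap
    · exact MemLocalIdeal.sub hM
        (CfsgLib.KGV.centralChar_mem_ideal_of_notMem_centralizer hM D' hD'p χ hcen)
        (CfsgLib.KGV.centralChar_mem_ideal_of_notMem_centralizer hM D' hD'p ψ hcen)
    -- a lift of order prime to `p`
    obtain ⟨x, hxc, hxp⟩ : ∃ x : G, (x : G ⧸ ⁅D, D⁆) = c.out ∧ ¬ p ∣ orderOf x := by
      set o := orderOf x₀ with ho
      obtain ⟨m, hm⟩ := Nat.ordProj_dvd o p
      have ho0 : o ≠ 0 := (orderOf_pos x₀).ne'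
      have hmp : ¬ p ∣ m := by
        rintro ⟨w, hw⟩
        have h1 : p ^ (o.factorization p + 1) ∣ o := ⟨w, by rw [pow_succ, mul_assoc, ← hw]; exact hm⟩
        have := (hp.pow_dvd_iff_le_factorization ho0).1 h1
        omega
      have hcop : (p ^ o.factorization p).Coprime m := Nat.Coprime.pow_left _ (hp.coprime_iff_not_dvd.2 hmp)
      obtain ⟨j, hj0, hj1⟩ := Nat.chineseRemainder hcop 0 1
      obtain ⟨w, hw⟩ := (Nat.modEq_zero_iff_dvd).1 hj0
      refine ⟨x₀ ^ j, ?_, fun hd => hmp (hd.trans ?_)⟩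
      · rw [QuotientGroup.mk_pow, hx₀]
        have hdm : orderOf c.out ∣ m := by
          have h1 : orderOf c.out ∣ o := by rw [← hx₀]; exact orderOf_map_dvd (QuotientGroup.mk' _) x₀
          rw [hm] at h1
          exact ((hp.coprime_iff_not_dvd.2 hsing).symm.pow_right _).dvd_of_dvd_mul_left h1
        have hj' := hj1.of_dvd hdm
        rw [← pow_eq_pow_iff_modEq] at hj'
        rw [hj', pow_one]
      · rw [orderOf_dvd_iff_pow_eq_one, ← pow_mul, hw]
        have : p ^ o.factorization p * w * m = o * w := by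
          conv_rhs => rw [hm]
          ring
        rw [this, pow_mul, ho, pow_orderOf_eq_one, one_pow]
    have hxD : ∀ d ∈ D, x * d * x⁻¹ * d⁻¹ ∈ ⁅D, D⁆ := by
      intro d hd
      rw [← QuotientGroup.eq_one_iff]
      have h1 := Subgroup.mem_centralizer_iff.1 hcen (d : G ⧸ ⁅D, D⁆) ⟨d, hd, rfl⟩
      simp only [QuotientGroup.mk_mul, QuotientGroup.mk_inv, hxc]
      rw [← h1]; group
    have hxC : x ∈ Subgroup.centralizer (D : Set G) := by
      haveI : Finite D := inferInstance
      refine CfsgLib.Coprime.le_centralizer_of_trivial_on_frattini (Subgroup.zpowers x) D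
        (fun y _ => by rw [Subgroup.normalizer_eq_top_iff.2 inferInstance]; trivial) ?_ ?_ (Subgroup.mem_zpowers x)
      · rw [Nat.card_zpowers]
        obtain ⟨k, hk⟩ := IsPGroup.iff_card.1 (hD.to_subgroup (frattini D))
        rw [hk]
        exact (hp.coprime_iff_not_dvd.2 hxp).symm.pow_right k
      · have hFn : ∀ d ∈ D, x * d * x⁻¹ * d⁻¹ ∈ (frattini D).map D.subtype := by
          intro d hd
          refine Subgroup.map_mono (CfsgLib.PGroup.commutator_le_frattini hD) ?_
          rw [Subgroup.map_subtype_commutator]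
          exact hxD d hd
        intro a ha
        obtain ⟨i, rfl⟩ := (isOfFinOrder_of_finite x).mem_powers_iff_mem_zpowers.2 ha
        induction i with
        | zero => intro k _; simp only [pow_zero, one_mul, inv_one, mul_one, mul_inv_cancel]; exact one_mem _
        | succ i ih =>
          intro k hk
          have hk' : x ^ i * k * (x ^ i)⁻¹ ∈ D := Subgroup.Normal.conj_mem inferInstance k hk _
          have h1 := hFn _ hk'
          have h2 := ih ((Subgroup.zpowers x).pow_mem (Subgroup.mem_zpowers x) i) k hk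
          have e : x ^ (i + 1) * k * (x ^ (i + 1))⁻¹ * k⁻¹ =
              (x * (x ^ i * k * (x ^ i)⁻¹) * x⁻¹ * (x ^ i * k * (x ^ i)⁻¹)⁻¹) * (x ^ i * k * (x ^ i)⁻¹ * k⁻¹) := by
            rw [pow_succ']; group
          simp only [] at *
          rw [e]
          exact mul_mem h1 h2
    have hpre : (Subgroup.centralizer ({(x : G ⧸ ⁅D, D⁆)} : Set (G ⧸ ⁅D, D⁆))).comap (QuotientGroup.mk' ⁅D, D⁆) ≤
        Subgroup.centralizer ({x} : Set G) := by
      intro y hy
      rw [Subgroup.mem_comap, Subgroup.mem_centralizer_singleton_iff, QuotientGroup.mk'_apply] at hy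
      set d := x⁻¹ * (y * x * y⁻¹) with hd
      have hdN : d ∈ ⁅D, D⁆ := by
        rw [← QuotientGroup.eq_one_iff, hd]
        simp only [QuotientGroup.mk_mul, QuotientGroup.mk_inv, hy]
        group
      have hxd : Commute x d := (Subgroup.mem_centralizer_iff.1 hxC d (hND hdN)).symm
      have h1 : (x * d) ^ orderOf x = 1 := by
        rw [hd, mul_inv_cancel_left, conj_pow, pow_orderOf_eq_one, mul_one, mul_inv_cancel]
      rw [hxd.mul_pow, pow_orderOf_eq_one, one_mul] at h1
      obtain ⟨k, hk⟩ := hD ⟨d, hND hdN⟩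
      have hk' : d ^ p ^ k = 1 := congrArg Subtype.val hk
      have hd1 : d = 1 := by
        have := pow_gcd_eq_one.2 ⟨hk', h1⟩
        rwa [Nat.Coprime.gcd_eq_one (Nat.Coprime.pow_left k (hp.coprime_iff_not_dvd.2 hxp)), pow_one] at this
      rw [hd, inv_mul_eq_one, eq_mul_inv_iff_mul_eq] at hd1
      exact Subgroup.mem_centralizer_singleton_iff.2 hd1.symm
    have h2 := h x
    rw [centralChar_infl, centralChar_infl, Subgroup.relIndex_eq_one.2 hpre, Nat.cast_one, one_mul,
      one_mul, hxc] at h2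
    exact h2
  · obtain ⟨θ, hθB, hθ⟩ := CfsgLib.KGV.exists_mem_block_le_irrKer hM D hD hB
    obtain ⟨η, hη⟩ := CfsgLib.Chars17.exists_infl_eq ⁅D, D⁆ (hND.trans hθ)
    exact ⟨η, θ, hθB, (congrArg Subtype.val hη).symm⟩

end Cfsg.Agent.S4964
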