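import Cfsg.Statements.S4967
import Mathlib.RingTheory.IntegralDomain
import Mathlib.FieldTheory.Finite.Basic

set_option autoImplicit false
open Cfsg

namespace Cfsg.Agent.S4967

open LinearMap (BilinForm)

variable {F A H V : Type*} [Field F] [Fintype F] [Field A] [Algebra F A] [FiniteDimensional F A]
  [CommGroup H] [Finite H] [AddCommGroup V] [Module F V]

/-- A self-dual module which is the field `A` with `H` acting by multiplication gives an
involutive Frobenius power inverting `H`. -/
theorem exists_frob_inv (ι : H →* A) (hgen : Algebra.adjoin F (Set.range ι) = ⊤)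
    (C : BilinForm F A) (hC : C.Nondegenerate) (hCinv : ∀ h x y, C (ι h * x) (ι h * y) = C x y) :
    ∃ j < Module.finrank F A, Module.finrank F A ∣ 2 * j ∧
      ∀ h : H, ι h ^ (Fintype.card F ^ j + 1) = 1 := by
  classical
  have hex : ∀ a : A, ∃ b : A, ∀ x y, C (a * x) y = C x (b * y) := by
    intro a
    have ha : a ∈ Algebra.adjoin F (Set.range ι) := hgen ▸ Algebra.mem_top
    induction ha using Algebra.adjoin_induction with
    | mem a ha =>
      obtain ⟨h, rfl⟩ := ha
      refine ⟨ι h⁻¹, fun x y => ?_⟩
      conv_lhs => rw [show y = ι h * (ι h⁻¹ * y) by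
        rw [← mul_assoc, ← map_mul, mul_inv_cancel, map_one, one_mul]]
      exact hCinv _ _ _
    | algebraMap r =>
      refine ⟨algebraMap F A r, fun x y => ?_⟩
      rw [← Algebra.smul_def, ← Algebra.smul_def, map_smul, LinearMap.smul_apply, map_smul]
    | add a b _ _ iha ihb =>
      obtain ⟨a', ha'⟩ := iha
      obtain ⟨b', hb'⟩ := ihb
      exact ⟨a' + b', fun x y => by simp [add_mul, ha' x y, hb' x y]⟩
    | mul a b _ _ iha ihb =>
      obtain ⟨a', ha'⟩ := iha
      obtain ⟨b', hb'⟩ := ihb
      exact ⟨b' * a', fun x y => by rw [mul_assoc, ha', hb', mul_assoc]⟩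
  choose s hs using hex
  have huniq : ∀ a b, (∀ x y, C (a * x) y = C x (b * y)) → s a = b := by
    intro a b hb
    refine sub_eq_zero.1 (hC.2 _ fun x => ?_)
    have h1 := hs a x 1
    have h2 := hb x 1
    rw [mul_one] at h1 h2
    rw [map_sub, ← h1, ← h2, sub_self]
  let σ : A →ₐ[F] A :=
    { toFun := s
      map_one' := huniq _ _ fun x y => by rw [one_mul, one_mul]
      map_mul' := fun a b => huniq _ _ fun x y => by
        rw [mul_assoc, hs a, hs b]
        ring_nf
      map_zero' := huniq _ _ fun x y => by simp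
      map_add' := fun a b => huniq _ _ fun x y => by simp [add_mul, hs a x y, hs b x y]
      commutes' := fun r => huniq _ _ fun x y => by
        rw [← Algebra.smul_def, ← Algebra.smul_def, map_smul, LinearMap.smul_apply, map_smul] }
  have hσι : ∀ h, σ (ι h) = ι h⁻¹ := fun h => huniq _ _ fun x y => by
    conv_lhs => rw [show y = ι h * (ι h⁻¹ * y) by
      rw [← mul_assoc, ← map_mul, mul_inv_cancel, map_one, one_mul]]
    exact hCinv _ _ _
  have hσσ : σ.comp σ = AlgHom.id F A := AlgHom.ext_of_adjoin_eq_top hgen fun a ⟨h, e⟩ => by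
    rw [← e]; simp [hσι]
  haveI : Finite A := Module.finite_of_finite F
  obtain ⟨⟨j, hj⟩, hje⟩ := (FiniteField.bijective_frobeniusAlgHom_pow F A).2 σ
  simp only at hje
  refine ⟨j, hj, ?_, fun h => ?_⟩
  · rw [← FiniteField.orderOf_frobeniusAlgHom F A, orderOf_dvd_iff_pow_eq_one, two_mul, pow_add,
      hje]
    exact hσσ
  · have h1 : σ (ι h) = ι h ^ Fintype.card F ^ j := by
      rw [← hje, AlgHom.coe_pow, FiniteField.coe_frobeniusAlgHom, pow_iterate]
    rw [pow_succ, ← h1, hσι, ← map_mul, inv_mul_cancel, map_one]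

/-- The Hermitian-type form built from an involutive Frobenius power. -/
theorem exists_form (ι : H →* A) (m : ℕ) (hm : ∀ h : H, ι h ^ (Fintype.card F ^ m + 1) = 1) :
    ∃ C : BilinForm F A, C.Nondegenerate ∧ ∀ h x y, C (ι h * x) (ι h * y) = C x y := by
  classical
  haveI : Finite A := Module.finite_of_finite F
  set σ := FiniteField.frobeniusAlgHom F A ^ m with hσ
  have hσv : ∀ a, σ a = a ^ Fintype.card F ^ m := fun a => by
    rw [hσ, AlgHom.coe_pow, FiniteField.coe_frobeniusAlgHom, pow_iterate]
  have hsurj : Function.Surjective σ := Finite.injective_iff_surjective.1 σ.toRingHom.injective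
  obtain ⟨T, hT⟩ : ∃ T : Module.Dual F A, T 1 ≠ 0 := by
    by_contra! h
    exact one_ne_zero ((Module.forall_dual_apply_eq_zero_iff F (1 : A)).1 h)
  let C : BilinForm F A := LinearMap.mk₂ F (fun x y => T (x * σ y))
    (fun a b c => by simp [add_mul]) (fun r a c => by simp)
    (fun a b c => by simp [mul_add]) (fun r a c => by simp)
  refine ⟨C, ⟨fun x hx => ?_, fun y hy => ?_⟩, fun h x y => ?_⟩
  · by_contra hx0
    obtain ⟨y, hy⟩ := hsurj x⁻¹
    exact hT (by simpa [C, hy, hx0] using hx y)
  · by_contra hy0
    exact hT (by simpa [C, hy0] using hy (σ y)⁻¹)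
  · simp only [C, LinearMap.mk₂_apply]
    congr 1
    rw [map_mul, hσv (ι h)]
    calc ι h * x * (ι h ^ Fintype.card F ^ m * σ y)
        = ι h ^ (Fintype.card F ^ m + 1) * (x * σ y) := by ring
      _ = x * σ y := by rw [hm, one_mul]

/-- The statement for a module identified with a field. -/
theorem core {ρ : Representation F H V} (ι : H →* A) (hι : Function.Injective ι)
    (hgen : Algebra.adjoin F (Set.range ι) = ⊤) (φ : V ≃ₗ[F] A)
    (hφ : ∀ h x, φ (ρ h x) = ι h * φ x) :
    (Module.finrank F V = 1 → (∃ B : LinearMap.BilinForm F V, B.Nondegenerate ∧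
        ∀ h : H, ∀ x y : V, B (ρ h x) (ρ h y) = B x y) → Nat.card H ≤ 2) ∧
    (2 ≤ Module.finrank F V → ((∃ B : LinearMap.BilinForm F V, B.Nondegenerate ∧
        ∀ h : H, ∀ x y : V, B (ρ h x) (ρ h y) = B x y) ↔
      (Even (Module.finrank F V) ∧
        Nat.card H ∣ Fintype.card F ^ (Module.finrank F V / 2) + 1))) := by
  classical
  rw [φ.finrank_eq]
  haveI : IsCyclic H := isCyclic_of_injective_ringHom ι hι
  have hfwd : (∃ B : LinearMap.BilinForm F V, B.Nondegenerate ∧
      ∀ h : H, ∀ x y : V, B (ρ h x) (ρ h y) = B x y) →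
      ∃ j < Module.finrank F A, Module.finrank F A ∣ 2 * j ∧
        Nat.card H ∣ Fintype.card F ^ j + 1 ∧ ∀ h : H, ι h ^ (Fintype.card F ^ j + 1) = 1 := by
    rintro ⟨B, hB, hBinv⟩
    obtain ⟨j, hj, hdvd, hpow⟩ := exists_frob_inv ι hgen (BilinForm.congr φ B)
      (hB.congr φ) fun h x y => by
        have e : ∀ z, φ.symm (ι h * z) = ρ h (φ.symm z) := fun z => by
          rw [LinearEquiv.symm_apply_eq, hφ, φ.apply_symm_apply]
        simp [e, hBinv]
    refine ⟨j, hj, hdvd, ?_, hpow⟩
    rw [← IsCyclic.exponent_eq_card, Monoid.exponent_dvd_iff_forall_pow_eq_one]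
    exact fun h => hι (by rw [map_pow, hpow, map_one])
  refine ⟨fun h1 hex => ?_, fun h2 => ⟨fun hex => ?_, fun ⟨hev, hdvd⟩ => ?_⟩⟩
  · obtain ⟨j, hj, -, hd, -⟩ := hfwd hex
    rw [show j = 0 by omega, pow_zero] at hd
    exact Nat.le_of_dvd two_pos hd
  · obtain ⟨j, hj, hdvd, hd, hpow⟩ := hfwd hex
    have hj0 : j ≠ 0 := by
      rintro rfl
      have hbot : Algebra.adjoin F (Set.range ι) ≤ ⊥ := by
        refine Algebra.adjoin_le ?_
        rintro _ ⟨h, rfl⟩
        have hh : ι h * ι h = 1 := by
          have := hpow h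
          rwa [pow_zero, show 1 + 1 = 2 from rfl, sq] at this
        rcases mul_self_eq_one_iff.1 hh with e | e <;> rw [e]
        · exact one_mem _
        · exact neg_mem (one_mem _)
      rw [hgen, top_le_iff] at hbot
      have h1 := Subalgebra.bot_eq_top_iff_finrank_eq_one.1 hbot
      omega
    obtain ⟨c, hc⟩ := hdvd
    have hc1 : c = 1 := by
      rcases Nat.lt_or_ge c 2 with hc2 | hc2
      · rcases Nat.eq_zero_or_pos c with rfl | hc0
        · omega
        · omega
      · have : Module.finrank F A * 2 ≤ Module.finrank F A * c := Nat.mul_le_mul_left _ hc2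
        omega
    rw [hc1, mul_one] at hc
    exact ⟨⟨j, by omega⟩, by rwa [show Module.finrank F A / 2 = j by omega]⟩
  · obtain ⟨C, hC, hCinv⟩ := exists_form ι (Module.finrank F A / 2) fun h => by
      rw [← map_pow, orderOf_dvd_iff_pow_eq_one.1 ((orderOf_dvd_natCard h).trans hdvd), map_one]
    exact ⟨BilinForm.congr φ.symm C, hC.congr φ.symm, fun h x y => by simp [hφ, hCinv]⟩


/-- Let F be a finite field with r elements and of characteristic p, H a finite abelian group of order prime to p, and V a faithful irreducible representation of H over F of dimension n (faithful: distinct elements act differently; irreducible: the only H-invariant subspaces are 0 and V). Call V self-dual when it carries a nondegenerate H-invariant bilinear form. If n = 1 and V is self-dual then H has order at most 2. If n ≥ 2 then V is self-dual if and only if n is even and the order of H divides r^(n/2) + 1. -/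
theorem result {F : Type*} [Field F] [Fintype F] (p : ℕ) [Fact p.Prime] [CharP F p] {H : Type*} [CommGroup H] [Finite H] (hcop : ¬ p ∣ Nat.card H) {V : Type*} [AddCommGroup V] [Module F V] [FiniteDimensional F V] (ρ : Representation F H V) (hfaith : Function.Injective ρ) (hirr : ∀ U : Submodule F V, (∀ h : H, ∀ u ∈ U, ρ h u ∈ U) → U = ⊥ ∨ U = ⊤) : (Module.finrank F V = 1 → (∃ B : LinearMap.BilinForm F V, B.Nondegenerate ∧ ∀ h : H, ∀ x y : V, B (ρ h x) (ρ h y) = B x y) → Nat.card H ≤ 2) ∧ (2 ≤ Module.finrank F V → ((∃ B : LinearMap.BilinForm F V, B.Nondegenerate ∧ ∀ h : H, ∀ x y : V, B (ρ h x) (ρ h y) = B x y) ↔ (Even (Module.finrank F V) ∧ Nat.card H ∣ Fintype.card F ^ (Module.finrank F V / 2) + 1))) := by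
  classical
  refine ⟨fun h1 hex => ?_, fun h2 => ?_⟩
  all_goals (
    haveI : Nontrivial V := Module.nontrivial_of_finrank_pos (R := F) (by omega)
    obtain ⟨v, hv⟩ := exists_ne (0 : V)
    haveI : Finite V := Module.finite_of_finite F
    haveI : Finite (Module.End F V) := Module.finite_of_finite F
    have hcomm : ∀ a ∈ Set.range ρ, ∀ b ∈ Set.range ρ, a * b = b * a := by
      rintro _ ⟨g, rfl⟩ _ ⟨h, rfl⟩
      rw [← map_mul, ← map_mul, mul_comm]
    let A := Algebra.adjoin F (Set.range ρ)
    letI : CommRing A := Algebra.adjoinCommRingOfComm F hcomm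
    have hρA : ∀ h, ρ h ∈ A := fun h => Algebra.subset_adjoin ⟨h, rfl⟩
    have hker : ∀ a : A, a ≠ 0 → Function.Injective (a : Module.End F V) := by
      intro a ha
      rw [← LinearMap.ker_eq_bot]
      refine (hirr _ fun h u hu => ?_).resolve_right fun hk =>
        ha (Subtype.ext (LinearMap.ker_eq_top.1 hk))
      have hc := congrArg Subtype.val (mul_comm a ⟨ρ h, hρA h⟩)
      rw [LinearMap.mem_ker] at hu ⊢
      have := LinearMap.congr_fun hc u
      simp only [MulMemClass.coe_mul, Module.End.mul_apply, hu, map_zero] at this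
      exact this
    haveI : Nontrivial A := ⟨0, 1, fun h => hv (by
      have := LinearMap.congr_fun (congrArg Subtype.val h) v
      simpa using this.symm)⟩
    haveI : NoZeroDivisors A := ⟨fun {a b} hab => by
      by_contra! h
      have := LinearMap.congr_fun (congrArg Subtype.val hab) v
      simp only [MulMemClass.coe_mul, Module.End.mul_apply, ZeroMemClass.coe_zero,
        LinearMap.zero_apply] at this
      exact hv (hker b h.2 ((hker a h.1 (this.trans (map_zero _).symm)).trans (map_zero _).symm))⟩
    haveI : IsDomain A := NoZeroDivisors.to_isDomain A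
    letI : Field A := (Finite.isField_of_domain A).toField
    let ι : H →* A := { toFun := fun h => ⟨ρ h, hρA h⟩
                        map_one' := Subtype.ext (map_one ρ)
                        map_mul' := fun g h => Subtype.ext (map_mul ρ g h) }
    let ev : A →ₗ[F] V := (LinearMap.applyₗ v).comp A.val.toLinearMap
    have hinj : Function.Injective ev := by
      rw [← LinearMap.ker_eq_bot, Submodule.eq_bot_iff]
      intro a ha
      by_contra h0
      exact hv (hker a h0 ((LinearMap.mem_ker.1 ha).trans (map_zero _).symm))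
    have hsurj : Function.Surjective ev := by
      rw [← LinearMap.range_eq_top]
      refine (hirr _ fun h u hu => ?_).resolve_left fun hb => ?_
      · obtain ⟨a, rfl⟩ := hu
        exact ⟨⟨ρ h, hρA h⟩ * a, rfl⟩
      · exact hv ((Submodule.eq_bot_iff _).1 hb v ⟨1, rfl⟩)
    let φ : V ≃ₗ[F] A := (LinearEquiv.ofBijective ev ⟨hinj, hsurj⟩).symm
    have hgen : Algebra.adjoin F (Set.range ι) = ⊤ := by
      refine Subalgebra.map_injective (f := A.val) Subtype.val_injective ?_
      rw [Algebra.map_top, Subalgebra.range_val, AlgHom.map_adjoin, ← Set.range_comp]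
      rfl
    have hφ : ∀ h x, φ (ρ h x) = ι h * φ x := by
      intro h x
      refine (LinearEquiv.symm_apply_eq _).2 ?_
      show ρ h x = (ρ h) ((φ x : Module.End F V) v)
      congr 1
      exact ((LinearEquiv.ofBijective ev ⟨hinj, hsurj⟩).apply_symm_apply x).symm
    have hmain := core ι (fun g h e => hfaith (congrArg Subtype.val e)) hgen φ hφ
    first | exact hmain.1 h1 hex | exact hmain.2 h2)

end Cfsg.Agent.S4967
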