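import Cfsg.Statements.S4969
import Cfsg.Agent.Lib.Characters.Decomp
import Mathlib.Analysis.SpecialFunctions.Pow.Real
import Mathlib.Analysis.InnerProductSpace.PiL2

set_option autoImplicit false
open Cfsg

namespace Cfsg.Agent.S4969

/-- Let G be a finite group with k conjugacy classes, g ∈ G, and N > 0. Then the sum over the irreducible complex characters χ of G with χ(1) ≥ N of |χ(g)|/χ(1) is at most √(k · #C_G(g)) / N. -/
theorem result {G : Type*} [Group G] [Finite G] (g : G) (N : ℝ) (hN : 0 < N) :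
    ∑ᶠ χ : Cfsg.IrrCharacter G, (if N ≤ ‖(χ : G → ℂ) 1‖ then ‖(χ : G → ℂ) g‖ / ‖(χ : G → ℂ) 1‖ else 0) ≤
      Real.sqrt ((Nat.card (ConjClasses G) : ℝ) * (Nat.card ↥(Subgroup.centralizer ({g} : Set G)) : ℝ)) / N := by
  classical
  rw [finsum_eq_sum_of_fintype]
  calc ∑ χ : Cfsg.IrrCharacter G, (if N ≤ ‖(χ : G → ℂ) 1‖ then ‖(χ : G → ℂ) g‖ / ‖(χ : G → ℂ) 1‖ else 0)
      ≤ ∑ χ : Cfsg.IrrCharacter G, ‖(χ : G → ℂ) g‖ / N := by
        refine Finset.sum_le_sum fun χ _ => ?_
        split_ifs with h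
        · gcongr
        · positivity
    _ = (∑ χ : Cfsg.IrrCharacter G, 1 * ‖(χ : G → ℂ) g‖) / N := by simp [Finset.sum_div]
    _ ≤ _ := by
        gcongr
        refine le_trans (Real.sum_mul_le_sqrt_mul_sqrt _ _ _) ?_
        rw [← Real.sqrt_mul (by positivity)]
        apply Real.sqrt_le_sqrt
        have hc := CfsgLib.Characters.column_orth g g
        rw [if_pos (IsConj.refl g)] at hc
        simp only [Complex.mul_conj, ← Complex.ofReal_sum, Complex.normSq_eq_norm_sq] at hc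
        have hc' : (∑ χ : Cfsg.IrrCharacter G, ‖(χ : G → ℂ) g‖ ^ 2) =
            (Nat.card (Subgroup.centralizer ({g} : Set G)) : ℝ) := by exact_mod_cast hc
        rw [hc', ← CfsgLib.Characters.card_irr_eq_card_conjClasses, Nat.card_eq_fintype_card (α := Cfsg.IrrCharacter G)]
        simp

end Cfsg.Agent.S4969
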