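import Cfsg.Statements.S4978
import Cfsg.Agent.Lib.HeightDivP.Main
-- import your own Cfsg.Agent.* helpers here

set_option autoImplicit false
open Cfsg

namespace Cfsg.Agent.S4978

/-- Let p be a prime and B a p-block of the finite group G (relative to a maximal ideal M of the algebraic integers containing p) with a nontrivial defect group D whose automorphism group is a p-group (for a p-group D this is the same as its outer automorphism group being a p-group). Then the number of irreducible characters of height zero in B is divisible by p; if p > 3 this number is at least 2p, and if moreover p ≡ 3 (mod 4) it is at least 3p. -/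
theorem result {G : Type*} [Group G] [Finite G] (p : ℕ) [Fact p.Prime] (M : Ideal Cfsg.AlgInt) (hM : Cfsg.IsPModular p M) (B : Set (Cfsg.IrrCharacter G)) (hB : Cfsg.IsPBlock M B) (D : Subgroup G) (hD : Cfsg.IsDefectGroup p M B D) (hD1 : D ≠ ⊥) (hAut : IsPGroup p (MulAut ↥D)) : p ∣ Nat.card {χ : Cfsg.IrrCharacter G // χ ∈ B ∧ Cfsg.blockHeight p B (χ : G → ℂ) = 0} ∧ (3 < p → 2 * p ≤ Nat.card {χ : Cfsg.IrrCharacter G // χ ∈ B ∧ Cfsg.blockHeight p B (χ : G → ℂ) = 0}) ∧ (3 < p → p % 4 = 3 → 3 * p ≤ Nat.card {χ : Cfsg.IrrCharacter G // χ ∈ B ∧ Cfsg.blockHeight p B (χ : G → ℂ) = 0}) := by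
  cases nonempty_fintype G
  have hp : p.Prime := Fact.out
  by_cases hp5 : 5 ≤ p
  · obtain ⟨h1, h2, h3⟩ := CfsgLib.HeightDivP.of_five_le hM hB hD hD1 hAut hp5
    exact ⟨h1, fun _ => h2, fun _ => h3⟩
  · have hp3 : p ≤ 3 := by
      by_contra h
      obtain rfl : p = 4 := by omega
      exact absurd hp (by norm_num)
    refine ⟨CfsgLib.HeightDivP.dvd_card_of_le_three hM hB ?_ hp3, fun h => absurd h (by omega),
      fun h => absurd h (by omega)⟩
    have hc := CfsgLib.BlockCover.natCard_defect hM hB hD
    by_contra h0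
    rw [show Cfsg.blockDefect p B = 0 by omega, pow_zero] at hc
    exact hD1 (Subgroup.card_eq_one.1 hc)

end Cfsg.Agent.S4978
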