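import Cfsg.Statements.S4989
import Cfsg.Agent.Lib.KGV.CharTools
import Cfsg.Agent.Lib.Characters.Decomp
import Mathlib.Tactic.LinearCombination

set_option autoImplicit false
open Cfsg

namespace Cfsg.Agent.S4989

/-- Let H be a subgroup of the finite group G and χ an irreducible complex character of G. Then the inner product of the restriction of χ to H with itself, (1/#H)·Σ_{h ∈ H} |χ(h)|², is at most 1 + #(Z ∖ H)/#H, where Z is the set of zeros of χ in G. -/
theorem result {G : Type*} [Group G] [Finite G] (H : Subgroup G) (χ : Cfsg.IrrCharacter G) : (Nat.card ↥H : ℝ)⁻¹ * ∑ᶠ h : ↥H, ‖(χ : G → ℂ) h‖ ^ 2 ≤ 1 + (Set.ncard ({x : G | (χ : G → ℂ) x = 0} \ (H : Set G)) : ℝ) / (Nat.card ↥H : ℝ) := by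
  classical
  haveI : Fintype G := Fintype.ofFinite G
  rw [finsum_eq_sum_of_fintype]
  have hχ := CfsgLib.Characters.irr_isCharacter χ
  obtain ⟨m, hm⟩ := CfsgLib.KGV.sum_norm_subgroup hχ H
  have hall : ∑ x : G, (χ : G → ℂ) x * (starRingEnd ℂ) ((χ : G → ℂ) x) = (Nat.card G : ℂ) := by
    have h := CfsgLib.Characters.classInner_irr_self χ.2
    rw [Cfsg.classInner, inv_mul_eq_iff_eq_mul₀ (by simp), mul_one] at h
    exact h
  set U := (Finset.univ : Finset G).filter (fun x => x ∉ H) with hU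
  have hsplit : (∑ h : H, (χ : G → ℂ) h * (starRingEnd ℂ) ((χ : G → ℂ) h)) +
      ∑ x ∈ U, (χ : G → ℂ) x * (starRingEnd ℂ) ((χ : G → ℂ) x) = (Nat.card G : ℂ) := by
    rw [← hall, ← Finset.sum_filter_add_sum_filter_not (Finset.univ : Finset G) (fun x => x ∈ H)]
    congr 1
    exact (Finset.sum_subtype _ (fun x => by simp) fun x => (χ : G → ℂ) x * (starRingEnd ℂ) ((χ : G → ℂ) x)).symm
  rw [hm] at hsplit
  have key := CfsgLib.KGV.card_ne_zero_le_sum_normSq U Nat.card_pos (fun x => (χ : G → ℂ) x)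
    (fun x _ => CfsgLib.KGV.char_mem_rootField hχ x) (fun x _ => CfsgLib.KGV.char_isIntegral hχ x)
    ((Nat.card G : ℚ) - (Nat.card H : ℚ) * m) (by push_cast; linear_combination hsplit)
  have hHsum : ∑ h : H, ‖(χ : G → ℂ) h‖ ^ 2 = (Nat.card H : ℝ) * m := by
    simp only [Complex.mul_conj, ← Complex.ofReal_sum, Complex.normSq_eq_norm_sq] at hm
    exact_mod_cast hm
  have hcount : Set.ncard ({x : G | (χ : G → ℂ) x = 0} \ (H : Set G)) + (U.filter fun x => (χ : G → ℂ) x ≠ 0).card + Nat.card H = Nat.card G := by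
    have e1 : Set.ncard ({x : G | (χ : G → ℂ) x = 0} \ (H : Set G)) = (U.filter fun x => ¬ (χ : G → ℂ) x ≠ 0).card := by
      rw [← Set.ncard_coe_finset]
      congr 1
      ext x
      simp [U, and_comm]
    have e2 : ((Finset.univ : Finset G).filter (fun x => x ∈ H)).card = Nat.card H := by
      rw [Nat.card_eq_fintype_card, Fintype.card_subtype]
    have e3 := Finset.card_filter_add_card_filter_not (s := U) (fun x => (χ : G → ℂ) x ≠ 0)
    have e4 := Finset.card_filter_add_card_filter_not (s := (Finset.univ : Finset G)) (fun x => x ∈ H)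
    rw [Finset.card_univ, ← Nat.card_eq_fintype_card, e2, ← hU] at e4
    omega
  have hH : (0 : ℝ) < Nat.card H := Nat.cast_pos.2 Nat.card_pos
  have hcount' := congrArg (fun n : ℕ => (n : ℝ)) hcount
  push_cast at hcount' key
  rw [hHsum, ← mul_assoc, inv_mul_cancel₀ hH.ne', one_mul]
  have : (Nat.card H : ℝ) * m ≤ Nat.card H + (Set.ncard ({x : G | (χ : G → ℂ) x = 0} \ (H : Set G)) : ℝ) := by linarith
  field_simp
  linarith

end Cfsg.Agent.S4989
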