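import Cfsg.Statements.S4996
import Cfsg.Agent.Lib.KGV.CharTools
import Cfsg.Agent.Lib.Characters.Decomp
import Mathlib.Tactic.LinearCombination
import Mathlib.Tactic.Group

set_option autoImplicit false
open Cfsg

namespace Cfsg.Agent.S4996

/-- The average of `|χ|²` over a coset of a normal subgroup. -/
noncomputable def cosetNorm {G : Type*} [Group G] (N : Subgroup G) [Fintype N] (χ : G → ℂ) (x : G) : ℂ :=
  (Nat.card N : ℂ)⁻¹ * ∑ n : N, χ (x * n) * (starRingEnd ℂ) (χ (x * n))

open Cfsg CfsgLib.Characters in
theorem norm_one_irr {G : Type*} [Group G] [Fintype G] {χ : G → ℂ} (h : IsCharacter G χ)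
    (h1 : classInner χ χ = 1) : IsIrrCharacter G χ := by
  classical
  obtain ⟨n, ρ, rfl⟩ := h
  obtain ⟨m, hm⟩ := exists_irr_decomp ρ
  have hc : ∀ ψ : IrrCharacter G, classInner ρ.character (ψ : G → ℂ) = (m ψ : ℂ) := fun ψ => by
    rw [hm, classInner_irr_sum, if_pos (Finset.mem_univ _)]
  rw [classInner_eq_sum_mul (isClassFunction_of_isCharacter (isCharacter_character ρ))] at h1
  simp only [hc, map_natCast, ← Nat.cast_mul, ← Nat.cast_sum] at h1
  have h1' : ∑ ψ : IrrCharacter G, m ψ * m ψ = 1 := by exact_mod_cast h1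
  obtain ⟨ψ, -, hψ⟩ := Finset.exists_ne_zero_of_sum_ne_zero (h1' ▸ one_ne_zero : ∑ ψ : IrrCharacter G, m ψ * m ψ ≠ 0)
  have hle := Finset.single_le_sum (f := fun ψ => m ψ * m ψ) (fun _ _ => Nat.zero_le _) (Finset.mem_univ ψ)
  rw [h1'] at hle
  have hψ1 : m ψ = 1 := Nat.eq_one_of_mul_eq_one_right (Nat.le_antisymm hle (Nat.one_le_iff_ne_zero.2 hψ))
  have hrest : ∀ φ, φ ≠ ψ → m φ = 0 := by
    intro φ hφ
    have := Finset.sum_le_sum_of_subset (f := fun ψ => m ψ * m ψ) (Finset.subset_univ ({φ, ψ} : Finset _))
    rw [h1', Finset.sum_pair hφ, hψ1] at this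
    exact mul_self_eq_zero.1 (by omega)
  rw [hm, Finset.sum_eq_single ψ (fun φ _ hφ => by simp [hrest φ hφ]) (by simp), hψ1, Nat.cast_one, one_smul]
  exact ψ.2

/-- If the restriction is irreducible, the coset averages are all one. -/
theorem cosetNorm_eq_one {G : Type*} [Group G] [Finite G] (N : Subgroup G) [N.Normal] [Fintype N]
    (χ : G → ℂ) (hχ : Cfsg.IsIrrCharacter G χ) (h : Cfsg.IsIrrCharacter N (fun n : N => χ n)) (x : G) :
    cosetNorm N χ x = 1 := by
  haveI : Invertible (Fintype.card N : ℂ) := invertibleOfNonzero (Nat.cast_ne_zero.2 Fintype.card_ne_zero)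
  obtain ⟨d, ρ, hρ, rfl⟩ := hχ
  let σ : Representation ℂ N (Fin d → ℂ) := ρ.comp N.subtype
  let τ := Representation.linHom ρ ρ
  let τN : Representation ℂ N ((Fin d → ℂ) →ₗ[ℂ] (Fin d → ℂ)) := τ.comp N.subtype
  let P := Representation.averageMap τN
  have hσ : σ.IsIrreducible := by
    obtain ⟨e, ρ', hρ', heq⟩ := h
    have h1 : Cfsg.classInner σ.character σ.character = 1 := by
      rw [show σ.character = ρ'.character from (heq.trans rfl).symm]
      exact CfsgLib.Characters.classInner_irr_self ⟨e, ρ', hρ', rfl⟩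
    rcases CfsgLib.Characters.rep_trichotomy σ with hs | hs | ⟨U, U', hUU, h2, h3⟩
    · rw [CfsgLib.Characters.classInner_char_eq_finrank] at h1
      haveI := hs
      haveI : Subsingleton (Representation.IntertwiningMap σ σ) := ⟨fun a b => by
        apply Representation.IntertwiningMap.toLinearMap_injective
        exact Subsingleton.elim _ _⟩
      rw [Module.finrank_zero_of_subsingleton] at h1
      norm_num at h1
    · exact hs
    · exfalso
      rw [CfsgLib.Characters.character_of_isCompl σ U U' hUU] at h1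
      obtain ⟨a, ha⟩ := CfsgLib.Characters.classInner_char_nat (CfsgLib.Characters.isCharacter_character U.toRepresentation) (CfsgLib.Characters.isCharacter_character U'.toRepresentation)
      have hpos : ∀ (W : Subrepresentation σ), Module.finrank ℂ W.toSubmodule ≠ 0 →
          ∃ b : ℕ, 0 < b ∧ Cfsg.classInner W.toRepresentation.character W.toRepresentation.character = b := by
        intro W hW
        obtain ⟨b, hb⟩ := CfsgLib.Characters.classInner_char_nat (CfsgLib.Characters.isCharacter_character W.toRepresentation) (CfsgLib.Characters.isCharacter_character W.toRepresentation)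
        refine ⟨b, Nat.pos_of_ne_zero fun h0 => hW ?_, hb⟩
        rw [h0, Nat.cast_zero, Cfsg.classInner, mul_eq_zero] at hb
        have hs := hb.resolve_left (by simp)
        simp only [Complex.mul_conj, ← Complex.ofReal_sum, Complex.ofReal_eq_zero] at hs
        rw [Finset.sum_eq_zero_iff_of_nonneg (fun n _ => Complex.normSq_nonneg _)] at hs
        have := Complex.normSq_eq_zero.1 (hs 1 (Finset.mem_univ _))
        rw [Representation.char_one] at this
        exact_mod_cast this
      have hsum := Submodule.finrank_add_eq_of_isCompl hUU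
      obtain ⟨b, hb, hb'⟩ := hpos U (by omega)
      obtain ⟨c, hc, hc'⟩ := hpos U' (by omega)
      rw [CfsgLib.Characters.classInner_add_left, CfsgLib.Characters.classInner_add_right,
        CfsgLib.Characters.classInner_add_right, ha, hb', hc',
        CfsgLib.Characters.classInner_conj_symm U.toRepresentation.character U'.toRepresentation.character, ha, map_natCast] at h1
      have : b + a + (a + c) = 1 := by exact_mod_cast h1
      omega
  haveI := hσ
  have hfix : ∀ v, τ x (P v) = P v := by
    intro v
    have hinv : ∀ n : N, τN n (P v) = P v := fun n => Representation.averageMap_invariant τN v n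
    obtain ⟨c, hc⟩ := CfsgLib.CharScalar.exists_scalar σ (P v) (fun n => by
      have := hinv n
      conv_lhs => rw [← this]
      refine LinearMap.ext fun w => ?_
      show ρ (n : G) ((P v) (ρ (n : G)⁻¹ (ρ (n : G) w))) = ρ (n : G) ((P v) w)
      rw [Representation.inv_self_apply])
    rw [hc]
    refine LinearMap.ext fun w => ?_
    show ρ x (c • ρ x⁻¹ w) = c • w
    rw [map_smul, Representation.self_inv_apply]
  have hPsum : P = (Fintype.card N : ℂ)⁻¹ • ∑ n : N, τ (n : G) := by
    ext v
    simp [P, Representation.averageMap, GroupAlgebra.average, τN, map_sum,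
      Representation.asAlgebraHom_single, invOf_eq_inv]
  have key : ∀ y : G, cosetNorm N ρ.character y =
      LinearMap.trace ℂ ((Fin d → ℂ) →ₗ[ℂ] (Fin d → ℂ)) (τ y * P) := by
    intro y
    rw [cosetNorm, hPsum, mul_smul_comm, map_smul, smul_eq_mul, Nat.card_eq_fintype_card,
      Finset.mul_sum Finset.univ (fun n : N => τ (n : G)) (τ y), map_sum]
    refine congrArg _ (Finset.sum_congr rfl fun n _ => ?_)
    rw [← map_mul]
    show _ = τ.character (y * n)
    rw [Representation.char_linHom, CfsgLib.Characters.char_inv_eq_conj, mul_comm]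
  have h1 : cosetNorm N ρ.character x = cosetNorm N ρ.character 1 := by
    rw [key, key, map_one, one_mul]
    congr 1
    exact LinearMap.ext hfix
  rw [h1, cosetNorm]
  simp only [one_mul]
  exact CfsgLib.Characters.classInner_irr_self (G := N) h

/-- Let N be a normal subgroup of the finite group G and χ an irreducible complex character of G. Then the restriction of χ to N is not irreducible if and only if χ vanishes on some whole coset Nx of N in G. -/
theorem result {G : Type*} [Group G] [Finite G] (N : Subgroup G) [N.Normal] (χ : Cfsg.IrrCharacter G) : ¬ Cfsg.IsIrrCharacter ↥N (fun n : ↥N => (χ : G → ℂ) n) ↔ ∃ x : G, ∀ n : ↥N, (χ : G → ℂ) ((n : G) * x) = 0 := by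
  classical
  haveI : Fintype G := Fintype.ofFinite G
  haveI : Fintype N := Fintype.ofFinite N
  have hχ := CfsgLib.Characters.irr_isCharacter χ
  constructor
  · intro hred
    by_contra! hno
    have hres : Cfsg.IsCharacter N (fun n : N => (χ : G → ℂ) n) := by
      obtain ⟨d, ρ, hρ⟩ := hχ
      exact ⟨d, ρ.comp N.subtype, by rw [← hρ]; rfl⟩
    obtain ⟨m, hm⟩ := CfsgLib.Characters.classInner_char_nat hres hres
    have hm1 : cosetNorm N (χ : G → ℂ) 1 = m := by
      rw [← hm, cosetNorm, Cfsg.classInner]
      simp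
    have hm2 : m ≠ 1 := fun hm1' => hred (norm_one_irr hres (by rw [hm, hm1', Nat.cast_one]))
    have hm0 : m ≠ 0 := by
      intro h0
      rw [h0, Nat.cast_zero, cosetNorm] at hm1
      simp only [one_mul, Complex.mul_conj, ← Complex.ofReal_sum, mul_eq_zero, inv_eq_zero,
        Nat.cast_eq_zero, Complex.ofReal_eq_zero] at hm1
      rw [Finset.sum_eq_zero_iff_of_nonneg (fun n _ => Complex.normSq_nonneg _)] at hm1
      have := hm1.resolve_left Nat.card_pos.ne' (1 : N) (Finset.mem_univ _)
      exact CfsgLib.Characters.irr_one_ne_zero χ (Complex.normSq_eq_zero.1 this)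
    have hnorm : ∀ x : G, x ∈ Subgroup.normalizer (N : Set G) := fun x => by
      rw [Subgroup.normalizer_eq_top_iff.2 inferInstance]; trivial
    have hprod : Cfsg.IsCharacter G (fun g => (χ : G → ℂ) g * (starRingEnd ℂ) ((χ : G → ℂ) g)) :=
      CfsgLib.Characters.isCharacter_mul hχ (CfsgLib.Characters.isCharacter_conj hχ)
    have hint : ∀ x : G, IsIntegral ℤ (cosetNorm N (χ : G → ℂ) x) ∧
        cosetNorm N (χ : G → ℂ) x ∈ CfsgLib.KGV.rootField (Nat.card G) :=
      fun x => CfsgLib.KGV.avg_spec hprod N x (hnorm x)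
    have htot : ∑ x : G, cosetNorm N (χ : G → ℂ) x = (Nat.card G : ℂ) := by
      have h := CfsgLib.Characters.classInner_irr_self χ.2
      rw [Cfsg.classInner, inv_mul_eq_iff_eq_mul₀ (by simp), mul_one] at h
      simp only [cosetNorm, ← Finset.mul_sum]
      rw [Finset.sum_comm, Finset.sum_congr rfl fun (n : N) _ =>
        (Fintype.sum_equiv (Equiv.mulRight (n : G)) (fun x => (χ : G → ℂ) (x * n) * (starRingEnd ℂ) ((χ : G → ℂ) (x * n)))
          (fun x => (χ : G → ℂ) x * (starRingEnd ℂ) ((χ : G → ℂ) x)) fun x => rfl), h, Finset.sum_const,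
        Finset.card_univ, nsmul_eq_mul, Nat.card_eq_fintype_card (α := N), ← mul_assoc,
        inv_mul_cancel₀ (Nat.cast_ne_zero.2 Fintype.card_ne_zero), one_mul]
    have key := CfsgLib.KGV.card_le_sum_of_totallyPositive (ι := {x : G // x ≠ 1}) (Nat.card_pos (α := G))
      (fun x => ⟨cosetNorm N (χ : G → ℂ) x, (hint x).2⟩) (fun x => (hint x).1) ?_ ?_
      ((Nat.card G : ℚ) - m) ?_
    · push_cast at key
      simp only [Fintype.card_subtype_compl, Fintype.card_subtype_eq] at key
      rw [Nat.cast_sub Fintype.card_pos, Nat.card_eq_fintype_card, Nat.cast_one] at key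
      have h2 : (2 : ℝ) ≤ m := by exact_mod_cast (show 2 ≤ m by omega)
      linarith
    · intro x h0
      have h0' : cosetNorm N (χ : G → ℂ) x = 0 := congrArg Subtype.val h0
      simp only [cosetNorm, Complex.mul_conj, ← Complex.ofReal_sum, mul_eq_zero, inv_eq_zero,
        Nat.cast_eq_zero, Complex.ofReal_eq_zero] at h0'
      rw [Finset.sum_eq_zero_iff_of_nonneg (fun n _ => Complex.normSq_nonneg _)] at h0'
      have hz := h0'.resolve_left Nat.card_pos.ne'
      obtain ⟨n, hn⟩ := hno (x : G)
      have hn' : (x : G)⁻¹ * n * x ∈ N := by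
        have := Subgroup.Normal.conj_mem inferInstance (n : G) n.2 ((x : G)⁻¹)
        simpa using this
      have h1 := Complex.normSq_eq_zero.1 (hz ⟨_, hn'⟩ (Finset.mem_univ _))
      refine hn ?_
      rw [← h1]
      congr 1
      group
    · intro σ x
      have hmem : ∀ n : N, (χ : G → ℂ) ((x : G) * n) ∈ CfsgLib.KGV.rootField (Nat.card G) :=
        fun n => CfsgLib.KGV.char_mem_rootField hχ _
      refine ⟨(Nat.card N : ℝ)⁻¹ * ∑ n : N, Complex.normSq (σ ⟨_, hmem n⟩), mul_nonneg (by positivity) (Finset.sum_nonneg fun n _ => Complex.normSq_nonneg _), ?_⟩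
      have e : (⟨cosetNorm N (χ : G → ℂ) x, (hint x).2⟩ : CfsgLib.KGV.rootField (Nat.card G)) =
          (Nat.card N : CfsgLib.KGV.rootField (Nat.card G))⁻¹ *
            ∑ n : N, ⟨_, hmem n⟩ * ⟨_, CfsgLib.KGV.conj_mem_rootField (hmem n)⟩ :=
        Subtype.ext (by simp [cosetNorm])
      rw [e, map_mul, map_inv₀, map_natCast, map_sum]
      push_cast
      congr 1
      refine Finset.sum_congr rfl fun n _ => ?_
      rw [map_mul, CfsgLib.KGV.map_conj_rootField Nat.card_pos σ (hmem n), Complex.mul_conj]
    · have := Finset.sum_erase_add Finset.univ (fun x => cosetNorm N (χ : G → ℂ) x) (Finset.mem_univ (1 : G))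
      rw [htot, hm1] at this
      push_cast
      rw [← Finset.sum_subtype (Finset.univ.erase (1 : G)) (by simp) (fun x => cosetNorm N (χ : G → ℂ) x)]
      linear_combination this
  · rintro ⟨x, hx⟩ hirr
    have h := cosetNorm_eq_one N _ χ.2 hirr x
    have hz : ∀ n : N, (χ : G → ℂ) (x * n) = 0 := by
      intro n
      have := hx ⟨x * n * x⁻¹, Subgroup.Normal.conj_mem inferInstance (n : G) n.2 x⟩
      simpa [mul_assoc] using this
    simp [cosetNorm, hz] at h

end Cfsg.Agent.S4996
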