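import Cfsg.Statements.S4997
import Cfsg.Agent.Lib.KGV.OneVanishingClass
set_option autoImplicit false
open Cfsg

namespace Cfsg.Agent.S4997

/-- Let p be an odd prime and G a finite solvable group with exactly one conjugacy class consisting of vanishing elements (elements at which some irreducible complex character is zero) of order divisible by p. Let P be a Sylow p-subgroup of G. Then the order of P is at most p times the order of the largest normal p-subgroup of G. -/
theorem result {G : Type*} [Group G] [Finite G] (hsolv : Group.IsSolvable G) (p : ℕ) [Fact p.Prime] (hp : p ≠ 2) (h1 : Set.ncard {C : ConjClasses G | (∀ g ∈ C.carrier, ∃ χ : Cfsg.IrrCharacter G, (χ : G → ℂ) g = 0) ∧ ∃ g ∈ C.carrier, p ∣ orderOf g} = 1) (P : Sylow p G) : Nat.card ↥(P : Subgroup G) ≤ p * Nat.card ↥(Cfsg.pCore p G) := by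
  classical
  haveI := hsolv
  have hone : CfsgLib.KGV.OneClass.One p G := by
    intro a b ha hap hb hbp
    obtain ⟨C, hC⟩ := Set.ncard_eq_one.1 h1
    have key : ∀ g : G, (∃ χ : Cfsg.IrrCharacter G, (χ : G → ℂ) g = 0) → p ∣ orderOf g →
        ConjClasses.mk g = C := by
      intro g ⟨χ, hχ⟩ hgp
      have hmem : ConjClasses.mk g ∈ ({C} : Set (ConjClasses G)) := by
        rw [← hC]
        refine ⟨fun x hx => ⟨χ, ?_⟩, g, ConjClasses.mem_carrier_mk, hgp⟩
        rw [CfsgLib.Characters.classFunction_eq_of_isConj (CfsgLib.Characters.irr_isClassFunction χ)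
          (ConjClasses.mk_eq_mk_iff_isConj.1 (ConjClasses.mem_carrier_iff_mk_eq.1 hx))]
        exact hχ
      exact hmem
    exact ConjClasses.mk_eq_mk_iff_isConj.1 ((key a ha hap).trans (key b hb hbp).symm)
  haveI : (Cfsg.pCore p G).Normal := CfsgLib.Fitting.pCore_normal p
  set O := Cfsg.pCore p G with hO
  obtain ⟨hP', -⟩ := CfsgLib.KGV.OneClass.sylow_le hp (Nat.card (G ⧸ O)) (G ⧸ O) le_rfl inferInstance
    CfsgLib.PCore.pCore_quotient_pCore
    (CfsgLib.KGV.OneClass.one_of_surjective (QuotientGroup.mk' O) (QuotientGroup.mk'_surjective O) hone)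
  obtain ⟨P'⟩ := (inferInstance : Nonempty (Sylow p (G ⧸ O)))
  have h2 := hP' P'
  rw [P'.card_eq_multiplicity] at h2
  obtain ⟨j, hj⟩ := IsPGroup.iff_card.1 (CfsgLib.PCore.pCore_isPGroup (p := p) (G := G))
  rw [← hO] at hj
  rw [P.card_eq_multiplicity, Subgroup.card_eq_card_quotient_mul_card_subgroup O,
    Nat.factorization_mul Nat.card_pos.ne' Nat.card_pos.ne', Finsupp.add_apply, hj,
    (Fact.out : p.Prime).factorization_pow, Finsupp.single_eq_same, pow_add]
  exact Nat.mul_le_mul_right _ h2

end Cfsg.Agent.S4997
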