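import Cfsg.Statements.S5001
import Cfsg.Agent.Lib.Blocks.WeakOrth
import Cfsg.Agent.Lib.KGV.Knorr
import Cfsg.Agent.Lib.Chars17.IrrBasic
import Cfsg.Agent.Lib.Characters.LinearExt

set_option autoImplicit false
open Cfsg CfsgLib.Blocks CfsgLib.Characters
open scoped ComplexConjugate

namespace Cfsg.Agent.S5001

open Cfsg CfsgLib.Characters CfsgLib.Blocks in
theorem not_pdvd_of {p : ℕ} [Fact p.Prime] {n : ℕ} (hn : n ≠ 0) {t : ℕ} (ht : n.factorization p ≤ t) {s : ℕ}
    (hs : t < s) (h : p ^ s ∣ n) : False := by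
  have := ((Fact.out : p.Prime).pow_dvd_iff_le_factorization hn).1 h
  omega

/-- Let p be a prime, G a finite group and B a p-block of G (relative to a maximal ideal M of the algebraic integers containing p) with defect group D. Let Z be a central p-subgroup of G contained in D and λ a linear character of Z (a homomorphism to the nonzero complex numbers). Say an irreducible character χ of G lies over λ when χ(z) = χ(1)λ(z) for all z ∈ Z. If some irreducible character in B lying over λ has height zero, then λ extends to a linear character of D. -/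
theorem result {G : Type*} [Group G] [Finite G] (p : ℕ) [Fact p.Prime] (M : Ideal Cfsg.AlgInt) (hM : Cfsg.IsPModular p M) (B : Set (Cfsg.IrrCharacter G)) (hB : Cfsg.IsPBlock M B) (D : Subgroup G) (hD : Cfsg.IsDefectGroup p M B D) (Z : Subgroup G) (hZc : Z ≤ Subgroup.center G) (hZp : IsPGroup p ↥Z) (hZD : Z ≤ D) (lam : ↥Z →* ℂˣ) (χ : Cfsg.IrrCharacter G) (hχ : χ ∈ B) (hover : (∀ z : ↥Z, (χ : G → ℂ) z = (χ : G → ℂ) 1 * (lam z : ℂ))) (h0 : Cfsg.blockHeight p B (χ : G → ℂ) = 0) : (∃ μ : ↥D →* ℂˣ, ∀ z : ↥Z, μ ⟨(z : G), hZD z.2⟩ = lam z) := by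
  classical
  haveI : Fintype G := Fintype.ofFinite G
  have hp : p.Prime := Fact.out
  obtain ⟨g, ⟨-, hgne, hgcen⟩, hPex⟩ := hD
  set C := Subgroup.centralizer ({g} : Set G) with hC
  obtain ⟨P, hP⟩ := hPex
  haveI : Fintype D := Fintype.ofFinite D
  have hDC : D ≤ C := hP ▸ Subgroup.map_subtype_le _
  have hgD : ∀ d ∈ D, Commute g d := fun d hd => (Subgroup.mem_centralizer_singleton_iff.1 (hDC hd)).symm
  have hgn : g ∈ Subgroup.normalizer (D : Set G) := Subgroup.mem_normalizer_iff.2 fun n => by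
    constructor
    · intro hn; rw [(hgD n hn).eq, mul_inv_cancel_right]; exact hn
    · intro hn
      have h := (hgD _ hn).eq
      rw [show g * n * g⁻¹ * g = g * n by group] at h
      have h' : g * n * g⁻¹ = n := mul_left_cancel h
      rwa [h'] at hn
  have hgreg : ¬ p ∣ orderOf g := fun h => hgne (by
    rw [blockCoeff_eq_zero_of_singular hM hB h]; exact memLocalIdeal_zero hM)
  obtain ⟨k, hk⟩ : ∃ k, Nat.card D = p ^ k := by
    rw [hP, Nat.card_congr ((P : Subgroup C).equivMapOfInjective C.subtype C.subtype_injective).symm.toEquiv]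
    exact IsPGroup.iff_card.1 P.isPGroup'
  set s := (C.index).factorization p with hs
  obtain ⟨i', hi'⟩ := Nat.ordProj_dvd C.index p
  rw [← hs] at hi'
  have hi'p : ¬ p ∣ i' := by
    rintro ⟨w, hw⟩
    exact not_pdvd_of (p := p) (t := s) (Subgroup.index_ne_zero_of_finite (H := C)) hs.ge
      (Nat.lt_succ_self s) ⟨w, by rw [pow_succ, mul_assoc, ← hw]; exact hi'⟩
  -- lower bound for the degrees and non-vanishing at the defect element
  have hint : ∀ (ψ : IrrCharacter G) (x : G), MemLocalRing M ((ψ : G → ℂ) x) := fun ψ x =>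
    memLocalRing_of_isIntegral hM (CfsgLib.KGV.char_isIntegral (irr_isCharacter ψ) x)
  have hlow : ∀ ψ ∈ B, ∀ n : ℕ, (ψ : G → ℂ) 1 = n → s ≤ n.factorization p ∧
      (n.factorization p = s → ¬ MemLocalIdeal M ((ψ : G → ℂ) g)) := by
    intro ψ hψ n hn
    have hn0 : n ≠ 0 := fun h => irr_one_ne_zero ψ (by rw [hn, h, Nat.cast_zero])
    set f := n.factorization p with hfdef
    obtain ⟨n', hn'⟩ : p ^ f ∣ n := Nat.ordProj_dvd n p
    have hn'p : ¬ p ∣ n' := by
      rintro ⟨w, hw⟩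
      exact not_pdvd_of (p := p) (t := f) hn0 hfdef.ge (Nat.lt_succ_self f)
        ⟨w, by rw [pow_succ, mul_assoc, ← hw]; exact hn'⟩
    have hnC : (n : ℂ) = (p : ℂ) ^ f * (n' : ℂ) := by exact_mod_cast congrArg (Nat.cast : ℕ → ℂ) hn'
    have hn'0 : (n' : ℂ) ≠ 0 := Nat.cast_ne_zero.2 fun h => hn'p (h ▸ dvd_zero p)
    have hp0 : (p : ℂ) ≠ 0 := Nat.cast_ne_zero.2 hp.ne_zero
    have homega : ∀ e : ℕ, s = n.factorization p + e → centralChar (ψ : G → ℂ) g =
        ((p : ℂ) ^ e * (i' : ℂ) * (n' : ℂ)⁻¹) * (ψ : G → ℂ) g := by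
      intro e he
      unfold centralChar
      rw [hn, hnC, hi', he, pow_add]
      push_cast
      field_simp
      ring
    have hcoef : ∀ e : ℕ, MemLocalRing M ((p : ℂ) ^ e * (i' : ℂ) * (n' : ℂ)⁻¹) := fun e => by
      refine (lRing hM).mul_mem ((lRing hM).mul_mem (pow_mem ?_ e) ?_) (inv_natCast_mem_lRing hM hn'p)
      · exact natCast_mem (lRing hM) p
      · exact natCast_mem (lRing hM) i'
    constructor
    · by_contra hlt
      obtain ⟨e, he⟩ := Nat.exists_eq_add_of_lt (not_le.1 hlt)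
      apply hgcen ψ hψ
      rw [homega (e + 1) (by omega)]
      refine MemLocalIdeal.mul_right hM ?_ (hint ψ g)
      rw [pow_succ', mul_assoc (p : ℂ), mul_assoc (p : ℂ)]
      exact MemLocalIdeal.mul_right hM (memLocalIdeal_p hM) (hcoef e)
    · intro heq hbad
      apply hgcen ψ hψ
      rw [homega 0 (by omega)]
      exact MemLocalIdeal.mul_left hM (hcoef 0) hbad
  -- some member of `B` attains the bound
  have hup : ∃ ψ ∈ B, (charDegree (ψ : G → ℂ)).factorization p ≤ s := by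
    by_contra! hcon
    apply hgne
    have hsum : ∀ d : D, d ≠ 1 → blockCoeff B (g * d) = 0 := by
      intro d hd
      apply blockCoeff_eq_zero_of_singular hM hB
      obtain ⟨j, hj⟩ := (Nat.dvd_prime_pow hp).1 (hk ▸ orderOf_dvd_natCard (G := D) d)
      have hj0 : j ≠ 0 := fun h => hd (orderOf_eq_one_iff.1 (by rw [hj.2, h, pow_zero]))
      have hcop : (orderOf g).Coprime (orderOf (d : G)) := by
        rw [Subgroup.orderOf_coe, hj.2]
        exact Nat.Coprime.pow_right j (hp.coprime_iff_not_dvd.2 hgreg).symm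
      rw [(hgD d d.2).orderOf_mul_eq_mul_orderOf_of_coprime hcop, Subgroup.orderOf_coe, hj.2]
      exact dvd_mul_of_dvd_right (dvd_pow_self p hj0) _
    let A : IrrCharacter G → ℂ := fun ψ => (Nat.card D : ℂ)⁻¹ * ∑ d : D, conj ((ψ : G → ℂ) (g * d))
    have hA : ∀ ψ, MemLocalRing M (A ψ) := fun ψ => memLocalRing_of_isIntegral hM
      (CfsgLib.KGV.avg_spec (isCharacter_conj (irr_isCharacter ψ)) D g hgn).1
    have hS : ∑ ψ ∈ Finset.univ.filter (· ∈ B), (ψ : G → ℂ) 1 * A ψ =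
        (Nat.card G : ℂ) * (Nat.card D : ℂ)⁻¹ * blockCoeff B g := by
      have hG : (Nat.card G : ℂ) ≠ 0 := Nat.cast_ne_zero.2 Nat.card_pos.ne'
      have h1 : ∑ ψ ∈ Finset.univ.filter (· ∈ B), (ψ : G → ℂ) 1 * A ψ =
          (Nat.card D : ℂ)⁻¹ * ∑ d : D, (Nat.card G : ℂ) * blockCoeff B (g * d) := by
        simp only [blockCoeff_eq_sum, ← mul_assoc, mul_inv_cancel₀ hG, one_mul, A, Finset.mul_sum]
        rw [Finset.sum_comm]
        exact Finset.sum_congr rfl fun d _ => Finset.sum_congr rfl fun ψ _ => by ring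
      rw [h1, Finset.sum_eq_single (1 : D) (fun d _ hd => by rw [hsum d hd, mul_zero])
        (fun h => absurd (Finset.mem_univ _) h), Subgroup.coe_one, mul_one]
      ring
    obtain ⟨c, hcc⟩ : ∃ c : ℂ, MemLocalRing M c ∧
        ∑ ψ ∈ Finset.univ.filter (· ∈ B), (ψ : G → ℂ) 1 * A ψ = (p : ℂ) ^ (s + 1) * c := by
      have hterm : ∀ ψ ∈ Finset.univ.filter (· ∈ B), ∃ c : ℂ, MemLocalRing M c ∧
          (ψ : G → ℂ) 1 * A ψ = (p : ℂ) ^ (s + 1) * c := by
        intro ψ hψ
        have h := hcon ψ (Finset.mem_filter.1 hψ).2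
        obtain ⟨w, hw⟩ : p ^ (s + 1) ∣ charDegree (ψ : G → ℂ) :=
          (Nat.pow_dvd_pow p (by omega)).trans (Nat.ordProj_dvd _ p)
        refine ⟨(w : ℂ) * A ψ, (lRing hM).mul_mem (natCast_mem (lRing hM) w) (hA ψ), ?_⟩
        rw [← CfsgLib.Chars17.cast_irrDegree, hw]
        push_cast; ring
      choose! c hc1 hc2 using hterm
      refine ⟨∑ ψ ∈ Finset.univ.filter (· ∈ B), c ψ, (lRing hM).sum_mem hc1, ?_⟩
      rw [Finset.sum_congr rfl hc2, Finset.mul_sum]
    have hidx : Nat.card G = Nat.card D * (p ^ s * (i' * P.index)) / 1 := by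
      rw [Nat.div_one, ← C.card_mul_index, ← (P : Subgroup C).card_mul_index, hi', hP,
        Nat.card_congr ((P : Subgroup C).equivMapOfInjective C.subtype C.subtype_injective).symm.toEquiv]
      ring
    rw [Nat.div_one] at hidx
    have hPp : ¬ p ∣ i' * (P : Subgroup C).index := fun h =>
      (hp.dvd_mul.1 h).elim hi'p P.not_dvd_index
    rw [hS, hidx] at hcc
    have hD0 : (Nat.card D : ℂ) ≠ 0 := Nat.cast_ne_zero.2 Nat.card_pos.ne'
    have hne : ((i' * (P : Subgroup C).index : ℕ) : ℂ) ≠ 0 :=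
      Nat.cast_ne_zero.2 fun h => hPp (h ▸ dvd_zero p)
    have ha : blockCoeff B g = (p : ℂ) * (c * ((i' * (P : Subgroup C).index : ℕ) : ℂ)⁻¹) := by
      have h2 := hcc.2
      push_cast at h2 hne ⊢
      have hp0 : (p : ℂ) ^ s ≠ 0 := pow_ne_zero _ (Nat.cast_ne_zero.2 hp.ne_zero)
      have h3 : ((i' : ℂ) * ((P : Subgroup C).index : ℂ)) * blockCoeff B g = (p : ℂ) * c := by
        apply mul_left_cancel₀ hp0
        rw [pow_succ] at h2
        rw [← mul_assoc ((p : ℂ) ^ s) (p : ℂ) c, ← h2]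
        field_simp
      rw [← mul_assoc, ← h3, mul_right_comm, mul_inv_cancel₀ hne, one_mul]
    rw [ha]
    exact MemLocalIdeal.mul_right hM (memLocalIdeal_p hM)
      ((lRing hM).mul_mem hcc.1 (inv_natCast_mem_lRing hM hPp))
  obtain ⟨ψ₀, hψ₀B, hψ₀⟩ := hup
  obtain ⟨n, hn0, hn⟩ := irr_exists_degree χ.2
  have hdeg : charDegree (χ : G → ℂ) = n := by simp [charDegree, hn]
  have hχs : n.factorization p = s := by
    refine le_antisymm ?_ (hlow χ hχ n hn).1
    unfold blockHeight at h0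
    rw [hdeg, Nat.sub_eq_zero_iff_le] at h0
    exact h0.trans ((Nat.sInf_le (Set.mem_image_of_mem _ hψ₀B)).trans hψ₀)
  have hχg := (hlow χ hχ n hn).2 hχs
  -- a linear constituent of the restriction to `D`
  let a : IrrCharacter D → ℂ := fun μ =>
    (Nat.card D : ℂ)⁻¹ * ∑ d : D, (χ : G → ℂ) (g * d) * conj ((μ : D → ℂ) d)
  have hexp : (χ : G → ℂ) g = ∑ μ : IrrCharacter D, (μ : D → ℂ) 1 * a μ := by
    simp only [a, Finset.mul_sum]
    rw [Finset.sum_comm, Finset.sum_eq_single (1 : D) ?_ (fun h => absurd (Finset.mem_univ _) h)]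
    · have h1 := sum_degree_mul_irr (G := D) 1
      rw [if_pos rfl] at h1
      have hterm : ∀ μ : IrrCharacter D, (μ : D → ℂ) 1 *
          ((Nat.card D : ℂ)⁻¹ * ((χ : G → ℂ) (g * ((1 : D) : G)) * conj ((μ : D → ℂ) 1))) =
          ((Nat.card D : ℂ)⁻¹ * (χ : G → ℂ) g) * ((μ : D → ℂ) 1 * (μ : D → ℂ) 1) := by
        intro μ
        rw [CfsgLib.Chars17.conj_irr_one μ, Subgroup.coe_one, mul_one]; ring
      rw [Finset.sum_congr rfl fun μ _ => hterm μ, ← Finset.mul_sum, h1, mul_right_comm,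
        inv_mul_cancel₀ (Nat.cast_ne_zero.2 Nat.card_pos.ne'), one_mul]
    · intro d _ hd
      have h1 := sum_degree_mul_irr (G := D) d⁻¹
      rw [if_neg (fun h => hd (inv_eq_one.1 h))] at h1
      simp only [irr_apply_inv] at h1
      calc _ = ((Nat.card D : ℂ)⁻¹ * (χ : G → ℂ) (g * d)) *
            ∑ μ : IrrCharacter D, (μ : D → ℂ) 1 * conj ((μ : D → ℂ) d) := by
              rw [Finset.mul_sum]; exact Finset.sum_congr rfl fun μ _ => by ring
        _ = 0 := by rw [h1, mul_zero]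
  obtain ⟨μ, hμ1, hμa⟩ : ∃ μ : IrrCharacter D, (μ : D → ℂ) 1 = 1 ∧ a μ ≠ 0 := by
    by_contra! hcon
    apply hχg
    rw [hexp]
    refine MemLocalIdeal.sum hM _ fun μ _ => ?_
    obtain ⟨m, hm, -, hmdvd⟩ := irr_degree_dvd_card μ
    rw [hk] at hmdvd
    obtain ⟨j, -, rfl⟩ := (Nat.dvd_prime_pow hp).1 hmdvd
    by_cases hj : j = 0
    · subst hj
      rw [hcon μ (by rw [hm, pow_zero, Nat.cast_one]), mul_zero]
      exact memLocalIdeal_zero hM
    · refine MemLocalIdeal.mul_right hM ?_ (memLocalRing_of_isIntegral hM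
        (CfsgLib.KGV.avg_char_mul (irr_isCharacter χ) D g hgD (isCharacter_conj (irr_isCharacter μ))).1)
      rw [hm, memLocalIdeal_natCast_iff hM]
      exact dvd_pow_self p hj
  obtain ⟨f, hf⟩ := CfsgLib.LinearExt.exists_unitsHom (irr_isCharacter μ) hμ1
  refine ⟨f, fun z => ?_⟩
  -- central elements act by `lam`
  obtain ⟨N, ρ, hρ, hρχ⟩ := χ.2
  haveI := hρ
  obtain ⟨c, hc⟩ := CfsgLib.CharScalar.center_scalar ρ (z := (z : G)) (hZc z.2)
  have hscal : ∀ y : G, (χ : G → ℂ) (y * z) = c * (χ : G → ℂ) y := by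
    intro y
    simp [← hρχ, Representation.character, map_mul, hc]
  have hcl : c = (lam z : ℂ) := by
    have h := hover z
    have h1 := hscal 1
    rw [one_mul] at h1
    rw [h1, mul_comm] at h
    exact mul_left_cancel₀ (irr_one_ne_zero χ) h
  set zD : D := ⟨(z : G), hZD z.2⟩ with hzD
  have hshift : a μ = (lam z : ℂ) * conj ((f zD : ℂˣ) : ℂ) * a μ := by
    have hre : ∑ d : D, (χ : G → ℂ) (g * d) * conj ((μ : D → ℂ) d) =
        ∑ d : D, (χ : G → ℂ) (g * (d * zD : D)) * conj ((μ : D → ℂ) (d * zD)) :=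
      (Fintype.sum_equiv (Equiv.mulRight zD) _ _ fun d => rfl).symm
    simp only [a]
    conv_lhs => rw [hre]
    rw [Finset.mul_sum, Finset.mul_sum, Finset.mul_sum]
    refine Finset.sum_congr rfl fun d _ => ?_
    rw [Subgroup.coe_mul, show ((zD : D) : G) = (z : G) from rfl, ← mul_assoc g, hscal, hcl]
    simp only [hf, map_mul, Units.val_mul]
    ring
  have hone : (lam z : ℂ) * conj ((f zD : ℂˣ) : ℂ) = 1 :=
    (mul_eq_right₀ hμa).1 hshift.symm
  have hroot : ((f zD : ℂˣ) : ℂ) ^ Nat.card D = 1 := by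
    rw [← Units.val_pow_eq_pow_val, ← map_pow, pow_card_eq_one', map_one, Units.val_one]
  rw [← Complex.inv_eq_conj (Complex.norm_eq_one_of_pow_eq_one hroot Nat.card_pos.ne')] at hone
  exact Units.ext ((mul_inv_eq_one₀ (Units.ne_zero _)).1 hone).symm

end Cfsg.Agent.S5001
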