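import Cfsg.Statements.S5011

set_option autoImplicit false
open Cfsg

namespace Cfsg.Agent.S5011

/-- Let G be a finite non-abelian simple group and ρ an irreducible complex representation of G on a space of dimension greater than one (irreducible in the sense that the only subspaces invariant under every ρ(x) are 0 and the whole space). Then for every non-identity element g of G, the centralizer of g does not act irreducibly: there is a non-zero proper subspace invariant under ρ(c) for every c commuting with g. -/
theorem result {G : Type*} [Group G] [Finite G] [IsSimpleGroup G]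
    (hG : ¬ IsMulCommutative G) {V : Type*} [AddCommGroup V] [Module ℂ V] [FiniteDimensional ℂ V]
    (ρ : Representation ℂ G V)
    (hirr : ∀ W : Submodule ℂ V, (∀ x : G, ∀ v ∈ W, ρ x v ∈ W) → W = ⊥ ∨ W = ⊤)
    (hdim : 1 < Module.finrank ℂ V) (g : G) (hg : g ≠ 1) :
    ∃ W : Submodule ℂ V, W ≠ ⊥ ∧ W ≠ ⊤ ∧ ∀ c ∈ Subgroup.centralizer ({g} : Set G), ∀ v ∈ W, ρ c v ∈ W := by
  classical
  by_contra hcon
  push_neg at hcon
  have hnt : Nontrivial V := Module.nontrivial_of_finrank_pos (R := ℂ) (by omega)
  obtain ⟨μ, hμ⟩ := Module.End.exists_eigenvalue (ρ g : Module.End ℂ V)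
  set E := Module.End.eigenspace (ρ g : Module.End ℂ V) μ with hE
  have hEb : E ≠ ⊥ := hμ
  have hscal : ∀ v, ρ g v = μ • v := by
    by_cases hEt : E = ⊤
    · intro v
      have : v ∈ E := by rw [hEt]; trivial
      exact Module.End.mem_eigenspace_iff.1 this
    · exfalso
      obtain ⟨c, hc, v, hv, hnv⟩ := hcon E hEb hEt
      apply hnv
      rw [hE, Module.End.mem_eigenspace_iff] at hv ⊢
      have hcg : g * c = c * g := Subgroup.mem_centralizer_singleton_iff.1 hc |>.symm
      rw [← Module.End.mul_apply, ← map_mul, hcg, map_mul, Module.End.mul_apply, hv, map_smul]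
  let K : Subgroup G :=
    { carrier := {x | ∃ r : ℂ, ∀ v, ρ x v = r • v}
      one_mem' := ⟨1, by simp⟩
      mul_mem' := by
        rintro a b ⟨r, hr⟩ ⟨s, hs⟩
        exact ⟨r * s, fun v => by rw [map_mul, Module.End.mul_apply, hs, map_smul, hr, smul_smul, mul_comm]⟩
      inv_mem' := by
        rintro a ⟨r, hr⟩
        refine ⟨r⁻¹, fun v => ?_⟩
        have h1 : ρ a (ρ a⁻¹ v) = v := Representation.self_inv_apply ρ a v
        rw [hr] at h1
        by_cases hr0 : r = 0
        · rw [hr0, zero_smul] at h1
          simp [← h1]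
        · rw [← h1, smul_smul, inv_mul_cancel₀ hr0, one_smul, h1] }
  have hN : K.Normal := by
    refine ⟨fun n hn x => ?_⟩
    obtain ⟨r, hr⟩ := hn
    exact ⟨r, fun v => by simp [map_mul, hr, map_smul]⟩
  rcases hN.eq_bot_or_eq_top with h | h
  · exact hg (by have : g ∈ K := ⟨μ, hscal⟩; rwa [h, Subgroup.mem_bot] at this)
  · obtain ⟨w, hw⟩ := exists_ne (0 : V)
    have hinv : ∀ x : G, ∀ v ∈ ℂ ∙ w, ρ x v ∈ ℂ ∙ w := by
      intro x v hv
      have : x ∈ K := by rw [h]; trivial
      obtain ⟨r, hr⟩ := this
      rw [hr]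
      exact Submodule.smul_mem _ r hv
    rcases hirr _ hinv with h' | h'
    · exact hw (by simpa using h')
    · have := finrank_span_singleton (K := ℂ) hw
      rw [h', finrank_top] at this
      omega

end Cfsg.Agent.S5011
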