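import Cfsg.Statements.S5015
import Cfsg.Agent.Lib.RootGroups.RankOne

set_option autoImplicit false
open Cfsg

namespace Cfsg.Agent.S5015

open CfsgLib.RootGroups in
theorem conj_of_point {Y Ω : Type*} [Group Y] [MulAction Y Ω] {α : Ω} {A : Subgroup Y}
    (hAn : ∀ y ∈ MulAction.stabilizer Y α, Cfsg.conjBy A y = A) {g g' : Y}
    (h : g • α = g' • α) : Cfsg.conjBy A g = Cfsg.conjBy A g' := by
  have h1 : g'⁻¹ * g ∈ MulAction.stabilizer Y α := by
    rw [MulAction.mem_stabilizer_iff, mul_smul, h, inv_smul_smul]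
  have h2 := hAn _ h1
  rw [← conjBy_conjBy] at h2
  exact conjBy_inj.mp (h2.trans (conjBy_inv_conjBy A g').symm)

open CfsgLib.RootGroups in
theorem condition_of_regular {Y Ω : Type*} [Group Y] [MulAction Y Ω] {α : Ω} {A : Subgroup Y}
    (hA : A ≤ MulAction.stabilizer Y α)
    (hAn : ∀ y ∈ MulAction.stabilizer Y α, Cfsg.conjBy A y = A)
    (hreg : ∀ β γ : Ω, β ≠ α → γ ≠ α → ∃! a : Y, a ∈ A ∧ a • β = γ)
    {g h : Y} (hne : g • α ≠ h • α) :
    Cfsg.RankOneCondition (Cfsg.conjBy A g) (Cfsg.conjBy A h) := by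
  intro a ha ha1
  have hfix : ∀ {k z : Y}, z ∈ Cfsg.conjBy A k → z • (k • α) = k • α := by
    intro k z hz
    have := MulAction.mem_stabilizer_iff.mp (hA (mem_conjBy.mp hz))
    rwa [mul_smul, mul_smul, inv_smul_eq_iff] at this
  have hregk : ∀ k : Y, ∀ β γ : Ω, β ≠ k • α → γ ≠ k • α →
      ∃! z : Y, z ∈ Cfsg.conjBy A k ∧ z • β = γ := by
    intro k β γ hβ hγ
    obtain ⟨z, ⟨hz, he⟩, hu⟩ := hreg (k⁻¹ • β) (k⁻¹ • γ)
      (by rw [Ne, inv_smul_eq_iff]; exact hβ) (by rw [Ne, inv_smul_eq_iff]; exact hγ)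
    refine ⟨k * z * k⁻¹, ⟨conj_mem_conjBy hz, by rw [mul_smul, mul_smul, he, smul_inv_smul]⟩, ?_⟩
    rintro w ⟨hw, hwe⟩
    have := hu (k⁻¹ * w * k)
      ⟨mem_conjBy.mp hw, by rw [mul_smul, mul_smul, smul_inv_smul, hwe]⟩
    rw [← this]; group
  have ha' : a⁻¹ ∈ Cfsg.conjBy A g := inv_mem ha
  have h1 : a⁻¹ • (h • α) ≠ g • α := by
    intro he
    apply hne.symm
    have h3 := congrArg (a • ·) he
    simp only [smul_inv_smul] at h3
    rwa [hfix ha] at h3
  have h2 : a⁻¹ • (h • α) ≠ h • α := by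
    intro he
    obtain ⟨w, -, hu⟩ := hregk g (h • α) (h • α) hne.symm hne.symm
    have e1 := hu a⁻¹ ⟨ha', he⟩
    have e2 := hu 1 ⟨one_mem _, one_smul _ _⟩
    exact ha1 (inv_eq_one.mp (e1.trans e2.symm))
  obtain ⟨b, ⟨hb, hbe⟩, -⟩ := hregk h (g • α) (a⁻¹ • (h • α)) hne h2
  refine ⟨b⁻¹, inv_mem hb, ?_, ?_⟩
  · rw [Ne, inv_eq_one]
    rintro rfl
    rw [one_smul] at hbe
    exact h1 hbe.symm
  · rw [inv_inv, conjBy_conjBy, conjBy_conjBy]
    exact conj_of_point hAn (by rw [mul_smul, mul_smul, hbe])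

/-- Let a group Y act doubly transitively on a set Ω with at least three points, and suppose that the stabilizer of a point α contains a nilpotent subgroup A, normalized by that stabilizer, which acts regularly on the points other than α. Then for any y in Y moving α, the subgroups A and y A y⁻¹ are the unipotent subgroups of a rank one group, and the normal closure of A in Y (the subgroup generated by all conjugates of A) is generated by A and y A y⁻¹ alone. -/
theorem result {Y Ω : Type*} [Group Y] [MulAction Y Ω]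
    (h2 : MulAction.IsMultiplyPretransitive Y Ω 2) (hΩ : 3 ≤ ENat.card Ω) (α : Ω) (A : Subgroup Y)
    (hA : A ≤ MulAction.stabilizer Y α) (hAn : ∀ y ∈ MulAction.stabilizer Y α, Cfsg.conjBy A y = A)
    (hnil : Group.IsNilpotent A) (hreg : ∀ β γ : Ω, β ≠ α → γ ≠ α → ∃! a : Y, a ∈ A ∧ a • β = γ)
    (y : Y) (hy : y ∉ MulAction.stabilizer Y α) :
    Cfsg.IsRankOnePair A (Cfsg.conjBy A y) ∧ Subgroup.normalClosure (A : Set Y) = A ⊔ Cfsg.conjBy A y := by
  open CfsgLib.RootGroups in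
  obtain ⟨hA₀, hne0⟩ : (y • α ≠ α) ∧ A ≠ ⊥ := by
    refine ⟨fun he => hy he, ?_⟩
    intro hbot
    have hsub : ∀ β γ : Ω, β ≠ α → γ ≠ α → β = γ := by
      intro β γ hβ hγ
      obtain ⟨a, ⟨ha, he⟩, -⟩ := hreg β γ hβ hγ
      rw [hbot, Subgroup.mem_bot] at ha
      rwa [ha, one_smul] at he
    have hle : ENat.card Ω ≤ 2 := by
      by_contra hc
      push Not at hc
      obtain ⟨β, hβ⟩ : ∃ β : Ω, β ≠ α := ⟨y • α, fun he => hy he⟩
      have hu : (Set.univ : Set Ω) ⊆ {α, β} := by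
        intro γ _
        by_cases hγ : γ = α
        · exact Or.inl hγ
        · exact Or.inr (hsub γ β hγ hβ)
      have h4 := (Set.encard_mono hu).trans (Set.encard_pair hβ.symm).le
      rw [Set.encard_univ] at h4
      exact absurd h4 (not_le.mpr hc)
    exact absurd (hΩ.trans hle) (by decide)
  have e1 : Cfsg.conjBy A (1 : Y) = A := CfsgLib.RootGroups.conjBy_one A
  refine ⟨⟨?_, hnil, CfsgLib.RootGroups.isNilpotent_conjBy hnil y, ?_, ?_⟩, ?_⟩
  · intro he
    obtain ⟨a, ha, ha1⟩ := CfsgLib.RootGroups.exists_ne_one_mem hne0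
    have hfix : a • (y • α) = y • α := by
      rw [he, CfsgLib.RootGroups.mem_conjBy] at ha
      have := MulAction.mem_stabilizer_iff.mp (hA ha)
      rwa [mul_smul, mul_smul, inv_smul_eq_iff] at this
    obtain ⟨w, -, hu⟩ := hreg (y • α) (y • α) hA₀ hA₀
    exact ha1 ((hu a ⟨ha, hfix⟩).trans (hu 1 ⟨A.one_mem, one_smul _ _⟩).symm)
  · have := condition_of_regular hA hAn hreg (g := 1) (h := y) (by rw [one_smul]; exact hA₀.symm)
    rwa [e1] at this
  · have := condition_of_regular hA hAn hreg (g := y) (h := 1) (by rw [one_smul]; exact hA₀)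
    rwa [e1] at this
  · refine le_antisymm ?_ (sup_le Subgroup.le_normalClosure ?_)
    · suffices hnorm : (A ⊔ Cfsg.conjBy A y).Normal by
        haveI := hnorm
        exact Subgroup.normalClosure_le_normal fun x hx => Subgroup.mem_sup_left hx
      have hall : ∀ g : Y, Cfsg.conjBy A g ≤ A ⊔ Cfsg.conjBy A y := by
        intro g
        by_cases hg : g • α = α
        · rw [conj_of_point hAn (g' := 1) (by rw [one_smul]; exact hg), e1]
          exact le_sup_left
        · obtain ⟨a, ⟨ha, he⟩, -⟩ := hreg (y • α) (g • α) hA₀ hg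
          rw [conj_of_point hAn (g' := a * y) (by rw [mul_smul, he]),
            ← CfsgLib.RootGroups.conjBy_conjBy]
          exact CfsgLib.RootGroups.conjBy_le_of_mem le_sup_right (Subgroup.mem_sup_left ha)
      constructor
      intro x hx g
      have h1 : Cfsg.conjBy (A ⊔ Cfsg.conjBy A y) g ≤ A ⊔ Cfsg.conjBy A y := by
        rw [CfsgLib.RootGroups.conjBy_sup, CfsgLib.RootGroups.conjBy_conjBy]
        exact sup_le (hall g) (hall _)
      exact h1 (CfsgLib.RootGroups.conj_mem_conjBy hx)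
    · rintro _ ⟨a, ha, rfl⟩
      exact Subgroup.normalClosure_normal.conj_mem a (Subgroup.le_normalClosure ha) y

end Cfsg.Agent.S5015
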