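import Cfsg.Statements.S5016
import Cfsg.Agent.Lib.RootGroups.RankOneGroup
import Cfsg.Agent.Lib.RootGroups.SL2Steinberg

set_option autoImplicit false
open Cfsg

namespace Cfsg.Agent.S5016

open CfsgLib.RootGroups CfsgLib.RootGroups.Steinberg Matrix in
theorem mem_upper_iff {k : Type*} [Field k] {g : SpecialLinearGroup (Fin 2) k} :
    g ∈ Cfsg.upperUnipotentSL2 k ↔ ∃ t : k, g = upper t := by
  constructor
  · intro hg
    induction hg using Subgroup.closure_induction with
    | mem g hg =>
      obtain ⟨h10, h00, h11⟩ := hg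
      exact ⟨g.1 0 1, sl2_ext (by simpa [upper_val] using h00) (by simp [upper_val])
        (by simpa [upper_val] using h10) (by simpa [upper_val] using h11)⟩
    | one => exact ⟨0, sl2_ext (by simp [upper_val]) (by simp [upper_val]) (by simp [upper_val]) (by simp [upper_val])⟩
    | mul g h _ _ ihg ihh =>
      obtain ⟨s, rfl⟩ := ihg
      obtain ⟨t, rfl⟩ := ihh
      refine ⟨t + s, sl2_ext ?_ ?_ ?_ ?_⟩ <;>
        simp [sl2_val_mul, upper_val, Matrix.mul_apply, Fin.sum_univ_two]
    | inv g _ ih =>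
      obtain ⟨t, rfl⟩ := ih
      refine ⟨-t, sl2_ext ?_ ?_ ?_ ?_⟩ <;>
        simp [sl2_val_inv, upper_val, Matrix.adjugate_fin_two]
  · rintro ⟨t, rfl⟩
    exact Subgroup.subset_closure
      ⟨by simp [upper_val], by simp [upper_val], by simp [upper_val]⟩

open CfsgLib.RootGroups CfsgLib.RootGroups.Steinberg Matrix in
theorem mem_lower_iff {k : Type*} [Field k] {g : SpecialLinearGroup (Fin 2) k} :
    g ∈ Cfsg.lowerUnipotentSL2 k ↔ ∃ t : k, g = lower t := by
  constructor
  · intro hg
    induction hg using Subgroup.closure_induction with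
    | mem g hg =>
      obtain ⟨h01, h00, h11⟩ := hg
      exact ⟨-(g.1 1 0), sl2_ext (by simpa [lower_val] using h00)
        (by simpa [lower_val] using h01) (by simp [lower_val])
        (by simpa [lower_val] using h11)⟩
    | one => exact ⟨0, sl2_ext (by simp [lower_val]) (by simp [lower_val]) (by simp [lower_val]) (by simp [lower_val])⟩
    | mul g h _ _ ihg ihh =>
      obtain ⟨s, rfl⟩ := ihg
      obtain ⟨t, rfl⟩ := ihh
      refine ⟨t + s, sl2_ext ?_ ?_ ?_ ?_⟩ <;>
        simp [sl2_val_mul, lower_val, Matrix.mul_apply, Fin.sum_univ_two]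
    | inv g _ ih =>
      obtain ⟨t, rfl⟩ := ih
      refine ⟨-t, sl2_ext ?_ ?_ ?_ ?_⟩ <;>
        simp [sl2_val_inv, lower_val, Matrix.adjugate_fin_two]
  · rintro ⟨t, rfl⟩
    exact Subgroup.subset_closure
      ⟨by simp [lower_val], by simp [lower_val], by simp [lower_val]⟩

/-- For any field k, the special linear group SL₂(k) is a special rank one group with abelian unipotent subgroups, the unipotent subgroups being the group of lower unitriangular matrices and the group of upper unitriangular matrices. -/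
theorem result (k : Type*) [Field k] :
    Cfsg.IsRankOneGroup (Matrix.SpecialLinearGroup (Fin 2) k) (Cfsg.lowerUnipotentSL2 k) (Cfsg.upperUnipotentSL2 k) ∧
    Cfsg.IsSpecialRankOnePair (Cfsg.lowerUnipotentSL2 k) (Cfsg.upperUnipotentSL2 k) ∧
    Cfsg.HasAbelianUnipotents (Cfsg.lowerUnipotentSL2 k) (Cfsg.upperUnipotentSL2 k) := by
  open CfsgLib.RootGroups CfsgLib.RootGroups.Steinberg Matrix in
  set A := Cfsg.lowerUnipotentSL2 k
  set B := Cfsg.upperUnipotentSL2 k
  have hAc : IsMulCommutative A := by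
    refine ⟨⟨fun ⟨x, hx⟩ ⟨y, hy⟩ => ?_⟩⟩
    obtain ⟨s, rfl⟩ := mem_lower_iff.mp hx
    obtain ⟨t, rfl⟩ := mem_lower_iff.mp hy
    refine Subtype.ext ?_
    show lower s * lower t = lower t * lower s
    apply sl2_ext <;> simp [sl2_val_mul, lower_val, Matrix.mul_apply, Fin.sum_univ_two] <;> ring
  have hBc : IsMulCommutative B := by
    refine ⟨⟨fun ⟨x, hx⟩ ⟨y, hy⟩ => ?_⟩⟩
    obtain ⟨s, rfl⟩ := mem_upper_iff.mp hx
    obtain ⟨t, rfl⟩ := mem_upper_iff.mp hy
    refine Subtype.ext ?_
    show upper s * upper t = upper t * upper s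
    apply sl2_ext <;> simp [sl2_val_mul, upper_val, Matrix.mul_apply, Fin.sum_univ_two] <;> ring
  -- the basic identities
  have key1 : ∀ x r : k, x ≠ 0 → (upper (-x⁻¹))⁻¹ * lower r * upper (-x⁻¹) =
      (lower x)⁻¹ * upper (r / x ^ 2) * lower x := by
    intro x r hx
    apply sl2_ext <;>
      simp [sl2_val_mul, sl2_val_inv, upper_val, lower_val, Matrix.mul_apply, Fin.sum_univ_two,
        Matrix.adjugate_fin_two] <;> field_simp <;> ring
  have hfwd : ∀ x : k, x ≠ 0 →
      Cfsg.conjBy A (upper (-x⁻¹))⁻¹ = Cfsg.conjBy B (lower x)⁻¹ := by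
    intro x hx
    ext g
    rw [mem_conjBy, mem_conjBy, inv_inv, inv_inv]
    constructor
    · intro hg
      obtain ⟨r, hr⟩ := mem_lower_iff.mp hg
      refine mem_upper_iff.mpr ⟨r / x ^ 2, ?_⟩
      have h2 := key1 x r hx
      rw [← hr] at h2
      rw [show g = (upper (-x⁻¹))⁻¹ * (upper (-x⁻¹) * g * (upper (-x⁻¹))⁻¹) * upper (-x⁻¹) by group,
        h2]
      group
    · intro hg
      obtain ⟨s, hs⟩ := mem_upper_iff.mp hg
      refine mem_lower_iff.mpr ⟨s * x ^ 2, ?_⟩
      have h2 := key1 x (s * x ^ 2) hx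
      rw [show s * x ^ 2 / x ^ 2 = s by field_simp, ← hs] at h2
      rw [show g = (lower x)⁻¹ * (lower x * g * (lower x)⁻¹) * lower x by group, ← h2]
      group
  have hne0 : ∀ x : k, x ≠ 0 → lower x ≠ 1 ∧ upper x ≠ 1 := by
    intro x hx
    constructor <;> intro h0
    · have := congrFun (congrFun (congrArg Subtype.val h0) 1) 0
      simp [lower_val] at this
      exact hx this
    · have := congrFun (congrFun (congrArg Subtype.val h0) 0) 1
      simp [upper_val] at this
      exact hx this
  have hpair : Cfsg.IsRankOnePair A B := by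
    haveI := hAc
    haveI := hBc
    refine ⟨?_, ?_, ?_, ?_, ?_⟩
    · intro he
      have h1 : upper (1 : k) ∈ A := he.symm ▸ mem_upper_iff.mpr ⟨1, rfl⟩
      obtain ⟨t, ht⟩ := mem_lower_iff.mp h1
      have := congrFun (congrFun (congrArg Subtype.val ht) 0) 1
      simp [upper_val, lower_val] at this
    · letI : CommGroup A := { (inferInstance : Group A) with mul_comm := hAc.is_comm.comm }
      exact CommGroup.isNilpotent (G := A)
    · letI : CommGroup B := { (inferInstance : Group B) with mul_comm := hBc.is_comm.comm }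
      exact CommGroup.isNilpotent (G := B)
    · intro a ha ha1
      obtain ⟨x, rfl⟩ := mem_lower_iff.mp ha
      have hx : x ≠ 0 := fun h0 => ha1 (by rw [h0]; apply sl2_ext <;> simp [lower_val])
      exact ⟨upper (-x⁻¹), mem_upper_iff.mpr ⟨_, rfl⟩,
        (hne0 _ (neg_ne_zero.mpr (inv_ne_zero hx))).2, hfwd x hx⟩
    · intro b hb hb1
      obtain ⟨y, rfl⟩ := mem_upper_iff.mp hb
      have hy : y ≠ 0 := fun h0 => hb1 (by rw [h0]; apply sl2_ext <;> simp [upper_val])
      refine ⟨lower (-y⁻¹), mem_lower_iff.mpr ⟨_, rfl⟩,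
        (hne0 _ (neg_ne_zero.mpr (inv_ne_zero hy))).1, ?_⟩
      have := hfwd (-y⁻¹) (neg_ne_zero.mpr (inv_ne_zero hy))
      rw [inv_neg, neg_neg, inv_inv] at this
      exact this.symm
  refine ⟨⟨?_, hpair⟩, ⟨hpair, ?_⟩, hAc, hBc⟩
  · rw [eq_top_iff]
    intro g _
    have hU : ∀ t : k, upper t ∈ A ⊔ B := fun t => Subgroup.mem_sup_right (mem_upper_iff.mpr ⟨t, rfl⟩)
    have hL : ∀ t : k, lower t ∈ A ⊔ B := fun t => Subgroup.mem_sup_left (mem_lower_iff.mpr ⟨t, rfl⟩)
    have hdet := sl2_det g
    by_cases hc : g.1 1 0 = 0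
    · rw [hc, mul_zero, sub_zero] at hdet
      have ha : g.1 0 0 ≠ 0 := left_ne_zero_of_mul_eq_one hdet
      have : g = upper (g.1 0 0) * lower (g.1 0 0)⁻¹ * upper (g.1 0 0) * upper (-1) * lower (-1) *
          upper (-1) * upper (g.1 0 1 / g.1 0 0) := by
        apply sl2_ext <;>
          simp [sl2_val_mul, upper_val, lower_val, Matrix.mul_apply, Fin.sum_univ_two, hc] <;>
          field_simp
        all_goals first
          | linear_combination hdet
          | linear_combination -hdet
          | ring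
          | simp
      rw [this]
      exact mul_mem (mul_mem (mul_mem (mul_mem (mul_mem (mul_mem (hU _) (hL _)) (hU _)) (hU _))
        (hL _)) (hU _)) (hU _)
    · have : g = upper ((g.1 0 0 - 1) / g.1 1 0) * lower (-(g.1 1 0)) *
          upper ((g.1 1 1 - 1) / g.1 1 0) := by
        apply sl2_ext <;>
          simp [sl2_val_mul, upper_val, lower_val, Matrix.mul_apply, Fin.sum_univ_two] <;>
          field_simp
        all_goals first
          | linear_combination hdet
          | linear_combination -hdet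
          | ring
      rw [this]
      exact mul_mem (mul_mem (hU _) (hL _)) (hU _)
  · intro a ha ha1 b hb hb1 he
    obtain ⟨x, rfl⟩ := mem_lower_iff.mp ha
    have hx : x ≠ 0 := fun h0 => ha1 (by rw [h0]; apply sl2_ext <;> simp [lower_val])
    have hb' : b = upper (-x⁻¹) := rankOne_partner_unique hpair hb
      (mem_upper_iff.mpr ⟨_, rfl⟩) (he.trans (hfwd x hx).symm)
    rw [hb', key1 x x hx]
    have : (upper (-x⁻¹) : SpecialLinearGroup (Fin 2) k)⁻¹ = upper (-(-x⁻¹)) := by
      apply sl2_ext <;> simp [sl2_val_inv, upper_val, Matrix.adjugate_fin_two]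
    rw [this]
    congr 2
    apply sl2_ext <;> simp [upper_val] <;> field_simp

end Cfsg.Agent.S5016
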