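import Cfsg.Statements.S5020
import Cfsg.Agent.Lib.RootGroups.Special
import Cfsg.Agent.Lib.RootGroups.RankOneGroup

set_option autoImplicit false
open Cfsg

namespace Cfsg.Agent.S5020

theorem quasisimple_of_equiv {X Y : Type*} [Group X] [Group Y] (e : X ≃* Y)
    (h : Cfsg.IsQuasisimple X) : Cfsg.IsQuasisimple Y := by
  refine ⟨⟨?_⟩, ?_⟩
  · have h1 : Subgroup.map e.toMonoidHom (commutator X) = commutator Y := by
      rw [commutator_def, Subgroup.map_commutator,
        Subgroup.map_top_of_surjective e.toMonoidHom e.surjective, ← commutator_def]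
    rw [← h1, h.1.commutator_eq_top, Subgroup.map_top_of_surjective e.toMonoidHom e.surjective]
  · haveI := h.2
    have hz : (Subgroup.center X).map e.toMonoidHom = Subgroup.center Y := by
      ext y
      rw [Subgroup.mem_center_iff]
      constructor
      · rintro ⟨x, hx, rfl⟩ g
        obtain ⟨g, rfl⟩ := e.surjective g
        show e g * e x = e x * e g
        rw [← map_mul, ← map_mul, Subgroup.mem_center_iff.mp hx g]
      · intro hy
        refine ⟨e.symm y, Subgroup.mem_center_iff.mpr fun g => e.injective ?_, e.apply_symm_apply y⟩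
        rw [map_mul, map_mul, e.apply_symm_apply]; exact hy _
    let f := QuotientGroup.congr (Subgroup.center X) (Subgroup.center Y) e hz
    haveI : Nontrivial (Y ⧸ Subgroup.center Y) := f.symm.toEquiv.nontrivial
    exact IsSimpleGroup.isSimpleGroup_of_surjective f.toMonoidHom f.surjective

open CfsgLib.RootGroups in
theorem card_le_three_iso {X : Type*} [Group X] {A B : Subgroup X} (h : Cfsg.IsRankOneGroup X A B)
    (hs : Cfsg.IsSpecialRankOnePair A B) (hA : IsMulCommutative A) (hB : IsMulCommutative B)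
    (hcard : ENat.card A ≤ 3) :
    (Nonempty (X ≃* Matrix.SpecialLinearGroup (Fin 2) (ZMod 2)) ∨
        Nonempty (X ≃* Matrix.SpecialLinearGroup (Fin 2) (ZMod 3)) ∨
        Nonempty (X ≃* Matrix.ProjectiveSpecialLinearGroup (Fin 2) (ZMod 3))) := by
  haveI hfin : Finite A := by
    rw [← ENat.card_lt_top]
    exact lt_of_le_of_lt hcard (by decide)
  have hle : Nat.card A ≤ 3 := by
    rw [ENat.card_eq_coe_natCard] at hcard
    exact_mod_cast hcard
  obtain ⟨a, ha, ha1⟩ := exists_ne_one_mem (rankOne_left_ne_bot h.2)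
  have hne : Nat.card A ≠ 1 := by
    intro h1
    haveI := (Nat.card_eq_one_iff_unique.mp h1).1
    exact ha1 (congrArg Subtype.val (Subsingleton.elim (⟨a, ha⟩ : A) 1))
  have hpos : 0 < Nat.card A := Nat.card_pos
  obtain ⟨c, m⟩ := exists_mate h.2 ha ha1
  have hgen : ∀ (p : ℕ) [Fact p.Prime], Nat.card A = p →
      Subgroup.closure ({a, c⁻¹} : Set X) = ⊤ ∧ a ^ p = 1 := by
    intro p _ hp
    have hcyc : ∀ {C : Subgroup X}, Nat.card C = p → ∀ {g : X}, g ∈ C → g ≠ 1 →
        Subgroup.zpowers g = C := by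
      intro C hC g hg hg1
      refine le_antisymm (Subgroup.zpowers_le.mpr hg) fun x hx => ?_
      have := mem_zpowers_of_prime_card hC (g := (⟨g, hg⟩ : C)) (g' := ⟨x, hx⟩)
        (fun h0 => hg1 (congrArg Subtype.val h0))
      obtain ⟨n, hn⟩ := Subgroup.mem_zpowers_iff.mp this
      exact Subgroup.mem_zpowers_iff.mpr ⟨n, by simpa using congrArg Subtype.val hn⟩
    have hAB : Nat.card B = p := by
      obtain ⟨x, -, hx⟩ := right_mem_unipotent h.2
      rw [hx, ← hp]
      exact (Nat.card_congr (A.equivMapOfInjective (MulAut.conj x).toMonoidHom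
        (MulAut.conj x).injective).toEquiv).symm
    refine ⟨?_, ?_⟩
    · rw [eq_top_iff, ← h.1, ← hcyc hp ha ha1, ← hcyc hAB (inv_mem m.memB) (inv_ne_one.mpr m.neB)]
      exact sup_le (Subgroup.zpowers_le.mpr (Subgroup.subset_closure (Set.mem_insert a _)))
        (Subgroup.zpowers_le.mpr
          (Subgroup.subset_closure (Set.mem_insert_of_mem a (Set.mem_singleton c⁻¹))))
    · have := pow_card_eq_one' (G := A) (x := ⟨a, ha⟩)
      rw [hp] at this
      exact congrArg Subtype.val this
  rcases (show Nat.card A = 2 ∨ Nat.card A = 3 by omega) with hc | hc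
  · haveI : Fact (Nat.Prime 2) := ⟨Nat.prime_two⟩
    obtain ⟨htop, hp⟩ := hgen 2 hc
    obtain ⟨f, hr, hk⟩ := special_generate_sl2 hs hA hB m hp
    refine Or.inl ?_
    have hbot : f.ker = ⊥ := by
      rw [Subgroup.eq_bot_iff_forall]
      intro g hg
      obtain ⟨g01, g10, g11, gsq⟩ := sl2_center_entries (hk hg)
      have h00 : g.1 0 0 = 1 := by
        rcases mul_self_eq_one_iff.mp gsq with h1 | h1
        · exact h1
        · rw [h1]; rfl
      apply Steinberg.sl2_ext <;> simp [g01, g10, g11, h00]
    exact ⟨((MonoidHom.ofInjective ((MonoidHom.ker_eq_bot_iff f).mp hbot)).trans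
      ((MulEquiv.subgroupCongr (hr.trans htop)).trans Subgroup.topEquiv)).symm⟩
  · haveI : Fact (Nat.Prime 3) := ⟨Nat.prime_three⟩
    obtain ⟨htop, hp⟩ := hgen 3 hc
    refine Or.inr ?_
    let e : ↥(Subgroup.closure ({a, c⁻¹} : Set X)) ≃* X :=
      (MulEquiv.subgroupCongr htop).trans Subgroup.topEquiv
    exact (special_generate_iso hs hA hB m hp).imp (fun ⟨f⟩ => ⟨e.symm.trans f⟩)
      (fun ⟨f⟩ => ⟨e.symm.trans f⟩)

/-- Let X be a special rank one group with abelian unipotent subgroups A and B, and H = N(A) ∩ N(B) its diagonal subgroup. Then either A has at most three elements and X is isomorphic to SL₂(2), SL₂(3) or PSL₂(3); or X = X' A with the commutator subgroup X' quasisimple and the commutator subgroup ⁅A, H⁆ having more than three elements. -/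
theorem result {X : Type*} [Group X] {A B : Subgroup X} (h : Cfsg.IsRankOneGroup X A B)
    (hs : Cfsg.IsSpecialRankOnePair A B) (hab : Cfsg.HasAbelianUnipotents A B) :
    (ENat.card A ≤ 3 ∧ (Nonempty (X ≃* Matrix.SpecialLinearGroup (Fin 2) (ZMod 2)) ∨
        Nonempty (X ≃* Matrix.SpecialLinearGroup (Fin 2) (ZMod 3)) ∨
        Nonempty (X ≃* Matrix.ProjectiveSpecialLinearGroup (Fin 2) (ZMod 3)))) ∨
    (commutator X ⊔ A = ⊤ ∧ Cfsg.IsQuasisimple (commutator X) ∧
      3 < ENat.card ↥(⁅A, Cfsg.rankOneDiagonal A B⁆ : Subgroup X)) := by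
  open CfsgLib.RootGroups in
  by_cases hcard : ENat.card A ≤ 3
  · exact Or.inl ⟨hcard, card_le_three_iso h hs hab.1 hab.2 hcard⟩
  · push Not at hcard
    have hK := special_commutator_diagonal hs hab.1 hab.2 hcard
    have hAle : A ≤ commutator X := by
      have := special_mem_derived hs hab.1 hab.2 hcard
      rwa [h.1, ← commutator_def] at this
    have htop : commutator X = ⊤ := by
      rw [eq_top_iff, ← h.1]
      refine sup_le hAle ?_
      obtain ⟨g, -, rfl⟩ := right_mem_unipotent h.2
      exact (conjBy_mono g hAle).trans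
        (conjBy_normal (inferInstance : (commutator X).Normal) g).le
    haveI : Group.IsPerfect X := ⟨htop⟩
    refine Or.inr ⟨by rw [htop, top_sup_eq],
      quasisimple_of_equiv ((Subgroup.topEquiv).symm.trans (MulEquiv.subgroupCongr htop.symm))
        (rankOneGroup_quasisimple h inferInstance), by rwa [hK]⟩

end Cfsg.Agent.S5020
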