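import Cfsg.Statements.S5024
import Cfsg.Agent.Lib.RootGroups.RootSets

set_option autoImplicit false
open Cfsg

namespace Cfsg.Agent.S5024

/-- Let S be a set of abstract root subgroups of G, A and C members of S, B a rank one partner of A in S and D a rank one partner of C in S. If the rank one group ⟨A, B⟩ is contained in ⟨C, D⟩ then the two coincide, and C and D are conjugates of A inside ⟨A, B⟩. -/
theorem result {G : Type*} [Group G] {S : Set (Subgroup G)} (hS : Cfsg.IsRootSubgroupSet S)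
    {A B C D : Subgroup G} (hA : A ∈ S) (hC : C ∈ S) (hB : B ∈ Cfsg.rankOnePartners S A) (hD : D ∈ Cfsg.rankOnePartners S C)
    (hle : A ⊔ B ≤ C ⊔ D) : A ⊔ B = C ⊔ D ∧ C ∈ Cfsg.unipotentSubgroups A B ∧ D ∈ Cfsg.unipotentSubgroups A B := by
  obtain ⟨hBS, hAB⟩ := hB
  obtain ⟨hDS, hCD⟩ := hD
  have key : ∀ {P Q : Subgroup G}, P ∈ S → Q ≤ C ⊔ D → P ≤ C ⊔ D → Cfsg.IsRankOnePair P Q →
      P ∈ Cfsg.unipotentSubgroups C D := by
    intro P Q hP hQ hP' hPQ
    refine (CfsgLib.RootGroups.root_mem_sup_cases hS hC hCD hP hP').resolve_right fun hc => ?_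
    obtain ⟨p, hp, hp1⟩ := CfsgLib.RootGroups.exists_ne_one_mem (hS.ne_bot P hP)
    exact hp1 (CfsgLib.RootGroups.rankOne_noncomm hPQ hp fun q hq => hc p hp q (hQ hq))
  have hA' := key hA (le_sup_right.trans hle) (le_sup_left.trans hle) hAB
  have hB' := key hBS (le_sup_left.trans hle) (le_sup_right.trans hle) (Cfsg.RankOnePair_symm hAB)
  refine ⟨(CfsgLib.RootGroups.isRankOnePair_of_mem_unipotent hCD hA' hB' hAB.ne).2, ?_⟩
  rw [CfsgLib.RootGroups.unipotentSubgroups_eq_of_mem hCD hA' hB' hAB.ne]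
  exact ⟨CfsgLib.RootGroups.self_mem_unipotent C D, CfsgLib.RootGroups.right_mem_unipotent hCD⟩

end Cfsg.Agent.S5024
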