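import Cfsg.Statements.S5026
import Cfsg.Agent.Lib.RootGroups.RootSets

set_option autoImplicit false
open Cfsg

namespace Cfsg.Agent.S5026

open CfsgLib.RootGroups in
theorem le_centralizer_zpowers_iff {G : Type*} [Group G] {C : Subgroup G} {g : G} :
    C ≤ Subgroup.centralizer (Subgroup.zpowers g : Set G) ↔ ∀ c ∈ C, c * g = g * c := by
  constructor
  · intro h c hc
    exact (Subgroup.mem_centralizer_iff.mp (h hc) g (Subgroup.mem_zpowers g)).symm
  · intro h c hc
    refine Subgroup.mem_centralizer_iff.mpr ?_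
    rintro _ ⟨n, rfl⟩
    exact ((show Commute c g from h c hc).zpow_right n).eq.symm

/-- Let S be a degenerate set of abstract root subgroups of G (a set of abstract transvection groups) and let a, b be commuting non-identity elements of members of S with a b ≠ 1. Then the members of S centralizing a b are exactly those centralizing both a and b. -/
theorem result {G : Type*} [Group G] {S : Set (Subgroup G)} (hS : Cfsg.IsRootSubgroupSet S) (hdeg : Cfsg.IsDegenerateRootSet S)
    {a b : G} (ha : a ∈ Cfsg.rootElements S) (hb : b ∈ Cfsg.rootElements S) (hab : a * b = b * a) (hab1 : a * b ≠ 1) :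
    Cfsg.centralizingMembers S (Subgroup.zpowers (a * b)) =
      Cfsg.centralizingMembers S (Subgroup.zpowers a) ∩ Cfsg.centralizingMembers S (Subgroup.zpowers b) := by
  obtain ⟨ha1, A, hA, haA⟩ := ha
  obtain ⟨hb1, B, hB, hbB⟩ := hb
  ext C
  simp only [Cfsg.centralizingMembers, Set.mem_inter_iff, Set.mem_ofPred_eq,
    le_centralizer_zpowers_iff]
  constructor
  · rintro ⟨hC, hc⟩
    suffices hca : ∀ c ∈ C, c * a = a * c by
      refine ⟨⟨hC, hca⟩, hC, fun c hcC => ?_⟩
      have h1 := hc c hcC
      rw [← mul_assoc, hca c hcC, mul_assoc, mul_assoc] at h1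
      exact mul_left_cancel h1
    intro c hcC
    rcases hS.pair A hA C hC with h1 | h1 | h1
    · exact (CfsgLib.RootGroups.commute_of_commutator_eq_bot h1 haA hcC).symm
    · exfalso
      rcases hS.pair B hB C hC with h2 | h2 | h2
      · refine ha1 (CfsgLib.RootGroups.rankOne_noncomm h1 haA fun x hx => ?_)
        have e1 := hc x hx
        have e2 := CfsgLib.RootGroups.commute_of_commutator_eq_bot h2 hbB hx
        rw [← mul_assoc, mul_assoc a b x, e2, ← mul_assoc] at e1
        exact (mul_right_cancel e1).symm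
      · obtain ⟨c₁, hc₁, -, e1⟩ := h1.cond_left a haA ha1
        obtain ⟨c₂, hc₂, -, e2⟩ := h2.cond_left b⁻¹ (inv_mem hbB) (inv_ne_one.mpr hb1)
        rw [inv_inv] at e2
        have hfix : Cfsg.conjBy C (a * b) = C :=
          CfsgLib.RootGroups.conjBy_eq_self_of_commute fun x hx => (hc x hx).symm
        rw [← CfsgLib.RootGroups.conjBy_conjBy, CfsgLib.RootGroups.conjBy_eq_iff, ← e1, ← e2,
          CfsgLib.RootGroups.conjBy_eq_iff, inv_inv, CfsgLib.RootGroups.conjBy_conjBy] at hfix
        have hBm : B ∈ Cfsg.unipotentSubgroups A C := ⟨c₂ * c₁⁻¹,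
          Subgroup.mem_sup_right (mul_mem hc₂ (inv_mem hc₁)), hfix⟩
        have hAb : Cfsg.conjBy A b = A := CfsgLib.RootGroups.conjBy_eq_of_commute_mem hS hA
          ⟨C, hC, h1⟩ haA ha1 hab.symm
        have hAB : A = B := CfsgLib.RootGroups.root_eq_of_fixed hS hA h1 hBm
          (CfsgLib.RootGroups.self_mem_unipotent A C) hbB hb1 hAb
        exact hab1 (CfsgLib.RootGroups.rankOne_noncomm h1 (mul_mem haA (hAB ▸ hbB))
          fun x hx => (hc x hx).symm)
      · exact hdeg B hB C hC h2
    · exact absurd h1 (hdeg A hA C hC)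
  · rintro ⟨⟨hC, h1⟩, -, h2⟩
    refine ⟨hC, fun c hc => ?_⟩
    rw [← mul_assoc, h1 c hc, mul_assoc, h2 c hc, mul_assoc]

end Cfsg.Agent.S5026
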