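import Cfsg.Statements.S5027
import Cfsg.Agent.Lib.RootGroups.RootSets

set_option autoImplicit false
open Cfsg

namespace Cfsg.Agent.S5027

/-- Let S be a set of abstract root subgroups of G such that every member of S has a rank one partner in S (the graph of rank one pairs on S has no isolated vertex). Then the second centre of G equals its centre. -/
theorem result {G : Type*} [Group G] {S : Set (Subgroup G)} (hS : Cfsg.IsRootSubgroupSet S)
    (hF : ∀ A ∈ S, ¬ Cfsg.IsIsolatedIn (Cfsg.FAdj S) S A) : Subgroup.upperCentralSeries G 2 = Subgroup.center G := by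
  refine le_antisymm ?_ ?_
  · intro x hx
    rw [Subgroup.mem_center_iff]
    have hcomm : ∀ A ∈ S, ∀ a ∈ A, a * x = x * a := by
      intro A hA a ha
      by_cases ha1 : a = 1
      · simp [ha1]
      obtain ⟨B, hB, h⟩ := (CfsgLib.RootGroups.not_isIsolatedIn_iff hA).mp (hF A hA)
      have hz : x * a * x⁻¹ * a⁻¹ ∈ Subgroup.center G := by
        rw [← Subgroup.upperCentralSeries_one]
        exact Subgroup.mem_upperCentralSeries_succ_iff.mp hx a
      have hm : (x * a * x⁻¹ * a⁻¹) * a ∈ Cfsg.conjBy A x := by
        rw [inv_mul_cancel_right]; exact CfsgLib.RootGroups.conj_mem_conjBy ha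
      obtain ⟨-, h1⟩ := CfsgLib.RootGroups.root_translate_eq hS hA hB h
        (fun y _ => (Subgroup.mem_center_iff.mp hz y).symm) ha ha1 (hS.conj_mem A hA x) hm
      exact (mul_inv_eq_iff_eq_mul.mp (mul_inv_eq_one.mp h1)).symm
    intro g
    have hg : g ∈ Subgroup.centralizer ({x} : Set G) := by
      have hle : (⨆ A ∈ S, A) ≤ Subgroup.centralizer ({x} : Set G) :=
        iSup₂_le fun A hA a ha => Subgroup.mem_centralizer_singleton_iff.mpr (hcomm A hA a ha)
      rw [hS.generates] at hle
      exact hle (Subgroup.mem_top g)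
    exact Subgroup.mem_centralizer_singleton_iff.mp hg
  · rw [← Subgroup.upperCentralSeries_one]
    exact Subgroup.upperCentralSeries_mono G (by norm_num)

end Cfsg.Agent.S5027
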