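import Cfsg.Statements.S5030
import Cfsg.Agent.Lib.RootGroups.Opposite

set_option autoImplicit false
open Cfsg

namespace Cfsg.Agent.S5030

open CfsgLib.RootGroups
open scoped commutatorElement

section
variable {G : Type*} [Group G] {S : Set (Subgroup G)}

theorem comm_mem_closure {T : Set G} {Z : Subgroup G}
    (hZ : ∀ g ∈ Subgroup.closure T, ∀ z ∈ Z, g * z * g⁻¹ ∈ Z)
    (hT : ∀ x ∈ T, ∀ y ∈ T, ⁅x, y⁆ ∈ Z) :
    ∀ x ∈ Subgroup.closure T, ∀ y ∈ Subgroup.closure T, ⁅x, y⁆ ∈ Z := by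
  have h1 : ∀ x ∈ Subgroup.closure T, (∀ y ∈ T, ⁅x, y⁆ ∈ Z) →
      ∀ y ∈ Subgroup.closure T, ⁅x, y⁆ ∈ Z := by
    intro x hx h y hy
    induction hy using Subgroup.closure_induction with
    | mem y hy => exact h y hy
    | one => simp
    | mul y y' hy hy' ih ih' =>
      have : ⁅x, y * y'⁆ = ⁅x, y⁆ * (y * ⁅x, y'⁆ * y⁻¹) := by
        simp only [commutatorElement_def]; group
      rw [this]; exact mul_mem ih (hZ y hy _ ih')
    | inv y hy ih =>
      have : ⁅x, y⁻¹⁆ = y⁻¹ * ⁅x, y⁆⁻¹ * y⁻¹⁻¹ := by simp only [commutatorElement_def]; group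
      rw [this]; exact hZ _ (inv_mem hy) _ (inv_mem ih)
  intro x hx y hy
  refine h1 x hx (fun y' hy' => ?_) y hy
  have := h1 y' (Subgroup.subset_closure hy')
    (fun z hz => hT y' hy' z hz) x hx
  rw [← commutatorElement_inv]; exact inv_mem this

theorem commutator_eq_bot_of_gens {P Q : Subgroup G} {P₁ P₂ Q₁ Q₂ : Subgroup G}
    (hP : P = P₁ ⊔ P₂) (hQ : Q = Q₁ ⊔ Q₂) (h11 : ⁅P₁, Q₁⁆ = ⊥) (h12 : ⁅P₁, Q₂⁆ = ⊥)
    (h21 : ⁅P₂, Q₁⁆ = ⊥) (h22 : ⁅P₂, Q₂⁆ = ⊥) : ⁅P, Q⁆ = ⊥ := by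
  rw [Subgroup.commutator_eq_bot_iff_le_centralizer] at *
  subst hP hQ
  have hcen : ∀ R : Subgroup G, R ≤ Subgroup.centralizer (Q₁ : Set G) →
      R ≤ Subgroup.centralizer (Q₂ : Set G) →
      R ≤ Subgroup.centralizer ((Q₁ ⊔ Q₂ : Subgroup G) : Set G) := by
    intro R hR1 hR2
    rw [Subgroup.le_centralizer_iff]
    exact sup_le (Subgroup.le_centralizer_iff.mp hR1) (Subgroup.le_centralizer_iff.mp hR2)
  exact sup_le (hcen _ h11 h12) (hcen _ h21 h22)

theorem comm_mem_sup_pair {P Q Z : Subgroup G} (hP : ∀ x ∈ P, ∀ y ∈ P, x * y = y * x)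
    (hQ : ∀ x ∈ Q, ∀ y ∈ Q, x * y = y * x) (hPQ : ⁅P, Q⁆ ≤ Z)
    (hZ : ∀ z ∈ Z, ∀ g ∈ P ⊔ Q, z * g = g * z) :
    ∀ x ∈ P ⊔ Q, ∀ y ∈ P ⊔ Q, ⁅x, y⁆ ∈ Z := by
  have hT : Subgroup.closure ((P : Set G) ∪ Q) = P ⊔ Q := by
    rw [Subgroup.closure_union, Subgroup.closure_eq, Subgroup.closure_eq]
  intro x hx y hy
  rw [← hT] at hx hy
  refine comm_mem_closure (T := (P : Set G) ∪ Q) (fun g hg z hz => ?_) ?_ x hx y hy
  · rw [hT] at hg
    rw [← hZ z hz g hg, mul_inv_cancel_right]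
    exact hz
  · rintro x (hx | hx) y (hy | hy)
    · rw [commutatorElement_eq_one_iff_mul_comm.mpr (hP x hx y hy)]; exact one_mem _
    · exact hPQ (Subgroup.commutator_mem_commutator hx hy)
    · rw [← commutatorElement_inv]
      exact inv_mem (hPQ (Subgroup.commutator_mem_commutator hy hx))
    · rw [commutatorElement_eq_one_iff_mul_comm.mpr (hQ x hx y hy)]; exact one_mem _

theorem isMulCommutative_sup {P Q : Subgroup G} (hP : ∀ x ∈ P, ∀ y ∈ P, x * y = y * x)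
    (hQ : ∀ x ∈ Q, ∀ y ∈ Q, x * y = y * x) (hPQ : ⁅P, Q⁆ = ⊥) :
    IsMulCommutative ↥(P ⊔ Q) := by
  refine ⟨⟨fun x y => Subtype.ext ?_⟩⟩
  refine commutatorElement_eq_one_iff_mul_comm.mp (Subgroup.mem_bot.mp ?_)
  exact comm_mem_sup_pair hP hQ hPQ.le
    (fun z hz g _ => by rw [Subgroup.mem_bot.mp hz, one_mul, mul_one]) _ x.2 _ y.2

/-- A member translated by `b` never becomes opposite to `C`. -/
theorem not_rankOne_translate (hS : Cfsg.IsRootSubgroupSet S) {A B C : Subgroup G}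
    (hA : A ∈ S) (hC : C ∈ S) (h : Cfsg.RootCommutatorCase S A B)
    (hAC : ∀ a ∈ A, ∀ c ∈ C, a * c = c * a)
    {b : G} (hb : b ∈ B) (hb1 : b ≠ 1) : ¬ Cfsg.IsRankOnePair (Cfsg.conjBy A b) C := by
  intro hp
  have hD : ⁅A, B⁆ ∈ S := h.1
  obtain ⟨a, ha, hne⟩ := rootCase_exists_ne hS (rootCase_symm h) hb hb1
  have hd : ⁅b, a⁆ ∈ ⁅A, B⁆ := by
    rw [Subgroup.commutator_comm A B]; exact Subgroup.commutator_mem_commutator hb ha
  have hpe : b * a * b⁻¹ = ⁅b, a⁆ * a := by rw [commutatorElement_def]; group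
  have hpmem : b * a * b⁻¹ ∈ Cfsg.conjBy A b := conj_mem_conjBy ha
  have hp1 : b * a * b⁻¹ ≠ 1 := fun e => by
    have : a = 1 := by simpa using e
    exact hne (by rw [this, commutatorElement_one_right])
  obtain ⟨c, hc, -, he⟩ := hp.cond_left _ hpmem hp1
  have hca : Cfsg.conjBy C (b * a * b⁻¹)⁻¹ = Cfsg.conjBy C ⁅b, a⁆⁻¹ := by
    rw [hpe, rootCase_commute_left h hd ha, mul_inv_rev, ← conjBy_conjBy,
      conjBy_eq_self_of_commute (g := a⁻¹)]
    intro x hx
    exact (Commute.inv_left (hAC a ha x hx : Commute a x)).eq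
  have hPC : ⁅Cfsg.conjBy A b, C⁆ ≠ ⊥ := rankOne_commutator_ne_bot hp
  rcases hS.pair _ hD C hC with hDC | hDC | hDC
  · refine rankOne_conj_ne hp (inv_mem hpmem) (inv_ne_one.mpr hp1) ?_
    rw [hca]
    exact conjBy_eq_self_of_commute fun x hx =>
      (Commute.inv_left (commute_of_commutator_eq_bot hDC hd hx : Commute _ x)).eq
  · obtain ⟨c2, hc2, -, he2⟩ := hDC.cond_left _ hd hne
    have hPu : Cfsg.conjBy A b ∈ Cfsg.unipotentSubgroups ⁅A, B⁆ C := by
      refine ⟨c * c2⁻¹, mul_mem (Subgroup.mem_sup_right hc)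
        (inv_mem (Subgroup.mem_sup_right hc2)), ?_⟩
      rw [← conjBy_conjBy, he2, ← hca, ← he, conjBy_conjBy_inv]
    have hneD : Cfsg.conjBy A b ≠ ⁅A, B⁆ := by
      intro e
      have hAD : A = ⁅A, B⁆ := by
        rw [conjBy_eq_iff] at e
        refine e.trans ?_
        exact conjBy_eq_self_of_commute fun x hx =>
          (Commute.inv_left (rootCase_commute_right h hx hb : Commute x b).symm).eq
      refine hS.ne_bot A hA ?_
      rw [← rootCase_inf_eq_bot hS h, ← hAD, inf_idem]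
    refine rankOne_commutator_ne_bot
      (isRankOnePair_of_mem_unipotent hDC hPu (self_mem_unipotent _ _) hneD).1 ?_
    refine commutator_eq_bot_of_commute fun x hx d' hd' => ?_
    rw [mem_conjBy] at hx
    have hx' : x = ⁅b, b⁻¹ * x * b⁆ * (b⁻¹ * x * b) := by rw [commutatorElement_def]; group
    have hd1 : ⁅b, b⁻¹ * x * b⁆ ∈ ⁅A, B⁆ := by
      rw [Subgroup.commutator_comm A B]; exact Subgroup.commutator_mem_commutator hb hx
    rw [hx']
    exact (Commute.mul_left (root_comm hS hD hd1 hd' : Commute _ d')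
      (rootCase_commute_left h hd' hx : Commute d' _).symm).eq
  · apply hPC
    rw [← conjBy_inj (g := c⁻¹), conjBy_commutator, conjBy_bot, he, hca,
      conjBy_eq_self (inv_mem hc)]
    refine commutator_eq_bot_of_commute fun x hx y hy => ?_
    rw [mem_conjBy, inv_inv] at hx
    have hx' : x = ⁅(⁅b, a⁆⁻¹), ⁅b, a⁆ * x * (⁅b, a⁆⁻¹)⁆ * (⁅b, a⁆ * x * (⁅b, a⁆⁻¹)) := by
      generalize ⁅b, a⁆ = d
      rw [commutatorElement_def]; group
    rw [hx']
    exact (Commute.mul_left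
      (rootCase_commute_right hDC
        (Subgroup.commutator_mem_commutator (inv_mem hd) hx) hy : Commute _ y)
      (root_comm hS hC hx hy : Commute _ y)).eq

/-- Whether `A` commutes with the translate of `C` does not depend on the translating element. -/
theorem commute_translate_iff {A B C : Subgroup G} (h : Cfsg.RootCommutatorCase S B C)
    (hAC : ∀ a ∈ A, ∀ c ∈ C, a * c = c * a) {b : G} (hb : b ∈ B) (hb1 : b ≠ 1) :
    ⁅A, Cfsg.conjBy C b⁆ = ⊥ ↔ ∀ a ∈ A, ∀ e ∈ ⁅B, C⁆, a * e = e * a := by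
  constructor
  · intro hbot a ha e he
    rw [← h.2.2.1 b hb hb1] at he
    have hle : Subgroup.closure ((fun c : G => b * c * b⁻¹ * c⁻¹) '' (C : Set G)) ≤
        Subgroup.centralizer {a} := by
      rw [Subgroup.closure_le]
      rintro _ ⟨c, hc, rfl⟩
      rw [SetLike.mem_coe, Subgroup.mem_centralizer_singleton_iff]
      exact ((Commute.mul_right (commute_of_commutator_eq_bot hbot ha (conj_mem_conjBy hc) : Commute a _)
        (Commute.inv_right (hAC a ha c hc : Commute a c))).eq).symm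
    exact (Subgroup.mem_centralizer_singleton_iff.mp (hle he)).symm
  · intro hcomm
    refine commutator_eq_bot_of_commute fun a ha x hx => ?_
    rw [mem_conjBy] at hx
    have hx' : x = ⁅b, b⁻¹ * x * b⁆ * (b⁻¹ * x * b) := by rw [commutatorElement_def]; group
    rw [hx']
    exact (Commute.mul_right (hcomm a ha _ (Subgroup.commutator_mem_commutator hb hx) : Commute a _)
      (hAC a ha _ hx : Commute a _)).eq

theorem conjBy_le_sup {A B : Subgroup G} {b : G} (hb : b ∈ B) :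
    Cfsg.conjBy A b ≤ A ⊔ ⁅A, B⁆ := by
  intro x hx
  rw [mem_conjBy] at hx
  have hx' : x = ⁅b, b⁻¹ * x * b⁆ * (b⁻¹ * x * b) := by rw [commutatorElement_def]; group
  rw [hx', Subgroup.commutator_comm A B]
  exact mul_mem (Subgroup.mem_sup_right (Subgroup.commutator_mem_commutator hb hx))
    (Subgroup.mem_sup_left hx)

theorem comm_le_of_translates {A B : Subgroup G} (h : Cfsg.RootCommutatorCase S A B) {b : G}
    (hb : b ∈ B) (hb1 : b ≠ 1) {N : Subgroup G} (hA : A ≤ N) (hA' : Cfsg.conjBy A b ≤ N) :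
    ⁅A, B⁆ ≤ N := by
  rw [Subgroup.commutator_comm A B, ← (rootCase_symm h).2.2.1 b hb hb1, Subgroup.closure_le]
  rintro _ ⟨a, ha, rfl⟩
  exact mul_mem (hA' (conj_mem_conjBy ha)) (inv_mem (hA ha))

theorem upper_step {R : Subgroup G} {T : Set G} (hR : R = Subgroup.closure T) {n : ℕ} {x : G}
    (hx : x ∈ R)
    (h : ∀ y ∈ T, ⁅x, y⁆ ∈ (Subgroup.upperCentralSeries R n).map R.subtype) :
    x ∈ (Subgroup.upperCentralSeries R (n + 1)).map R.subtype := by
  refine ⟨⟨x, hx⟩, Subgroup.mem_upperCentralSeries_succ_iff.mpr ?_, rfl⟩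
  rintro ⟨y, hy⟩
  have hconj : ∀ g ∈ R, ∀ z ∈ (Subgroup.upperCentralSeries R n).map R.subtype,
      g * z * g⁻¹ ∈ (Subgroup.upperCentralSeries R n).map R.subtype := by
    rintro g hg _ ⟨z, hz, rfl⟩
    exact ⟨⟨g, hg⟩ * z * ⟨g, hg⟩⁻¹,
      (inferInstance : (Subgroup.upperCentralSeries R n).Normal).conj_mem z hz _, rfl⟩
  have hmem : ⁅x, y⁆ ∈ (Subgroup.upperCentralSeries R n).map R.subtype := by
    clear hx
    subst hR
    induction hy using Subgroup.closure_induction with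
    | mem y hy => exact h y hy
    | one => simp
    | mul y y' hy hy' ih ih' =>
      have : ⁅x, y * y'⁆ = ⁅x, y⁆ * (y * ⁅x, y'⁆ * y⁻¹) := by
        simp only [commutatorElement_def]; group
      rw [this]; exact mul_mem ih (hconj y hy _ ih')
    | inv y hy ih =>
      have : ⁅x, y⁻¹⁆ = y⁻¹ * ⁅x, y⁆⁻¹ * y⁻¹⁻¹ := by simp only [commutatorElement_def]; group
      rw [this]; exact hconj _ (inv_mem hy) _ (inv_mem ih)
  obtain ⟨z, hz, he⟩ := hmem
  have : z = ⁅(⟨x, hx⟩ : R), ⟨y, hy⟩⁆ := Subtype.ext he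
  exact this ▸ hz

end

/-- Let S be a set of abstract root subgroups of G and A, B, C ∈ S with ⁅A, B⁆ ∈ S and ⁅B, C⁆ ∈ S, where A and C are different and commute. For a non-identity b ∈ B put X = ⟨A, b⁻¹ C b⟩ and Y = ⟨b⁻¹ A b, C⟩ and R = ⟨A, B, C⟩. Then X and Y are either both abelian or both nilpotent of class exactly two; X and Y commute elementwise; XY is normal in R with R = (XY) B; and R is nilpotent. -/
theorem result {G : Type*} [Group G] {S : Set (Subgroup G)} (hS : Cfsg.IsRootSubgroupSet S)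
    {A B C : Subgroup G} (hA : A ∈ S) (hB : B ∈ S) (hC : C ∈ S) (hAB : ⁅A, B⁆ ∈ S) (hBC : ⁅B, C⁆ ∈ S)
    (hAC : C ∈ Cfsg.commutingPartners S A)
    {b : G} (hb : b ∈ B) (hb1 : b ≠ 1) :
    ((IsMulCommutative ↥(A ⊔ Cfsg.conjBy C b⁻¹) ∧ IsMulCommutative ↥(Cfsg.conjBy A b⁻¹ ⊔ C)) ∨
      ((¬ IsMulCommutative ↥(A ⊔ Cfsg.conjBy C b⁻¹) ∧
          ⁅⁅A ⊔ Cfsg.conjBy C b⁻¹, A ⊔ Cfsg.conjBy C b⁻¹⁆, A ⊔ Cfsg.conjBy C b⁻¹⁆ = ⊥) ∧
        (¬ IsMulCommutative ↥(Cfsg.conjBy A b⁻¹ ⊔ C) ∧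
          ⁅⁅Cfsg.conjBy A b⁻¹ ⊔ C, Cfsg.conjBy A b⁻¹ ⊔ C⁆, Cfsg.conjBy A b⁻¹ ⊔ C⁆ = ⊥))) ∧
    ⁅A ⊔ Cfsg.conjBy C b⁻¹, Cfsg.conjBy A b⁻¹ ⊔ C⁆ = ⊥ ∧
    (∀ r ∈ A ⊔ B ⊔ C, Cfsg.conjBy ((A ⊔ Cfsg.conjBy C b⁻¹) ⊔ (Cfsg.conjBy A b⁻¹ ⊔ C)) r =
      (A ⊔ Cfsg.conjBy C b⁻¹) ⊔ (Cfsg.conjBy A b⁻¹ ⊔ C)) ∧
    ((A ⊔ Cfsg.conjBy C b⁻¹) ⊔ (Cfsg.conjBy A b⁻¹ ⊔ C)) ⊔ B = A ⊔ B ⊔ C ∧
    Group.IsNilpotent ↥(A ⊔ B ⊔ C) := by
  have h1 : Cfsg.RootCommutatorCase S A B := rootCase_of_mem hS hA hB hAB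
  have h2 : Cfsg.RootCommutatorCase S B C := rootCase_of_mem hS hB hC hBC
  have hb' : b⁻¹ ∈ B := inv_mem hb
  have hb1' : b⁻¹ ≠ 1 := inv_ne_one.mpr hb1
  have hac : ∀ a ∈ A, ∀ c ∈ C, a * c = c * a :=
    fun a ha c hc => commute_of_commutator_eq_bot hAC.2.2 ha hc
  have hca : ∀ c ∈ C, ∀ a ∈ A, c * a = a * c := fun c hc a ha => (hac a ha c hc).symm
  set A' := Cfsg.conjBy A b⁻¹ with hA'def
  set C' := Cfsg.conjBy C b⁻¹ with hC'def
  have hA'S : A' ∈ S := hS.conj_mem A hA _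
  have hC'S : C' ∈ S := hS.conj_mem C hC _
  have hnX : ¬ Cfsg.IsRankOnePair A C' := fun h => by
    have := isRankOnePair_conjBy h b
    rw [hC'def, conjBy_conjBy_inv] at this
    exact not_rankOne_translate hS hA hC h1 hac hb hb1 this
  have hnY : ¬ Cfsg.IsRankOnePair A' C := not_rankOne_translate hS hA hC h1 hac hb' hb1'
  -- abelian-ness is independent of `b`
  have hiff : ⁅A, C'⁆ = ⊥ ↔ ⁅A', C⁆ = ⊥ := by
    have i1 := commute_translate_iff (A := C) (rootCase_symm h1) hca hb hb1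
    have i2 := commute_translate_iff (A := C) (rootCase_symm h1) hca hb' hb1'
    rw [← hA'def] at i2
    rw [Subgroup.commutator_comm A' C, i2, ← i1, Subgroup.commutator_comm C]
    rw [← conjBy_inj (g := b) (A := ⁅A, C'⁆) (C := ⊥), conjBy_commutator, conjBy_bot, hC'def,
      conjBy_conjBy_inv]
  have hXY : ⁅A ⊔ C', A' ⊔ C⁆ = ⊥ := by
    refine commutator_eq_bot_of_gens rfl rfl ?_ hAC.2.2 ?_ ?_
    · refine commutator_eq_bot_of_commute fun a ha x hx => ?_
      have hle : A' ≤ Subgroup.centralizer {a} := (conjBy_le_sup hb').trans (sup_le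
        (fun y hy => Subgroup.mem_centralizer_singleton_iff.mpr (root_comm hS hA hy ha))
        (fun y hy => Subgroup.mem_centralizer_singleton_iff.mpr (rootCase_commute_left h1 hy ha)))
      exact (Subgroup.mem_centralizer_singleton_iff.mp (hle hx)).symm
    · rw [hA'def, hC'def, ← conjBy_commutator, Subgroup.commutator_comm, hAC.2.2, conjBy_bot]
    · refine commutator_eq_bot_of_commute fun x hx c hc => ?_
      have hle : C' ≤ Subgroup.centralizer {c} := by
        refine (conjBy_le_sup hb').trans (sup_le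
          (fun y hy => Subgroup.mem_centralizer_singleton_iff.mpr (root_comm hS hC hy hc))
          (fun y hy => Subgroup.mem_centralizer_singleton_iff.mpr (rootCase_commute_right h2 ?_ hc)))
        rwa [Subgroup.commutator_comm] at hy
      exact Subgroup.mem_centralizer_singleton_iff.mp (hle hx)
  have hrcA : ∀ x ∈ A, ∀ y ∈ A, x * y = y * x := fun x hx y hy => root_comm hS hA hx hy
  have hrcC : ∀ x ∈ C, ∀ y ∈ C, x * y = y * x := fun x hx y hy => root_comm hS hC hx hy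
  have hrcA' : ∀ x ∈ A', ∀ y ∈ A', x * y = y * x := fun x hx y hy => root_comm hS hA'S hx hy
  have hrcC' : ∀ x ∈ C', ∀ y ∈ C', x * y = y * x := fun x hx y hy => root_comm hS hC'S hx hy
  have hKX : ∀ z ∈ ⁅A, C'⁆, ∀ g ∈ A ⊔ C', z * g = g * z := by
    rcases hS.pair A hA C' hC'S with h | h | h
    · intro z hz g _
      rw [h, Subgroup.mem_bot] at hz
      rw [hz, one_mul, mul_one]
    · exact absurd h hnX
    · exact h.2.1
  have hKY : ∀ z ∈ ⁅A', C⁆, ∀ g ∈ A' ⊔ C, z * g = g * z := by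
    rcases hS.pair A' hA'S C hC with h | h | h
    · intro z hz g _
      rw [h, Subgroup.mem_bot] at hz
      rw [hz, one_mul, mul_one]
    · exact absurd h hnY
    · exact h.2.1
  have hleX : ⁅A, C'⁆ ≤ A ⊔ C' := Subgroup.commutator_le.mpr fun x hx y hy => by
    rw [commutatorElement_def]
    exact mul_mem (mul_mem (mul_mem (Subgroup.mem_sup_left hx) (Subgroup.mem_sup_right hy))
      (inv_mem (Subgroup.mem_sup_left hx))) (inv_mem (Subgroup.mem_sup_right hy))
  have hleY : ⁅A', C⁆ ≤ A' ⊔ C := Subgroup.commutator_le.mpr fun x hx y hy => by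
    rw [commutatorElement_def]
    exact mul_mem (mul_mem (mul_mem (Subgroup.mem_sup_left hx) (Subgroup.mem_sup_right hy))
      (inv_mem (Subgroup.mem_sup_left hx))) (inv_mem (Subgroup.mem_sup_right hy))
  set N := (A ⊔ C') ⊔ (A' ⊔ C) with hN
  -- class two
  have hclass : ∀ x ∈ N, ∀ y ∈ N, ∀ z ∈ N, ⁅x, y⁆ * z = z * ⁅x, y⁆ := by
    have hT : Subgroup.closure (((A : Set G) ∪ C') ∪ ((A' : Set G) ∪ C)) = N := by
      rw [hN, Subgroup.closure_union, Subgroup.closure_union, Subgroup.closure_union,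
        Subgroup.closure_eq, Subgroup.closure_eq, Subgroup.closure_eq, Subgroup.closure_eq]
    have hkX : ⁅A, C'⁆ ≤ Subgroup.centralizer (N : Set G) := fun k hk => by
      have : N ≤ Subgroup.centralizer {k} := sup_le
        (fun g hg => Subgroup.mem_centralizer_singleton_iff.mpr (hKX k hk g hg).symm)
        (fun g hg => Subgroup.mem_centralizer_singleton_iff.mpr
          (commute_of_commutator_eq_bot hXY (hleX hk) hg).symm)
      exact Subgroup.mem_centralizer_iff.mpr fun g hg =>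
        Subgroup.mem_centralizer_singleton_iff.mp (this hg)
    have hkY : ⁅A', C⁆ ≤ Subgroup.centralizer (N : Set G) := fun k hk => by
      have : N ≤ Subgroup.centralizer {k} := sup_le
        (fun g hg => Subgroup.mem_centralizer_singleton_iff.mpr
          (commute_of_commutator_eq_bot hXY hg (hleY hk)))
        (fun g hg => Subgroup.mem_centralizer_singleton_iff.mpr (hKY k hk g hg).symm)
      exact Subgroup.mem_centralizer_iff.mpr fun g hg =>
        Subgroup.mem_centralizer_singleton_iff.mp (this hg)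
    have hmX := comm_mem_sup_pair hrcA hrcC' le_rfl hKX
    have hmY := comm_mem_sup_pair hrcA' hrcC le_rfl hKY
    intro x hx y hy z hz
    rw [← hT] at hx hy
    have := comm_mem_closure (Z := Subgroup.centralizer (N : Set G)) ?_ ?_ x hx y hy
    · exact (Subgroup.mem_centralizer_iff.mp this z hz).symm
    · intro g hg w hw
      rw [hT] at hg
      rw [Subgroup.mem_centralizer_iff.mp hw g hg, mul_inv_cancel_right]
      exact hw
    · have inX : ∀ {g : G}, g ∈ (A : Set G) ∪ C' → g ∈ A ⊔ C' :=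
        fun hg => hg.elim Subgroup.mem_sup_left Subgroup.mem_sup_right
      have inY : ∀ {g : G}, g ∈ (A' : Set G) ∪ C → g ∈ A' ⊔ C :=
        fun hg => hg.elim Subgroup.mem_sup_left Subgroup.mem_sup_right
      rintro u (hu | hu) v (hv | hv)
      · exact hkX (hmX u (inX hu) v (inX hv))
      · rw [commutatorElement_eq_one_iff_mul_comm.mpr
          (commute_of_commutator_eq_bot hXY (inX hu) (inY hv))]
        exact one_mem _
      · rw [commutatorElement_eq_one_iff_mul_comm.mpr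
          (commute_of_commutator_eq_bot hXY (inX hv) (inY hu)).symm]
        exact one_mem _
      · exact hkY (hmY u (inY hu) v (inY hv))
  have hAN : A ≤ N := le_sup_left.trans le_sup_left
  have hCN : C ≤ N := le_sup_right.trans le_sup_right
  have hA'N : A' ≤ N := le_sup_left.trans le_sup_right
  have hC'N : C' ≤ N := le_sup_right.trans le_sup_left
  have hDN : ⁅A, B⁆ ≤ N := comm_le_of_translates h1 hb' hb1' hAN hA'N
  have hEN : ⁅B, C⁆ ≤ N := by
    rw [Subgroup.commutator_comm]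
    exact comm_le_of_translates (rootCase_symm h2) hb' hb1' hCN hC'N
  have hEsym : ∀ {g : G}, g ∈ B → Cfsg.conjBy C g ≤ C ⊔ ⁅B, C⁆ := fun hg => by
    rw [Subgroup.commutator_comm B C]; exact conjBy_le_sup hg
  have hNle : N ≤ (A ⊔ ⁅A, B⁆) ⊔ (C ⊔ ⁅B, C⁆) := by
    refine sup_le (sup_le (le_sup_left.trans le_sup_left) ?_)
      (sup_le ((conjBy_le_sup hb').trans le_sup_left) (le_sup_left.trans le_sup_right))
    exact (hEsym hb').trans le_sup_right
  have hBN : ∀ g ∈ B, Cfsg.conjBy N g ≤ N := by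
    intro g hg
    refine (conjBy_mono g hNle).trans ?_
    rw [conjBy_sup, conjBy_sup, conjBy_sup,
      conjBy_eq_self_of_commute (g := g) (A := ⁅A, B⁆)
        (fun x hx => (rootCase_commute_right h1 hx hg).symm),
      conjBy_eq_self_of_commute (g := g) (A := ⁅B, C⁆)
        (fun x hx => (rootCase_commute_left h2 hx hg).symm)]
    exact sup_le (sup_le ((conjBy_le_sup hg).trans (sup_le hAN hDN)) hDN)
      (sup_le ((hEsym hg).trans (sup_le hCN hEN)) hEN)
  have hnorm : A ⊔ B ⊔ C ≤ Subgroup.normalizer (N : Set G) := by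
    refine sup_le (sup_le (hAN.trans Subgroup.le_normalizer) ?_) (hCN.trans Subgroup.le_normalizer)
    intro g hg
    rw [mem_normalizer_iff_conjBy]
    refine le_antisymm (hBN g hg) ?_
    have := conjBy_mono g (hBN g⁻¹ (inv_mem hg))
    rwa [conjBy_conjBy_inv] at this
  have hAR : A ≤ A ⊔ B ⊔ C := le_sup_left.trans le_sup_left
  have hBR : B ≤ A ⊔ B ⊔ C := le_sup_right.trans le_sup_left
  have hCR : C ≤ A ⊔ B ⊔ C := le_sup_right
  have hNR : N ≤ A ⊔ B ⊔ C := sup_le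
    (sup_le hAR ((conjBy_mono _ hCR).trans (conjBy_le_of_mem le_rfl (hBR hb'))))
    (sup_le ((conjBy_mono _ hAR).trans (conjBy_le_of_mem le_rfl (hBR hb'))) hCR)
  refine ⟨?_, hXY, fun r hr => mem_normalizer_iff_conjBy.mp (hnorm hr), ?_, ?_⟩
  · by_cases hX : ⁅A, C'⁆ = ⊥
    · exact Or.inl ⟨isMulCommutative_sup hrcA hrcC' hX,
        isMulCommutative_sup hrcA' hrcC (hiff.mp hX)⟩
    · have two : ∀ {P Q : Subgroup G}, (∀ x ∈ P, ∀ y ∈ P, x * y = y * x) →
          (∀ x ∈ Q, ∀ y ∈ Q, x * y = y * x) → ⁅P, Q⁆ ≠ ⊥ →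
          (∀ z ∈ ⁅P, Q⁆, ∀ g ∈ P ⊔ Q, z * g = g * z) →
          ¬ IsMulCommutative ↥(P ⊔ Q) ∧ ⁅⁅P ⊔ Q, P ⊔ Q⁆, P ⊔ Q⁆ = ⊥ := by
        intro P Q hP hQ hne hK
        refine ⟨fun hc => hne (commutator_eq_bot_of_commute fun x hx y hy => ?_), ?_⟩
        · exact congrArg Subtype.val (hc.is_comm.comm (⟨x, Subgroup.mem_sup_left hx⟩ : ↥(P ⊔ Q))
            ⟨y, Subgroup.mem_sup_right hy⟩)
        · have hle : ⁅P ⊔ Q, P ⊔ Q⁆ ≤ ⁅P, Q⁆ :=
            Subgroup.commutator_le.mpr (comm_mem_sup_pair hP hQ le_rfl hK)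
          exact commutator_eq_bot_of_commute fun x hx y hy => hK x (hle hx) y hy
      exact Or.inr ⟨two hrcA hrcC' hX hKX, two hrcA' hrcC (fun h => hX (hiff.mpr h)) hKY⟩
  · exact le_antisymm (sup_le hNR hBR) (sup_le (sup_le (hAN.trans le_sup_left) le_sup_right)
      (hCN.trans le_sup_left))
  · set R := A ⊔ B ⊔ C with hRdef
    have hR : R = Subgroup.closure (((A : Set G) ∪ B) ∪ C) := by
      rw [Subgroup.closure_union, Subgroup.closure_union, Subgroup.closure_eq,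
        Subgroup.closure_eq, Subgroup.closure_eq]
    let Z : ℕ → Subgroup G := fun n => (Subgroup.upperCentralSeries R n).map R.subtype
    have hmono : ∀ {m n : ℕ}, m ≤ n → Z m ≤ Z n :=
      fun h => Subgroup.map_mono (Subgroup.upperCentralSeries_mono _ h)
    have step : ∀ {n : ℕ} {x : G}, x ∈ R → (∀ y ∈ A, ⁅x, y⁆ ∈ Z n) → (∀ y ∈ B, ⁅x, y⁆ ∈ Z n) →
        (∀ y ∈ C, ⁅x, y⁆ ∈ Z n) → x ∈ Z (n + 1) := fun hx ha hb hc =>
      upper_step hR hx fun y hy =>
        hy.elim (fun h => h.elim (ha y) (hb y)) (hc y)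
    have one' : ∀ {n : ℕ} {x y : G}, x * y = y * x → ⁅x, y⁆ ∈ Z n := fun h => by
      rw [commutatorElement_eq_one_iff_mul_comm.mpr h]; exact one_mem _
    have hDR : ⁅A, B⁆ ≤ R := hDN.trans hNR
    have hER : ⁅B, C⁆ ≤ R := hEN.trans hNR
    have hcR : ∀ {x y : G}, x ∈ R → y ∈ R → ⁅x, y⁆ ∈ R := fun hx hy => by
      rw [commutatorElement_def]
      exact mul_mem (mul_mem (mul_mem hx hy) (inv_mem hx)) (inv_mem hy)
    have hde : ∀ d ∈ ⁅A, B⁆, ∀ e ∈ ⁅B, C⁆, ⁅d, e⁆ ∈ Z 1 := fun d hd e he => by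
      refine step (hcR (hDR hd) (hER he))
        (fun y hy => one' (hclass d (hDN hd) e (hEN he) y (hAN hy))) (fun y hy => ?_)
        (fun y hy => one' (hclass d (hDN hd) e (hEN he) y (hCN hy)))
      refine one' (Commute.eq ?_)
      have c1 : Commute d y := rootCase_commute_right h1 hd hy
      have c2 : Commute e y := rootCase_commute_left h2 he hy
      rw [commutatorElement_def]
      exact ((c1.mul_left c2).mul_left c1.inv_left).mul_left c2.inv_left
    have hed : ∀ d ∈ ⁅A, B⁆, ∀ e ∈ ⁅B, C⁆, ⁅e, d⁆ ∈ Z 1 := fun d hd e he => by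
      rw [← commutatorElement_inv]; exact inv_mem (hde d hd e he)
    have hk2 : ∀ {P D E : Subgroup G}, P ≤ N → D ≤ N → E ≤ N →
        (∀ y ∈ B, ∀ a ∈ P, ⁅y, a⁆ ∈ D) → (∀ y ∈ B, ∀ e ∈ E, Commute y e) →
        (∀ d ∈ D, ∀ e ∈ E, ⁅d, e⁆ ∈ Z 1) → ∀ a ∈ P, ∀ e ∈ E, ⁅a, e⁆ ∈ Z 2 := by
      intro P D E hP hD hE hPD hBE hDE a ha e he
      refine step (hcR (hNR (hP ha)) (hNR (hE he)))
        (fun y hy => one' (hclass a (hP ha) e (hE he) y (hAN hy))) (fun y hy => ?_)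
        (fun y hy => one' (hclass a (hP ha) e (hE he) y (hCN hy)))
      obtain ⟨d, hd, hdef⟩ : ∃ d ∈ D, y * a * y⁻¹ = d * a :=
        ⟨_, hPD y hy a ha, by rw [commutatorElement_def]; group⟩
      have hye : y * e * y⁻¹ = e := by rw [(hBE y hy e he).eq]; group
      have hd1 := hclass a (hP ha) e (hE he) d (hD hd)
      have hk1 := hclass a (hP ha) e (hE he) _ (show ⁅d, e⁆ ∈ N by
        rw [commutatorElement_def]
        exact mul_mem (mul_mem (mul_mem (hD hd) (hE he)) (inv_mem (hD hd))) (inv_mem (hE he)))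
      have hconj : y * ⁅a, e⁆ * y⁻¹ = ⁅a, e⁆ * ⁅d, e⁆ := by
        have e1 : y * ⁅a, e⁆ * y⁻¹ = ⁅y * a * y⁻¹, y * e * y⁻¹⁆ := by
          simp only [commutatorElement_def]; group
        have e2 : ⁅d * a, e⁆ = d * ⁅a, e⁆ * d⁻¹ * ⁅d, e⁆ := by
          simp only [commutatorElement_def]; group
        rw [e1, hdef, hye, e2, ← hd1, mul_inv_cancel_right]
      have hfin : ⁅⁅a, e⁆, y⁆ = ⁅d, e⁆⁻¹ := by
        have : ⁅⁅a, e⁆, y⁆ = ⁅a, e⁆ * (y * ⁅a, e⁆ * y⁻¹)⁻¹ := by
          rw [commutatorElement_def ⁅a, e⁆ y]; group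
        rw [this, hconj, hk1]; group
      rw [hfin]; exact inv_mem (hDE d hd e he)
    have hae : ∀ a ∈ A, ∀ e ∈ ⁅B, C⁆, ⁅a, e⁆ ∈ Z 2 := hk2 hAN hDN hEN
      (fun y hy a ha => by
        rw [Subgroup.commutator_comm A B]; exact Subgroup.commutator_mem_commutator hy ha)
      (fun y hy e he => (rootCase_commute_left h2 he hy).symm) hde
    have hcd : ∀ c ∈ C, ∀ d ∈ ⁅A, B⁆, ⁅c, d⁆ ∈ Z 2 := hk2 hCN hEN hDN
      (fun y hy c hc => Subgroup.commutator_mem_commutator hy hc)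
      (fun y hy d hd => (rootCase_commute_right h1 hd hy).symm) (fun e he d hd => hed d hd e he)
    have hD3 : ∀ d ∈ ⁅A, B⁆, d ∈ Z 3 := fun d hd => step (hDR hd)
      (fun y hy => one' (rootCase_commute_left h1 hd hy))
      (fun y hy => one' (rootCase_commute_right h1 hd hy))
      (fun y hy => by rw [← commutatorElement_inv]; exact inv_mem (hcd y hy d hd))
    have hE3 : ∀ e ∈ ⁅B, C⁆, e ∈ Z 3 := fun e he => step (hER he)
      (fun y hy => by rw [← commutatorElement_inv]; exact inv_mem (hae y hy e he))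
      (fun y hy => one' (rootCase_commute_left h2 he hy))
      (fun y hy => one' (rootCase_commute_right h2 he hy))
    have hA4 : A ≤ Z 4 := fun a ha => step (hAR ha)
      (fun y hy => one' (hrcA a ha y hy))
      (fun y hy => hD3 _ (Subgroup.commutator_mem_commutator ha hy))
      (fun y hy => one' (hac a ha y hy))
    have hC4 : C ≤ Z 4 := fun c hc => step (hCR hc)
      (fun y hy => one' (hca c hc y hy))
      (fun y hy => hE3 _ (by
        rw [Subgroup.commutator_comm B C]; exact Subgroup.commutator_mem_commutator hc hy))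
      (fun y hy => one' (hrcC c hc y hy))
    have hB5 : B ≤ Z 5 := fun y hy => step (hBR hy)
      (fun a ha => hmono (by norm_num) (hD3 _ (by
        rw [Subgroup.commutator_comm A B]; exact Subgroup.commutator_mem_commutator hy ha)))
      (fun x hx => one' (root_comm hS hB hy hx))
      (fun c hc => hmono (by norm_num) (hE3 _ (Subgroup.commutator_mem_commutator hy hc)))
    have hall : R ≤ Z 5 := sup_le (sup_le (hA4.trans (hmono (by norm_num))) hB5)
      (hC4.trans (hmono (by norm_num)))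
    refine ⟨⟨5, (Subgroup.eq_top_iff' _).mpr fun x => ?_⟩⟩
    obtain ⟨z, hz, he⟩ := hall x.2
    rwa [← (Subtype.ext he : z = x)]

end Cfsg.Agent.S5030
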