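import Cfsg.Statements.S5032
import Cfsg.Agent.Lib.RootGroups.Classes

set_option autoImplicit false
open Cfsg

namespace Cfsg.Agent.S5032

/-- Let S be a set of abstract root subgroups of G with more than one member. Then the graph of rank one pairs on S is connected if and only if S is a single conjugacy class of G and some member of S has a rank one partner in S. -/
theorem result {G : Type*} [Group G] {S : Set (Subgroup G)} (hS : Cfsg.IsRootSubgroupSet S) (h2 : ∃ A ∈ S, ∃ B ∈ S, A ≠ B) :
    Cfsg.IsConnectedFamily (Cfsg.FAdj S) S ↔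
      (Cfsg.IsConjClassOfSubgroups S ∧ ∃ A ∈ S, ¬ Cfsg.IsIsolatedIn (Cfsg.FAdj S) S A) := by
  constructor
  · intro h
    obtain ⟨A, hA, B, hB, hne⟩ := h2
    refine ⟨⟨⟨A, hA⟩, fun P hP Q hQ => ?_⟩, A, hA, ?_⟩
    · have hr := h P hP Q hQ
      clear hQ
      induction hr with
      | refl => exact ⟨1, (CfsgLib.RootGroups.conjBy_one P).symm⟩
      | tail _ hab ih =>
        obtain ⟨g, rfl⟩ := ih
        obtain ⟨x, -, hx⟩ := CfsgLib.RootGroups.right_mem_unipotent hab.2.2
        exact ⟨x * g, by rw [hx, CfsgLib.RootGroups.conjBy_conjBy]⟩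
    · refine (CfsgLib.RootGroups.not_isIsolatedIn_iff hA).mpr ?_
      rcases Relation.ReflTransGen.cases_head (h A hA B hB) with he | ⟨M, hM, -⟩
      · exact absurd he hne
      · exact ⟨M, hM.2.1, hM.2.2⟩
  · rintro ⟨hc, A, hA, hiso⟩
    exact CfsgLib.RootGroups.class_connected hS hc (CfsgLib.RootGroups.class_all_nonIso hS hc hA
      ((CfsgLib.RootGroups.not_isIsolatedIn_iff hA).mp hiso))

end Cfsg.Agent.S5032
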