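import Cfsg.Statements.S5033
import Cfsg.Agent.S5020
import Cfsg.Agent.Lib.RootGroups.Classes
import Cfsg.Agent.Lib.RootGroups.Special
import Cfsg.Agent.Lib.RootGroups.RankOneGroup

set_option autoImplicit false
open Cfsg

namespace Cfsg.Agent.S5033

open CfsgLib.RootGroups in
open scoped commutatorElement in
theorem normal_dichotomy_root {G : Type*} [Group G] {S : Set (Subgroup G)}
    (hS : Cfsg.IsRootSubgroupSet S) (hc : Cfsg.IsConjClassOfSubgroups S)
    (hall : ∀ X ∈ S, ∃ Y ∈ S, Cfsg.IsRankOnePair X Y)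
    (h2' : ∀ A ∈ S, ∀ C ∈ S, A ≠ C → Cfsg.centralizingMembers S A ≠ Cfsg.centralizingMembers S C)
    (hpair : ∀ A ∈ S, ∀ B ∈ S, Cfsg.IsRankOnePair A B → ∀ N : Subgroup G, ∀ _ : N.Normal,
      A.map (QuotientGroup.mk' N) = B.map (QuotientGroup.mk' N) → ∃ M ∈ S, M ≤ N)
    (N : Subgroup G) [N.Normal] : N = ⊤ ∨ N ≤ Subgroup.center G := by
  by_cases hmem : ∃ M ∈ S, M ≤ N
  · obtain ⟨M, hM, hMN⟩ := hmem
    refine Or.inl (eq_top_of_members_le hS fun A hA => ?_)
    obtain ⟨g, rfl⟩ := hc.2 M hM A hA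
    exact (conjBy_mono g hMN).trans (conjBy_normal inferInstance g).le
  push Not at hmem
  refine Or.inr fun x hx => ?_
  set q := QuotientGroup.mk' N with hq
  have hqx : ∀ {x}, x ∈ N → q x = 1 := fun h => (QuotientGroup.eq_one_iff _).mpr h
  -- members congruent modulo `N` commute
  have hcomm_of : ∀ {P Q : Subgroup G}, P ∈ S → Q ∈ S → ⁅P.map q, Q.map q⁆ = ⊥ →
      P.map q = Q.map q ∨ ⁅P, Q⁆ = ⊥ := by
    intro P Q hP hQ hbot
    rcases hS.pair P hP Q hQ with h | h | h
    · exact Or.inr h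
    · left
      obtain ⟨y, hy, hQy⟩ := right_mem_unipotent h
      have hcy : ∀ z ∈ P.map q, q y * z = z * q y := by
        intro z hz
        have hle : P ⊔ Q ≤ (Subgroup.centralizer ({z} : Set (G ⧸ N))).comap q := by
          refine sup_le (fun p hp => ?_) (fun p hp => ?_) <;>
            rw [Subgroup.mem_comap, Subgroup.mem_centralizer_singleton_iff]
          · obtain ⟨p', hp', rfl⟩ := hz
            rw [← map_mul, ← map_mul, root_comm hS hP hp hp']
          · exact (commute_of_commutator_eq_bot hbot hz ⟨p, hp, rfl⟩).symm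
        exact Subgroup.mem_centralizer_singleton_iff.mp (hle hy)
      rw [hQy]
      show P.map q = (P.map (MulAut.conj y).toMonoidHom).map q
      rw [Subgroup.map_map]
      ext z
      constructor
      · intro hz
        have h1 := hcy z hz
        obtain ⟨p, hp, rfl⟩ := hz
        refine ⟨p, hp, ?_⟩
        show q (y * p * y⁻¹) = q p
        rw [map_mul, map_mul, map_inv, h1, mul_inv_cancel_right]
      · rintro ⟨p, hp, rfl⟩
        refine ⟨p, hp, ?_⟩
        show q p = q (y * p * y⁻¹)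
        rw [map_mul, map_mul, map_inv, hcy _ ⟨p, hp, rfl⟩, mul_inv_cancel_right]
    · refine absurd ?_ (hmem _ h.1)
      rw [← QuotientGroup.ker_mk' N]
      exact (Subgroup.map_eq_bot_iff _).mp (by rw [Subgroup.map_commutator]; exact hbot)
  have hne : ∀ {P Q : Subgroup G}, P ∈ S → Q ∈ S → Cfsg.IsRankOnePair P Q →
      P.map q ≠ Q.map q := by
    intro P Q hP hQ h he
    obtain ⟨M, hM, hMN⟩ := hpair P hP Q hQ h N inferInstance he
    exact hmem M hM hMN
  have hconj : ∀ A ∈ S, ∀ x ∈ N, Cfsg.conjBy A x = A := by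
    intro A hA x hx
    by_contra hne'
    have hC : Cfsg.conjBy A x ∈ S := hS.conj_mem A hA x
    have hsame : (Cfsg.conjBy A x).map q = A.map q := by
      show (A.map (MulAut.conj x).toMonoidHom).map q = A.map q
      rw [Subgroup.map_map]
      congr 1
      ext p
      show q (x * p * x⁻¹) = q p
      rw [map_mul, map_mul, map_inv, hqx hx, one_mul, inv_one, mul_one]
    have hmap : ∀ P Q : Subgroup G, P ∈ S → Q ∈ S → P.map q = Q.map q →
        ∀ D ∈ Cfsg.centralizingMembers S P, D ∈ Cfsg.centralizingMembers S Q := by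
      rintro P Q hP hQ he D ⟨hD, hDP⟩
      refine ⟨hD, fun d hd => Subgroup.mem_centralizer_iff.mpr fun y hy => ?_⟩
      have hDP' : ⁅D.map q, Q.map q⁆ = ⊥ := by
        rw [← he, ← Subgroup.map_commutator, Subgroup.map_eq_bot_iff]
        intro z hz
        rw [commutator_eq_bot_of_commute (A := D) (B := P) (fun a ha b hb =>
          (Subgroup.mem_centralizer_iff.mp (hDP ha) b hb).symm), Subgroup.mem_bot] at hz
        rw [hz]; exact one_mem _
      rcases hcomm_of hD hQ hDP' with h | h
      · rcases hS.pair D hD Q hQ with h1 | h1 | h1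
        · exact (commute_of_commutator_eq_bot h1 hd hy).symm
        · exact absurd h (hne hD hQ h1)
        · refine absurd ?_ (hmem _ h1.1)
          rw [← QuotientGroup.ker_mk' N]
          exact (Subgroup.map_eq_bot_iff _).mp (by rw [Subgroup.map_commutator]; exact hDP')
      · exact (commute_of_commutator_eq_bot h hd hy).symm
    refine h2' _ hC A hA hne' (Set.eq_of_subset_of_subset ?_ ?_)
    · exact hmap _ _ hC hA hsame
    · exact hmap _ _ hA hC hsame.symm
  rw [Subgroup.mem_center_iff]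
  intro g
  have hle : (⨆ A ∈ S, A) ≤ Subgroup.centralizer ({x} : Set G) := by
    refine iSup₂_le fun A hA a ha => Subgroup.mem_centralizer_singleton_iff.mpr ?_
    have hm : x * a * x⁻¹ * a⁻¹ ∈ A := by
      refine mul_mem ?_ (inv_mem ha)
      have := conj_mem_conjBy (g := x) ha
      rwa [hconj A hA x hx] at this
    have hN : x * a * x⁻¹ * a⁻¹ ∈ N := by
      rw [show x * a * x⁻¹ * a⁻¹ = x * (a * x⁻¹ * a⁻¹) by group]
      exact mul_mem hx ((inferInstance : N.Normal).conj_mem _ (inv_mem hx) a)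
    by_contra hne'
    obtain ⟨B, hB, hp⟩ := hall A hA
    have h1 : x * a * x⁻¹ * a⁻¹ ≠ 1 := fun h0 =>
      hne' ((mul_inv_eq_iff_eq_mul.mp (mul_inv_eq_one.mp h0)).symm)
    refine rankOne_conj_ne hp hm h1 (hconj B hB _ hN)
  rw [hS.generates] at hle
  exact Subgroup.mem_centralizer_singleton_iff.mp (hle (Subgroup.mem_top g))

/-- Quasisimplicity criterion for groups generated by abstract root subgroups. Let S be a set of abstract root subgroups of G with more than one member such that: the graph of rank one pairs on S is connected; no two different members of S have the same set of commuting members of S; if S is degenerate then every member of S has more than three elements; and every rank one pair in S is special. Then for every A ∈ S one has G = G' A with A ∩ G' ≠ 1, and the commutator subgroup G' is quasisimple. Moreover G is perfect if S is non-degenerate, or if some rank one pair A, B in S generates a perfect group. -/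
theorem result {G : Type*} [Group G] {S : Set (Subgroup G)} (hS : Cfsg.IsRootSubgroupSet S) (h2 : ∃ A ∈ S, ∃ B ∈ S, A ≠ B)
    (h1 : Cfsg.IsConnectedFamily (Cfsg.FAdj S) S)
    (h2' : ∀ A ∈ S, ∀ C ∈ S, A ≠ C → Cfsg.centralizingMembers S A ≠ Cfsg.centralizingMembers S C)
    (h3 : Cfsg.IsDegenerateRootSet S → ∀ A ∈ S, 3 < ENat.card A)
    (h4 : ∀ A ∈ S, ∀ B ∈ Cfsg.rankOnePartners S A, Cfsg.IsSpecialRankOnePair A B) :
    (∀ A ∈ S, commutator G ⊔ A = ⊤ ∧ A ⊓ commutator G ≠ ⊥) ∧ Cfsg.IsQuasisimple ↥(commutator G) ∧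
    (Cfsg.IsNondegenerateRootSet S → commutator G = ⊤) ∧
    ((∃ A ∈ S, ∃ B ∈ Cfsg.rankOnePartners S A, Group.IsPerfect ↥(A ⊔ B)) → commutator G = ⊤) := by
  open CfsgLib.RootGroups in
  obtain ⟨A₀, hA₀, B₀, hB₀, hne₀⟩ := h2
  have hc : Cfsg.IsConjClassOfSubgroups S := by
    refine ⟨⟨A₀, hA₀⟩, fun P hP Q hQ => ?_⟩
    have hr := h1 P hP Q hQ
    clear hQ
    induction hr with
    | refl => exact ⟨1, (conjBy_one P).symm⟩
    | tail _ hab ih =>
      obtain ⟨g, rfl⟩ := ih
      obtain ⟨x, -, hx⟩ := right_mem_unipotent hab.2.2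
      exact ⟨x * g, by rw [hx, conjBy_conjBy]⟩
  have hall : ∀ X ∈ S, ∃ Y ∈ S, Cfsg.IsRankOnePair X Y := by
    refine class_all_nonIso hS hc hA₀ ?_
    rcases Relation.ReflTransGen.cases_head (h1 A₀ hA₀ B₀ hB₀) with he | ⟨M, hM, -⟩
    · exact absurd he hne₀
    · exact ⟨M, hM.2.1, hM.2.2⟩
  have hnd : ¬ Cfsg.IsDegenerateRootSet S → Cfsg.IsNondegenerateRootSet S := by
    intro hd
    simp only [Cfsg.IsDegenerateRootSet, not_forall, not_not] at hd
    obtain ⟨P, hP, Q, hQ, hPQ⟩ := hd
    obtain ⟨Y, hY, hY'⟩ := hall P hP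
    exact ⟨⟨P, hP, _, hPQ.1, (line_ne hS hP hPQ).symm,
      commutator_eq_bot_of_commute (line_comm_left hPQ)⟩, ⟨P, hP, Y, hY, hY'⟩, P, hP, Q, hQ, hPQ⟩
  -- every member lies in the derived subgroup
  have hder : ∀ A ∈ S, A ≤ commutator G := by
    intro A hA
    by_cases hd : Cfsg.IsDegenerateRootSet S
    · obtain ⟨B, hB, hp⟩ := hall A hA
      exact (special_mem_derived (h4 A hA B ⟨hB, hp⟩) (hS.commutative A hA) (hS.commutative B hB)
        (h3 hd A hA)).trans (Subgroup.commutator_mono le_top le_top)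
    · obtain ⟨F, hF⟩ := class_exists_linePartner ⟨hS, hc⟩ (hnd hd) hA
      obtain ⟨C, -, -, hC⟩ := exists_line_commutator hS hall hF.1.1 (linePartners_symm hA hF)
      rw [← hC]
      exact Subgroup.commutator_mono le_top le_top
  have htop : commutator G = ⊤ := eq_top_of_members_le hS hder
  have hpair : ∀ A ∈ S, ∀ B ∈ S, Cfsg.IsRankOnePair A B → ∀ N : Subgroup G, ∀ _ : N.Normal,
      A.map (QuotientGroup.mk' N) = B.map (QuotientGroup.mk' N) → ∃ M ∈ S, M ≤ N := by
    intro A hA B hB hp N hN he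
    have hle : ∀ {P : Subgroup G}, P.map (QuotientGroup.mk' N) = ⊥ → P ≤ N := fun h => by
      rw [← QuotientGroup.ker_mk' N]; exact (Subgroup.map_eq_bot_iff _).mp h
    have hab : ∀ {P Q : Subgroup G}, P.map (QuotientGroup.mk' N) ≤ A.map (QuotientGroup.mk' N) →
        Q.map (QuotientGroup.mk' N) ≤ A.map (QuotientGroup.mk' N) → ⁅P, Q⁆ ≤ N := by
      intro P Q hP hQ
      refine hle ?_
      rw [Subgroup.map_commutator]
      refine commutator_eq_bot_of_commute fun u hu v hv => ?_
      obtain ⟨u', hu', rfl⟩ := hP hu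
      obtain ⟨v', hv', rfl⟩ := hQ hv
      rw [← map_mul, ← map_mul, root_comm hS hA hu' hv']
    have hAB : (A ⊔ B).map (QuotientGroup.mk' N) ≤ A.map (QuotientGroup.mk' N) := by
      rw [Subgroup.map_sup]; exact sup_le le_rfl he.ge
    by_cases hd : Cfsg.IsDegenerateRootSet S
    · refine ⟨A, hA, (special_mem_derived (h4 A hA B ⟨hB, hp⟩) (hS.commutative A hA)
        (hS.commutative B hB) (h3 hd A hA)).trans (hab hAB hAB)⟩
    · obtain ⟨E, hE⟩ := class_exists_linePartner ⟨hS, hc⟩ (hnd hd) hA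
      obtain ⟨F, hF, h1', hr, heq, -⟩ := exists_projection hS hall hA hB hp hE
      refine ⟨_, h1'.1, ?_⟩
      have hl : ⁅F, A⁆ = ⊥ := by
        rw [← heq]
        exact commutator_eq_bot_of_commute fun u hu v hv => rootCase_commute_right hr hu hv
      refine hle ?_
      rw [Subgroup.map_commutator, ← he, ← Subgroup.map_commutator, hl, Subgroup.map_bot]
  refine ⟨fun A hA => ⟨by rw [htop, top_sup_eq], by rw [htop, inf_top_eq]; exact hS.ne_bot A hA⟩,
    ?_, fun _ => htop, fun _ => htop⟩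
  refine Cfsg.Agent.S5020.quasisimple_of_equiv
    ((Subgroup.topEquiv).symm.trans (MulEquiv.subgroupCongr htop.symm)) ⟨⟨htop⟩, ?_⟩
  have hZ : Subgroup.center G ≠ ⊤ := by
    intro hZ
    obtain ⟨Y, hY, hp⟩ := hall A₀ hA₀
    obtain ⟨a, ha, ha1⟩ := exists_ne_one_mem (hS.ne_bot A₀ hA₀)
    exact ha1 (rankOne_noncomm hp ha fun y _ =>
      (Subgroup.mem_center_iff.mp (hZ ▸ Subgroup.mem_top a) y).symm)
  haveI : Nontrivial (G ⧸ Subgroup.center G) := QuotientGroup.nontrivial_iff.mpr hZ
  refine ⟨fun M hM => ?_⟩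
  have hs : Function.Surjective (QuotientGroup.mk' (Subgroup.center G)) :=
    QuotientGroup.mk'_surjective _
  haveI : (M.comap (QuotientGroup.mk' (Subgroup.center G))).Normal := hM.comap _
  rcases normal_dichotomy_root hS hc hall h2' hpair
      (M.comap (QuotientGroup.mk' (Subgroup.center G))) with h | h
  · right
    rw [← Subgroup.map_comap_eq_self_of_surjective hs M, h, Subgroup.map_top_of_surjective _ hs]
  · left
    rw [← Subgroup.map_comap_eq_self_of_surjective hs M]
    refine (Subgroup.map_eq_bot_iff _).mpr ?_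
    rw [QuotientGroup.ker_mk']; exact h

end Cfsg.Agent.S5033
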