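import Cfsg.Statements.S5035
import Cfsg.Agent.Lib.RootGroups.RootSets

set_option autoImplicit false
open Cfsg

namespace Cfsg.Agent.S5035

open CfsgLib.RootGroups in
theorem map_conjBy_image {G H : Type*} [Group G] [Group H] (f : G →* H) (A : Subgroup G) (g : G) :
    (Cfsg.conjBy A g).map f = Cfsg.conjBy (A.map f) (f g) := by
  rw [Cfsg.conjBy, Cfsg.conjBy, Subgroup.map_map, Subgroup.map_map]
  congr 1
  ext x
  simp

open CfsgLib.RootGroups in
theorem map_rankOne {G H : Type*} [Group G] [Group H] (f : G →* H) {A B : Subgroup G}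
    (hA : IsMulCommutative A) (hB : IsMulCommutative B) (h : Cfsg.IsRankOnePair A B)
    (hne : A.map f ≠ B.map f) : Cfsg.IsRankOnePair (A.map f) (B.map f) := by
  have key : ∀ {P Q : Subgroup G}, Cfsg.RankOneCondition P Q → P.map f ≠ Q.map f →
      Cfsg.RankOneCondition (P.map f) (Q.map f) := by
    intro P Q hc hpq a' ha' ha1
    obtain ⟨a, ha, rfl⟩ := ha'
    obtain ⟨b, hb, -, he⟩ := hc a ha (fun e => ha1 (by rw [e, map_one]))
    have he' : Cfsg.conjBy (P.map f) (f b)⁻¹ = Cfsg.conjBy (Q.map f) (f a)⁻¹ := by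
      rw [← map_inv, ← map_inv, ← map_conjBy_image, ← map_conjBy_image, he]
    refine ⟨f b, ⟨b, hb, rfl⟩, fun hb1 => hpq ?_, he'⟩
    rw [hb1, inv_one] at he'
    have hP : Cfsg.conjBy (P.map f) (1 : H) = P.map f := by
      ext x; simp [Subgroup.mem_map]
    rw [hP] at he'
    have h1 : Cfsg.conjBy (P.map f) (f a) = P.map f :=
      conjBy_eq_self (show f a ∈ P.map f from ⟨a, ha, rfl⟩)
    have h2 : Cfsg.conjBy (Cfsg.conjBy (Q.map f) (f a)⁻¹) (f a) = Q.map f := by
      rw [conjBy_conjBy, mul_inv_cancel]
      ext x; simp [Subgroup.mem_map]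
    rw [← he', h1] at h2
    exact h2
  haveI := hA
  haveI := hB
  refine ⟨hne, ?_, ?_, key h.cond_left hne, key h.cond_right hne.symm⟩
  · haveI : IsMulCommutative ↥(A.map f) := Subgroup.map_isMulCommutative A f
    letI : CommGroup ↥(A.map f) := { (inferInstance : Group ↥(A.map f)) with mul_comm := mul_comm' }
    exact CommGroup.isNilpotent
  · haveI : IsMulCommutative ↥(B.map f) := Subgroup.map_isMulCommutative B f
    letI : CommGroup ↥(B.map f) := { (inferInstance : Group ↥(B.map f)) with mul_comm := mul_comm' }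
    exact CommGroup.isNilpotent

/-- Let S be a set of abstract root subgroups of G whose graph of rank one pairs is connected, and f a homomorphism from G onto a group H. Then either the images of the members of S form a set of abstract root subgroups of H whose graph of rank one pairs is again connected, or H equals the image of a member of S. -/
theorem result {G H : Type*} [Group G] [Group H] {S : Set (Subgroup G)} (hS : Cfsg.IsRootSubgroupSet S)
    (hc : Cfsg.IsConnectedFamily (Cfsg.FAdj S) S) (f : G →* H) (hf : Function.Surjective f) :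
    (Cfsg.IsRootSubgroupSet ((fun A : Subgroup G => A.map f) '' S) ∧
      Cfsg.IsConnectedFamily (Cfsg.FAdj ((fun A : Subgroup G => A.map f) '' S)) ((fun A : Subgroup G => A.map f) '' S)) ∨
    ∃ A ∈ S, A.map f = ⊤ := by
  by_cases hbot : ∃ A ∈ S, A.map f = ⊥
  · obtain ⟨A, hA, hAf⟩ := hbot
    refine Or.inr ⟨A, hA, ?_⟩
    have step : ∀ P Q, Cfsg.IsRankOnePair P Q → P.map f = ⊥ → Q.map f = ⊥ := by
      intro P Q hPQ hP
      obtain ⟨a, ha, ha1⟩ := CfsgLib.RootGroups.exists_ne_one_mem
        (CfsgLib.RootGroups.rankOne_left_ne_bot hPQ)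
      obtain ⟨b, hb, -, he⟩ := hPQ.cond_left a ha ha1
      have hfa : f a = 1 := by
        have : f a ∈ P.map f := ⟨a, ha, rfl⟩
        rw [hP] at this
        exact Subgroup.mem_bot.mp this
      have h1 : (Cfsg.conjBy Q a⁻¹).map f = ⊥ := by
        rw [← he, map_conjBy_image, hP, Cfsg.conjBy, Subgroup.map_bot]
      rw [map_conjBy_image, map_inv, hfa, inv_one] at h1
      rw [← h1]
      ext x; simp [Subgroup.mem_map]
    have hall : ∀ B ∈ S, B.map f = ⊥ := by
      intro B hB
      have := hc A hA B hB
      clear hB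
      induction this with
      | refl => exact hAf
      | tail _ hPQ ih => exact step _ _ hPQ.2.2 ih
    have htop : (⊤ : Subgroup H) = ⊥ := by
      rw [← Subgroup.map_top_of_surjective f hf, ← hS.generates]
      simp only [Subgroup.map_iSup]
      simpa using hall
    rw [htop, hAf]
  · push Not at hbot
    refine Or.inl ⟨⟨?_, ?_, ?_, ?_, ?_⟩, ?_⟩
    · rintro _ ⟨A, hA, rfl⟩
      haveI := hS.commutative A hA
      exact Subgroup.map_isMulCommutative A f
    · rintro _ ⟨A, hA, rfl⟩
      exact hbot A hA
    · rw [iSup_image, ← Subgroup.map_top_of_surjective f hf, ← hS.generates]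
      simp only [Subgroup.map_iSup]
    · rintro _ ⟨A, hA, rfl⟩ g
      obtain ⟨g, rfl⟩ := hf g
      exact ⟨Cfsg.conjBy A g, hS.conj_mem A hA g, map_conjBy_image f A g⟩
    · rintro _ ⟨A, hA, rfl⟩ _ ⟨B, hB, rfl⟩
      by_cases heq : A.map f = B.map f
      · left
        show ⁅A.map f, B.map f⁆ = ⊥
        rw [heq]
        haveI := hS.commutative B hB
        haveI := Subgroup.map_isMulCommutative B f
        refine CfsgLib.RootGroups.commutator_eq_bot_of_commute fun x hx y hy => ?_
        exact congrArg Subtype.val (mul_comm' (⟨x, hx⟩ : ↥(B.map f)) ⟨y, hy⟩)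
      rcases hS.pair A hA B hB with h | h | h
      · left
        show ⁅A.map f, B.map f⁆ = ⊥
        rw [← Subgroup.map_commutator, h, Subgroup.map_bot]
      · exact Or.inr (Or.inl (map_rankOne f (hS.commutative A hA) (hS.commutative B hB) h heq))
      · refine Or.inr (Or.inr ?_)
        obtain ⟨hm, hcen, hl, hr⟩ := h
        have himg : ⁅A.map f, B.map f⁆ = (⁅A, B⁆).map f := (Subgroup.map_commutator A B f).symm
        refine ⟨⟨⁅A, B⁆, hm, himg.symm⟩, ?_, ?_, ?_⟩
        · rw [himg, ← Subgroup.map_sup]
          rintro _ ⟨c, hc', rfl⟩ _ ⟨x, hx, rfl⟩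
          rw [← map_mul, ← map_mul, hcen c hc' x hx]
        · rintro _ ⟨a, ha, rfl⟩ ha1
          rw [himg, ← hl a ha (fun e => ha1 (by rw [e, map_one])), MonoidHom.map_closure,
            Set.image_image, Subgroup.coe_map, Set.image_image]
          simp only [map_mul, map_inv]
        · rintro _ ⟨b, hb, rfl⟩ hb1
          rw [himg, ← hr b hb (fun e => hb1 (by rw [e, map_one])), MonoidHom.map_closure,
            Set.image_image, Subgroup.coe_map, Set.image_image]
          simp only [map_mul, map_inv]
    · rintro _ ⟨A, hA, rfl⟩ _ ⟨B, hB, rfl⟩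
      have := hc A hA B hB
      clear hB
      induction this with
      | refl => exact Relation.ReflTransGen.refl
      | tail _ hPQ ih =>
        rename_i P Q _
        by_cases heq : P.map f = Q.map f
        · show Relation.ReflTransGen _ (A.map f) (Q.map f)
          rw [← heq]; exact ih
        · exact ih.tail ⟨⟨P, hPQ.1, rfl⟩, ⟨Q, hPQ.2.1, rfl⟩,
            map_rankOne f (hS.commutative P hPQ.1) (hS.commutative Q hPQ.2.1) hPQ.2.2 heq⟩

end Cfsg.Agent.S5035
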