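import Cfsg.Statements.S5036
import Cfsg.Agent.Lib.RootGroups.Opposite

set_option autoImplicit false
open Cfsg

namespace Cfsg.Agent.S5036

/-- Let S be a set of abstract root subgroups of G, A, B ∈ S with C = ⁅A, B⁆ ∈ S, and D ∈ S with ⁅D, C⁆ = A. Put X = ⟨B, D⟩ and N = AC. Then B, D form a rank one pair; the conjugates of A under X are the conjugates of C under X, namely the conjugates of A by elements of B together with C, equally the conjugates of C by elements of D together with A, and they partition N; and the centralizer of N in X is central in X. -/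
theorem result {G : Type*} [Group G] {S : Set (Subgroup G)} (hS : Cfsg.IsRootSubgroupSet S)
    {A B D : Subgroup G} (hA : A ∈ S) (hB : B ∈ S) (hC : ⁅A, B⁆ ∈ S) (hD : D ∈ S) (hDC : ⁅D, ⁅A, B⁆⁆ = A) :
    Cfsg.IsRankOnePair B D ∧
    {E | ∃ x ∈ B ⊔ D, E = Cfsg.conjBy A x} = {E | ∃ x ∈ B ⊔ D, E = Cfsg.conjBy ⁅A, B⁆ x} ∧
    {E | ∃ x ∈ B ⊔ D, E = Cfsg.conjBy A x} = (fun b : G => Cfsg.conjBy A b) '' (B : Set G) ∪ {⁅A, B⁆} ∧
    {E | ∃ x ∈ B ⊔ D, E = Cfsg.conjBy A x} = (fun d : G => Cfsg.conjBy ⁅A, B⁆ d) '' (D : Set G) ∪ {A} ∧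
    Cfsg.IsSubgroupPartition (A ⊔ ⁅A, B⁆) {E | ∃ x ∈ B ⊔ D, E = Cfsg.conjBy A x} ∧
    ∀ x ∈ (B ⊔ D) ⊓ Subgroup.centralizer ((A ⊔ ⁅A, B⁆ : Subgroup G) : Set G), ∀ y ∈ B ⊔ D, x * y = y * x := by
  open CfsgLib.RootGroups in
  have h := rootCase_of_mem hS hA hB hC
  have h' := rootCase_of_mem hS hD hC (hDC.symm ▸ hA)
  have hp := opposite_rankOne hS hA hB hD h rfl h' hDC
  obtain ⟨hnorm, hwd, x₀, hx₀, hBx, hCx⟩ := opposite_orbit hS hA hB hD h rfl h' hDC
  set C := ⁅A, B⁆ with hCdef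
  have hdisj : A ⊓ C = ⊥ := rootCase_inf_eq_bot hS h
  have hCfix : ∀ b ∈ B, Cfsg.conjBy C b = C := fun b hb =>
    conjBy_eq_self_of_commute fun c hc => (rootCase_commute_right h hc hb).symm
  have hAfix : ∀ d ∈ D, Cfsg.conjBy A d = A := fun d hd =>
    conjBy_eq_self_of_commute fun a ha =>
      (rootCase_commute_left h' (hDC.symm ▸ ha) hd).symm
  -- the value at a unipotent subgroup
  have hval : ∀ {x y}, x ∈ B ⊔ D → y ∈ B ⊔ D → Cfsg.conjBy B x = Cfsg.conjBy B y →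
      Cfsg.conjBy C x = Cfsg.conjBy C y := by
    intro x y hx hy he
    have h1 := hwd (y⁻¹ * x) (mul_mem (inv_mem hy) hx)
      (by rw [← conjBy_conjBy, he, conjBy_inv_conjBy])
    rw [← conjBy_conjBy] at h1
    exact conjBy_inj.mp (h1.trans (conjBy_inv_conjBy C y).symm)
  have hone : (1 : G) ∈ B ⊔ D := one_mem _
  have hOC : ∀ x ∈ B ⊔ D, (Cfsg.conjBy C x = C ∨ ∃ b ∈ B, Cfsg.conjBy C x = Cfsg.conjBy A b) ∧
      (Cfsg.conjBy C x = A ∨ ∃ d ∈ D, Cfsg.conjBy C x = Cfsg.conjBy C d) := by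
    intro x hx
    have hm := conjBy_mem_unipotent (self_mem_unipotent B D) hx
    constructor
    · rcases (mem_unipotent_iff hp).mp hm with he | ⟨b, hb, he⟩
      · exact Or.inl (by rw [hval hx hone (by rw [he, conjBy_one]), conjBy_one])
      · refine Or.inr ⟨b, hb, ?_⟩
        rw [hval hx (mul_mem (Subgroup.mem_sup_left hb) hx₀) (by rw [he, ← conjBy_conjBy, hBx]),
          ← conjBy_conjBy, hCx]
    · rw [← unipotent_symm hp] at hm
      rcases (mem_unipotent_iff (Cfsg.RankOnePair_symm hp)).mp hm with he | ⟨d, hd, he⟩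
      · exact Or.inl (by rw [hval hx hx₀ (by rw [he, hBx]), hCx])
      · exact Or.inr ⟨d, hd, hval hx (Subgroup.mem_sup_right hd) he⟩
  have hAC : {E | ∃ x ∈ B ⊔ D, E = Cfsg.conjBy A x} = {E | ∃ x ∈ B ⊔ D, E = Cfsg.conjBy C x} := by
    ext E
    constructor
    · rintro ⟨x, hx, rfl⟩
      exact ⟨x * x₀, mul_mem hx hx₀, by rw [← conjBy_conjBy, hCx]⟩
    · rintro ⟨x, hx, rfl⟩
      exact ⟨x * x₀⁻¹, mul_mem hx (inv_mem hx₀),
        by rw [← hCx, conjBy_conjBy, inv_mul_cancel_right]⟩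
  have hT1 : {E | ∃ x ∈ B ⊔ D, E = Cfsg.conjBy A x} =
      (fun b : G => Cfsg.conjBy A b) '' (B : Set G) ∪ {C} := by
    ext E
    constructor
    · intro hE
      rw [hAC] at hE
      obtain ⟨x, hx, rfl⟩ := hE
      rcases (hOC x hx).1 with he | ⟨b, hb, he⟩
      · exact Or.inr he
      · exact Or.inl ⟨b, hb, he.symm⟩
    · rintro (⟨b, hb, rfl⟩ | he)
      · exact ⟨b, Subgroup.mem_sup_left hb, rfl⟩
      · rw [hAC]; exact ⟨1, hone, he.trans (conjBy_one C).symm⟩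
  have hT2 : {E | ∃ x ∈ B ⊔ D, E = Cfsg.conjBy A x} =
      (fun d : G => Cfsg.conjBy C d) '' (D : Set G) ∪ {A} := by
    ext E
    constructor
    · intro hE
      rw [hAC] at hE
      obtain ⟨x, hx, rfl⟩ := hE
      rcases (hOC x hx).2 with he | ⟨d, hd, he⟩
      · exact Or.inr he
      · exact Or.inl ⟨d, hd, he.symm⟩
    · rintro (⟨d, hd, rfl⟩ | he)
      · rw [hAC]; exact ⟨d, Subgroup.mem_sup_right hd, rfl⟩
      · exact ⟨1, hone, he.trans (conjBy_one A).symm⟩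
  have hdisjA : ∀ E ∈ {E | ∃ x ∈ B ⊔ D, E = Cfsg.conjBy A x}, E ≠ A → A ⊓ E = ⊥ := by
    intro E hE hne
    rw [hT2] at hE
    rcases hE with ⟨d, hd, rfl⟩ | he
    · rw [← hAfix d hd]
      exact (Subgroup.map_inf A C (MulAut.conj d).toMonoidHom (MulAut.conj d).injective).symm.trans
        (by rw [hdisj, Subgroup.map_bot])
    · exact absurd he hne
  refine ⟨hp, hAC, hT1, hT2, ⟨?_, ?_, ?_⟩, ?_⟩
  · rintro E ⟨x, hx, rfl⟩
    exact (conjBy_mono x le_sup_left).trans (hnorm x hx).le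
  · intro z hz hz1
    obtain ⟨a, ha, c, hc, rfl⟩ := (mem_sup_of_commuting (line_comm_left h)).mp hz
    rw [hT1]
    by_cases ha1 : a = 1
    · exact ⟨C, Or.inr rfl, by rw [ha1, one_mul]; exact hc⟩
    · obtain ⟨b, hb, hm⟩ := line_cover h ha ha1 hc
      exact ⟨_, Or.inl ⟨b, hb, rfl⟩, hm⟩
  · intro E hE F hF hne
    obtain ⟨x, hx, rfl⟩ := hE
    obtain ⟨y, hy, rfl⟩ := hF
    have h1 := hdisjA (Cfsg.conjBy A (x⁻¹ * y)) ⟨_, mul_mem (inv_mem hx) hy, rfl⟩ (fun he =>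
      hne (by
        rw [← conjBy_conjBy] at he
        exact (conjBy_inj.mp (he.trans (conjBy_inv_conjBy A x).symm)).symm))
    have h2 := congrArg (fun T => Cfsg.conjBy T x) h1
    simp only [conjBy_bot] at h2
    rw [← h2, show Cfsg.conjBy A y = Cfsg.conjBy (Cfsg.conjBy A (x⁻¹ * y)) x by
      rw [conjBy_conjBy, mul_inv_cancel_left]]
    exact (Subgroup.map_inf A _ (MulAut.conj x).toMonoidHom (MulAut.conj x).injective).symm
  · intro x hx y hy
    obtain ⟨hxBD, hxN⟩ := hx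
    have hfixC : ∀ z ∈ B ⊔ D, Cfsg.conjBy C z = C → Cfsg.conjBy B z = B := by
      intro z hz he
      have hm := conjBy_mem_unipotent (self_mem_unipotent B D) hz
      rw [← unipotent_symm hp] at hm
      rcases (mem_unipotent_iff (Cfsg.RankOnePair_symm hp)).mp hm with h1 | ⟨d, hd, h1⟩
      · exfalso
        rw [hval hz hx₀ (by rw [h1, hBx]), hCx] at he
        exact line_ne hS hA h he.symm
      · suffices hd1 : d = 1 by rw [h1, hd1, conjBy_one]
        refine rootCase_not_centralize hS h' hd fun c hc => ?_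
        have he' : Cfsg.conjBy C d = C := by
          rwa [hval hz (Subgroup.mem_sup_right hd) h1] at he
        have hm1 : d * c * d⁻¹ ∈ C := he' ▸ conj_mem_conjBy hc
        have hm2 : d * c * d⁻¹ * c⁻¹ ∈ A := by
          rw [← hDC]; exact Subgroup.commutator_mem_commutator hd hc
        have := (Subgroup.eq_bot_iff_forall _).mp hdisj _
          (show d * c * d⁻¹ * c⁻¹ ∈ A ⊓ C from ⟨hm2, C.mul_mem hm1 (C.inv_mem hc)⟩)
        exact mul_inv_eq_iff_eq_mul.mp (mul_inv_eq_one.mp this)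
    refine commute_of_fix_all hp ?_ hy
    rintro U ⟨z, hz, rfl⟩
    have hcent : Cfsg.conjBy (Cfsg.conjBy C z) x = Cfsg.conjBy C z := by
      refine conjBy_eq_self_of_commute fun c hc => ?_
      exact (Subgroup.mem_centralizer_iff.mp hxN c
        ((conjBy_mono z le_sup_right).trans (hnorm z hz).le hc)).symm
    have h1 := hfixC (z⁻¹ * (x * z)) (mul_mem (inv_mem hz) (mul_mem hxBD hz))
      (by rw [← conjBy_conjBy, ← conjBy_conjBy, hcent, conjBy_inv_conjBy])
    rw [← conjBy_conjBy] at h1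
    rw [conjBy_conjBy]
    exact conjBy_inj.mp (h1.trans (conjBy_inv_conjBy B z).symm)

end Cfsg.Agent.S5036
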