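import Cfsg.Statements.S5037
import Cfsg.Agent.Lib.RootGroups.Classes

set_option autoImplicit false
open Cfsg

namespace Cfsg.Agent.S5037

open CfsgLib.RootGroups
open scoped commutatorElement

theorem reverse_rel {G : Type*} [Group G] {S : Set (Subgroup G)} (R : Subgroup G → Subgroup G → Prop)
    (hconj : ∀ X Y (g : G), R X Y → R (Cfsg.conjBy X g) (Cfsg.conjBy Y g))
    (htrans : ∀ X Y Z, R X Y → R Y Z → R X Z)
    (hopp : ∀ X ∈ S, ∀ Y ∈ S, Cfsg.IsRankOnePair X Y → ¬ R X Y)
    (hS : Cfsg.IsRootSubgroupSet S) {A C E : Subgroup G} (hE : E ∈ S)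
    (hAC : ⁅A, C⁆ = ⊥) (hR : R A C) (hAE : Cfsg.IsRankOnePair A E) (hCE : Cfsg.IsRankOnePair C E) :
    R C A := by
  have hA0 := rankOne_left_ne_bot hAE
  -- every `a` gives an element `g` and an element of the semigroup
  have step : ∀ a ∈ A, a ≠ 1 → ∃ g : G, ∃ c ∈ C, Cfsg.conjBy C g = E ∧
      Cfsg.conjBy A g = Cfsg.conjBy E (c * a) := by
    intro a ha ha1
    obtain ⟨e, he, he1, h1⟩ := hAE.cond_left a⁻¹ (inv_mem ha) (inv_ne_one.mpr ha1)
    rw [inv_inv] at h1
    obtain ⟨c, hc, -, h2⟩ := hCE.cond_right e he he1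
    refine ⟨c * e⁻¹, c, hc, ?_, ?_⟩
    · rw [← conjBy_conjBy, ← h2, conjBy_conjBy_inv]
    · rw [← conjBy_conjBy, h1, conjBy_conjBy]
  have hP : ∀ {x y : G}, R (Cfsg.conjBy E x) E → R (Cfsg.conjBy E y) E →
      R (Cfsg.conjBy E (x * y)) E := fun {x y} hx hy => by
    rw [← conjBy_conjBy]
    exact htrans _ _ _ (hconj _ _ x hy) hx
  obtain ⟨a, ha, ha1⟩ := exists_ne_one_mem hA0
  obtain ⟨g, c, hc, hgC, hgA⟩ := step a ha ha1
  obtain ⟨g', c', hc', hgC', hgA'⟩ := step a⁻¹ (inv_mem ha) (inv_ne_one.mpr ha1)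
  have hy : R (Cfsg.conjBy E (c * a)) E := by rw [← hgA, ← hgC]; exact hconj _ _ g hR
  have hy' : R (Cfsg.conjBy E (c' * a⁻¹)) E := by rw [← hgA', ← hgC']; exact hconj _ _ g' hR
  have hz := hP hy hy'
  have hca : c' * a⁻¹ = a⁻¹ * c' :=
    (commute_of_commutator_eq_bot hAC (inv_mem ha) hc').symm
  rw [hca, mul_assoc, mul_inv_cancel_left] at hz
  have hcc : c * c' = 1 := by
    by_contra hne
    refine hopp _ (hS.conj_mem E hE _) _ hE ?_ hz
    exact (isRankOnePair_of_mem_unipotent hCE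
      (conjBy_mem_unipotent (right_mem_unipotent hCE) (Subgroup.mem_sup_left (mul_mem hc hc')))
      (right_mem_unipotent hCE)
      (rankOne_conj_ne hCE (mul_mem hc hc') hne)).1
  have hinv : c' * a⁻¹ = (c * a)⁻¹ := by
    rw [hca, mul_inv_rev, inv_eq_of_mul_eq_one_right hcc]
  rw [hinv] at hy'
  have hrev : R E (Cfsg.conjBy E (c * a)) := by
    have := hconj _ _ (c * a) hy'
    rwa [conjBy_conjBy_inv] at this
  rw [← hgA, ← hgC] at hrev
  have := hconj _ _ g⁻¹ hrev
  rwa [conjBy_inv_conjBy, conjBy_inv_conjBy] at this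

theorem centralizing_mono_conj {G : Type*} [Group G] {S : Set (Subgroup G)}
    (hS : Cfsg.IsRootSubgroupSet S) {X Y : Subgroup G}
    (h : Cfsg.centralizingMembers S X ⊆ Cfsg.centralizingMembers S Y) (g : G) :
    Cfsg.centralizingMembers S (Cfsg.conjBy X g) ⊆ Cfsg.centralizingMembers S (Cfsg.conjBy Y g) := by
  rintro M ⟨hM, hle⟩
  have hM' : Cfsg.conjBy M g⁻¹ ∈ Cfsg.centralizingMembers S X := by
    refine ⟨hS.conj_mem M hM _, ?_⟩
    rw [← Subgroup.commutator_eq_bot_iff_le_centralizer] at hle ⊢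
    have := congrArg (fun Z => Cfsg.conjBy Z g⁻¹) hle
    simp only [conjBy_commutator, conjBy_inv_conjBy, conjBy_bot] at this
    exact this
  refine ⟨hM, ?_⟩
  have h2 := (h hM').2
  rw [← Subgroup.commutator_eq_bot_iff_le_centralizer] at h2 ⊢
  have := congrArg (fun Z => Cfsg.conjBy Z g) h2
  simp only [conjBy_commutator, conjBy_conjBy_inv, conjBy_bot] at this
  exact this

theorem partners_mono_conj {G : Type*} [Group G] {S : Set (Subgroup G)}
    (hS : Cfsg.IsRootSubgroupSet S) {X Y : Subgroup G}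
    (h : Cfsg.rankOnePartners S X ⊆ Cfsg.rankOnePartners S Y) (g : G) :
    Cfsg.rankOnePartners S (Cfsg.conjBy X g) ⊆ Cfsg.rankOnePartners S (Cfsg.conjBy Y g) := by
  rintro M ⟨hM, hp⟩
  have h1 := isRankOnePair_conjBy hp g⁻¹
  rw [conjBy_inv_conjBy] at h1
  have h2 := isRankOnePair_conjBy (h ⟨hS.conj_mem M hM _, h1⟩).2 g
  rw [conjBy_conjBy_inv] at h2
  exact ⟨hM, h2⟩

/-- Let S be a class of abstract root subgroups of G that is either degenerate or non-degenerate (so either the commutator case never occurs, or all three cases occur), and A ≠ C members of S. If every member of S commuting with A commutes with C, then A and C have the same commuting members of S; and if every rank one partner of A is a rank one partner of C, then A and C commute and have the same rank one partners. -/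
theorem result {G : Type*} [Group G] {S : Set (Subgroup G)} (hS : Cfsg.IsRootSubgroupClass S)
    (hdn : Cfsg.IsDegenerateRootSet S ∨ Cfsg.IsNondegenerateRootSet S)
    {A C : Subgroup G} (hA : A ∈ S) (hC : C ∈ S) (hAC : A ≠ C) :
    (Cfsg.centralizingMembers S A ⊆ Cfsg.centralizingMembers S C →
      Cfsg.centralizingMembers S A = Cfsg.centralizingMembers S C) ∧
    (Cfsg.rankOnePartners S A ⊆ Cfsg.rankOnePartners S C →
      ⁅A, C⁆ = ⊥ ∧ Cfsg.rankOnePartners S A = Cfsg.rankOnePartners S C) := by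
  obtain ⟨hS1, hcl⟩ := hS
  have hall : ∀ X ∈ S, ∃ Y ∈ S, Cfsg.IsRankOnePair X Y := by
    by_cases hex : ∃ P ∈ S, ∃ Q ∈ S, Cfsg.IsRankOnePair P Q
    · obtain ⟨P, hP, Q, hQ, hp⟩ := hex
      exact class_all_nonIso hS1 hcl hP ⟨Q, hQ, hp⟩
    exfalso
    push Not at hex
    have hcom : ∀ P ∈ S, ∀ Q ∈ S, ⁅P, Q⁆ = ⊥ := by
      intro P hP Q hQ
      rcases hS1.pair P hP Q hQ with h | h | h
      · exact h
      · exact absurd h (hex P hP Q hQ)
      · rcases hdn with hd | hn
        · exact absurd h (hd P hP Q hQ)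
        · obtain ⟨-, ⟨A', hA', B', hB', hp⟩, -⟩ := hn
          exact absurd hp (hex A' hA' B' hB')
    have htop : Subgroup.centralizer (A : Set G) = ⊤ := eq_top_of_members_le hS1 fun M hM =>
      Subgroup.commutator_eq_bot_iff_le_centralizer.mp (hcom M hM A hA)
    obtain ⟨g, hg⟩ := hcl.2 A hA C hC
    refine hAC (Eq.trans ?_ hg.symm)
    exact (conjBy_eq_self_of_commute fun x hx =>
      (Subgroup.mem_centralizer_iff.mp (htop ▸ Subgroup.mem_top g) x hx).symm).symm
  have hself : ∀ X ∈ S, X ∈ Cfsg.centralizingMembers S X := fun X hX =>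
    ⟨hX, fun x hx => Subgroup.mem_centralizer_iff.mpr fun y hy => root_comm hS1 hX hy hx⟩
  refine ⟨fun h => ?_, fun h => ?_⟩
  · -- centralizing members
    have hcomm : ⁅A, C⁆ = ⊥ := Subgroup.commutator_eq_bot_iff_le_centralizer.mpr (h (hself A hA)).2
    obtain ⟨E, hE, hCE⟩ := hall C hC
    have hAE : Cfsg.IsRankOnePair A E := by
      rcases hS1.pair E hE A hA with h1 | h1 | h1
      · have := (h ⟨hE, Subgroup.commutator_eq_bot_iff_le_centralizer.mp h1⟩).2
        exact absurd (Subgroup.commutator_eq_bot_iff_le_centralizer.mpr this)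
          (rankOne_commutator_ne_bot (Cfsg.RankOnePair_symm hCE))
      · exact Cfsg.RankOnePair_symm h1
      · exfalso
        obtain ⟨f, hf, hf1⟩ := exists_ne_one_mem (hS1.ne_bot _ h1.1)
        obtain ⟨c, hc, hc1⟩ := exists_ne_one_mem (hS1.ne_bot C hC)
        have hFA : ⁅⁅E, A⁆, A⁆ = ⊥ := commutator_eq_bot_of_commute fun x hx y hy =>
          rootCase_commute_right h1 hx hy
        have hFC := (h ⟨h1.1, Subgroup.commutator_eq_bot_iff_le_centralizer.mp hFA⟩).2
        exact hf1 (line_comm_opposite hS1 hE hC (Cfsg.RankOnePair_symm hCE) h1 hf hc hc1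
          (Subgroup.mem_centralizer_iff.mp (hFC hf) c hc).symm)
    refine h.antisymm (reverse_rel (S := S)
      (fun X Y => Cfsg.centralizingMembers S X ⊆ Cfsg.centralizingMembers S Y)
      (fun X Y g h => centralizing_mono_conj hS1 h g) (fun _ _ _ h1 h2 => h1.trans h2)
      (fun X hX Y hY hp hXY => ?_) hS1 hE hcomm h hAE hCE)
    exact rankOne_commutator_ne_bot hp
      (Subgroup.commutator_eq_bot_iff_le_centralizer.mpr (hXY (hself X hX)).2)
  · -- rank one partners
    have hcomm : ⁅A, C⁆ = ⊥ := by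
      rcases hS1.pair A hA C hC with h1 | h1 | h1
      · exact h1
      · exact absurd (h ⟨hC, h1⟩).2 fun hp => hp.ne rfl
      · exfalso
        obtain ⟨C', hC', hr, heq⟩ := reverse_line hS1 hall hC h1 rfl
        have hp : Cfsg.IsRankOnePair A C' := by
          have hCA : ⁅C, A⁆ = ⁅A, C⁆ := Subgroup.commutator_comm C A
          refine opposite_rankOne hS1 hC hA hC' (rootCase_symm h1) hCA hr heq
        have hp2 := (h ⟨hC', hp⟩).2
        refine not_rankOne_of_commute ?_ hp2
        refine commutator_eq_bot_of_commute fun x hx y hy => ?_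
        exact rootCase_commute_left hr (heq.symm ▸ hx) hy
    obtain ⟨E, hE, hAE⟩ := hall A hA
    refine ⟨hcomm, h.antisymm (reverse_rel (S := S)
      (fun X Y => Cfsg.rankOnePartners S X ⊆ Cfsg.rankOnePartners S Y)
      (fun X Y g h => partners_mono_conj hS1 h g) (fun _ _ _ h1 h2 => h1.trans h2)
      (fun X hX Y hY hp hXY => (hXY ⟨hY, hp⟩).2.ne rfl) hS1 hE hcomm h hAE (h ⟨hE, hAE⟩).2)⟩

end Cfsg.Agent.S5037
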