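import Cfsg.Statements.S5038
import Cfsg.Agent.Lib.RootGroups.Classes

set_option autoImplicit false
open Cfsg

namespace Cfsg.Agent.S5038

/-- Let S be a set of abstract root subgroups of G in which every member has a rank one partner, A ∈ S and B a line partner of A. Then the subgroup generated by the members of S normalizing AB permutes the members of S inside AB doubly transitively by conjugation. -/
theorem result {G : Type*} [Group G] {S : Set (Subgroup G)} (hS : Cfsg.IsRootSubgroupSet S)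
    (hF : ∀ A ∈ S, ¬ Cfsg.IsIsolatedIn (Cfsg.FAdj S) S A) {A B : Subgroup G} (hA : A ∈ S) (hB : B ∈ Cfsg.linePartners S A) :
    ∀ C₁ ∈ Cfsg.membersIn S (A ⊔ B), ∀ C₂ ∈ Cfsg.membersIn S (A ⊔ B), ∀ D₁ ∈ Cfsg.membersIn S (A ⊔ B),
      ∀ D₂ ∈ Cfsg.membersIn S (A ⊔ B), C₁ ≠ C₂ → D₁ ≠ D₂ →
        ∃ x ∈ ⨆ E ∈ Cfsg.normalizingMembers S (A ⊔ B), E, Cfsg.conjBy C₁ x = D₁ ∧ Cfsg.conjBy C₂ x = D₂ := by
  have hall : ∀ X ∈ S, ∃ Y ∈ S, Cfsg.IsRankOnePair X Y := fun X hX =>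
    (CfsgLib.RootGroups.not_isIsolatedIn_iff hX).mp (hF X hX)
  obtain ⟨C, hC, hr, heq⟩ := CfsgLib.RootGroups.exists_line_commutator hS hall hA hB
  obtain ⟨C', hC', hr', heq'⟩ := CfsgLib.RootGroups.reverse_line hS hall hA hr heq
  obtain ⟨hnorm, htrans⟩ :=
    CfsgLib.RootGroups.line_transitive hS hall hA hB.1.1 hr heq hr' heq' hC
  intro C₁ hC₁ C₂ hC₂ D₁ hD₁ D₂ hD₂ hne hne'
  obtain ⟨x, hx, hx1, hx2⟩ := htrans C₁ hC₁ C₂ hC₂ hne
  obtain ⟨y, hy, hy1, hy2⟩ := htrans D₁ hD₁ D₂ hD₂ hne'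
  refine ⟨y * x⁻¹, ?_, ?_, ?_⟩
  · have hmem : ∀ {P : Subgroup G}, P ∈ S → P ≤ C ⊔ C' →
        P ≤ ⨆ E ∈ Cfsg.normalizingMembers S (A ⊔ B), E := fun hP hle =>
      le_iSup₂_of_le _ ⟨hP, fun p hp =>
        CfsgLib.RootGroups.mem_normalizer_iff_conjBy.mpr (hnorm p (hle hp))⟩ le_rfl
    exact (sup_le (hmem hC le_sup_left) (hmem hC' le_sup_right) : C ⊔ C' ≤ _)
      (mul_mem hy (inv_mem hx))
  · rw [← hx1, CfsgLib.RootGroups.conjBy_conjBy, inv_mul_cancel_right, hy1]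
  · rw [← hx2, CfsgLib.RootGroups.conjBy_conjBy, inv_mul_cancel_right, hy2]

end Cfsg.Agent.S5038
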