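import Cfsg.Statements.S5040
import Cfsg.Agent.Lib.RootGroups.Classes

set_option autoImplicit false
open Cfsg

namespace Cfsg.Agent.S5040

open CfsgLib.RootGroups in
theorem no_rankOne_in_weakTI {G : Type*} [Group G] {S : Set (Subgroup G)}
    (hS : Cfsg.IsRootSubgroupClass S) (hnd : Cfsg.IsNondegenerateRootSet S)
    {Δ : Set (Subgroup G)} (hΔ : Cfsg.IsWeakTISubset S Δ) :
    (∀ d : G, ∀ D ∈ S, d ∈ D → ∀ M ∈ Δ, Cfsg.conjBy M d = M →
      ∀ M' ∈ Δ, Cfsg.conjBy M' d ∈ Δ) ∧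
    ∀ A ∈ Δ, ∀ B ∈ Δ, ¬ Cfsg.IsRankOnePair A B := by
  obtain ⟨hsub, -, hne, hTI⟩ := hΔ
  have hfix : ∀ d : G, ∀ D ∈ S, d ∈ D → ∀ M ∈ Δ, Cfsg.conjBy M d = M →
      ∀ M' ∈ Δ, Cfsg.conjBy M' d ∈ Δ := by
    intro d D hD hd M hM he M' hM'
    by_cases hd1 : d = 1
    · rw [hd1, conjBy_one]; exact hM'
    rcases hTI d ⟨hd1, D, hD, hd⟩ with h | h
    · exact h ▸ Set.mem_image_of_mem _ hM'
    · exact absurd hM (Set.disjoint_left.mp h ⟨M, hM, he⟩)
  refine ⟨hfix, fun A hA B hB hp => hne (Set.Subset.antisymm hsub ?_)⟩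
  let K : Subgroup G :=
    { carrier := {g | ∀ M, M ∈ Δ ↔ Cfsg.conjBy M g ∈ Δ}
      one_mem' := fun M => by rw [conjBy_one]
      mul_mem' := fun {x y} hx hy M => by rw [← conjBy_conjBy]; exact (hy M).trans (hx _)
      inv_mem' := fun {x} hx M => by rw [hx (Cfsg.conjBy M x⁻¹), conjBy_conjBy_inv] }
  have hK : ∀ {d : G}, ∀ D ∈ S, d ∈ D → ∀ M ∈ Δ, Cfsg.conjBy M d = M → d ∈ K := by
    intro d D hD hd M hM he N
    refine ⟨hfix d D hD hd M hM he N, fun h => ?_⟩
    have := hfix d⁻¹ D hD (inv_mem hd) M hM (conjBy_eq_iff.mp he).symm _ h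
    rwa [conjBy_inv_conjBy] at this
  have htop : K = ⊤ := top_le_iff.mp (by
    rw [← class_generated hS hnd (hsub hA) (hsub hB) hp]
    refine sup_le (iSup₂_le fun C hC c hc => hK C hC.1.1 hc A hA ?_) fun b hb =>
      hK B (hsub hB) hb B hB (conjBy_eq_self hb)
    exact conjBy_eq_self_of_commute fun a ha =>
      (commute_of_commutator_eq_bot hC.1.2.2 ha hc).symm)
  intro M hM
  obtain ⟨g, rfl⟩ := hS.2.2 A (hsub hA) M hM
  exact ((htop ▸ Subgroup.mem_top g : g ∈ K) A).mp hA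

/-- Let S be a non-degenerate class of abstract root subgroups of G and Δ a weak TI-subset of S. Then the members of Δ commute with one another elementwise. -/
theorem result {G : Type*} [Group G] {S : Set (Subgroup G)} (hS : Cfsg.IsRootSubgroupClass S) (hnd : Cfsg.IsNondegenerateRootSet S)
    {Δ : Set (Subgroup G)} (hΔ : Cfsg.IsWeakTISubset S Δ) : Cfsg.IsAbelianFamily Δ := by
  open CfsgLib.RootGroups in
  obtain ⟨hfix, hno⟩ := no_rankOne_in_weakTI hS hnd hΔ
  have hall := nondegenerate_all_nonIso hS hnd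
  intro A hA B hB a ha b hb
  have hAS := hΔ.1 hA
  have hBS := hΔ.1 hB
  rcases hS.1.pair A hAS B hBS with h | h | h
  · exact commute_of_commutator_eq_bot h ha hb
  · exact absurd h (hno A hA B hB)
  · exfalso
    obtain ⟨D, hD, hr, heq⟩ := exists_line_commutator hS.1 hall h.1
      (line_linePartner hS.1 hAS (hall A hAS) h).1
    have hp : Cfsg.IsRankOnePair B D := opposite_rankOne hS.1 hAS hBS hD h rfl hr heq
    obtain ⟨d, hd, hd1⟩ := exists_ne_one_mem (hS.1.ne_bot D hD)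
    have hBd : Cfsg.conjBy B d ∈ Δ := by
      refine hfix d D hD hd A hA (conjBy_eq_self_of_commute fun x hx => ?_) B hB
      exact (rootCase_commute_left hr (heq.symm ▸ hx) hd).symm
    exact hno B hB _ hBd (isRankOnePair_of_mem_unipotent hp (self_mem_unipotent B D)
      (conjBy_mem_unipotent (self_mem_unipotent B D) (Subgroup.mem_sup_right hd))
      (Ne.symm fun he => rankOne_conj_ne (Cfsg.RankOnePair_symm hp) hd hd1 he)).1

end Cfsg.Agent.S5040
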