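import Cfsg.Statements.S5043
import Cfsg.Agent.Lib.RootGroups.SLRoot

set_option autoImplicit false
open Matrix
open Cfsg

namespace Cfsg.Agent.S5043

open Matrix CfsgLib.RootGroups CfsgLib.RootGroups.SLRoot

variable {k : Type*} [Field k] {n : ℕ}

theorem closure_eq (k : Type*) [Field k] (n : ℕ) :
    Subgroup.closure {t : Matrix.SpecialLinearGroup (Fin (n + 3)) k |
      ∃ c : k, (t : Matrix (Fin (n + 3)) (Fin (n + 3)) k) = Matrix.transvection 0 1 c} =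
    tsub (Pi.single 0 1) (Pi.single 1 1) := by
  have h01 : (0 : Fin (n + 3)) ≠ 1 := by simp
  refine le_antisymm ((Subgroup.closure_le _).2 ?_) ?_
  · rintro t ⟨c, hc⟩
    exact ⟨c, slExt (hc.trans (tv_single h01 c).symm)⟩
  · rintro _ ⟨c, rfl⟩
    exact Subgroup.subset_closure ⟨c, tv_single h01 c⟩

/-- The family. -/
def fam (k : Type*) [Field k] (n : ℕ) : Set (Subgroup (Matrix.SpecialLinearGroup (Fin (n + 3)) k)) :=
  {A | ∃ g : Matrix.SpecialLinearGroup (Fin (n + 3)) k,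
    A = Cfsg.conjBy (Subgroup.closure {t : Matrix.SpecialLinearGroup (Fin (n + 3)) k |
      ∃ c : k, (t : Matrix (Fin (n + 3)) (Fin (n + 3)) k) = Matrix.transvection 0 1 c}) g}

theorem mem_fam {A : Subgroup (Matrix.SpecialLinearGroup (Fin (n + 3)) k)} :
    A ∈ fam k n ↔ ∃ p f, f ⬝ᵥ p = 0 ∧ p ≠ 0 ∧ f ≠ 0 ∧ A = tsub p f := by
  have h01 : (0 : Fin (n + 3)) ≠ 1 := by simp
  simp only [fam, closure_eq, Set.mem_ofPred_eq]
  constructor
  · rintro ⟨g, rfl⟩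
    rw [conjBy_tsub g (single_dot h01)]
    have hi : (g⁻¹).1 * g.1 = 1 := (coe_mul' _ _).symm.trans (by rw [inv_mul_cancel]; rfl)
    have hi' : g.1 * (g⁻¹).1 = 1 := (coe_mul' _ _).symm.trans (by rw [mul_inv_cancel]; rfl)
    refine ⟨_, _, ?_, ?_, ?_, rfl⟩
    · rw [dotProduct_mulVec, vecMul_vecMul, hi, vecMul_one, single_dot h01]
    · intro e
      apply single_ne (F := k) (0 : Fin (n + 3))
      rw [← one_mulVec (Pi.single _ _), ← hi, ← mulVec_mulVec, e, mulVec_zero]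
    · intro e
      apply single_ne (F := k) (1 : Fin (n + 3))
      rw [← vecMul_one (Pi.single _ _), ← hi, ← vecMul_vecMul, e, zero_vecMul]
  · rintro ⟨p, f, hpf, hp, hf, rfl⟩
    obtain ⟨g, h1, h2⟩ := exists_sl_map hpf hp hf
    exact ⟨g, by rw [conjBy_tsub g (single_dot h01), h1, h2]⟩

theorem pair_iff {p f q h : Fin (n + 3) → k} (hpf : f ⬝ᵥ p = 0) (hqh : h ⬝ᵥ q = 0)
    (hp : p ≠ 0) (hf : f ≠ 0) (hq : q ≠ 0) (hh : h ≠ 0)
    (hS : Cfsg.IsRootSubgroupSet (fam k n))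
    (hP : Cfsg.IsRankOnePair (tsub p f) (tsub q h)) : f ⬝ᵥ q ≠ 0 ∧ h ⬝ᵥ p ≠ 0 := by
  have hA : tsub p f ∈ fam k n := mem_fam.2 ⟨p, f, hpf, hp, hf, rfl⟩
  have hB : tsub q h ∈ fam k n := mem_fam.2 ⟨q, h, hqh, hq, hh, rfl⟩
  constructor
  · intro ha
    by_cases hb : h ⬝ᵥ p = 0
    · refine tsub_ne_bot hpf hp hf ((Subgroup.eq_bot_iff_forall _).2 fun a hm => ?_)
      exact rankOne_noncomm hP hm fun b hb' =>
        commute_of_commutator_eq_bot (commutator_of_both_zero hpf hqh ha hb) hm hb'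
    · exact rootCase_not_rankOne hS hA hB
        (rootCase hpf hqh ha hb (mem_fam.2 ⟨q, f, ha, hq, hf, rfl⟩)) hP
  · intro hb
    by_cases ha : f ⬝ᵥ q = 0
    · refine tsub_ne_bot hpf hp hf ((Subgroup.eq_bot_iff_forall _).2 fun a hm => ?_)
      exact rankOne_noncomm hP hm fun b hb' =>
        commute_of_commutator_eq_bot (commutator_of_both_zero hpf hqh ha hb) hm hb'
    · exact rootCase_not_rankOne hS hB hA
        (rootCase hqh hpf hb ha (mem_fam.2 ⟨p, h, hb, hp, hh, rfl⟩)) (Cfsg.RankOnePair_symm hP)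

theorem isRootSubgroupSet : Cfsg.IsRootSubgroupSet (fam k n) := by
  refine ⟨?_, ?_, ?_, ?_, ?_⟩
  · intro A hA
    obtain ⟨p, f, hpf, -, -, rfl⟩ := mem_fam.1 hA
    refine ⟨⟨?_⟩⟩
    rintro ⟨_, c, rfl⟩ ⟨_, d, rfl⟩
    exact Subtype.ext (by
      show tv p f c * tv p f d = tv p f d * tv p f c
      rw [tv_mul hpf, tv_mul hpf, add_comm c d])
  · intro A hA
    obtain ⟨p, f, hpf, hp, hf, rfl⟩ := mem_fam.1 hA
    exact tsub_ne_bot hpf hp hf
  · refine Cfsg.Agent.Classical.sl_subgroup_eq_top_of_transvection_mem _ fun i j hij c => ?_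
    refine Subgroup.mem_iSup_of_mem (tsub (Pi.single i 1) (Pi.single j 1))
      (Subgroup.mem_iSup_of_mem (mem_fam.2 ⟨_, _, single_dot hij, single_ne i, single_ne j, rfl⟩) ?_)
    exact ⟨c, slExt (by rw [tv_single hij]; rfl)⟩
  · intro A hA g
    obtain ⟨g₀, rfl⟩ := hA
    exact ⟨g * g₀, conjBy_conjBy _ _ _⟩
  · intro A hA B hB
    obtain ⟨p, f, hpf, hp, hf, rfl⟩ := mem_fam.1 hA
    obtain ⟨q, h, hqh, hq, hh, rfl⟩ := mem_fam.1 hB
    by_cases ha : f ⬝ᵥ q = 0 <;> by_cases hb : h ⬝ᵥ p = 0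
    · exact Or.inl (commutator_of_both_zero hpf hqh ha hb)
    · exact Or.inr (Or.inr (rootCase hpf hqh ha hb (mem_fam.2 ⟨q, f, ha, hq, hf, rfl⟩)))
    · exact Or.inr (Or.inr (rootCase_symm (rootCase hqh hpf hb ha (mem_fam.2 ⟨p, h, hb, hp, hh, rfl⟩))))
    · exact Or.inr (Or.inl (pair_of_ne hpf hqh ha hb).1)

theorem exists_both {f h : Fin (n + 3) → k} (hf : f ≠ 0) (hh : h ≠ 0) :
    ∃ r, f ⬝ᵥ r ≠ 0 ∧ h ⬝ᵥ r ≠ 0 := by
  obtain ⟨i, hi⟩ := Function.ne_iff.1 hf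
  obtain ⟨j, hj⟩ := Function.ne_iff.1 hh
  by_cases h1 : h i = 0
  · by_cases h2 : f j = 0
    · refine ⟨Pi.single i 1 + Pi.single j 1, ?_, ?_⟩ <;>
        simp only [dotProduct_add, dotProduct_single, mul_one, h1, h2, zero_add, add_zero] <;>
        first | exact hi | exact hj
    · exact ⟨Pi.single j 1, by simpa using h2, by simpa using hj⟩
  · exact ⟨Pi.single i 1, by simpa using hi, by simpa using h1⟩

theorem exists_axis {p r f : Fin (n + 3) → k} (hpf : f ⬝ᵥ p = 0) (hp : p ≠ 0) (hfr : f ⬝ᵥ r ≠ 0) :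
    ∃ l, l ⬝ᵥ r = 0 ∧ l ⬝ᵥ p ≠ 0 := by
  set s := (f ⬝ᵥ r)⁻¹ • f
  have hsr : s ⬝ᵥ r = 1 := by rw [smul_dotProduct, smul_eq_mul, inv_mul_cancel₀ hfr]
  have hsp : s ⬝ᵥ p = 0 := by rw [smul_dotProduct, hpf, smul_zero]
  obtain ⟨i, hi⟩ := Function.ne_iff.1 hp
  refine ⟨Pi.single i 1 - (Pi.single i 1 ⬝ᵥ r) • s, ?_, ?_⟩
  · rw [sub_dotProduct, smul_dotProduct, hsr, smul_eq_mul, mul_one, sub_self]
  · rw [sub_dotProduct, smul_dotProduct, hsp, smul_zero, sub_zero, single_dotProduct, one_mul]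
    exact hi

/-- Let k be a field and n a natural number. In SL_{n+3}(k) (so in every dimension at least 3) the conjugates of the root subgroup of elementary transvections 1 + c E₁₂ (c ∈ k) — that is, the groups of transvections attached to an incident point–hyperplane pair — form a non-degenerate class of abstract k-root subgroups of SL_{n+3}(k) whose graph of rank one pairs is connected. -/
theorem result (k : Type*) [Field k] (n : ℕ) :
    Cfsg.IsRootSubgroupClass {A : Subgroup (Matrix.SpecialLinearGroup (Fin (n + 3)) k) |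
        ∃ g : Matrix.SpecialLinearGroup (Fin (n + 3)) k,
          A = Cfsg.conjBy (Subgroup.closure {t : Matrix.SpecialLinearGroup (Fin (n + 3)) k |
            ∃ c : k, (t : Matrix (Fin (n + 3)) (Fin (n + 3)) k) = Matrix.transvection 0 1 c}) g} ∧
    Cfsg.IsNondegenerateRootSet {A : Subgroup (Matrix.SpecialLinearGroup (Fin (n + 3)) k) |
        ∃ g : Matrix.SpecialLinearGroup (Fin (n + 3)) k,
          A = Cfsg.conjBy (Subgroup.closure {t : Matrix.SpecialLinearGroup (Fin (n + 3)) k |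
            ∃ c : k, (t : Matrix (Fin (n + 3)) (Fin (n + 3)) k) = Matrix.transvection 0 1 c}) g} ∧
    Cfsg.IsKRootSubgroupSet k {A : Subgroup (Matrix.SpecialLinearGroup (Fin (n + 3)) k) |
        ∃ g : Matrix.SpecialLinearGroup (Fin (n + 3)) k,
          A = Cfsg.conjBy (Subgroup.closure {t : Matrix.SpecialLinearGroup (Fin (n + 3)) k |
            ∃ c : k, (t : Matrix (Fin (n + 3)) (Fin (n + 3)) k) = Matrix.transvection 0 1 c}) g} ∧
    Cfsg.IsConnectedFamily (Cfsg.FAdj {A : Subgroup (Matrix.SpecialLinearGroup (Fin (n + 3)) k) |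
        ∃ g : Matrix.SpecialLinearGroup (Fin (n + 3)) k,
          A = Cfsg.conjBy (Subgroup.closure {t : Matrix.SpecialLinearGroup (Fin (n + 3)) k |
            ∃ c : k, (t : Matrix (Fin (n + 3)) (Fin (n + 3)) k) = Matrix.transvection 0 1 c}) g})
      {A : Subgroup (Matrix.SpecialLinearGroup (Fin (n + 3)) k) |
        ∃ g : Matrix.SpecialLinearGroup (Fin (n + 3)) k,
          A = Cfsg.conjBy (Subgroup.closure {t : Matrix.SpecialLinearGroup (Fin (n + 3)) k |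
            ∃ c : k, (t : Matrix (Fin (n + 3)) (Fin (n + 3)) k) = Matrix.transvection 0 1 c}) g} := by
  have hS := isRootSubgroupSet (k := k) (n := n)
  have h01 : (0 : Fin (n + 3)) ≠ 1 := by simp
  have h02 : (0 : Fin (n + 3)) ≠ 2 := by simp [Fin.ext_iff, Nat.mod_eq_of_lt (show 2 < n + 3 by omega)]
  have h12 : (1 : Fin (n + 3)) ≠ 2 := by simp [Fin.ext_iff, Nat.mod_eq_of_lt (show 2 < n + 3 by omega)]
  have hmem : ∀ {i j : Fin (n + 3)}, i ≠ j → tsub (Pi.single i (1 : k)) (Pi.single j 1) ∈ fam k n :=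
    fun hij => mem_fam.2 ⟨_, _, single_dot hij, single_ne _, single_ne _, rfl⟩
  refine ⟨⟨hS, ⟨_, hmem h01⟩, ?_⟩, ⟨⟨_, hmem h01, _, hmem h02, ?_, ?_⟩,
    ⟨_, hmem h01, _, hmem h01.symm, (pair_of_ne (single_dot h01) (single_dot h01.symm) (by simp) (by simp)).1⟩,
    ⟨_, hmem h12, _, hmem h01, rootCase (single_dot h12) (single_dot h01) (single_dot h02) (by simp) (hmem h02)⟩⟩,
    ⟨hS, ?_⟩, ?_⟩
  · rintro _ ⟨g, rfl⟩ _ ⟨g', rfl⟩
    exact ⟨g' * g⁻¹, by rw [conjBy_conjBy, inv_mul_cancel_right]⟩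
  · intro e
    have hm : tv (Pi.single 0 (1 : k)) (Pi.single 1 1) 1 ∈ tsub (Pi.single 0 (1 : k)) (Pi.single (2 : Fin (n + 3)) 1) :=
      e ▸ tv_mem 1
    obtain ⟨c, hc⟩ := hm
    have h1 := congrArg (fun g : Matrix.SpecialLinearGroup (Fin (n + 3)) k => g.1 0 1) hc
    simp only [tv_single h01, tv_single h02] at h1
    simp [Matrix.transvection, h12.symm] at h1
  · exact commutator_of_both_zero (single_dot h01) (single_dot h02) (single_dot h01) (single_dot h02)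
  · intro A hA B hB hP
    obtain ⟨p, f, hpf, hp, hf, rfl⟩ := mem_fam.1 hA
    obtain ⟨q, h, hqh, hq, hh, rfl⟩ := mem_fam.1 hB
    obtain ⟨ha, hb⟩ := pair_iff hpf hqh hp hf hq hh hS hP
    exact (pair_of_ne hpf hqh ha hb).2
  · intro A hA B hB
    obtain ⟨p, f, hpf, hp, hf, rfl⟩ := mem_fam.1 hA
    obtain ⟨q, h, hqh, hq, hh, rfl⟩ := mem_fam.1 hB
    obtain ⟨r, hfr, hhr⟩ := exists_both hf hh
    obtain ⟨l₁, hl₁, hl₁p⟩ := exists_axis hpf hp hfr
    obtain ⟨l₂, hl₂, hl₂q⟩ := exists_axis hqh hq hhr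
    obtain ⟨l, hl, hlp, hlq⟩ : ∃ l, l ⬝ᵥ r = 0 ∧ l ⬝ᵥ p ≠ 0 ∧ l ⬝ᵥ q ≠ 0 := by
      by_cases h1 : l₁ ⬝ᵥ q = 0
      · by_cases h2 : l₂ ⬝ᵥ p = 0
        · exact ⟨l₁ + l₂, by rw [add_dotProduct, hl₁, hl₂, add_zero],
            by rw [add_dotProduct, h2, add_zero]; exact hl₁p,
            by rw [add_dotProduct, h1, zero_add]; exact hl₂q⟩
        · exact ⟨l₂, hl₂, h2, hl₂q⟩
      · exact ⟨l₁, hl₁, hl₁p, h1⟩
    have hr0 : r ≠ 0 := fun e => hfr (by rw [e, dotProduct_zero])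
    have hl0 : l ≠ 0 := fun e => hlp (by rw [e, zero_dotProduct])
    have hR : tsub r l ∈ fam k n := mem_fam.2 ⟨r, l, hl, hr0, hl0, rfl⟩
    have e1 : Cfsg.FAdj (fam k n) (tsub p f) (tsub r l) := ⟨hA, hR, (pair_of_ne hpf hl hfr hlp).1⟩
    have e2 : Cfsg.FAdj (fam k n) (tsub r l) (tsub q h) := ⟨hR, hB, (pair_of_ne hl hqh hlq hhr).1⟩
    exact (Relation.ReflTransGen.single e1).tail e2

end Cfsg.Agent.S5043
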