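import Cfsg.Statements.S5047
import Cfsg.Agent.Lib.RootGroups.RootInvolutions

set_option autoImplicit false
open Cfsg

namespace Cfsg.Agent.S5047

open CfsgLib.RootInvolutions in
theorem commuting_conj {G : Type*} [Group G] {D : Set G} (hD : Cfsg.IsRootInvolutionSet D) (a g : G) :
    Cfsg.commutingMembers D (g * a * g⁻¹) = (fun x => g * x * g⁻¹) '' Cfsg.commutingMembers D a := by
  have key : ∀ (a g : G) {b : G}, b ∈ Cfsg.commutingMembers D a →
      g * b * g⁻¹ ∈ Cfsg.commutingMembers D (g * a * g⁻¹) := fun a g b hb => ⟨hD.conj_mem b hb.1 g, by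
    calc g * b * g⁻¹ * (g * a * g⁻¹) = g * (b * a) * g⁻¹ := by group
      _ = g * (a * b) * g⁻¹ := by rw [hb.2]
      _ = g * a * g⁻¹ * (g * b * g⁻¹) := by group⟩
  ext x
  constructor
  · intro hx
    refine ⟨g⁻¹ * x * g, ?_, by group⟩
    have := key _ g⁻¹ hx
    rw [show g⁻¹ * (g * a * g⁻¹) * g⁻¹⁻¹ = a by group, inv_inv] at this
    exact this
  · rintro ⟨b, hb, rfl⟩
    exact key a g hb

/-- Let G be a finite group generated by a set D of root involutions whose odd-order-product graph is connected, a ∈ D, and b a member of D different from a, commuting with a, with ab ∈ D, but not having the same commuting members as a. Then some member x of D with bx of order 4 has ax of order 3. -/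
theorem result {G : Type*} [Group G] [Finite G] {D : Set G} (hD : Cfsg.IsRootInvolutionSet D)
    (hc : Cfsg.IsConnectedSet (Cfsg.OddAdj D) D) {a b : G} (ha : a ∈ D) (hb : b ∈ Cfsg.productPartners D a)
    (hbE : b ∉ Cfsg.sameCommutingClass D a) : ∃ x ∈ Cfsg.fourPartners D b, orderOf (a * x) = 3 := by
  open CfsgLib.RootInvolutions CfsgLib.Involutions in
  obtain ⟨⟨hbD, hba, hbne⟩, hbaD⟩ := hb
  have hne : Cfsg.commutingMembers D a ≠ Cfsg.commutingMembers D b := fun h => hbE ⟨hbD, h⟩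
  obtain ⟨g, hg⟩ := CfsgLib.RootInvolutions.isConj_of_connected hD hc ha hbD
  obtain ⟨c, hcb, hca⟩ := Set.not_subset.mp fun hsub : Cfsg.commutingMembers D b ⊆ _ => hne
    (Set.eq_of_subset_of_ncard_le hsub (by
      rw [← hg, commuting_conj hD, Set.ncard_image_of_injective _ (f := fun x => g * x * g⁻¹)
        (MulAut.conj g).injective]) (Set.toFinite _)).symm
  obtain ⟨hcD, hcbc⟩ := hcb
  have hnc : ¬ c * a = a * c := fun h => hca ⟨hcD, h⟩
  have h4 : orderOf (c * a) = 4 := by
    rcases hD.pair c hcD a ha with h | h | h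
    · exact absurd h hnc
    · exfalso
      refine CfsgLib.RootInvolutions.common_commuting hD ha hbD hcD hba.symm hbaD hcbc.symm ?_
        ((CfsgLib.RootInvolutions.odd_comm hD hcD ha).mp h)
      intro he
      exact hnc (by rw [he])
    · exact h.1
  obtain ⟨hpD, hpc, hpa, hcp, hap, -⟩ := CfsgLib.RootInvolutions.four_facts hD hcD ha h4
  set p := (c * a) ^ 2 with hp
  have hpne : c ≠ p := fun h => hnc (by rw [h]; exact hpa.eq)
  have hcP : c ∈ Cfsg.productPartners D p := by
    refine ⟨⟨hcD, hpc.symm.eq, hpne⟩, ?_⟩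
    rw [hcp]; exact hD.conj_mem c hcD a
  have hA : Cfsg.oddPartners D p ≠ Cfsg.oddPartners D c := by
    intro h
    have hC := (CfsgLib.RootInvolutions.sameCommuting_iff_oddPartners hD hc hpD hcD).mpr h
    have : a ∈ Cfsg.commutingMembers D c := hC ▸ ⟨ha, hpa.symm.eq⟩
    exact hnc this.2.symm
  obtain ⟨q, hqp, hqc⟩ := Set.not_subset.mp fun hsub =>
    hA (CfsgLib.RootInvolutions.oddPartners_eq_of_subset hD hc hpD hcD hsub)
  have hcq : ¬ Odd (orderOf (c * q)) := fun ho => by
    refine hqc ⟨hqp.1, fun hh => ?_, ho⟩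
    rw [hh] at hqp
    exact CfsgLib.RootInvolutions.odd_not_commute hD hpD hcD hqp.2.1 hqp.2.2 hpc.eq
  obtain ⟨z, hz, hz4, hzc⟩ := CfsgLib.RootInvolutions.exists_reverse hD hpD hcP hqp hcq
  obtain ⟨-, -, hcz, hpz, hzc', -⟩ := CfsgLib.RootInvolutions.four_facts hD hpD hz hz4
  rw [hzc] at hcz hpz hzc'
  have haa := CfsgLib.RootInvolutions.root_mul_self hD ha
  have hcc := CfsgLib.RootInvolutions.root_mul_self hD hcD
  have hpp := CfsgLib.RootInvolutions.root_mul_self hD hpD
  have hac : a * c * a⁻¹ = c * p := hcp.symm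
  have hap' : a * p * a⁻¹ = p := by rw [hpa.symm.eq, mul_inv_cancel_right]
  have hzc2 : z * c * z⁻¹ = c := by rw [hcz.symm.eq, mul_inv_cancel_right]
  have hzp : z * p * z⁻¹ = p * c := hpz.symm
  have s1 : (a * z) * p * (a * z)⁻¹ = c := by
    calc (a * z) * p * (a * z)⁻¹ = a * (z * p * z⁻¹) * a⁻¹ := by group
      _ = a * (p * c) * a⁻¹ := by rw [hzp]
      _ = (a * p * a⁻¹) * (a * c * a⁻¹) := by group
      _ = p * (c * p) := by rw [hap', hac]
      _ = c := by rw [← mul_assoc, hpc.eq, mul_assoc, hpp, mul_one]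
  have s2 : (a * z) * c * (a * z)⁻¹ = c * p := by
    calc (a * z) * c * (a * z)⁻¹ = a * (z * c * z⁻¹) * a⁻¹ := by group
      _ = c * p := by rw [hzc2, hac]
  have s3 : (a * z) * (c * p) * (a * z)⁻¹ = p := by
    calc (a * z) * (c * p) * (a * z)⁻¹ = ((a * z) * c * (a * z)⁻¹) * ((a * z) * p * (a * z)⁻¹) := by
          group
      _ = c * p * c := by rw [s1, s2]
      _ = p := by rw [← hpc.eq, mul_assoc, hcc, mul_one]
  have hodd : Odd (orderOf (a * z)) := by
    by_contra hno
    have h41 := CfsgLib.RootInvolutions.not_odd_pow_four hD ha hz hno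
    apply hpne
    symm
    calc p = (a * z) ^ 4 * p * ((a * z) ^ 4)⁻¹ := by rw [h41]; group
      _ = (a * z) * ((a * z) * ((a * z) * ((a * z) * p * (a * z)⁻¹) * (a * z)⁻¹) * (a * z)⁻¹) *
            (a * z)⁻¹ := by simp only [pow_succ, pow_zero, one_mul, mul_inv_rev, mul_assoc]
      _ = c := by rw [s1, s2, s3, s1]
  have haz : a ≠ z := fun h => hnc (by rw [h]; exact hcz.eq)
  have hzb : orderOf (b * z) = 4 := by
    rcases hD.pair b hbD z hz with h | h | h
    · exact (CfsgLib.RootInvolutions.common_commuting hD ha hbD hz hba.symm hbaD h haz hodd).elim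
    · by_cases hbz : z = b
      · exact (CfsgLib.RootInvolutions.common_commuting hD ha hbD hz hba.symm hbaD (by rw [hbz]) haz hodd).elim
      · refine (CfsgLib.RootInvolutions.common_commuting hD hz hcD hbD hcz.symm.eq ?_ hcbc hbz
          ((CfsgLib.RootInvolutions.odd_comm hD hbD hz).mp h)).elim
        rw [hcz.eq, hzc']
        exact hD.conj_mem z hz p
    · exact h.1
  refine ⟨z, ⟨hz, hzb⟩, ?_⟩
  -- the order is three
  set u := a * z with hu
  have hfix : u ^ 3 * p * (u ^ 3)⁻¹ = p := by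
    calc u ^ 3 * p * (u ^ 3)⁻¹ = u * (u * (u * p * u⁻¹) * u⁻¹) * u⁻¹ := by
          simp only [pow_succ, pow_zero, one_mul, mul_inv_rev, mul_assoc]
      _ = p := by rw [s1, s2, s3]
  have hau : a * u * a⁻¹ = u⁻¹ := by
    rw [hu, mul_inv_rev, CfsgLib.RootInvolutions.root_inv hD ha,
      CfsgLib.RootInvolutions.root_inv hD hz, ← mul_assoc, haa, one_mul]
  have hau3 : a * u ^ 3 * a⁻¹ = (u ^ 3)⁻¹ := by rw [← conj_pow, hau, inv_pow]
  set a' := u ^ 3 * a * (u ^ 3)⁻¹ with ha'
  have hpa' : p * a' = a' * p := by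
    have h1 : Commute p (u ^ 3) := (show u ^ 3 * p = p * u ^ 3 from mul_inv_eq_iff_eq_mul.mp hfix).symm
    exact ((h1.mul_right hpa).mul_right h1.inv_right).eq
  have haa' : a * a' = (u ^ 6)⁻¹ := by
    calc a * a' = (a * u ^ 3 * a⁻¹) * (a * a) * (u ^ 3)⁻¹ := by rw [ha']; group
      _ = (u ^ 6)⁻¹ := by rw [hau3, haa, mul_one, ← mul_inv_rev, ← pow_add]
  have heq : a' = a := by
    by_contra hne'
    refine CfsgLib.RootInvolutions.common_commuting hD ha hpD (hD.conj_mem a ha _) hpa.symm.eq ?_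
      hpa' (Ne.symm hne') ?_
    · rw [hpa.eq, hap]; exact hD.conj_mem a ha c
    · rw [haa', orderOf_inv]; exact hodd.of_dvd_nat (orderOf_pow_dvd _)
  have h6 : orderOf u ∣ 6 := orderOf_dvd_of_pow_eq_one (by
    rw [heq, haa, eq_comm, inv_eq_one] at haa'
    exact haa')
  have h1 : orderOf u ≠ 1 := fun h =>
    haz (CfsgLib.RootInvolutions.eq_of_mul_eq_one hD ha (orderOf_eq_one_iff.mp h)).symm
  have hle : orderOf u ≤ 6 := Nat.le_of_dvd (by norm_num) h6
  interval_cases hk : orderOf u <;> first | rfl | omega | (exfalso; revert hodd h6; decide)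

end Cfsg.Agent.S5047
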