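import Cfsg.Statements.S5049
import Cfsg.Agent.Lib.Solvable.Fitting

set_option autoImplicit false
open Cfsg

namespace Cfsg.Agent.S5049

section
open scoped commutatorElement
variable {G : Type*} [Group G] [Finite G] {D : Set G}

theorem odd_two_power {x : G} {k : ℕ} (h : x ^ (2 ^ k) = 1) (ho : Odd (orderOf x)) : x = 1 := by
  obtain ⟨i, -, hi⟩ := (Nat.dvd_prime_pow Nat.prime_two).mp (orderOf_dvd_of_pow_eq_one h)
  rcases Nat.eq_zero_or_pos i with rfl | hpos
  · exact orderOf_eq_one_iff.mp (by simpa using hi)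
  · rw [hi, Nat.odd_pow_iff hpos.ne'] at ho
    exact absurd ho (by decide)

theorem invol_mul (hD : Cfsg.IsOddTranspositionSet D) {a : G} (ha : a ∈ D) : a * a = 1 := by
  rw [← pow_two, ← hD.1.orderOf_eq a ha, pow_orderOf_eq_one]

/-- In a set of odd transpositions two members with product a 2-element commute. -/
theorem commute_of_two_power (hD : Cfsg.IsOddTranspositionSet D) {a b : G} (ha : a ∈ D) (hb : b ∈ D)
    {k : ℕ} (h : (a * b) ^ (2 ^ k) = 1) : a * b = b * a := by
  rcases hD.1.pair a ha b hb with hc | ho | ⟨h4, -⟩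
  · exact hc
  · have h1 := odd_two_power h ho
    have : b = a := by
      rw [← one_mul b, ← invol_mul hD ha, mul_assoc, h1, mul_one]
    rw [this]
  · exact absurd h4 (hD.2 a ha b hb)

theorem pCore_pow {x : G} (hx : x ∈ Cfsg.pCore 2 G) : ∃ k : ℕ, x ^ (2 ^ k) = 1 := by
  obtain ⟨k, hk⟩ := CfsgLib.Fitting.pCore_isPGroup (G := G) 2 ⟨x, hx⟩
  exact ⟨k, by simpa using congrArg Subtype.val hk⟩

theorem commute_translate (hD : Cfsg.IsOddTranspositionSet D) {a e q : G} (ha : a ∈ D) (he : e ∈ D)
    (hea : e * a = a * e) (hq : q ∈ Cfsg.pCore 2 G) :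
    e * (q * a * q⁻¹) = (q * a * q⁻¹) * e := by
  have hn := CfsgLib.Fitting.pCore_normal (G := G) 2
  set t := a * (q * a * q⁻¹) with ht
  have hai : a⁻¹ = a := inv_eq_of_mul_eq_one_right (invol_mul hD ha)
  have htQ : t ∈ Cfsg.pCore 2 G := by
    have := mul_mem (hn.conj_mem q hq a) (inv_mem hq)
    rw [hai] at this
    rw [ht]
    simpa [mul_assoc] using this
  have hx : e * (q * a * q⁻¹) = e * a * t := by
    rw [ht, mul_assoc e a, ← mul_assoc a a, invol_mul hD ha, one_mul]
  have h2 : (e * a) * (e * a) = 1 := by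
    rw [mul_assoc, ← mul_assoc a e, ← hea, mul_assoc e a a, invol_mul hD ha, mul_one,
      invol_mul hD he]
  have hsq : (e * (q * a * q⁻¹)) ^ 2 ∈ Cfsg.pCore 2 G := by
    rw [hx, pow_two]
    have e1 : e * a * t * (e * a * t) = (e * a) * t * (e * a)⁻¹ * ((e * a) * (e * a)) * t := by group
    rw [e1, h2, mul_one]
    exact mul_mem (hn.conj_mem t htQ _) htQ
  obtain ⟨k, hk⟩ := pCore_pow hsq
  refine commute_of_two_power hD he (hD.1.conj_mem a ha q) (k := k + 1) ?_
  rw [pow_succ', pow_mul]
  exact hk

theorem centralizes_commutator (hD : Cfsg.IsOddTranspositionSet D) {a e : G} (ha : a ∈ D) (he : e ∈ D)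
    (hea : e * a = a * e) :
    ⁅Cfsg.pCore 2 G, Subgroup.zpowers a⁆ ≤ Subgroup.centralizer {e} := by
  have hai : a⁻¹ = a := inv_eq_of_mul_eq_one_right (invol_mul hD ha)
  refine Subgroup.commutator_le.mpr fun q hq x hx => ?_
  rw [Subgroup.mem_centralizer_singleton_iff]
  obtain ⟨n, rfl⟩ := Subgroup.mem_zpowers_iff.mp hx
  have hc1 : Commute e (q * a * q⁻¹) := commute_translate hD ha he hea hq
  have hc2 : Commute e a := hea
  have e1 : ⁅q, a ^ n⁆ = (q * a * q⁻¹) ^ n * (a ^ n)⁻¹ := by
    rw [commutatorElement_def, conj_zpow]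
  rw [e1]
  exact ((hc1.zpow_right n).mul_right (hc2.zpow_right n).inv_right).symm.eq

end

/-- Let G be a finite group generated by a set D of odd transpositions (root involutions with no product of order 4), Q = O₂(G), and for a ∈ D let Q_a be the commutator subgroup of Q with a. Then every member of D commuting with a centralizes Q_a; and for b ∈ D with ab of odd order greater than 1, the centralizer of ab in Q is the intersection of the centralizers of a and b in Q. -/
theorem result {G : Type*} [Group G] [Finite G] {D : Set G} (hD : Cfsg.IsOddTranspositionSet D) {a : G} (ha : a ∈ D) :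
    (∀ e ∈ Cfsg.commutingMembers D a, ∀ q ∈ ⁅Cfsg.pCore 2 G, Subgroup.zpowers a⁆, e * q = q * e) ∧
    (∀ b ∈ Cfsg.oddPartners D a,
      Cfsg.pCore 2 G ⊓ Subgroup.centralizer {a * b} = Cfsg.pCore 2 G ⊓ Subgroup.centralizer {a} ⊓ Subgroup.centralizer {b}) := by
  refine ⟨fun e he q hq => ?_, fun b hb => ?_⟩
  · exact (Subgroup.mem_centralizer_singleton_iff.mp
      (centralizes_commutator hD ha he.1 he.2 hq)).symm
  obtain ⟨hbD, hba, hodd⟩ := hb
  refine le_antisymm ?_ ?_
  · rintro q ⟨hqQ, hqc⟩
    have haa := invol_mul hD ha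
    have hbb := invol_mul hD hbD
    have hai : a⁻¹ = a := inv_eq_of_mul_eq_one_right haa
    have hcx : Commute q (a * b) := Subgroup.mem_centralizer_singleton_iff.mp hqc
    set x := a * b with hx
    have hbx : b = a * x := by rw [hx, ← mul_assoc, haa, one_mul]
    set u := q * a * q⁻¹ * a with hu
    have hbu : q * b * q⁻¹ * b = u := by
      have h1 : q * b * q⁻¹ = q * a * q⁻¹ * x := by
        calc q * b * q⁻¹ = q * a * q⁻¹ * (q * x * q⁻¹) := by rw [hbx]; group
          _ = q * a * q⁻¹ * x := by rw [hcx.eq, mul_inv_cancel_right]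
      rw [h1, hu, hx]
      rw [mul_assoc _ (a * b) b, mul_assoc a b b, hbb, mul_one]
    have hua : Commute u a := by
      have h : Commute (q * a * q⁻¹) a := (commute_translate hD ha ha rfl hqQ).symm
      exact h.mul_left (Commute.refl a)
    have hub : Commute u b := by
      rw [← hbu]
      have h : Commute (q * b * q⁻¹) b := (commute_translate hD hbD hbD rfl hqQ).symm
      exact h.mul_left (Commute.refl b)
    have hux : Commute u x := hua.mul_right hub
    have hu2 : u ^ 2 = 1 := by
      have h : Commute (q * a * q⁻¹) a := (commute_translate hD ha ha rfl hqQ).symm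
      rw [hu, h.mul_pow, conj_pow, pow_two, haa, mul_one, mul_one, mul_inv_cancel]
    have hu1 : u = 1 := by
      have hprod : q * a * q⁻¹ * b = u * x := by
        rw [hu, hx, mul_assoc _ a (a * b), ← mul_assoc a a, haa, one_mul]
      rcases hD.1.pair _ (hD.1.conj_mem a ha q) b hbD with hc | ho | ⟨h4, -⟩
      · exfalso
        have hc' : Commute (q * a * q⁻¹) b := hc
        have hab : Commute a b := by
          have : a = u⁻¹ * (q * a * q⁻¹) := by
            rw [hu, mul_inv_rev, inv_mul_cancel_right, hai]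
          rw [this]
          exact hub.inv_left.mul_left hc'
        have h2 : x ^ 2 = 1 := by rw [hx, hab.mul_pow, pow_two, pow_two, haa, hbb, one_mul]
        have h1 : x = 1 := odd_two_power (k := 1) (by simpa using h2) hodd
        exact hba (by rw [hbx, h1, mul_one])
      · rw [hprod] at ho
        have hp := pow_orderOf_eq_one (u * x)
        rw [hux.mul_pow] at hp
        obtain ⟨m, hm⟩ := ho
        have hun : u ^ orderOf (u * x) = u := by rw [hm, pow_succ, pow_mul, hu2, one_pow, one_mul]
        rw [hun] at hp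
        have hx1 : x ^ (2 * orderOf (u * x)) = 1 := by
          rw [mul_comm, pow_mul, eq_inv_of_mul_eq_one_right hp, inv_pow, hu2, inv_one]
        refine odd_two_power (k := 1) (by simpa using hu2) ?_
        rw [eq_inv_of_mul_eq_one_left hp, orderOf_inv]
        exact hodd.of_dvd_nat (orderOf_pow_dvd _)
      · exact absurd h4 (hD.2 _ (hD.1.conj_mem a ha q) b hbD)
    have hqa : Commute q a := by
      have : q * a * q⁻¹ = a := by
        rw [hu] at hu1
        exact (eq_inv_of_mul_eq_one_left hu1).trans hai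
      exact mul_inv_eq_iff_eq_mul.mp this
    have hqb : Commute q b := by
      rw [hbx]; exact hqa.mul_right hcx
    exact ⟨⟨hqQ, Subgroup.mem_centralizer_singleton_iff.mpr hqa.eq⟩,
      Subgroup.mem_centralizer_singleton_iff.mpr hqb.eq⟩
  · rintro q ⟨⟨hqQ, hqa⟩, hqb⟩
    refine ⟨hqQ, Subgroup.mem_centralizer_singleton_iff.mpr ?_⟩
    have h1 : Commute q a := Subgroup.mem_centralizer_singleton_iff.mp hqa
    have h2 : Commute q b := Subgroup.mem_centralizer_singleton_iff.mp hqb
    exact (h1.mul_right h2).eq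

end Cfsg.Agent.S5049
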