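import Cfsg.Statements.S5050
import Cfsg.Agent.Lib.OddTrans74.Cfsg
-- Template for statement S5050 (row 5050; see /opt/grader/pristine/manifest.json for weights).
-- Copy to Cfsg/Agent/S5050.lean and replace the sorry. The statement below is byte-identical to the frozen
-- statement Cfsg.CfsgFrozen.S5050 (Cfsg/Statements/S5050.lean; the theorem Cfsg.odd_transpositions_centralizer_of_dihedral_pair_nonempty);
-- the grader kernel-checks Cfsg.Agent.S5050.result against that frozen type. Keep the theorem IN THIS FILE
-- (a `result` declared elsewhere and merely imported here is not credited); helpers may live anywhere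
-- under Cfsg/Agent/.
-- import your own Cfsg.Agent.* helpers here

set_option autoImplicit false
open Cfsg

namespace Cfsg.Agent.S5050

/-- Let G be a finite group generated by a class D of odd transpositions whose commuting graph is connected, with some product of two different commuting members again in D. Then for every d ∈ D and every x ∈ D with dx of odd order greater than 1, some member of D commutes with both d and x. -/
theorem result {G : Type*} [Group G] [Finite G] {D : Set G} (hD : Cfsg.IsOddTranspositionSet D) (hcl : Cfsg.IsRootInvolutionClass D)
    (hc : Cfsg.IsConnectedSet (Cfsg.CommAdj D) D) (hDD : (D ∩ Cfsg.commutingProducts D).Nonempty)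
    {d x : G} (hd : d ∈ D) (hx : x ∈ Cfsg.oddPartners D d) : ∃ e ∈ D, e * d = d * e ∧ e * x = x * e := by
  obtain ⟨e, he, hed, hex⟩ := CfsgLib.OddTrans74.exists_common (CfsgLib.OddTrans74.ot_of hD)
    (fun y hy => CfsgLib.OddTrans74.line_of hcl hDD hy) hd hx.1
    (Relation.ReflTransGen.mono (fun p q hpq => ⟨hpq.1, hpq.2.1, hpq.2.2.2⟩) _ _ (hc d hd x hx.1))
  exact ⟨e, he, hed, hex⟩

end Cfsg.Agent.S5050
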