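import Cfsg.Statements.S5052
import Cfsg.Agent.Lib.RootSz.Linear

set_option autoImplicit false
open Cfsg

namespace Cfsg.Agent.S5052

/-- Let G be a finite group with O₂(G) = 1 and trivial centre, generated by a class D of odd transpositions whose commuting graph is connected, with some product of two different commuting members again in D. Then for each d ∈ D the members of D with the same commuting members as d, together with 1, form a subgroup E(d); and for every x ∈ D with dx of odd order greater than 1, the subgroup generated by E(d) and x is isomorphic to L₂(q) where q is the order of E(d). -/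
theorem result {G : Type*} [Group G] [Finite G] {D : Set G} (hD : Cfsg.IsOddTranspositionSet D) (hcl : Cfsg.IsRootInvolutionClass D)
    (hO : Cfsg.pCore 2 G = ⊥) (hZ : Subgroup.center G = ⊥) (hDD : (D ∩ Cfsg.commutingProducts D).Nonempty)
    (hc : Cfsg.IsConnectedSet (Cfsg.CommAdj D) D) {d : G} (hd : d ∈ D) :
    (Cfsg.sameCommutingSubgroup D d : Set G) = Cfsg.sameCommutingClass D d ∪ {1} ∧
    ∀ x ∈ Cfsg.oddPartners D d, ∃ (F : Type) (_ : Field F) (_ : Fintype F),
      Fintype.card F = Nat.card ↥(Cfsg.sameCommutingSubgroup D d) ∧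
      Nonempty (↥(Subgroup.closure (Cfsg.sameCommutingClass D d ∪ {x})) ≃* Matrix.ProjectiveSpecialLinearGroup (Fin 2) F) := by
  have h : CfsgLib.RootSz.Conn D :=
    ⟨hD, ⟨CfsgLib.OddTrans74.ot_of hD, fun _ hy => CfsgLib.OddTrans74.line_of hcl hDD hy, hcl.2.2⟩,
      fun p hp q hq => Relation.ReflTransGen.mono (fun _ _ e => ⟨e.1, e.2.1, e.2.2.2⟩) _ _
        (hc p hp q hq)⟩
  unfold Cfsg.sameCommutingSubgroup
  rw [CfsgLib.RootSz.sameCommutingClass_eq hd]
  refine ⟨h.twins_closed hO hd, fun x hx => ?_⟩
  have hdx : ¬ Commute d x := fun e => hx.2.1.symm (by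
    have h2 : d * x * (d * x) = 1 :=
      CfsgLib.OddTrans74.mul_self_of_commute (h.cls.ot.mul_self d hd) (h.cls.ot.mul_self x hx.1) e
    have h3 := CfsgLib.OddTrans74.eq_one_of_odd hx.2.2 h2
    rw [eq_inv_of_mul_eq_one_left h3, h.cls.ot.inv_eq hx.1])
  rw [← CfsgLib.RootSz.pairGrp_eq hd]
  exact CfsgLib.RootSz.pair_linear h hd hx.1 hdx hO

end Cfsg.Agent.S5052
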