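import Cfsg.Statements.S5055
import Cfsg.Agent.Lib.RootStructure74Main

set_option autoImplicit false
open Cfsg

namespace Cfsg.Agent.S5055

section
open CfsgLib.Involutions CfsgLib.RootInvolutions CfsgLib.RootStructure74
open scoped commutatorElement

variable {G : Type*} [Group G] [Finite G] {D : Set G} {d : G}

theorem isPGroup_W (hD : Cfsg.IsRootInvolutionSet D) :
    IsPGroup 2 (Subgroup.closure {w | IsW D d w}) := by
  haveI : Fact (Nat.Prime 2) := ⟨Nat.prime_two⟩
  set N := Subgroup.closure {w | IsW D d w} with hN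
  have hNd : ∀ g ∈ N, Commute g d := by
    intro g hg
    induction hg using Subgroup.closure_induction with
    | mem x hx => exact hx.comm
    | one => exact Commute.one_left d
    | mul p q _ _ hp hq => exact hp.mul_left hq
    | inv p _ hp => exact hp.inv_left
  let T' : Set N := {x | IsW D d (x : G)}
  have hp' : IsPGroup 2 (Subgroup.closure T') := by
    refine isPGroup_closure_of_pairwise (fun g x hx => ?_) fun a ha b hb => ?_
    · show IsW D d ((g * x * g⁻¹ : N) : G)
      push_cast
      exact hx.conj hD (hNd g g.2)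
    have hco : ∀ x : N, orderOf (x : G) = 2 → orderOf x = 2 := fun x hx => by
      rwa [Subgroup.orderOf_coe] at hx
    have h4 : ((a : G) * b) ^ (2 ^ 2) = 1 := by
      by_cases hab : (b : G) = a
      · rw [hab, root_mul_self hD ha.memD, one_pow]
      · exact not_odd_pow_four hD ha.memD hb.memD (ha.nonodd hb.memD hb.comm hab)
    obtain ⟨k, -, hk⟩ := (Nat.dvd_prime_pow Nat.prime_two).mp (orderOf_dvd_of_pow_eq_one h4)
    rw [← Subgroup.coe_mul, Subgroup.orderOf_coe] at hk
    exact isPGroup_two_closure_pair (hco a (hD.orderOf_eq _ ha.memD))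
      (hco b (hD.orderOf_eq _ hb.memD)) hk
  have htop : Subgroup.closure T' = ⊤ := by
    refine Subgroup.map_injective N.subtype_injective ?_
    rw [MonoidHom.map_closure, ← MonoidHom.range_eq_map, Subgroup.range_subtype]
    refine congrArg Subgroup.closure (Set.ext fun x => ⟨?_, fun hx => ?_⟩)
    · rintro ⟨x, hx, rfl⟩; exact hx
    · exact ⟨⟨x, Subgroup.subset_closure hx⟩, hx, rfl⟩
  rw [htop] at hp'
  exact hp'.of_equiv Subgroup.topEquiv

theorem mem_W_of_mem (hD : Cfsg.IsRootInvolutionSet D) {y : G} (hy : y ∈ D)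
    (hyN : y ∈ Subgroup.closure {w | IsW D d w}) : IsW D d y := by
  set N := Subgroup.closure {w | IsW D d w} with hN
  have hyd : Commute y d := by
    clear hy
    induction hyN using Subgroup.closure_induction with
    | mem x hx => exact hx.comm
    | one => exact Commute.one_left d
    | mul p q _ _ hp hq => exact hp.mul_left hq
    | inv p _ hp => exact hp.inv_left
  refine ⟨hy, hyd, fun {p} hp hpd hne ho => hne ?_⟩
  have hconj : p * y * p⁻¹ ∈ N := by
    have h : (Subgroup.closure {w | IsW D d w}).map (MulAut.conj p).toMonoidHom ≤ N := by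
      rw [map_conj_closure, hN, Subgroup.closure_le]
      rintro _ ⟨w, hw, rfl⟩
      exact Subgroup.subset_closure (hw.conj hD hpd)
    exact h (Subgroup.mem_map_of_mem _ hyN)
  rw [root_inv hD hp] at hconj
  have hmem : (y * p) ^ 2 ∈ N := by
    rw [pow_two, show y * p * (y * p) = y * (p * y * p) by group]
    exact mul_mem hyN hconj
  haveI : Fact (Nat.Prime 2) := ⟨Nat.prime_two⟩
  obtain ⟨k, hk⟩ := IsPGroup.iff_orderOf.mp (isPGroup_W (d := d) hD) ⟨_, hmem⟩
  rw [Subgroup.orderOf_mk] at hk
  have h1 : Odd (orderOf ((y * p) ^ 2)) := ho.of_dvd_nat (orderOf_pow_dvd _)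
  have h2 : (y * p) ^ 2 = 1 := by
    rw [← orderOf_eq_one_iff, hk]
    rcases k with _ | k
    · rfl
    · rw [hk] at h1
      exact absurd h1 (Nat.not_odd_iff_even.mpr ⟨2 ^ k, by ring⟩)
  refine eq_of_mul_eq_one hD hy (odd_four ?_ ho)
  rw [show (4 : ℕ) = 2 * 2 from rfl, pow_mul, h2, one_pow]

theorem line_of_nontwin (hD : Cfsg.IsRootInvolutionSet D)
    (hc : Cfsg.IsConnectedSet (Cfsg.OddAdj D) D)
    (hE : (Cfsg.sameCommutingSubgroup D d : Set G) = Cfsg.sameCommutingClass D d ∪ {1})
    (hd : d ∈ D) (hgood : ∀ x, IsW D d x → Good D d x) {w : G} (hw : IsW D d w)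
    (hwE : w ∉ Cfsg.sameCommutingClass D d) :
    w * d ∈ D ∧ ∃ t, IsW D d t ∧ ¬ Commute w t := by
  have hwD := hw.memD
  have hww := root_mul_self hD hwD
  obtain ⟨x, hx, hxd⟩ := Set.not_subset.mp fun h =>
    hwE ⟨hwD, (twin_of_conn hD hc hwD hd h).symm⟩
  have hxdn : ¬ Commute x d := fun h => hw.nonodd hx.1 h hx.2.1 hx.2.2
  have hxd4 : orderOf (x * d) = 4 := four_of hD hx.1 hd hxdn fun ho =>
    hxd ⟨hx.1, fun e => hxdn (e ▸ Commute.refl d), odd_symm hD hx.1 hd ho⟩
  have hxx := root_mul_self hD hx.1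
  let K := Cfsg.sameCommutingSubgroup D d
  let τ : G → G := fun e => e * (x * e * x)
  let ψ : G → G := fun e => τ e * (w * τ e * w)
  have hKK : ∀ f ∈ K, f * f = 1 := fun f hf => by
    by_cases h : f = 1
    · rw [h, one_mul]
    · exact root_mul_self hD (K_cases hE hf h).1
  have hτ1 : τ 1 = 1 := by show 1 * (x * 1 * x) = 1; rw [one_mul, mul_one, hxx]
  have hτ : ∀ f ∈ Cfsg.sameCommutingClass D d, τ f ∈ Xs D d ∧ x * τ f ∈ D ∧ Commute (τ f) x := by
    intro f hf
    have h4 := four_twin hD hc hd hx.1 hf hxd4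
    obtain ⟨hgD, hgx, hgf, e1, -, hxgD, hfgD, -⟩ := four_cj hD hx.1 hf.1 h4 rfl
    have he : τ f = (x * f) ^ 2 := by
      show f * (x * f * x) = _
      rw [e1, ← mul_assoc, root_mul_self hD hf.1, one_mul]
    rw [he]
    exact ⟨⟨f, hf, ⟨⟨hgD, hgf.eq, (line_ne hD hf.1 hfgD).symm⟩, by rw [hgf.eq]; exact hfgD⟩⟩,
      hxgD, hgx⟩
  have hτK : ∀ f ∈ K, ∀ k ∈ K, Commute (τ f) k := by
    intro f hf k hk
    by_cases h : f = 1
    · rw [h, hτ1]; exact Commute.one_left k
    · exact (Xs.subset hD (hτ f (K_cases hE hf h)).1).comm_K hk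
  have hxf : ∀ f ∈ K, x * f * x = f * τ f := fun f hf => by
    show x * f * x = f * (f * (x * f * x))
    rw [← mul_assoc f f, hKK f hf, one_mul]
  have hτmul : ∀ f ∈ K, ∀ k ∈ K, τ (f * k) = τ f * τ k := fun f hf k hk => by
    show f * k * (x * (f * k) * x) = f * (x * f * x) * (k * (x * k * x))
    have h : Commute k (x * f * x) := by
      rw [hxf f hf]; exact (K_comm hD hk hf).mul_right (hτK f hf k hk).symm
    rw [cj_mul hxx, show f * k * (x * f * x * (x * k * x)) = f * (k * (x * f * x)) * (x * k * x) by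
      group, h.eq]
    group
  have hψ : ∀ f ∈ K, ψ f ∈ K ∧ w * τ f * w = τ f * ψ f := by
    intro f hf
    by_cases h : f = 1
    · refine ⟨?_, ?_⟩
      · show τ f * (w * τ f * w) ∈ K
        rw [h, hτ1, one_mul, mul_one, hww]; exact one_mem _
      · show _ = τ f * (τ f * (w * τ f * w))
        rw [h, hτ1, one_mul, one_mul]
    have hX := (hτ f (K_cases hE hf h)).1
    have hW := Xs.subset hD hX
    have hgg := root_mul_self hD hW.memD
    refine ⟨?_, by show _ = τ f * (τ f * (w * τ f * w)); rw [← mul_assoc (τ f) (τ f), hgg, one_mul]⟩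
    show τ f * (w * τ f * w) ∈ K
    by_cases hcz : Commute w (τ f)
    · rw [cj_fix hww hcz, hgg]; exact one_mem _
    · have h4 := hw.four hD hW.memD hW.comm hcz
      obtain ⟨-, -, -, e1, -, -, -, -⟩ := four_cj hD hwD hW.memD h4 rfl
      rw [e1, ← mul_assoc, hgg, one_mul]
      exact mem_K (hgood w hw _ hX h4)
  have hmul : ∀ f ∈ K, ∀ k ∈ K, ψ (f * k) = ψ f * ψ k := by
    intro f hf k hk
    have h1 : w * τ (f * k) * w = τ (f * k) * (ψ f * ψ k) := by
      rw [hτmul f hf k hk, cj_mul_of hww (hψ f hf).2 (hψ k hk).2]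
      calc τ f * ψ f * (τ k * ψ k) = τ f * (ψ f * τ k) * ψ k := by group
        _ = τ f * (τ k * ψ f) * ψ k := by rw [(hτK k hk _ (hψ f hf).1).symm.eq]
        _ = _ := by group
    exact mul_left_cancel ((hψ _ (mul_mem hf hk)).2.symm.trans h1)
  have hker : ∀ f ∈ K, ψ f = 1 → f = 1 := by
    intro f hf h1
    by_contra h
    obtain ⟨hX, hxτ, hτx⟩ := hτ f (K_cases hE hf h)
    have hW := Xs.subset hD hX
    have hcw : Commute w (τ f) := commute_of_fix hww (by rw [(hψ f hf).2, h1, mul_one])
    exact common_commuting hD hx.1 hW.memD hwD hτx.symm.eq (by rw [hτx.eq]; exact hxτ) hcw.symm.eq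
      hx.2.1 (odd_symm hD hwD hx.1 hx.2.2)
  let ψK : K → K := fun f => ⟨ψ f, (hψ f f.2).1⟩
  have hinj : Function.Injective ψK := by
    intro f k h
    have h' : ψ f = ψ k := congrArg Subtype.val h
    have h1 : (f : G) * k = 1 := hker _ (mul_mem f.2 k.2) (by
      rw [hmul f f.2 k k.2, h', hKK _ (hψ k k.2).1])
    refine Subtype.ext ?_
    rw [eq_inv_of_mul_eq_one_left h1]
    exact inv_eq_of_mul_eq_one_right (hKK k k.2)
  obtain ⟨⟨f, hf⟩, hfd⟩ := Finite.injective_iff_surjective.mp hinj ⟨d, mem_K (self_mem_E hd)⟩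
  have hfd' : ψ f = d := congrArg Subtype.val hfd
  have hd1 := ne_one_of_involution (hD.orderOf_eq d hd)
  have hf1 : f ≠ 1 := fun h => hd1 (by
    rw [← hfd', h]; show τ 1 * (w * τ 1 * w) = 1; rw [hτ1, one_mul, mul_one, hww])
  have hW := Xs.subset hD (hτ f (K_cases hE hf hf1)).1
  have h1 := (hψ f hf).2
  rw [hfd'] at h1
  have hn : ¬ Commute w (τ f) := fun h => hd1 (by
    rw [cj_fix hww h] at h1
    exact mul_eq_left.mp h1.symm)
  refine ⟨?_, τ f, hW, hn⟩
  obtain ⟨-, -, -, e1, -, hwc, -, -⟩ := four_cj hD hwD hW.memD (hw.four hD hW.memD hW.comm hn) rfl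
  rw [h1] at e1
  rwa [← mul_left_cancel e1] at hwc

theorem structure_aux (hnd : Cfsg.IsNondegenerateRootInvolutionSet D)
    (hcl : Cfsg.IsRootInvolutionClass D)
    (hE : (Cfsg.sameCommutingSubgroup D d : Set G) = Cfsg.sameCommutingClass D d ∪ {1})
    (hd : d ∈ D) :
    {w | Cfsg.IsIsolatedElem (Cfsg.OddAdj (Cfsg.commutingMembers D d)) (Cfsg.commutingMembers D d) w}
      = Cfsg.productPartners D d ∪ {d} ∧
    D ∩ (Subgroup.closure (Cfsg.productPartners D d ∪ {d}) : Set G) = Cfsg.productPartners D d ∪ {d} ∧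
    ⁅Subgroup.closure (Cfsg.productPartners D d ∪ {d}), Subgroup.closure (Cfsg.productPartners D d ∪ {d})⁆ =
      Cfsg.sameCommutingSubgroup D d ∧
    Cfsg.sameCommutingClass D d = {e | e ∈ D ∧ e ∈ Subgroup.closure (Cfsg.productPartners D d ∪ {d}) ∧
      ∀ y ∈ Subgroup.closure (Cfsg.productPartners D d ∪ {d}), e * y = y * e} := by
  have hD := hnd.1
  have hc := CfsgLib.RootConnect.oddConnected hnd hcl
  set N := Subgroup.closure {w | IsW D d w} with hN
  haveI : Fact (Nat.Prime 2) := ⟨Nat.prime_two⟩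
  have hnil : Group.IsNilpotent N := (isPGroup_W hD).isNilpotent
  have hgood : ∀ x, IsW D d x → Good D d x := fun x hx =>
    square_twin hD hc hE hd (fun w hw => Subgroup.subset_closure hw) hnil hx
  have hX : Cfsg.productPartners D d ∪ {d} = {w | IsW D d w} := by
    ext w
    constructor
    · rintro (hw | hw)
      · exact Xs.subset hD ⟨d, self_mem_E hd, hw⟩
      · rw [Set.mem_singleton_iff.mp hw]; exact self_isW hD hd
    · intro hw
      by_cases hwd : w = d
      · exact Or.inr hwd
      refine Or.inl ⟨⟨hw.memD, hw.comm, hwd⟩, ?_⟩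
      by_cases hwE : w ∈ Cfsg.sameCommutingClass D d
      · refine (K_cases hE (mul_mem (mem_K hwE) (mem_K (self_mem_E hd))) fun h => hwd ?_).1
        exact (eq_of_mul_eq_one hD hw.memD h).symm
      · exact (line_of_nontwin hD hc hE hd hgood hw hwE).1
  have hdN : ∀ y ∈ D, y ∈ N → IsW D d y := fun y hy hyN => mem_W_of_mem hD hy hyN
  rw [hX]
  refine ⟨Set.ext fun w => isW_iff hD, ?_, le_antisymm ?_ ?_, ?_⟩
  · ext y
    exact ⟨fun h => hdN y h.1 h.2, fun h => ⟨h.memD, Subgroup.subset_closure h⟩⟩
  · have hK : ∀ g ∈ N, ∀ k ∈ Cfsg.sameCommutingSubgroup D d, Commute g k := by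
      intro g hg k hk
      induction hg using Subgroup.closure_induction with
      | mem x hx => exact hx.comm_K hk
      | one => exact Commute.one_left k
      | mul p q _ _ hp hq => exact hp.mul_left hq
      | inv p _ hp => exact hp.inv_left
    have hgen : ∀ a, IsW D d a → ∀ b, IsW D d b → ⁅a, b⁆ ∈ Cfsg.sameCommutingSubgroup D d := by
      intro a ha b hb
      by_cases hab : Commute a b
      · rw [commutatorElement_eq_one_iff_commute.mpr hab]; exact one_mem _
      have hbX : b ∈ Xs D d := by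
        have h : b ∈ Cfsg.productPartners D d ∪ {d} := hX ▸ hb
        rcases h with h | h
        · exact ⟨d, self_mem_E hd, h⟩
        · exact absurd (Set.mem_singleton_iff.mp h ▸ ha.comm) hab
      have e : ⁅a, b⁆ = (a * b) ^ 2 := by
        rw [commutatorElement_def, root_inv hD ha.memD, root_inv hD hb.memD, pow_two]; group
      rw [e]
      exact mem_K (hgood a ha b hbX (ha.four hD hb.memD hb.comm hab))
    have h1 : ∀ g ∈ N, ∀ b, IsW D d b → ⁅g, b⁆ ∈ Cfsg.sameCommutingSubgroup D d := by
      intro g hg b hb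
      induction hg using Subgroup.closure_induction'' with
      | mem x hx => exact hgen x hx b hb
      | inv_mem x hx => rw [root_inv hD (IsW.memD hx)]; exact hgen x hx b hb
      | one => rw [commutatorElement_one_left]; exact one_mem _
      | mul p q hp _ ihp ihq =>
        have e : ⁅p * q, b⁆ = p * ⁅q, b⁆ * p⁻¹ * ⁅p, b⁆ := by
          simp only [commutatorElement_def]; group
        rw [e, (hK p hp _ ihq).eq, mul_inv_cancel_right]
        exact mul_mem ihq ihp
    refine Subgroup.commutator_le.mpr fun g hg k hk => ?_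
    induction hk using Subgroup.closure_induction'' with
    | mem x hx => exact h1 g hg x hx
    | inv_mem x hx => rw [root_inv hD (IsW.memD hx)]; exact h1 g hg x hx
    | one => rw [commutatorElement_one_right]; exact one_mem _
    | mul p q hp _ ihp ihq =>
      have e : ⁅g, p * q⁆ = ⁅g, p⁆ * (p * ⁅g, q⁆ * p⁻¹) := by
        simp only [commutatorElement_def]; group
      rw [e, (hK p hp _ ihq).eq, mul_inv_cancel_right]
      exact mul_mem ihp ihq
  · refine (Subgroup.closure_le _).mpr fun e he => ?_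
    obtain ⟨a0, ha0, b0, hb0, h40⟩ := hnd.2.2.2
    obtain ⟨g, hg⟩ := hcl.2.2 _ (four_cj hD ha0 hb0 h40 rfl).1 e he.1
    have haD := hD.conj_mem a0 ha0 g
    have hbD := hD.conj_mem b0 hb0 g
    have hab : g * a0 * g⁻¹ * (g * b0 * g⁻¹) = g * (a0 * b0) * g⁻¹ := by group
    have h4 : orderOf (g * a0 * g⁻¹ * (g * b0 * g⁻¹)) = 4 := by rw [hab, orderOf_conj_eq, h40]
    have hsq : (g * a0 * g⁻¹ * (g * b0 * g⁻¹)) ^ 2 = e := by rw [hab, conj_pow, hg]
    obtain ⟨heD, hea, heb, -, -, haeD, hbeD, -⟩ := four_cj hD haD hbD h4 hsq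
    have haW := Xs.subset hD (show _ ∈ Xs D d from
      ⟨e, he, ⟨⟨haD, hea.symm.eq, line_ne hD haD haeD⟩, haeD⟩⟩)
    have hbW := Xs.subset hD (show _ ∈ Xs D d from
      ⟨e, he, ⟨⟨hbD, heb.symm.eq, line_ne hD hbD hbeD⟩, hbeD⟩⟩)
    have e' : ⁅g * a0 * g⁻¹, g * b0 * g⁻¹⁆ = e := by
      rw [← hsq, commutatorElement_def, root_inv hD haD, root_inv hD hbD, pow_two]; group
    rw [SetLike.mem_coe, ← e']
    exact Subgroup.commutator_mem_commutator (Subgroup.subset_closure haW)
      (Subgroup.subset_closure hbW)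
  · ext e
    constructor
    · intro he
      refine ⟨he.1, Subgroup.subset_closure (twin_isW hD he), fun y hy => ?_⟩
      refine Commute.eq ?_
      induction hy using Subgroup.closure_induction with
      | mem x hx => exact (IsW.comm_twin hx he).symm
      | one => exact Commute.one_right e
      | mul p q _ _ hp hq => exact hp.mul_right hq
      | inv p _ hp => exact hp.inv_right
    · rintro ⟨heD, heN, hcen⟩
      by_contra hne
      obtain ⟨-, t, ht, hn⟩ := line_of_nontwin hD hc hE hd hgood (hdN e heD heN) hne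
      exact hn (hcen t (Subgroup.subset_closure ht))

end

/-- The Root Structure Theorem for root involutions. Let G be a finite group with O₂(G) = 1 and trivial centre, generated by a non-degenerate class D of root involutions such that for every d ∈ D the members of D with the same commuting members as d, together with 1, form a subgroup E(d). For d ∈ D let M_d be the subgroup generated by d and the members e ≠ d of D commuting with d with ed ∈ D, let W_d be the set of members of D commuting with d that have no partner with product of odd order among the members commuting with d, and let N_d be the subgroup generated by W_d. Then N_d = M_d; the members of D in N_d are d and the e just described; the commutator subgroup of N_d is E(d); and the members of D central in N_d are exactly those with the same commuting members as d. -/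
theorem result {G : Type*} [Group G] [Finite G] {D : Set G} (hD : Cfsg.IsNondegenerateRootInvolutionSet D)
    (hcl : Cfsg.IsRootInvolutionClass D) (hO : Cfsg.pCore 2 G = ⊥) (hZ : Subgroup.center G = ⊥)
    (hE : ∀ d ∈ D, (Cfsg.sameCommutingSubgroup D d : Set G) = Cfsg.sameCommutingClass D d ∪ {1}) {d : G} (hd : d ∈ D) :
    Subgroup.closure {w | Cfsg.IsIsolatedElem (Cfsg.OddAdj (Cfsg.commutingMembers D d)) (Cfsg.commutingMembers D d) w} =
      Subgroup.closure (Cfsg.productPartners D d ∪ {d}) ∧
    D ∩ (Subgroup.closure (Cfsg.productPartners D d ∪ {d}) : Set G) = Cfsg.productPartners D d ∪ {d} ∧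
    ⁅Subgroup.closure (Cfsg.productPartners D d ∪ {d}), Subgroup.closure (Cfsg.productPartners D d ∪ {d})⁆ =
      Cfsg.sameCommutingSubgroup D d ∧
    Cfsg.sameCommutingClass D d = {e | e ∈ D ∧ e ∈ Subgroup.closure (Cfsg.productPartners D d ∪ {d}) ∧
      ∀ y ∈ Subgroup.closure (Cfsg.productPartners D d ∪ {d}), e * y = y * e} := by
  obtain ⟨h1, h2⟩ := structure_aux hD hcl (hE d hd) hd
  exact ⟨congrArg Subgroup.closure h1, h2⟩

end Cfsg.Agent.S5055
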