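import Cfsg.Statements.S5057

set_option autoImplicit false
open Cfsg

namespace Cfsg.Agent.S5057

section
open Equiv Equiv.Perm

abbrev a0p : Equiv.Perm (Fin 6) := Equiv.swap 0 1 * Equiv.swap 2 3

theorem a0p_mem : a0p ∈ alternatingGroup (Fin 6) := by
  rw [mem_alternatingGroup, map_mul, sign_swap (by decide), sign_swap (by decide)]; rfl

abbrev a0 : ↥(alternatingGroup (Fin 6)) := ⟨a0p, a0p_mem⟩

theorem inv_iff (g : ↥(alternatingGroup (Fin 6))) : orderOf g = 2 ↔ ∃ h : ↥(alternatingGroup (Fin 6)), h * a0 * h⁻¹ = g := by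
  constructor
  · intro hg
    have hp : orderOf (g : Equiv.Perm (Fin 6)) = 2 := by rw [Subgroup.orderOf_coe]; exact hg
    obtain ⟨n, hn⟩ := cycleType_prime_order (σ := (g : Equiv.Perm (Fin 6))) (by rw [hp]; exact Nat.prime_two)
    rw [hp] at hn
    have hsum : (g : Equiv.Perm (Fin 6)).cycleType.sum ≤ 6 :=
      (sum_cycleType _).le.trans (by simpa using Finset.card_le_univ (g : Equiv.Perm (Fin 6)).support)
    have hsign : sign (g : Equiv.Perm (Fin 6)) = 1 := mem_alternatingGroup.mp g.2
    rw [sign_of_cycleType, hn, Multiset.sum_replicate, Multiset.card_replicate] at hsign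
    rw [hn, Multiset.sum_replicate, smul_eq_mul] at hsum
    have hn1 : n = 1 := by
      have hle : n ≤ 2 := by omega
      interval_cases n <;> simp_all (config := { decide := true })
    subst hn1
    have ha0 : a0p.cycleType = Multiset.replicate 2 2 := by
      have hd : Equiv.Perm.Disjoint (Equiv.swap (0 : Fin 6) 1) (Equiv.swap 2 3) := by
        intro x; revert x; decide
      show Equiv.Perm.cycleType (Equiv.swap (0 : Fin 6) 1 * Equiv.swap 2 3) = _
      rw [hd.cycleType_mul, (isCycle_swap (x := (0 : Fin 6)) (y := 1) (by decide)).cycleType,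
        (isCycle_swap (x := (2 : Fin 6)) (y := 3) (by decide)).cycleType,
        card_support_swap (by decide), card_support_swap (by decide)]
      rfl
    obtain ⟨h, hh⟩ := isConj_iff.mp (isConj_iff_cycleType_eq.mpr (ha0.trans hn.symm))
    rcases Int.units_eq_one_or (sign h) with hs | hs
    · exact ⟨⟨h, mem_alternatingGroup.mpr hs⟩, Subtype.ext hh⟩
    · refine ⟨⟨h * Equiv.swap 0 1, mem_alternatingGroup.mpr ?_⟩, Subtype.ext ?_⟩
      · rw [map_mul, hs, sign_swap (by decide)]; rfl
      · show h * Equiv.swap 0 1 * a0p * (h * Equiv.swap 0 1)⁻¹ = (g : Equiv.Perm (Fin 6))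
        have hc : Equiv.swap (0 : Fin 6) 1 * a0p * (Equiv.swap 0 1)⁻¹ = a0p := by decide
        rw [← hh]
        conv_rhs => rw [← hc]
        group
  · rintro ⟨h, rfl⟩
    have he : orderOf (h * a0 * h⁻¹) = orderOf a0 :=
      orderOf_injective (MulAut.conj h).toMonoidHom (MulAut.conj h).injective a0
    rw [he]
    refine orderOf_eq_prime ?_ ?_
    · exact Subtype.ext (by decide)
    · intro e
      have := congrArg Subtype.val e
      revert this
      decide

theorem swap_pairs (i j k l : Fin 6) : i ≠ j → k ≠ l → i ≠ k → i ≠ l → j ≠ k → j ≠ l →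
    let x := a0p * (Equiv.swap i j * Equiv.swap k l)
    (x ^ 2 = 1) ∨ (x ^ 3 = 1) ∨ (x ^ 5 = 1) ∨ (x ^ 4 = 1 ∧ x ^ 2 ≠ 1) := by
  revert i j k l
  decide +kernel

theorem pair_cases (a b : ↥(alternatingGroup (Fin 6))) (ha : orderOf a = 2) (hb : orderOf b = 2) :
    (a * b) ^ 2 = 1 ∨ (a * b) ^ 3 = 1 ∨ (a * b) ^ 5 = 1 ∨ ((a * b) ^ 4 = 1 ∧ (a * b) ^ 2 ≠ 1) := by
  obtain ⟨h, rfl⟩ := (inv_iff a).mp ha
  have hb' : orderOf (h⁻¹ * b * h) = 2 := by
    rw [← hb]
    simpa using orderOf_injective (MulAut.conj h⁻¹).toMonoidHom (MulAut.conj h⁻¹).injective b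
  obtain ⟨g, hg⟩ := (inv_iff _).mp hb'
  have key : h * a0 * h⁻¹ * b = h * (a0 * (g * a0 * g⁻¹)) * h⁻¹ := by rw [hg]; group
  set p : Equiv.Perm (Fin 6) := (g : Equiv.Perm (Fin 6)) with hp
  have hconj : ((g * a0 * g⁻¹ : ↥(alternatingGroup (Fin 6))) : Equiv.Perm (Fin 6)) =
      Equiv.swap (p 0) (p 1) * Equiv.swap (p 2) (p 3) := by
    show p * (Equiv.swap 0 1 * Equiv.swap 2 3) * p⁻¹ = _
    rw [Equiv.swap_apply_apply, Equiv.swap_apply_apply]
    group
  have hsp := swap_pairs (p 0) (p 1) (p 2) (p 3) (p.injective.ne (by decide))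
    (p.injective.ne (by decide)) (p.injective.ne (by decide)) (p.injective.ne (by decide))
    (p.injective.ne (by decide)) (p.injective.ne (by decide))
  dsimp only at hsp
  rw [← hconj] at hsp
  have hco : ∀ n : ℕ, ((a0p * ((g * a0 * g⁻¹ : ↥(alternatingGroup (Fin 6))) : Equiv.Perm (Fin 6))) ^ n = 1) ↔
      (h * a0 * h⁻¹ * b) ^ n = 1 := fun n => by
    rw [key, conj_pow, conj_eq_one_iff, Subtype.ext_iff, Subgroup.coe_pow, Subgroup.coe_mul]
    rfl
  rwa [hco, hco, hco, hco, Ne, hco] at hsp

end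

/-- The involutions of the alternating group of degree 6 form a class of root involutions (a single conjugacy class of involutions generating the group, any two of which commute, have product of odd order, or have product of order 4 whose square is again an involution of the class), and the product of any two of them has order at most 5. -/
theorem result :
    Cfsg.IsRootInvolutionClass {g : ↥(alternatingGroup (Fin 6)) | orderOf g = 2} ∧
    ∀ d ∈ {g : ↥(alternatingGroup (Fin 6)) | orderOf g = 2}, ∀ e ∈ {g : ↥(alternatingGroup (Fin 6)) | orderOf g = 2},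
      orderOf (d * e) ≤ 5 := by
  haveI := alternatingGroup.isSimpleGroup (α := Fin 6) (by simp)
  have hmem : a0 ∈ {g : ↥(alternatingGroup (Fin 6)) | orderOf g = 2} :=
    (inv_iff a0).mpr ⟨1, by simp⟩
  have hconj : ∀ d : ↥(alternatingGroup (Fin 6)), orderOf d = 2 → ∀ g : ↥(alternatingGroup (Fin 6)),
      orderOf (g * d * g⁻¹) = 2 := fun d hd g => by
    rw [← hd]
    exact orderOf_injective (MulAut.conj g).toMonoidHom (MulAut.conj g).injective d
  refine ⟨⟨⟨fun d hd => hd, ?_, hconj, ?_⟩, ⟨a0, hmem⟩, ?_⟩, ?_⟩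
  · have hn : (Subgroup.closure {g : ↥(alternatingGroup (Fin 6)) | orderOf g = 2}).Normal := by
      refine ⟨fun x hx g => ?_⟩
      have hle : Subgroup.closure {g : ↥(alternatingGroup (Fin 6)) | orderOf g = 2} ≤
          (Subgroup.closure {g : ↥(alternatingGroup (Fin 6)) | orderOf g = 2}).comap
            (MulAut.conj g).toMonoidHom :=
        (Subgroup.closure_le _).mpr fun y hy => Subgroup.subset_closure (hconj y hy g)
      exact hle hx
    refine hn.eq_bot_or_eq_top.resolve_left fun h => ?_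
    have h1 : a0 = 1 := Subgroup.mem_bot.mp (h ▸ Subgroup.subset_closure hmem)
    have := hmem.symm.trans (by rw [h1, orderOf_one] : orderOf a0 = 1)
    omega
  · intro a ha b hb
    rcases pair_cases a b ha hb with h | h | h | ⟨h4, h2⟩
    · left
      have ha2 : a * a = 1 := by rw [← pow_two, ← ha, pow_orderOf_eq_one]
      have hb2 : b * b = 1 := by rw [← pow_two, ← hb, pow_orderOf_eq_one]
      have hab : (a * b)⁻¹ = b * a := by
        rw [mul_inv_rev, inv_eq_of_mul_eq_one_right ha2, inv_eq_of_mul_eq_one_right hb2]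
      rw [← hab]
      exact (inv_eq_of_mul_eq_one_right (by rwa [← pow_two])).symm
    · refine Or.inr (Or.inl ?_)
      rcases (Nat.dvd_prime Nat.prime_three).mp (orderOf_dvd_of_pow_eq_one h) with e | e <;>
        rw [e] <;> decide
    · refine Or.inr (Or.inl ?_)
      rcases (Nat.dvd_prime (by norm_num)).mp (orderOf_dvd_of_pow_eq_one h) with e | e <;>
        rw [e] <;> decide
    · refine Or.inr (Or.inr ⟨?_, orderOf_eq_prime ?_ h2⟩)
      · exact orderOf_eq_prime_pow (p := 2) (n := 1) (by simpa using h2) (by simpa using h4)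
      · rw [← pow_mul]; exact h4
  · intro a ha b hb
    obtain ⟨g, rfl⟩ := (inv_iff a).mp ha
    obtain ⟨h, rfl⟩ := (inv_iff b).mp hb
    exact ⟨h * g⁻¹, by group⟩
  · intro d hd e he
    rcases pair_cases d e hd he with h | h | h | ⟨h, -⟩
    · exact (Nat.le_of_dvd (by norm_num) (orderOf_dvd_of_pow_eq_one h)).trans (by norm_num)
    · exact (Nat.le_of_dvd (by norm_num) (orderOf_dvd_of_pow_eq_one h)).trans (by norm_num)
    · exact Nat.le_of_dvd (by norm_num) (orderOf_dvd_of_pow_eq_one h)
    · exact (Nat.le_of_dvd (by norm_num) (orderOf_dvd_of_pow_eq_one h)).trans (by norm_num)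

end Cfsg.Agent.S5057
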