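import Cfsg.Statements.S5058
import Cfsg.Agent.Lib.RootGroups.SLRoot

set_option autoImplicit false
open Matrix
open Cfsg

namespace Cfsg.Agent.S5058

open Matrix CfsgLib.RootGroups CfsgLib.RootGroups.SLRoot CfsgLib.RootGroups.Steinberg

variable {F : Type*} [Field F] {n : ℕ}

/-- The family. -/
def fam (F : Type*) [Field F] (n : ℕ) : Set (Matrix.SpecialLinearGroup (Fin (n + 3)) F) :=
  {t | ∃ c : F, c ≠ 0 ∧
    ∃ g : Matrix.SpecialLinearGroup (Fin (n + 3)) F, ((g⁻¹ * t * g : Matrix.SpecialLinearGroup (Fin (n + 3)) F) :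
      Matrix (Fin (n + 3)) (Fin (n + 3)) F) = Matrix.transvection 0 1 c}

theorem mem_fam {t : Matrix.SpecialLinearGroup (Fin (n + 3)) F} :
    t ∈ fam F n ↔ ∃ p f, f ⬝ᵥ p = 0 ∧ p ≠ 0 ∧ f ≠ 0 ∧ t = tv p f 1 := by
  have h01 : (0 : Fin (n + 3)) ≠ 1 := by simp
  constructor
  · rintro ⟨c, hc, g, hg⟩
    have e : g⁻¹ * t * g = tv (Pi.single 0 1) (Pi.single 1 1) c := slExt (hg.trans (tv_single h01 c).symm)
    have e' : t = g * tv (Pi.single 0 1) (Pi.single 1 1) c * g⁻¹ := by rw [← e]; group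
    have hi : (g⁻¹).1 * g.1 = 1 := (coe_mul' _ _).symm.trans (by rw [inv_mul_cancel]; rfl)
    rw [conj_tv g (single_dot h01), ← one_mul c, ← tv_smul_left _ _ hc] at e'
    refine ⟨_, _, ?_, ?_, ?_, e'⟩
    · rw [dotProduct_smul, dotProduct_mulVec, vecMul_vecMul, hi, vecMul_one, single_dot h01, smul_zero]
    · rw [smul_ne_zero_iff]
      refine ⟨hc, fun e => ?_⟩
      apply single_ne (F := F) (0 : Fin (n + 3))
      rw [← one_mulVec (Pi.single _ _), ← hi, ← mulVec_mulVec, e, mulVec_zero]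
    · intro e
      apply single_ne (F := F) (1 : Fin (n + 3))
      rw [← vecMul_one (Pi.single _ _), ← hi, ← vecMul_vecMul, e, zero_vecMul]
  · rintro ⟨p, f, hpf, hp, hf, rfl⟩
    obtain ⟨g, h1, h2⟩ := exists_sl_map hpf hp hf
    refine ⟨1, one_ne_zero, g, ?_⟩
    have e : g⁻¹ * tv p f 1 * g = tv (Pi.single 0 1) (Pi.single 1 1) 1 := by
      conv_lhs => rw [← h1, ← h2, ← conj_tv g (single_dot h01)]
      group
    rw [e]
    exact tv_single h01 1

variable [CharP F 2]

theorem tv_self_inv (p f : Fin (n + 3) → F) (c : F) : (tv p f c)⁻¹ = tv p f c := by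
  rw [tv_inv, CharTwo.neg_eq]

theorem four_case {p f q h : Fin (n + 3) → F} (hpf : f ⬝ᵥ p = 0) (hqh : h ⬝ᵥ q = 0)
    (hq : q ≠ 0) (hf : f ≠ 0) (ha : f ⬝ᵥ q = 0) (hb : h ⬝ᵥ p ≠ 0) :
    orderOf (tv p f 1 * tv q h 1) = 4 ∧ (tv p f 1 * tv q h 1) ^ 2 ∈ fam F n := by
  have e : (tv p f 1 * tv q h 1) ^ 2 = tv q f (h ⬝ᵥ p) := by
    have := tv_commutator hpf hqh ha (1 : F) 1
    rw [tv_self_inv, tv_self_inv, one_mul, one_mul, CharTwo.neg_eq] at this
    rw [← this, pow_two]
    group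
  refine ⟨orderOf_eq_prime_pow (p := 2) (n := 1) ?_ ?_, ?_⟩
  · rw [pow_one, e]
    exact fun h1 => hb (tv_eq_one ha hq hf h1)
  · rw [show (2 : ℕ) ^ (1 + 1) = 2 * 2 by norm_num, pow_mul, e, pow_two, tv_mul ha,
      CharTwo.add_self_eq_zero, tv_zero]
  · rw [e, ← one_mul (h ⬝ᵥ p), ← tv_smul_left _ _ hb]
    exact mem_fam.2 ⟨_, _, by rw [dotProduct_smul, ha, smul_zero], smul_ne_zero hb hq, hf, rfl⟩

theorem sl2_facts [Finite F] {g : SpecialLinearGroup (Fin 2) F} (ht : g.1 0 0 + g.1 1 1 ≠ 0) :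
    Odd (orderOf g) ∧ (g.1 0 0 + g.1 1 1 = 1 → g ^ 3 = 1) := by
  set t := g.1 0 0 + g.1 1 1 with htdef
  have hd := g.2
  rw [det_fin_two] at hd
  have h2 : (2 : F) = 0 := CharTwo.two_eq_zero
  have hsq : g.1 * g.1 = t • g.1 + (1 : Matrix (Fin 2) (Fin 2) F) := by
    ext i j
    fin_cases i <;> fin_cases j <;>
      simp [Matrix.mul_apply, Fin.sum_univ_two, htdef] <;>
      first | ring1 | linear_combination -hd - h2 * (1 : F) | linear_combination -hd
  have hspan : ∀ m : ℕ, ∃ x y : F, (g ^ m).1 = x • (1 : Matrix (Fin 2) (Fin 2) F) + y • g.1 := by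
    intro m
    induction m with
    | zero => exact ⟨1, 0, by simp [coe_one']⟩
    | succ m ih =>
      obtain ⟨x, y, e⟩ := ih
      refine ⟨y, x + y * t, ?_⟩
      rw [pow_succ, coe_mul', e, add_mul, smul_mul_assoc, smul_mul_assoc, one_mul, hsq, smul_add,
        smul_smul, add_smul]
      abel
  constructor
  · rw [← Nat.not_even_iff_odd]
    intro hev
    obtain ⟨m, hm⟩ := hev
    have hpos : 0 < orderOf g := orderOf_pos g
    have hne : g ^ m ≠ 1 := fun e => by
      have := Nat.le_of_dvd (by omega) (orderOf_dvd_of_pow_eq_one e)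
      omega
    apply hne
    obtain ⟨x, y, e⟩ := hspan m
    have h1 : (g ^ m).1 * (g ^ m).1 = 1 := by
      rw [← coe_mul', ← pow_add, ← hm, pow_orderOf_eq_one]; rfl
    have e2 : (g ^ m).1 * (g ^ m).1 = (x * x + y * y) • (1 : Matrix (Fin 2) (Fin 2) F) + (y * y * t) • g.1 := by
      rw [e]
      simp only [add_mul, mul_add, smul_mul_smul_comm, one_mul, mul_one, hsq, smul_add, smul_smul, add_smul]
      rw [mul_comm y x]
      have hxy : (x * y) • g.1 + (x * y) • g.1 = 0 := by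
        rw [← add_smul, CharTwo.add_self_eq_zero, zero_smul]
      linear_combination (norm := abel) hxy
    rw [e2] at h1
    have hy : y = 0 := by
      by_contra hy
      have hne' : y * y * t ≠ 0 := mul_ne_zero (mul_ne_zero hy hy) ht
      have c01 := congrFun (congrFun h1 0) 1
      have c10 := congrFun (congrFun h1 1) 0
      have c00 := congrFun (congrFun h1 0) 0
      have c11 := congrFun (congrFun h1 1) 1
      simp [hne', hy] at c01 c10 c00 c11
      have hdd : g.1 0 0 = g.1 1 1 := by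
        have := c00.trans c11.symm
        exact mul_left_cancel₀ hne' (add_left_cancel this)
      exact ht (by rw [htdef, hdd, CharTwo.add_self_eq_zero])
    subst hy
    have c00 := congrFun (congrFun h1 0) 0
    simp at c00
    have hx : x = 1 := by
      rcases mul_self_eq_one_iff.1 c00 with h | h
      · exact h
      · rw [h, CharTwo.neg_eq]
    refine slExt ?_
    rw [e, hx, coe_one']
    simp
  · intro h
    refine slExt ?_
    rw [pow_succ, pow_two, coe_mul', coe_mul', coe_one', hsq, h, one_smul, add_mul, hsq, h, one_smul,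
      one_mul]
    rw [add_comm g.1 1, add_assoc]
    have : g.1 + g.1 = 0 := by
      ext i j; simp [CharTwo.add_self_eq_zero]
    rw [this, add_zero]

theorem odd_case [Finite F] {p f q h : Fin (n + 3) → F} (hpf : f ⬝ᵥ p = 0) (hqh : h ⬝ᵥ q = 0)
    (ha : f ⬝ᵥ q ≠ 0) (hb : h ⬝ᵥ p ≠ 0) :
    Odd (orderOf (tv p f 1 * tv q h 1)) ∧
      ((f ⬝ᵥ q) * (h ⬝ᵥ p) = 1 → (tv p f 1 * tv q h 1) ^ 3 = 1) := by
  set a := f ⬝ᵥ q with hadef
  set b := h ⬝ᵥ p with hbdef
  set p' := b⁻¹ • p with hp'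
  set q' := a⁻¹ • q with hq'
  have hp1 : f ⬝ᵥ p' = 0 := by rw [hp', dotProduct_smul, hpf, smul_zero]
  have hq1 : h ⬝ᵥ q' = 0 := by rw [hq', dotProduct_smul, hqh, smul_zero]
  have ha1 : f ⬝ᵥ q' = 1 := by rw [hq', dotProduct_smul, smul_eq_mul, ← hadef, inv_mul_cancel₀ ha]
  have hb1 : h ⬝ᵥ p' = 1 := by rw [hp', dotProduct_smul, smul_eq_mul, ← hbdef, inv_mul_cancel₀ hb]
  have e1 : tv p f 1 = pairHom hp1 hq1 ha1 hb1 (upper b) := by
    rw [pairHom_upper, hp', tv_smul_left _ _ (inv_ne_zero hb), mul_inv_cancel₀ hb]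
  have e2 : tv q h 1 = pairHom hp1 hq1 ha1 hb1 (lower (-a)) := by
    rw [pairHom_lower, neg_neg, hq', tv_smul_left _ _ (inv_ne_zero ha), mul_inv_cancel₀ ha]
  set g := upper b * lower (-a)
  have htr : g.1 0 0 + g.1 1 1 = a * b := by
    have h2 : (2 : F) = 0 := CharTwo.two_eq_zero
    simp [g, upper_val, lower_val, Matrix.mul_apply, Fin.sum_univ_two]
    linear_combination h2
  obtain ⟨hodd, h3⟩ := sl2_facts (g := g) (by rw [htr]; exact mul_ne_zero ha hb)
  rw [e1, e2, ← map_mul]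
  refine ⟨?_, fun e => ?_⟩
  · rwa [orderOf_injective _ (pairHom_injective hp1 hq1 ha1 hb1)]
  · rw [← map_pow, h3 (htr.trans e), map_one]

/-- Let F be a finite field of characteristic 2 and n a natural number. Then the transvections of SL_{n+3}(F) (so in every dimension at least 3) (the conjugates of the elementary matrices 1 + c E₁₂, c ≠ 0) form a class of root involutions of SL_{n+3}(F); when F has two elements they form a class of {3,4}⁺-transpositions (every product of odd order has order 1 or 3). -/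
theorem result (F : Type*) [Field F] [Fintype F] [CharP F 2] (n : ℕ) :
    Cfsg.IsRootInvolutionClass {t : Matrix.SpecialLinearGroup (Fin (n + 3)) F | ∃ c : F, c ≠ 0 ∧
        ∃ g : Matrix.SpecialLinearGroup (Fin (n + 3)) F, ((g⁻¹ * t * g : Matrix.SpecialLinearGroup (Fin (n + 3)) F) :
          Matrix (Fin (n + 3)) (Fin (n + 3)) F) = Matrix.transvection 0 1 c} ∧
    (Fintype.card F = 2 → Cfsg.IsThreeFourPlusTranspositionSet {t : Matrix.SpecialLinearGroup (Fin (n + 3)) F | ∃ c : F, c ≠ 0 ∧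
        ∃ g : Matrix.SpecialLinearGroup (Fin (n + 3)) F, ((g⁻¹ * t * g : Matrix.SpecialLinearGroup (Fin (n + 3)) F) :
          Matrix (Fin (n + 3)) (Fin (n + 3)) F) = Matrix.transvection 0 1 c}) := by
  have h01 : (0 : Fin (n + 3)) ≠ 1 := by simp
  have hinv : ∀ t ∈ fam F n, t * t = 1 := by
    intro t ht
    obtain ⟨p, f, hpf, -, -, rfl⟩ := mem_fam.1 ht
    rw [tv_mul hpf, CharTwo.add_self_eq_zero, tv_zero]
  have trich : ∀ t ∈ fam F n, ∀ s ∈ fam F n,
      t * s = s * t ∨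
      (Odd (orderOf (t * s)) ∧ (Fintype.card F = 2 → (t * s) ^ 3 = 1)) ∨
      (orderOf (t * s) = 4 ∧ (t * s) ^ 2 ∈ fam F n) := by
    intro t ht s hs
    have hst : t * s = (s * t)⁻¹ := by
      rw [_root_.mul_inv_rev, inv_eq_of_mul_eq_one_right (hinv t ht),
        inv_eq_of_mul_eq_one_right (hinv s hs)]
    obtain ⟨p, f, hpf, hp, hf, rfl⟩ := mem_fam.1 ht
    obtain ⟨q, h, hqh, hq, hh, rfl⟩ := mem_fam.1 hs
    by_cases ha : f ⬝ᵥ q = 0 <;> by_cases hb : h ⬝ᵥ p = 0
    · exact Or.inl (tv_comm hpf hqh ha hb 1 1)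
    · exact Or.inr (Or.inr (four_case hpf hqh hq hf ha hb))
    · obtain ⟨h4, h2⟩ := four_case hqh hpf hp hh hb ha
      refine Or.inr (Or.inr ?_)
      rw [hst, orderOf_inv, inv_pow]
      refine ⟨h4, ?_⟩
      rwa [inv_eq_of_mul_eq_one_right (hinv _ h2)]
    · obtain ⟨hodd, h3⟩ := odd_case hpf hqh ha hb
      refine Or.inr (Or.inl ⟨hodd, fun hcard => h3 ?_⟩)
      classical
      have key : ∀ x : F, x ≠ 0 → x = 1 := fun x hx => by
        by_contra h1
        have hc := Finset.card_le_univ ({0, 1, x} : Finset F)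
        rw [Finset.card_insert_of_notMem (by simp [Ne.symm hx]),
          Finset.card_pair (Ne.symm h1), hcard] at hc
        omega
      rw [key _ ha, key _ hb, one_mul]
  have hS : Cfsg.IsRootInvolutionSet (fam F n) := by
    refine ⟨?_, ?_, ?_, ?_⟩
    · intro t ht
      obtain ⟨p, f, hpf, hp, hf, rfl⟩ := mem_fam.1 ht
      exact orderOf_eq_prime (by rw [pow_two]; exact hinv _ ht)
        (fun e => one_ne_zero (tv_eq_one hpf hp hf e))
    · refine Cfsg.Agent.Classical.sl_subgroup_eq_top_of_transvection_mem _ fun i j hij c => ?_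
      have e : SpecialLinearGroup.transvection hij c = tv (Pi.single i 1) (Pi.single j 1) c :=
        slExt (by rw [tv_single hij]; rfl)
      rw [e]
      by_cases hc : c = 0
      · rw [hc, tv_zero]; exact one_mem _
      · rw [← one_mul c, ← tv_smul_left _ _ hc]
        exact Subgroup.subset_closure (mem_fam.2 ⟨_, _, by rw [dotProduct_smul, single_dot hij, smul_zero],
          smul_ne_zero hc (single_ne i), single_ne j, rfl⟩)
    · rintro t ⟨c, hc, g₀, hg⟩ g
      refine ⟨c, hc, g * g₀, ?_⟩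
      rw [show (g * g₀)⁻¹ * (g * t * g⁻¹) * (g * g₀) = g₀⁻¹ * t * g₀ by group]
      exact hg
    · intro t ht s hs
      rcases trich t ht s hs with h | h | h
      exacts [Or.inl h, Or.inr (Or.inl h.1), Or.inr (Or.inr h)]
  refine ⟨⟨hS, ⟨_, mem_fam.2 ⟨_, _, single_dot h01, single_ne _, single_ne _, rfl⟩⟩, ?_⟩,
    fun hcard => ⟨hS, fun t ht s hs hodd => ?_⟩⟩
  · intro a ha b hb
    obtain ⟨p, f, hpf, hp, hf, rfl⟩ := mem_fam.1 ha
    obtain ⟨q, h, hqh, hq, hh, rfl⟩ := mem_fam.1 hb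
    obtain ⟨g, hg1, hg2⟩ := exists_sl_map hpf hp hf
    obtain ⟨g', hg1', hg2'⟩ := exists_sl_map hqh hq hh
    refine ⟨g' * g⁻¹, ?_⟩
    conv_rhs => rw [← hg1, ← hg2, ← conj_tv g (single_dot h01)]
    conv_lhs => rw [← hg1', ← hg2', ← conj_tv g' (single_dot h01)]
    group
  · rcases trich t ht s hs with h | h | h
    · left
      have h2 : (t * s) ^ 2 = 1 := by
        rw [(show Commute t s from h).mul_pow, pow_two, pow_two, hinv t ht, hinv s hs, one_mul]
      rcases (Nat.dvd_prime Nat.prime_two).1 (orderOf_dvd_of_pow_eq_one h2) with e | e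
      · exact e
      · rw [e] at hodd; exact absurd hodd (by decide)
    · exact (Nat.dvd_prime Nat.prime_three).1 (orderOf_dvd_of_pow_eq_one (h.2 hcard))
    · rw [h.1] at hodd; exact absurd hodd (by decide)

end Cfsg.Agent.S5058
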