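import Cfsg.Statements.S5059

set_option autoImplicit false
universe u
open Cfsg

namespace Cfsg.Agent.S5059

section
variable {k : Type*} [Field k] {M : Type*} [AddCommGroup M] [Module k M]

/-- The element `1 + N` for a square zero `N`. -/
def sqUnit (N : M →ₗ[k] M) (h : N * N = 0) : LinearMap.GeneralLinearGroup k M where
  val := 1 + N
  inv := 1 - N
  val_inv := by simp only [add_mul, mul_sub, one_mul, mul_one, h]; abel
  inv_val := by simp only [sub_mul, mul_add, one_mul, mul_one, h]; abel

/-- Membership data: `τ - 1` has the given kernel and range. -/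
theorem mul_eq_zero_of_same {N N' : M →ₗ[k] M} (h : N * N = 0)
    (hr : LinearMap.range N' = LinearMap.range N) : N * N' = 0 := by
  ext m
  obtain ⟨x, hx⟩ := (hr ▸ LinearMap.mem_range_self N' m : N' m ∈ LinearMap.range N)
  show N (N' m) = 0
  rw [← hx]
  exact LinearMap.congr_fun h x

theorem mem_scalar_unit {G : Subgroup (LinearMap.GeneralLinearGroup k M)}
    {τ : LinearMap.GeneralLinearGroup k M} (hτ : τ ∈ Cfsg.quadraticElements G) (c : k) :
    sqUnit (c • ((τ : M →ₗ[k] M) - 1)) (by rw [smul_mul_smul_comm, hτ.2.1.1, smul_zero]) ∈ G :=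
  hτ.2.2 ⟨c, rfl⟩

theorem sameAction_mul [FiniteDimensional k M] {G : Subgroup (LinearMap.GeneralLinearGroup k M)}
    {σ x y : LinearMap.GeneralLinearGroup k M} (hx : x ∈ Cfsg.sameActionClass G σ)
    (hy : y ∈ Cfsg.sameActionClass G σ) :
    x * y = y * x ∧ (x * y = 1 ∨ x * y ∈ Cfsg.sameActionClass G σ) := by
  obtain ⟨⟨hxQ, hxmin⟩, hxk, hxr⟩ := hx
  obtain ⟨⟨hyQ, -⟩, hyk, hyr⟩ := hy
  have hNN : ((x : M →ₗ[k] M) - 1) * ((x : M →ₗ[k] M) - 1) = 0 := hxQ.2.1.1
  have hMM : ((y : M →ₗ[k] M) - 1) * ((y : M →ₗ[k] M) - 1) = 0 := hyQ.2.1.1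
  have hNM := mul_eq_zero_of_same hNN (hyr.trans hxr.symm)
  have hMN := mul_eq_zero_of_same hMM (hxr.trans hyr.symm)
  set N := (x : M →ₗ[k] M) - 1 with hN
  set P := (y : M →ₗ[k] M) - 1 with hP
  have exN : (x : M →ₗ[k] M) = 1 + N := by rw [hN]; abel
  have exP : (y : M →ₗ[k] M) = 1 + P := by rw [hP]; abel
  have hxy : ((x * y : LinearMap.GeneralLinearGroup k M) : M →ₗ[k] M) = 1 + (N + P) := by
    rw [Units.val_mul, exN, exP, add_mul, mul_add, mul_add, one_mul, mul_one, one_mul, hNM]
    abel
  refine ⟨Units.ext ?_, ?_⟩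
  · rw [hxy, Units.val_mul, exN, exP, add_mul, mul_add, mul_add, one_mul, mul_one, one_mul, hMN]
    abel
  by_cases h0 : N + P = 0
  · left
    exact Units.ext (by rw [hxy, h0, add_zero, Units.val_one])
  right
  have hsub : ((x * y : LinearMap.GeneralLinearGroup k M) : M →ₗ[k] M) - 1 = N + P := by
    rw [hxy]; abel
  have hsq : (N + P) * (N + P) = 0 := by
    rw [add_mul, mul_add, mul_add, hNN, hMM, hNM, hMN]; simp
  have hmemG : x * y ∈ G := mul_mem hxQ.1 hyQ.1
  have hQ : x * y ∈ Cfsg.quadraticElements G := by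
    refine ⟨hmemG, ⟨by rw [hsub, hsq], by rw [hsub]; exact h0⟩, ?_⟩
    rintro t ⟨c, hc⟩
    have e : t = sqUnit (c • N) (by rw [smul_mul_smul_comm, hNN, smul_zero]) *
        sqUnit (c • P) (by rw [smul_mul_smul_comm, hMM, smul_zero]) := by
      refine Units.ext ?_
      rw [hc, hsub, Units.val_mul]
      show _ = (1 + c • N) * (1 + c • P)
      rw [add_mul, mul_add, mul_add, one_mul, mul_one, one_mul, smul_mul_smul_comm, hNM, smul_zero,
        smul_add]
      abel
    rw [e]
    exact mul_mem (mem_scalar_unit hxQ c) (mem_scalar_unit hyQ c)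
  have hkle : LinearMap.ker N ≤ LinearMap.ker (N + P) := by
    intro m hm
    have hm' : m ∈ LinearMap.ker P := by rw [hyk, ← hxk]; exact hm
    rw [LinearMap.mem_ker] at hm hm' ⊢
    rw [LinearMap.add_apply, hm, hm', add_zero]
  have hrle : LinearMap.range (N + P) ≤ LinearMap.range N := by
    rintro _ ⟨m, rfl⟩
    rw [LinearMap.add_apply]
    exact add_mem (LinearMap.mem_range_self N m)
      (by rw [hxr, ← hyr]; exact LinearMap.mem_range_self P m)
  have hmin : Module.finrank k ↥(LinearMap.range N) ≤ Module.finrank k ↥(LinearMap.range (N + P)) := by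
    have h := hxmin _ hQ
    unfold Cfsg.commutatorRank at h
    rwa [hsub] at h
  have hreq : LinearMap.range (N + P) = LinearMap.range N :=
    Submodule.eq_of_le_of_finrank_le hrle hmin
  have hkeq : LinearMap.ker N = LinearMap.ker (N + P) := by
    refine Submodule.eq_of_le_of_finrank_le hkle ?_
    have h1 := LinearMap.finrank_range_add_finrank_ker N
    have h2 := LinearMap.finrank_range_add_finrank_ker (N + P)
    rw [hreq] at h2
    omega
  refine ⟨⟨hQ, fun t ht => ?_⟩, by rw [hsub, ← hkeq, hxk], by rw [hsub, hreq, hxr]⟩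
  have := hxmin t ht
  unfold Cfsg.commutatorRank at this ⊢
  rw [hsub, hreq]
  exact this

theorem sameAction_inv {G : Subgroup (LinearMap.GeneralLinearGroup k M)}
    {σ x : LinearMap.GeneralLinearGroup k M} (hx : x ∈ Cfsg.sameActionClass G σ) :
    x⁻¹ ∈ Cfsg.sameActionClass G σ := by
  obtain ⟨⟨hxQ, hxmin⟩, hxk, hxr⟩ := hx
  set N := (x : M →ₗ[k] M) - 1 with hN
  have hNN : N * N = 0 := hxQ.2.1.1
  have exN : (x : M →ₗ[k] M) = 1 + N := by rw [hN]; abel
  have hinv : ((x⁻¹ : LinearMap.GeneralLinearGroup k M) : M →ₗ[k] M) - 1 = -N := by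
    have h1 : x = sqUnit N hNN := Units.ext exN
    rw [h1]
    show (1 - N) - 1 = -N
    abel
  have hk' : LinearMap.ker (-N) = LinearMap.ker N := by ext m; simp
  have hr' : LinearMap.range (-N) = LinearMap.range N := LinearMap.range_neg N
  refine ⟨⟨⟨inv_mem hxQ.1, ⟨by rw [hinv, neg_mul_neg, hNN], by
    rw [hinv]; exact neg_ne_zero.mpr hxQ.2.1.2⟩, ?_⟩, fun t ht => ?_⟩,
    by rw [hinv, hk', hxk], by rw [hinv, hr', hxr]⟩
  · rintro t ⟨c, hc⟩
    refine hxQ.2.2 ⟨-c, ?_⟩
    rw [hc, hinv, smul_neg, neg_smul]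
  · have := hxmin t ht
    unfold Cfsg.commutatorRank at this ⊢
    rw [hinv, hr']
    exact this

theorem sameAction_pow {x : LinearMap.GeneralLinearGroup k M} (h : Cfsg.IsQuadraticOn x) (n : ℕ) :
    ((x ^ n : LinearMap.GeneralLinearGroup k M) : M →ₗ[k] M) =
      1 + (n : k) • ((x : M →ₗ[k] M) - 1) := by
  induction n with
  | zero => simp
  | succ n ih =>
    rw [pow_succ, Units.val_mul, ih]
    nth_rewrite 2 [show (x : M →ₗ[k] M) = 1 + ((x : M →ₗ[k] M) - 1) by abel]
    rw [add_mul, one_mul, mul_add, mul_one, smul_mul_assoc, h.1, smul_zero, Nat.cast_succ, add_smul,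
      one_smul]
    abel

end

/-- Let k be a field of characteristic not 2 with k not of order 3, M a finite-dimensional k-vector space and G ≤ GL(M) such that (G, M) is a quadratic pair (M irreducible for G, and G generated by its quadratically acting elements σ whose scalar family 1 + c(σ − 1), c ∈ k, lies in G). Write 𝒬_d for the quadratic elements of G of minimal commutator rank, E(σ) for the subgroup generated by the members of 𝒬_d with the same fixed space and commutator space as σ, and Σ for the set of these subgroups. Then for σ ∈ 𝒬_d the subgroup E(σ) consists exactly of those members together with the identity, it is abelian, and if k has prime characteristic p every element of E(σ) has order dividing p. -/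
theorem result {k : Type u} [Field k] (hk2 : ringChar k ≠ 2) (hk3 : Nat.card k ≠ 3)
    {M : Type u} [AddCommGroup M] [Module k M] [FiniteDimensional k M]
    {G : Subgroup (LinearMap.GeneralLinearGroup k M)} (hG : Cfsg.IsQuadraticPair G)
    {σ : LinearMap.GeneralLinearGroup k M} (hσ : σ ∈ Cfsg.minimalQuadraticElements G) :
    (Cfsg.sameActionSubgroup G σ : Set (LinearMap.GeneralLinearGroup k M)) = Cfsg.sameActionClass G σ ∪ {1} ∧
    IsMulCommutative ↥(Cfsg.sameActionSubgroup G σ) ∧
    (∀ p : ℕ, p.Prime → ringChar k = p → ∀ x ∈ Cfsg.sameActionSubgroup G σ, x ^ p = 1) := by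
  let K : Subgroup (LinearMap.GeneralLinearGroup k M) :=
    { carrier := Cfsg.sameActionClass G σ ∪ {1}
      one_mem' := Or.inr rfl
      mul_mem' := by
        rintro x y (hx | hx) (hy | hy)
        · exact (sameAction_mul hx hy).2.elim Or.inr Or.inl
        · rw [Set.mem_singleton_iff.mp hy, mul_one]; exact Or.inl hx
        · rw [Set.mem_singleton_iff.mp hx, one_mul]; exact Or.inl hy
        · rw [Set.mem_singleton_iff.mp hx, Set.mem_singleton_iff.mp hy, one_mul]; exact Or.inr rfl
      inv_mem' := by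
        rintro x (hx | hx)
        · exact Or.inl (sameAction_inv hx)
        · rw [Set.mem_singleton_iff.mp hx, inv_one]; exact Or.inr rfl }
  have hK : Cfsg.sameActionSubgroup G σ = K := le_antisymm
    ((Subgroup.closure_le K).mpr fun x hx => Or.inl hx)
    (fun x hx => hx.elim (fun h => Subgroup.subset_closure h)
      (fun h => Set.mem_singleton_iff.mp h ▸ one_mem _))
  refine ⟨by rw [hK]; rfl, ?_, ?_⟩
  · rw [hK]
    refine ⟨⟨fun x y => Subtype.ext ?_⟩⟩
    show (x : LinearMap.GeneralLinearGroup k M) * y = y * x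
    rcases x.2 with hx | hx
    · rcases y.2 with hy | hy
      · exact (sameAction_mul hx hy).1
      · rw [Set.mem_singleton_iff.mp hy, mul_one, one_mul]
    · rw [Set.mem_singleton_iff.mp hx, mul_one, one_mul]
  · intro p _ hp x hx
    rw [hK] at hx
    rcases hx with hx | hx
    · refine Units.ext ?_
      haveI : CharP k p := hp ▸ ringChar.charP k
      rw [sameAction_pow hx.1.1.2.1, CharP.cast_eq_zero, zero_smul, add_zero, Units.val_one]
    · rw [Set.mem_singleton_iff.mp hx, one_pow]

end Cfsg.Agent.S5059
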