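import Cfsg.Statements.S5060
import Cfsg.Agent.Lib.RootGroups.SimpleExtensionFinite

set_option autoImplicit false
open Cfsg
open CfsgLib.RootGroups.SimpleExt

namespace Cfsg.Agent.S5060

/-- Let k ⊆ K be fields with the characteristic of k not 2 and k not of order 3, and let α ∈ K be a non-zero element algebraic over k. Then the subgroup of SL₂(K) generated by the upper unitriangular matrices with entry c and the lower unitriangular matrices with entry cα, c ranging over k, is exactly the group of matrices of SL₂(K) with all entries in k(α). -/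
theorem result {k K : Type*} [Field k] [Field K] [Algebra k K] (hk2 : ringChar k ≠ 2) (hk3 : Nat.card k ≠ 3)
    (α : K) (hα : IsAlgebraic k α) (hα0 : α ≠ 0) :
    (Subgroup.closure ({g : Matrix.SpecialLinearGroup (Fin 2) K | ∃ c : k, (g : Matrix (Fin 2) (Fin 2) K) = !![1, algebraMap k K c; 0, 1]} ∪
        {g : Matrix.SpecialLinearGroup (Fin 2) K | ∃ c : k, (g : Matrix (Fin 2) (Fin 2) K) = !![1, 0; algebraMap k K c * α, 1]}) :
      Set (Matrix.SpecialLinearGroup (Fin 2) K)) =
    {g : Matrix.SpecialLinearGroup (Fin 2) K | ∀ i j : Fin 2, (g : Matrix (Fin 2) (Fin 2) K) i j ∈ IntermediateField.adjoin k ({α} : Set K)} := by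
  classical
  let F := IntermediateField.adjoin k ({α} : Set K)
  let pb : PowerBasis k F := IntermediateField.adjoin.powerBasis hα.isIntegral
  have hgen : (pb.gen : K) = α := rfl
  have hpb0 : pb.gen ≠ 0 := fun e => hα0 (by rw [← hgen, e]; rfl)
  have h2 : (2 : k) ≠ 0 := Ring.two_ne_zero hk2
  have htop : gens k pb.gen = ⊤ := by
    cases finite_or_infinite k
    · exact top_of_finite pb h2 hk3 hpb0
    · exact top_of_infinite pb h2 hpb0
  let φ : Matrix.SpecialLinearGroup (Fin 2) F →* Matrix.SpecialLinearGroup (Fin 2) K :=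
    Matrix.SpecialLinearGroup.map (algebraMap F K)
  have hφU : ∀ c : k, ((φ (U (algebraMap k F c))).1 : Matrix (Fin 2) (Fin 2) K) =
      !![1, algebraMap k K c; 0, 1] := fun c => by
    ext i j; fin_cases i <;> fin_cases j <;> simp [φ, U_val, ← IsScalarTower.algebraMap_apply]
  have hφL : ∀ c : k, ((φ (L (algebraMap k F c * pb.gen))).1 : Matrix (Fin 2) (Fin 2) K) =
      !![1, 0; algebraMap k K c * α, 1] := fun c => by
    ext i j; fin_cases i <;> fin_cases j <;>
      simp [φ, L_val, ← IsScalarTower.algebraMap_apply, ← hgen] <;> rfl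
  have hclos : (gens k pb.gen).map φ = Subgroup.closure
      ({g : Matrix.SpecialLinearGroup (Fin 2) K | ∃ c : k, (g : Matrix (Fin 2) (Fin 2) K) = !![1, algebraMap k K c; 0, 1]} ∪
        {g : Matrix.SpecialLinearGroup (Fin 2) K | ∃ c : k, (g : Matrix (Fin 2) (Fin 2) K) = !![1, 0; algebraMap k K c * α, 1]}) := by
    rw [gens, MonoidHom.map_closure, Set.image_union, ← Set.range_comp, ← Set.range_comp]
    congr 2
    · ext g
      exact ⟨fun ⟨c, hc⟩ => ⟨c, hc ▸ hφU c⟩, fun ⟨c, hc⟩ => ⟨c, Subtype.ext ((hφU c).trans hc.symm)⟩⟩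
    · ext g
      exact ⟨fun ⟨c, hc⟩ => ⟨c, hc ▸ hφL c⟩, fun ⟨c, hc⟩ => ⟨c, Subtype.ext ((hφL c).trans hc.symm)⟩⟩
  rw [← hclos, htop, ← MonoidHom.range_eq_map]
  ext g
  constructor
  · rintro ⟨g, rfl⟩ i j
    exact (g.1 i j).2
  · intro hg
    let M : Matrix (Fin 2) (Fin 2) F := fun i j => ⟨g.1 i j, hg i j⟩
    have hM : (algebraMap F K).mapMatrix M = g.1 := by ext i j; rfl
    have hd : M.det = 1 := by
      apply (algebraMap F K).injective
      rw [RingHom.map_det, hM, g.2, map_one]
    exact ⟨⟨M, hd⟩, Subtype.ext hM⟩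

end Cfsg.Agent.S5060
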