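import Cfsg.Statements.S5069
import Cfsg.Agent.Lib.Quadratic.ComponentGroups

set_option autoImplicit false
universe u
open Cfsg

namespace Cfsg.Agent.S5069

/-- Let k be a field of characteristic not 2 with k not of order 3, M a finite-dimensional k-vector space and G ≤ GL(M) such that (G, M) is a quadratic pair (M irreducible for G, and G generated by its quadratically acting elements σ whose scalar family 1 + c(σ − 1), c ∈ k, lies in G). Write 𝒬_d for the quadratic elements of G of minimal commutator rank, E(σ) for the subgroup generated by the members of 𝒬_d with the same fixed space and commutator space as σ, and Σ for the set of these subgroups. Then Σ is a disjoint union of finitely many parts Σ₁, …, Σ_r such that the subgroups G_i generated by the Σ_i commute pairwise, each G_i is quasisimple, and inside G_i the members of Σ_i form a class of abstract root subgroups in which every rank one pair A, B contains subgroups A₀ ≤ A, B₀ ≤ B generating an image of SL₂(k₁) with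 central kernel on unitriangular subgroups for some field k₁ with at least four elements. -/
theorem result {k : Type u} [Field k] (hk2 : ringChar k ≠ 2) (hk3 : Nat.card k ≠ 3)
    {M : Type u} [AddCommGroup M] [Module k M] [FiniteDimensional k M]
    {G : Subgroup (LinearMap.GeneralLinearGroup k M)} (hG : Cfsg.IsQuadraticPair G) :
    ∃ (r : ℕ) (part : Fin r → Set (Subgroup (LinearMap.GeneralLinearGroup k M))),
      (⋃ i, part i) = Cfsg.quadraticRootSubgroups G ∧ (∀ i j, i ≠ j → Disjoint (part i) (part j)) ∧ (∀ i, (part i).Nonempty) ∧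
      (∀ i j, i ≠ j → ⁅(⨆ A ∈ part i, A), (⨆ A ∈ part j, A)⁆ = ⊥) ∧
      (∀ i, Cfsg.IsQuasisimple ↥(⨆ A ∈ part i, A) ∧
        Cfsg.IsRootSubgroupClass ((fun A : Subgroup (LinearMap.GeneralLinearGroup k M) => A.subgroupOf (⨆ B ∈ part i, B)) '' (part i)) ∧
        ∀ A ∈ part i, ∀ B ∈ Cfsg.rankOnePartners (part i) A, ∃ A₀ B₀ : Subgroup (LinearMap.GeneralLinearGroup k M), A₀ ≤ A ∧ B₀ ≤ B ∧
          ∃ (k₁ : Type u) (_ : Field k₁), 3 < ENat.card k₁ ∧ Cfsg.IsPSL2PairOver k₁ A₀ B₀) := by
  have h2 : (2 : k) ≠ 0 := Ring.two_ne_zero hk2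
  haveI := CfsgLib.Quadratic.Comp.finite_components h2 hk3 hG
  let Q := Quotient (CfsgLib.Quadratic.Comp.setoid (G := G) h2)
  let e : Fin (Nat.card Q) ≃ Q := (Finite.equivFin Q).symm
  let rep : Fin (Nat.card Q) → CfsgLib.Quadratic.Comp.MinEl G := fun i => (e i).out
  have hsep : ∀ i j, CfsgLib.Quadratic.Comp.Reach (rep i) (rep j) → i = j := fun i j h => e.injective (by
    rw [← Quotient.out_eq (e i), ← Quotient.out_eq (e j)]
    exact Quotient.sound h)
  refine ⟨Nat.card Q, fun i => CfsgLib.Quadratic.Comp.part (rep i), ?_, ?_, ?_, ?_, fun i => ⟨?_, ?_, ?_⟩⟩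
  · refine Set.eq_of_subset_of_subset (Set.iUnion_subset fun i A hA => ?_) fun A hA => ?_
    · obtain ⟨t, -, rfl⟩ := hA
      exact CfsgLib.Quadratic.esub_mem t.2
    · obtain ⟨s, hs, rfl⟩ := CfsgLib.Quadratic.mem_rootSubgroups_iff.1 hA
      let q : Q := Quotient.mk _ (⟨s, hs⟩ : CfsgLib.Quadratic.Comp.MinEl G)
      refine Set.mem_iUnion.2 ⟨e.symm q, ⟨s, hs⟩, ?_, rfl⟩
      show CfsgLib.Quadratic.Comp.Reach (e (e.symm q)).out _
      rw [e.apply_symm_apply]
      exact Quotient.exact (Quotient.out_eq q)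
  · intro i j hij
    refine Set.disjoint_left.2 ?_
    rintro A ⟨t, ht, rfl⟩ ⟨t', ht', he⟩
    refine hij (hsep i j ?_)
    obtain ⟨x, hx, hxe⟩ := (CfsgLib.Quadratic.mem_sameAction_iff t.2).1
      (he.symm ▸ CfsgLib.Quadratic.tt_esub t'.2 (CfsgLib.Quadratic.self_mem_cls t'.2.1))
    have hx' := CfsgLib.Quadratic.tt_inj t'.2.1.1 hx.1.1 hxe
    exact (ht.trans (CfsgLib.Quadratic.Comp.reach_of_cls h2 hG (s := t) (t := t') (by rw [hx']; exact hx))).trans
      (CfsgLib.Quadratic.Comp.Reach.symm h2 ht')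
  · exact fun i => ⟨_, rep i, Relation.ReflTransGen.refl, rfl⟩
  · exact fun i j hij => CfsgLib.Quadratic.Comp.span_commute h2 hk3 hG fun h => hij (hsep i j h)
  · exact CfsgLib.Quadratic.Comp.span_quasisimple h2 hk3 hG (rep i)
  · exact CfsgLib.Quadratic.Comp.span_rootClass h2 hk3 hG (rep i)
  · rintro A hA B ⟨hB, hp⟩
    obtain ⟨a, b, rfl, rfl, hne⟩ := CfsgLib.Quadratic.Comp.span_sl2 h2 hk3 hG hA hB hp
    obtain ⟨D, hf, hcard, A₀, B₀, hA₀, hB₀, hpsl⟩ := CfsgLib.Quadratic.exists_sl2 h2 hk3 a.2 b.2 hne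
    exact ⟨A₀, B₀, hA₀, hB₀, D.R, hf.toField, hcard, hpsl⟩

end Cfsg.Agent.S5069
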