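import Cfsg.Statements.S5074
import Cfsg.Agent.Lib.Quadratic.Decompose

set_option autoImplicit false
universe u
open Cfsg

namespace Cfsg.Agent.S5074

/-- Let k be a field of characteristic not 2 with k not of order 3, M a finite-dimensional k-vector space and G ≤ GL(M) such that (G, M) is a quadratic pair (M irreducible for G, and G generated by its quadratically acting elements σ whose scalar family 1 + c(σ − 1), c ∈ k, lies in G). Write 𝒬_d for the quadratic elements of G of minimal commutator rank, E(σ) for the subgroup generated by the members of 𝒬_d with the same fixed space and commutator space as σ, and Σ for the set of these subgroups. Then G is the product of the subgroup G₀ generated by Σ with the centralizer of G₀ in G. -/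
theorem result {k : Type u} [Field k] (hk2 : ringChar k ≠ 2) (hk3 : Nat.card k ≠ 3)
    {M : Type u} [AddCommGroup M] [Module k M] [FiniteDimensional k M]
    {G : Subgroup (LinearMap.GeneralLinearGroup k M)} (hG : Cfsg.IsQuadraticPair G) :
    (⨆ A ∈ Cfsg.quadraticRootSubgroups G, A) ⊔
      (G ⊓ Subgroup.centralizer ((⨆ A ∈ Cfsg.quadraticRootSubgroups G, A : Subgroup (LinearMap.GeneralLinearGroup k M)) : Set (LinearMap.GeneralLinearGroup k M))) = G := by
  have h2 : (2 : k) ≠ 0 := Ring.two_ne_zero hk2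
  set G₀ : Subgroup (LinearMap.GeneralLinearGroup k M) := ⨆ A ∈ Cfsg.quadraticRootSubgroups G, A with hG₀
  have hle : G₀ ≤ G := by
    refine iSup₂_le fun A hA g hg => ?_
    obtain ⟨s, hs, rfl⟩ := CfsgLib.Quadratic.mem_rootSubgroups_iff.1 hA
    obtain ⟨x, hx, rfl⟩ := (CfsgLib.Quadratic.mem_sameAction_iff hs).1 hg
    exact hx.1.tt_mem
  have hmin : ∀ y, CfsgLib.Quadratic.IsMin G y → CfsgLib.Quadratic.tt y ∈ G₀ := fun y hy =>
    Subgroup.mem_iSup_of_mem _ (Subgroup.mem_iSup_of_mem
      (CfsgLib.Quadratic.mem_rootSubgroups_iff.2 ⟨y, hy, rfl⟩)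
      ((CfsgLib.Quadratic.mem_sameAction_iff hy).2 ⟨y, CfsgLib.Quadratic.self_mem_cls hy.1, rfl⟩))
  have hgen : ∀ g, (∀ y, CfsgLib.Quadratic.IsMin G y →
      CfsgLib.Quadratic.tt y * g = g * CfsgLib.Quadratic.tt y) → g ∈ G →
      g ∈ G ⊓ Subgroup.centralizer (G₀ : Set (LinearMap.GeneralLinearGroup k M)) := by
    intro g hg hgG
    refine ⟨hgG, ?_⟩
    have h : G₀ ≤ Subgroup.centralizer ({g} : Set (LinearMap.GeneralLinearGroup k M)) := by
      refine iSup₂_le fun A hA a ha => Subgroup.mem_centralizer_iff.2 ?_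
      rintro _ rfl
      obtain ⟨s, hs, rfl⟩ := CfsgLib.Quadratic.mem_rootSubgroups_iff.1 hA
      obtain ⟨x, hx, rfl⟩ := (CfsgLib.Quadratic.mem_sameAction_iff hs).1 ha
      rcases eq_or_ne x 0 with rfl | hx0
      · rw [CfsgLib.Quadratic.tt_zero, one_mul, mul_one]
      · exact (hg x (CfsgLib.Quadratic.cls_min hs hx hx0).1).symm
    exact Subgroup.mem_centralizer_iff.2 fun a ha =>
      (Subgroup.mem_centralizer_iff.1 (h ha) g rfl).symm
  refine le_antisymm (sup_le hle inf_le_left) ?_
  calc G = Subgroup.closure (Cfsg.quadraticElements G) := hG.2.symm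
    _ ≤ _ := by
      rw [Subgroup.closure_le]
      intro σ hσ
      obtain ⟨x, hx, -, rfl⟩ := CfsgLib.Quadratic.mem_quadratic_iff.1 hσ
      exact CfsgLib.Quadratic.fam_split h2 hk3 hG.1 hmin hgen _ x hx rfl

end Cfsg.Agent.S5074
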