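import Cfsg.Statements.S5063
import Cfsg.Agent.S5069
import Cfsg.Agent.S5074
import Cfsg.Agent.Lib.Quadratic.CentralProduct
import Cfsg.Agent.Lib.Quadratic.Root

set_option autoImplicit false
universe u
open Cfsg

namespace Cfsg.Agent.S5063

open CfsgLib.Quadratic in
theorem cocentral {k : Type u} [Field k] (hk2 : ringChar k ≠ 2) (hk3 : Nat.card k ≠ 3)
    (M : Type u) [AddCommGroup M] [Module k M] [FiniteDimensional k M]
    (G : Subgroup (LinearMap.GeneralLinearGroup k M)) (hG : Cfsg.IsQuadraticPair G)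
    (hQ : (Cfsg.quadraticElements G).Nonempty) : HasCocentralPart G := by
  obtain ⟨r, part, hun, -, -, hcomm, hprops⟩ := Cfsg.Agent.S5069.result hk2 hk3 hG
  have hco := Cfsg.Agent.S5074.result hk2 hk3 hG
  have hsup : (⨆ i, ⨆ A ∈ part i, A) = ⨆ A ∈ Cfsg.quadraticRootSubgroups G, A := by
    rw [← hun, iSup_iUnion]
  have hmem : ∀ i, ∀ A ∈ part i, A ∈ Cfsg.quadraticRootSubgroups G := fun i A hA =>
    hun ▸ Set.mem_iUnion_of_mem i hA
  have hle : ∀ i, (⨆ A ∈ part i, A) ≤ G := fun i => iSup₂_le fun A hA => by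
    obtain ⟨s, hs, rfl⟩ := mem_rootSubgroups_iff.1 (hmem i A hA)
    exact esub_le hs
  refine ⟨Fin r, inferInstance, fun i => ⨆ A ∈ part i, A,
    fun i => ⟨hle i, (hprops i).1, ?_⟩, hcomm, by rw [hsup]; exact hco, ?_⟩
  · refine le_antisymm ((Subgroup.closure_le _).2 fun σ hσ => hσ.2) (iSup₂_le fun A hA => ?_)
    obtain ⟨s, hs, rfl⟩ := mem_rootSubgroups_iff.1 (hmem i A hA)
    intro σ hσ
    obtain ⟨x, hx, rfl⟩ := (mem_sameAction_iff hs).1 hσ
    rcases eq_or_ne x 0 with rfl | hx0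
    · rw [tt_zero]; exact one_mem _
    exact Subgroup.subset_closure ⟨mem_quadratic_iff.2 ⟨x, hx.1, hx0, rfl⟩,
      le_iSup₂ (f := fun B (_ : B ∈ part i) => B) _ hA hσ⟩
  · obtain ⟨σ, hσ, hmin⟩ := (InvImage.wf (fun σ => Cfsg.commutatorRank σ) wellFounded_lt).has_min _ hQ
    have hm : σ ∈ Cfsg.minimalQuadraticElements G :=
      ⟨hσ, fun τ hτ => not_lt.1 (hmin τ hτ)⟩
    obtain ⟨s, hs, rfl⟩ := mem_minimal_iff.1 hm
    refine ⟨s, hs.1, hs.2.1, ?_⟩
    rw [hsup]
    exact le_iSup₂ (f := fun B (_ : B ∈ Cfsg.quadraticRootSubgroups G) => B) _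
      (mem_rootSubgroups_iff.2 ⟨s, hs, rfl⟩) (tt_esub hs (self_mem_cls hs.1))

/-- Let k be a field of characteristic not 2 with k not of order 3, M a finite-dimensional k-vector space and G ≤ GL(M) such that (G, M) is a quadratic pair (M irreducible for G, and G generated by its quadratically acting elements σ whose scalar family 1 + c(σ − 1), c ∈ k, lies in G). Write 𝒬_d for the quadratic elements of G of minimal commutator rank, E(σ) for the subgroup generated by the members of 𝒬_d with the same fixed space and commutator space as σ, and Σ for the set of these subgroups. Then G is a central product of finitely many quasisimple normal subgroups G₁, …, G_s (pairwise commuting and together generating G), each generated by the quadratic elements of G it contains, and every quadratic element of G lies in one of them. -/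
theorem result {k : Type u} [Field k] (hk2 : ringChar k ≠ 2) (hk3 : Nat.card k ≠ 3)
    {M : Type u} [AddCommGroup M] [Module k M] [FiniteDimensional k M]
    {G : Subgroup (LinearMap.GeneralLinearGroup k M)} (hG : Cfsg.IsQuadraticPair G) :
    ∃ (s : ℕ) (Gi : Fin s → Subgroup (LinearMap.GeneralLinearGroup k M)),
      (∀ i, Gi i ≤ G ∧ ∀ g ∈ G, Cfsg.conjBy (Gi i) g = Gi i) ∧ (∀ i j, i ≠ j → ⁅Gi i, Gi j⁆ = ⊥) ∧ (⨆ i, Gi i) = G ∧
      (∀ i, Cfsg.IsQuasisimple ↥(Gi i) ∧ Subgroup.closure (Cfsg.quadraticElements G ∩ (Gi i : Set (LinearMap.GeneralLinearGroup k M))) = Gi i) ∧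
      Cfsg.quadraticElements G ⊆ ⋃ i, (Gi i : Set (LinearMap.GeneralLinearGroup k M)) := by
  have h2 : (2 : k) ≠ 0 := Ring.two_ne_zero hk2
  obtain ⟨ι, hι, Gi, h1, h2', h3, h4, h5⟩ := CfsgLib.Quadratic.hasCentralDec_of_cocentral h2
    (fun M _ _ _ G hG hQ => cocentral hk2 hk3 M G hG hQ) _ M G (Nat.lt_succ_self _) hG
  obtain ⟨s, ⟨e⟩⟩ := Finite.exists_equiv_fin ι
  refine ⟨s, fun i => Gi (e.symm i), fun i => h1 _, fun i j hij => h2' _ _ (e.symm.injective.ne hij),
    ?_, fun i => h4 _, ?_⟩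
  · rw [← h3]; exact e.symm.surjective.iSup_comp Gi
  · intro σ hσ
    obtain ⟨i, hi⟩ := Set.mem_iUnion.1 (h5 hσ)
    exact Set.mem_iUnion_of_mem (e i) (by simpa using hi)

end Cfsg.Agent.S5063
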