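import Cfsg.Statements.S5064
import Cfsg.Agent.Lib.Quadratic.Root

set_option autoImplicit false
universe u
open Cfsg

namespace Cfsg.Agent.S5064

open CfsgLib.Quadratic

/-- Let k be a field of characteristic not 2 with k not of order 3, M a finite-dimensional k-vector space and G ≤ GL(M) such that (G, M) is a quadratic pair (M irreducible for G, and G generated by its quadratically acting elements σ whose scalar family 1 + c(σ − 1), c ∈ k, lies in G). Write 𝒬_d for the quadratic elements of G of minimal commutator rank, E(σ) for the subgroup generated by the members of 𝒬_d with the same fixed space and commutator space as σ, and Σ for the set of these subgroups. If σ, τ ∈ 𝒬_d and the subgroup H generated by their two scalar families does not act unipotently on M, then H is isomorphic to SL₂ over a simple algebraic extension k(λ) of k. -/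
theorem result {k : Type u} [Field k] (hk2 : ringChar k ≠ 2) (hk3 : Nat.card k ≠ 3)
    {M : Type u} [AddCommGroup M] [Module k M] [FiniteDimensional k M]
    {G : Subgroup (LinearMap.GeneralLinearGroup k M)} (hG : Cfsg.IsQuadraticPair G)
    {σ τ : LinearMap.GeneralLinearGroup k M} (hσ : σ ∈ Cfsg.minimalQuadraticElements G) (hτ : τ ∈ Cfsg.minimalQuadraticElements G)
    (hH : ¬ Cfsg.IsUnipotentOn (Subgroup.closure (Cfsg.scalarFamily σ ∪ Cfsg.scalarFamily τ))) :
    ∃ (K : Type u) (_ : Field K) (_ : Algebra k K) (lam : K), IsAlgebraic k lam ∧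
      IntermediateField.adjoin k ({lam} : Set K) = ⊤ ∧
      Nonempty (↥(Subgroup.closure (Cfsg.scalarFamily σ ∪ Cfsg.scalarFamily τ)) ≃* Matrix.SpecialLinearGroup (Fin 2) K) := by
  have h2 : (2 : k) ≠ 0 := Ring.two_ne_zero hk2
  obtain ⟨s, hs, rfl⟩ := mem_minimal_iff.1 hσ
  obtain ⟨t, ht, rfl⟩ := mem_minimal_iff.1 hτ
  have hset : Cfsg.scalarFamily (tt s) ∪ Cfsg.scalarFamily (tt t) =
      (Set.range fun c : k => tt (c • s)) ∪ (Set.range fun c : k => tt (c • t)) := by
    ext g
    simp only [Set.mem_union, mem_scalarFamily_iff hs.1.1, mem_scalarFamily_iff ht.1.1, Set.mem_range,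
      eq_comm]
  have hgrp : Subgroup.closure (Cfsg.scalarFamily (tt s) ∪ Cfsg.scalarFamily (tt t)) = pairGroup s t := by
    rw [hset]; rfl
  have hst : s * t * s ≠ 0 := by
    intro h0
    obtain ⟨n, hn⟩ := unipotent_of_zero h2 hs ht h0
    refine hH ⟨n, fun l hl hlen => hn l (fun g hg => ?_) hlen⟩
    have hg' := hl g hg
    rw [hgrp] at hg'
    have hle : pairGroup s t ≤ esub G s ⊔ esub G t := by
      rw [pairGroup, Subgroup.closure_le]
      rintro _ (⟨c, rfl⟩ | ⟨c, rfl⟩)
      · exact Subgroup.mem_sup_left (tt_esub hs ((cls G s).smul_mem c (self_mem_cls hs.1)))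
      · exact Subgroup.mem_sup_right (tt_esub ht ((cls G t).smul_mem c (self_mem_cls ht.1)))
    exact hle hg'
  obtain ⟨O⟩ := exists_opp h2 hk3 hs ht hst
  have hfin : FiniteDimensional k O.D.R := (AdjoinRoot.powerBasis O.D.g_ne).finite
  letI : Field O.D.R := O.field.toField
  refine ⟨O.D.R, inferInstance, inferInstance, AdjoinRoot.root O.D.g,
    (Algebra.IsIntegral.isIntegral _).isAlgebraic, ?_, ?_⟩
  · refine eq_top_iff.2 fun x _ => ?_
    have h1 : x ∈ Algebra.adjoin k {AdjoinRoot.root O.D.g} := by
      rw [AdjoinRoot.adjoinRoot_eq_top]; exact Algebra.mem_top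
    exact IntermediateField.algebra_adjoin_le_adjoin k _ h1
  · refine ⟨(MulEquiv.subgroupCongr ?_).trans (MonoidHom.ofInjective O.D.rep_injective).symm⟩
    rw [hgrp, O.range_rep]

end Cfsg.Agent.S5064
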