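import Cfsg.Statements.S5065
import Cfsg.Agent.Lib.Quadratic.Root

set_option autoImplicit false
universe u
open Cfsg

namespace Cfsg.Agent.S5065

open CfsgLib.Quadratic CfsgLib.RootGroups

variable {k : Type u} [Field k] {M : Type u} [AddCommGroup M] [Module k M] [FiniteDimensional k M]
  {G : Subgroup (LinearMap.GeneralLinearGroup k M)}

/-- Let k be a field of characteristic not 2 with k not of order 3, M a finite-dimensional k-vector space and G ≤ GL(M) such that (G, M) is a quadratic pair (M irreducible for G, and G generated by its quadratically acting elements σ whose scalar family 1 + c(σ − 1), c ∈ k, lies in G). Write 𝒬_d for the quadratic elements of G of minimal commutator rank, E(σ) for the subgroup generated by the members of 𝒬_d with the same fixed space and commutator space as σ, and Σ for the set of these subgroups. For σ, τ ∈ 𝒬_d put A = E(σ), B = E(τ) and X = ⟨A, B⟩. Then either X acts unipotently on M, or A and B are the unipotent subgroups of a special rank one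 group X; in the latter case X contains exactly one central involution acting as −1 on the commutator space [M, X] and trivially on the fixed space C_M(X), and M is the direct sum of C_M(X) and [M, X]. -/
theorem result {k : Type u} [Field k] (hk2 : ringChar k ≠ 2) (hk3 : Nat.card k ≠ 3)
    {M : Type u} [AddCommGroup M] [Module k M] [FiniteDimensional k M]
    {G : Subgroup (LinearMap.GeneralLinearGroup k M)} (hG : Cfsg.IsQuadraticPair G)
    {σ τ : LinearMap.GeneralLinearGroup k M} (hσ : σ ∈ Cfsg.minimalQuadraticElements G) (hτ : τ ∈ Cfsg.minimalQuadraticElements G) :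
    Cfsg.IsUnipotentOn (Cfsg.sameActionSubgroup G σ ⊔ Cfsg.sameActionSubgroup G τ) ∨
    (Cfsg.IsSpecialRankOnePair (Cfsg.sameActionSubgroup G σ) (Cfsg.sameActionSubgroup G τ) ∧
      (∃! i : LinearMap.GeneralLinearGroup k M, i ∈ Cfsg.sameActionSubgroup G σ ⊔ Cfsg.sameActionSubgroup G τ ∧ i ≠ 1 ∧ i * i = 1 ∧
        (∀ x ∈ Cfsg.sameActionSubgroup G σ ⊔ Cfsg.sameActionSubgroup G τ, i * x = x * i) ∧
        (∀ m ∈ Cfsg.commutatorSubmodule (Cfsg.sameActionSubgroup G σ ⊔ Cfsg.sameActionSubgroup G τ), (i : M →ₗ[k] M) m = -m) ∧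
        (∀ m ∈ Cfsg.fixedSubmodule (Cfsg.sameActionSubgroup G σ ⊔ Cfsg.sameActionSubgroup G τ), (i : M →ₗ[k] M) m = m)) ∧
      IsCompl (Cfsg.fixedSubmodule (Cfsg.sameActionSubgroup G σ ⊔ Cfsg.sameActionSubgroup G τ))
        (Cfsg.commutatorSubmodule (Cfsg.sameActionSubgroup G σ ⊔ Cfsg.sameActionSubgroup G τ))) := by
  have h2 : (2 : k) ≠ 0 := Ring.two_ne_zero hk2
  obtain ⟨s, hs, rfl⟩ := mem_minimal_iff.1 hσ
  obtain ⟨t, ht, rfl⟩ := mem_minimal_iff.1 hτ
  by_cases hst : s * t * s = 0
  · exact Or.inl (unipotent_of_zero h2 hs ht hst)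
  right
  refine ⟨special_pair h2 hk3 hs ht hst, ?_⟩
  obtain ⟨y, hy, hy0, hP⟩ := exists_partner' h2 hk3 hs ht hst (self_mem_cls hs.1) hs.2.1
  obtain ⟨-, hky, hry⟩ := cls_min ht hy hy0
  set e := s * y + y * s with he
  have hss := hs.1.1
  have hyy := hP.miny.1.1
  have hse : s * e = s ∧ e * s = s := by
    constructor
    · rw [he, mul_add, ← mul_assoc, ← mul_assoc, hss, zero_mul, zero_add, hP.xyx]
    · rw [he, add_mul, mul_assoc y s s, hss, mul_zero, add_zero, hP.xyx]
  have hye : y * e = y ∧ e * y = y := by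
    constructor
    · rw [he, mul_add, ← mul_assoc, ← mul_assoc, hyy, zero_mul, add_zero, hP.yxy]
    · rw [he, add_mul, mul_assoc s y y, hyy, mul_zero, zero_add, hP.yxy]
  have hee : e * e = e := by
    conv_lhs => arg 2; rw [he]
    rw [mul_add, ← mul_assoc, ← mul_assoc, hse.2, hye.2]
  set X := Cfsg.sameActionSubgroup G (tt s) ⊔ Cfsg.sameActionSubgroup G (tt t) with hX
  -- every generator is absorbed by `e`
  have habs : ∀ {u : M →ₗ[k] M}, IsMin G u → u * e = u → e * u = u → ∀ x ∈ cls G u, x * e = x ∧ e * x = x := by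
    intro u hu h1 h2' x hx
    constructor
    · refine LinearMap.ext fun v => ?_
      have hv : e v - v ∈ LinearMap.ker u := by
        rw [LinearMap.mem_ker, map_sub, ← mul_apply' u e, h1, sub_self]
      have := LinearMap.mem_ker.1 (hx.2.1 hv)
      rw [map_sub, sub_eq_zero] at this
      exact this
    · refine LinearMap.ext fun v => ?_
      obtain ⟨w, hw⟩ := (hx.2.2 (LinearMap.mem_range_self x v)).1
      show e (x v) = x v
      rw [← hw]
      exact LinearMap.congr_fun h2' w
  have habst : ∀ x ∈ cls G t, x * e = x ∧ e * x = x := fun x hx =>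
    habs hP.miny hye.1 hye.2 x (by rwa [cls_eq ht hy hy0])
  let C : Subgroup (LinearMap.GeneralLinearGroup k M) :=
    { carrier := {g | (g.1 - 1) * e = g.1 - 1 ∧ e * (g.1 - 1) = g.1 - 1 ∧ (g⁻¹.1 - 1) * e = g⁻¹.1 - 1 ∧
        e * (g⁻¹.1 - 1) = g⁻¹.1 - 1}
      one_mem' := by simp
      mul_mem' := fun {a b} ha hb => by
        refine ⟨?_, ?_, ?_, ?_⟩
        · rw [Units.val_mul, show a.1 * b.1 - 1 = a.1 * (b.1 - 1) + (a.1 - 1) by noncomm_ring, add_mul,
            mul_assoc, hb.1, ha.1]
        · rw [Units.val_mul, show a.1 * b.1 - 1 = (a.1 - 1) * b.1 + (b.1 - 1) by noncomm_ring, mul_add,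
            ← mul_assoc, ha.2.1, hb.2.1]
        · rw [mul_inv_rev, Units.val_mul, show b⁻¹.1 * a⁻¹.1 - 1 = b⁻¹.1 * (a⁻¹.1 - 1) + (b⁻¹.1 - 1) by
            noncomm_ring, add_mul, mul_assoc, ha.2.2.1, hb.2.2.1]
        · rw [mul_inv_rev, Units.val_mul, show b⁻¹.1 * a⁻¹.1 - 1 = (b⁻¹.1 - 1) * a⁻¹.1 + (a⁻¹.1 - 1) by
            noncomm_ring, mul_add, ← mul_assoc, ha.2.2.2, hb.2.2.2]
      inv_mem' := fun {a} ha => ⟨ha.2.2.1, ha.2.2.2, by rw [inv_inv]; exact ha.1, by rw [inv_inv]; exact ha.2.1⟩ }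
  have hgenC : ∀ {u : M →ₗ[k] M}, IsMin G u → (∀ x ∈ cls G u, x * e = x ∧ e * x = x) →
      Cfsg.sameActionSubgroup G (tt u) ≤ C := by
    intro u hu hab σ hσ
    obtain ⟨x, hx, rfl⟩ := (mem_sameAction_iff hu).1 hσ
    obtain ⟨a1, a2⟩ := hab x hx
    refine ⟨?_, ?_, ?_, ?_⟩ <;>
      simp [tt_val hx.1.1, tt_inv_val hx.1.1, a1, a2]
  have hXC : X ≤ C := sup_le (hgenC hs (habs hs hse.1 hse.2)) (hgenC ht habst)
  have hsX : tt s ∈ X := Subgroup.mem_sup_left (tt_esub hs (self_mem_cls hs.1))
  have hyX : tt y ∈ X := Subgroup.mem_sup_right (tt_esub ht hy)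
  have hfix : ∀ v, v ∈ Cfsg.fixedSubmodule X ↔ e v = 0 := by
    intro v
    simp only [Cfsg.fixedSubmodule, Submodule.mem_iInf, LinearMap.mem_ker]
    constructor
    · intro h
      have h1 := h _ hsX
      have h2' := h _ hyX
      rw [tt_val hss, add_sub_cancel_left] at h1
      rw [tt_val hyy, add_sub_cancel_left] at h2'
      rw [he, LinearMap.add_apply, mul_apply', mul_apply', h1, h2', map_zero, map_zero, add_zero]
    · intro h g hg
      rw [← (hXC hg).1, mul_apply', h, map_zero]
  have hcom : ∀ v, v ∈ Cfsg.commutatorSubmodule X ↔ e v = v := by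
    intro v
    constructor
    · intro h
      have hle : Cfsg.commutatorSubmodule X ≤ LinearMap.ker (e - 1) := by
        refine iSup₂_le fun g hg => ?_
        rintro _ ⟨w, rfl⟩
        rw [LinearMap.mem_ker, LinearMap.sub_apply]
        show e ((g.1 - 1) w) - (g.1 - 1) w = 0
        rw [← mul_apply' e, (hXC hg).2.1, sub_self]
      have := hle h
      rwa [LinearMap.mem_ker, LinearMap.sub_apply, sub_eq_zero] at this
    · intro h
      rw [← h, he, LinearMap.add_apply]
      refine add_mem ?_ ?_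
      · refine Submodule.mem_iSup_of_mem (tt s) (Submodule.mem_iSup_of_mem hsX ⟨y v, ?_⟩)
        rw [tt_val hss, add_sub_cancel_left]; rfl
      · refine Submodule.mem_iSup_of_mem (tt y) (Submodule.mem_iSup_of_mem hyX ⟨s v, ?_⟩)
        rw [tt_val hyy, add_sub_cancel_left]; rfl
  set W := swp s y with hW
  have hWX : W ∈ X := by
    refine mul_mem (mul_mem hsX ?_) hsX
    rw [tt_neg hyy]; exact inv_mem hyX
  have hWW : (W * W).1 = 1 - (e + e) := by
    rw [Units.val_mul, hW, swp_val hP, ← he]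
    have e1 : (s - y) * (s - y) = -e := by
      rw [he]
      calc (s - y) * (s - y) = s * s + y * y - (s * y + y * s) := by noncomm_ring
        _ = _ := by rw [hss, hyy]; abel
    calc (1 - e + (s - y)) * (1 - e + (s - y))
        = 1 - e - e + e * e + ((s - y) - e * (s - y)) + ((s - y) - (s - y) * e) + (s - y) * (s - y) := by
          noncomm_ring
      _ = _ := by rw [hee, mul_sub, hse.2, hye.2, sub_mul, hse.1, hye.1, e1]; abel
  refine ⟨⟨W * W, ⟨mul_mem hWX hWX, ?_, ?_, ?_, ?_, ?_⟩, ?_⟩, ?_⟩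
  · intro h1
    have h2e : e + e = 0 := by
      have := congrArg (fun g : LinearMap.GeneralLinearGroup k M => g.1) h1
      simp only [hWW, Units.val_one] at this
      exact sub_eq_self.1 this
    rw [← two_smul k, smul_eq_zero] at h2e
    have he0 := h2e.resolve_left h2
    exact hs.2.1 (by rw [← hse.2, he0, zero_mul])
  · refine Units.ext ?_
    rw [Units.val_mul, hWW, Units.val_one]
    calc (1 - (e + e)) * (1 - (e + e)) = 1 - 4 • e + 4 • (e * e) := by noncomm_ring
      _ = 1 := by rw [hee]; abel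
  · intro g hg
    refine Units.ext ?_
    rw [Units.val_mul, Units.val_mul (a := g), hWW]
    obtain ⟨c1, c2, -, -⟩ := hXC hg
    calc (1 - (e + e)) * g.1 = g.1 - 2 • (e * (g.1 - 1)) - 2 • e := by noncomm_ring
      _ = g.1 - 2 • ((g.1 - 1) * e) - 2 • e := by rw [c1, c2]
      _ = g.1 * (1 - (e + e)) := by noncomm_ring
  · intro m hm
    rw [hWW, LinearMap.sub_apply, Module.End.one_apply, LinearMap.add_apply, (hcom m).1 hm]
    abel
  · intro m hm
    rw [hWW, LinearMap.sub_apply, Module.End.one_apply, LinearMap.add_apply, (hfix m).1 hm]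
    abel
  · rintro j ⟨-, -, -, -, hj1, hj2⟩
    refine Units.ext (LinearMap.ext fun v => ?_)
    have h1 : e v ∈ Cfsg.commutatorSubmodule X := (hcom _).2 (LinearMap.congr_fun hee v)
    have h0 : v - e v ∈ Cfsg.fixedSubmodule X := (hfix _).2 (by
      rw [map_sub, ← mul_apply' e e, hee, sub_self])
    have e2 := hj1 _ h1
    have e3 := hj2 _ h0
    rw [map_sub, e2, sub_neg_eq_add] at e3
    rw [hWW, LinearMap.sub_apply, Module.End.one_apply, LinearMap.add_apply]
    rw [eq_sub_of_add_eq e3]; abel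
  · refine ⟨Submodule.disjoint_def.2 fun v h0 h1 => ?_, codisjoint_iff.2 (eq_top_iff.2 fun v _ => ?_)⟩
    · rw [← (hcom v).1 h1, (hfix v).1 h0]
    · have h1 : e v ∈ Cfsg.commutatorSubmodule X := (hcom _).2 (LinearMap.congr_fun hee v)
      have h0 : v - e v ∈ Cfsg.fixedSubmodule X := (hfix _).2 (by
        rw [map_sub, ← mul_apply' e e, hee, sub_self])
      exact Submodule.mem_sup.2 ⟨_, h0, _, h1, sub_add_cancel v (e v)⟩

end Cfsg.Agent.S5065
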