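import Cfsg.Statements.S5066
import Cfsg.Agent.Lib.Quadratic.Commutator
import Cfsg.Agent.Lib.RootGroups.RootSets

set_option autoImplicit false
universe u
open Cfsg

namespace Cfsg.Agent.S5066

open CfsgLib.Quadratic CfsgLib.RootGroups
open scoped commutatorElement

/-- Let k be a field of characteristic not 2 with k not of order 3, M a finite-dimensional k-vector space and G ≤ GL(M) such that (G, M) is a quadratic pair (M irreducible for G, and G generated by its quadratically acting elements σ whose scalar family 1 + c(σ − 1), c ∈ k, lies in G). Write 𝒬_d for the quadratic elements of G of minimal commutator rank, E(σ) for the subgroup generated by the members of 𝒬_d with the same fixed space and commutator space as σ, and Σ for the set of these subgroups. Let E, F ∈ Σ generate a subgroup that is nilpotent of class exactly two. Then D = ⁅E, F⁆ belongs to Σ, equals the subgroup generated by the commutators of e with F, and also of E with f, for every non-identity e ∈ E, f ∈ F, and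 ⟨E, F⟩ lies in U(D), the set of elements g of G normalizing D with (g − 1)M inside the fixed space of D, (g − 1) mapping that fixed space into the commutator space of D, and g acting trivially on the commutator space of D. -/
theorem result {k : Type u} [Field k] (hk2 : ringChar k ≠ 2) (hk3 : Nat.card k ≠ 3)
    {M : Type u} [AddCommGroup M] [Module k M] [FiniteDimensional k M]
    {G : Subgroup (LinearMap.GeneralLinearGroup k M)} (hG : Cfsg.IsQuadraticPair G)
    {E F : Subgroup (LinearMap.GeneralLinearGroup k M)} (hE : E ∈ Cfsg.quadraticRootSubgroups G) (hF : F ∈ Cfsg.quadraticRootSubgroups G)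
    (h2 : ⁅E ⊔ F, E ⊔ F⁆ ≠ ⊥ ∧ ⁅⁅E ⊔ F, E ⊔ F⁆, E ⊔ F⁆ = ⊥) :
    ⁅E, F⁆ ∈ Cfsg.quadraticRootSubgroups G ∧
    (∀ e ∈ E, e ≠ 1 → Subgroup.closure ((fun f : LinearMap.GeneralLinearGroup k M => e * f * e⁻¹ * f⁻¹) '' (F : Set (LinearMap.GeneralLinearGroup k M))) = ⁅E, F⁆) ∧
    (∀ f ∈ F, f ≠ 1 → Subgroup.closure ((fun e : LinearMap.GeneralLinearGroup k M => e * f * e⁻¹ * f⁻¹) '' (E : Set (LinearMap.GeneralLinearGroup k M))) = ⁅E, F⁆) ∧
    ((E ⊔ F : Subgroup (LinearMap.GeneralLinearGroup k M)) : Set (LinearMap.GeneralLinearGroup k M)) ⊆ Cfsg.quadraticUnipotentCore G ⁅E, F⁆ := by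
  have h2k : (2 : k) ≠ 0 := Ring.two_ne_zero hk2
  obtain ⟨s, hs, rfl⟩ := mem_rootSubgroups_iff.1 hE
  obtain ⟨t, ht, rfl⟩ := mem_rootSubgroups_iff.1 hF
  set E := Cfsg.sameActionSubgroup G (tt s) with hEdef
  set F := Cfsg.sameActionSubgroup G (tt t) with hFdef
  have hcent : ∀ c ∈ ⁅E ⊔ F, E ⊔ F⁆, ∀ g ∈ E ⊔ F, c * g = g * c := fun c hc g hg =>
    commute_of_commutator_eq_bot h2.2 hc hg
  -- the pair is unipotent
  have hst : s * t * s = 0 := by
    by_contra hst
    obtain ⟨y, hy, hy0, hP⟩ := exists_partner' h2k hk3 hs ht hst (self_mem_cls hs.1) hs.2.1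
    have hsX : tt s ∈ E ⊔ F := Subgroup.mem_sup_left (tt_esub hs (self_mem_cls hs.1))
    have hyX : tt y ∈ E ⊔ F := Subgroup.mem_sup_right (tt_esub ht hy)
    have hW : swp s y ∈ E ⊔ F := by
      refine mul_mem (mul_mem hsX ?_) hsX
      rw [tt_neg hy.1.1]; exact inv_mem hyX
    have hc := hcent _ (Subgroup.commutator_mem_commutator hW hsX) _ hsX
    have e : ⁅swp s y, tt s⁆ = (tt y)⁻¹ * (tt s)⁻¹ := by
      rw [commutatorElement_def, tt_conj _ hs.1.1, (swp_conj hP).1, tt_neg hy.1.1]
    rw [e, inv_mul_cancel_right, ← mul_assoc, ← tt_neg hy.1.1, ← tt_neg hs.1.1] at hc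
    have hcomm : tt (-y) * tt s = tt s * tt (-y) := by
      conv_lhs => rw [hc]
      rw [mul_assoc, tt_neg hs.1.1, inv_mul_cancel, mul_one]
    have hyy : -y * -y = 0 := by rw [neg_mul_neg]; exact hy.1.1
    have hv := congrArg (fun g : LinearMap.GeneralLinearGroup k M => g.1) hcomm
    simp only [Units.val_mul, tt_val hs.1.1, tt_val hyy] at hv
    have hys : y * s = s * y := by
      have : (1 + -y) * (1 + s) - (1 + s) * (1 + -y) = 0 := by rw [hv, sub_self]
      rw [show (1 + -y) * (1 + s) - (1 + s) * (1 + -y) = s * y - y * s by noncomm_ring, sub_eq_zero] at this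
      exact this.symm
    apply hs.2.1
    rw [← hP.xyx, mul_assoc, hys, ← mul_assoc, hs.1.1, zero_mul]
  have hts := tst_eq_zero h2k hs ht hst
  have hxy : ∀ x ∈ cls G s, ∀ y ∈ cls G t, x * y * x = 0 ∧ y * x * y = 0 := fun x hx y hy =>
    ⟨triple_zero_congr hst hs hx hx hy ht h2k, triple_zero_congr hts ht hy hy hx hs h2k⟩
  have hcomm : ∀ x ∈ cls G s, ∀ y ∈ cls G t,
      tt x * tt y * (tt x)⁻¹ * (tt y)⁻¹ = tt (x * y - y * x) :=
    fun x hx y hy => comm_tt hx.1.1 hy.1.1 (hxy x hx y hy).1 (hxy x hx y hy).2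
  have h0 : s * t - t * s ≠ 0 := by
    intro hz
    apply h2.1
    refine commutator_eq_bot_of_commute fun a ha b hb => ?_
    have hEF : ∀ u ∈ E, ∀ v ∈ F, u * v = v * u := by
      intro u hu v hv
      obtain ⟨x, hx, rfl⟩ := (mem_sameAction_iff hs).1 hu
      obtain ⟨y, hy, rfl⟩ := (mem_sameAction_iff ht).1 hv
      have hzero : x * y - y * x = 0 := by
        by_contra hne
        rcases eq_or_ne x 0 with rfl | hx0
        · simp at hne
        rcases eq_or_ne y 0 with rfl | hy0
        · simp at hne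
        obtain ⟨hmx, -, -⟩ := cls_min hs hx hx0
        obtain ⟨hmy, -, -⟩ := cls_min ht hy hy0
        have := (comm_all h2k hmx hmy (hxy x hx y hy).1 hne (x := s) (y := t)
          (by rw [cls_eq hs hx hx0]; exact self_mem_cls hs.1)
          (by rw [cls_eq ht hy hy0]; exact self_mem_cls ht.1)).2.2.1 hz
        exact this.elim hs.2.1 ht.2.1
      have h := hcomm x hx y hy
      rw [hzero, tt_zero, mul_inv_eq_one, mul_inv_eq_iff_eq_mul] at h
      exact h
    have hab : IsMulCommutative E := esub_comm hs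
    have hbb : IsMulCommutative F := esub_comm ht
    have hle : E ⊔ F ≤ Subgroup.centralizer ((E ⊔ F : Subgroup _) : Set (LinearMap.GeneralLinearGroup k M)) := by
      rw [Subgroup.le_centralizer_iff]
      refine sup_le (fun u hu => ?_) (fun u hu => ?_) <;>
        rw [Subgroup.mem_centralizer_iff] <;> intro w hw <;> revert w <;>
        refine fun w hw => ?_
      · have : E ⊔ F ≤ Subgroup.centralizer {u} := sup_le
          (fun v hv => Subgroup.mem_centralizer_singleton_iff.2
            (congrArg Subtype.val (hab.is_comm.comm (⟨v, hv⟩ : E) ⟨u, hu⟩)))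
          (fun v hv => Subgroup.mem_centralizer_singleton_iff.2 (hEF u hu v hv).symm)
        exact Subgroup.mem_centralizer_singleton_iff.1 (this hw)
      · have : E ⊔ F ≤ Subgroup.centralizer {u} := sup_le
          (fun v hv => Subgroup.mem_centralizer_singleton_iff.2 (hEF v hv u hu))
          (fun v hv => Subgroup.mem_centralizer_singleton_iff.2
            (congrArg Subtype.val (hbb.is_comm.comm (⟨v, hv⟩ : F) ⟨u, hu⟩)))
        exact Subgroup.mem_centralizer_singleton_iff.1 (this hw)
    exact (Subgroup.mem_centralizer_iff.1 (hle ha) b hb).symm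
  obtain ⟨hδ, -, -, hR, hK⟩ := comm_all h2k hs ht hst h0 (self_mem_cls hs.1) (self_mem_cls ht.1)
  set δ := s * t - t * s with hδdef
  set D := Cfsg.sameActionSubgroup G (tt δ) with hDdef
  have hmemD : ∀ x ∈ cls G s, ∀ y ∈ cls G t, x * y - y * x ∈ cls G δ := fun x hx y hy =>
    (comm_all h2k hs ht hst h0 hx hy).2.1
  have hδ' : t * s - s * t ≠ 0 := fun e => h0 (by rw [hδdef, ← neg_sub, e, neg_zero])
  have hleft : ∀ x ∈ cls G s, x ≠ 0 →
      Subgroup.closure ((fun f : LinearMap.GeneralLinearGroup k M => tt x * f * (tt x)⁻¹ * f⁻¹) '' (F : Set _)) = D := by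
    intro x hx hx0
    refine le_antisymm ((Subgroup.closure_le _).2 ?_) ?_
    · rintro _ ⟨f, hf, rfl⟩
      obtain ⟨y, hy, rfl⟩ := (mem_sameAction_iff ht).1 hf
      show _ * _ * _ * _ ∈ D
      rw [hcomm x hx y hy]
      exact tt_esub hδ (hmemD x hx y hy)
    · intro σ hσ
      obtain ⟨z, hz, rfl⟩ := (mem_sameAction_iff hδ).1 hσ
      obtain ⟨y, hy, he⟩ := exists_comm_eq h2k hk3 hG hs ht hst h0 hx hx0 hz
      refine Subgroup.subset_closure ⟨tt y, tt_esub ht hy, ?_⟩
      show _ * _ * _ * _ = _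
      rw [hcomm x hx y hy, he]
  have hright : ∀ y ∈ cls G t, y ≠ 0 →
      Subgroup.closure ((fun e : LinearMap.GeneralLinearGroup k M => e * tt y * e⁻¹ * (tt y)⁻¹) '' (E : Set _)) = D := by
    intro y hy hy0
    refine le_antisymm ((Subgroup.closure_le _).2 ?_) ?_
    · rintro _ ⟨f, hf, rfl⟩
      obtain ⟨x, hx, rfl⟩ := (mem_sameAction_iff hs).1 hf
      show _ * _ * _ * _ ∈ D
      rw [hcomm x hx y hy]
      exact tt_esub hδ (hmemD x hx y hy)
    · intro σ hσ
      obtain ⟨z, hz, rfl⟩ := (mem_sameAction_iff hδ).1 hσ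
      have hz' : -z ∈ cls G (t * s - s * t) := by
        rw [← neg_sub, ← hδdef, cls_eq hδ (neg_mem (self_mem_cls hδ.1)) (neg_ne_zero.2 h0)]
        exact neg_mem hz
      obtain ⟨x, hx, he⟩ := exists_comm_eq h2k hk3 hG ht hs hts hδ' hy hy0 hz'
      refine Subgroup.subset_closure ⟨tt x, tt_esub hs hx, ?_⟩
      show _ * _ * _ * _ = _
      rw [hcomm x hx y hy, ← neg_sub, he, neg_neg]
  have hEF : ⁅E, F⁆ = D := by
    refine le_antisymm (Subgroup.commutator_le.2 fun u hu v hv => ?_) ?_
    · obtain ⟨x, hx, rfl⟩ := (mem_sameAction_iff hs).1 hu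
      obtain ⟨y, hy, rfl⟩ := (mem_sameAction_iff ht).1 hv
      rw [commutatorElement_def, hcomm x hx y hy]
      exact tt_esub hδ (hmemD x hx y hy)
    · rw [← hleft s (self_mem_cls hs.1) hs.2.1, Subgroup.closure_le]
      rintro _ ⟨f, hf, rfl⟩
      exact Subgroup.commutator_mem_commutator (tt_esub hs (self_mem_cls hs.1)) hf
  rw [hEF]
  refine ⟨mem_rootSubgroups_iff.2 ⟨δ, hδ, rfl⟩, ?_, ?_, ?_⟩
  · intro e he he1
    obtain ⟨x, hx, rfl⟩ := (mem_sameAction_iff hs).1 he
    exact hleft x hx fun h => he1 (by rw [h, tt_zero])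
  · intro f hf hf1
    obtain ⟨y, hy, rfl⟩ := (mem_sameAction_iff ht).1 hf
    exact hright y hy fun h => hf1 (by rw [h, tt_zero])
  · -- the unipotent core
    set K := kerC s t with hKdef
    set R := rangeC s t with hRdef
    have hDd : ∀ g ∈ D, LinearMap.range (g.1 - 1) ≤ R ∧ K ≤ LinearMap.ker (g.1 - 1) := by
      intro g hg
      obtain ⟨z, hz, rfl⟩ := (mem_sameAction_iff hδ).1 hg
      rw [tt_val hz.1.1, add_sub_cancel_left]
      exact ⟨hR ▸ hz.2.2.trans inf_le_left, hK ▸ hz.2.1⟩
    have hδD : tt δ ∈ D := tt_esub hδ (self_mem_cls hδ.1)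
    have hfixD : Cfsg.fixedSubmodule D = K := by
      refine le_antisymm (fun v hv => ?_) (le_iInf₂ fun g hg => (hDd g hg).2)
      simp only [Cfsg.fixedSubmodule, Submodule.mem_iInf] at hv
      have := hv _ hδD
      rwa [tt_val hδ.1.1, add_sub_cancel_left, hK] at this
    have hcomD : Cfsg.commutatorSubmodule D = R := by
      refine le_antisymm (iSup₂_le fun g hg => (hDd g hg).1) ?_
      refine le_trans (le_of_eq ?_) (le_iSup₂ (f := fun g (_ : g ∈ D) => LinearMap.range (g.1 - 1)) (tt δ) hδD)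
      rw [tt_val hδ.1.1, add_sub_cancel_left, hR]
    have hRK : R ≤ K := sup_le
      (le_inf (inf_le_left.trans le_sup_right) (inf_le_left.trans (((self_mem_cls hs.1).2.2.trans inf_le_right).trans le_sup_left)))
      (le_inf (inf_le_left.trans (((self_mem_cls ht.1).2.2.trans inf_le_right).trans le_sup_left)) (inf_le_left.trans le_sup_right))
    let U : Subgroup (LinearMap.GeneralLinearGroup k M) :=
      { carrier := {g | (∀ m, g.1 m - m ∈ K) ∧ (∀ m ∈ K, g.1 m - m ∈ R) ∧ ∀ m ∈ R, g.1 m = m}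
        one_mem' := ⟨fun m => by simp, fun m _ => by simp, fun m _ => rfl⟩
        mul_mem' := fun {a b} ha hb => by
          refine ⟨fun m => ?_, fun m hm => ?_, fun m hm => ?_⟩
          · rw [Units.val_mul, mul_apply', ← sub_add_sub_cancel (a.1 (b.1 m)) (b.1 m) m]
            exact add_mem (ha.1 _) (hb.1 _)
          · rw [Units.val_mul, mul_apply', ← sub_add_sub_cancel (a.1 (b.1 m)) (b.1 m) m]
            refine add_mem (ha.2.1 _ ?_) (hb.2.1 m hm)
            have := K.add_mem (hb.1 m) hm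
            rwa [sub_add_cancel] at this
          · rw [Units.val_mul, mul_apply', hb.2.2 m hm, ha.2.2 m hm]
        inv_mem' := fun {a} ha => by
          have hinv : ∀ m, a.1 (a⁻¹.1 m) = m := fun m => by rw [← mul_apply', Units.mul_inv]; rfl
          refine ⟨fun m => ?_, fun m hm => ?_, fun m hm => ?_⟩
          · have := neg_mem (ha.1 (a⁻¹.1 m))
            rwa [hinv, neg_sub] at this
          · have h1 : a⁻¹.1 m ∈ K := by
              have := K.add_mem (neg_mem (ha.1 (a⁻¹.1 m))) hm
              rwa [hinv, neg_sub, sub_add_cancel] at this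
            have := neg_mem (ha.2.1 _ h1)
            rwa [hinv, neg_sub] at this
          · conv_lhs => rw [← ha.2.2 m hm, ← mul_apply', Units.inv_mul]
            rfl }
    have hgenU : ∀ {a b : M →ₗ[k] M}, IsMin G a → IsMin G b → b * a * b = 0 →
        kerC a b = K → rangeC a b = R → Cfsg.sameActionSubgroup G (tt a) ≤ U := by
      intro a b ha hb hbab hk hr g hg
      obtain ⟨x, hx, rfl⟩ := (mem_sameAction_iff ha).1 hg
      have hval : ∀ m, (tt x).1 m - m = x m := fun m => by
        rw [tt_val hx.1.1, LinearMap.add_apply, Module.End.one_apply, add_sub_cancel_left]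
      have hN : ∀ m, x m ∈ LinearMap.range a ⊓ LinearMap.ker a := fun m => hx.2.2 ⟨m, rfl⟩
      refine ⟨fun m => ?_, fun m hm => ?_, fun m hm => ?_⟩
      · rw [hval, ← hk]
        exact ⟨Submodule.mem_sup_right (hN m).1, Submodule.mem_sup_left (hN m).2⟩
      · rw [hval, ← hr]
        rw [← hk] at hm
        obtain ⟨c, hc, d, ⟨w, rfl⟩, rfl⟩ := Submodule.mem_sup.1 hm.2
        rw [map_add, LinearMap.mem_ker.1 (hx.2.1 hc), zero_add]
        refine Submodule.mem_sup_left ⟨(hN _).1, ?_⟩
        exact LinearMap.congr_fun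
          (triple_zero_congr hbab hb (self_mem_cls hb.1) (self_mem_cls hb.1) hx ha h2k) w
      · rw [← hr] at hm
        rw [← sub_eq_zero, hval]
        refine LinearMap.mem_ker.1 (hx.2.1 ?_)
        obtain ⟨c, hc, d, hd, rfl⟩ := Submodule.mem_sup.1 hm
        exact add_mem ((self_mem_cls ha.1).2.2 hc.1).2 hd.2
    have hU : E ⊔ F ≤ U := sup_le (hgenU hs ht hts rfl rfl)
      (hgenU ht hs hst (inf_comm _ _) (sup_comm _ _))
    have hDEF : D ≤ ⁅E ⊔ F, E ⊔ F⁆ := hEF ▸ Subgroup.commutator_mono le_sup_left le_sup_right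
    intro g hg
    obtain ⟨g1, g2, g3⟩ := hU hg
    have hgG : g ∈ G := (sup_le (esub_le hs) (esub_le ht) : E ⊔ F ≤ G) hg
    refine ⟨hgG, ?_, fun m => by rw [hfixD]; exact g1 m,
      fun m hm => by rw [hcomD]; exact g2 m (hfixD ▸ hm), fun m hm => g3 m (hcomD ▸ hm)⟩
    rw [Subgroup.mem_normalizer_iff]
    intro d
    constructor
    · intro hd
      rw [← hcent d (hDEF hd) g hg]
      simpa using hd
    · intro hd
      have := hcent _ (hDEF hd) g hg
      rw [mul_assoc, inv_mul_cancel, mul_one] at this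
      rw [mul_left_cancel (a := g) (b := d) (c := g * d * g⁻¹) this]
      exact hd

end Cfsg.Agent.S5066
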