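import Cfsg.Statements.S5067

set_option autoImplicit false
open Cfsg

namespace Cfsg.Agent.S5067

open scoped commutatorElement in
theorem class_lt {P : Type*} [Group P] [Group.IsNilpotent P] (hna : ¬ IsMulCommutative P)
    {E : Subgroup P} (hE : IsMulCommutative ↥E) :
    Group.nilpotencyClass ↥(Subgroup.normalClosure (E : Set P)) < Group.nilpotencyClass P := by
  obtain ⟨d, hd⟩ : ∃ d, Group.nilpotencyClass P = d + 2 := by
    refine ⟨Group.nilpotencyClass P - 2, ?_⟩
    by_contra h
    apply hna
    have h1 : Group.nilpotencyClass P ≤ 1 := by omega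
    rw [← Subgroup.lowerCentralSeries_eq_bot_iff_nilpotencyClass_le,
      Subgroup.top_lowerCentralSeries_one, commutator_def, Subgroup.eq_bot_iff_forall] at h1
    exact ⟨⟨fun x y => commutatorElement_eq_one_iff_mul_comm.mp
      (h1 _ (Subgroup.commutator_mem_commutator (Subgroup.mem_top x) (Subgroup.mem_top y)))⟩⟩
  set M := Subgroup.normalClosure (E : Set P) with hM
  have hMle : M ≤ E ⊔ (⊤ : Subgroup P).lowerCentralSeries 1 := by
    have : (E ⊔ (⊤ : Subgroup P).lowerCentralSeries 1).Normal := by
      refine ⟨fun x hx g => ?_⟩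
      have h2 : g * x * g⁻¹ = ⁅g, x⁆ * x := by rw [commutatorElement_def]; group
      rw [h2]
      refine mul_mem (Subgroup.mem_sup_right ?_) hx
      rw [Subgroup.top_lowerCentralSeries_one, commutator_def]
      exact Subgroup.commutator_mem_commutator (Subgroup.mem_top g) (Subgroup.mem_top x)
    exact Subgroup.normalClosure_le_normal fun x hx => Subgroup.mem_sup_left hx
  have hstep : ∀ i, M.lowerCentralSeries (i + 1) ≤ (⊤ : Subgroup P).lowerCentralSeries (i + 2) := by
    intro i
    induction i with
    | zero =>
      simp only [Nat.reduceAdd, Subgroup.lowerCentralSeries_succ, Subgroup.lowerCentralSeries_zero]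
      rw [Subgroup.commutator_le]
      intro x hx y hy
      obtain ⟨e, he, g, hg, rfl⟩ := Subgroup.mem_sup_of_normal_right.mp (hMle hx)
      obtain ⟨e', he', g', hg', rfl⟩ := Subgroup.mem_sup_of_normal_right.mp (hMle hy)
      let N := (⊤ : Subgroup P).lowerCentralSeries 2
      show ⁅e * g, e' * g'⁆ ∈ N
      rw [← QuotientGroup.eq_one_iff, ← QuotientGroup.mk'_apply, map_commutatorElement,
        commutatorElement_eq_one_iff_mul_comm, map_mul, map_mul]
      have hc : ∀ {u : P}, u ∈ (⊤ : Subgroup P).lowerCentralSeries 1 → ∀ v : P,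
          QuotientGroup.mk' N u * QuotientGroup.mk' N v
            = QuotientGroup.mk' N v * QuotientGroup.mk' N u := by
        intro u hu v
        rw [← commutatorElement_eq_one_iff_mul_comm, ← map_commutatorElement,
          QuotientGroup.mk'_apply, QuotientGroup.eq_one_iff]
        exact Subgroup.commutator_mem_commutator hu (Subgroup.mem_top v)
      have hee : e * e' = e' * e := congrArg Subtype.val (hE.is_comm.comm (⟨e, he⟩ : E) ⟨e', he'⟩)
      have hee' : QuotientGroup.mk' N e * QuotientGroup.mk' N e'
          = QuotientGroup.mk' N e' * QuotientGroup.mk' N e := by rw [← map_mul, hee, map_mul]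
      have c1 : Commute (QuotientGroup.mk' N e) (QuotientGroup.mk' N e') := hee'
      have c2 : ∀ v, Commute (QuotientGroup.mk' N g) (QuotientGroup.mk' N v) := hc hg
      have c3 : ∀ v, Commute (QuotientGroup.mk' N g') (QuotientGroup.mk' N v) := hc hg'
      exact ((c1.mul_right (c3 e).symm).mul_left ((c2 e').mul_right (c2 g'))).eq
    | succ i ih =>
      rw [Subgroup.lowerCentralSeries_succ, Subgroup.lowerCentralSeries_succ (n := i + 2)]
      exact Subgroup.commutator_mono ih le_top
  have hbot : M.lowerCentralSeries (d + 1) = ⊥ := by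
    refine le_bot_iff.mp ((hstep d).trans ?_)
    rw [← hd, Subgroup.lowerCentralSeries_nilpotencyClass]
  have : Group.nilpotencyClass ↥M ≤ d + 1 := by
    rw [← Subgroup.lowerCentralSeries_eq_bot_iff_nilpotencyClass_le,
      ← Subgroup.map_subtype_inj, Subgroup.map_bot, Subgroup.top_subtype_lowerCentralSeries]
    exact hbot
  omega

/-- Let P be a non-abelian nilpotent p-group (every element of p-power order; P possibly infinite) generated by two abelian subgroups E and F. Then the normal closure of E in P, and likewise that of F, has nilpotency class strictly smaller than that of P. -/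
theorem result {P : Type*} [Group P] {p : ℕ} [Fact p.Prime] (hP : IsPGroup p P) [Group.IsNilpotent P]
    (hna : ¬ IsMulCommutative P) {E F : Subgroup P} (hE : IsMulCommutative ↥E) (hF : IsMulCommutative ↥F) (hgen : E ⊔ F = ⊤) :
    Group.nilpotencyClass ↥(Subgroup.normalClosure (E : Set P)) < Group.nilpotencyClass P ∧
    Group.nilpotencyClass ↥(Subgroup.normalClosure (F : Set P)) < Group.nilpotencyClass P := by
  exact ⟨class_lt hna hE, class_lt hna hF⟩

end Cfsg.Agent.S5067
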