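import Cfsg.Statements.S5068
import Cfsg.Agent.Lib.Quadratic.ClassTwo

set_option autoImplicit false
universe u
open Cfsg

namespace Cfsg.Agent.S5068

/-- Let k be a field of characteristic not 2 with k not of order 3, M a finite-dimensional k-vector space and G ≤ GL(M) such that (G, M) is a quadratic pair (M irreducible for G, and G generated by its quadratically acting elements σ whose scalar family 1 + c(σ − 1), c ∈ k, lies in G). Write 𝒬_d for the quadratic elements of G of minimal commutator rank, E(σ) for the subgroup generated by the members of 𝒬_d with the same fixed space and commutator space as σ, and Σ for the set of these subgroups. Let E, F ∈ Σ generate a subgroup acting unipotently on M. Then either E and F commute elementwise, or L = ⁅E, F⁆ belongs to Σ, equals the subgroup generated by the commutators of e with F, and of E with f, for all non-identity e ∈ E, f ∈ F, the group ⟨E, F⟩ is nilpotent of class two, and ⟨E, F⟩ lies in U(L), the set of elements g of G normalizing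 L with (g − 1)M inside the fixed space of L, (g − 1) mapping that fixed space into the commutator space of L, and g acting trivially on the commutator space of L. -/
theorem result {k : Type u} [Field k] (hk2 : ringChar k ≠ 2) (hk3 : Nat.card k ≠ 3)
    {M : Type u} [AddCommGroup M] [Module k M] [FiniteDimensional k M]
    {G : Subgroup (LinearMap.GeneralLinearGroup k M)} (hG : Cfsg.IsQuadraticPair G)
    {E F : Subgroup (LinearMap.GeneralLinearGroup k M)} (hE : E ∈ Cfsg.quadraticRootSubgroups G) (hF : F ∈ Cfsg.quadraticRootSubgroups G)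
    (hu : Cfsg.IsUnipotentOn (E ⊔ F)) :
    ⁅E, F⁆ = ⊥ ∨
    (⁅E, F⁆ ∈ Cfsg.quadraticRootSubgroups G ∧
      (∀ e ∈ E, e ≠ 1 → Subgroup.closure ((fun f : LinearMap.GeneralLinearGroup k M => e * f * e⁻¹ * f⁻¹) '' (F : Set (LinearMap.GeneralLinearGroup k M))) = ⁅E, F⁆) ∧
      (∀ f ∈ F, f ≠ 1 → Subgroup.closure ((fun e : LinearMap.GeneralLinearGroup k M => e * f * e⁻¹ * f⁻¹) '' (E : Set (LinearMap.GeneralLinearGroup k M))) = ⁅E, F⁆) ∧
      ⁅E ⊔ F, E ⊔ F⁆ ≠ ⊥ ∧ ⁅⁅E ⊔ F, E ⊔ F⁆, E ⊔ F⁆ = ⊥ ∧
      ((E ⊔ F : Subgroup (LinearMap.GeneralLinearGroup k M)) : Set (LinearMap.GeneralLinearGroup k M)) ⊆ Cfsg.quadraticUnipotentCore G ⁅E, F⁆) := by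
  have h2 : (2 : k) ≠ 0 := Ring.two_ne_zero hk2
  obtain ⟨s, hs, rfl⟩ := CfsgLib.Quadratic.mem_rootSubgroups_iff.1 hE
  obtain ⟨t, ht, rfl⟩ := CfsgLib.Quadratic.mem_rootSubgroups_iff.1 hF
  have hself := fun {x : M →ₗ[k] M} (hx : CfsgLib.Quadratic.IsMin G x) =>
    (CfsgLib.Quadratic.mem_sameAction_iff hx).2 ⟨x, CfsgLib.Quadratic.self_mem_cls hx.1, rfl⟩
  obtain ⟨hsts, htst⟩ := CfsgLib.Quadratic.sts_eq_zero_of_unipotent h2 hu hs ht
    (Subgroup.mem_sup_left (hself hs)) (Subgroup.mem_sup_right (hself ht))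
  by_cases hc : s * t = t * s
  · exact Or.inl (CfsgLib.Quadratic.commutator_eq_bot h2 hs ht (CfsgLib.Quadratic.self_mem_cls hs.1) hs.2.1
      (CfsgLib.Quadratic.self_mem_cls ht.1) ht.2.1 hc)
  · exact Or.inr (CfsgLib.Quadratic.TwoStep.pair_main h2 hk3 hG.1 ⟨hs, ht, hsts, htst, sub_ne_zero.2 hc⟩)

end Cfsg.Agent.S5068
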