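import Cfsg.Statements.S5073
import Cfsg.Agent.Lib.Quadratic.UnipotentPairs

set_option autoImplicit false
universe u
open Cfsg

namespace Cfsg.Agent.S5073

/-- Let k be a field of characteristic not 2 with k not of order 3, M a finite-dimensional k-vector space and G ≤ GL(M) such that (G, M) is a quadratic pair (M irreducible for G, and G generated by its quadratically acting elements σ whose scalar family 1 + c(σ − 1), c ∈ k, lies in G). Write 𝒬_d for the quadratic elements of G of minimal commutator rank, E(σ) for the subgroup generated by the members of 𝒬_d with the same fixed space and commutator space as σ, and Σ for the set of these subgroups. Let E, F ∈ Σ. If some non-identity element of E commutes with some non-identity element of F, or some non-identity element of E normalizes F, then E and F commute elementwise. -/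
theorem result {k : Type u} [Field k] (hk2 : ringChar k ≠ 2) (hk3 : Nat.card k ≠ 3)
    {M : Type u} [AddCommGroup M] [Module k M] [FiniteDimensional k M]
    {G : Subgroup (LinearMap.GeneralLinearGroup k M)} (hG : Cfsg.IsQuadraticPair G)
    {E F : Subgroup (LinearMap.GeneralLinearGroup k M)} (hE : E ∈ Cfsg.quadraticRootSubgroups G) (hF : F ∈ Cfsg.quadraticRootSubgroups G)
    (h : (∃ e ∈ E, e ≠ 1 ∧ ∃ f ∈ F, f ≠ 1 ∧ e * f = f * e) ∨ E ⊓ Subgroup.normalizer (F : Set (LinearMap.GeneralLinearGroup k M)) ≠ ⊥) :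
    ⁅E, F⁆ = ⊥ := by
  have h2 : (2 : k) ≠ 0 := Ring.two_ne_zero hk2
  obtain ⟨s, hs, rfl⟩ := CfsgLib.Quadratic.mem_rootSubgroups_iff.1 hE
  obtain ⟨t, ht, rfl⟩ := CfsgLib.Quadratic.mem_rootSubgroups_iff.1 hF
  rcases h with ⟨e, he, he1, f, hf, hf1, hc⟩ | hn
  · obtain ⟨x, hx, rfl⟩ := (CfsgLib.Quadratic.mem_sameAction_iff hs).1 he
    obtain ⟨y, hy, rfl⟩ := (CfsgLib.Quadratic.mem_sameAction_iff ht).1 hf
    exact CfsgLib.Quadratic.commutator_eq_bot h2 hs ht hx
      (fun h0 => he1 (by rw [h0, CfsgLib.Quadratic.tt_zero])) hy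
      (fun h0 => hf1 (by rw [h0, CfsgLib.Quadratic.tt_zero]))
      ((CfsgLib.Quadratic.commute_tt_iff hx.1.1 hy.1.1).1 hc)
  · obtain ⟨e, ⟨he, hen⟩, he1⟩ := (Subgroup.bot_or_exists_ne_one _).resolve_left hn
    obtain ⟨x, hx, rfl⟩ := (CfsgLib.Quadratic.mem_sameAction_iff hs).1 he
    have hx0 : x ≠ 0 := fun h0 => he1 (by rw [h0, CfsgLib.Quadratic.tt_zero])
    have hself := CfsgLib.Quadratic.self_mem_cls ht.1
    have hmem := (Subgroup.mem_normalizer_iff.1 hen (CfsgLib.Quadratic.tt t)).1
      ((CfsgLib.Quadratic.mem_sameAction_iff ht).2 ⟨t, hself, rfl⟩)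
    rw [CfsgLib.Quadratic.tt_conj _ ht.1.1] at hmem
    obtain ⟨z, hz, hze⟩ := (CfsgLib.Quadratic.mem_sameAction_iff ht).1 hmem
    have hez := CfsgLib.Quadratic.tt_inj (CfsgLib.Quadratic.conj_sq _ ht.1.1) hz.1.1 hze
    exact CfsgLib.Quadratic.commutator_eq_bot h2 hs ht hx hx0 hself ht.2.1
      (CfsgLib.Quadratic.commute_of_normalizes h2 (CfsgLib.Quadratic.cls_min hs hx hx0).1 ht (by rw [hez]; exact hz))

end Cfsg.Agent.S5073
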