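import Cfsg.Statements.S5083
import Cfsg.Agent.Lib.Fusion.Alperin
-- import your own Cfsg.Agent.* helpers here

set_option autoImplicit false
open Cfsg

namespace Cfsg.Agent.S5083

/-- If F is a saturated fusion system over a finite p-group S in which Aut_F(P) is a p-group for every P ≤ S, then F is the inner fusion system of S (all its maps are conjugations by elements of S). -/
theorem result {Ω : Type*} [Group Ω] {S : Subgroup Ω} [Finite S] (p : ℕ) [Fact p.Prime] (hS : IsPGroup p S) (F : Cfsg.FusionSystem S) (hF : F.IsSaturated p) (h : ∀ P : Subgroup Ω, P ≤ S → IsPGroup p (F.autGroup P)) : F = Cfsg.innerFusionSystem S := by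
  refine CfsgLib.Fusion.le_antisymm' (CfsgLib.Fusion.alperin hS hF _ ?_) (CfsgLib.Fusion.inner_le F)
  rintro P (rfl | hP)
  · intro α hα
    have := CfsgLib.Fusion.finite_mulAut (le_refl P)
    obtain ⟨-, T, hT⟩ := ((CfsgLib.Fusion.saturated_iff_top_and_receptive hS).mp hF).1
    have htop : (T : Subgroup (F.autGroup P)) = ⊤ :=
      (T.3 ((h P le_rfl).to_subgroup ⊤) le_top).symm
    exact CfsgLib.Fusion.autInducedBy_le_autGroup le_rfl (hT.le (htop.ge (Subgroup.mem_top ⟨α, hα⟩)))
  · exfalso
    obtain ⟨hc, hn, hN, E, hE⟩ := hP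
    have := CfsgLib.Fusion.finite_mulAut hn.1
    obtain ⟨R, hR⟩ := CfsgLib.Fusion.exists_embeddingData hE
    exact hE.2.1 (top_le_iff.mp
      ((le_of_eq (R.3 (((h P hn.1).to_quotient _).to_subgroup ⊤) le_top)).trans hR.le))

end Cfsg.Agent.S5083
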