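import Cfsg.Statements.S5085
import Cfsg.Agent.Lib.Fusion.ExtSystem
-- import your own Cfsg.Agent.* helpers here

set_option autoImplicit false
open Cfsg

namespace Cfsg.Agent.S5085

/-- In any fusion system, a characteristic subgroup of a subgroup that is normal in the system is itself normal in the system. -/
theorem result {Ω : Type*} [Group Ω] {S : Subgroup Ω} (F : Cfsg.FusionSystem S) (Q U : Subgroup Ω) (hQ : F.IsNormal Q) (hUQ : U ≤ Q) (hU : (U.subgroupOf Q).Characteristic) : F.IsNormal U := by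
  have hUS : U ≤ S := hUQ.trans hQ.1
  refine ⟨hUS, fun P φ hφ => ?_⟩
  obtain ⟨ψ, hψ, hψe, hψQ⟩ := hQ.2 P φ hφ
  obtain ⟨κ, hκ⟩ := (CfsgLib.Fusion.map_eq_iff_exists_aut hψ).mp hψQ
  have hle : P ⊔ U ≤ P ⊔ Q := sup_le_sup_left hUQ P
  refine ⟨_, CfsgLib.Fusion.restrict_mem hle hψ, fun x => hψe x, ?_⟩
  ext y
  rw [CfsgLib.Fusion.mem_map_subgroupOf]
  constructor
  · rintro ⟨x, hx, rfl⟩
    show ψ _ ∈ U
    have e : ψ ⟨(x : Ω), Subgroup.mem_sup_right (hUQ hx)⟩ = ((κ ⟨(x : Ω), hUQ hx⟩ : Q) : Ω) := hκ ⟨(x : Ω), hUQ hx⟩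
    rw [show (Subgroup.inclusion hle x : ↥(P ⊔ Q)) = ⟨(x : Ω), Subgroup.mem_sup_right (hUQ hx)⟩ from rfl, e]
    exact (hU.fixed κ).ge (Subgroup.mem_subgroupOf.mpr hx)
  · intro hy
    have hz : ((κ.symm ⟨y, hUQ hy⟩ : Q) : Ω) ∈ U := by
      have h := (hU.fixed κ.symm).ge (Subgroup.mem_subgroupOf.mpr hy : (⟨y, hUQ hy⟩ : Q) ∈ U.subgroupOf Q)
      exact h
    refine ⟨⟨_, Subgroup.mem_sup_right hz⟩, hz, ?_⟩
    show ψ _ = y
    have e := hκ (κ.symm ⟨y, hUQ hy⟩)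
    rw [MulEquiv.apply_symm_apply] at e
    exact e

end Cfsg.Agent.S5085
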