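import Cfsg.Statements.S5104
import Cfsg.Agent.Lib.Fusion.Saturated
-- import your own Cfsg.Agent.* helpers here

set_option autoImplicit false
open Cfsg

namespace Cfsg.Agent.S5104

/-- In a saturated fusion system over a finite p-group S, a fully centralized subgroup U with C_S(U) ≤ U is centric. -/
theorem result {Ω : Type*} [Group Ω] {S : Subgroup Ω} [Finite S] (p : ℕ) [Fact p.Prime] (hS : IsPGroup p S) (F : Cfsg.FusionSystem S) (hF : F.IsSaturated p) (U : Subgroup Ω) (hU : F.IsFullyCentralized U) (hC : Cfsg.FusionSystem.centralizerIn S U ≤ U) : F.IsCentric U := by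
  refine ⟨hU.1, fun Q hQ => ?_⟩
  have hQS : Q ≤ S := CfsgLib.Fusion.IsConj.le_right hQ
  obtain ⟨φ, hφ, hr⟩ := hQ
  have hm : ∀ z : ↥(Cfsg.FusionSystem.centralizerIn S U), φ ⟨z, hC z.2⟩ ∈ Cfsg.FusionSystem.centralizerIn S Q := by
    intro z
    refine ⟨CfsgLib.Fusion.apply_mem_S hφ _, Subgroup.mem_centralizer_iff.mpr fun y hy => ?_⟩
    obtain ⟨x, rfl⟩ := hr.ge hy
    rw [← map_mul, ← map_mul]
    exact CfsgLib.Fusion.apply_eq_of_coe_eq (Subgroup.mem_centralizer_iff.mp z.2.2 x x.2)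
  have he := CfsgLib.Fusion.range_eq_of_card_le (CfsgLib.Fusion.restrict_mem hC hφ)
    CfsgLib.Fusion.centralizerIn_le hm (hU.2 Q ⟨φ, hφ, hr⟩)
  rw [← he]
  rintro _ ⟨z, rfl⟩
  exact hr.le ⟨_, rfl⟩

end Cfsg.Agent.S5104
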