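import Cfsg.Statements.S5107
import Cfsg.Agent.Lib.Fusion.Normal
import Cfsg.Agent.Lib.Fusion.Group
-- import your own Cfsg.Agent.* helpers here

set_option autoImplicit false
open Cfsg

namespace Cfsg.Agent.S5107

/-- If a Sylow p-subgroup S of a finite group G has nilpotency class at most two and its centre is strongly closed in S with respect to G, then every map of the fusion system of G on S is conjugation by an element of N_G(S), and S is the largest subgroup normal in that fusion system. -/
theorem result {G : Type*} [Group G] [Finite G] (p : ℕ) [Fact p.Prime] (S : Sylow p G) (hcl : ⁅(S : Subgroup G), (S : Subgroup G)⁆ ≤ (S : Subgroup G) ⊓ Subgroup.centralizer ((S : Subgroup G) : Set G)) (hZ : Cfsg.IsStronglyClosed ((S : Subgroup G) ⊓ Subgroup.centralizer ((S : Subgroup G) : Set G)) (S : Subgroup G)) : (∀ (P : Subgroup G) (φ : P →* G), φ ∈ (Cfsg.groupFusionSystem (S : Subgroup G)).Hom P → ∃ g ∈ Subgroup.normalizer ((S : Subgroup G) : Set G), ∀ x : P, φ x = g * (x : G) * g⁻¹) ∧ (Cfsg.groupFusionSystem (S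 : Subgroup G)).core = S := by
  set Z := (S : Subgroup G) ⊓ Subgroup.centralizer ((S : Subgroup G) : Set G) with hZdef
  set F := Cfsg.groupFusionSystem (S : Subgroup G)
  have hscS : F.StronglyClosed (S : Subgroup G) :=
    ⟨le_rfl, fun R _ φ hφ x => CfsgLib.Fusion.apply_mem_S hφ x⟩
  have hscZ : F.StronglyClosed Z := by
    refine ⟨inf_le_left, fun R hR φ hφ x => ?_⟩
    obtain ⟨-, hS, g, hg⟩ := hφ
    have := hS x
    rw [hg] at this ⊢
    exact hZ.2 x (hR x.2) g this
  have hN : F.IsNormal (S : Subgroup G) := by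
    refine CfsgLib.Fusion.isNormal_of_series S.2 (CfsgLib.Fusion.group_saturated S) 2
      (fun i => if i = 0 then ⊥ else if i = 1 then Z else S) rfl rfl ?_ ?_ ?_
    · refine monotone_nat_of_le_succ fun i => ?_
      rcases i with _ | _ | i <;> simp [Z]
    · intro i hi
      rcases i with _ | _ | i
      · exact CfsgLib.Fusion.stronglyClosed_bot F
      · exact hscZ
      · exact hscS
    · intro i hi
      rcases i with _ | _ | i
      · show ⁅(S : Subgroup G), Z⁆ ≤ ⊥
        rw [Subgroup.commutator_le]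
        intro a ha b hb
        rw [Subgroup.mem_bot, commutatorElement_eq_one_iff_mul_comm]
        exact Subgroup.mem_centralizer_iff.mp hb.2 a ha
      · exact hcl
      · omega
  refine ⟨fun P φ hφ => ?_, le_antisymm (sSup_le fun Q hQ => hQ.1) (le_sSup hN)⟩
  obtain ⟨ψ, hψ, hψe, hψS⟩ := hN.2 P φ hφ
  obtain ⟨-, -, g, hg⟩ := hψ
  refine ⟨g, CfsgLib.Fusion.mem_normalizer_of_forall fun y hy => ?_, fun x => ?_⟩
  · have := hg ⟨y, Subgroup.mem_sup_right hy⟩
    rw [← this]
    exact hψS.le ⟨_, hy, rfl⟩
  · rw [← hψe]; exact hg _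

end Cfsg.Agent.S5107
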