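import Cfsg.Statements.S5125
import Cfsg.Agent.Lib.Fusion.Normal
-- import your own Cfsg.Agent.* helpers here

set_option autoImplicit false
open Cfsg
open scoped commutatorElement

namespace Cfsg.Agent.S5125

/-- Let F be a saturated fusion system over a finite p-group S and Q a subgroup strongly closed in F. If Q has a subgroup Q₁ that is normal in F, with Q/Q₁ abelian and Aut_F(Q₁) a p-group, then Q is normal in F. -/
theorem result {Ω : Type*} [Group Ω] {S : Subgroup Ω} [Finite S] (p : ℕ) [Fact p.Prime] (hS : IsPGroup p S) (F : Cfsg.FusionSystem S) (hF : F.IsSaturated p) (Q Q₁ : Subgroup Ω) (hQ : F.StronglyClosed Q) (hQ₁Q : Q₁ ≤ Q) (hQ₁ : F.IsNormal Q₁) (hab : ⁅Q, Q⁆ ≤ Q₁) (hAut : IsPGroup p ↥(F.autGroup Q₁)) : F.IsNormal Q := by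
  refine (CfsgLib.Fusion.isNormal_iff_stronglyClosed_le hS hF).mpr ⟨hQ, fun P hc hr => ?_⟩
  have := CfsgLib.Fusion.finite_of_le hc.1
  have hQ₁P : Q₁ ≤ P := CfsgLib.Fusion.IsNormal.le_centric_radical hS hQ₁ hc hr
  have hsc₁ := CfsgLib.Fusion.IsNormal.stronglyClosed hQ₁
  let L : ℕ → Subgroup P := fun i => if i = 0 then Q₁.subgroupOf P else if i = 1 then Q.subgroupOf P else ⊤
  have hinv : ∀ i ≤ 2, ∀ a ∈ F.autGroup P, ∀ x ∈ L i, a x ∈ L i := by
    intro i hi a ha x hx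
    rcases (show i = 0 ∨ i = 1 ∨ i = 2 by omega) with rfl | rfl | rfl
    · exact CfsgLib.Fusion.StronglyClosed.aut_mem hsc₁ hc.1 ha x hx
    · exact CfsgLib.Fusion.StronglyClosed.aut_mem hQ hc.1 ha x hx
    · simp [L]
  refine CfsgLib.Fusion.le_of_centric_radical hS hc hr hQ.1
    (CfsgLib.Fusion.StronglyClosed.le_normalizer hQ)
    (A := CfsgLib.Fusion.seriesStabilizer F P 2 L hinv) (fun a ha => ha.1) ?_
    (fun a ha b hb => CfsgLib.Fusion.seriesStabilizer_conj_mem ha hb) ?_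
  · rintro ⟨a, ha⟩
    have hQ₁S := hQ₁.1
    have := CfsgLib.Fusion.finite_of_le hQ₁S
    obtain ⟨χ, hχ, hχe⟩ : ∃ χ ∈ F.Hom Q₁, ∀ x : Q₁, χ x = ((a ⟨x, hQ₁P x.2⟩ : P) : Ω) :=
      ⟨_, CfsgLib.Fusion.restrict_mem hQ₁P ((CfsgLib.Fusion.mem_autGroup hc.1).mp ha.1), fun _ => rfl⟩
    obtain ⟨κ, hκ, hκe⟩ := CfsgLib.Fusion.exists_aut hχ
      (CfsgLib.Fusion.range_eq_of_card_le hχ hQ₁S (fun x => by
        rw [hχe]; exact CfsgLib.Fusion.StronglyClosed.aut_mem hsc₁ hc.1 ha.1 _ x.2) le_rfl)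
    obtain ⟨k, hk⟩ := hAut ⟨κ, hκ⟩
    have hk1 : κ ^ p ^ k = 1 := congrArg Subtype.val hk
    have hpow : ∀ (m : ℕ) (x : Q₁), (((a ^ m) ⟨x, hQ₁P x.2⟩ : P) : Ω) = ((κ ^ m) x : Q₁) := by
      intro m
      induction m with
      | zero => intro x; simp
      | succ m ih =>
        intro x
        rw [pow_succ, pow_succ, MulAut.mul_apply, MulAut.mul_apply, ← ih (κ x)]
        congr 2
        exact Subtype.ext ((hκe x).trans (hχe x)).symm
    obtain ⟨l, hl⟩ := CfsgLib.Fusion.exists_pow_eq_one_of_stabilizes (p := p) (hS.to_le hc.1) L (n := 2)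
      (fun i hi => by
        rcases (show i = 0 ∨ i = 1 by omega) with rfl | rfl
        · exact Subgroup.comap_mono hQ₁Q
        · simp [L])
      (by simp [L]) (α := a)
      ⟨k, fun x hx => Subtype.ext (by
        have := hpow (p ^ k) ⟨x, hx⟩
        rw [hk1] at this
        exact this)⟩ ha.2
    exact ⟨l, Subtype.ext hl⟩
  · intro q hq a ha
    refine ⟨CfsgLib.Fusion.autInducedBy_le_autGroup hc.1
      (CfsgLib.Fusion.mem_autInducedBy.mpr ⟨q, hQ.1 hq, ha⟩), fun i hi x hx => ?_⟩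
    rcases (show i = 0 ∨ i = 1 by omega) with rfl | rfl
    · show ((x⁻¹ * a x : P) : Ω) ∈ Q₁
      rw [Subgroup.coe_mul, Subgroup.coe_inv, ha]
      have h1 := hab (Subgroup.commutator_mem_commutator (Q.inv_mem (show (x : Ω) ∈ Q from hx)) hq)
      rw [commutatorElement_def, inv_inv] at h1
      simpa [mul_assoc] using h1
    · show ((x⁻¹ * a x : P) : Ω) ∈ Q
      rw [Subgroup.coe_mul, Subgroup.coe_inv, ha]
      have h1 := (Subgroup.mem_normalizer_iff.mp
        (CfsgLib.Fusion.StronglyClosed.le_normalizer hQ (S.inv_mem (hc.1 x.2))) q).mp hq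
      have h2 := Q.mul_mem h1 (Q.inv_mem hq)
      simpa [mul_assoc] using h2

end Cfsg.Agent.S5125
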