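import Cfsg.Statements.S5129
import Cfsg.Agent.Lib.Fusion.MeetNormal

set_option autoImplicit false
open Cfsg

namespace Cfsg.Agent.S5129

/-- Let F be a saturated fusion system over a finite p-group S and E₁, E₂ normal subsystems over T₁, T₂. Then there is a normal subsystem of F over T₁ ∩ T₂ that is normal in E₁ and in E₂ and contains every other such subsystem. -/
theorem result {Ω : Type*} [Group Ω] {S : Subgroup Ω} [Finite S] (p : ℕ) [Fact p.Prime] (hS : IsPGroup p S) (F : Cfsg.FusionSystem S) (hF : F.IsSaturated p) {T₁ T₂ : Subgroup Ω} (E₁ : Cfsg.FusionSystem T₁) (E₂ : Cfsg.FusionSystem T₂) (h₁ : E₁.IsNormalIn F p) (h₂ : E₂.IsNormalIn F p) : ∃ D : Cfsg.FusionSystem (T₁ ⊓ T₂), (D.IsNormalIn F p ∧ D.IsNormalIn E₁ p ∧ D.IsNormalIn E₂ p) ∧ ∀ D' : Cfsg.FusionSystem (T₁ ⊓ T₂), D'.IsNormalIn F p → D'.IsNormalIn E₁ p → D'.IsNormalIn E₂ p → D'.IsSubsystemOf D := by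
  have hsc : F.StronglyClosed (T₁ ⊓ T₂) :=
    ⟨inf_le_left.trans h₁.1.2.2.2.1.1, fun R hR φ hφ x =>
      ⟨h₁.1.2.2.2.1.2 R (hR.trans inf_le_left) φ hφ x, h₂.1.2.2.2.1.2 R (hR.trans inf_le_right) φ hφ x⟩⟩
  let D : CfsgLib.Meet.Datum F p (T₁ ⊓ T₂) :=
    { ι := Bool
      nonempty := ⟨true⟩
      Ti := fun i => Bool.rec T₂ T₁ i
      E := fun i => Bool.rec (motive := fun i => Cfsg.FusionSystem (Bool.rec T₂ T₁ i : Subgroup Ω)) E₂ E₁ i
      sat := fun i => Bool.rec h₂.1.1 h₁.1.1 i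
      inv := fun i => Bool.rec h₂.1.2.2 h₁.1.2.2 i
      le := fun i => Bool.rec inf_le_right inf_le_left i
      glb := fun _ hx => ⟨hx true, hx false⟩
      sc := hsc }
  refine ⟨CfsgLib.Meet.jSys D, ⟨CfsgLib.Meet.jSys_isNormalIn D hS hF,
    CfsgLib.Meet.jSys_isNormalIn_member D hS hF true, CfsgLib.Meet.jSys_isNormalIn_member D hS hF false⟩,
    fun D' h h' h'' => CfsgLib.Meet.normal_le_jSys D hS hF h fun i => ?_⟩
  cases i
  · exact h''
  · exact h'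

end Cfsg.Agent.S5129
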