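import Cfsg.Statements.S5130
import Cfsg.Agent.Lib.Fusion.DirectFactor

set_option autoImplicit false
open Cfsg

namespace Cfsg.Agent.S5130

/-- Let F be a saturated fusion system over a finite p-group S that is the direct product of two subgroups S₁ and S₂, each strongly closed in F. Let R be the full subsystem of F over S₁ (all maps of F between subgroups of S₁) and R′ the subsystem over S₁ of those maps that extend to the subgroup generated with S₂ fixing S₂ elementwise. Then R and R′ are saturated, R′ is normal in F and in R, and R is weakly normal in F. -/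
theorem result {Ω : Type*} [Group Ω] {S : Subgroup Ω} [Finite S] (p : ℕ) [Fact p.Prime] (hS : IsPGroup p S) (F : Cfsg.FusionSystem S) (hF : F.IsSaturated p) (S₁ S₂ : Subgroup Ω) (hprod : Cfsg.IsInternalDirectProduct S₁ S₂ S) (h₁ : F.StronglyClosed S₁) (h₂ : F.StronglyClosed S₂) (R R' : Cfsg.FusionSystem S₁) (hR : ∀ P : Subgroup Ω, P ≤ S₁ → R.Hom P = F.Hom P) (hR' : ∀ P : Subgroup Ω, P ≤ S₁ → R'.Hom P = F.centralizerHom S₂ P) : R.IsSaturated p ∧ R'.IsSaturated p ∧ R'.IsNormalIn F p ∧ R'.IsNormalIn R p ∧ R.IsWeaklyNormalIn F p := by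
  obtain ⟨-, -, hcomm, -, htop⟩ := hprod
  have h : CfsgLib.FusionDirectFactor.Split F S₁ S₂ := ⟨h₁, h₂, hcomm, htop.ge⟩
  have := CfsgLib.Fusion.finite_of_le h.le₁
  have hS₁ : IsPGroup p S₁ := hS.to_le h.le₁
  have hsub := CfsgLib.FusionDirectFactor.restr_subsystem h hR
  have hsub' := CfsgLib.FusionDirectFactor.cent_subsystem h hR'
  have hRs := CfsgLib.FusionDirectFactor.restr_saturated h hR hS hF
  have hR's := CfsgLib.FusionDirectFactor.cent_saturated h hR' hS hF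
  have hstrong := CfsgLib.FusionDirectFactor.cent_stronglyInvariant h hR' hS hF
  have hR'R : R'.IsSubsystemOf R := fun P φ hφ => by
    rw [hR P (CfsgLib.Fusion.le_S hφ)]; exact hsub' P hφ
  have hC₁ : Cfsg.FusionSystem.centralizerIn S₁ S₁ ≤ S₁ := CfsgLib.Fusion.centralizerIn_le
  refine ⟨hRs, hR's, ⟨⟨hR's, hF, (CfsgLib.Fusion.invariant_iff_strong hS hF hsub' h₁).mpr hstrong⟩,
    fun α hα => ?_⟩, ⟨⟨hR's, hRs, (CfsgLib.Fusion.invariant_iff_strong hS₁ hRs hR'R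
      ⟨le_rfl, fun A _ φ hφ x => CfsgLib.Fusion.apply_mem_S hφ x⟩).mpr
        fun P Q hPQ hQ φ hφ hφQ ψ hψ => hstrong P Q hPQ hQ φ hφ hφQ ψ (hsub Q hψ)⟩, fun α hα => ?_⟩,
    ⟨hRs, hF, (CfsgLib.Fusion.invariant_iff_strong hS hF hsub h₁).mpr ?_⟩⟩
  · have hm := (CfsgLib.Fusion.mem_autGroup le_rfl).mp hα
    rw [hR' S₁ le_rfl] at hm
    obtain ⟨-, -, -, ψ, hψ, hψe, hψ₂⟩ := hm
    set Y := S₁ ⊔ Cfsg.FusionSystem.centralizerIn S S₁ with hY
    have hYS : Y ≤ S := sup_le h.le₁ CfsgLib.Fusion.centralizerIn_le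
    have hle : Y ≤ S₁ ⊔ S₂ := hYS.trans h.top
    have hge : S₁ ⊔ S₂ ≤ Y :=
      sup_le_sup_left (fun b hb => h.mem_centralizerIn₂ le_rfl hb) _
    have hr : (ψ.comp (Subgroup.inclusion hle)).range = Y := by
      have : Finite Y := CfsgLib.Fusion.finite_of_le hYS
      refine CfsgLib.Fusion.eq_of_le_of_card_le ?_ (CfsgLib.Fusion.card_range (CfsgLib.Fusion.restrict_mem hle hψ)).ge
      rintro _ ⟨x, rfl⟩
      refine hge ?_
      refine CfsgLib.Fusion.sup_le_map_comap (φ := ψ) (M := S₁ ⊔ S₂) (fun a ha => ?_) (fun b hb => ?_) ⟨x, hle x.2⟩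
      · rw [show ψ ⟨a, _⟩ = ((α ⟨a, ha⟩ : S₁) : Ω) from hψe ⟨a, ha⟩]
        exact Subgroup.mem_sup_left (Subtype.mem _)
      · rw [show ψ ⟨b, _⟩ = b from hψ₂ ⟨b, hb⟩]
        exact Subgroup.mem_sup_right hb
    obtain ⟨β, hβ, hβe⟩ := CfsgLib.Fusion.exists_aut (CfsgLib.Fusion.restrict_mem hle hψ) hr
    refine ⟨β, hβ, fun x => (hβe _).trans (hψe x), fun c hc => ?_⟩
    obtain ⟨a, ha, b, hb, hab⟩ := h.exists_mul hc.1
    have haC : a ∈ Cfsg.FusionSystem.centralizerIn S S₁ := by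
      have := Subgroup.mul_mem _ hc (Subgroup.inv_mem _ (h.mem_centralizerIn₂ (le_refl S₁) hb))
      rwa [hab, mul_inv_cancel_right] at this
    have hval : ((β c : ↥Y) : Ω) = ((α ⟨a, ha⟩ : S₁) : Ω) * b := by
      rw [hβe]
      have e : Subgroup.inclusion hle c = Subgroup.inclusion le_sup_left (⟨a, ha⟩ : S₁) *
          Subgroup.inclusion le_sup_right (⟨b, hb⟩ : S₂) := Subtype.ext hab
      show ψ (Subgroup.inclusion hle c) = _
      rw [e, map_mul, hψe, hψ₂]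
      rfl
    have hz : a⁻¹ * ((α ⟨a, ha⟩ : S₁) : Ω) ∈ S₁ := S₁.mul_mem (S₁.inv_mem ha) (Subtype.mem _)
    have hαa : ((α ⟨a, ha⟩ : S₁) : Ω) ∈ Subgroup.centralizer (S₁ : Set Ω) := by
      refine Subgroup.mem_centralizer_iff.mpr fun x hx => ?_
      obtain ⟨y, hy⟩ := α.surjective ⟨x, hx⟩
      have e : y * ⟨a, ha⟩ = ⟨a, ha⟩ * y := Subtype.ext (Subgroup.mem_centralizer_iff.mp haC.2 y y.2)
      have := congrArg (fun t : S₁ => ((α t : S₁) : Ω)) e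
      simp only [map_mul, hy] at this
      exact this
    have hcomm' := h.comm _ hz b hb
    rw [hval, hab, show (a * b)⁻¹ * (((α ⟨a, ha⟩ : S₁) : Ω) * b) = b⁻¹ * (a⁻¹ * ((α ⟨a, ha⟩ : S₁) : Ω) * b) by group,
      hcomm', inv_mul_cancel_left]
    exact ⟨hz, Subgroup.mul_mem _ (Subgroup.inv_mem _ haC.2) hαa⟩
  · set Y := S₁ ⊔ Cfsg.FusionSystem.centralizerIn S₁ S₁ with hY
    have hYe : Y = S₁ := sup_eq_left.mpr hC₁
    obtain ⟨φ, hφ, hφr, hφe⟩ := CfsgLib.Fusion.exists_map_of_mem_autGroup le_rfl hα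
    have hle : Y ≤ S₁ := hYe.le
    have hm := CfsgLib.Fusion.restrict_mem hle (hR'R S₁ hφ)
    have hr : (φ.comp (Subgroup.inclusion hle)).range = Y := by
      refine le_antisymm ?_ ?_
      · rintro _ ⟨x, rfl⟩; exact hYe.ge (hφr.le ⟨_, rfl⟩)
      · intro y hy
        obtain ⟨x, hx⟩ := hφr.ge (hYe.le hy)
        exact ⟨⟨x, hYe.ge x.2⟩, hx⟩
    obtain ⟨β, hβ, hβe⟩ := CfsgLib.Fusion.exists_aut hm hr
    refine ⟨β, hβ, fun x => (hβe _).trans (hφe x), fun c hc => ?_⟩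
    rw [hβe]
    refine ⟨S₁.mul_mem (S₁.inv_mem (hle c.2)) (hφr.le ⟨_, rfl⟩), ?_⟩
    refine Subgroup.mul_mem _ (Subgroup.inv_mem _ hc.2) ?_
    show φ ⟨c, hle c.2⟩ ∈ Subgroup.centralizer (S₁ : Set Ω)
    refine Subgroup.mem_centralizer_iff.mpr fun x hx => ?_
    obtain ⟨y, rfl⟩ := hφr.ge hx
    have e : y * ⟨c, hle c.2⟩ = ⟨c, hle c.2⟩ * y := Subtype.ext (Subgroup.mem_centralizer_iff.mp hc.2 y y.2)
    rw [← map_mul, ← map_mul, e]
  · intro P Q hPQ hQ φ hφ hφQ ψ hψ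
    obtain ⟨θ, hθ, hθr, hθe⟩ := CfsgLib.Fusion.exists_restrict hψ hPQ (rfl : (P.subgroupOf Q).map ψ = _)
    obtain ⟨θi, hθi, -, hθi₁, -⟩ := CfsgLib.Fusion.exists_inv hθ hθr
    obtain ⟨μ, hμ, hμe⟩ := CfsgLib.Fusion.exists_comp (hsub P hφ) hψ hφQ
    obtain ⟨χ, hχ, hχe⟩ := CfsgLib.Fusion.exists_comp hθi hμ fun y => by
      obtain ⟨x, hx⟩ := hθr.ge y.2
      have : (⟨θ x, hθr.le ⟨x, rfl⟩⟩ : ↥((P.subgroupOf Q).map ψ)) = y := Subtype.ext hx
      rw [← this, hθi₁]; exact x.2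
    have hle : (P.subgroupOf Q).map ψ ≤ S₁ := by
      rintro _ ⟨x, -, rfl⟩; exact h₁.2 Q hQ ψ hψ x
    refine ⟨χ, (hR _ hle).symm ▸ hχ, fun x hx => ?_⟩
    rw [hχe]
    have : θi ⟨ψ (Subgroup.inclusion hPQ x), hx⟩ = (x : Ω) := by
      have h3 := hθi₁ x (hθr.le ⟨x, rfl⟩)
      exact (CfsgLib.Fusion.apply_eq_of_coe_eq (hθe x).symm).trans h3
    exact (CfsgLib.Fusion.apply_eq_of_coe_eq this).trans (hμe x)

end Cfsg.Agent.S5130
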