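import Cfsg.Statements.S5135
import Cfsg.Agent.Lib.Fusion.GroupLift

set_option autoImplicit false
open Cfsg

namespace Cfsg.Agent.S5135

/-- Let G be a finite group, S a Sylow p-subgroup and H a normal subgroup of G. Then the fusion system of G/H on the image SH/H of S is the factor system of the fusion system of G on S modulo S ∩ H, read through the quotient map restricted to S: for each subgroup P' of SH/H, the conjugation maps by elements of G/H defined on P' with values in SH/H are exactly the homomorphisms induced by the conjugation maps by elements of G defined on the full preimage of P' in S with values in S. -/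
theorem result {G : Type*} [Group G] [Finite G] (p : ℕ) [Fact p.Prime] (S : Sylow p G) (H : Subgroup G) [H.Normal] : (Cfsg.groupFusionSystem (S : Subgroup G)).IsFactorSystem ((S : Subgroup G) ⊓ H) ((QuotientGroup.mk' H).comp (S : Subgroup G).subtype) (Cfsg.groupFusionSystem ((S : Subgroup G).map (QuotientGroup.mk' H))) := by
  refine ⟨inf_le_left, fun s => ?_, ?_, fun P' φ' => ⟨?_, ?_⟩⟩
  · rw [MonoidHom.comp_apply, QuotientGroup.mk'_apply, QuotientGroup.eq_one_iff]
    exact ⟨fun h => ⟨s.2, h⟩, fun h => h.2⟩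
  · rw [MonoidHom.range_comp, Subgroup.range_subtype]
  · rintro ⟨hP', hval, γ, hγ⟩
    set θ := (QuotientGroup.mk' H).comp (S : Subgroup G).subtype with hθ
    set P := FusionSystem.preimageAlong θ P' with hPdef
    have hPS : P ≤ (S : Subgroup G) := Subgroup.map_subtype_le _
    have hmem : ∀ x ∈ P, (QuotientGroup.mk x : G ⧸ H) ∈ P' := by
      rintro _ ⟨s, hs, rfl⟩
      exact hs
    obtain ⟨g, hg, hgS⟩ := CfsgLib.FusionGroupLift.exists_conj_lift S H P hPS γ fun x hx => by
      rw [← hγ ⟨_, hmem x hx⟩]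
      exact hval _
    refine ⟨hP', conjHom P g, ⟨hPS, fun x => hgS x x.2, g, fun x => rfl⟩,
      hPS, fun x => hgS x x.2, fun x => hmem x x.2, fun x => ?_⟩
    rw [hγ]
    change γ * (QuotientGroup.mk (x : G)) * γ⁻¹ = QuotientGroup.mk (g * x * g⁻¹)
    rw [← hg]
    rfl
  · rintro ⟨hP', φ, ⟨-, -, g, hg⟩, hP, hφ, hmem, hind⟩
    have key : ∀ y : P', ∃ s : (S : Subgroup G), φ' y = QuotientGroup.mk (s : G) ∧
        φ' y = QuotientGroup.mk g * (y : G ⧸ H) * (QuotientGroup.mk g)⁻¹ := by
      rintro ⟨y, hy⟩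
      obtain ⟨x, hx, rfl⟩ := hP' hy
      have hxP : x ∈ FusionSystem.preimageAlong ((QuotientGroup.mk' H).comp (S : Subgroup G).subtype) P' :=
        ⟨⟨x, hx⟩, hy, rfl⟩
      refine ⟨⟨φ ⟨x, hxP⟩, hφ _⟩, hind ⟨x, hxP⟩, (hind ⟨x, hxP⟩).trans ?_⟩
      change QuotientGroup.mk (φ ⟨x, hxP⟩) = _
      rw [hg]
      rfl
    refine ⟨hP', fun y => ?_, QuotientGroup.mk g, fun y => ?_⟩
    · obtain ⟨s, hs, -⟩ := key y
      exact ⟨s, s.2, hs.symm⟩
    · obtain ⟨s, -, hs⟩ := key y
      exact hs

end Cfsg.Agent.S5135
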