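import Cfsg.Statements.S5139
import Cfsg.Agent.Lib.Fusion.PIndexExist

set_option autoImplicit false
open Cfsg

namespace Cfsg.Agent.S5139
open CfsgLib.Fusion Cfsg.FusionSystem in
theorem residual_pIndex {G : Type*} [Group G] [Finite G] {p : ℕ} [Fact p.Prime] (S : Sylow p G)
    [(pResidual p G).Normal] :
    (fusionSystemOfSubgroup (pResidual p G) ((S : Subgroup G) ⊓ pResidual p G) inf_le_right).HasPPowerIndexIn
      (groupFusionSystem (S : Subgroup G)) p := by
  refine ⟨fun P φ ⟨hP, hφ, g, _, hg⟩ => ⟨hP.trans inf_le_left, fun x => (hφ x).1, g, hg⟩,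
    (hyperfocal_group S).le, fun P hP => ?_⟩
  rw [Subgroup.map_le_iff_le_comap, CfsgLib.Transfer.pResidual_le_iff]
  intro a ha
  obtain ⟨g, -, hg⟩ := mem_autInducedBy.mp ((autGroup_group (hP.trans inf_le_left)).le a.2)
  have hp : p.Prime := Fact.out
  obtain ⟨k, m, hm, hord⟩ := Nat.exists_eq_pow_mul_and_not_dvd (orderOf_pos g).ne' p hp.ne_one
  obtain ⟨c, hc₁, hc₂⟩ := Nat.chineseRemainder (ha.pow_right k) 1 0
  obtain ⟨d, rfl⟩ := Nat.modEq_zero_iff_dvd.mp hc₂
  have hpow : ∀ n : ℕ, ∀ z : P, ((((a : MulAut P)) ^ n) z : G) = g ^ n * (z : G) * (g ^ n)⁻¹ := by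
    intro n
    induction n with
    | zero => intro z; simp
    | succ n ih =>
      intro z
      rw [pow_succ', MulAut.mul_apply, hg, ih, pow_succ']; group
  have hac : (a : MulAut P) ^ (p ^ k * d) = a := by
    have h1 : a ^ (p ^ k * d) = a ^ 1 := pow_eq_pow_iff_modEq.mpr hc₁
    rw [pow_one] at h1
    exact congrArg Subtype.val h1
  have hgm : g ^ (p ^ k * d) ∈ pResidual p G := by
    refine CfsgLib.Transfer.mem_pResidual (Nat.Coprime.coprime_dvd_left ?_ ((hp.coprime_iff_not_dvd.mpr hm).symm))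
    refine orderOf_dvd_of_pow_eq_one ?_
    rw [← pow_mul]
    exact orderOf_dvd_iff_pow_eq_one.mp ⟨d, by rw [hord]; ring⟩
  refine (mem_autGroup hP).mpr ⟨hP, fun x => hP (Subtype.mem _), g ^ (p ^ k * d), hgm, fun x => ?_⟩
  have e := hpow (p ^ k * d) x
  rw [hac] at e
  exact e

/-- Let G be a finite group with Sylow p-subgroup S and O^p(G) the subgroup generated by the elements of order prime to p. Then the p-residual subsystem of the fusion system of G on S — the saturated subsystem of p-power index over the hyperfocal subgroup — is the fusion system of O^p(G) on S ∩ O^p(G): its maps are exactly the conjugation maps by elements of O^p(G) between subgroups of S ∩ O^p(G). -/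
theorem result {G : Type*} [Group G] [Finite G] (p : ℕ) [Fact p.Prime] (S : Sylow p G) (E : Cfsg.FusionSystem ((Cfsg.groupFusionSystem (S : Subgroup G)).hyperfocalSubgroup p)) (hE : (Cfsg.groupFusionSystem (S : Subgroup G)).IsPResidual p E) : ∃ h : (S : Subgroup G) ⊓ Cfsg.pResidual p G ≤ Cfsg.pResidual p G, ∀ P : Subgroup G, E.Hom P = (Cfsg.fusionSystemOfSubgroup (Cfsg.pResidual p G) ((S : Subgroup G) ⊓ Cfsg.pResidual p G) h).Hom P := by
  haveI : (pResidual p G).Normal := CfsgLib.Transfer.pResidual_normal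
  refine ⟨inf_le_right, ?_⟩
  suffices H : ∀ (T : Subgroup G), T = (S : Subgroup G) ⊓ pResidual p G →
      ∀ E : FusionSystem T, E.IsSaturated p → E.HasPPowerIndexIn (groupFusionSystem (S : Subgroup G)) p →
      ∀ P : Subgroup G, E.Hom P = (fusionSystemOfSubgroup (pResidual p G)
        ((S : Subgroup G) ⊓ pResidual p G) inf_le_right).Hom P from
    H _ (CfsgLib.Fusion.hyperfocal_group S) E hE.1 hE.2
  rintro T rfl E hEs hEi P
  have h2 := residual_pIndex S
  have h1 := CfsgLib.Fusion.saturated_fusionSystemOfSubgroup S (pResidual p G)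
  exact Set.Subset.antisymm (CfsgLib.Fusion.le_of_pIndex S.2 inf_le_left hEs hEi.1 h2 P)
    (CfsgLib.Fusion.le_of_pIndex S.2 inf_le_left h1 h2.1 hEi P)

end Cfsg.Agent.S5139
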