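import Cfsg.Statements.S5153
import Cfsg.Agent.Lib.Fusion.Extend
import Cfsg.Prelude.Def_FusionComponents

set_option autoImplicit false
open Cfsg

namespace Cfsg.Agent.S5153
open Cfsg.FusionSystem CfsgLib.Fusion CfsgLib.FusionExtend in
theorem fullyNormalized_of_subnormal {Ω : Type*} [Group Ω] {p : ℕ} {T S : Subgroup Ω}
    {E : Cfsg.FusionSystem T} {F : Cfsg.FusionSystem S} (h : E.IsSubnormalIn F p) :
    ∀ [Fact p.Prime] [Finite S], IsPGroup p S → F.IsSaturated p →
    T ≤ S ∧ ∀ P : Subgroup Ω, P ≤ T → F.IsFullyNormalized P → E.IsFullyNormalized P := by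
  induction h with
  | refl F p => intro _ _ _ _; exact ⟨le_rfl, fun P _ hP => hP⟩
  | @step U S E D F p hED hDF ih =>
    intro _ _ hS hF

    have hUS : U ≤ S := hDF.1.2.2.2.1.1
    have hU : Finite U := finite_of_le hUS
    obtain ⟨hTU, hfn⟩ := ih (hS.to_le hUS) hDF.1.1
    refine ⟨hTU.trans hUS, fun P hPT hP => hfn P hPT ⟨hPT.trans hTU, ?_⟩⟩
    intro Q hQ
    obtain ⟨φ, hφ, hr⟩ := hQ
    have hQF : F.IsConj Q P := isConj_symm ⟨φ, hDF.1.2.2.1 P hφ, hr⟩
    have hgood := fullyNormalized_good hS hF hP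
    obtain ⟨ψ, hψ, hψm, -⟩ := exists_normalizer_hom hS hgood.1 hgood.2 hQF
    have hle : normalizerIn U Q ≤ normalizerIn S Q := inf_le_inf_right _ hUS
    refine card_le_of_map (restrict_mem hle hψ) (normalizerIn_le.trans hUS) fun x => ?_
    exact ⟨sc_apply hDF.1.2.2.2.1 hψ _ x.2.1, (hψm _).2⟩


/-- Let F be a saturated fusion system over a finite p-group S and E a subnormal subsystem of F over T. Then every subgroup of T that is fully normalized in F is fully normalized in E. -/
theorem result {Ω : Type*} [Group Ω] {S : Subgroup Ω} [Finite S] (p : ℕ) [Fact p.Prime] (hS : IsPGroup p S) (F : Cfsg.FusionSystem S) (hF : F.IsSaturated p) {T : Subgroup Ω} (E : Cfsg.FusionSystem T) (hE : E.IsSubnormalIn F p) (P : Subgroup Ω) (hPT : P ≤ T) (hP : F.IsFullyNormalized P) : E.IsFullyNormalized P := by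
  exact (fullyNormalized_of_subnormal hE hS hF).2 P hPT hP

end Cfsg.Agent.S5153
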