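import Cfsg.Statements.S5157
import Cfsg.Agent.Lib.Fusion.Solvable

set_option autoImplicit false
open Cfsg

namespace Cfsg.Agent.S5157

/-- A saturated fusion system F over a finite p-group S is solvable (for every subgroup R other than S that is strongly closed in F, the factor system of F modulo R has a nontrivial subgroup normal in it) if and only if there is a chain 1 = S₀ ≤ S₁ ≤ ⋯ ≤ Sₘ = S of subgroups strongly closed in F with every quotient Sᵢ₊₁/Sᵢ abelian. -/
theorem result {Ω : Type*} [Group Ω] {S : Subgroup Ω} [Finite S] (p : ℕ) [Fact p.Prime] (hS : IsPGroup p S) (F : Cfsg.FusionSystem S) (hF : F.IsSaturated p) : F.IsSolvableSystem ↔ ∃ (n : ℕ) (T : Fin (n + 1) → Subgroup Ω), T 0 = ⊥ ∧ T (Fin.last n) = S ∧ Monotone T ∧ (∀ i, F.StronglyClosed (T i)) ∧ ∀ i : Fin n, ⁅T i.succ, T i.succ⁆ ≤ T (Fin.castSucc i) := by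
  exact (CfsgLib.FusionSolvable.isSolvable_iff hS hF).trans CfsgLib.FusionSolvable.hasSeries_bot_iff

end Cfsg.Agent.S5157
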