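import Cfsg.Statements.S5163
import Cfsg.Agent.Lib.Fusion.SimplePSL

set_option autoImplicit false
open Cfsg

namespace Cfsg.Agent.S5163

/-- For a finite field K of characteristic p and n ≥ 3, the p-fusion system of the projective special linear group PSL_n(K) on a Sylow p-subgroup is simple. -/
theorem result {K : Type*} [Field K] [Fintype K] (p : ℕ) [Fact p.Prime] [CharP K p] (n : ℕ) (hn : 3 ≤ n) (S : Sylow p (Matrix.ProjectiveSpecialLinearGroup (Fin n) K)) : (Cfsg.groupFusionSystem (S : Subgroup (Matrix.ProjectiveSpecialLinearGroup (Fin n) K))).IsSimple p := by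
  have : Finite (Matrix.SpecialLinearGroup (Fin n) K) := Subtype.finite
  obtain ⟨g, hg⟩ := MulAction.exists_smul_eq (Matrix.ProjectiveSpecialLinearGroup (Fin n) K)
    (CfsgLib.AutPSL.sylowT (n := n) (F := K) (by omega : 1 ≤ n) p) S
  obtain ⟨g, rfl⟩ := QuotientGroup.mk_surjective g
  refine CfsgLib.FusionPSL.isSimple hn ((MulAut.conj (QuotientGroup.mk g)).toMonoidHom.comp
    (QuotientGroup.mk' (Subgroup.center (Matrix.SpecialLinearGroup (Fin n) K)))) ?_ ?_ S ?_
  · exact (MulAut.conj _).surjective.comp (QuotientGroup.mk'_surjective _)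
  · ext x
    rw [MonoidHom.mem_ker, MonoidHom.comp_apply]
    exact ((MulAut.conj _).map_eq_one_iff).trans (QuotientGroup.eq_one_iff x)
  · rw [← hg, ← Subgroup.map_map]
    rfl

end Cfsg.Agent.S5163
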