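import Cfsg.Statements.S5164
import Cfsg.Agent.Lib.FusionAlt.AltSimple

set_option autoImplicit false
open Cfsg

namespace Cfsg.Agent.S5164
open CfsgLib.FusionAlt Equiv Equiv.Perm

theorem sylow_comm_of_le {G : Type*} [Group G] [Finite G] {p : ℕ} [Fact p.Prime] (S : Sylow p G)
    (hS : IsMulCommutative S) (Q : Subgroup G) (hQ : IsPGroup p Q) {a b : G} (ha : a ∈ Q) (hb : b ∈ Q) :
    a * b = b * a := by
  obtain ⟨P, hP⟩ := hQ.exists_le_sylow
  obtain ⟨g, hg⟩ := MulAction.exists_smul_eq G P S
  have hmem : ∀ z ∈ Q, g * z * g⁻¹ ∈ (S : Subgroup G) := by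
    intro z hz
    rw [← hg, Sylow.coe_subgroup_smul, Subgroup.mem_pointwise_smul_iff_inv_smul_mem]
    simpa [MulAut.smul_def, mul_assoc] using hP hz
  have h := congrArg Subtype.val (hS.is_comm.comm (⟨_, hmem a ha⟩ : S) ⟨_, hmem b hb⟩)
  simpa [mul_assoc] using congrArg (fun v => g⁻¹ * v * g) h

/-- Six points carry a dihedral group of order eight of even permutations. -/
theorem exists_dihedral (n : ℕ) (hn : 6 ≤ n) :
    ∃ (Q : Subgroup (alternatingGroup (Fin n))) (a b : alternatingGroup (Fin n)),
      IsPGroup 2 Q ∧ a ∈ Q ∧ b ∈ Q ∧ a * b ≠ b * a := by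
  let a0 : Perm (Fin 6) := Equiv.swap 0 1 * Equiv.swap 4 5
  let c0 : Perm (Fin 6) := a0 * (Equiv.swap 0 2 * Equiv.swap 1 3)
  have h1 : c0 ^ 4 = 1 := by decide
  have h2 : a0 ^ 2 = 1 := by decide
  have h3 : a0 * c0 * a0⁻¹ = c0⁻¹ := by decide
  have h4 : a0 * c0 ≠ c0 * a0 := by decide
  have h5 : sign a0 = 1 := by decide
  have h6 : sign c0 = 1 := by decide
  let ι : Fin 6 ↪ Fin n := Fin.castLEEmb hn
  have hsign : ∀ σ : Perm (Fin 6), sign (viaEmbeddingHom ι σ) = sign σ := by
    intro σ
    induction σ using Perm.swap_induction_on with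
    | one => simp
    | swap_mul f x y hxy ih =>
      have hswap : viaEmbeddingHom ι (Equiv.swap x y) = Equiv.swap (ι x) (ι y) := by
        refine Perm.ext fun a => ?_
        by_cases ha : a ∈ Set.range ι
        · obtain ⟨z, rfl⟩ := ha
          exact (viaEmbedding_apply _ ι z).trans (ι.injective.map_swap x y z)
        · exact (viaEmbedding_apply_of_notMem _ ι a ha).trans
            (swap_apply_of_ne_of_ne (fun h => ha ⟨x, h.symm⟩) (fun h => ha ⟨y, h.symm⟩)).symm
      rw [map_mul, map_mul, map_mul, ih, hswap, sign_swap hxy, sign_swap (fun h => hxy (ι.injective h))]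
  let a : alternatingGroup (Fin n) := ⟨viaEmbeddingHom ι a0, mem_alternatingGroup.mpr ((hsign _).trans h5)⟩
  let c : alternatingGroup (Fin n) := ⟨viaEmbeddingHom ι c0, mem_alternatingGroup.mpr ((hsign _).trans h6)⟩
  have hc : c ^ 4 = 1 := Subtype.ext (by
    show (viaEmbeddingHom ι c0) ^ 4 = 1; rw [← map_pow, h1, map_one])
  have ha : a ^ 2 = 1 := Subtype.ext (by
    show (viaEmbeddingHom ι a0) ^ 2 = 1; rw [← map_pow, h2, map_one])
  have hac : a * c * a⁻¹ = c⁻¹ := Subtype.ext (by
    show viaEmbeddingHom ι a0 * viaEmbeddingHom ι c0 * (viaEmbeddingHom ι a0)⁻¹ = (viaEmbeddingHom ι c0)⁻¹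
    rw [← map_inv, ← map_mul, ← map_mul, h3, map_inv])
  refine ⟨Subgroup.zpowers c ⊔ Subgroup.zpowers a, a, c, ?_, Subgroup.mem_sup_right (Subgroup.mem_zpowers a),
    Subgroup.mem_sup_left (Subgroup.mem_zpowers c), fun h => h4 ?_⟩
  · refine IsPGroup.to_sup_of_normal_left' ?_ ?_ (Subgroup.zpowers_le.mpr (mem_normalizer_of_forall ?_))
    · rintro ⟨_, m, rfl⟩
      refine ⟨2, Subtype.ext ?_⟩
      show (c ^ m) ^ (2 ^ 2) = 1
      rw [← zpow_natCast, ← zpow_mul, mul_comm, zpow_mul, zpow_natCast]
      show (c ^ 4) ^ m = 1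
      rw [hc, one_zpow]
    · rintro ⟨_, m, rfl⟩
      refine ⟨1, Subtype.ext ?_⟩
      show (a ^ m) ^ (2 ^ 1) = 1
      rw [← zpow_natCast, ← zpow_mul, mul_comm, zpow_mul, zpow_natCast]
      show (a ^ 2) ^ m = 1
      rw [ha, one_zpow]
    · rintro _ ⟨m, rfl⟩
      refine ⟨-m, ?_⟩
      show c ^ (-m) = a * c ^ m * a⁻¹
      rw [← MulAut.conj_apply, map_zpow, MulAut.conj_apply, hac, inv_zpow, zpow_neg]
  · have := congrArg Subtype.val h
    exact viaEmbeddingHom_injective ι ((map_mul _ a0 c0).trans (this.trans (map_mul _ c0 a0).symm))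

/-- For n ≥ 6 and a prime p, a nontrivial Sylow p-subgroup of the alternating group of degree n is abelian if and only if n < p². -/
theorem result (n p : ℕ) (hn : 6 ≤ n) [Fact p.Prime] (S : Sylow p (alternatingGroup (Fin n))) (hS : (S : Subgroup (alternatingGroup (Fin n))) ≠ ⊥) : IsMulCommutative S ↔ n < p ^ 2 := by
  have hpp : p.Prime := Fact.out
  constructor
  · intro hc
    by_contra hge
    push Not at hge
    by_cases hp : p = 2
    · subst hp
      obtain ⟨Q, a, b, hQ, ha, hb, hne⟩ := exists_dihedral n hn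
      exact hne (sylow_comm_of_le S hc Q hQ ha hb)
    · have hq : p ≤ n / p := by rw [Nat.le_div_iff_mul_le hpp.pos, ← pow_two]; exact hge
      obtain ⟨e⟩ := Function.Embedding.nonempty_of_card_le
        (show Fintype.card (Fin (n / p) × ZMod p) ≤ Fintype.card (Fin n) by
          simpa [Fintype.card_prod] using Nat.div_mul_le_self n p)
      have hQ : IsPGroup p (altImage e (bigGroup hq)) :=
        ((isPGroup_bigGroup hq).map (viaEmbeddingHom e)).comap_of_injective _
          (alternatingGroup (Fin n)).subtype_injective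
      let i0 : Fin (n / p) := ⟨0, lt_of_lt_of_le hpp.pos hq⟩
      obtain ⟨a, ha⟩ := exists_alt_of_pow e hp (k := 1) (σ := sh (unitVec (p := p) i0))
        (by rw [pow_one]; exact sh_pow_p _)
      obtain ⟨b, hb⟩ := exists_alt_of_pow e hp (k := 1) (σ := gridHom hq (trans2 1 0))
        (by rw [pow_one, ← map_pow, trans2_pow_p, map_one])
      have hab := congrArg Subtype.val (sylow_comm_of_le S hc _ hQ
        (a := a) (b := b) ⟨_, Subgroup.mem_sup_left ⟨_, rfl⟩, ha.symm⟩
        ⟨_, Subgroup.mem_sup_right ⟨_, ⟨((1 : ZMod p), (0 : ZMod p)), rfl⟩, rfl⟩, hb.symm⟩)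
      rw [Subgroup.coe_mul, Subgroup.coe_mul, ha, hb, ← map_mul, ← map_mul] at hab
      have h1 := congrArg (fun f : Perm (Fin (n / p) × ZMod p) => f (gridEmb hq (0, 0)))
        (viaEmbeddingHom_injective e hab)
      have hi0 : gridEmb hq (0, 0) = (i0, 0) := Prod.ext (Fin.ext ZMod.val_zero) rfl
      have hne : (gridEmb hq (1, 0)).1 ≠ i0 := by
        intro h
        have h2 := congrArg Fin.val h
        change (1 : ZMod p).val = 0 at h2
        rw [ZMod.val_one] at h2
        exact one_ne_zero h2
      simp only [Perm.mul_apply] at h1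
      rw [gridHom_apply, trans2_apply, zero_add, add_zero,
        show gridEmb hq (1, 0) = ((gridEmb hq (1, 0)).1, (gridEmb hq (1, 0)).2) from rfl,
        sh_unit_support, if_neg hne] at h1
      rw [hi0, sh_unit_support, if_pos rfl, zero_add, ← gridEmb_surj hq (show i0.val < p from hpp.pos),
        gridHom_apply, trans2_apply] at h1
      have h3 : (0 : ZMod p) = 1 + 0 := congrArg Prod.snd h1
      rw [add_zero] at h3
      exact zero_ne_one h3
  · intro hlt
    have hp : p ≠ 2 := by rintro rfl; omega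
    obtain ⟨e⟩ := Function.Embedding.nonempty_of_card_le
      (show Fintype.card (Fin (n / p) × ZMod p) ≤ Fintype.card (Fin n) by
        simpa [Fintype.card_prod] using Nat.div_mul_le_self n p)
    have hcardA : Nat.card (altImage e (shGroup (n / p) p)) = p ^ (n / p) := by
      have hle : (shGroup (n / p) p).map (viaEmbeddingHom e) ≤ alternatingGroup (Fin n) := by
        rintro _ ⟨σ, ⟨b, rfl⟩, rfl⟩
        exact mem_alternating_of_pow_eq_one hp (k := 1) (by rw [pow_one, ← map_pow, sh_pow_p, map_one])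
      rw [altImage, Nat.card_congr (Subgroup.subgroupOfEquivOfLe hle).toEquiv,
        Subgroup.card_map_of_injective (viaEmbeddingHom_injective e)]
      show Nat.card (Set.range (sh (q := n / p) (p := p))) = _
      rw [Nat.card_range_of_injective]
      · simp
      · intro b c h
        funext i
        have := congrArg (fun f : Perm (Fin (n / p) × ZMod p) => (f (i, 0)).2) h
        simpa using this
    have : Nontrivial (Fin n) := Fin.nontrivial_iff_two_le.mpr (by omega)
    have hval : (Nat.card (alternatingGroup (Fin n))).factorization p = n / p := by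
      have h2 := two_mul_nat_card_alternatingGroup (α := Fin n)
      rw [Nat.card_perm, Nat.card_fin] at h2
      have hne : Nat.card (alternatingGroup (Fin n)) ≠ 0 := Nat.card_pos.ne'
      have h3 := congrArg (fun m => m.factorization p) h2
      simp only [Nat.factorization_mul two_ne_zero hne, Finsupp.coe_add, Pi.add_apply,
        Nat.Prime.factorization Nat.prime_two, Finsupp.single_eq_of_ne hp, zero_add] at h3
      rw [h3, Nat.factorization_def _ hpp,
        padicValNat_factorial (b := 2) (Nat.log_lt_of_lt_pow (by omega) hlt)]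
      simp
    have hA : Nat.card (altImage e (shGroup (n / p) p)) =
        p ^ (Nat.card (alternatingGroup (Fin n))).factorization p := by rw [hcardA, hval]
    let P : Sylow p (alternatingGroup (Fin n)) := Sylow.ofCard _ hA
    obtain ⟨g, hg⟩ := MulAction.exists_smul_eq (alternatingGroup (Fin n)) P S
    refine ⟨⟨fun x y => ?_⟩⟩
    have hmem : ∀ z : S, g⁻¹ * (z : alternatingGroup (Fin n)) * g ∈ altImage e (shGroup (n / p) p) := by
      intro z
      have hz : (z : alternatingGroup (Fin n)) ∈ ((g • P : Sylow p (alternatingGroup (Fin n))) :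
          Subgroup (alternatingGroup (Fin n))) := by rw [hg]; exact z.2
      rw [Sylow.coe_subgroup_smul, Subgroup.mem_pointwise_smul_iff_inv_smul_mem] at hz
      simpa [MulAut.smul_def, mul_assoc, P] using hz
    obtain ⟨_, ⟨b, rfl⟩, hb⟩ := hmem x
    obtain ⟨_, ⟨c, rfl⟩, hc⟩ := hmem y
    have h1 : g⁻¹ * (x : alternatingGroup (Fin n)) * g * (g⁻¹ * (y : alternatingGroup (Fin n)) * g) =
        g⁻¹ * (y : alternatingGroup (Fin n)) * g * (g⁻¹ * (x : alternatingGroup (Fin n)) * g) := by
      apply Subtype.ext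
      show Subtype.val (g⁻¹ * (x : alternatingGroup (Fin n)) * g) * Subtype.val (g⁻¹ * (y : alternatingGroup (Fin n)) * g) =
        Subtype.val (g⁻¹ * (y : alternatingGroup (Fin n)) * g) * Subtype.val (g⁻¹ * (x : alternatingGroup (Fin n)) * g)
      have hb' : Subtype.val (g⁻¹ * (x : alternatingGroup (Fin n)) * g) = viaEmbeddingHom e (sh b) := hb.symm
      have hc' : Subtype.val (g⁻¹ * (y : alternatingGroup (Fin n)) * g) = viaEmbeddingHom e (sh c) := hc.symm
      rw [hb', hc', ← map_mul, ← map_mul, ← sh_add, ← sh_add, add_comm]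
    apply Subtype.ext
    simpa [mul_assoc] using congrArg (fun v => g * v * g⁻¹) h1

end Cfsg.Agent.S5164
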