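import Cfsg.Statements.S5165
import Cfsg.Agent.Lib.FusionAlt.AltTwo
import Cfsg.Agent.Lib.FusionAlt.AltSimple
import Cfsg.Agent.Lib.KnownSimple51.TreeSylow

set_option autoImplicit false
open Cfsg

namespace Cfsg.Agent.S5165
open Cfsg.FusionSystem CfsgLib.FusionSimple CfsgLib.FusionAlt

/-- For n ≥ 6, a prime p with p² ≤ n, and n congruent to 0 or 1 modulo p, the p-fusion system of the alternating group of degree n on a Sylow p-subgroup is simple. -/
theorem result (n p : ℕ) (hn : 6 ≤ n) [Fact p.Prime] (hnp : p ^ 2 ≤ n) (hb : n % p ≤ 1) (S : Sylow p (alternatingGroup (Fin n))) : (Cfsg.groupFusionSystem (S : Subgroup (alternatingGroup (Fin n)))).IsSimple p := by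
  have hpp : p.Prime := Fact.out
  by_cases hp : p = 2
  · subst hp
    have hN := CfsgLib.KnownSimple51.TreeSylow.sylow_alternating_normalizer hn S
    refine group_isSimple' S ?_ (fun T hT => or_iff_not_imp_left.mpr fun hT1 => le_antisymm hT.1 fun s hs => ?_)
      fun E _ _ hel g hg => hel _ le_rfl g hg ?_
    · refine S.ne_bot_of_dvd_card ?_
      have : NeZero n := ⟨by omega⟩
      have : Nontrivial (Fin n) := Fin.nontrivial_iff_two_le.mpr (by omega)
      rw [nat_card_alternatingGroup, Nat.card_eq_fintype_card, Fintype.card_fin]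
      refine (Nat.dvd_div_iff_mul_dvd (Nat.dvd_factorial (by norm_num) (by omega))).mpr ?_
      exact (show 2 * 2 ∣ Nat.factorial 4 by decide).trans (Nat.factorial_dvd_factorial (by omega))
    · obtain ⟨k, hk⟩ := S.2 ⟨s, hs⟩
      exact mem_of_inC hT hs (inC_of_two hT hT1 _ k s (Nat.lt_succ_self _) (congrArg Subtype.val hk))
    · rw [hN] at hg
      obtain ⟨k, hk⟩ := S.2 ⟨g, hg⟩
      exact ⟨k, congrArg Subtype.val hk⟩
  · refine alt_isSimple (q := n / p) hp ?_ ?_ ?_ S
    · rw [Nat.le_div_iff_mul_le hpp.pos, ← pow_two]; exact hnp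
    · rw [Fintype.card_fin]; exact Nat.div_mul_le_self n p
    · rw [Fintype.card_fin]
      have := Nat.div_add_mod n p
      rw [mul_comm (n / p) p]
      omega

end Cfsg.Agent.S5165
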