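import Cfsg.Statements.S5172
import Cfsg.Agent.Lib.Fusion.SimplePSU

set_option autoImplicit false
open Cfsg

namespace Cfsg.Agent.S5172

/-- For a finite field K with q² elements of characteristic p and n ≥ 4, the p-fusion system of the projective special unitary group PSU_n(q) (realised over K) on a Sylow p-subgroup is simple. -/
theorem result {K : Type*} [Field K] [Fintype K] (p q : ℕ) [Fact p.Prime] [CharP K p] (hK : Fintype.card K = q ^ 2) (n : ℕ) (hn : 4 ≤ n) (S : Sylow p (Cfsg.PSU n K q)) : (Cfsg.groupFusionSystem (S : Subgroup (Cfsg.PSU n K q))).IsSimple p := by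
  classical
  obtain ⟨r, hr, ⟨H⟩⟩ := CfsgLib.FusionPSU.exists_hyp (q := q) hK n
  obtain ⟨P, hP⟩ := CfsgLib.FusionPSU.Hyp.exists_sylow H hK (by omega) p
  obtain ⟨g, hg⟩ := MulAction.exists_smul_eq (Cfsg.PSU n K q)
    (P.mapSurjective (f := QuotientGroup.mk' (Subgroup.center (Cfsg.SU n K q)))
      (QuotientGroup.mk'_surjective _)) S
  refine CfsgLib.FusionPSU.isSimple hK hn
    ((MulAut.conj g).toMonoidHom.comp (QuotientGroup.mk' (Subgroup.center (Cfsg.SU n K q))))
    ((MulAut.conj g).surjective.comp (QuotientGroup.mk'_surjective _)) ?_ H (by omega) S ?_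
  · ext x
    rw [MonoidHom.mem_ker, MonoidHom.comp_apply]
    exact ((MulAut.conj g).map_eq_one_iff).trans (QuotientGroup.eq_one_iff x)
  · rw [← hg, ← Subgroup.map_map, ← hP]
    rfl

end Cfsg.Agent.S5172
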