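import Cfsg.Statements.S5178
import Cfsg.Agent.Lib.Fusion.ExtraspecialIndexCore
import Cfsg.Agent.Lib.PGroup.Extraspecial
import Cfsg.Agent.Lib.PGroup.SoftSubgroup

set_option autoImplicit false
universe u
open Cfsg
open scoped commutatorElement

namespace Cfsg.Agent.S5178

/-- Let p be an odd prime, S a finite p-group containing an extraspecial subgroup Q of index p, and F a saturated fusion system over S whose largest subgroup normal in F is trivial. Then the centre of S equals the centre of Q. -/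
theorem result {Ω : Type u} [Group Ω] {S : Subgroup Ω} [Finite S] (p : ℕ) [Fact p.Prime] (hp : Odd p) (hS : IsPGroup p S)
    (Q : Subgroup Ω) (hQS : Q ≤ S) (hQ : Cfsg.IsExtraspecial p ↥Q) (hQi : (Q.subgroupOf S).index = p)
    (F : Cfsg.FusionSystem S) (hF : F.IsSaturated p) (hO : F.core = ⊥) :
    S ⊓ Subgroup.centralizer (S : Set Ω) = Q ⊓ Subgroup.centralizer (Q : Set Ω) := by
  classical
  have hQfin : Finite ↥Q := CfsgLib.Fusion.finite_of_le hQS
  have hC := hQ.2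
  -- the subgroup `Z(Q)` in the ambient group
  have hZQ : ∀ x : Ω, x ∈ Q ⊓ Subgroup.centralizer (Q : Set Ω) ↔
      ∃ hx : x ∈ Q, (⟨x, hx⟩ : ↥Q) ∈ Subgroup.center ↥Q := by
    intro x
    constructor
    · intro hx
      exact ⟨hx.1, Subgroup.mem_center_iff.mpr fun y => Subtype.ext (hx.2 y y.2)⟩
    · rintro ⟨hx, hc⟩
      exact ⟨hx, fun y hy => congrArg Subtype.val (Subgroup.mem_center_iff.mp hc ⟨y, hy⟩)⟩
  have hnorm : (Q.subgroupOf S).Normal := by
    have := hS.isNilpotent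
    refine Subgroup.NormalizerCondition.normal_of_coatom _ Group.normalizerCondition_of_isNilpotent ⟨?_, ?_⟩
    · intro e
      rw [e, Subgroup.index_top] at hQi
      exact (Fact.out : p.Prime).one_lt.ne hQi
    · intro K hK
      have h1 := Subgroup.relIndex_mul_index hK.le
      rw [hQi] at h1
      rcases (Nat.dvd_prime Fact.out).mp (Dvd.intro_left _ h1) with h2 | h2
      · exact Subgroup.index_eq_one.mp h2
      · rw [h2] at h1
        have h3 : (Q.subgroupOf S).relIndex K = 1 :=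
          Nat.eq_of_mul_eq_mul_right (Fact.out : p.Prime).pos (h1.trans (one_mul p).symm)
        exact absurd (Subgroup.relIndex_eq_one.mp h3) (fun hle => hK.not_ge hle)
  have hconj : ∀ s ∈ S, ∀ q ∈ Q, s * q * s⁻¹ ∈ Q := fun s hs q hq =>
    hnorm.conj_mem ⟨q, hQS hq⟩ hq ⟨s, hs⟩
  -- a generator of `Z(Q)`
  obtain ⟨z, hz, hz1⟩ : ∃ z ∈ Subgroup.center ↥Q, z ≠ 1 := by
    refine (Subgroup.bot_or_exists_ne_one _).resolve_left fun e => ?_
    rw [e, Subgroup.card_bot] at hC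
    exact (Fact.out : p.Prime).one_lt.ne hC
  have hzgen := CfsgLib.PGroup.extraspecial_zpowers_eq_center hQ hz hz1
  set w : Ω := (z : Ω)
  have hwQ : ∀ x : Ω, x ∈ Q ⊓ Subgroup.centralizer (Q : Set Ω) ↔ x ∈ Subgroup.zpowers w := by
    intro x
    rw [hZQ]
    constructor
    · rintro ⟨hx, hc⟩
      obtain ⟨i, hi⟩ := hzgen.ge hc
      exact ⟨i, by simpa using congrArg Subtype.val hi⟩
    · rintro ⟨i, rfl⟩
      refine ⟨Subgroup.zpow_mem _ z.2 i, ?_⟩
      convert Subgroup.zpow_mem _ hz i using 1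
      exact Subtype.ext rfl
  have hwp : orderOf w = p := by
    rw [Subgroup.orderOf_coe, ← hC, ← Nat.card_zpowers, hzgen]
  -- `Z(Q)` is central in `S`
  have hwc : w ∈ S ⊓ Subgroup.centralizer (S : Set Ω) := by
    refine ⟨hQS z.2, fun s hs => ?_⟩
    let N : Subgroup ↥S := (Q ⊓ Subgroup.centralizer (Q : Set Ω)).subgroupOf S
    have hNn : N.Normal := by
      constructor
      rintro ⟨x, hxS⟩ hx ⟨t, ht⟩
      refine ⟨hconj t ht x hx.1, fun q hq => ?_⟩
      have h2 := hx.2 (t⁻¹ * q * t) (by simpa using hconj t⁻¹ (S.inv_mem ht) q hq)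
      show q * (t * x * t⁻¹) = (t * x * t⁻¹) * q
      calc q * (t * x * t⁻¹) = t * ((t⁻¹ * q * t) * x) * t⁻¹ := by group
        _ = t * (x * (t⁻¹ * q * t)) * t⁻¹ := congrArg (fun y => t * y * t⁻¹) h2
        _ = _ := by group
    have hwN : (⟨w, hQS z.2⟩ : ↥S) ∈ N := (hwQ w).mpr (Subgroup.mem_zpowers w)
    have hNne : N ≠ ⊥ := fun e => hz1 (by
      rw [e, Subgroup.mem_bot] at hwN
      exact Subtype.ext (show w = 1 from congrArg Subtype.val hwN))
    have hcard : Nat.card N = p := by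
      have hle : Q ⊓ Subgroup.centralizer (Q : Set Ω) ≤ S := inf_le_left.trans hQS
      rw [Nat.card_congr (Subgroup.subgroupOfEquivOfLe hle).toEquiv,
        show Q ⊓ Subgroup.centralizer (Q : Set Ω) = Subgroup.zpowers w from Subgroup.ext hwQ,
        Nat.card_zpowers, hwp]
    have hle : N ≤ Subgroup.center ↥S := CfsgLib.SoftSubgroup.le_center_of_card_eq hS N hcard
    exact congrArg Subtype.val (Subgroup.mem_center_iff.mp (hle hwN) ⟨s, hs⟩)
  by_contra hne
  have hQQ : Q ⊓ Subgroup.centralizer (Q : Set Ω) ≤ S ⊓ Subgroup.centralizer (S : Set Ω) := fun x hx =>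
    Subgroup.zpowers_le.mpr hwc ((hwQ x).mp hx)
  obtain ⟨c, hc, hcn⟩ := SetLike.not_le_iff_exists.mp fun h => hne (le_antisymm h hQQ)
  have hcQ : c ∉ Q := fun h => hcn ⟨h, fun q hq => hc.2 q (hQS hq)⟩
  -- every element of `S` is an element of `Q` times a power of `c`
  have hdec : ∀ x ∈ S, ∃ q ∈ Q, ∃ i : ℕ, x = q * c ^ i := by
    intro x hx
    have hq : Nat.card (↥S ⧸ Q.subgroupOf S) = p := hQi
    have hne' : (QuotientGroup.mk' (Q.subgroupOf S) ⟨c, hc.1⟩) ≠ 1 := fun e =>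
      hcQ ((QuotientGroup.eq_one_iff (N := Q.subgroupOf S) ⟨c, hc.1⟩).mp e)
    obtain ⟨i, hi⟩ := Submonoid.mem_powers_iff _ _ |>.mp
      (mem_powers_of_prime_card hq hne' (g' := QuotientGroup.mk' (Q.subgroupOf S) ⟨x, hx⟩))
    rw [← map_pow] at hi
    have hm : ((c ^ i)⁻¹ * x) ∈ Q := (QuotientGroup.eq.mp hi : ((⟨c, hc.1⟩ : ↥S) ^ i)⁻¹ * ⟨x, hx⟩ ∈ Q.subgroupOf S)
    refine ⟨_, hm, i, ?_⟩
    rw [hc.2 ((c ^ i)⁻¹ * x) (hQS hm) |> fun h => (Commute.pow_right (h : Commute _ c) i).eq, mul_inv_cancel_left]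
  have hcom : ∀ q ∈ Q, ∀ i : ℕ, Commute q (c ^ i) := fun q hq i =>
    Commute.pow_right (hc.2 q (hQS hq) : Commute q c) i
  have hdata : CfsgLib.Fusion.ExtraIndex.Data p S w := by
    refine ⟨hS, hp, hwc, hwp, ?_, ?_, ?_⟩
    · intro x hx y hy
      obtain ⟨q, hq, i, rfl⟩ := hdec x hx
      obtain ⟨r, hr, j, rfl⟩ := hdec y hy
      have h0 := CfsgLib.PGroup.extraspecial_comm_mem_center hQ ⟨q, hq⟩ ⟨r, hr⟩
      rw [← hwQ]
      have e : ⁅q * c ^ i, r * c ^ j⁆ = ⁅q, r⁆ := by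
        have h1 := hcom r hr i
        have h2 := hcom q hq j
        have h3 : Commute (c ^ i) (c ^ j) := Commute.pow_pow (Commute.refl c) i j
        simp only [commutatorElement_def, mul_inv_rev]
        calc q * c ^ i * (r * c ^ j) * ((c ^ i)⁻¹ * q⁻¹) * ((c ^ j)⁻¹ * r⁻¹)
            = q * (c ^ i * r) * (c ^ j * (c ^ i)⁻¹) * q⁻¹ * (c ^ j)⁻¹ * r⁻¹ := by group
          _ = q * (r * c ^ i) * ((c ^ i)⁻¹ * c ^ j) * q⁻¹ * (c ^ j)⁻¹ * r⁻¹ := by
            rw [h1.symm.eq, h3.inv_left.symm.eq]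
          _ = q * r * (c ^ j * q⁻¹) * (c ^ j)⁻¹ * r⁻¹ := by group
          _ = q * r * (q⁻¹ * c ^ j) * (c ^ j)⁻¹ * r⁻¹ := by rw [h2.inv_left.symm.eq]
          _ = _ := by group
      rw [e, hZQ]
      exact ⟨_, h0⟩
    · intro x hx
      obtain ⟨q, hq, i, rfl⟩ := hdec x hx
      rw [(hcom q hq i).mul_pow]
      refine Subgroup.mul_mem _ ?_ ?_
      · rw [← hwQ, hZQ]
        exact ⟨_, CfsgLib.PGroup.extraspecial_pow_mem_center hQ ⟨q, hq⟩⟩
      · rw [← pow_mul, mul_comm, pow_mul]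
        refine Subgroup.pow_mem _ ?_ i
        rw [← hwQ]
        have hcp : c ^ p ∈ Q := by
          have h1 := Subgroup.pow_index_mem (Q.subgroupOf S) (⟨c, hc.1⟩ : ↥S)
          rw [hQi] at h1
          exact h1
        exact ⟨hcp, fun q' hq' => (hcom q' hq' p).eq⟩
    · exact fun h => hcn ((hwQ c).mpr (h hc))
  exact hdata.core_ne_bot hF hO

end Cfsg.Agent.S5178
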