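import Cfsg.Statements.S5179
import Cfsg.Agent.Lib.Fusion.ExtraspecialIndexCore
import Cfsg.Agent.Lib.Fusion.EssentialTransvection
import Cfsg.Agent.Lib.PGroup.Extraspecial
import Cfsg.Agent.Lib.PGroup.IndexP

set_option autoImplicit false
universe u
open Cfsg Cfsg.FusionSystem CfsgLib.Fusion
open scoped commutatorElement

namespace Cfsg.Agent.S5179

/-- Let p be an odd prime, S a finite p-group of order at least p⁶ containing an extraspecial subgroup Q of index p, and F a saturated fusion system over S whose largest subgroup normal in F is trivial. Then no proper subgroup of Q is essential in F: an essential subgroup of F contained in Q equals Q. -/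
theorem result {Ω : Type u} [Group Ω] {S : Subgroup Ω} [Finite S] (p : ℕ) [Fact p.Prime] (hp : Odd p) (hS : IsPGroup p S)
    (Q : Subgroup Ω) (hQS : Q ≤ S) (hQ : Cfsg.IsExtraspecial p ↥Q) (hQi : (Q.subgroupOf S).index = p)
    (h6 : p ^ 6 ≤ Nat.card S)
    (F : Cfsg.FusionSystem S) (hF : F.IsSaturated p) (hO : F.core = ⊥)
    (E : Subgroup Ω) (hEQ : E ≤ Q) (hE : F.IsEssential p E) : E = Q := by
  classical
  have hp' : p.Prime := (inferInstance : Fact p.Prime).out
  have hQfin : Finite ↥Q := finite_of_le hQS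
  have hES : E ≤ S := hEQ.trans hQS
  have hEfin : Finite ↥E := finite_of_le hES
  have hQP : IsPGroup p Q := hS.to_le hQS
  have hnorm : (Q.subgroupOf S).Normal := CfsgLib.PGroup.normal_of_index_eq hS hQi
  have hQn : S ≤ Subgroup.normalizer (Q : Set Ω) := fun s hs => mem_normalizer_of_forall fun q hq =>
    hnorm.conj_mem ⟨q, hQS hq⟩ hq ⟨s, hs⟩
  obtain ⟨z, hz, hz1⟩ : ∃ z ∈ Subgroup.center ↥Q, z ≠ 1 := by
    refine (Subgroup.bot_or_exists_ne_one _).resolve_left fun e => ?_
    have hC := hQ.2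
    rw [e, Subgroup.card_bot] at hC
    exact hp'.ne_one hC.symm
  have hzgen := CfsgLib.PGroup.extraspecial_zpowers_eq_center hQ hz hz1
  set w : Ω := (z : Ω) with hw
  have hwp : orderOf w = p := by
    rw [hw, Subgroup.orderOf_coe, ← Nat.card_zpowers, hzgen, hQ.2]
  have hwc : ∀ q ∈ Q, q * w = w * q := fun q hq =>
    congrArg Subtype.val (Subgroup.mem_center_iff.mp hz ⟨q, hq⟩)
  have hcomm : ∀ x ∈ Q, ∀ y ∈ Q, ⁅x, y⁆ ∈ Subgroup.zpowers w := fun x hx y hy => by
    obtain ⟨i, hi⟩ := hzgen.ge (CfsgLib.PGroup.extraspecial_comm_mem_center hQ ⟨x, hx⟩ ⟨y, hy⟩)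
    exact ⟨i, by simpa [commutatorElement_def] using congrArg Subtype.val hi⟩
  have hC : centralizerIn S E ≤ E := IsCentric.centralizerIn_le' hE.1
  have hwE : w ∈ E := hC ⟨hQS z.2, fun y hy => hwc y (hEQ hy)⟩
  have hwZE : Subgroup.zpowers w ≤ E := Subgroup.zpowers_le.mpr hwE
  have hconjE : ∀ q ∈ Q, ∀ x ∈ E, q * x * q⁻¹ ∈ E := fun q hq x hx => by
    rw [show q * x * q⁻¹ = ⁅q, x⁆ * x by rw [commutatorElement_def]; group]
    exact E.mul_mem (hwZE (hcomm q hq x (hEQ hx))) hx
  have hstep : ∀ q ∈ Q, ∀ x ∈ E, x⁻¹ * (q * x * q⁻¹) ∈ Subgroup.zpowers w := fun q hq x hx => by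
    have h := hcomm x⁻¹ (Q.inv_mem (hEQ hx)) q hq
    rwa [commutatorElement_def, inv_inv, show x⁻¹ * q * x * q⁻¹ = x⁻¹ * (q * x * q⁻¹) by group] at h
  have hfixw : ∀ q ∈ Q, ∀ x ∈ Subgroup.zpowers w, q * x * q⁻¹ = x := by
    rintro q hq _ ⟨i, rfl⟩
    show q * w ^ i * q⁻¹ = w ^ i
    rw [((show Commute q w from hwc q hq).zpow_right i).eq, mul_inv_cancel_right]
  by_contra hne
  -- some automorphism moves the centre of `Q`
  obtain ⟨g, hg, hgw⟩ : ∃ g ∈ F.autGroup E, ((g ⟨w, hwE⟩ : E) : Ω) ∉ Subgroup.zpowers w := by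
    by_contra hno
    push Not at hno
    let L : ℕ → Subgroup E := fun i =>
      if i = 0 then ⊥ else if i = 1 then (Subgroup.zpowers w).subgroupOf E else ⊤
    have hinv : ∀ i ≤ 2, ∀ a ∈ F.autGroup E, ∀ x ∈ L i, a x ∈ L i := by
      intro i hi a ha x hx
      interval_cases i
      · simp only [L, if_pos rfl, Subgroup.mem_bot] at hx ⊢
        rw [hx, map_one]
      · simp only [L, one_ne_zero, if_false, if_true, Subgroup.mem_subgroupOf] at hx ⊢
        obtain ⟨k, hk⟩ := hx
        have : x = (⟨w, hwE⟩ : E) ^ k := Subtype.ext (by simpa using hk.symm)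
        rw [this, map_zpow, Subgroup.coe_zpow]
        exact Subgroup.zpow_mem _ (hno a ha) k
      · simp [L]
    refine hne (le_antisymm hEQ (le_of_centric_radical hS hE.1 (radical_of_essential hE hS) hQS hQn
      (A := seriesStabilizer F E 2 L hinv) (fun a ha => ha.1) ?_
      (fun a ha b hb => seriesStabilizer_conj_mem ha hb) ?_))
    · rintro ⟨a, ha⟩
      obtain ⟨k, hk⟩ := exists_pow_eq_one_of_stabilizes (hS.to_le hES) L (n := 2)
        (fun i hi => by interval_cases i <;> simp [L]) (by simp [L]) (α := a)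
        ⟨0, fun x hx => by
          simp only [L, if_pos rfl, Subgroup.mem_bot] at hx
          simp [hx]⟩ ha.2
      exact ⟨k, Subtype.ext hk⟩
    · intro q hq a hae
      refine ⟨autInducedBy_le_autGroup hES (mem_autInducedBy.mpr ⟨q, hQS hq, hae⟩), fun i hi x hx => ?_⟩
      interval_cases i
      · simp only [L, zero_add, one_ne_zero, if_false, if_true, Subgroup.mem_subgroupOf] at hx
        simp only [L, if_pos rfl, Subgroup.mem_bot]
        refine Subtype.ext ?_
        rw [Subgroup.coe_mul, Subgroup.coe_inv, hae, hfixw q hq _ hx, inv_mul_cancel, Subgroup.coe_one]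
      · simp only [L, one_ne_zero, if_false, if_true, Subgroup.mem_subgroupOf]
        rw [Subgroup.coe_mul, Subgroup.coe_inv, hae]
        exact hstep q hq _ x.2
  -- so `E` is abelian
  have hab : ∀ a b : E, a * b = b * a := by
    intro a b
    by_contra hab
    have hc : ((⁅a, b⁆ : E) : Ω) ∈ Subgroup.zpowers w := hcomm _ (hEQ a.2) _ (hEQ b.2)
    have hc1 : ((⁅a, b⁆ : E) : Ω) ≠ 1 := fun e =>
      hab (commutatorElement_eq_one_iff_mul_comm.mp (Subtype.ext e))
    have hfin : Finite (Subgroup.zpowers w) := Nat.finite_of_card_ne_zero (by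
      rw [Nat.card_zpowers, hwp]; exact hp'.ne_zero)
    obtain ⟨k, hk⟩ : w ∈ Subgroup.zpowers ((⁅a, b⁆ : E) : Ω) := by
      have heq : Subgroup.zpowers ((⁅a, b⁆ : E) : Ω) = Subgroup.zpowers w := by
        refine Subgroup.eq_of_le_of_card_ge (Subgroup.zpowers_le.mpr hc) ?_
        rw [Nat.card_zpowers, Nat.card_zpowers, hwp]
        rcases hp'.eq_one_or_self_of_dvd _ (hwp ▸ orderOf_dvd_of_mem_zpowers hc) with h | h
        · exact absurd (orderOf_eq_one_iff.mp h) hc1
        · exact h.ge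
      rw [heq]; exact Subgroup.mem_zpowers w
    have e : (⟨w, hwE⟩ : E) = ⁅a, b⁆ ^ k := Subtype.ext (by simpa using hk.symm)
    refine hgw ?_
    rw [e, map_zpow, map_commutatorElement, Subgroup.coe_zpow]
    exact Subgroup.zpow_mem _ (hcomm _ (hEQ (g a).2) _ (hEQ (g b).2)) k
  have habi : IsMulCommutative ↥E := ⟨⟨hab⟩⟩
  -- `E` has index at least `p²` in `Q`
  have hidx : p < (E.subgroupOf Q).index := by
    obtain ⟨n, hn⟩ := hQP.index (E.subgroupOf Q)
    rcases n with _ | _ | n
    · exact absurd (le_antisymm hEQ (Subgroup.subgroupOf_eq_top.mp (Subgroup.index_eq_one.mp (by rw [hn, pow_zero])))) hne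
    · exfalso
      rw [zero_add, pow_one] at hn
      have hna : ¬ IsMulCommutative ↥Q := fun h => by
        have h1 := hQ.1.2.2
        have : commutator ↥Q = ⊥ := by
          rw [eq_bot_iff, commutator_def, Subgroup.commutator_le]
          intro a _ b _
          exact Subgroup.mem_bot.mpr (commutatorElement_eq_one_iff_mul_comm.mpr (h.is_comm.comm a b))
        exact hz1 (Subgroup.mem_bot.mp (this ▸ h1 ▸ hz))
      have hA : IsMulCommutative ↥(E.subgroupOf Q) :=
        ⟨⟨fun a b => Subtype.ext (Subtype.ext (congrArg (fun e : E => (e : Ω)) (hab ⟨_, a.2⟩ ⟨_, b.2⟩) : ((a : Q) : Ω) * ((b : Q) : Ω) = ((b : Q) : Ω) * ((a : Q) : Ω)))⟩⟩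
      have hi := CfsgLib.PGroup.index_center_of_abelian_index hQP hna hA hn
      rw [hQ.1.2.2, hQ.2] at hi
      have hQc := (Subgroup.center ↥Q).card_mul_index
      rw [hi, hQ.2] at hQc
      have hSc := (Q.subgroupOf S).card_mul_index
      rw [hQi, Nat.card_congr (Subgroup.subgroupOfEquivOfLe hQS).toEquiv, ← hQc] at hSc
      rw [← hSc, show p * (p * p) * p = p ^ 4 by ring] at h6
      exact absurd ((Nat.pow_le_pow_iff_right hp'.one_lt).mp h6) (by norm_num)
    · rw [hn]
      calc p = p ^ 1 := (pow_one p).symm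
        _ < p ^ (n + 1 + 1) := Nat.pow_lt_pow_right hp'.one_lt (by omega)
  -- the conjugation action of `Q`
  let c : Q →* MulAut E :=
    { toFun := fun q =>
        { toFun := fun x => ⟨q * x * (q : Ω)⁻¹, hconjE q q.2 x x.2⟩
          invFun := fun x => ⟨(q : Ω)⁻¹ * x * q, by simpa using hconjE (q : Ω)⁻¹ (Q.inv_mem q.2) x x.2⟩
          left_inv := fun x => Subtype.ext (by simp [mul_assoc])
          right_inv := fun x => Subtype.ext (by simp [mul_assoc])
          map_mul' := fun x y => Subtype.ext (by simp [mul_assoc]) }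
      map_one' := MulEquiv.ext fun x => Subtype.ext (by simp)
      map_mul' := fun a b => MulEquiv.ext fun x => Subtype.ext (by simp [mul_assoc]) }
  have hce : ∀ (q : Q) (x : E), ((c q x : E) : Ω) = q * x * (q : Ω)⁻¹ := fun _ _ => rfl
  have hker : c.ker = E.subgroupOf Q := by
    ext q
    constructor
    · intro hq
      refine hC ⟨hQS q.2, fun y hy => ?_⟩
      have h := congrArg Subtype.val (DFunLike.congr_fun (hq : c q = 1) ⟨y, hy⟩)
      rw [hce] at h
      exact (mul_inv_eq_iff_eq_mul.mp h).symm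
    · intro hq
      refine MulEquiv.ext fun x => Subtype.ext ?_
      rw [hce]
      exact mul_inv_eq_iff_eq_mul.mpr (congrArg Subtype.val (hab ⟨_, hq⟩ x))
  have hle : c.range ≤ F.autGroup E := by
    rintro _ ⟨q, rfl⟩
    exact autInducedBy_le_autGroup hES (mem_autInducedBy.mpr ⟨q, hQS q.2, hce q⟩)
  obtain ⟨-, hfn, hN, H, hH⟩ := hE
  have : Finite (MulAut E) := finite_mulAut hES
  set A := F.autGroup E
  set I := (Inn E).subgroupOf A
  have hI : I = ⊥ := by
    rw [eq_bot_iff]
    intro a ha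
    obtain ⟨y, hy⟩ := mem_inn.mp (Subgroup.mem_subgroupOf.mp ha)
    refine Subgroup.mem_bot.mpr (Subtype.ext (MulEquiv.ext fun x => ?_))
    rw [hy, hab y x, mul_inv_cancel_right]
    rfl
  let ρ : A ⧸ I →* MulAut E := QuotientGroup.lift I A.subtype (fun a ha => by
    rw [hI, Subgroup.mem_bot] at ha
    rw [ha]; exact one_mem _)
  have hρm : ∀ a : A, ρ (QuotientGroup.mk' I a) = (a : MulAut E) := fun _ => rfl
  have hρ : Function.Injective ρ := by
    intro u v huv
    obtain ⟨u, rfl⟩ := QuotientGroup.mk'_surjective I u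
    obtain ⟨v, rfl⟩ := QuotientGroup.mk'_surjective I v
    rw [hρm, hρm] at huv
    rw [Subtype.ext huv]
  let d : Q →* A ⧸ I := (QuotientGroup.mk' I).comp ((Subgroup.inclusion hle).comp c.rangeRestrict)
  have hρd : ∀ q, ρ (d q) = c q := fun q => rfl
  have hd : d.ker = c.ker := by
    ext q
    rw [MonoidHom.mem_ker, MonoidHom.mem_ker, ← hρd]
    exact ⟨fun h => by rw [h, map_one], fun h => hρ (h.trans (map_one ρ).symm)⟩
  have hT : p < Nat.card d.range := by
    rw [← Subgroup.index_ker, hd, hker]; exact hidx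
  let _ : CommGroup E := { mul_comm := hab }
  have hTp : IsPGroup p d.range := by
    have h := (IsPGroup.of_injective hQP (⊤ : Subgroup Q).subtype Subtype.val_injective).map d
    rwa [← MonoidHom.range_eq_map] at h
  refine CfsgLib.FusionTransvection.false_of_stabilizer ρ hρ hH d.range hTp ((Subgroup.zpowers w).subgroupOf E)
    (by rw [Nat.card_congr (Subgroup.subgroupOfEquivOfLe hwZE).toEquiv, Nat.card_zpowers, hwp]) ?_ ?_ hT
  · rintro _ ⟨q, rfl⟩ x hx
    rw [hρd]
    exact Subtype.ext ((hce q x).trans (hfixw q q.2 _ hx))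
  · rintro _ ⟨q, rfl⟩ x
    rw [Subgroup.mem_subgroupOf, hρd, Subgroup.coe_mul, Subgroup.coe_inv, hce]
    exact hstep q q.2 x x.2

end Cfsg.Agent.S5179
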