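import Cfsg.Statements.S5177
import Cfsg.Agent.S5178
import Cfsg.Agent.S5179
import Cfsg.Agent.Lib.Fusion.IndexExtra.InnerFrame
import Cfsg.Agent.Lib.Fusion.IndexExtra.Normalise
import Cfsg.Agent.Lib.Fusion.IndexExtra.OuterFrame
import Cfsg.Agent.Lib.Fusion.IndexExtra.PearlFrame
import Cfsg.Agent.Lib.Fusion.IndexExtra.ModelSL
import Cfsg.Agent.Lib.Fusion.IndexExtra.ModelSU
import Cfsg.Agent.Lib.Fusion.IndexExtra.ModelG2

set_option autoImplicit false
universe u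
open Cfsg

namespace Cfsg.Agent.S5177

open CfsgLib.IndexExtra

variable {Ω : Type u} [Group Ω] {S : Subgroup Ω}

/-- A generating family of `S` read inside `S`. -/
theorem exists_inside {w : Fin 6 → Ω} (hmem : ∀ i, w i ∈ S) (hgen : S ≤ Subgroup.closure (Set.range w)) :
    ∃ v : Fin 6 → S, (∀ i, S.subtype (v i) = w i) ∧ Subgroup.closure (Set.range v) = ⊤ := by
  refine ⟨fun i => ⟨w i, hmem i⟩, fun _ => rfl, Subgroup.map_injective S.subtype_injective ?_⟩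
  rw [MonoidHom.map_closure, ← Set.range_comp, ← MonoidHom.range_eq_map, Subgroup.range_subtype]
  refine le_antisymm ((Subgroup.closure_le S).mpr ?_) hgen
  rintro _ ⟨i, rfl⟩
  exact hmem i


/-- Let p be an odd prime, S a finite p-group of order at least p⁶ containing an extraspecial subgroup Q of index p, and F a saturated fusion system over S whose largest subgroup normal in F is trivial. Then S is isomorphic to a Sylow p-subgroup of SL(4,p), to a Sylow p-subgroup of SU(4,p), to a Sylow p-subgroup of G₂(p) with p ≥ 5, or p ≥ 11 and S has order p^(p−1), exponent p and maximal nilpotency class. -/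
theorem result {Ω : Type u} [Group Ω] {S : Subgroup Ω} [Finite S] (p : ℕ) [Fact p.Prime] (hp : Odd p) (hS : IsPGroup p S)
    (Q : Subgroup Ω) (hQS : Q ≤ S) (hQ : Cfsg.IsExtraspecial p ↥Q) (hQi : (Q.subgroupOf S).index = p)
    (h6 : p ^ 6 ≤ Nat.card S)
    (F : Cfsg.FusionSystem S) (hF : F.IsSaturated p) (hO : F.core = ⊥) [Group.IsNilpotent ↥S] :
    (∃ P : Sylow p (Matrix.SpecialLinearGroup (Fin 4) (ZMod p)),
        Nonempty (↥S ≃* ↥(P : Subgroup (Matrix.SpecialLinearGroup (Fin 4) (ZMod p))))) ∨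
      (∃ (K : Type) (_ : Field K) (_ : Fintype K), Fintype.card K = p ^ 2 ∧
        ∃ P : Sylow p ↥(Cfsg.SU 4 K p), Nonempty (↥S ≃* ↥(P : Subgroup ↥(Cfsg.SU 4 K p)))) ∨
      (5 ≤ p ∧ ∃ P : Sylow p ↥(Cfsg.Lie.G2 (ZMod p)), Nonempty (↥S ≃* ↥(P : Subgroup ↥(Cfsg.Lie.G2 (ZMod p))))) ∨
      (11 ≤ p ∧ Nat.card S = p ^ (p - 1) ∧ (∀ x : ↥S, x ^ p = 1) ∧ Group.nilpotencyClass ↥S = p - 2) := by
  obtain ⟨z, hA⟩ := Amb.of_extraspecial hS hp hQS hQ hQi h6
    (Cfsg.Agent.S5178.result p hp hS Q hQS hQ hQi F hF hO)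
  obtain ⟨E, hE, M⟩ := exists_mov hA hF hO fun P hP hPe =>
    Cfsg.Agent.S5179.result p hp hS Q hQS hQ hQi h6 F hF hO P hP hPe
  have hp0 : 0 < p := (Fact.out : p.Prime).pos
  have hchain : 5 ≤ p → Nat.card S = p ^ 6 → (∃ w : Fin 6 → Ω, Chain p w ∧ (∀ i, w i ∈ S) ∧
      S ≤ Subgroup.closure (Set.range w)) →
      ∃ P : Sylow p ↥(Cfsg.Lie.G2 (ZMod p)), Nonempty (↥S ≃* ↥(P : Subgroup ↥(Cfsg.Lie.G2 (ZMod p)))) := by
    rintro h5 hc ⟨w, hw, hmem, hgen⟩
    obtain ⟨v, hv, hv'⟩ := exists_inside hmem hgen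
    obtain ⟨P, u, hu, hcP, hu'⟩ := exists_chain_G2 p h5
    exact ⟨P, nonempty_equiv_of_chain hp0
      (Chain.of_injective S.subtype_injective (by simpa only [hv] using hw)) hu hc hcP hv' hu'⟩
  have hlag : Nat.card S = p ^ 6 → (∃ n₁ n₂ x, Pre p S z n₁ n₂ x) →
      (∃ P : Sylow p (Matrix.SpecialLinearGroup (Fin 4) (ZMod p)),
        Nonempty (↥S ≃* ↥(P : Subgroup (Matrix.SpecialLinearGroup (Fin 4) (ZMod p))))) ∨
      (∃ (K : Type) (_ : Field K) (_ : Fintype K), Fintype.card K = p ^ 2 ∧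
        ∃ P : Sylow p ↥(Cfsg.SU 4 K p), Nonempty (↥S ≃* ↥(P : Subgroup ↥(Cfsg.SU 4 K p)))) := by
    rintro hc ⟨n₁, n₂, x, P⟩
    obtain ⟨ε', hε'⟩ := FiniteField.exists_nonsquare (F := ZMod p) (by
      rw [ZMod.ringChar_zmod_n]
      rintro rfl
      exact absurd hp (by decide))
    obtain ⟨d, w, hd, hw, hmem, hgen⟩ := P.exists_lag hp (ε := (ε'.val : ℤ)) (by
      rwa [Int.cast_natCast, ZMod.natCast_zmod_val])
    obtain ⟨v, hv, hv'⟩ := exists_inside hmem hgen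
    have hvL : Lag p d v := Lag.of_injective S.subtype_injective (by simpa only [hv] using hw)
    rcases hd with rfl | rfl
    · obtain ⟨R, u, hu, hcR, hu'⟩ := exists_lag_SL p hp
      exact Or.inl ⟨R, nonempty_equiv_of_lag hp0 hvL hu hc hcR hv' hu'⟩
    · let iK : Fintype (GaloisField p 2) := Fintype.ofFinite _
      have hK : Fintype.card (GaloisField p 2) = p ^ 2 := by
        rw [← Nat.card_eq_fintype_card, GaloisField.card p 2 two_ne_zero]
      obtain ⟨R, u, hu, hcR, hu'⟩ := exists_lag_SU p hp (ε'.val : ℤ)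
        (by rwa [Int.cast_natCast, ZMod.natCast_zmod_val]) (GaloisField p 2) hK
      exact Or.inr ⟨GaloisField p 2, inferInstance, iK, hK, R,
        nonempty_equiv_of_lag hp0 hvL hu hc hcR hv' hu'⟩
  by_cases hin : ∃ g ∈ F.autGroup E, ap g z ∉ Subgroup.zpowers z ∧ ap g z ∈ Q
  · obtain ⟨g, hgX, hg, hgQ⟩ := hin
    obtain ⟨hc, hP | ⟨h5, hw⟩⟩ := M.inner hA hgX hg hgQ
    · exact (hlag hc hP).imp_right Or.inl
    · exact Or.inr (Or.inr (Or.inl ⟨h5, hchain h5 hc hw⟩))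
  obtain ⟨g, hgX, hg⟩ := M.moved
  have O : CfsgLib.IndexExtra.Out p S Q E z (F.autGroup E) g :=
    ⟨hA, M, hgX, hg, fun g' hg' hm hQ' => hin ⟨g', hg', hm, hQ'⟩⟩
  rcases O.frame with hD | ⟨hc, hP⟩
  · have R : Prl p S Q E z F g := ⟨hF, hE, O, hD⟩
    rcases R.conclusion with ⟨h5, hc, hw⟩ | h11
    · exact Or.inr (Or.inr (Or.inl ⟨h5, hchain h5 hc hw⟩))
    · exact Or.inr (Or.inr (Or.inr h11))
  · exact (hlag hc hP).imp_right Or.inl

end Cfsg.Agent.S5177
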