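import Cfsg.Statements.S5180
import Cfsg.Agent.Lib.Fusion.RankThree.Bridge

set_option autoImplicit false
universe u
open Cfsg

namespace Cfsg.Agent.S5180

/-- Let p ≥ 5 be a prime, S a finite p-group of sectional p-rank exactly 3, and F a saturated fusion system over S. Then every essential subgroup E of F that needs three generators (the Frattini quotient E/Φ(E) has order p³) is normal in S. -/
theorem result {Ω : Type u} [Group Ω] {S : Subgroup Ω} [Finite S] (p : ℕ) [Fact p.Prime] (hp : 5 ≤ p) (hS : IsPGroup p S) (hsr : Cfsg.SectionalPRankLE p 3 ↥S ∧ ¬ Cfsg.SectionalPRankLE p 2 ↥S)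
    (F : Cfsg.FusionSystem S) (hF : F.IsSaturated p) (E : Subgroup Ω) (hE : F.IsEssential p E)
    (hrk : (frattini ↥E).index = p ^ 3) : S ≤ Subgroup.normalizer (E : Set Ω) := by
  exact CfsgLib.FusionRankThree.le_normalizer_of_rank_three hp hS hsr.1 hF hE hrk

end Cfsg.Agent.S5180
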