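import Cfsg.Statements.S5189
import Cfsg.Agent.Lib.Fusion.RankThreePair.Exclude
import Cfsg.Agent.Lib.Fusion.RankThreePair.Model
import Cfsg.Agent.Lib.LargeExtra.Transport

set_option autoImplicit false
universe u
open Cfsg

namespace Cfsg.Agent.S5189

open CfsgLib.RankThreePair

/-- Let p be an odd prime, S a finite p-group of sectional p-rank exactly 3, and F a saturated fusion system over S whose largest subgroup normal in F is trivial. Suppose S has two distinct essential subgroups E₁, E₂ each of which is invariant under every F-automorphism of S. Then S is isomorphic to a Sylow p-subgroup of Sp(4,p), and one of E₁, E₂ is extraspecial of order p³ and exponent p while the other is elementary abelian of order p³. -/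
theorem result {Ω : Type u} [Group Ω] {S : Subgroup Ω} [Finite S] (p : ℕ) [Fact p.Prime] (hp : Odd p) (hS : IsPGroup p S)
    (hsr : Cfsg.SectionalPRankLE p 3 ↥S ∧ ¬ Cfsg.SectionalPRankLE p 2 ↥S)
    (F : Cfsg.FusionSystem S) (hF : F.IsSaturated p) (hO : F.core = ⊥)
    (E₁ E₂ : Subgroup Ω) (hne : E₁ ≠ E₂) (hE₁ : F.IsEssential p E₁) (hE₂ : F.IsEssential p E₂)
    (hc₁ : (∀ φ : MulAut ↥S, φ ∈ F.autGroup S → (E₁.subgroupOf S).map φ.toMonoidHom = E₁.subgroupOf S))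
    (hc₂ : (∀ φ : MulAut ↥S, φ ∈ F.autGroup S → (E₂.subgroupOf S).map φ.toMonoidHom = E₂.subgroupOf S)) :
    (∃ P : Sylow p ↥(Matrix.symplecticGroup (Fin 2) (ZMod p)),
        Nonempty (↥S ≃* ↥(P : Subgroup ↥(Matrix.symplecticGroup (Fin 2) (ZMod p))))) ∧
      ((Cfsg.IsExtraspecial p ↥E₁ ∧ Nat.card E₁ = p ^ 3 ∧ (∀ x ∈ E₁, x ^ p = 1) ∧
          Cfsg.IsElementaryAbelian p E₂ ∧ Nat.card E₂ = p ^ 3) ∨
        (Cfsg.IsExtraspecial p ↥E₂ ∧ Nat.card E₂ = p ^ 3 ∧ (∀ x ∈ E₂, x ^ p = 1) ∧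
          Cfsg.IsElementaryAbelian p E₁ ∧ Nat.card E₁ = p ^ 3)) := by
  obtain ⟨hr, hr2⟩ := hsr
  have hE₁S : E₁ ≤ S := hE₁.1.1
  have hE₂S : E₂ ≤ S := hE₂.1.1
  have hn₁ : (E₁.subgroupOf S).Normal := normal_of_invariant hc₁
  have hn₂ : (E₂.subgroupOf S).Normal := normal_of_invariant hc₂
  have hi₁ := index_of_essential hS hr hF hE₁ (le_normalizer_of_normal hE₁S)
  have hi₂ := index_of_essential hS hr hF hE₂ (le_normalizer_of_normal hE₂S)
  have hpair : Pair p (E₁.subgroupOf S) (E₂.subgroupOf S) (loc F hE₁S) (loc F hE₂S) :=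
    ⟨⟨vertex_loc hS hF hE₁ hi₁, vertex_loc hS hF hE₂ hi₂,
      fun e => hne (by
        rw [← Subgroup.map_subgroupOf_eq_of_le hE₁S, ← Subgroup.map_subgroupOf_eq_of_le hE₂S, e])⟩,
      torus_loc hS hF hE₁ hE₂S hc₂, torus_loc hS hF hE₂ hE₁S hc₁⟩
  have key : ∀ {A B : Subgroup Ω} (hAS : A ≤ S) (hBS : B ≤ S) [(A.subgroupOf S).Normal] [(B.subgroupOf S).Normal],
      Pair p (A.subgroupOf S) (B.subgroupOf S) (loc F hAS) (loc F hBS) →
      ∀ {x y a d : S}, DataB p (E₂ := B.subgroupOf S) (loc F hAS) x y a d →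
      (∃ P : Sylow p ↥(Matrix.symplecticGroup (Fin 2) (ZMod p)),
        Nonempty (↥S ≃* ↥(P : Subgroup ↥(Matrix.symplecticGroup (Fin 2) (ZMod p))))) ∧
      (Cfsg.IsExtraspecial p ↥B ∧ Nat.card B = p ^ 3 ∧ (∀ x ∈ B, x ^ p = 1) ∧
        Cfsg.IsElementaryAbelian p A ∧ Nat.card A = p ^ 3) := by
    intro A B hAS hBS _ _ hAB x y a d hD
    exact ⟨hD.exists_sylow hAB hS hp,
      CfsgLib.LargeExtra.isExtraspecial_of_equiv (Subgroup.subgroupOfEquivOfLe hBS) (hD.extraspecial hAB hS),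
      by rw [← Nat.card_congr (Subgroup.subgroupOfEquivOfLe hBS).toEquiv, hD.card₂],
      fun u hu => congrArg Subtype.val (hD.exp₂ ⟨u, hBS hu⟩ hu),
      ⟨⟨⟨fun u v => Subtype.ext
        (congrArg Subtype.val (hD.comm₁ ⟨u, hAS u.2⟩ u.2 ⟨v, hAS v.2⟩ v.2) :)⟩⟩,
        fun u hu => congrArg Subtype.val (hD.exp₁ ⟨u, hAS hu⟩ hu)⟩,
      by rw [← Nat.card_congr (Subgroup.subgroupOfEquivOfLe hAS).toEquiv, hD.card₁]⟩
  rcases shape hS hp hr hpair with ⟨x, y, a, d, h⟩ | ⟨x, y, a, d, h⟩ | ⟨T, z, h⟩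
  · obtain ⟨h1, h2⟩ := key hE₁S hE₂S hpair h
    exact ⟨h1, Or.inr h2⟩
  · obtain ⟨h1, h2⟩ := key hE₂S hE₁S hpair.symm h
    exact ⟨h1, Or.inl h2⟩
  · exact (false_of_shapeA hS hp ⟨hr, hr2⟩ hF hO hE₁ hi₁ (mapT_of_invariant hS hF hE₁ hi₁ hc₁ h) h).elim

end Cfsg.Agent.S5189
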