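import Cfsg.Statements.S5182
import Cfsg.Agent.Lib.Fusion.EssentialClass.NonNormal
import Cfsg.Agent.Lib.Fusion.RankThreePair.Moved
import Cfsg.Agent.S5189

set_option autoImplicit false
universe u
open Cfsg

namespace Cfsg.Agent.S5182

open CfsgLib.RankThreePair CfsgLib.Fusion

/-- Let p ≥ 5 be a prime, S a finite p-group of sectional p-rank exactly 3, and F a saturated fusion system over S whose largest subgroup normal in F is trivial. Then F has an essential subgroup that is either elementary abelian of order p² or extraspecial of order p³ and exponent p. -/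
theorem result {Ω : Type u} [Group Ω] {S : Subgroup Ω} [Finite S] (p : ℕ) [Fact p.Prime] (hp : 5 ≤ p) (hS : IsPGroup p S) (hsr : Cfsg.SectionalPRankLE p 3 ↥S ∧ ¬ Cfsg.SectionalPRankLE p 2 ↥S)
    (F : Cfsg.FusionSystem S) (hF : F.IsSaturated p) (hO : F.core = ⊥) :
    ∃ E : Subgroup Ω, (F.IsEssential p E ∧ ((Cfsg.IsElementaryAbelian p E ∧ Nat.card E = p ^ 2) ∨
        (Cfsg.IsExtraspecial p ↥E ∧ Nat.card E = p ^ 3 ∧ ∀ x ∈ E, x ^ p = 1))) := by
  have hodd : Odd p := (Fact.out : p.Prime).odd_of_ne_two (by omega)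
  by_cases hex : ∃ E, F.IsEssential p E ∧ ¬ S ≤ Subgroup.normalizer (E : Set Ω)
  · obtain ⟨E, hE, hnn⟩ := hex
    exact ⟨E, hE, CfsgLib.EssentialClass.small_of_nonnormal hp hS hsr.1 hF hE hnn⟩
  push Not at hex
  obtain ⟨E₁, E₂, hne, hE₁, hE₂, hi₁, hi₂⟩ := exists_two_invariant hS hodd hsr hF hO hex
  rcases (Cfsg.Agent.S5189.result p hodd hS hsr F hF hO E₁ E₂ hne hE₁ hE₂ hi₁ hi₂).2 with
    ⟨h1, h2, h3, -, -⟩ | ⟨h1, h2, h3, -, -⟩
  · exact ⟨E₁, hE₁, Or.inr ⟨h1, h2, h3⟩⟩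
  · exact ⟨E₂, hE₂, Or.inr ⟨h1, h2, h3⟩⟩

end Cfsg.Agent.S5182
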