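import Cfsg.Statements.S5185
import Cfsg.Agent.Lib.Fusion.SmallEssential
import Cfsg.Agent.Lib.Fusion.Saturated

set_option autoImplicit false
universe u
open Cfsg

namespace Cfsg.Agent.S5185

/-- Let F be a saturated fusion system over a finite p-group S and H an essential subgroup of order p². Then H is elementary abelian (isomorphic to C_p × C_p) and its F-automorphism group contains a subgroup isomorphic to SL(2,p). -/
theorem result {Ω : Type u} [Group Ω] {S : Subgroup Ω} [Finite S] (p : ℕ) [Fact p.Prime] (hS : IsPGroup p S)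
    (F : Cfsg.FusionSystem S) (hF : F.IsSaturated p) (H : Subgroup Ω) (hH : F.IsEssential p H) (hcard : Nat.card H = p ^ 2) :
    Cfsg.IsElementaryAbelian p H ∧
      ∃ K : Subgroup ↥(F.autGroup H), Nonempty (↥K ≃* Matrix.SpecialLinearGroup (Fin 2) (ZMod p)) := by
  obtain ⟨⟨hHS, -⟩, -, hn, E₀, hE₀⟩ := hH
  have : Finite H := CfsgLib.Fusion.finite_of_le hHS
  have : Finite (MulAut H) := CfsgLib.Fusion.finite_mulAut hHS
  have hcomm := IsPGroup.commutative_of_card_eq_prime_sq hcard
  set A := F.autGroup H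
  have hinn : (Inn H).subgroupOf A = ⊥ := by
    rw [eq_bot_iff]
    intro a ha
    obtain ⟨z, hz⟩ := CfsgLib.Fusion.mem_inn.mp (Subgroup.mem_subgroupOf.mp ha)
    refine Subgroup.mem_bot.mpr (Subtype.ext (MulEquiv.ext fun x => ?_))
    rw [hz, hcomm z x, mul_inv_cancel_right]
    rfl
  let π := QuotientGroup.mk' ((Inn H).subgroupOf A)
  have hinj : Function.Injective π := by
    rw [← MonoidHom.ker_eq_bot_iff, QuotientGroup.ker_mk', hinn]
  have hcore : pCore p A = ⊥ := by
    have h0 := CfsgLib.Fusion.pCore_eq_bot_of_embedded hE₀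
    have hN : (pCore p A).Normal := Subgroup.sSup_normal _ fun _ hN => hN.1
    have hP : IsPGroup p (pCore p A) := Sylow.sSup_of_normal _ (fun _ hN => hN.2) fun _ hN => hN.1
    have := (CfsgLib.PCore.le_pCore (hN.map π (QuotientGroup.mk'_surjective _)) (hP.map π)).trans h0.le
    rwa [le_bot_iff, Subgroup.map_eq_bot_iff_of_injective _ hinj] at this
  have hd : p ∣ Nat.card A := hE₀.1.trans (Subgroup.card_quotient_dvd_card _)
  obtain ⟨hexp, L, hL⟩ := CfsgLib.FusionSmall.sl2_of_pCore_eq_bot (K := H) hcard A hd hcore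
  exact ⟨⟨⟨⟨fun a b => hcomm a b⟩⟩, fun a ha => congrArg Subtype.val (hexp ⟨a, ha⟩)⟩, L, hL⟩

end Cfsg.Agent.S5185
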