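import Cfsg.Statements.S5187
import Cfsg.Agent.Lib.Fusion.EssentialRankTwo

set_option autoImplicit false
universe u
open Cfsg

namespace Cfsg.Agent.S5187

/-- Let F be a saturated fusion system over a finite p-group S and H an abelian essential subgroup that can be generated by two elements (its Frattini quotient has order at most p²). Then H is elementary abelian of order p², or p ≤ 3 and H is homocyclic of rank two, that is isomorphic to C_{pᵏ} × C_{pᵏ} for some k. -/
theorem result {Ω : Type u} [Group Ω] {S : Subgroup Ω} [Finite S] (p : ℕ) [Fact p.Prime] (hS : IsPGroup p S)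
    (F : Cfsg.FusionSystem S) (hF : F.IsSaturated p) (H : Subgroup Ω) (hH : F.IsEssential p H) (hab : IsMulCommutative ↥H) (hrk : (frattini ↥H).index ≤ p ^ 2) :
    (Cfsg.IsElementaryAbelian p H ∧ Nat.card H = p ^ 2) ∨
      (p ≤ 3 ∧ ∃ k : ℕ, Nonempty (↥H ≃* Multiplicative (ZMod (p ^ k) × ZMod (p ^ k)))) := by
  obtain ⟨⟨hHS, -⟩, -, hn, E₀, hE₀⟩ := hH
  have : Finite H := CfsgLib.Fusion.finite_of_le hHS
  have : Finite (MulAut H) := CfsgLib.Fusion.finite_mulAut hHS
  let _ : CommGroup H := { mul_comm := fun a b => hab.is_comm.comm a b }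
  set A := F.autGroup H
  have hinn : (Inn H).subgroupOf A = ⊥ := by
    rw [eq_bot_iff]
    intro a ha
    obtain ⟨z, hz⟩ := CfsgLib.Fusion.mem_inn.mp (Subgroup.mem_subgroupOf.mp ha)
    refine Subgroup.mem_bot.mpr (Subtype.ext (MulEquiv.ext fun x => ?_))
    rw [hz, mul_comm z x, mul_inv_cancel_right]
    rfl
  let π := QuotientGroup.mk' ((Inn H).subgroupOf A)
  have hinj : Function.Injective π := by
    rw [← MonoidHom.ker_eq_bot_iff, QuotientGroup.ker_mk', hinn]
  have hcore : pCore p A = ⊥ := by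
    have h0 := CfsgLib.Fusion.pCore_eq_bot_of_embedded hE₀
    have hN : (pCore p A).Normal := Subgroup.sSup_normal _ fun _ hN => hN.1
    have hP : IsPGroup p (pCore p A) := Sylow.sSup_of_normal _ (fun _ hN => hN.2) fun _ hN => hN.1
    have := (CfsgLib.PCore.le_pCore (hN.map π (QuotientGroup.mk'_surjective _)) (hP.map π)).trans h0.le
    rwa [le_bot_iff, Subgroup.map_eq_bot_iff_of_injective _ hinj] at this
  have hd : p ∣ Nat.card A := hE₀.1.trans (Subgroup.card_quotient_dvd_card _)
  have hP : IsPGroup p H := hS.to_le hHS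
  have hle : frattini H ≤ CfsgLib.FusionRankTwo.pw p H 1 := by
    refine CfsgLib.PGroup.frattini_le_of (p := p) _ ?_ fun x =>
      CfsgLib.FusionRankTwo.mem_pw.mpr ⟨x, by rw [pow_one]⟩
    rw [commutator_def, Subgroup.commutator_le]
    intro a _ b _
    rw [commutatorElement_eq_one_iff_mul_comm.mpr (mul_comm a b)]
    exact Subgroup.one_mem _
  have hrk' : (CfsgLib.FusionRankTwo.pw p H 1).index ≤ p ^ 2 :=
    (Nat.le_of_dvd (Nat.pos_of_ne_zero Subgroup.index_ne_zero_of_finite) (Subgroup.index_dvd_of_le hle)).trans hrk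
  rcases CfsgLib.FusionRankTwo.classify hP A hd hcore hrk' with ⟨he, hc⟩ | h
  · exact Or.inl ⟨⟨hab, fun a ha => congrArg Subtype.val (he ⟨a, ha⟩)⟩, hc⟩
  · exact Or.inr h

end Cfsg.Agent.S5187
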