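import Cfsg.Statements.S5188
import Cfsg.Agent.S5187
import Cfsg.Agent.Lib.Fusion.EssentialFourth

set_option autoImplicit false
universe u
open Cfsg

namespace Cfsg.Agent.S5188

/-- Let F be a saturated fusion system over a finite p-group S and H an essential subgroup of order p⁴. Then H is isomorphic to one of: C_p⁴ or C_{p²} × C_p × C_p (any p); C_{p²} × C_{p²} with p ∈ {2, 3}; p^{1+2}_+ × C_p with p odd (the direct product of an extraspecial group of order p³ and exponent p with a group of order p); Q₈ × C₂ (p = 2); or the non-abelian group of order p⁴ of exponent p² whose centre is cyclic of order p² (the central product of an extraspecial group of order p³ with a cyclic group of order p²; for p = 2 this is D₈ ∘ C₄). -/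
theorem result {Ω : Type u} [Group Ω] {S : Subgroup Ω} [Finite S] (p : ℕ) [Fact p.Prime] (hS : IsPGroup p S)
    (F : Cfsg.FusionSystem S) (hF : F.IsSaturated p) (H : Subgroup Ω) (hH : F.IsEssential p H) (hcard : Nat.card H = p ^ 4) :
    Cfsg.IsElementaryAbelian p H ∨
      Nonempty (↥H ≃* Multiplicative (ZMod (p ^ 2) × ZMod p × ZMod p)) ∨
      ((p = 2 ∨ p = 3) ∧ Nonempty (↥H ≃* Multiplicative (ZMod (p ^ 2) × ZMod (p ^ 2)))) ∨
      (Odd p ∧ ∃ (E : Type) (_ : Group E) (_ : Finite E), Cfsg.IsExtraspecial p E ∧ Nat.card E = p ^ 3 ∧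
        (∀ x : E, x ^ p = 1) ∧ Nonempty (↥H ≃* E × Multiplicative (ZMod p))) ∨
      (p = 2 ∧ Nonempty (↥H ≃* QuaternionGroup 2 × Multiplicative (ZMod 2))) ∨
      (¬ IsMulCommutative ↥H ∧ (∀ x ∈ H, x ^ (p ^ 2) = 1) ∧ IsCyclic ↥(Subgroup.center ↥H) ∧
        Nat.card (Subgroup.center ↥H) = p ^ 2) := by
  have hp' : p.Prime := (inferInstance : Fact p.Prime).out
  obtain ⟨hHS, -⟩ := hH.1
  have : Finite H := CfsgLib.Fusion.finite_of_le hHS
  by_cases hab : IsMulCommutative ↥H
  · by_cases hrk : (frattini ↥H).index ≤ p ^ 2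
    · rcases Cfsg.Agent.S5187.result p hS F hF H hH hab hrk with ⟨-, h2⟩ | ⟨h3, k, ⟨e⟩⟩
      · rw [hcard] at h2
        exact absurd (Nat.pow_right_injective hp'.two_le h2) (by norm_num)
      · refine Or.inr (Or.inr (Or.inl ⟨?_, ?_⟩))
        · have := hp'.two_le; omega
        · have hc := (Nat.card_congr e.toEquiv).symm.trans hcard
          rw [show Nat.card (Multiplicative (ZMod (p ^ k) × ZMod (p ^ k))) = Nat.card (ZMod (p ^ k) × ZMod (p ^ k)) from rfl,
            Nat.card_prod, Nat.card_zmod, ← pow_add] at hc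
          have := Nat.pow_right_injective hp'.two_le hc
          obtain rfl : k = 2 := by omega
          exact ⟨e⟩
    · rcases CfsgLib.FusionFourth.abelian_rank_three hcard hab (by omega) with h | h
      · exact Or.inl ⟨hab, fun a ha => congrArg Subtype.val (h ⟨a, ha⟩)⟩
      · exact Or.inr (Or.inl h)
  · rcases CfsgLib.FusionFourth.nonabelian hcard hab (CfsgLib.FusionFourth.noFlag_of_essential hS hH hcard) with
      ⟨hodd, M, hM, hMc, hexp, ⟨e⟩⟩ | h | ⟨hexp, hcyc, hc⟩
    · refine Or.inr (Or.inr (Or.inr (Or.inl ⟨hodd, ?_⟩)))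
      let f : M ≃* Shrink.{0} M := Shrink.mulEquiv.symm
      have : Finite (Shrink.{0} M) := Finite.of_equiv M f.toEquiv
      have hc' : Nat.card (Shrink.{0} M) = Nat.card M := (Nat.card_congr f.toEquiv).symm
      refine ⟨Shrink.{0} M, inferInstance, inferInstance, ?_, ?_, ?_, ⟨e.trans (f.prodCongr (MulEquiv.refl _))⟩⟩
      · exact CfsgLib.FusionFourth.extraspecial_of_exponent (by rw [hc', hMc])
          (fun h => by
            have h1 : IsMulCommutative M := ⟨⟨fun a b => f.injective (by rw [map_mul, map_mul]; exact h.is_comm.comm _ _)⟩⟩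
            obtain ⟨⟨-, -, h2⟩, h3⟩ := hM
            rw [← h2] at h3
            have : commutator M = ⊥ := by
              rw [eq_bot_iff, commutator_def, Subgroup.commutator_le]
              intro a _ b _
              exact Subgroup.mem_bot.mpr (commutatorElement_eq_one_iff_mul_comm.mpr (h1.is_comm.comm a b))
            rw [this, Subgroup.card_bot] at h3
            exact hp'.ne_one h3.symm)
          (fun x => f.symm.injective (by rw [map_pow, hexp, map_one]))
      · rw [hc', hMc]
      · exact fun x => f.symm.injective (by rw [map_pow, hexp, map_one])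
    · exact Or.inr (Or.inr (Or.inr (Or.inr (Or.inl h))))
    · exact Or.inr (Or.inr (Or.inr (Or.inr (Or.inr
        ⟨hab, fun x hx => congrArg Subtype.val (hexp ⟨x, hx⟩), hcyc, hc⟩))))

end Cfsg.Agent.S5188
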