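import Cfsg.Statements.S5193
import Cfsg.Agent.Lib.Fusion.FixModels
import Cfsg.Agent.Lib.Fusion.QuadraticThompson
import Cfsg.Agent.S2799

set_option autoImplicit false
open Cfsg

namespace Cfsg.Agent.S5193

/-- Glauberman's Theorem for fusion systems. Let F be a saturated fusion system over a finite p-group S, let J(S) be the subgroup generated by the abelian subgroups of S of largest order, and let N be the normalizer fusion system of J(S) in F (a fusion system over N_S(J(S)) = S). Then every p-th power of an element of Z(S) that lies in the centre of N lies in the centre of F; and if p is odd, or if the symmetric group of degree 4 is not involved in any model of the normalizer system of a fully normalized F-centric subgroup (F is S₄-free), then the centre of N equals the centre of F. -/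
theorem result {Ω : Type*} [Group Ω] {S : Subgroup Ω} [Finite S] (p : ℕ) [Fact p.Prime] (hS : IsPGroup p S) (F : Cfsg.FusionSystem S) (hF : F.IsSaturated p) (N : Cfsg.FusionSystem (Cfsg.FusionSystem.normalizerIn S (Cfsg.thompsonSubgroupAOf S))) (hN : F.IsNormalizerSystem (Cfsg.thompsonSubgroupAOf S) N) : Subgroup.closure ((fun z : Ω => z ^ p) '' ((S ⊓ Subgroup.centralizer (S : Set Ω) : Subgroup Ω) : Set Ω)) ⊓ N.center ≤ F.center ∧ (p ≠ 2 ∨ F.IsSectionFree p (Equiv.Perm (Fin 4)) → N.center = F.center) := by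
  have hXn : S ≤ Subgroup.normalizer (CfsgLib.Fusion.charSub CfsgLib.Fusion.thompsonW S : Set Ω) :=
    Subgroup.le_normalizer.trans (CfsgLib.Fusion.charSub_le_normalizer
      (fun Q R _ _ _ _ => CfsgLib.Fusion.thompsonW_equiv Q R) hS)
  refine ⟨?_, fun hp => ?_⟩
  · rintro x ⟨hx, hxN⟩
    obtain ⟨y, hy, rfl⟩ : ∃ y ∈ S ⊓ Subgroup.centralizer (S : Set Ω), y ^ p = x := by
      clear hxN
      induction hx using Subgroup.closure_induction with
      | mem x hx => exact hx
      | one => exact ⟨1, one_mem _, one_pow p⟩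
      | mul a b _ _ iha ihb =>
        obtain ⟨a', ha', rfl⟩ := iha
        obtain ⟨b', hb', rfl⟩ := ihb
        exact ⟨a' * b', mul_mem ha' hb', (show Commute a' b' from hb'.2 a' ha'.1).mul_pow p⟩
      | inv a _ iha =>
        obtain ⟨a', ha', rfl⟩ := iha
        exact ⟨a'⁻¹, inv_mem ha', inv_pow a' p⟩
    obtain ⟨-, -, hloc⟩ := CfsgLib.Fusion.center_normalizerSystem_spec hXn hN hxN
    have h1 := hloc 1
    rw [pow_one] at h1
    have h := CfsgLib.Fusion.central_of_functor (fun Q _ _ => CfsgLib.Fusion.thompsonW_ne_bot Q)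
      (fun Q R _ _ _ _ => CfsgLib.Fusion.thompsonW_equiv Q R) (m := p) (Good := fun L _ => True) ?_
      ⟨fun _ _ _ => trivial, fun _ _ _ => trivial⟩ hS hF (fun _ _ _ _ _ _ _ _ _ => trivial)
      hy.1 (fun s hs => hy.2 s hs) h1
    · exact (show Subgroup.zpowers (y ^ p) ≤ F.center from le_sSup h) (Subgroup.mem_zpowers _)
    intro L _ _ T hc _ z hz hzc hN'
    exact CfsgLib.Fusion.pow_central_of_quadratic (fun Q R _ _ _ _ => CfsgLib.Fusion.thompsonW_equiv Q R)
      CfsgLib.Fusion.quadraticFunctor_thompsonW T hc hz hzc hN'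
  · refine le_antisymm (fun y hy => ?_)
      (CfsgLib.Fusion.center_le_normalizerSystem (Subgroup.map_subtype_le _) hXn hN)
    obtain ⟨hyS, hyc, hloc⟩ := CfsgLib.Fusion.center_normalizerSystem_spec hXn hN hy
    have hgood : CfsgLib.Fusion.CentricFree F p (fun L _ => CfsgLib.Fusion.ThompsonGood p L) := by
      intro Q hQn hQc E hE L _ ι hL
      exact hp.imp_right fun h => h Q hQn hQc E hE L ι hL
    have h := CfsgLib.Fusion.central_of_functor (fun Q _ _ => CfsgLib.Fusion.thompsonW_ne_bot Q)
      (fun Q R _ _ _ _ => CfsgLib.Fusion.thompsonW_equiv Q R) (m := 1) ?_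
      (CfsgLib.Fusion.sectionClosed_thompsonGood p) hS hF hgood hyS hyc (hloc 1)
    · rw [pow_one] at h
      exact (show Subgroup.zpowers y ≤ F.center from le_sSup h) (Subgroup.mem_zpowers y)
    intro L _ _ T hc hg z hz hzc hN' l
    simp only [pow_one] at hN' ⊢
    have hzO : z ∈ Cfsg.pCore p L := hc (Subgroup.mem_centralizer_iff.mpr fun a ha =>
      hzc a (CfsgLib.PCore.pCore_le_sylow T ha))
    have hTn : (T : Subgroup L) ≤ Subgroup.normalizer ((Cfsg.thompsonSubgroupAOf (T : Subgroup L)) : Set L) :=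
      Subgroup.le_normalizer.trans (CfsgLib.Fusion.charSub_le_normalizer (W := CfsgLib.Fusion.thompsonW)
        (fun Q R _ _ _ _ => CfsgLib.Fusion.thompsonW_equiv Q R) T.isPGroup')
    have hn : (Cfsg.pCore p L).Normal := CfsgLib.Fusion.model_core_normal
    have hw := Cfsg.Agent.S2799.result T z hz ⟨⟨z, hTn hz⟩, Subgroup.mem_center_iff.mpr fun h =>
      Subtype.ext (hN' h h.2), rfl⟩ (hg.imp_right Or.inr) l
      (CfsgLib.PCore.pCore_le_sylow T (hn.conj_mem z hzO l))
    exact mul_inv_eq_iff_eq_mul.mp hw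

end Cfsg.Agent.S5193
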