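import Cfsg.Statements.S5194
import Cfsg.Agent.Lib.Fusion.ThompsonInner

set_option autoImplicit false
open Cfsg

namespace Cfsg.Agent.S5194

/-- Thompson's normal p-complement Theorem for fusion systems. Let F be a saturated fusion system over a finite p-group S such that p is odd or F is S₄-free (the symmetric group of degree 4 is not involved in any model of the normalizer system of a fully normalized F-centric subgroup), and let J(S) be the subgroup generated by the abelian subgroups of S of largest order. If the centralizer fusion system of Z(S) in F is the inner fusion system of C_S(Z(S)) = S and the normalizer fusion system of J(S) in F is the inner fusion system of N_S(J(S)) = S, then F is the inner fusion system of S. -/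
theorem result {Ω : Type*} [Group Ω] {S : Subgroup Ω} [Finite S] (p : ℕ) [Fact p.Prime] (hS : IsPGroup p S) (F : Cfsg.FusionSystem S) (hF : F.IsSaturated p) (hp : p ≠ 2 ∨ F.IsSectionFree p (Equiv.Perm (Fin 4))) (hC : ∀ C : Cfsg.FusionSystem (Cfsg.FusionSystem.centralizerIn S (S ⊓ Subgroup.centralizer (S : Set Ω))), F.IsCentralizerSystem (S ⊓ Subgroup.centralizer (S : Set Ω)) C → ∀ P : Subgroup Ω, C.Hom P = (Cfsg.innerFusionSystem (Cfsg.FusionSystem.centralizerIn S (S ⊓ Subgroup.centralizer (S : Set Ω)))).Hom P) (hN : ∀ N : Cfsg.FusionSystem (Cfsg.FusionSystem.normalizerIn S (Cfsg.thompsonSubgroupAOf S)), F.IsNormalizerSystem (Cfsg.thompsonSubgroupAOf S) N → ∀ P : Subgroup Ω, N.Hom P = (Cfsg.innerFusionSystem (Cfsg.FusionSystem.normalizerIn S (Cfsg.thompsonSubgroupAOf S))).Hom P) : ∀ P : Subgroup Ω, F.Hom P = (Cfsg.innerFusionSystem S).Hom P := by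
  have hgood : CfsgLib.Fusion.CentricFree F p (fun L _ => CfsgLib.Fusion.ThompsonGood p L) := by
    intro Q hQn hQc N hN L _ ι hL
    exact hp.imp_right fun h => h Q hQn hQc N hN L ι hL
  have hZS : S ⊓ Subgroup.centralizer (S : Set Ω) ≤ S := inf_le_left
  have hC' : ∀ P φ, φ ∈ F.centralizerHom (S ⊓ Subgroup.centralizer (S : Set Ω)) P →
      φ ∈ (Cfsg.innerFusionSystem S).Hom P := by
    intro P φ hφ
    have hC0 := hC (CfsgLib.Fusion.extSystem F hZS ⊥ _ CfsgLib.Fusion.isKNormalizer_bot)
      (fun P => CfsgLib.Fusion.extHom_bot F _ P) P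
    obtain ⟨hP, g, hg, hge⟩ := hC0.le ((CfsgLib.Fusion.extHom_bot F _ P).ge hφ)
    exact ⟨hP.trans inf_le_left, g, hg.1, hge⟩
  have hJ : Cfsg.thompsonSubgroupAOf S ≤ S := Subgroup.map_subtype_le _
  have hN' : ∀ P φ, φ ∈ F.normalizerHom (Cfsg.thompsonSubgroupAOf S) P →
      φ ∈ (Cfsg.innerFusionSystem S).Hom P := by
    intro P φ hφ
    have hN0 := hN (CfsgLib.Fusion.extSystem F hJ ⊤ _ CfsgLib.Fusion.isKNormalizer_top)
      (fun P => CfsgLib.Fusion.extHom_top F _ P) P
    obtain ⟨hP, g, hg, hge⟩ := hN0.le ((CfsgLib.Fusion.extHom_top F _ P).ge hφ)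
    exact ⟨hP.trans inf_le_left, g, hg.1, hge⟩
  intro P
  refine Set.Subset.antisymm (CfsgLib.Fusion.le_inner_thompson hS hF hgood hC' hN' P) ?_
  rintro φ ⟨hP, g, hg, hge⟩
  rw [show φ = Cfsg.conjHom P g from MonoidHom.ext hge]
  exact F.conj_mem hP hg

end Cfsg.Agent.S5194
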