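import Cfsg.Statements.S5196
import Cfsg.Agent.Lib.Fusion.FixModels

set_option autoImplicit false
universe u
open Cfsg

namespace Cfsg.Agent.S5196

/-- Let p be an odd prime and W a positive characteristic p-functor: W assigns to every finite p-group Q (in a fixed universe) a subgroup W(Q), nontrivial when Q is, carried to W(R) by every isomorphism Q ≅ R; assume also Z(Q) ≤ W(Q) for every finite p-group Q. Suppose W satisfies the local condition: for every finite group G with Sylow p-subgroup P, O_p(G) ∩ Z(G) = O_p(G) ∩ Z(N_G(W(P))). Then W controls weak closure of elements in every saturated fusion system F over a finite p-group S: the centre of the normalizer fusion system of W(S) in F equals the centre of F. (For p = 2 no functor satisfies the local condition, so p is taken odd.) -/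
theorem result {p : ℕ} [Fact p.Prime] (hp : p ≠ 2) (W : ∀ (Q : Type u) [Group Q], Subgroup Q) (hW1 : ∀ (Q : Type u) [Group Q] [Finite Q], IsPGroup p Q → Nontrivial Q → W Q ≠ ⊥) (hW2 : ∀ (Q R : Type u) [Group Q] [Group R] [Finite Q], IsPGroup p Q → ∀ φ : Q ≃* R, (W Q).map φ.toMonoidHom = W R) (hWZ : ∀ (Q : Type u) [Group Q] [Finite Q], IsPGroup p Q → Subgroup.center Q ≤ W Q) (hC : ∀ (G : Type u) [Group G] [Finite G] (P : Sylow p G), Cfsg.pCore p G ⊓ Subgroup.center G = Cfsg.pCore p G ⊓ (Subgroup.center ↥(Subgroup.normalizer (((W ↥(P : Subgroup G)).map (P : Subgroup G).subtype : Subgroup G) : Set G))).map (Subgroup.normalizer (((W ↥(P : Subgroup G)).map (P : Subgroup G).subtype : Subgroup G) : Set G)).subtype) {Ω : Type u} [Group Ω] {S : Subgroup Ω} [Finite S] (hS : IsPGroup p S) (F : Cfsg.FusionSystem S) (hF : F.IsSaturated p) (N : Cfsg.FusionSystem (Cfsg.FusionSystem.normalizerIn S ((W ↥S).map S.subtype))) (hN : F.IsNormalizerSystem ((W ↥S).map S.subtype) N) : N.center = F.center := by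
  have hXn : S ≤ Subgroup.normalizer (CfsgLib.Fusion.charSub W S : Set Ω) :=
    Subgroup.le_normalizer.trans (CfsgLib.Fusion.charSub_le_normalizer hW2 hS)
  refine le_antisymm (fun y hy => ?_)
    (CfsgLib.Fusion.center_le_normalizerSystem (CfsgLib.Fusion.charSub_le S) hXn hN)
  obtain ⟨hyS, hyc, hloc⟩ := CfsgLib.Fusion.center_normalizerSystem_spec hXn hN hy
  have h := CfsgLib.Fusion.central_of_functor hW1 hW2 (m := 1)
    (Good := fun L _ => True) ?_ ⟨fun _ _ _ => trivial, fun _ _ _ => trivial⟩ hS hF
    (fun _ _ _ _ _ _ _ _ _ => trivial) hyS hyc (hloc 1)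
  · rw [pow_one] at h
    exact (show Subgroup.zpowers y ≤ F.center from le_sSup h) (Subgroup.mem_zpowers y)
  intro L _ _ T hc _ z hz hzc hN l
  simp only [pow_one] at hN ⊢
  have hzO : z ∈ Cfsg.pCore p L := hc (Subgroup.mem_centralizer_iff.mpr fun a ha =>
    hzc a (CfsgLib.PCore.pCore_le_sylow T ha))
  have hTn : (T : Subgroup L) ≤ Subgroup.normalizer (((W ↥(T : Subgroup L)).map (T : Subgroup L).subtype : Subgroup L) : Set L) :=
    Subgroup.le_normalizer.trans (CfsgLib.Fusion.charSub_le_normalizer hW2 T.isPGroup')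
  have hm := (hC L T).ge ⟨hzO, ⟨⟨z, hTn hz⟩, Subgroup.mem_center_iff.mpr fun h =>
    Subtype.ext (hN h h.2), rfl⟩⟩
  exact Subgroup.mem_center_iff.mp hm.2 l

end Cfsg.Agent.S5196
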