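import Cfsg.Statements.S5198
import Cfsg.Agent.Lib.Fusion.ModClosed

set_option autoImplicit false
open Cfsg Cfsg.FusionSystem CfsgLib.Fusion CfsgLib.FusionExtend

namespace Cfsg.Agent.S5198

/-- Let F be a saturated fusion system over a finite p-group S and T a subgroup of S strongly closed in F (so T is normal in S). Then every element x of the hyperfocal subgroup of F acts on T by conjugation as an element of O^p(Aut_F(T))·Inn(T): there is an automorphism of T in the subgroup generated by the elements of Aut_F(T) of order prime to p together with the inner automorphisms of T that agrees with conjugation by x. -/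
theorem result {Ω : Type*} [Group Ω] {S : Subgroup Ω} [Finite S] (p : ℕ) [Fact p.Prime] (hS : IsPGroup p S) (F : Cfsg.FusionSystem S) (hF : F.IsSaturated p) (T : Subgroup Ω) (hT : F.StronglyClosed T) : ∀ x ∈ F.hyperfocalSubgroup p, ∃ α ∈ ((Cfsg.pResidual p ↥(F.autGroup T)).map (F.autGroup T).subtype ⊔ Cfsg.Inn ↥T : Subgroup (MulAut ↥T)), ∀ t : ↥T, ((α t : ↥T) : Ω) = x * (t : Ω) * x⁻¹ := by
  classical
  have hTS := hT.1
  have := finite_of_le hTS
  have := finite_mulAut hTS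
  set M : Subgroup (MulAut ↥T) := (pResidual p ↥(F.autGroup T)).map (F.autGroup T).subtype ⊔ Inn ↥T
  let X : Subgroup Ω :=
    { carrier := {y | ∃ α ∈ M, ∀ t : T, ((α t : T) : Ω) = y * (t : Ω) * y⁻¹}
      one_mem' := ⟨1, M.one_mem, fun t => by simp⟩
      mul_mem' := by
        rintro a b ⟨α, hα, hα'⟩ ⟨β, hβ, hβ'⟩
        exact ⟨α * β, M.mul_mem hα hβ, fun t => by rw [MulAut.mul_apply, hα', hβ']; group⟩
      inv_mem' := by
        rintro a ⟨α, hα, hα'⟩
        refine ⟨α⁻¹, M.inv_mem hα, fun t => ?_⟩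
        have h := hα' (α⁻¹ t)
        rw [MulAut.apply_inv_self] at h
        rw [h]; group }
  suffices h : F.hyperfocalSubgroup p ≤ X from fun x hx => h hx
  refine hyperfocal_le_of_coprime F X fun P β x hP hβ => ?_
  obtain ⟨γ, hγ, hγp, hγe⟩ := exists_coprime_lift hS hF hT hP β.2 (by rwa [Subgroup.orderOf_coe])
  have hPT : P ⊔ T ≤ S := sup_le hP hTS
  obtain ⟨g, hg, -, hge⟩ := exists_map_of_mem_autGroup hPT hγ
  obtain ⟨g₀, hg₀, hg₀r, hg₀e⟩ := exists_restrict hg (le_sup_right (a := P) (b := T))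
    (sc_map_eq hT hg le_sup_right)
  obtain ⟨τ, hτ, hτe⟩ := exists_aut hg₀ hg₀r
  have hτg : ∀ t : T, ((τ t : T) : Ω) = ((γ ⟨t, Subgroup.mem_sup_right t.2⟩ : ↥(P ⊔ T)) : Ω) :=
    fun t => by rw [hτe, hg₀e, hge]
  have hτp : (⟨τ, hτ⟩ : F.autGroup T) ∈ pResidual p (F.autGroup T) := by
    refine Subgroup.subset_closure (Nat.Coprime.symm ((Fact.out : p.Prime).coprime_iff_not_dvd.mpr fun hd => hγp ?_))
    refine hd.trans ?_
    rw [Subgroup.orderOf_mk, orderOf_dvd_iff_pow_eq_one]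
    have key : ∀ (k : ℕ) (t : T), (((τ ^ k) t : T) : Ω) =
        (((γ ^ k) ⟨t, Subgroup.mem_sup_right t.2⟩ : ↥(P ⊔ T)) : Ω) := by
      intro k
      induction k with
      | zero => intro t; simp
      | succ k ih =>
        intro t
        rw [pow_succ', pow_succ', MulAut.mul_apply, MulAut.mul_apply, hτg]
        congr 2
        exact Subtype.ext (ih t)
    refine MulEquiv.ext fun t => Subtype.ext ?_
    rw [key, pow_orderOf_eq_one]; rfl
  have hn : ∀ z : P, (z : Ω) ∈ Subgroup.normalizer (T : Set Ω) := fun z => sc_normalizer hT (hP z.2)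
  obtain ⟨c, hc, hce⟩ := exists_autInducedBy (K := S) (hP x.2) (hn x)
  have hcF : c ∈ F.autGroup T := autInducedBy_le_autGroup hTS hc
  set x' : ↥(P ⊔ T) := ⟨x, Subgroup.mem_sup_left x.2⟩
  -- the commutator of `c_x⁻¹` with `τ`
  have hcomm : c⁻¹ * (τ * c * τ⁻¹) ∈ M := by
    refine Subgroup.mem_sup_left ⟨⟨c, hcF⟩⁻¹ * (⟨τ, hτ⟩ * ⟨c, hcF⟩ * ⟨τ, hτ⟩⁻¹), ?_, rfl⟩
    have hN : (pResidual p ↥(F.autGroup T)).Normal := by
      refine ⟨fun n hn g => ?_⟩
      have hle : pResidual p ↥(F.autGroup T) ≤ (pResidual p ↥(F.autGroup T)).comap (MulAut.conj g).toMonoidHom := by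
        rw [pResidual, Subgroup.closure_le]
        intro a ha
        refine Subgroup.subset_closure ?_
        show Nat.Coprime (orderOf ((MulAut.conj g) a)) p
        rw [MulEquiv.orderOf_eq]
        exact ha
      exact hle hn
    have e : (⟨c, hcF⟩ : F.autGroup T)⁻¹ * (⟨τ, hτ⟩ * ⟨c, hcF⟩ * ⟨τ, hτ⟩⁻¹) =
        ((⟨c, hcF⟩ : F.autGroup T)⁻¹ * ⟨τ, hτ⟩ * ⟨c, hcF⟩) * (⟨τ, hτ⟩ : F.autGroup T)⁻¹ := by group
    rw [e]
    refine Subgroup.mul_mem _ ?_ (Subgroup.inv_mem _ hτp)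
    simpa using hN.conj_mem _ hτp (⟨c, hcF⟩ : F.autGroup T)⁻¹
  have h1 : (x : Ω)⁻¹ * ((γ x' : ↥(P ⊔ T)) : Ω) ∈ X := by
    refine ⟨_, hcomm, fun t => ?_⟩
    have hci : ∀ u : T, (((c⁻¹ : MulAut T) u : T) : Ω) = (x : Ω)⁻¹ * (u : Ω) * (x : Ω) := fun u => by
      have h := hce ((c⁻¹ : MulAut T) u)
      rw [MulAut.apply_inv_self] at h
      rw [h]; group
    rw [MulAut.mul_apply, MulAut.mul_apply, MulAut.mul_apply, hci, hτg]
    set u : T := (τ⁻¹ : MulAut T) t
    have hu : ((γ ⟨u, Subgroup.mem_sup_right u.2⟩ : ↥(P ⊔ T)) : Ω) = t := by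
      rw [← hτg, MulAut.apply_inv_self]
    have hce' : (⟨((c u : T) : Ω), Subgroup.mem_sup_right (c u).2⟩ : ↥(P ⊔ T)) =
        x' * ⟨(u : Ω), Subgroup.mem_sup_right u.2⟩ * x'⁻¹ := Subtype.ext (hce u)
    rw [hce', map_mul, map_mul, map_inv]
    simp only [Subgroup.coe_mul, Subgroup.coe_inv, hu]
    group
  have hTX : T ≤ X := fun t ht => ⟨MulAut.conj (⟨t, ht⟩ : T), Subgroup.mem_sup_right ⟨_, rfl⟩,
    fun u => by simp⟩
  have := X.mul_mem h1 (hTX (T.inv_mem (hγe x)))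
  simpa [x', mul_assoc] using this

end Cfsg.Agent.S5198
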