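import Cfsg.Statements.S5199
import Cfsg.Agent.Lib.Fusion.PIndexExist
-- import your own Cfsg.Agent.* helpers here

set_option autoImplicit false
open Cfsg

namespace Cfsg.Agent.S5199

open CfsgLib.Fusion Cfsg.FusionSystem

/-- The maps of a system on the subgroups of a strongly closed subgroup. -/
def restrictTo {Ω : Type*} [Group Ω] {S T : Subgroup Ω} (F : Cfsg.FusionSystem S) (hT : F.StronglyClosed T) :
    Cfsg.FusionSystem T where
  Hom P := {φ | φ ∈ F.Hom P ∧ P ≤ T}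
  le_of_mem h := ⟨h.2, fun x => hT.2 _ h.2 _ h.1 x⟩
  injective_of_mem h := F.injective_of_mem h.1
  conj_mem hP hg := ⟨F.conj_mem (hP.trans hT.1) (hT.1 hg), hP⟩
  comp_mem hφ hψ h := ⟨F.comp_mem hφ.1 hψ.1 h, hφ.2⟩
  inv_mem := by
    rintro P φ ⟨hφ, hP⟩
    obtain ⟨ψ, hψ, hψe⟩ := F.inv_mem hφ
    exact ⟨ψ, ⟨hψ, fun y ⟨x, hx⟩ => hx ▸ hT.2 P hP φ hφ x⟩, hψe⟩


/-- Let F be a saturated fusion system over a finite p-group S, E a normal subsystem of F over T, and F₀ a normal subsystem of F over a subgroup U containing both T and the hyperfocal subgroup of F, such that F₀ has p-power index in F. Then E is a subsystem of F₀. -/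
theorem result {Ω : Type*} [Group Ω] {S : Subgroup Ω} [Finite S] (p : ℕ) [Fact p.Prime] (hS : IsPGroup p S) (F : Cfsg.FusionSystem S) (hF : F.IsSaturated p) {T U : Subgroup Ω} (E : Cfsg.FusionSystem T) (hE : E.IsNormalIn F p) (F₀ : Cfsg.FusionSystem U) (hF₀ : F₀.IsNormalIn F p) (hU : T ⊔ F.hyperfocalSubgroup p ≤ U) (hidx : F₀.HasPPowerIndexIn F p) : E.IsSubsystemOf F₀ := by
  obtain ⟨⟨hEs, -, hEsub, hTsc, -, -⟩, -⟩ := hE
  have hTS := hTsc.1
  have hTU : T ≤ U := le_sup_left.trans hU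
  have hsc₀ : F₀.StronglyClosed T := ⟨hTU, fun R hR φ hφ => hTsc.2 R hR φ (hidx.1 R hφ)⟩
  have := finite_of_le hTS
  have hle : E ≤ restrictTo F₀ hsc₀ := by
    refine alperin (hS.to_le hTS) hEs _ fun P hP => ?_
    obtain ⟨hPT, hPa⟩ : P ≤ T ∧ E.IsFullyAutomized p P := by
      rcases hP with rfl | hP
      · exact ⟨le_rfl, ((saturated_iff_top_and_receptive (hS.to_le hTS)).mp hEs).1⟩
      · exact ⟨hP.1.1, (fullyNormalized_good (hS.to_le hTS) hEs hP.2.1).1⟩
    intro α hα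
    obtain ⟨a, haR, g, hg, b, rfl, hb⟩ := FullyAutomized.exists_mul hPa hα
    refine Subgroup.mul_mem _ ?_ ((mem_autGroup hPT).mpr (mem_of_conj hPT hg fun x => hb x))
    obtain ⟨a', ha'R, ha'⟩ := residual_le_of_subsystem hEsub hPT haR
    rw [← ha']
    exact (mem_autGroup hPT).mpr
      ⟨(mem_autGroup (hPT.trans hTU)).mp (mem_autGroup_of_residual hidx (hPT.trans hTU) ha'R), hPT⟩
  exact fun P φ hφ => (hle P hφ).1

end Cfsg.Agent.S5199
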