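import Cfsg.Statements.S5204
import Cfsg.Agent.Lib.Fusion.ThompsonInner

set_option autoImplicit false
open Cfsg

namespace Cfsg.Agent.S5204

/-- The Glauberman–Thompson normal p-complement criterion for fusion systems, p odd. Let F be a saturated fusion system over a finite p-group S with p odd, and let Z(J(S)) be the centre of the subgroup generated by the abelian subgroups of S of largest order. Then F is the inner fusion system of S if and only if the normalizer fusion system of Z(J(S)) in F is the inner fusion system of N_S(Z(J(S))) = S. -/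
theorem result {Ω : Type*} [Group Ω] {S : Subgroup Ω} [Finite S] (p : ℕ) [Fact p.Prime] (hS : IsPGroup p S) (F : Cfsg.FusionSystem S) (hF : F.IsSaturated p) (hp : p ≠ 2) : (∀ P : Subgroup Ω, F.Hom P = (Cfsg.innerFusionSystem S).Hom P) ↔ ∀ N : Cfsg.FusionSystem (Cfsg.FusionSystem.normalizerIn S (Cfsg.centerThompsonAOf S)), F.IsNormalizerSystem (Cfsg.centerThompsonAOf S) N → ∀ P : Subgroup Ω, N.Hom P = (Cfsg.innerFusionSystem (Cfsg.FusionSystem.normalizerIn S (Cfsg.centerThompsonAOf S))).Hom P := by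
  have hJ : Cfsg.centerThompsonAOf S ≤ S := inf_le_left.trans (Subgroup.map_subtype_le _)
  have hSn : S ≤ Subgroup.normalizer (Cfsg.centerThompsonAOf S : Set Ω) := by
    rw [← CfsgLib.Fusion.charSub_zjW]
    exact Subgroup.le_normalizer.trans
      (CfsgLib.Fusion.charSub_le_normalizer (fun Q R _ _ _ _ => CfsgLib.Fusion.zjW_equiv Q R) hS)
  constructor
  · intro h N hN P
    ext φ
    rw [hN P]
    constructor
    · rintro ⟨hφ, hP, -, -⟩
      obtain ⟨-, g, hg, hge⟩ := (h P).le hφ
      exact ⟨hP, g, ⟨hg, hSn hg⟩, hge⟩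
    · rintro ⟨hP, g, hg, hge⟩
      obtain rfl : φ = Cfsg.conjHom P g := MonoidHom.ext hge
      exact (CfsgLib.Fusion.extHom_top F _ P).le
        ((CfsgLib.Fusion.extSystem F hJ ⊤ _ CfsgLib.Fusion.isKNormalizer_top).conj_mem hP hg)
  · intro h P
    refine Set.Subset.antisymm (CfsgLib.Fusion.le_inner_zj hp hS hF (fun P φ hφ => ?_) P) ?_
    · have hN0 := h (CfsgLib.Fusion.extSystem F hJ ⊤ _ CfsgLib.Fusion.isKNormalizer_top)
        (fun P => CfsgLib.Fusion.extHom_top F _ P) P
      obtain ⟨hP, g, hg, hge⟩ := hN0.le ((CfsgLib.Fusion.extHom_top F _ P).ge hφ)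
      exact ⟨hP.trans inf_le_left, g, hg.1, hge⟩
    · rintro φ ⟨hP, g, hg, hge⟩
      rw [show φ = Cfsg.conjHom P g from MonoidHom.ext hge]
      exact F.conj_mem hP hg

end Cfsg.Agent.S5204
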