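import Cfsg.Statements.S5213
import Cfsg.Agent.Lib.RankTwoTypes.Fusion
import Cfsg.Agent.Lib.Fusion.Normal

set_option autoImplicit false
open Cfsg

namespace Cfsg.Agent.S5213

/-- Let S be a finite 2-group of 2-rank 2 (it has an elementary abelian subgroup of order 4 and none of order 8) and F a saturated fusion system over S with trivial centre. Then S is dihedral, semidihedral, wreathed, homocyclic abelian (a direct product of cyclic groups of one common order), or isomorphic to a Sylow 2-subgroup of the projective special unitary group PSU₃(4) (realised over the field with 16 elements). -/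
theorem result {Ω : Type*} [Group Ω] {S : Subgroup Ω} [Finite S] (hS : IsPGroup 2 S) (F : Cfsg.FusionSystem S) (hF : F.IsSaturated 2) (hr : Cfsg.PRankAtLeast 2 2 ↥S ∧ ¬ Cfsg.PRankAtLeast 2 3 ↥S) (hZ : F.center = ⊥) {K : Type*} [Field K] [Fintype K] (hK : Fintype.card K = 16) : (∃ m : ℕ, Nonempty (↥S ≃* DihedralGroup m)) ∨ Cfsg.IsQuasiDihedral ↥S ∨ Cfsg.IsWreathed ↥S ∨ (∃ n k : ℕ, Nonempty (↥S ≃* Multiplicative (Fin k → ZMod (2 ^ n)))) ∨ ∃ T : Sylow 2 (Cfsg.PSU 3 K 4), Nonempty (↥S ≃* ↥(T : Subgroup (Cfsg.PSU 3 K 4))) := by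
  haveI : Fact (Nat.Prime 2) := ⟨Nat.prime_two⟩
  obtain ⟨T⟩ : Nonempty (Sylow 2 (Cfsg.PSU 3 K 4)) := inferInstance
  have h2 : Cfsg.PRankLE 2 2 ↥S := fun A hA hA2 => by
    obtain ⟨n, hn⟩ := (hS.to_subgroup A).exists_card_eq
    by_contra hlt
    refine hr.2 ⟨A, hA, hA2, ?_⟩
    rw [hn] at hlt ⊢
    refine Nat.pow_le_pow_right two_pos ?_
    by_contra h
    exact hlt (Nat.pow_le_pow_right two_pos (by omega))
  have h1 : ¬ Cfsg.PRankLE 2 1 ↥S := fun h => by
    obtain ⟨A, hA, hA2, hc⟩ := hr.1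
    have := h A hA hA2
    norm_num at hc this
    omega
  have hmoved : ∀ z ∈ CfsgLib.FusionCentralTwo.zen S, orderOf z = 2 → ∃ y, y ≠ z ∧ F.IsConjElt z y := by
    intro z hz hzo
    by_contra hc
    push Not at hc
    have hle : Subgroup.zpowers z ≤ F.center := by
      refine le_sSup (show Subgroup.zpowers z ∈ {Q | F.IsCentral Q} from
        (CfsgLib.Fusion.isCentral_iff hS hF).2 ⟨Subgroup.zpowers_le.2 hz.1, fun x hx y hxy => ?_⟩)
      rcases (CfsgLib.MacWilliams.mem_zpowers_of_sq_eq_one (CfsgLib.RankTwoTypes.sq_of_ord hzo)).1 hx with rfl | rfl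
      · obtain ⟨φ, -, rfl⟩ := hxy
        exact (CfsgLib.Fusion.apply_eq_of_coe_eq rfl).trans (map_one φ)
      · by_contra hy
        exact hc y hy hxy
    rw [hZ, le_bot_iff, Subgroup.zpowers_eq_bot] at hle
    rw [hle, orderOf_one] at hzo
    omega
  rcases CfsgLib.RankTwoTypes.types_of_saturated hS hF h2 h1 hmoved hK T with
    ⟨m, -, h⟩ | h | h | ⟨n, -, ⟨e⟩⟩ | h
  · exact Or.inl ⟨m, h⟩
  · exact Or.inr (Or.inl h)
  · exact Or.inr (Or.inr (Or.inl h))
  · refine Or.inr (Or.inr (Or.inr (Or.inl ⟨n, 2, ⟨e.trans ?_⟩⟩)))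
    exact AddEquiv.toMultiplicative (RingEquiv.piFinTwo fun _ => ZMod (2 ^ n)).toAddEquiv.symm
  · exact Or.inr (Or.inr (Or.inr (Or.inr ⟨T, h⟩)))

end Cfsg.Agent.S5213
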