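import Cfsg.Statements.S5214
import Cfsg.Agent.Lib.SuzukiTwo.PartTwo
import Cfsg.Agent.Lib.SuzukiTwo.OfSuzuki
import Cfsg.Agent.Lib.Fusion.Normal
-- import your own Cfsg.Agent.* helpers here

set_option autoImplicit false
open Cfsg

namespace Cfsg.Agent.S5214

open Cfsg.FusionSystem
open scoped commutatorElement


/-- Let S be a Suzuki 2-group (a finite nonabelian 2-group with more than one involution admitting a cyclic group of automorphisms permuting its involutions regularly). Then S is normal in every saturated fusion system over S (such a group is resistant). -/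
theorem result {Ω : Type*} [Group Ω] {S : Subgroup Ω} [Finite S] (hS : IsPGroup 2 S) (F : Cfsg.FusionSystem S) (hF : F.IsSaturated 2) (hsz : Cfsg.IsSuzukiTwoGroup ↥S) : F.IsNormal S := by
  haveI : Fact (Nat.Prime 2) := ⟨Nat.prime_two⟩
  obtain ⟨_, K, _, _, h, hna⟩ := CfsgLib.SuzukiTwo.exists_setting hsz
  obtain ⟨hsq, hcm⟩ := h.sq_mem hna
  set Z : Subgroup Ω := (CfsgLib.SuzukiTwo.invols ↥S).map S.subtype with hZ
  have hZS : Z ≤ S := Subgroup.map_subtype_le _
  have hmem : ∀ x : ↥S, (x : Ω) ∈ Z ↔ x * x = 1 := fun x => by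
    exact (Subgroup.mem_map_iff_mem (f := S.subtype) S.subtype_injective).trans h.mem_invols
  have hSsc : F.StronglyClosed S := ⟨le_rfl, fun R _ φ hφ x => CfsgLib.Fusion.apply_mem_S hφ x⟩
  refine CfsgLib.Fusion.isNormal_of_series hS hF 2 (fun i => if i = 0 then ⊥ else if i = 1 then Z else S)
    (by simp) (by simp) ?_ ?_ ?_
  · intro i j hij
    rcases Nat.eq_zero_or_pos i with rfl | hi
    · simp
    rcases eq_or_ne j 1 with rfl | hj
    · simp [show i = 1 by omega]
    · by_cases hi1 : i = 1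
      · simp [hi1, hj, show j ≠ 0 by omega, hZS]
      · simp [hi.ne', hi1, hj, show j ≠ 0 by omega]
  · intro i hi
    interval_cases i
    · exact ⟨bot_le, fun R hR φ hφ x => by
        rw [show x = 1 from Subtype.ext (Subgroup.mem_bot.mp (hR x.2)), map_one]; exact one_mem _⟩
    · refine ⟨hZS, fun R hR φ hφ x => ?_⟩
      have hx : (⟨(x : Ω), hZS (hR x.2)⟩ : ↥S) * ⟨(x : Ω), hZS (hR x.2)⟩ = 1 := (hmem _).mp (hR x.2)
      have hxx : x * x = 1 := Subtype.ext (congrArg Subtype.val hx :)
      refine (hmem ⟨φ x, CfsgLib.Fusion.apply_mem_S hφ x⟩).mpr (Subtype.ext ?_)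
      show φ x * φ x = 1
      rw [← map_mul, hxx, map_one]
    · exact hSsc
  · intro i hi
    interval_cases i
    · simp only [Nat.zero_add, one_ne_zero, if_false, if_true]
      rw [Subgroup.commutator_le]
      intro a ha b hb
      have hbc : (⟨b, hZS hb⟩ : ↥S) ∈ Subgroup.center ↥S :=
        h.invols_le_center (h.mem_invols.mpr ((hmem ⟨b, hZS hb⟩).mp hb))
      have hab := congrArg Subtype.val (Subgroup.mem_center_iff.mp hbc ⟨a, ha⟩)
      rw [Subgroup.mem_bot, commutatorElement_eq_one_iff_mul_comm]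
      exact hab
    · simp only [Nat.reduceAdd, one_ne_zero, if_false, if_true, OfNat.ofNat_ne_zero, OfNat.ofNat_ne_one]
      rw [Subgroup.commutator_le]
      intro a ha b hb
      exact ⟨⁅(⟨a, ha⟩ : ↥S), ⟨b, hb⟩⁆, hcm _ _, rfl⟩

end Cfsg.Agent.S5214
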