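import Cfsg.Statements.S5215
import Cfsg.Agent.Lib.RankTwoTypes.Fusion
import Cfsg.Agent.Lib.RankTwoUnique.Models
import Cfsg.Agent.Lib.FusionNormal.Inner
import Cfsg.Agent.Lib.Fusion.Extend
import Cfsg.Agent.Lib.SuzukiTwo.HermTwo
import Cfsg.Agent.Lib.InvChar.SylowThree
import Cfsg.Agent.S5214

set_option autoImplicit false
open Cfsg

namespace Cfsg.Agent.S5215

/-- Let S be a finite 2-group of 2-rank 2 (an elementary abelian subgroup of order 4, none of order 8) and F a simple saturated fusion system over S. Then S is dihedral, semidihedral or wreathed, and F is the fusion system of the projective special linear group PSL₂(q) for some odd prime power q ≡ ±1 (mod 8) or of PSL₃(q) for some odd prime power q: it is realized by an injective homomorphism of S into that group whose image is a Sylow 2-subgroup. -/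
theorem result {Ω : Type*} [Group Ω] {S : Subgroup Ω} [Finite S] (hS : IsPGroup 2 S) (F : Cfsg.FusionSystem S) (hF : F.IsSaturated 2) (hr : Cfsg.PRankAtLeast 2 2 ↥S ∧ ¬ Cfsg.PRankAtLeast 2 3 ↥S) (hsimple : F.IsSimple 2) : ((∃ m : ℕ, Nonempty (↥S ≃* DihedralGroup m)) ∨ Cfsg.IsQuasiDihedral ↥S ∨ Cfsg.IsWreathed ↥S) ∧ ∃ (K : Type) (_ : Field K) (_ : Fintype K) (q : ℕ), Fintype.card K = q ∧ Odd q ∧ (((q % 8 = 1 ∨ q % 8 = 7) ∧ ∃ ι : ↥S →* Matrix.ProjectiveSpecialLinearGroup (Fin 2) K, F.IsRealizedBy ι ∧ ∃ T : Sylow 2 (Matrix.ProjectiveSpecialLinearGroup (Fin 2) K), (T : Subgroup (Matrix.ProjectiveSpecialLinearGroup (Fin 2) K)) = ι.range) ∨ (∃ ι : ↥S →* Matrix.ProjectiveSpecialLinearGroup (Fin 3) K, F.IsRealizedBy ι ∧ ∃ T : Sylow 2 (Matrix.ProjectiveSpecialLinearGroup (Fin 3) K), (T : Subgroup (Matrix.ProjectiveSpecialLinearGroup (Fin 3) K)) = ι.range)) := by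
  have : Fact (Nat.Prime 2) := ⟨Nat.prime_two⟩
  classical
  have h2 : Cfsg.PRankLE 2 2 ↥S := fun A hA hA2 => by
    obtain ⟨n, hn⟩ := (hS.to_subgroup A).exists_card_eq
    by_contra hlt
    refine hr.2 ⟨A, hA, hA2, ?_⟩
    rw [hn] at hlt ⊢
    refine Nat.pow_le_pow_right two_pos ?_
    by_contra h
    exact hlt (Nat.pow_le_pow_right two_pos (by omega))
  have h1 : ¬ Cfsg.PRankLE 2 1 ↥S := fun h => by
    obtain ⟨A, hA, hA2, hc⟩ := hr.1
    have := h A hA hA2
    norm_num at hc this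
    omega
  have hbig : 2 < Nat.card S := by
    obtain ⟨A, -, -, hc⟩ := hr.1
    have := Subgroup.card_le_card_group A
    norm_num at hc
    omega
  have hfoc := CfsgLib.RankTwoUnique.focal_eq_of_isSimple hS hsimple hbig
  -- no proper nontrivial normal subgroup
  have hnormal : ∀ Q, F.IsNormal Q → Q = ⊥ := by
    intro Q hQ
    rcases hsimple.2.2 Q _ (CfsgLib.FusionNormal.inner_isNormalIn hS hF hQ) with h | ⟨rfl, hinner⟩
    · exact h
    exfalso
    -- the inner system has a proper focal subgroup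
    obtain ⟨W, hW, hcW⟩ : ∃ W : Subgroup Q, IsCoatom W ∧ commutator Q ≤ W := by
      have hnt : Nontrivial Q := Finite.one_lt_card_iff_nontrivial.mp (by omega)
      haveI := hS.isNilpotent
      obtain h | ⟨W, hW, -⟩ := eq_top_or_exists_le_coatom (⊥ : Subgroup Q)
      · exact absurd h bot_ne_top
      · exact ⟨W, hW, CfsgLib.TwoGroups.SD.commutator_le_of_index_two
          (CfsgLib.TwoGroups.SD.index_of_isCoatom hS hW)⟩
    have hle : F.focalSubgroup ≤ W.map Q.subtype := by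
      refine (Subgroup.closure_le _).2 ?_
      rintro _ ⟨P, φ, x, hφ, rfl⟩
      rw [← hinner P] at hφ
      obtain ⟨hP, g, hg, hge⟩ := hφ
      refine ⟨(⟨x, hP x.2⟩ : Q)⁻¹ * (⟨g, hg⟩ * ⟨x, hP x.2⟩ * (⟨g, hg⟩ : Q)⁻¹), hcW ?_, ?_⟩
      · rw [commutator_def]
        have := Subgroup.commutator_mem_commutator (Subgroup.mem_top ((⟨x, hP x.2⟩ : Q)⁻¹))
          (Subgroup.mem_top (⟨g, hg⟩ : Q))
        simpa [commutatorElement_def, mul_assoc] using this
      · simp [hge]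
    rw [hfoc] at hle
    exact hW.1 (eq_top_iff.2 fun w _ => by
      obtain ⟨w', hw', he⟩ := hle w.2
      rwa [← Subtype.ext he])
  have hS1 : (S : Subgroup Ω) ≠ ⊥ := fun e => by rw [e, Subgroup.card_bot] at hbig; omega
  have hnotS : ¬ F.IsNormal S := fun h => hS1 (hnormal S h)
  have hmoved : ∀ z ∈ CfsgLib.FusionCentralTwo.zen S, orderOf z = 2 → ∃ y, y ≠ z ∧ F.IsConjElt z y := by
    intro z hz hzo
    by_contra hc
    push Not at hc
    have hcen : F.IsCentral (Subgroup.zpowers z) := by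
      refine (CfsgLib.Fusion.isCentral_iff hS hF).2 ⟨Subgroup.zpowers_le.2 hz.1, fun x hx y hxy => ?_⟩
      rcases (CfsgLib.MacWilliams.mem_zpowers_of_sq_eq_one (CfsgLib.RankTwoTypes.sq_of_ord hzo)).1 hx with rfl | rfl
      · obtain ⟨φ, -, rfl⟩ := hxy
        exact (CfsgLib.Fusion.apply_eq_of_coe_eq rfl).trans (map_one φ)
      · by_contra hy
        exact hc y hy hxy
    have hn : F.IsNormal (Subgroup.zpowers z) := by
      refine ⟨hcen.1, fun P φ hφ => ?_⟩
      obtain ⟨ψ, hψ, he, hfix⟩ := hcen.2 P φ hφ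
      refine ⟨ψ, hψ, he, ?_⟩
      ext w
      constructor
      · rintro ⟨v, hv, rfl⟩
        rw [show ψ v = (⟨v, hv⟩ : Subgroup.zpowers z) from hfix ⟨v, hv⟩]
        exact hv
      · intro hw
        exact ⟨⟨w, Subgroup.mem_sup_right hw⟩, hw, hfix ⟨w, hw⟩⟩
    have := hnormal _ hn
    rw [Subgroup.zpowers_eq_bot] at this
    rw [this, orderOf_one] at hzo
    omega
  -- the possible shapes
  obtain ⟨T₀⟩ : Nonempty (Sylow 2 (Cfsg.PSU 3 (GaloisField 2 4) 4)) := inferInstance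
  have _ : Fintype (GaloisField 2 4) := Fintype.ofFinite _
  have hK : Fintype.card (GaloisField 2 4) = 16 := by
    rw [← Nat.card_eq_fintype_card, GaloisField.card 2 4 (by norm_num)]; rfl
  have hshape : (∃ m : ℕ, 4 ≤ m ∧ Nonempty (↥S ≃* DihedralGroup m)) ∨ Cfsg.IsQuasiDihedral ↥S ∨ Cfsg.IsWreathed ↥S := by
    rcases CfsgLib.RankTwoTypes.types_of_saturated hS hF h2 h1 hmoved hK T₀ with
      ⟨m, hm, ⟨e⟩⟩ | h | h | ⟨n, hn, ⟨e⟩⟩ | hU
    · rcases (show 4 ≤ m ∨ m = 2 ∨ m = 3 by omega) with h | rfl | rfl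
      · exact Or.inl ⟨m, h, ⟨e⟩⟩
      · refine absurd ?_ hnotS
        refine CfsgLib.FusionExtend.isNormal_of_abelian hS hF ⟨le_rfl, fun R _ φ hφ x => CfsgLib.Fusion.apply_mem_S hφ x⟩ ?_
        rw [eq_bot_iff, Subgroup.commutator_le]
        intro a ha b hb
        rw [Subgroup.mem_bot, commutatorElement_eq_one_iff_mul_comm]
        have hc : Nat.card S = 2 ^ 2 := by rw [Nat.card_congr e.toEquiv, DihedralGroup.nat_card]; rfl
        exact congrArg Subtype.val ((IsPGroup.isMulCommutative_of_card_eq_prime_sq hc).is_comm.comm ⟨a, ha⟩ ⟨b, hb⟩)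
      · obtain ⟨k, hk⟩ := hS.exists_card_eq
        rw [Nat.card_congr e.toEquiv, DihedralGroup.nat_card] at hk
        rcases k with _ | _ | _ | k <;> simp [pow_succ] at hk
        omega
    · exact Or.inr (Or.inl h)
    · exact Or.inr (Or.inr h)
    · refine absurd ?_ hnotS
      refine CfsgLib.FusionExtend.isNormal_of_abelian hS hF ⟨le_rfl, fun R _ φ hφ x => CfsgLib.Fusion.apply_mem_S hφ x⟩ ?_
      rw [eq_bot_iff, Subgroup.commutator_le]
      intro a ha b hb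
      rw [Subgroup.mem_bot, commutatorElement_eq_one_iff_mul_comm]
      exact congrArg Subtype.val (e.injective (by rw [map_mul, map_mul, mul_comm]) :
        (⟨a, ha⟩ : ↥S) * ⟨b, hb⟩ = ⟨b, hb⟩ * ⟨a, ha⟩)
    · obtain ⟨e⟩ := hU
      refine absurd (Cfsg.Agent.S5214.result hS F hF ?_) hnotS
      have hF' : Fintype.card (GaloisField 2 4) = 4 ^ 2 := by rw [hK]; rfl
      have he : Even 4 := by decide
      let _ := CfsgLib.InvCharThree.hermGroup hF' he
      obtain ⟨g⟩ := CfsgLib.InvCharThree.herm_equiv_sylow_psu hF' he (n := 2) (by norm_num) T₀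
      exact CfsgLib.SuzukiTwo.isSuzukiTwoGroup_of_equiv (g.trans e.symm)
        (CfsgLib.SuzukiTwo.herm_isSuzukiTwoGroup hF' he (n := 2) (by norm_num) le_rfl)
  refine ⟨?_, ?_⟩
  · rcases hshape with ⟨m, -, h⟩ | h | h
    · exact Or.inl ⟨m, h⟩
    · exact Or.inr (Or.inl h)
    · exact Or.inr (Or.inr h)
  rcases hshape with ⟨m, hm, ⟨e⟩⟩ | h
  · obtain ⟨K, fK, ftK, hodd, h8, T, hT, ⟨eT⟩⟩ := CfsgLib.RankTwoUnique.psl_two_dihedral hS hm e
    obtain ⟨ι, hι, hT'⟩ := CfsgLib.RankTwoUnique.realized_of_simple hS hsimple hbig (Or.inl (Or.inl ⟨m, hm, ⟨e⟩⟩)) T hT eT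
    exact ⟨K, fK, ftK, _, rfl, hodd, Or.inl ⟨h8, ι, hι, hT'⟩⟩
  · obtain ⟨K, fK, ftK, hodd, T, hT, ⟨eT⟩⟩ := CfsgLib.RankTwoUnique.psl_three_shape h
    have hsh : ((∃ m : ℕ, 4 ≤ m ∧ Nonempty (↥S ≃* DihedralGroup m)) ∨ Cfsg.IsQuasiDihedral ↥S) ∨ Cfsg.IsWreathed ↥S :=
      h.elim (fun h => Or.inl (Or.inr h)) Or.inr
    obtain ⟨ι, hι, hT'⟩ := CfsgLib.RankTwoUnique.realized_of_simple hS hsimple hbig hsh T hT eT
    exact ⟨K, fK, ftK, _, rfl, hodd, Or.inr ⟨ι, hι, hT'⟩⟩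

end Cfsg.Agent.S5215
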