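import Cfsg.Statements.S5221
import Cfsg.Agent.Lib.Fusion.ThompsonInner
-- import your own Cfsg.Agent.* helpers here

set_option autoImplicit false
open Cfsg

namespace Cfsg.Agent.S5221

open CfsgLib.Fusion Cfsg.FusionSystem CfsgLib.FusionFactor

universe u

/-- In a sparse system a subgroup normal in `S` is normal in the system or has inner normalizer system. -/
theorem normal_or_inner {Ω : Type u} [Group Ω] {S : Subgroup Ω} [Finite S] {p : ℕ} [Fact p.Prime] (hS : IsPGroup p S)
    {F : Cfsg.FusionSystem S} (hF : F.IsSaturated p)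
    (hsp : ∀ E : Cfsg.FusionSystem S, E.IsSaturated p → E.IsSubsystemOf F →
      (∀ P : Subgroup Ω, E.Hom P = F.Hom P) ∨ (∀ P : Subgroup Ω, E.Hom P = (Cfsg.innerFusionSystem S).Hom P))
    {V : Subgroup Ω} (hVS : V ≤ S) (hVn : S ≤ Subgroup.normalizer (V : Set Ω)) :
    F.IsNormal V ∨ ∀ P φ, φ ∈ F.normalizerHom V P → φ ∈ (Cfsg.innerFusionSystem S).Hom P := by
  have hNV : normalizerIn S V = S := inf_eq_left.mpr hVn
  have hVfn : F.IsFullyNormalized V := ⟨hVS, fun R _ => by
    rw [hNV]; exact Subgroup.card_le_of_le normalizerIn_le⟩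
  have tr : ∀ {T : Subgroup Ω}, T = normalizerIn S V →
      ∃ E : Cfsg.FusionSystem T, E.IsSaturated p ∧ ∀ P, E.Hom P = F.normalizerHom V P := by
    rintro T rfl
    obtain ⟨N, hN⟩ := exists_normalizerSystem (F := F) hVS
    exact ⟨N, normalizerSystem_saturated hS hF hVfn hN, hN⟩
  obtain ⟨E, hE, hEh⟩ := tr hNV.symm
  rcases hsp E hE (fun P φ h => ((hEh P).le h).1) with h | h
  · refine Or.inl ⟨hVS, fun P φ hφ => ?_⟩
    obtain ⟨-, -, -, r⟩ := (hEh P).le ((h P).ge hφ)
    exact r
  · exact Or.inr fun P φ hφ => (h P).le ((hEh P).ge hφ)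


/-- Let F be a sparse fusion system over a finite p-group S: a saturated fusion system, not the inner fusion system of S, whose only saturated fusion systems over S contained in it are F itself and the inner one. If p is odd, or F is S₄-free (the symmetric group of degree 4 is not involved in any model of the normalizer system of a fully normalized F-centric subgroup), then F is constrained. -/
theorem result {Ω : Type*} [Group Ω] {S : Subgroup Ω} [Finite S] (p : ℕ) [Fact p.Prime] (hS : IsPGroup p S) (F : Cfsg.FusionSystem S) (hF : F.IsSaturated p) (hsp : ¬ (∀ P : Subgroup Ω, F.Hom P = (Cfsg.innerFusionSystem S).Hom P) ∧ ∀ E : Cfsg.FusionSystem S, E.IsSaturated p → E.IsSubsystemOf F → (∀ P : Subgroup Ω, E.Hom P = F.Hom P) ∨ (∀ P : Subgroup Ω, E.Hom P = (Cfsg.innerFusionSystem S).Hom P)) (hp : p ≠ 2 ∨ F.IsSectionFree p (Equiv.Perm (Fin 4))) : F.IsConstrained p := by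
  obtain ⟨hni, hsp⟩ := hsp
  have hnle : ¬ F ≤ Cfsg.innerFusionSystem S := fun h => hni fun P =>
    Set.Subset.antisymm (h P) (inner_le F P)
  have hfree : CentricFree F p (fun L _ => ThompsonGood p L) := by
    rcases hp with hp | hp
    · exact fun _ _ _ _ _ _ _ _ _ => Or.inl hp
    · exact fun Q hn hc N hN L _ ι hL => Or.inr (hp Q hn hc N hN L ι hL)
  have hS1 : S ≠ ⊥ := by
    rintro rfl
    exact hnle fun P φ hφ => ⟨le_S hφ, 1, one_mem _, fun x => by
      rw [Subgroup.mem_bot.mp (apply_mem_S hφ x), Subgroup.mem_bot.mp (le_S hφ x.2)]; group⟩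
  have hQ : F.IsNormal F.core := CfsgLib.FusionExt.isNormal_core F
  have hQ1 : F.core ≠ ⊥ := by
    intro hcore
    have key : ∀ (W : ∀ (Q : Type _) [Group Q], Subgroup Q),
        (∀ (Q : Type _) [Group Q] [Finite Q], IsPGroup p Q → Nontrivial Q → W Q ≠ ⊥) →
        (∀ (Q R : Type _) [Group Q] [Group R] [Finite Q], IsPGroup p Q → ∀ φ : Q ≃* R,
          (W Q).map φ.toMonoidHom = W R) →
        ∀ P φ, φ ∈ F.normalizerHom (charSub W S) P → φ ∈ (Cfsg.innerFusionSystem S).Hom P := by
      intro W h1 h2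
      refine (normal_or_inner hS hF hsp (charSub_le S)
        (Subgroup.le_normalizer.trans (charSub_le_normalizer h2 hS))).resolve_left fun h => ?_
      exact charSub_ne_bot h1 hS hS1 (le_bot_iff.mp (hcore ▸ (show charSub W S ≤ F.core from le_sSup h)))
    refine hnle (le_inner_thompson hS hF hfree (fun P φ hφ => ?_) fun P φ hφ => ?_)
    · refine key centerW (fun Q _ _ => centerW_ne_bot Q) (fun Q R _ _ _ _ => centerW_equiv Q R) P φ ?_
      rw [charSub_centerW]
      exact locHom_subset_normalizer false hφ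
    · exact key thompsonW (fun Q _ _ => thompsonW_ne_bot Q) (fun Q R _ _ _ _ => thompsonW_equiv Q R) P φ hφ
  refine ⟨hF, ?_⟩
  obtain ⟨hr, hsat⟩ := innerExt_saturated hS hF hQ
  rcases hsp _ hsat (fun P φ h => h.1) with hext | hext
  · exfalso
    have hne : ∀ P φ, φ ∈ F.Hom P → φ ∈ extHom F F.core (autInducedBy S F.core) S P :=
      fun P φ hφ => (hext P).ge hφ
    have hQn : (F.core.subgroupOf S).Normal :=
      (Subgroup.normal_subgroupOf_iff_le_normalizer hQ.1).mpr (le_normalizer_of_isNormal hQ)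
    let θ : S →* S ⧸ F.core.subgroupOf S := QuotientGroup.mk' _
    have hk : ∀ s : S, θ s = 1 ↔ (s : Ω) ∈ F.core := fun s => QuotientGroup.eq_one_iff s
    have hA := IsNormal.stronglyClosed hQ
    have hE' := factorSystem_isFactorSystem (θ := θ) hk hA
    have : Finite θ.range := Finite.of_surjective _ θ.rangeRestrict_surjective
    have hθp : IsPGroup p θ.range := hS.of_surjective _ θ.rangeRestrict_surjective
    refine hnle ?_
    by_cases hθne : θ.range = ⊥
    · refine le_inner_of_quotient hS hF hQ hne hE' fun P' φ' hφ' => ⟨le_S hφ', 1, one_mem _, fun x => ?_⟩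
      rw [Subgroup.mem_bot.mp (hθne.le (apply_mem_S hφ' x)), Subgroup.mem_bot.mp (hθne.le (le_S hφ' x.2))]; group
    refine le_inner_of_quotient hS hF hQ hne hE' ?_
    have key : ∀ (W : ∀ (Q : Type _) [Group Q], Subgroup Q),
        (∀ (Q : Type _) [Group Q] [Finite Q], IsPGroup p Q → Nontrivial Q → W Q ≠ ⊥) →
        (∀ (Q R : Type _) [Group Q] [Group R] [Finite Q], IsPGroup p Q → ∀ φ : Q ≃* R,
          (W Q).map φ.toMonoidHom = W R) →
        ∀ P φ, φ ∈ (factorSystem F θ F.core hk hA).normalizerHom (charSub W θ.range) P →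
          φ ∈ (Cfsg.innerFusionSystem θ.range).Hom P := by
      intro W h1 h2 P' φ' hφ'
      have hV : S ≤ Subgroup.normalizer (preimageAlong θ (charSub W θ.range) : Set Ω) := by
        intro s hs
        have := finite_of_le (preimageAlong_le (θ := θ) (charSub W θ.range))
        refine mem_normalizer_of_forall fun w hw => ?_
        obtain ⟨hwS, hw'⟩ := mem_preimageAlong.mp hw
        refine mem_preimageAlong.mpr ⟨S.mul_mem (S.mul_mem hs hwS) (S.inv_mem hs), ?_⟩
        show θ (⟨s, hs⟩ * ⟨w, hwS⟩ * (⟨s, hs⟩ : S)⁻¹) ∈ charSub W θ.range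
        rw [map_mul, map_mul, map_inv]
        exact (Subgroup.mem_normalizer_iff.mp
          (charSub_le_normalizer h2 hθp (Subgroup.le_normalizer ⟨_, rfl⟩)) _).mp hw'
      have hin := (normal_or_inner hS hF hsp (preimageAlong_le _) hV).resolve_left fun h => by
        refine charSub_ne_bot h1 hθp hθne (le_bot_iff.mp fun y hy => ?_)
        obtain ⟨s, rfl⟩ := charSub_le _ hy
        exact Subgroup.mem_bot.mpr ((hk s).mpr
          ((show preimageAlong θ (charSub W θ.range) ≤ F.core from le_sSup h) (mem_preimageAlong.mpr ⟨s.2, hy⟩)))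
      obtain ⟨P, ψ, hψ, hlift⟩ := exists_lift_normalizerHom hE' (charSub_le _) hφ'
      obtain ⟨-, g, hg, hge⟩ := hin P ψ hψ
      refine ⟨le_S hφ'.1, θ ⟨g, hg⟩, ⟨_, rfl⟩, fun y => ?_⟩
      obtain ⟨x, hxS, hψS, hxe, hφe⟩ := hlift y
      rw [← hφe, ← hxe, ← map_inv, ← map_mul, ← map_mul]
      exact congrArg θ (Subtype.ext (hge x))
    refine le_inner_thompson hθp (isSaturated_factor hS hF hA hE')
      (centricFree_factor (sectionClosed_thompsonGood p).quot hS hF hQ hE' hfree) (fun P φ hφ => ?_) fun P φ hφ => ?_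
    · refine key centerW (fun Q _ _ => centerW_ne_bot Q) (fun Q R _ _ _ _ => centerW_equiv Q R) P φ ?_
      rw [charSub_centerW]
      exact locHom_subset_normalizer false hφ
    · exact key thompsonW (fun Q _ _ => thompsonW_ne_bot Q) (fun Q R _ _ _ _ => thompsonW_equiv Q R) P φ hφ
  · obtain ⟨hTc, hTn, hTN, -⟩ := normal_mul_centralizer hQ
    have hTle := hTn.1
    rcases normal_or_inner hS hF hsp hTle (inf_eq_left.mp hTN) with h | h
    · exact ⟨_, h, hTc⟩
    · exact absurd (le_of_normal_split hS hF hQ _ h fun P φ hφ => (hext P).le hφ) hnle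

end Cfsg.Agent.S5221
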