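import Cfsg.Statements.S5222
import Cfsg.Agent.Lib.Fusion.TrivialAboveDerived
-- import your own Cfsg.Agent.* helpers here

set_option autoImplicit false
open Cfsg

namespace Cfsg.Agent.S5222

/-- Let F be a saturated fusion system over a finite p-group S whose normalizer fusion system of S is the inner fusion system of S (Aut_F(S) is a p-group). Then for every subgroup Q of S with [S, S] ≤ Q ≤ Φ(S), the normalizer fusion system of Q in F is the inner fusion system of N_S(Q) = S. -/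
theorem result {Ω : Type*} [Group Ω] {S : Subgroup Ω} [Finite S] (p : ℕ) [Fact p.Prime] (hS : IsPGroup p S) (F : Cfsg.FusionSystem S) (hF : F.IsSaturated p) (hN : ∀ N : Cfsg.FusionSystem (Cfsg.FusionSystem.normalizerIn S S), F.IsNormalizerSystem S N → ∀ P : Subgroup Ω, N.Hom P = (Cfsg.innerFusionSystem (Cfsg.FusionSystem.normalizerIn S S)).Hom P) (Q : Subgroup Ω) (h1 : (commutator ↥S).map S.subtype ≤ Q) (h2 : Q ≤ (frattini ↥S).map S.subtype) : ∀ N : Cfsg.FusionSystem (Cfsg.FusionSystem.normalizerIn S Q), F.IsNormalizerSystem Q N → ∀ P : Subgroup Ω, N.Hom P = (Cfsg.innerFusionSystem (Cfsg.FusionSystem.normalizerIn S Q)).Hom P := by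
  open Cfsg.FusionSystem CfsgLib.Fusion in
  intro N hNQ P
  open Cfsg.FusionSystem CfsgLib.Fusion in
  have hSS : normalizerIn S S = S := le_antisymm normalizerIn_le (le_normalizerIn le_rfl)
  open Cfsg.FusionSystem CfsgLib.Fusion in
  have hA : F.autGroup S ≤ Inn S := by
    intro α hα
    let N₀ : Cfsg.FusionSystem (normalizerIn S S) := extSystem F le_rfl ⊤ (normalizerIn S S) isKNormalizer_top
    have hN₀ : F.IsNormalizerSystem S N₀ := fun P => extHom_top F S P
    have hα1 : (S.subtype.comp α.toMonoidHom) ∈ N₀.Hom S := by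
      rw [hN₀ S]
      obtain ⟨ψ, hψ, hψe⟩ : ∃ ψ ∈ F.Hom (S ⊔ S), ∀ x : ↥(S ⊔ S), ψ x = ((α ⟨x, (sup_idem S).le x.2⟩ : S) : Ω) :=
        ⟨_, restrict_mem (sup_idem S).le ((mem_autGroup le_rfl).mp hα), fun x => rfl⟩
      refine ⟨(mem_autGroup le_rfl).mp hα, le_normalizerIn le_rfl, fun x => le_normalizerIn le_rfl (α x).2,
        ψ, hψ, fun x => hψe _, ?_⟩
      ext y
      constructor
      · rintro ⟨x, -, rfl⟩
        rw [hψe]; exact Subtype.mem _
      · intro hy
        refine ⟨⟨(α⁻¹ ⟨y, hy⟩ : S), Subgroup.mem_sup_left (Subtype.mem _)⟩, Subtype.mem _, ?_⟩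
        rw [hψe]
        simp
    rw [hN N₀ hN₀ S] at hα1
    obtain ⟨-, g, hg, hge⟩ := hα1
    exact mem_inn.mpr ⟨⟨g, normalizerIn_le hg⟩, fun x => Subtype.ext (hge x)⟩
  open Cfsg.FusionSystem CfsgLib.Fusion in
  have hQS : Q ≤ S := h2.trans (Subgroup.map_subtype_le _)
  open Cfsg.FusionSystem CfsgLib.Fusion in
  have hQN : normalizerIn S Q = S :=
    le_antisymm normalizerIn_le (le_inf le_rfl (le_normalizer_of_derived_le h1 hQS le_rfl))
  exact CfsgLib.Fusion.normalizer_le_inner_of_derived_le hS hF h1 h2 hA hQN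
    (CfsgLib.Fusion.normalizerSystem_saturated hS hF
      ⟨hQS, fun R _ => by rw [hQN]; exact Subgroup.card_le_of_le CfsgLib.Fusion.normalizerIn_le⟩ hNQ) hNQ P

end Cfsg.Agent.S5222
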