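import Cfsg.Statements.S5223
import Cfsg.Agent.Lib.Fusion.PAut

set_option autoImplicit false
open Cfsg CfsgLib.Fusion

namespace Cfsg.Agent.S5223

/-- Let F be a saturated fusion system over a finite p-group S. Suppose there are subgroups Q₀ = S, Q₁, …, Qₙ = 1 (not required to be nested) such that for each i < n the focal subgroup of Qᵢ (generated by the elements x⁻¹φ(x), x ∈ Qᵢ, φ a map of F defined on the cyclic group generated by x) lies in Qᵢ₊₁. Then F is the inner fusion system of S. -/
theorem result {Ω : Type*} [Group Ω] {S : Subgroup Ω} [Finite S] (p : ℕ) [Fact p.Prime] (hS : IsPGroup p S) (F : Cfsg.FusionSystem S) (hF : F.IsSaturated p) (n : ℕ) (Q : Fin (n + 1) → Subgroup Ω) (hQ0 : Q 0 = S) (hQn : Q (Fin.last n) = ⊥) (hstep : ∀ i : Fin n, Subgroup.closure {y : Ω | ∃ x ∈ Q i.castSucc, ∃ φ ∈ F.Hom (Subgroup.zpowers x), y = x⁻¹ * φ ⟨x, Subgroup.mem_zpowers x⟩} ≤ Q i.succ) : ∀ P : Subgroup Ω, F.Hom P = (Cfsg.innerFusionSystem S).Hom P := by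
  refine eq_inner_of_pGroup_autGroups hS hF fun P hP => ?_
  have hPS := hP.1
  have := finite_of_le hPS
  have := finite_mulAut hPS
  refine isPGroup_of_prime_order fun r α hr hrp hα => ?_
  have hα1 : ((α : MulAut P)) ^ r = 1 := by
    rw [← hα, ← SubgroupClass.coe_pow, pow_orderOf_eq_one, OneMemClass.coe_one]
  have key : ∀ i : Fin (n + 1), ∀ x : P, (x : Ω) ∈ Q i → (α : MulAut P) x = x := by
    intro i
    induction i using Fin.reverseInduction with
    | last =>
      intro x hx
      rw [hQn, Subgroup.mem_bot] at hx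
      have : x = 1 := Subtype.ext hx
      rw [this, map_one]
    | cast i ih =>
      intro x hx
      refine fixed_of_moves_into_fixed hS hPS hr hrp hα1 x (ih _ (hstep i ?_))
      obtain ⟨φ, hφ, -, hφe⟩ := exists_map_of_mem_autGroup hPS α.2
      refine Subgroup.subset_closure ⟨x, hx, _, restrict_mem (Subgroup.zpowers_le.mpr x.2) hφ, ?_⟩
      exact congrArg (fun z => (x : Ω)⁻¹ * z) (hφe x).symm
  have h1 : α = 1 := Subtype.ext (MulEquiv.ext fun x => key 0 x (hQ0 ▸ hPS x.2))
  rw [h1, orderOf_one] at hα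
  exact hr.ne_one hα.symm

end Cfsg.Agent.S5223
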