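import Cfsg.Statements.S5226
import Cfsg.Agent.Lib.Fusion.Normal


set_option autoImplicit false
open Cfsg

namespace Cfsg.Agent.S5226

open CfsgLib.Fusion Cfsg.FusionSystem
open scoped commutatorElement

theorem weaklyClosed_of_stronglyClosed {Ω : Type*} [Group Ω] {S : Subgroup Ω} [Finite S] {F : Cfsg.FusionSystem S}
    {Q : Subgroup Ω} (h : F.StronglyClosed Q) : F.WeaklyClosed Q :=
  ⟨h.1, fun φ hφ => range_eq_of_card_le hφ h.1 (h.2 Q le_rfl φ hφ) le_rfl⟩

theorem le_centric_radical {Ω : Type*} [Group Ω] {S : Subgroup Ω} [Finite S] {p : ℕ} [Fact p.Prime]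
    (hS : IsPGroup p S) {F : Cfsg.FusionSystem S} {Q P : Subgroup Ω} (hQ : F.StronglyClosed Q) (L : ℕ → Subgroup Ω)
    (n : ℕ) (h0 : L 0 = ⊥) (hn : L n = Q) (hmono : Monotone L) (hwc : ∀ i < n, F.WeaklyClosed (L i))
    (hcomm : ∀ i < n, ⁅L (i + 1), Q⁆ ≤ L i) (hc : F.IsCentric P) (hr : F.IsRadical p P) : Q ≤ P := by
  suffices h : ∀ i ≤ n, L i ≤ P by rw [← hn]; exact h n le_rfl
  intro i
  induction i with
  | zero => intro _; rw [h0]; exact bot_le
  | succ i ih =>
    intro hi
    have hiP := ih (by omega)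
    have hLQ : ∀ j ≤ n, L j ≤ Q := fun j hj => hn ▸ hmono hj
    have hLS : L (i + 1) ≤ S := (hLQ _ hi).trans hQ.1
    have hLn : S ≤ Subgroup.normalizer (L (i + 1) : Set Ω) := by
      rcases (show i + 1 < n ∨ i + 1 = n by omega) with h | h
      · intro g hg
        have hw := hwc _ h
        have : Finite (L (i + 1)) := finite_of_le hw.1
        refine mem_normalizer_of_forall fun x hx => ?_
        exact (hw.2 _ (F.conj_mem hw.1 hg)).le ⟨⟨x, hx⟩, rfl⟩
      · rw [h, hn]; exact StronglyClosed.le_normalizer hQ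
    have := finite_of_le hc.1
    let M : ℕ → Subgroup P := fun j =>
      if j ≤ i then (L j).subgroupOf P else if j = i + 1 then Q.subgroupOf P else ⊤
    have hM1 : ∀ {j}, j ≤ i → M j = (L j).subgroupOf P := fun h => if_pos h
    have hM2 : M (i + 1) = Q.subgroupOf P := by simp [M]
    have hM3 : M (i + 2) = ⊤ := by simp [M]
    have hinv : ∀ j ≤ i + 2, ∀ a ∈ F.autGroup P, ∀ x ∈ M j, a x ∈ M j := by
      intro j hj a ha x hx
      rcases (show j ≤ i ∨ j = i + 1 ∨ j = i + 2 by omega) with h | rfl | rfl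
      · rw [hM1 h, Subgroup.mem_subgroupOf] at hx ⊢
        have hw := hwc j (by omega)
        have hle : L j ≤ P := (hmono h).trans hiP
        exact (hw.2 _ (restrict_mem hle ((mem_autGroup hc.1).mp ha))).le ⟨⟨x, hx⟩, rfl⟩
      · rw [hM2, Subgroup.mem_subgroupOf] at hx ⊢
        exact StronglyClosed.aut_mem hQ hc.1 ha x hx
      · rw [hM3]; exact Subgroup.mem_top _
    refine le_of_centric_radical hS hc hr hLS hLn
      (A := seriesStabilizer F P (i + 2) M hinv) (fun a ha => ha.1) ?_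
      (fun a ha b hb => seriesStabilizer_conj_mem ha hb) ?_
    · rintro ⟨a, ha⟩
      obtain ⟨k, hk⟩ := exists_pow_eq_one_of_stabilizes (hS.to_le hc.1) M (n := i + 2) (fun j hj => by
          rcases (show j + 1 ≤ i ∨ j = i ∨ j = i + 1 by omega) with h | rfl | rfl
          · rw [hM1 h, hM1 (by omega)]; exact Subgroup.comap_mono (hmono (by omega))
          · rw [hM1 le_rfl, hM2]; exact Subgroup.comap_mono (hLQ _ (by omega))
          · rw [hM3]; exact le_top)
        hM3 (α := a) ⟨0, fun x hx => by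
          rw [hM1 (Nat.zero_le _), h0] at hx
          have : x = 1 := Subtype.ext (Subgroup.mem_bot.mp hx)
          rw [this, map_one]⟩ ha.2
      exact ⟨k, Subtype.ext hk⟩
    · intro q hq a ha
      refine ⟨autInducedBy_le_autGroup hc.1 (mem_autInducedBy.mpr ⟨q, hLS hq, ha⟩), fun j hj x hx => ?_⟩
      have key : ∀ A : Subgroup Ω, ⁅q, (x : Ω)⁆ ∈ A → S ≤ Subgroup.normalizer (A : Set Ω) →
          (x : Ω)⁻¹ * (q * x * q⁻¹) ∈ A := by
        intro A hA hAn
        have h1 := (Subgroup.mem_normalizer_iff''.mp (hAn (hc.1 x.2)) _).mp hA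
        have h3 : (x : Ω)⁻¹ * ⁅q, (x : Ω)⁆ * x = (x : Ω)⁻¹ * (q * x * q⁻¹) := by
          rw [commutatorElement_def]; group
        rwa [h3] at h1
      have hLjn : ∀ j ≤ i, S ≤ Subgroup.normalizer (L j : Set Ω) := fun j hj g hg => by
        have hw := hwc j (by omega)
        have : Finite (L j) := finite_of_le hw.1
        exact mem_normalizer_of_forall fun x hx => (hw.2 _ (F.conj_mem hw.1 hg)).le ⟨⟨x, hx⟩, rfl⟩
      have hqQ : q ∈ Q := hLQ _ hi hq
      rcases (show j + 1 ≤ i ∨ j = i ∨ j = i + 1 by omega) with h | rfl | rfl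
      · rw [hM1 h, Subgroup.mem_subgroupOf] at hx
        rw [hM1 (by omega : j ≤ i), Subgroup.mem_subgroupOf, Subgroup.coe_mul, Subgroup.coe_inv, ha]
        refine key _ ?_ (hLjn j (by omega))
        rw [← commutatorElement_inv]
        exact inv_mem (hcomm j (by omega) (Subgroup.commutator_mem_commutator hx hqQ))
      · rw [hM2, Subgroup.mem_subgroupOf] at hx
        rw [hM1 le_rfl, Subgroup.mem_subgroupOf, Subgroup.coe_mul, Subgroup.coe_inv, ha]
        exact key _ (hcomm j (by omega) (Subgroup.commutator_mem_commutator hq hx)) (hLjn j le_rfl)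
      · rw [hM2, Subgroup.mem_subgroupOf, Subgroup.coe_mul, Subgroup.coe_inv, ha]
        refine key _ ?_ (StronglyClosed.le_normalizer hQ)
        have h1 := (Subgroup.mem_normalizer_iff.mp ((StronglyClosed.le_normalizer hQ) (hc.1 x.2)) _).mp (Q.inv_mem hqQ)
        have h2 := Q.mul_mem hqQ h1
        rw [commutatorElement_def]
        simpa [mul_assoc] using h2

/-- Let F be a saturated fusion system over a finite p-group S and Q a subgroup of S. Then Q is normal in F (F equals the normalizer system of Q) if and only if Q is strongly closed in F and admits a central series 1 = Q₀ ≤ Q₁ ≤ ⋯ ≤ Qₙ = Q ([Qᵢ₊₁, Q] ≤ Qᵢ) all of whose proper terms are weakly closed in F. -/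
theorem result {Ω : Type*} [Group Ω] {S : Subgroup Ω} [Finite S] (p : ℕ) [Fact p.Prime] (hS : IsPGroup p S) (F : Cfsg.FusionSystem S) (hF : F.IsSaturated p) (Q : Subgroup Ω) : F.IsNormal Q ↔ F.StronglyClosed Q ∧ ∃ (n : ℕ) (C : Fin (n + 1) → Subgroup Ω), C 0 = ⊥ ∧ C (Fin.last n) = Q ∧ Monotone C ∧ (∀ i : Fin n, ⁅C i.succ, Q⁆ ≤ C i.castSucc) ∧ ∀ i : Fin n, F.WeaklyClosed (C i.castSucc) := by
  constructor
  · intro h
    obtain ⟨n, C, h0, hn, hm, hC⟩ := (isNormal_iff_series hS hF).mp h
    refine ⟨IsNormal.stronglyClosed h, n, C, h0, hn, hm, fun i => ?_, fun i => ?_⟩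
    · rw [Subgroup.commutator_comm]; exact (hC i).2
    · refine weaklyClosed_of_stronglyClosed ?_
      rcases i with ⟨_ | i, hi⟩
      · exact h0.symm ▸ stronglyClosed_bot F
      · exact (hC ⟨i, by omega⟩).1
  · rintro ⟨hQ, n, C, h0, hn, hm, hcomm, hwc⟩
    refine (isNormal_iff_stronglyClosed_le hS hF).mpr ⟨hQ, fun P hc hr => ?_⟩
    refine le_centric_radical hS hQ (fun i => C ⟨min i n, by omega⟩) n ?_ ?_ ?_ ?_ ?_ hc hr
    · simpa using h0
    · simpa [Fin.last] using hn
    · intro i j hij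
      exact hm (Fin.mk_le_mk.mpr (min_le_min hij le_rfl))
    · intro i hi
      have e : (⟨min i n, by omega⟩ : Fin (n + 1)) = Fin.castSucc (⟨i, hi⟩ : Fin n) :=
        Fin.ext (show min i n = i by omega)
      rw [e]; exact hwc _
    · intro i hi
      have e : (⟨min (i + 1) n, by omega⟩ : Fin (n + 1)) = (⟨i, hi⟩ : Fin n).succ :=
        Fin.ext (show min (i + 1) n = i + 1 by omega)
      have e' : (⟨min i n, by omega⟩ : Fin (n + 1)) = Fin.castSucc (⟨i, hi⟩ : Fin n) :=
        Fin.ext (show min i n = i by omega)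
      rw [e, e']; exact hcomm _

end Cfsg.Agent.S5226
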