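import Cfsg.Statements.S5233
import Cfsg.Agent.Lib.Fusion.Normal
import Cfsg.Agent.Lib.Fusion.GenExtraspecial
import Cfsg.Agent.Lib.Fusion.Transvection
import Cfsg.Agent.Lib.OddOrder.PuigSeries


set_option autoImplicit false
open Cfsg

namespace Cfsg.Agent.S5233

open CfsgLib.Fusion Cfsg.FusionSystem
open scoped commutatorElement

/-- A normal subgroup of order `p` of a `p`-group is central. -/
theorem le_center_of_card_prime {G : Type*} [Group G] [Finite G] {p : ℕ} [Fact p.Prime] (hG : IsPGroup p G)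
    (N : Subgroup G) [N.Normal] (hN : Nat.card N = p) : N ≤ Subgroup.center G := by
  have : Group.IsNilpotent G := hG.isNilpotent
  have h1 := CfsgLib.OddOrder.PuigSeries.inf_center_ne_bot N fun h => by
    rw [h, Subgroup.card_bot] at hN
    exact (Fact.out : p.Prime).ne_one hN.symm
  have h2 := CfsgLib.Fusion.MaxClass.mul_card_le_of_lt hG (bot_lt_iff_ne_bot.mpr h1)
  rw [Subgroup.card_bot, mul_one] at h2
  exact (CfsgLib.Fusion.eq_of_le_of_card_le (inf_le_right (a := Subgroup.center G)) (hN.le.trans h2)).ge.trans inf_le_left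

/-- Let F be a saturated fusion system over a finite p-group S and P a subgroup of S strongly closed in F that is generalized extraspecial (its Frattini subgroup equals its commutator subgroup and has order p) and not isomorphic to E × A with A elementary abelian and E dihedral of order 8 (p = 2) or extraspecial of order p³ and exponent p (p odd). Then P is normal in F. -/
theorem result {Ω : Type*} [Group Ω] {S : Subgroup Ω} [Finite S] (p : ℕ) [Fact p.Prime] (hS : IsPGroup p S) (F : Cfsg.FusionSystem S) (hF : F.IsSaturated p) (P : Subgroup Ω) (hP : F.StronglyClosed P) (hge : frattini ↥P = commutator ↥P ∧ Nat.card ↥(commutator ↥P) = p) (h2 : p = 2 → ¬ ∃ (A : Type) (_ : CommGroup A), (∀ a : A, a ^ 2 = 1) ∧ Nonempty (↥P ≃* DihedralGroup 4 × A)) (hodd : p ≠ 2 → ¬ ∃ (E : Type) (_ : Group E) (A : Type) (_ : CommGroup A), Cfsg.IsExtraspecial p E ∧ Nat.card E = p ^ 3 ∧ Monoid.exponent E = p ∧ (∀ a : A, a ^ p = 1) ∧ Nonempty (↥P ≃* E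 × A)) : F.IsNormal P := by
  have hp' : p.Prime := Fact.out
  have := finite_of_le hP.1
  have hPp : IsPGroup p P := hS.to_le hP.1
  obtain ⟨hfr, hcard⟩ := hge
  -- the derived group `Z` is central in `S`
  set Z := ⁅P, P⁆ with hZdef
  have hZmap : (commutator P).map P.subtype = Z := by
    rw [commutator_def, Subgroup.map_commutator, ← MonoidHom.range_eq_map, Subgroup.range_subtype]
  have hZP : Z ≤ P := by rw [← hZmap]; exact Subgroup.map_subtype_le _
  have hZS : Z ≤ S := hZP.trans hP.1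
  have hZcard : Nat.card Z = p := by
    rw [← hZmap, Subgroup.card_map_of_injective P.subtype_injective, hcard]
  have hZn : (Z.subgroupOf S).Normal := ⟨fun n hn s => by
    have h1 : P.map (MulAut.conj (s : Ω)).toMonoidHom ≤ P := by
      rintro _ ⟨w, hw, rfl⟩
      exact (Subgroup.mem_normalizer_iff.mp (StronglyClosed.le_normalizer hP s.2) w).mp hw
    have h2 : Z.map (MulAut.conj (s : Ω)).toMonoidHom ≤ Z := by
      rw [hZdef, Subgroup.map_commutator]; exact Subgroup.commutator_mono h1 h1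
    exact h2 ⟨_, hn, rfl⟩⟩
  have hZcen : ∀ z ∈ Z, ∀ s ∈ S, s * z = z * s := by
    have h := le_center_of_card_prime hS (Z.subgroupOf S)
      (by rw [Nat.card_congr (Subgroup.subgroupOfEquivOfLe hZS).toEquiv]; exact hZcard)
    intro z hz s hs
    exact congrArg Subtype.val (Subgroup.mem_center_iff.mp (h (show (⟨z, hZS hz⟩ : S) ∈ Z.subgroupOf S from hz)) ⟨s, hs⟩)
  suffices hZsc : F.StronglyClosed Z by
    refine isNormal_of_series hS hF 2 (fun i => if i = 0 then ⊥ else if i = 1 then Z else P) (by simp) (by simp)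
      ?_ ?_ ?_
    · intro i j hij
      rcases (show i = 0 ∨ (i = 1 ∧ j = 1) ∨ (i = 1 ∧ 2 ≤ j) ∨ (2 ≤ i ∧ 2 ≤ j) by omega) with
        rfl | ⟨rfl, rfl⟩ | ⟨rfl, hj⟩ | ⟨hi, hj⟩
      · simp
      · exact le_rfl
      · simp [show j ≠ 0 by omega, show j ≠ 1 by omega, hZP]
      · simp [show i ≠ 0 by omega, show i ≠ 1 by omega, show j ≠ 0 by omega, show j ≠ 1 by omega]
    · intro i _
      split_ifs
      · exact stronglyClosed_bot F
      · exact hZsc
      · exact hP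
    · intro i hi
      rcases (show i = 0 ∨ i = 1 by omega) with rfl | rfl
      · show ⁅P, Z⁆ ≤ ⊥
        exact Subgroup.commutator_le.mpr fun w hw z hz =>
          Subgroup.mem_bot.mpr (commutatorElement_eq_one_iff_mul_comm.mpr (hZcen z hz w (hP.1 hw)))
      · exact le_of_eq hZdef.symm
  refine ⟨hZS, fun R hR φ hφ x => ?_⟩
  by_contra hyZ
  have hxZ : (x : Ω) ∈ Z := hR x.2
  have hyP : φ x ∈ P := hP.2 R (hR.trans hZP) φ hφ x
  have hx1 : (x : Ω) ≠ 1 := fun h => hyZ (by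
    rw [show x = 1 from Subtype.ext h, map_one]; exact one_mem Z)
  have hxp : (x : Ω) ^ p = 1 := by
    have h := pow_card_eq_one' (x := (⟨(x : Ω), hxZ⟩ : Z))
    rw [hZcard] at h
    exact congrArg Subtype.val h
  have hxZeq : Subgroup.zpowers (x : Ω) = Z := by
    have : Finite Z := finite_of_le hZS
    refine CfsgLib.Fusion.eq_of_le_of_card_le (Subgroup.zpowers_le.mpr hxZ) ?_
    rw [hZcard, Nat.card_zpowers, orderOf_eq_prime hxp hx1]
  let ζ : P := ⟨x, hZP hxZ⟩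
  let y : P := ⟨φ x, hyP⟩
  have hyp : y ^ p = 1 := Subtype.ext (show (φ x) ^ p = 1 by
    rw [← map_pow]; exact (congrArg φ (Subtype.ext hxp)).trans (map_one φ))
  have hmemζ : ∀ w : P, w ∈ Subgroup.zpowers ζ ↔ (w : Ω) ∈ Z := fun w => by
    rw [← hxZeq]
    exact ⟨fun ⟨i, hi⟩ => ⟨i, by rw [← hi]; exact (Subgroup.coe_zpow P ζ i).symm⟩,
      fun ⟨i, hi⟩ => ⟨i, Subtype.ext ((Subgroup.coe_zpow P ζ i).trans hi)⟩⟩
  -- a map carrying `φ x` to `x`, defined on the centralizer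
  obtain ⟨θ₀, hθ₀, hθ₀r, hθ₀e⟩ := exists_restrict hφ (Subgroup.zpowers_le.mpr x.2) (R := Subgroup.zpowers (x : Ω))
    (Q := Subgroup.zpowers (φ x)) (by
      ext w
      rw [mem_map_subgroupOf]
      constructor
      · rintro ⟨u, ⟨i, hi⟩, rfl⟩
        obtain rfl : x ^ i = u := Subtype.ext (by rw [Subgroup.coe_zpow]; exact hi)
        exact ⟨i, (map_zpow φ x i).symm⟩
      · rintro ⟨i, rfl⟩
        exact ⟨x ^ i, ⟨i, (Subgroup.coe_zpow R x i).symm⟩, map_zpow φ x i⟩)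
  obtain ⟨θ, hθ, hθr, hθe⟩ := exists_inv hθ₀ hθ₀r
  have hxS : Subgroup.zpowers (x : Ω) ≤ S := hxZeq.le.trans hZS
  have hzc : centralizerIn S (Subgroup.zpowers (x : Ω)) = S := by
    refine le_antisymm centralizerIn_le fun s hs => mem_centralizerIn.mpr ⟨hs, fun w hw => ?_⟩
    exact (hZcen w (hxZeq.le hw) s hs).symm
  have hfc : F.IsFullyCentralized (Subgroup.zpowers (x : Ω)) :=
    ⟨hxS, fun Q hQ => by rw [hzc]; exact Subgroup.card_le_of_le centralizerIn_le⟩
  set C₀ := Subgroup.centralizer ({y} : Set P) with hC₀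
  set C := C₀.map P.subtype with hCdef
  have hCmem : ∀ {w : P}, (w : Ω) ∈ C ↔ w * y = y * w := fun {w} => by
    rw [hCdef, ← Subgroup.mem_centralizer_singleton_iff]
    exact ⟨fun ⟨u, hu, he⟩ => (P.subtype_injective he : u = w) ▸ hu, fun h => ⟨w, h, rfl⟩⟩
  have hCP : C ≤ P := Subgroup.map_subtype_le _
  have hCc : C ≤ centralizerIn S (Subgroup.zpowers (φ x)) := fun w hw =>
    mem_centralizerIn.mpr ⟨hP.1 (hCP hw), fun u hu => by
      obtain ⟨i, rfl⟩ := hu
      have h : Commute w (φ x) := congrArg Subtype.val ((hCmem (w := ⟨w, hCP hw⟩)).mp hw)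
      exact (h.zpow_right i).eq.symm⟩
  have hyC : (φ x) ∈ C := (hCmem (w := y)).mpr rfl
  obtain ⟨ψ₀, hψ₀, hψ₀e⟩ := exists_extension (receptive_of_fullyCentralized hS hF hfc) hθ hθr
    (N := centralizerIn S (Subgroup.zpowers (φ x)))
    ((Subgroup.zpowers_le.mpr hyC).trans hCc) centralizerIn_le_extender
  obtain ⟨ψ, hψ, hψe⟩ : ∃ ψ ∈ F.Hom C, ψ ⟨φ x, hyC⟩ = x := by
    refine ⟨_, restrict_mem hCc hψ₀, ?_⟩
    refine Eq.trans (hψ₀e ⟨φ x, Subgroup.mem_zpowers _⟩) ?_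
    refine Eq.trans ?_ (hθe.1 ⟨x, Subgroup.mem_zpowers _⟩ (hθ₀r.le ⟨_, rfl⟩))
    exact apply_eq_of_coe_eq (hθ₀e ⟨x, Subgroup.mem_zpowers _⟩).symm
  have hψP : ∀ w, ψ w ∈ P := hP.2 C hCP ψ hψ
  have hkey : ∀ w : C, (w : Ω) ∈ Z → ψ w ∈ Z → (w : Ω) = 1 := by
    intro w hwZ hψw
    by_contra hne
    obtain ⟨i, hi⟩ := hxZeq.ge hψw
    have hw : (⟨φ x, hyC⟩ : C) ^ i = w := F.injective_of_mem hψ (by rw [map_zpow, hψe]; exact hi)
    have hw' : y ^ i = (⟨w, hCP w.2⟩ : P) := Subtype.ext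
      ((Subgroup.coe_zpow P y i).trans ((Subgroup.coe_zpow C ⟨φ x, hyC⟩ i).symm.trans (congrArg Subtype.val hw)))
    refine hyZ ?_
    have hle : Subgroup.zpowers (y ^ i) ≤ Subgroup.zpowers ζ :=
      Subgroup.zpowers_le.mpr ((hmemζ _).mpr (hw'.symm ▸ hwZ))
    have h1 : y ^ i ≠ 1 := fun h => hne (congrArg Subtype.val (hw'.symm.trans h))
    have hy1 : y ≠ 1 := fun h => h1 (by rw [h, one_zpow])
    have h2 : Subgroup.zpowers (y ^ i) = Subgroup.zpowers y := by
      refine CfsgLib.Fusion.eq_of_le_of_card_le (Subgroup.zpowers_le.mpr (zpow_mem (Subgroup.mem_zpowers y) i)) ?_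
      rw [Nat.card_zpowers, orderOf_eq_prime hyp hy1]
      have h := CfsgLib.Fusion.MaxClass.mul_card_le_of_lt hPp (bot_lt_iff_ne_bot.mpr (Subgroup.zpowers_ne_bot.mpr h1))
      rwa [Subgroup.card_bot, mul_one] at h
    exact (hmemζ y).mp (hle (h2.ge (Subgroup.mem_zpowers y)))
  have hcommZ : ∀ a b : P, ⁅(a : Ω), (b : Ω)⁆ ∈ Z := fun a b => Subgroup.commutator_mem_commutator a.2 b.2
  have hpowZ : ∀ a : P, (a : Ω) ^ p ∈ Z := fun a => hZmap.le
    ⟨a ^ p, hfr.le (CfsgLib.PGroup.pow_mem_frattini hPp a), Subgroup.coe_pow P a p⟩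
  have hcabel : ∀ a b : P, a * y = y * a → b * y = y * b → a * b = b * a := by
    intro a b ha hb
    rw [← commutatorElement_eq_one_iff_mul_comm]
    refine Subtype.ext (hkey ⁅(⟨a, hCmem.mpr ha⟩ : C), ⟨b, hCmem.mpr hb⟩⁆ (hcommZ a b) ?_)
    rw [map_commutatorElement]
    exact Subgroup.commutator_mem_commutator (hψP _) (hψP _)
  have hcexp : ∀ a : P, a * y = y * a → a ^ p = 1 := by
    intro a ha
    refine Subtype.ext (hkey ((⟨a, hCmem.mpr ha⟩ : C) ^ p) (hpowZ a) ?_)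
    rw [map_pow]
    exact hpowZ ⟨_, hψP _⟩
  have hd : CfsgLib.Fusion.GenExtraspecial.Data p ζ y := by
    refine ⟨hPp, Subtype.ext hxp, fun h => hx1 (congrArg Subtype.val h), fun a b => (hmemζ _).mpr (hcommZ a b),
      Subgroup.mem_center_iff.mpr fun w => Subtype.ext (hZcen _ hxZ _ (hP.1 w.2)), fun hy => ?_, hcabel, hcexp⟩
    have hall : ∀ a : P, a * y = y * a := fun a => Subgroup.mem_center_iff.mp hy a
    have : commutator P = ⊥ := eq_bot_iff.mpr (by
      rw [commutator_def, Subgroup.commutator_le]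
      exact fun a _ b _ => Subgroup.mem_bot.mpr (commutatorElement_eq_one_iff_mul_comm.mpr (hcabel a b (hall a) (hall b))))
    rw [this, Subgroup.card_bot] at hcard
    exact hp'.ne_one hcard.symm
  have hFr : frattini P ≤ Subgroup.zpowers ζ := fun w hw => (hmemζ w).mpr (hZmap.le ⟨w, hfr.le hw, rfl⟩)
  by_cases hp2 : p = 2
  · exact h2 hp2 (hd.dihedral hFr hp2)
  by_cases hexp : ∀ w : P, w ^ p = 1
  · exact hodd hp2 (hd.heisenberg hexp)
  push Not at hexp
  obtain ⟨g, hgp⟩ := hexp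
  have hg : g * y ≠ y * g := fun h => hgp (hcexp g h)
  have hoddp : Odd p := hp'.odd_of_ne_two hp2
  have hpmul : ∀ a b : P, (a * b) ^ p = a ^ p * b ^ p := fun a b => by
    refine CfsgLib.PGroup.mul_pow_odd_of_central hoddp (hd.zle (hd.comm b a)) ?_
    obtain ⟨i, hi⟩ := hd.comm b a
    rw [← hi, ← zpow_natCast, zpow_comm, zpow_natCast, hd.zpow, one_zpow]
  have hΩ : ∀ w : P, w ^ p = 1 → w * y = y * w := by
    intro w hw
    by_contra hwy
    let K : Subgroup P := (MonoidHom.mk' (fun u : P => u ^ p) hpmul).ker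
    have hle : Subgroup.centralizer {y} ⊔ Subgroup.zpowers w ≤ K :=
      sup_le (fun u hu => hcexp u (Subgroup.mem_centralizer_singleton_iff.mp hu)) (Subgroup.zpowers_le.mpr hw)
    exact hgp (hle ((hd.sup_eq_top hwy).ge (Subgroup.mem_top g)))
  -- `C` is strongly closed
  have hCS : C ≤ S := hCP.trans hP.1
  have hCsc : F.StronglyClosed C := by
    refine ⟨hCS, fun T hT χ hχ t => ?_⟩
    have ht : χ t ∈ P := hP.2 T (hT.trans hCP) χ hχ t
    refine (hCmem (w := ⟨_, ht⟩)).mpr (hΩ _ (Subtype.ext ?_))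
    show χ t ^ p = 1
    rw [← map_pow]
    refine (congrArg χ (Subtype.ext ?_)).trans (map_one χ)
    have hh : (⟨t, hCP (hT t.2)⟩ : P) ^ p = 1 := hcexp _ (hCmem.mp (hT t.2))
    have hh' := congrArg Subtype.val hh
    rw [Subgroup.coe_pow, OneMemClass.coe_one] at hh'
    rw [Subgroup.coe_pow, OneMemClass.coe_one]
    exact hh'
  have hCfin := finite_of_le hCS
  let : CommGroup C := { (inferInstance : Group C) with
    mul_comm := fun a b => Subtype.ext (congrArg (Subtype.val (p := (· ∈ P)))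
      (hcabel ⟨a, hCP a.2⟩ ⟨b, hCP b.2⟩ (hCmem.mp a.2) (hCmem.mp b.2))) }
  obtain ⟨α, hα, hαe⟩ := exists_aut hψ (range_eq_of_card_le hψ hCS (hCsc.2 C le_rfl ψ hψ) le_rfl)
  let xC : C := ⟨x, (hCmem (w := ζ)).mpr (Subgroup.mem_center_iff.mp hd.zcen y).symm⟩
  have hgS : (g : Ω) ∈ S := hP.1 g.2
  obtain ⟨a, ha, hae⟩ := exists_autInducedBy (K := S) hgS (StronglyClosed.le_normalizer hCsc hgS)
  have hnC : normalizerIn S C = S :=
    le_antisymm normalizerIn_le fun s hs => ⟨hs, StronglyClosed.le_normalizer hCsc hs⟩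
  have hfn : F.IsFullyNormalized C := ⟨hCS, fun Q hQ => by rw [hnC]; exact Subgroup.card_le_of_le normalizerIn_le⟩
  obtain ⟨hauto, hrec⟩ := fullyNormalized_good hS hF hfn
  obtain ⟨-, T, hT⟩ := hauto
  have hTx : ∀ t ∈ T.toSubgroup, (t : MulAut C) xC = xC := fun t ht => by
    obtain ⟨s, hs, hse⟩ := mem_autInducedBy.mp (hT.le ht : (t : MulAut C) ∈ autInducedBy S C)
    refine Subtype.ext ?_
    refine (hse xC).trans ?_
    show s * (x : Ω) * s⁻¹ = x
    rw [hZcen _ hxZ s hs, mul_inv_cancel_right]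
  have hax : a xC = xC := Subtype.ext (by
    rw [hae]
    show (g : Ω) * (x : Ω) * (g : Ω)⁻¹ = x
    rw [hZcen _ hxZ g hgS, mul_inv_cancel_right])
  have hxCmem : ∀ u : C, (u : Ω) ∈ Z → u ∈ Subgroup.zpowers xC := fun u hu => by
    obtain ⟨i, hi⟩ := hxZeq.ge hu
    exact ⟨i, Subtype.ext ((Subgroup.coe_zpow C xC i).trans hi)⟩
  have hacom : ∀ e : C, e⁻¹ * a e ∈ Subgroup.zpowers xC := fun e => hxCmem _ (by
    rw [Subgroup.coe_mul, Subgroup.coe_inv, hae]
    have h := hcommZ (⟨e, hCP e.2⟩ : P)⁻¹ g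
    rw [Subgroup.coe_inv, commutatorElement_def, inv_inv] at h
    simpa [mul_assoc] using h)
  have hox : ∀ u ∈ Subgroup.zpowers xC, u ≠ 1 → Subgroup.zpowers u = Subgroup.zpowers xC := fun u hu hu1 => by
    have hCp : IsPGroup p C := hS.to_le hCS
    refine CfsgLib.Fusion.eq_of_le_of_card_le (Subgroup.zpowers_le.mpr hu) ?_
    rw [Nat.card_zpowers xC, orderOf_eq_prime (Subtype.ext hxp) (fun h => hx1 (congrArg (Subtype.val (p := (· ∈ C))) h))]
    have h := CfsgLib.Fusion.MaxClass.mul_card_le_of_lt hCp (bot_lt_iff_ne_bot.mpr (Subgroup.zpowers_ne_bot.mpr hu1))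
    rwa [Subgroup.card_bot, mul_one] at h
  have hmove : ∃ β ∈ F.autGroup C, a (β xC) ≠ β xC := by
    refine ⟨α⁻¹, Subgroup.inv_mem _ hα, fun h => hg ?_⟩
    have hy : α ⟨φ x, hyC⟩ = xC := Subtype.ext ((hαe _).trans hψe)
    have hy' : α⁻¹ xC = ⟨φ x, hyC⟩ := by rw [← hy, MulAut.inv_apply_self]
    rw [hy'] at h
    have := congrArg (Subtype.val (p := (· ∈ C))) h
    rw [hae, mul_inv_eq_iff_eq_mul] at this
    exact Subtype.ext this
  obtain ⟨γ, hγ, hγa, hγx⟩ := CfsgLib.Fusion.Transvection.exists_inversion_of_sylow (hS.to_le hCS) (F.autGroup C) T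
    (autInducedBy_le_autGroup hCS ha) hTx hax hacom hox hmove
  -- `γ` extends to `P`
  have hPN : P ≤ extender S C (C.subtype.comp γ.toMonoidHom) := by
    have hg' : (g : Ω) ∈ extender S C (C.subtype.comp γ.toMonoidHom) := by
      refine mem_extender.mpr ⟨hgS, (hnC.ge hgS).2, g, hgS, fun e he => ?_⟩
      rw [autMap_apply, autMap_apply, ← hae (γ e), ← hγa]
      exact congrArg (fun u => ((γ u : C) : Ω)) (Subtype.ext (hae e).symm)
    intro w hw
    have hle : Subgroup.centralizer {y} ⊔ Subgroup.zpowers g ≤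
        (extender S C (C.subtype.comp γ.toMonoidHom)).subgroupOf P := by
      refine sup_le (fun u hu => ?_) (Subgroup.zpowers_le.mpr hg')
      exact le_extender hCS (apply_mem_S ((mem_autGroup hCS).mp hγ))
        (hCmem.mpr (Subgroup.mem_centralizer_singleton_iff.mp hu))
    exact hle ((hd.sup_eq_top hg).ge (Subgroup.mem_top (⟨w, hw⟩ : P)))
  obtain ⟨χ, hχ, hχe⟩ := exists_extension hrec ((mem_autGroup hCS).mp hγ) (autMap_range γ) hCP hPN
  let h : P := ⟨χ g, hP.2 P le_rfl χ hχ g⟩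
  have hsame : (g⁻¹ * h) * y = y * (g⁻¹ * h) := by
    obtain ⟨e, he⟩ := γ.surjective ⟨φ x, hyC⟩
    have h1 : χ (g * ⟨e, hCP e.2⟩ * g⁻¹) = (h : Ω) * φ x * (h : Ω)⁻¹ := by
      rw [map_mul, map_mul, map_inv, hχe e, autMap_apply, he]
    have h2 : χ (g * ⟨e, hCP e.2⟩ * g⁻¹) = (g : Ω) * φ x * (g : Ω)⁻¹ := by
      have h3 : g * (⟨e, hCP e.2⟩ : P) * g⁻¹ = ⟨(a e : C), hCP (a e).2⟩ := Subtype.ext (hae e).symm
      rw [h3, hχe (a e), autMap_apply, hγa, he, hae]
    rw [h1] at h2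
    refine Subtype.ext ?_
    show ((g : Ω)⁻¹ * h) * φ x = φ x * ((g : Ω)⁻¹ * h)
    calc ((g : Ω)⁻¹ * h) * φ x = (g : Ω)⁻¹ * ((h : Ω) * φ x * (h : Ω)⁻¹) * h := by group
      _ = (g : Ω)⁻¹ * ((g : Ω) * φ x * (g : Ω)⁻¹) * h := by rw [h2]
      _ = _ := by group
  have hhp : h ^ p = g ^ p := by
    conv_lhs => rw [show h = g * (g⁻¹ * h) by group, hpmul, hcexp _ hsame, mul_one]
  have hgC : (g : Ω) ^ p ∈ C := (hCmem (w := g ^ p)).mpr
    (Subgroup.mem_center_iff.mp (hd.zle ((hmemζ _).mpr (hpowZ g))) y).symm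
  have hχg : (h : Ω) ^ p = ((g : Ω) ^ p)⁻¹ := by
    show χ g ^ p = _
    rw [← map_pow]
    refine Eq.trans (hχe ⟨_, hgC⟩) ?_
    rw [autMap_apply, hγx _ (hxCmem _ (hpowZ g))]
    rfl
  have hfin : (g ^ p) ^ 2 = 1 := by
    have h4 : g ^ p = (g ^ p)⁻¹ := by
      refine Subtype.ext ?_
      calc ((g ^ p : P) : Ω) = ((h ^ p : P) : Ω) := by rw [hhp]
        _ = _ := hχg
    rw [pow_two]; nth_rw 2 [h4]; exact mul_inv_cancel _
  have hfin' : (g ^ p) ^ p = 1 := Subtype.ext (by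
    have := pow_card_eq_one' (x := (⟨_, hpowZ g⟩ : Z))
    rw [hZcard] at this
    have h' := congrArg Subtype.val this
    rw [Subgroup.coe_pow, OneMemClass.coe_one] at h'
    rw [Subgroup.coe_pow, Subgroup.coe_pow, OneMemClass.coe_one]
    exact h')
  have h5 := Nat.dvd_gcd (orderOf_dvd_of_pow_eq_one hfin') (orderOf_dvd_of_pow_eq_one hfin)
  rw [Nat.coprime_two_right.mpr hoddp, Nat.dvd_one, orderOf_eq_one_iff] at h5
  exact hgp h5

end Cfsg.Agent.S5233
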