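import Cfsg.Statements.S5236
import Cfsg.Agent.Lib.Fusion.Normal
import Cfsg.Agent.Lib.OddOrder41.FixOmega
import Mathlib.GroupTheory.SemidirectProduct


set_option autoImplicit false
open Cfsg

namespace Cfsg.Agent.S5236

open CfsgLib.Fusion Cfsg.FusionSystem
open scoped commutatorElement

/-- An automorphism of order prime to an odd `p` fixing the elements of order `p` of an invariant `p`-subgroup
fixes this subgroup. -/
theorem fix_of_fix_omega {X : Type*} [Group X] [Finite X] {p : ℕ} [Fact p.Prime] (hp : p ≠ 2) (b : MulAut X)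
    (hb : (orderOf b).Coprime p) (H : Subgroup X) (hH : IsPGroup p H) (hinv : ∀ x ∈ H, b x ∈ H)
    (hfix : ∀ x ∈ H, x ^ p = 1 → b x = x) : ∀ x ∈ H, b x = x := by
  have : Finite (MulAut X) := Finite.of_injective (fun f : MulAut X => (f : X → X)) DFunLike.coe_injective
  let G := X ⋊[MonoidHom.id (MulAut X)] MulAut X
  have : Finite G := Finite.of_equiv _ SemidirectProduct.equivProd.symm
  let a : G := SemidirectProduct.inr b
  have key : ∀ x : X, a * SemidirectProduct.inl x * a⁻¹ = SemidirectProduct.inl (b x) := fun x => by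
    rw [← map_inv]; exact (SemidirectProduct.inl_aut b x).symm
  have hcomm : ∀ x : X, a * SemidirectProduct.inl x = SemidirectProduct.inl x * a ↔ b x = x := fun x => by
    rw [← mul_inv_eq_iff_eq_mul, key, SemidirectProduct.inl_inj]
  intro x hx
  refine (hcomm x).mp (CfsgLib.OddOrder41.fixes_of_fixes_exponent_p hp a ?_ _ (H.map SemidirectProduct.inl) rfl
    (hH.map _) ?_ ?_ _ ⟨x, hx, rfl⟩)
  · rw [orderOf_injective _ SemidirectProduct.inr_injective]; exact hb
  · rintro _ ⟨y, hy, rfl⟩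
    exact ⟨b y, hinv y hy, (key y).symm⟩
  · rintro _ ⟨y, hy, rfl⟩ hyp
    rw [← map_pow, ← map_one (SemidirectProduct.inl : X →* G), SemidirectProduct.inl_inj] at hyp
    exact (hcomm y).mpr (hfix y hy hyp)

/-- A coprime automorphism trivial on a subgroup and on the cosets of it is trivial. -/
theorem fix_of_step {X : Type*} [Group X] [Finite X] {p : ℕ} [Fact p.Prime] (hX : IsPGroup p X) (b : MulAut X)
    (hb : (orderOf b).Coprime p) {x : X} (h : b (x⁻¹ * b x) = x⁻¹ * b x) : b x = x := by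
  have hj : ∀ j : ℕ, (b ^ j) x = x * (x⁻¹ * b x) ^ j := by
    intro j
    induction j with
    | zero => simp
    | succ j ih => rw [pow_succ', MulAut.mul_apply, ih, map_mul, map_pow, h, pow_succ', ← mul_assoc,
        mul_inv_cancel_left]
  have h1 : x⁻¹ * b x = 1 := by
    have h2 := hj (orderOf b)
    rw [pow_orderOf_eq_one] at h2
    have h3 : (x⁻¹ * b x) ^ orderOf b = 1 := mul_left_cancel (a := x) (by rw [mul_one]; exact h2.symm)
    obtain ⟨k, hk⟩ := hX (x⁻¹ * b x)
    have h4 := Nat.dvd_gcd (orderOf_dvd_of_pow_eq_one h3) (orderOf_dvd_of_pow_eq_one hk)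
    rw [(Nat.Coprime.pow_right k hb).gcd_eq_one, Nat.dvd_one, orderOf_eq_one_iff] at h4
    exact h4
  exact inv_mul_eq_one.mp h1 |>.symm

theorem le_centric_radical {Ω : Type*} [Group Ω] {S : Subgroup Ω} [Finite S] {p : ℕ} [Fact p.Prime] (hp : p ≠ 2)
    (hS : IsPGroup p S) {F : Cfsg.FusionSystem S} {P X : Subgroup Ω} (hP : F.StronglyClosed P) (L : ℕ → Subgroup Ω)
    (n : ℕ) (h0 : L 0 = ⊥) (hn : L n = Cfsg.omegaOne p P) (hmono : Monotone L)
    (hsc : ∀ i ≤ n, F.StronglyClosed (L i))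
    (hcomm : ∀ i < n, ⁅L (i + 1), P⁆ ≤ L i) (hc : F.IsCentric X) (hr : F.IsRadical p X) : P ≤ X := by
  have := finite_of_le hc.1
  let M : ℕ → Subgroup X := fun i => if i ≤ n then (L i).subgroupOf X else ⊤
  have hMle : ∀ {i}, i ≤ n → M i = (L i).subgroupOf X := fun h => if_pos h
  have hinv : ∀ i ≤ n, ∀ a ∈ F.autGroup X, ∀ x ∈ M i, a x ∈ M i := by
    intro i hi a ha x hx
    rw [hMle hi] at hx ⊢
    exact StronglyClosed.aut_mem (hsc i hi) hc.1 ha x hx
  let M' : ℕ → Subgroup X := fun i => if i = 0 then P.subgroupOf X else ⊤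
  have hinv' : ∀ i ≤ 1, ∀ a ∈ F.autGroup X, ∀ x ∈ M' i, a x ∈ M' i := by
    intro i hi a ha x hx
    rcases (show i = 0 ∨ i = 1 by omega) with rfl | rfl
    · exact StronglyClosed.aut_mem hP hc.1 ha x hx
    · exact Subgroup.mem_top _
  refine le_of_centric_radical hS hc hr hP.1 (StronglyClosed.le_normalizer hP)
    (A := seriesStabilizer F X n M hinv ⊓ seriesStabilizer F X 1 M' hinv') (fun a ha => ha.1.1) ?_
    (fun a ha b hb => ⟨seriesStabilizer_conj_mem ha.1 hb, seriesStabilizer_conj_mem ha.2 hb⟩) ?_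
  · have : Finite (MulAut X) := finite_mulAut hc.1
    rintro ⟨a, ha⟩
    obtain ⟨k, m, hm, hkm⟩ := Nat.exists_eq_pow_mul_and_not_dvd (orderOf_pos a).ne' p (Fact.out : p.Prime).ne_one
    refine ⟨k, Subtype.ext ?_⟩
    show a ^ p ^ k = 1
    have hb : (orderOf (a ^ p ^ k)).Coprime p := by
      refine Nat.Coprime.coprime_dvd_left (orderOf_dvd_of_pow_eq_one (n := m) ?_)
        (((Fact.out : p.Prime).coprime_iff_not_dvd.mpr hm).symm)
      rw [← pow_mul, ← hkm, pow_orderOf_eq_one]
    obtain ⟨hb1, hb2⟩ := pow_mem ha (p ^ k)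
    set b := a ^ p ^ k
    have hfixM : ∀ i ≤ n, ∀ x ∈ M i, b x = x := by
      intro i
      induction i with
      | zero =>
        intro _ x hx
        rw [hMle (Nat.zero_le _), h0] at hx
        rw [show x = 1 from Subtype.ext (Subgroup.mem_bot.mp hx), map_one]
      | succ i ih =>
        intro hi x hx
        exact fix_of_step (hS.to_le hc.1) b hb (ih (by omega) _ (hb1.2 i (by omega) x hx))
    have hfixP : ∀ x ∈ P.subgroupOf X, b x = x := by
      refine fix_of_fix_omega hp b hb _ ((hS.to_le hc.1).to_subgroup _)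
        (fun x hx => StronglyClosed.aut_mem hP hc.1 hb1.1 x hx) fun x hx hxp => hfixM n le_rfl x ?_
      rw [hMle le_rfl, hn]
      exact Subgroup.subset_closure ⟨hx, congrArg Subtype.val hxp⟩
    exact MulEquiv.ext fun x => fix_of_step (hS.to_le hc.1) b hb
      (hfixP _ (hb2.2 0 one_pos x (Subgroup.mem_top _)))
  · intro q hq a ha
    have haF := autInducedBy_le_autGroup (F := F) hc.1 (mem_autInducedBy.mpr ⟨q, hP.1 hq, ha⟩)
    have key : ∀ (x : X) (A : Subgroup Ω), ⁅q, (x : Ω)⁆ ∈ A → S ≤ Subgroup.normalizer (A : Set Ω) →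
        (x : Ω)⁻¹ * (q * x * q⁻¹) ∈ A := by
      intro x A hA hAn
      have h1 := (Subgroup.mem_normalizer_iff''.mp (hAn (hc.1 x.2)) _).mp hA
      have h3 : (x : Ω)⁻¹ * ⁅q, (x : Ω)⁆ * x = (x : Ω)⁻¹ * (q * x * q⁻¹) := by
        rw [commutatorElement_def]; group
      rwa [h3] at h1
    refine ⟨⟨haF, fun i hi x hx => ?_⟩, haF, fun i hi x hx => ?_⟩
    · rw [hMle (by omega), Subgroup.mem_subgroupOf] at hx
      rw [hMle (by omega), Subgroup.mem_subgroupOf, Subgroup.coe_mul, Subgroup.coe_inv, ha]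
      refine key x _ ?_ (StronglyClosed.le_normalizer (hsc i (by omega)))
      rw [← commutatorElement_inv]
      exact inv_mem (hcomm i hi (Subgroup.commutator_mem_commutator hx hq))
    · obtain rfl : i = 0 := by omega
      show ((x⁻¹ * a x : X) : Ω) ∈ P
      rw [Subgroup.coe_mul, Subgroup.coe_inv, ha]
      refine key x _ ?_ (StronglyClosed.le_normalizer hP)
      have h1 := (Subgroup.mem_normalizer_iff.mp ((StronglyClosed.le_normalizer hP) (hc.1 x.2)) _).mp (P.inv_mem hq)
      have h2 := P.mul_mem hq h1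
      rw [commutatorElement_def]
      simpa [mul_assoc] using h2

theorem stronglyClosed_inf {Ω : Type*} [Group Ω] {S : Subgroup Ω} {F : Cfsg.FusionSystem S} {A B : Subgroup Ω}
    (hA : F.StronglyClosed A) (hB : F.StronglyClosed B) : F.StronglyClosed (A ⊓ B) :=
  ⟨inf_le_left.trans hA.1, fun R hR φ hφ x =>
    ⟨hA.2 R (hR.trans inf_le_left) φ hφ x, hB.2 R (hR.trans inf_le_right) φ hφ x⟩⟩

theorem stronglyClosed_omega {Ω : Type*} [Group Ω] {S : Subgroup Ω} {F : Cfsg.FusionSystem S} (p : ℕ)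
    {P : Subgroup Ω} (hP : F.IsNormal P) : F.StronglyClosed (Cfsg.omegaOne p P) := by
  have hle : Cfsg.omegaOne p P ≤ P := (Subgroup.closure_le P).mpr fun x hx => hx.1
  refine ⟨hle.trans hP.1, fun R hR φ hφ x => ?_⟩
  obtain ⟨ψ, hψ, hψe, hψP⟩ := IsNormal.exists_ext hP hφ
  have hle2 : Cfsg.omegaOne p P ≤ ((Cfsg.omegaOne p P).comap ψ).map (R ⊔ P).subtype := by
    refine (Subgroup.closure_le _).mpr fun y hy => ⟨⟨y, Subgroup.mem_sup_right hy.1⟩, ?_, rfl⟩
    refine Subgroup.subset_closure ⟨hψP y hy.1, ?_⟩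
    rw [← map_pow]
    exact (congrArg ψ (Subtype.ext hy.2)).trans (map_one ψ)
  obtain ⟨z, hz, hzx⟩ := hle2 (hR x.2)
  rw [← hψe x]
  obtain rfl : z = ⟨x, Subgroup.mem_sup_left x.2⟩ := Subtype.ext hzx
  exact hz

/-- Let p be an odd prime, F a saturated fusion system over a finite p-group S and P a subgroup of S strongly closed in F. Then P is normal in F if and only if Ω₁(P) (the subgroup generated by the elements of order p of P) has a chain of subgroups 1 = Q₀ ≤ Q₁ ≤ ⋯ ≤ Qₙ = Ω₁(P), each strongly closed in F, with [Qᵢ₊₁, P] ≤ Qᵢ for all i. -/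
theorem result {Ω : Type*} [Group Ω] {S : Subgroup Ω} [Finite S] (p : ℕ) [Fact p.Prime] (hS : IsPGroup p S) (F : Cfsg.FusionSystem S) (hF : F.IsSaturated p) (hp : p ≠ 2) (P : Subgroup Ω) (hP : F.StronglyClosed P) : F.IsNormal P ↔ ∃ (n : ℕ) (Q : Fin (n + 1) → Subgroup Ω), Q 0 = ⊥ ∧ Q (Fin.last n) = Cfsg.omegaOne p P ∧ Monotone Q ∧ (∀ i : Fin (n + 1), F.StronglyClosed (Q i)) ∧ ∀ i : Fin n, ⁅Q i.succ, P⁆ ≤ Q i.castSucc := by
  constructor
  · intro h
    obtain ⟨n, C, h0, hn, hm, hC⟩ := (isNormal_iff_series hS hF).mp h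
    have hΩ := stronglyClosed_omega p h
    have hle : Cfsg.omegaOne p P ≤ P := (Subgroup.closure_le P).mpr fun x hx => hx.1
    refine ⟨n, fun i => C i ⊓ Cfsg.omegaOne p P, (congrArg (· ⊓ _) h0).trans (bot_inf_eq _), ?_,
      fun i j hij => inf_le_inf_right _ (hm hij), fun i => ?_, fun i => ?_⟩
    · exact (congrArg (· ⊓ _) hn).trans (inf_eq_right.mpr hle)
    · refine stronglyClosed_inf ?_ hΩ
      rcases i.eq_zero_or_eq_succ with rfl | ⟨j, rfl⟩
      · exact h0.symm ▸ stronglyClosed_bot F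
      · exact (hC j).1
    · refine le_inf ((Subgroup.commutator_mono inf_le_left le_rfl).trans
        (by rw [Subgroup.commutator_comm]; exact (hC i).2)) ?_
      refine (Subgroup.commutator_mono inf_le_right le_rfl).trans ?_
      rw [Subgroup.commutator_le]
      intro x hx q hq
      have hN := StronglyClosed.le_normalizer hΩ (hP.1 hq)
      have h1 := (Subgroup.mem_normalizer_iff.mp hN x⁻¹).mp (inv_mem hx)
      have h2 := mul_mem hx h1
      rw [commutatorElement_def]
      simpa [mul_assoc] using h2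
  · rintro ⟨n, Q, h0, hn, hm, hsc, hcomm⟩
    refine (isNormal_iff_stronglyClosed_le hS hF).mpr ⟨hP, fun X hc hr => ?_⟩
    refine le_centric_radical hp hS hP (fun i => Q ⟨min i n, by omega⟩) n ?_ ?_ ?_ (fun i _ => hsc _) ?_ hc hr
    · simpa using h0
    · simpa [Fin.last] using hn
    · intro i j hij
      exact hm (Fin.mk_le_mk.mpr (min_le_min hij le_rfl))
    · intro i hi
      have e : (⟨min (i + 1) n, by omega⟩ : Fin (n + 1)) = (⟨i, hi⟩ : Fin n).succ :=
        Fin.ext (show min (i + 1) n = i + 1 by omega)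
      have e' : (⟨min i n, by omega⟩ : Fin (n + 1)) = Fin.castSucc (⟨i, hi⟩ : Fin n) :=
        Fin.ext (show min i n = i by omega)
      rw [e, e']; exact hcomm _

end Cfsg.Agent.S5236
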