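import Cfsg.Statements.S5234
import Cfsg.Agent.Lib.Fusion.Normal
import Cfsg.Agent.Lib.Fusion.MaxClass
import Cfsg.Agent.Lib.Fusion.Inversion
import Cfsg.Agent.Lib.OddOrder.PuigSeries
import Cfsg.Agent.Lib.OddOrder41.MetacyclicAction
import Cfsg.Agent.S5236


set_option autoImplicit false
open Cfsg

namespace Cfsg.Agent.S5234

open CfsgLib.Fusion Cfsg.FusionSystem
open scoped commutatorElement

/-- A normal subgroup of order at most `p ^ 2` of a `p`-group has its commutator with the group in the centre. -/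
theorem commutator_mem_center {G : Type*} [Group G] [Finite G] {p : ℕ} [Fact p.Prime] (hG : IsPGroup p G)
    (E : Subgroup G) [E.Normal] (hE : Nat.card E ≤ p ^ 2) : ⁅E, (⊤ : Subgroup G)⁆ ≤ E ⊓ Subgroup.center G := by
  have : Group.IsNilpotent G := hG.isNilpotent
  rcases eq_or_ne ⁅E, (⊤ : Subgroup G)⁆ ⊥ with h | h
  · rw [h]; exact bot_le
  have hlt : ⁅E, (⊤ : Subgroup G)⁆ < E := by
    refine lt_of_le_of_ne (Subgroup.commutator_le_left _ _) fun he => ?_
    obtain ⟨n, hn⟩ := Subgroup.nilpotent_iff_lowerCentralSeries.mp ‹Group.IsNilpotent G›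
    have hle : ∀ k, E ≤ (⊤ : Subgroup G).lowerCentralSeries k := by
      intro k
      induction k with
      | zero => exact le_top
      | succ k ih => exact he.ge.trans (Subgroup.commutator_mono ih le_rfl)
    exact h (he.trans (eq_bot_iff.mpr ((hle n).trans hn.le)))
  have h1 := CfsgLib.Fusion.MaxClass.mul_card_le_of_lt hG hlt
  have h2 := CfsgLib.OddOrder.PuigSeries.inf_center_ne_bot ⁅E, (⊤ : Subgroup G)⁆ h
  have h3 := CfsgLib.Fusion.MaxClass.mul_card_le_of_lt hG (bot_lt_iff_ne_bot.mpr h2)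
  rw [Subgroup.card_bot, mul_one] at h3
  refine le_inf hlt.le ((CfsgLib.Fusion.eq_of_le_of_card_le (inf_le_right (a := Subgroup.center G))
    (le_trans ?_ h3)).ge.trans inf_le_left)
  exact Nat.le_of_mul_le_mul_left (h1.trans (hE.trans (le_of_eq (pow_two p)))) (Fact.out : p.Prime).pos

/-- Let p be an odd prime, F a saturated fusion system over a finite p-group S and P a metacyclic subgroup of S strongly closed in F. Then P is normal in F. -/
theorem result {Ω : Type*} [Group Ω] {S : Subgroup Ω} [Finite S] (p : ℕ) [Fact p.Prime] (hS : IsPGroup p S) (F : Cfsg.FusionSystem S) (hF : F.IsSaturated p) (P : Subgroup Ω) (hP : F.StronglyClosed P) (hp : p ≠ 2) (hm : Cfsg.IsMetacyclic ↥P) : F.IsNormal P := by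
  have hp' : p.Prime := Fact.out
  have := finite_of_le hP.1
  obtain ⟨E₀, ⟨hE0c, hE0p⟩, hE0card, hE0Ω⟩ := CfsgLib.OddOrder41.metacyclic_omega hp (hS.to_le hP.1) hm
  set E := E₀.map P.subtype with hEdef
  have hEP : E ≤ P := Subgroup.map_subtype_le _
  have hEcard : Nat.card E ≤ p ^ 2 := by
    rw [hEdef, Subgroup.card_map_of_injective P.subtype_injective]; exact hE0card
  have hEexp : ∀ e ∈ E, e ^ p = 1 := by
    rintro _ ⟨e, he, rfl⟩
    rw [← map_pow, hE0p e he, map_one]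
  have hEmem : ∀ x ∈ P, x ^ p = 1 → x ∈ E := fun x hx hxp =>
    ⟨⟨x, hx⟩, hE0Ω _ (Subtype.ext hxp), rfl⟩
  have hEcomm : ∀ e ∈ E, ∀ f ∈ E, e * f = f * e := by
    rintro _ ⟨e, he, rfl⟩ _ ⟨f, hf, rfl⟩
    have := hE0c
    rw [← map_mul, ← map_mul]
    exact congrArg _ (congrArg Subtype.val (this.is_comm.comm (⟨e, he⟩ : E₀) ⟨f, hf⟩))
  have homega : Cfsg.omegaOne p P = E :=
    le_antisymm ((Subgroup.closure_le E).mpr fun x hx => hEmem x hx.1 hx.2)
      fun e he => Subgroup.subset_closure ⟨hEP he, hEexp e he⟩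
  have hEsc : F.StronglyClosed E := by
    refine ⟨hEP.trans hP.1, fun R hR φ hφ x => hEmem _ (hP.2 R (hR.trans hEP) φ hφ x) ?_⟩
    rw [← map_pow]
    exact (congrArg φ (Subtype.ext (hEexp _ (hR x.2)))).trans (map_one φ)
  have hES : E ≤ S := hEsc.1
  refine (S5236.result p hS F hF hp P hP).mpr ?_
  rw [homega]
  by_cases hcen : ⁅E, P⁆ = ⊥
  · refine ⟨1, ![⊥, E], rfl, rfl, ?_, ?_, ?_⟩
    · intro i j hij
      fin_cases i <;> fin_cases j <;> first | exact le_rfl | exact bot_le | exact absurd hij (by decide)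
    · intro i; fin_cases i
      · exact stronglyClosed_bot F
      · exact hEsc
    · intro i; fin_cases i; exact hcen.le
  have hEn : (E.subgroupOf S).Normal := ⟨fun n hn g => (Subgroup.mem_normalizer_iff.mp
    (StronglyClosed.le_normalizer hEsc g.2) _).mp hn⟩
  have hcomm := commutator_mem_center hS (E.subgroupOf S)
    (by rw [Nat.card_congr (Subgroup.subgroupOfEquivOfLe hES).toEquiv]; exact hEcard)
  set Z := (E.subgroupOf S ⊓ Subgroup.center S).map S.subtype with hZdef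
  have hZE : Z ≤ E := by rintro _ ⟨z, hz, rfl⟩; exact hz.1
  have hEZ : ∀ e ∈ E, ∀ g ∈ S, ⁅e, g⁆ ∈ Z := fun e he g hg =>
    ⟨⁅(⟨e, hES he⟩ : S), (⟨g, hg⟩ : S)⁆, hcomm (Subgroup.commutator_mem_commutator he (Subgroup.mem_top _)), rfl⟩
  have hZS : ∀ z ∈ Z, ∀ g ∈ S, g * z = z * g := by
    rintro _ ⟨z, hz, rfl⟩ g hg
    exact congrArg Subtype.val (Subgroup.mem_center_iff.mp hz.2 ⟨g, hg⟩)
  obtain ⟨e₀, he₀, g, hg, hne⟩ : ∃ e ∈ E, ∃ g ∈ P, ⁅e, g⁆ ≠ 1 := by
    by_contra h
    push Not at h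
    exact hcen (eq_bot_iff.mpr (Subgroup.commutator_le.mpr fun e he g hg => Subgroup.mem_bot.mpr (h e he g hg)))
  suffices hZsc : F.StronglyClosed Z by
    refine ⟨2, ![⊥, Z, E], rfl, rfl, ?_, ?_, ?_⟩
    · intro i j hij
      fin_cases i <;> fin_cases j <;> first | exact le_rfl | exact bot_le | exact hZE | exact absurd hij (by decide)
    · intro i; fin_cases i
      · exact stronglyClosed_bot F
      · exact hZsc
      · exact hEsc
    · intro i; fin_cases i
      · show ⁅Z, P⁆ ≤ ⊥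
        refine Subgroup.commutator_le.mpr fun z hz g hg => Subgroup.mem_bot.mpr ?_
        exact commutatorElement_eq_one_iff_mul_comm.mpr (hZS z hz g (hP.1 hg)).symm
      · exact Subgroup.commutator_le.mpr fun e he g hg => hEZ e he g (hP.1 hg)
  refine ⟨hZE.trans hES, fun R hR φ hφ x => ?_⟩
  by_contra hyZ
  have hxZ : (x : Ω) ∈ Z := hR x.2
  have hyE : φ x ∈ E := hEsc.2 R (hR.trans hZE) φ hφ x
  have hEfin := finite_of_le hES
  let : CommGroup E := { (inferInstance : Group E) with mul_comm := fun a b => Subtype.ext (hEcomm a a.2 b b.2) }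
  let xE : E := ⟨x, hZE hxZ⟩
  let yE : E := ⟨φ x, hyE⟩
  have hEp : IsPGroup p E := hS.to_le hES
  have hEcard2 : ∀ H : Subgroup E, H ≠ ⊥ → p ≤ Nat.card H := fun H hH => by
    have h := CfsgLib.Fusion.MaxClass.mul_card_le_of_lt hEp (bot_lt_iff_ne_bot.mpr hH)
    rwa [Subgroup.card_bot, mul_one] at h
  have hx1 : xE ≠ 1 := fun h => hyZ (by
    rw [show x = 1 from Subtype.ext (congrArg (Subtype.val (p := (· ∈ E))) h), map_one]; exact one_mem Z)
  have hyx : yE ∉ Subgroup.zpowers xE := by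
    rintro ⟨i, hi⟩
    refine hyZ ?_
    show (yE : Ω) ∈ Z
    rw [← hi]
    exact zpow_mem hxZ i
  have hxy : Subgroup.zpowers xE < Subgroup.zpowers xE ⊔ Subgroup.zpowers yE :=
    lt_of_le_of_ne le_sup_left fun e => hyx (e.ge (Subgroup.mem_sup_right (Subgroup.mem_zpowers _)))
  have hxcard : p ≤ Nat.card (Subgroup.zpowers xE) := hEcard2 _ (Subgroup.zpowers_ne_bot.mpr hx1)
  have hgen : Subgroup.zpowers xE ⊔ Subgroup.zpowers yE = ⊤ := by
    refine CfsgLib.Fusion.eq_of_le_of_card_le le_top ?_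
    rw [Subgroup.card_top]
    have h := CfsgLib.Fusion.MaxClass.mul_card_le_of_lt hEp hxy
    calc Nat.card E ≤ p * p := hEcard.trans (le_of_eq (pow_two p))
      _ ≤ p * Nat.card (Subgroup.zpowers xE) := Nat.mul_le_mul_left _ hxcard
      _ ≤ _ := h
  have hZx : ∀ e : E, (e : Ω) ∈ Z → e ∈ Subgroup.zpowers xE := by
    have hlt : Z.subgroupOf E < ⊤ := lt_top_iff_ne_top.mpr fun h => hyZ (h.ge (Subgroup.mem_top yE))
    have h := CfsgLib.Fusion.MaxClass.mul_card_le_of_lt hEp hlt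
    rw [Subgroup.card_top] at h
    have h' := Nat.le_of_mul_le_mul_left (h.trans (hEcard.trans (le_of_eq (pow_two p)))) hp'.pos
    intro e he
    exact (CfsgLib.Fusion.eq_of_le_of_card_le (P := Subgroup.zpowers xE) (Q := Z.subgroupOf E)
      (Subgroup.zpowers_le.mpr hxZ) (h'.trans hxcard)).ge he
  -- an automorphism of `E` carrying `φ x` to `x`
  have hyS : Subgroup.zpowers (φ x) ≤ S := Subgroup.zpowers_le.mpr (hES hyE)
  obtain ⟨θ₀, hθ₀, hθ₀r, hθ₀e⟩ := exists_restrict hφ (Subgroup.zpowers_le.mpr x.2) (R := Subgroup.zpowers (x : Ω))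
    (Q := Subgroup.zpowers (φ x)) (by
      ext w
      rw [mem_map_subgroupOf]
      constructor
      · rintro ⟨u, ⟨i, hi⟩, rfl⟩
        obtain rfl : x ^ i = u := Subtype.ext (by rw [Subgroup.coe_zpow]; exact hi)
        exact ⟨i, (map_zpow φ x i).symm⟩
      · rintro ⟨i, rfl⟩
        exact ⟨x ^ i, ⟨i, (Subgroup.coe_zpow R x i).symm⟩, map_zpow φ x i⟩)
  obtain ⟨θ, hθ, hθr, hθe⟩ := exists_inv hθ₀ hθ₀r
  have hzS : Subgroup.zpowers (x : Ω) ≤ S := Subgroup.zpowers_le.mpr (hES (hZE hxZ))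
  have hzc : centralizerIn S (Subgroup.zpowers (x : Ω)) = S := by
    refine le_antisymm centralizerIn_le fun s hs => mem_centralizerIn.mpr ⟨hs, fun w hw => ?_⟩
    exact (hZS w ((Subgroup.zpowers_le.mpr hxZ) hw) s hs).symm
  have hfc : F.IsFullyCentralized (Subgroup.zpowers (x : Ω)) :=
    ⟨hzS, fun Q hQ => by rw [hzc]; exact Subgroup.card_le_of_le centralizerIn_le⟩
  have hC : E ≤ centralizerIn S (Subgroup.zpowers (φ x)) := fun e he =>
    mem_centralizerIn.mpr ⟨hES he, fun w hw => hEcomm w (Subgroup.zpowers_le.mpr hyE hw) e he⟩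
  obtain ⟨ψ, hψ, hψe⟩ := exists_extension (receptive_of_fullyCentralized hS hF hfc) hθ hθr
    (N := centralizerIn S (Subgroup.zpowers (φ x)))
    ((Subgroup.zpowers_le.mpr hyE).trans hC) centralizerIn_le_extender
  have hψE := restrict_mem hC hψ
  obtain ⟨α, hα, hαe⟩ := exists_aut hψE (range_eq_of_card_le hψE hES (hEsc.2 E le_rfl _ hψE) le_rfl)
  have hαy : α yE = xE := by
    refine Subtype.ext ?_
    rw [hαe]
    show ψ (Subgroup.inclusion hC yE) = _
    have h1 := hψe ⟨φ x, Subgroup.mem_zpowers _⟩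
    refine Eq.trans h1 ?_
    have h2 := hθe.1 ⟨x, Subgroup.mem_zpowers _⟩ (hθ₀r.le ⟨_, rfl⟩)
    refine Eq.trans ?_ h2
    exact apply_eq_of_coe_eq (hθ₀e ⟨x, Subgroup.mem_zpowers _⟩).symm
  obtain ⟨a, ha, hae⟩ := exists_autInducedBy (K := S) (hP.1 hg)
    (StronglyClosed.le_normalizer hEsc (hP.1 hg))
  obtain ⟨γ, hγ, hγe⟩ := CfsgLib.Fusion.Inversion.exists_inversion (F.autGroup E)
    (autInducedBy_le_autGroup hES ha) hα hgen
    (Subtype.ext (by
      rw [hae]; show g * (x : Ω) * g⁻¹ = x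
      rw [hZS _ hxZ g (hP.1 hg), mul_inv_cancel_right]))
    (by
      intro h
      have := hae ⟨e₀, he₀⟩
      rw [h] at this
      refine hne (commutatorElement_eq_one_iff_mul_comm.mpr ?_)
      exact (mul_inv_eq_iff_eq_mul.mp this.symm).symm)
    (fun e => hZx _ (by
      rw [Subgroup.coe_mul, Subgroup.coe_inv, hae]
      have h := hEZ _ (E.inv_mem e.2) g (hP.1 hg)
      rw [commutatorElement_def, inv_inv] at h
      simpa [mul_assoc] using h))
    hαy
    (fun u hu hu1 => CfsgLib.Fusion.eq_of_le_of_card_le (Subgroup.zpowers_le.mpr hu) (by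
      have hle : Subgroup.zpowers xE ≤ Z.subgroupOf E := Subgroup.zpowers_le.mpr hxZ
      have hlt : Z.subgroupOf E < ⊤ := lt_top_iff_ne_top.mpr fun h => hyZ (h.ge (Subgroup.mem_top yE))
      have h := CfsgLib.Fusion.MaxClass.mul_card_le_of_lt hEp hlt
      rw [Subgroup.card_top] at h
      have h' := Nat.le_of_mul_le_mul_left (h.trans (hEcard.trans (le_of_eq (pow_two p)))) hp'.pos
      exact (Subgroup.card_le_of_le hle).trans (h'.trans (hEcard2 _ (Subgroup.zpowers_ne_bot.mpr hu1)))))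
  -- extend the inversion to `S`
  have hnE : normalizerIn S E = S :=
    le_antisymm normalizerIn_le fun s hs => ⟨hs, StronglyClosed.le_normalizer hEsc hs⟩
  have hfn : F.IsFullyNormalized E := ⟨hES, fun Q hQ => by rw [hnE]; exact Subgroup.card_le_of_le normalizerIn_le⟩
  obtain ⟨χ, hχ, hχe⟩ := exists_extension (fullyNormalized_good hS hF hfn).2 ((mem_autGroup hES).mp hγ)
    (autMap_range γ) hES (N := S) (fun s hs => mem_extender.mpr ⟨hs, (hnE.ge hs).2, s, hs, fun u hu => by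
      rw [autMap_apply, autMap_apply, hγe, hγe, Subgroup.coe_inv, Subgroup.coe_inv]
      group⟩)
  have hχP := restrict_mem hP.1 hχ
  obtain ⟨τ, -, hτe⟩ := exists_aut hχP (range_eq_of_card_le hχP hP.1 (hP.2 P le_rfl _ hχP) le_rfl)
  have hτ : ∀ u : P, u ^ p = 1 → τ u = u⁻¹ := fun u hu => by
    refine Subtype.ext ?_
    have hu' : (u : Ω) ∈ E := hEmem _ u.2 (congrArg Subtype.val hu)
    rw [hτe]
    refine Eq.trans ?_ ((hχe ⟨u, hu'⟩).trans ((autMap_apply γ _).trans (by rw [hγe]; rfl)))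
    rfl
  exact hne (commutatorElement_eq_one_iff_mul_comm.mpr (congrArg Subtype.val
    (CfsgLib.Fusion.Inversion.mul_comm_of_inverts_omega (hS.to_le hP.1) hp τ hτ ⟨e₀, hEP he₀⟩ ⟨g, hg⟩)))

end Cfsg.Agent.S5234
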