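import Cfsg.Statements.S5238
import Cfsg.Agent.Lib.Fusion.Pearl

set_option autoImplicit false
open Cfsg

namespace Cfsg.Agent.S5238

/-- Let p be an odd prime and F a saturated fusion system over a finite p-group S having a pearl: an F-essential subgroup E that is elementary abelian of order p² or nonabelian of order p³. Then S has maximal nilpotency class (if S has order pⁿ with n ≥ 3, the term of index n − 2 of its lower central series, counting S itself as the term of index 0, is nontrivial), and every subgroup of S can be generated by at most p elements (the sectional rank of S is at most p). -/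
theorem result {Ω : Type*} [Group Ω] {S : Subgroup Ω} [Finite S] (p : ℕ) [Fact p.Prime] (hS : IsPGroup p S) (F : Cfsg.FusionSystem S) (hF : F.IsSaturated p) (hp : p ≠ 2) (E : Subgroup Ω) (hE : F.IsEssential p E) (hpearl : (Nat.card E = p ^ 2 ∧ ∀ x ∈ E, x ^ p = 1 ∧ IsMulCommutative ↥E) ∨ (Nat.card E = p ^ 3 ∧ ¬ IsMulCommutative ↥E)) : (∀ n : ℕ, Nat.card S = p ^ n → 3 ≤ n → Subgroup.lowerCentralSeries S (n - 2) ≠ ⊥) ∧ ∀ H : Subgroup Ω, H ≤ S → ∃ T : Finset Ω, T.card ≤ p ∧ Subgroup.closure (T : Set Ω) = H := by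
  obtain ⟨n, hd, -⟩ := CfsgLib.Pearl.data_of_pearl hS hF hp hE hpearl
  obtain ⟨x, -, hx⟩ := hd.setting
  refine ⟨fun m hm _ => ?_, fun H hH => CfsgLib.Pearl.gens_of_subgroup hH (hx.gens _)⟩
  rw [Nat.pow_right_injective (Fact.out : p.Prime).two_le (hm.symm.trans hd.card)]
  exact CfsgLib.Pearl.lcs_ne_bot hx

end Cfsg.Agent.S5238
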