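import Cfsg.Statements.S5239
import Cfsg.Agent.Lib.Fusion.PearlThree
import Cfsg.Agent.Lib.PGroup.MaxClassThreeSmall

set_option autoImplicit false
open Cfsg

namespace Cfsg.Agent.S5239

/-- Let F be a saturated fusion system over a finite 3-group S having a pearl: an F-essential subgroup E that is elementary abelian of order 9 or nonabelian of order 27. Then either S is extraspecial of order 27 and exponent 3, or S has order at least 81 and every subgroup of S can be generated by at most two elements, or S is isomorphic to the wreath product C₃ ≀ C₃ (a Sylow 3-subgroup of the symmetric group of degree 9). -/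
theorem result {Ω : Type*} [Group Ω] {S : Subgroup Ω} [Finite S] (hS : IsPGroup 3 S) (F : Cfsg.FusionSystem S) (hF : F.IsSaturated 3) [Fact (Nat.Prime 3)] (E : Subgroup Ω) (hE : F.IsEssential 3 E) (hpearl : (Nat.card E = 9 ∧ ∀ x ∈ E, x ^ 3 = 1 ∧ IsMulCommutative ↥E) ∨ (Nat.card E = 27 ∧ ¬ IsMulCommutative ↥E)) : (Cfsg.IsExtraspecial 3 ↥S ∧ Nat.card S = 27 ∧ Monoid.exponent ↥S = 3) ∨ (81 ≤ Nat.card S ∧ ∀ H : Subgroup Ω, H ≤ S → ∃ T : Finset Ω, T.card ≤ 2 ∧ Subgroup.closure (T : Set Ω) = H) ∨ (∃ W : Sylow 3 (Equiv.Perm (Fin 9)), Nonempty (↥S ≃* ↥(W : Subgroup (Equiv.Perm (Fin 9))))) := by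
  have hpearl' : (Nat.card E = 3 ^ 2 ∧ ∀ x ∈ E, x ^ 3 = 1 ∧ IsMulCommutative ↥E) ∨
      (Nat.card E = 3 ^ 3 ∧ ¬ IsMulCommutative ↥E) := by
    norm_num
    exact hpearl
  obtain ⟨n, hd, hn4⟩ := CfsgLib.Pearl.data_of_pearl hS hF (by norm_num) hE hpearl'
  obtain ⟨x, -, hx⟩ := hd.setting
  rcases Nat.lt_or_ge n 4 with hlt | hge
  · have hn : n = 3 := by have := hd.three; omega
    subst hn
    have hEc : Nat.card E = 3 ^ 2 := by
      rcases hpearl' with ⟨h, -⟩ | ⟨h, -⟩
      · exact h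
      · have := hn4 h; omega
    obtain ⟨h1, h2, h3⟩ := CfsgLib.Pearl.extraspecial_of_cube hS hF (by norm_num) hE hEc hd
    exact Or.inl ⟨h1, by rw [h2]; norm_num, h3⟩
  · rcases hx.gens_or_wreath hge with hg | hw
    · refine Or.inr (Or.inl ⟨?_, fun H hH => CfsgLib.Pearl.gens_of_subgroup hH (hg _)⟩)
      rw [hd.card]
      exact le_trans (by norm_num) (Nat.pow_le_pow_right (by norm_num) hge)
    · exact Or.inr (Or.inr hw)

end Cfsg.Agent.S5239
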