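import Cfsg.Statements.S5245
import Cfsg.Agent.Lib.Fusion.PAut
import Cfsg.Agent.Lib.Fusion.LocalModel
import Cfsg.Agent.Lib.Fusion.ExtSaturated
import Cfsg.Agent.Lib.Fusion.Realized
import Cfsg.Agent.Lib.Fusion.ModClosed
import Cfsg.Agent.Lib.Fusion.LocalControl
import Cfsg.Agent.S5236
-- import your own Cfsg.Agent.* helpers here

set_option autoImplicit false
open Cfsg

namespace Cfsg.Agent.S5245

open CfsgLib.Fusion Cfsg.FusionSystem

universe u

/-- The system that a group containing a copy of `U` induces on it. -/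
def realSystem {Ω : Type u} [Group Ω] (U : Subgroup Ω) {L : Type u} [Group L] (ι : ↥U →* L)
    (hι : Function.Injective ι) : Cfsg.FusionSystem U where
  Hom P := {φ | P ≤ U ∧ ∃ l : L, ∀ x : P, ∃ (hx : (x : Ω) ∈ U) (hy : φ x ∈ U),
    ι ⟨φ x, hy⟩ = l * ι ⟨x, hx⟩ * l⁻¹}
  le_of_mem := by
    rintro P φ ⟨hP, l, hl⟩
    exact ⟨hP, fun x => (hl x).2.1⟩
  injective_of_mem := by
    rintro P φ ⟨hP, l, hl⟩ a b hab
    obtain ⟨ha, ha', hae⟩ := hl a
    obtain ⟨hb, hb', hbe⟩ := hl b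
    have h : (⟨φ a, ha'⟩ : U) = ⟨φ b, hb'⟩ := Subtype.ext hab
    rw [h, hbe] at hae
    exact Subtype.ext (congrArg Subtype.val (hι (mul_left_cancel (mul_right_cancel hae)))).symm
  conj_mem := by
    intro P g hP hg
    refine ⟨hP, ι ⟨g, hg⟩, fun x => ⟨hP x.2, U.mul_mem (U.mul_mem hg (hP x.2)) (U.inv_mem hg), ?_⟩⟩
    rw [← map_inv, ← map_mul, ← map_mul]
    rfl
  comp_mem := by
    rintro P Q φ ψ ⟨hP, l, hl⟩ ⟨-, k, hk⟩ h
    refine ⟨hP, k * l, fun x => ?_⟩
    obtain ⟨hx, hy, he⟩ := hl x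
    obtain ⟨hx', hy', he'⟩ := hk ⟨φ x, h x⟩
    refine ⟨hx, hy', ?_⟩
    show ι ⟨ψ ⟨φ x, h x⟩, hy'⟩ = _
    rw [he', show (⟨((⟨φ x, h x⟩ : Q) : Ω), hx'⟩ : U) = ⟨φ x, hy⟩ from rfl, he, mul_inv_rev]
    simp only [mul_assoc]
  inv_mem := by
    rintro P φ ⟨hP, l, hl⟩
    have hinj : Function.Injective φ := fun a b hab => by
      obtain ⟨ha, ha', hae⟩ := hl a
      obtain ⟨hb, hb', hbe⟩ := hl b
      have h : (⟨φ a, ha'⟩ : U) = ⟨φ b, hb'⟩ := Subtype.ext hab
      rw [h, hbe] at hae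
      exact Subtype.ext (congrArg Subtype.val (hι (mul_left_cancel (mul_right_cancel hae)))).symm
    refine ⟨P.subtype.comp (MonoidHom.ofInjective hinj).symm.toMonoidHom, ⟨?_, l⁻¹, ?_⟩, fun x => ?_⟩
    · rintro _ ⟨x, rfl⟩; exact (hl x).2.1
    · rintro ⟨_, x, rfl⟩
      obtain ⟨hx, hy, he⟩ := hl x
      have hx2 : P.subtype.comp (MonoidHom.ofInjective hinj).symm.toMonoidHom ⟨φ x, x, rfl⟩ = (x : Ω) :=
        congrArg Subtype.val ((MonoidHom.ofInjective hinj).symm_apply_apply x)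
      refine ⟨hy, hx2.symm ▸ hx, ?_⟩
      rw [show (⟨_, hx2.symm ▸ hx⟩ : U) = ⟨(x : Ω), hx⟩ from Subtype.ext hx2]
      rw [show (⟨((⟨φ x, x, rfl⟩ : φ.range) : Ω), hy⟩ : U) = ⟨φ x, hy⟩ from rfl, he]
      group
    · exact congrArg Subtype.val ((MonoidHom.ofInjective hinj).symm_apply_apply x)

/-- An element of prime order different from `p` of the automorphism group is not induced by a `p`-group. -/
theorem not_mem_of_prime_order {A : Type*} [Group A] {p : ℕ} [Fact p.Prime] {B : Subgroup A} (hB : IsPGroup p B) {q : ℕ}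
    (hq : q.Prime) (hqp : q ≠ p) {a : A} (ha : orderOf a = q) : a ∉ B := by
  intro h
  obtain ⟨k, hk⟩ := hB ⟨a, h⟩
  have h1 : orderOf a ∣ p ^ k := orderOf_dvd_of_pow_eq_one (congrArg Subtype.val hk)
  rw [ha] at h1
  exact hqp ((Nat.prime_dvd_prime_iff_eq hq Fact.out).mp (hq.dvd_of_dvd_pow h1))

section
variable {Ω : Type u} [Group Ω] {S : Subgroup Ω} [Finite S] {p : ℕ} [Fact p.Prime] {F : Cfsg.FusionSystem S}

/-- A non-`p`-group of automorphisms makes a subgroup normal and is of the shape inner times prime order. -/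
theorem local_shape (hS : IsPGroup p S) (hF : F.IsSaturated p)
    (hxs : ∀ (T : Subgroup Ω) (E : Cfsg.FusionSystem T), E.IsSaturated p → E.IsSubsystemOf F →
      (T = S ∧ ∀ P : Subgroup Ω, E.Hom P = F.Hom P) ∨
        (∀ P : Subgroup Ω, E.Hom P = (Cfsg.innerFusionSystem T).Hom P))
    {P : Subgroup Ω} (hP : F.IsFullyNormalized P) (hA : ¬ IsPGroup p (F.autGroup P)) :
    F.IsNormal P ∧ ∃ (q : ℕ) (β : MulAut P), q.Prime ∧ q ≠ p ∧ β ∈ F.autGroup P ∧ orderOf β = q ∧
      (∀ g ∈ S, ∃ u ∈ P, ∀ x : P, u * (x : Ω) * u⁻¹ = g * (x : Ω) * g⁻¹) ∧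
      ∀ (X : Subgroup Ω) (φ : X →* Ω), φ ∈ F.Hom X → ∃ ψ ∈ F.Hom (X ⊔ P),
        (∀ x : X, ψ (Subgroup.inclusion le_sup_left x) = φ x) ∧ ∃ κ ∈ Inn P ⊔ Subgroup.zpowers β,
          ∀ x : P, ψ (Subgroup.inclusion le_sup_right x) = ((κ x : P) : Ω) := by
  classical
  have hPS := hP.1
  have hp : p.Prime := Fact.out
  have := finite_of_le hPS
  have := finite_mulAut hPS
  have hPp : IsPGroup p P := hS.to_le hPS
  -- `P` is normal
  obtain ⟨N, hN⟩ := exists_normalizerSystem (F := F) hPS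
  have hNs := normalizerSystem_saturated hS hF hP hN
  have hnormal : F.IsNormal P := by
    rcases hxs _ N hNs (fun Q φ h => ((hN Q).le h).1) with ⟨-, h⟩ | h
    · refine ⟨hPS, fun Q φ hφ => ?_⟩
      obtain ⟨-, -, -, r⟩ := (hN Q).le ((h Q).ge hφ)
      exact r
    · exfalso
      refine hA ((isPGroup_autInducedBy (hS.to_le normalizerIn_le) P).to_le (K := autInducedBy (normalizerIn S P) P) ?_)
      rw [← autGroup_normalizerSystem hPS hN]
      intro a ha
      obtain ⟨-, g, hg, hge⟩ := (h P).le ((mem_autGroup (le_normalizerIn hPS)).mp ha)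
      exact Subgroup.subset_closure ⟨g, hg, hge⟩
  -- an element of prime order
  obtain ⟨q, hq, hqp, hqd⟩ : ∃ q, q.Prime ∧ q ≠ p ∧ q ∣ Nat.card (F.autGroup P) := by
    by_contra hcon
    push Not at hcon
    refine hA (IsPGroup.of_card (n := (Nat.card (F.autGroup P)).factorization p) ?_)
    exact (Nat.eq_prime_pow_of_unique_prime_dvd Nat.card_pos.ne' (fun {d} hd hdd => by
      by_contra hdp; exact hcon d hd hdp hdd)).trans (by
      congr 1
      conv_rhs => rw [Nat.eq_prime_pow_of_unique_prime_dvd (p := p) Nat.card_pos.ne' (fun {d} hd hdd => by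
        by_contra hdp; exact hcon d hd hdp hdd), Nat.factorization_pow_self hp])
  haveI : Fact q.Prime := ⟨hq⟩
  obtain ⟨β0, hβ0⟩ := exists_prime_orderOf_dvd_card' q hqd
  obtain ⟨β, hβd⟩ : ∃ β, β = (β0 : MulAut P) := ⟨_, rfl⟩
  have hβA : β ∈ F.autGroup P := hβd ▸ β0.2
  have hβq : orderOf β = q := by rw [hβd, Subgroup.orderOf_coe]; exact hβ0
  refine ⟨hnormal, q, β, hq, hqp, hβA, hβq, ?_⟩
  set K := Inn P ⊔ Subgroup.zpowers β with hK
  have hInnA : Inn P ≤ F.autGroup P := inn_le_autGroup hPS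
  have hKA : K ≤ F.autGroup P := sup_le hInnA ((Subgroup.zpowers_le).mpr hβA)
  haveI : (Inn P).Normal := innNormal P
  have hInnp : IsPGroup p (Inn P) := inn_eq_autInducedBy (P := P) ▸ isPGroup_autInducedBy hPp P
  have hInnS : Inn P ≤ autInducedBy S P := inn_le_autInducedBy hPS
  let π := QuotientGroup.mk' (Inn P)
  have hker : π.ker = Inn P := QuotientGroup.ker_mk' _
  have hKc : K = (Subgroup.zpowers (π β)).comap π := by
    rw [← MonoidHom.map_zpowers, Subgroup.comap_map_eq, hker, hK, sup_comm]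
  have hπq : (π β) ^ q = 1 := by rw [← map_pow, ← hβq, pow_orderOf_eq_one, map_one]
  have hKS : K ⊓ autInducedBy S P = Inn P := by
    refine le_antisymm (fun a ha => ?_) (le_inf le_sup_left hInnS)
    obtain ⟨k, hk⟩ := isPGroup_autInducedBy hS P ⟨a, ha.2⟩
    have hk' : a ^ p ^ k = 1 := congrArg Subtype.val hk
    obtain ⟨i, hi⟩ := Subgroup.mem_zpowers_iff.mp (hKc.le ha.1)
    rw [← hker, MonoidHom.mem_ker]
    have h1 : orderOf (π a) ∣ p ^ k := orderOf_dvd_of_pow_eq_one (by rw [← map_pow, hk', map_one])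
    have h2 : orderOf (π a) ∣ q := orderOf_dvd_of_pow_eq_one (by
      rw [← hi, ← zpow_natCast, ← zpow_mul, mul_comm, zpow_mul, zpow_natCast, hπq, one_zpow])
    have h3 := Nat.dvd_gcd h1 h2
    rw [(Nat.Coprime.pow_left k ((Nat.coprime_primes hp hq).mpr hqp.symm)).gcd_eq_one, Nat.dvd_one,
      orderOf_eq_one_iff] at h3
    exact h3
  have hcard : Nat.card ↥(K ⊓ autInducedBy S P) = p ^ (Nat.card ↥(K ⊓ F.autGroup P)).factorization p := by
    rw [hKS, inf_eq_left.mpr hKA]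
    have h1 : (Inn P).relIndex K ∣ q := by
      rw [← hker, Subgroup.relIndex_ker]
      have : K.map π = Subgroup.zpowers (π β) := by
        rw [hKc, Subgroup.map_comap_eq_self_of_surjective (QuotientGroup.mk'_surjective _)]
      rw [this]
      show Nat.card (Subgroup.zpowers (π β)) ∣ q
      rw [Nat.card_zpowers]
      exact orderOf_dvd_of_pow_eq_one hπq
    have h2 := Subgroup.relIndex_mul_relIndex ⊥ (Inn P) K bot_le le_sup_left
    rw [Subgroup.relIndex_bot_left, Subgroup.relIndex_bot_left] at h2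
    obtain ⟨m, hm⟩ := IsPGroup.iff_card.mp hInnp
    have h3 : ((Inn P).relIndex K).factorization p = 0 := Nat.factorization_eq_zero_of_not_dvd fun h =>
      hqp ((Nat.prime_dvd_prime_iff_eq hp hq).mp (h.trans h1)).symm
    rw [← h2, hm, Nat.factorization_mul (pow_pos hp.pos m).ne' (fun h => by
      rw [h] at h2; simp at h2; exact Nat.card_pos.ne' h2.symm), Finsupp.add_apply, h3,
      Nat.factorization_pow_self hp, add_zero]
  obtain ⟨-, hr⟩ := fullyNormalized_good hS hF hP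
  -- `N_S^K(P) = P C_S(P)`
  obtain ⟨T, hT⟩ : ∃ T : Subgroup Ω, ∀ g : Ω, g ∈ T ↔ g ∈ S ∧ ∃ κ ∈ K, ∀ x : P, ((κ x : P) : Ω) = g * (x : Ω) * g⁻¹ := by
    refine ⟨P ⊔ centralizerIn S P, fun g => ⟨fun hg => ?_, ?_⟩⟩
    · refine ⟨sup_le hPS centralizerIn_le hg, ?_⟩
      obtain ⟨u, hu, hue⟩ := (mem_sup_centralizerIn_iff hPS).mp hg |>.2
      obtain ⟨a, ha, hae⟩ := exists_autInducedBy (K := P) (P := P) hu (Subgroup.le_normalizer hu)
      exact ⟨a, le_sup_left (a := Inn P) (inn_eq_autInducedBy (P := P) ▸ ha), fun x => (hae x).trans (hue x).symm⟩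
    · rintro ⟨hgS, κ, hκ, hκe⟩
      have hκS : κ ∈ autInducedBy S P := Subgroup.subset_closure ⟨g, hgS, hκe⟩
      obtain ⟨u, hu⟩ := mem_inn.mp (hKS.le ⟨hκ, hκS⟩)
      refine (mem_sup_centralizerIn_iff hPS).mpr ⟨hgS, u, u.2, fun x => ?_⟩
      exact (hκe x).symm.trans (congrArg Subtype.val (hu x))
  have hE := extSystem_saturated hS hF hr hcard hT
  have hPT : P ≤ T := fun g hg => by
    obtain ⟨a, ha, hae⟩ := exists_autInducedBy (K := P) (P := P) hg (Subgroup.le_normalizer hg)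
    exact (hT g).mpr ⟨hPS hg, a, le_sup_left (a := Inn P) (inn_eq_autInducedBy (P := P) ▸ ha), hae⟩
  rcases hxs _ _ hE (fun Q φ h => h.1) with ⟨hTS, hEF⟩ | hin
  · refine ⟨fun g hg => ?_, fun X φ hφ => ?_⟩
    · obtain ⟨-, κ, hκ, hκe⟩ := (hT g).mp (hTS.symm.le hg)
      obtain ⟨u, hu⟩ := mem_inn.mp (hKS.le ⟨hκ, Subgroup.subset_closure ⟨g, hg, hκe⟩⟩)
      exact ⟨u, u.2, fun x => (congrArg Subtype.val (hu x)).symm.trans (hκe x)⟩
    · obtain ⟨-, -, -, r⟩ := (hEF X).ge hφ
      exact r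
  · exfalso
    obtain ⟨ψ, hψ, hψe⟩ : ∃ ψ ∈ F.Hom (P ⊔ P), ∀ (x : P) (h : (x : Ω) ∈ P ⊔ P), ψ ⟨x, h⟩ = ((β x : P) : Ω) := by
      refine ⟨_, restrict_mem (sup_idem P).le ((mem_autGroup hPS).mp hβA), fun x h => rfl⟩
    obtain ⟨-, g, hg, hge⟩ := (hin P).le (show P.subtype.comp β.toMonoidHom ∈ extHom F P K T P from
      ⟨(mem_autGroup hPS).mp hβA, hPT, fun x => hPT (β x).2, ψ, hψ, fun x => hψe x _,
        β, Subgroup.mem_sup_right (Subgroup.mem_zpowers β), fun x => hψe x _⟩)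
    have hgS : g ∈ S := ((hT g).mp hg).1
    exact not_mem_of_prime_order (isPGroup_autInducedBy hS P) hq hqp hβq (Subgroup.subset_closure ⟨g, hgS, hge⟩)

end


/-- Let F be an extremely sparse fusion system over a finite p-group S (saturated, not the inner system, and every saturated fusion system over any subgroup T of S contained in F is F itself or the inner system of T). Then S is normal in F, the focal and hyperfocal subgroups of F are both S, and Aut_F(S) is generated by the inner automorphisms of S together with a single automorphism of prime order q ≠ p (F is the fusion system of the semidirect product of S by a cyclic group of prime order). -/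
theorem result {Ω : Type*} [Group Ω] {S : Subgroup Ω} [Finite S] (p : ℕ) [Fact p.Prime] (hS : IsPGroup p S) (F : Cfsg.FusionSystem S) (hF : F.IsSaturated p) (hxs : ¬ (∀ P : Subgroup Ω, F.Hom P = (Cfsg.innerFusionSystem S).Hom P) ∧ ∀ (T : Subgroup Ω) (E : Cfsg.FusionSystem T), E.IsSaturated p → E.IsSubsystemOf F → (T = S ∧ ∀ P : Subgroup Ω, E.Hom P = F.Hom P) ∨ (∀ P : Subgroup Ω, E.Hom P = (Cfsg.innerFusionSystem T).Hom P)) : F.IsNormal S ∧ F.focalSubgroup = S ∧ F.hyperfocalSubgroup p = S ∧ ∃ (q : ℕ) (β : MulAut ↥S), q.Prime ∧ q ≠ p ∧ β ∈ F.autGroup S ∧ orderOf β = q ∧ (F.autGroup S : Subgroup (MulAut ↥S)) = Cfsg.Inn ↥S ⊔ Subgroup.zpowers β := by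
  classical
  obtain ⟨hni, hxs⟩ := hxs
  have hp : p.Prime := Fact.out
  obtain ⟨P, hP, hA⟩ : ∃ P, F.IsFullyNormalized P ∧ ¬ IsPGroup p (F.autGroup P) := by
    by_contra hcon
    push Not at hcon
    exact hni (eq_inner_of_pGroup_autGroups hS hF hcon)
  obtain ⟨hPn, q, β, hq, hqp, hβA, hβq, hconj, -⟩ := local_shape hS hF hxs hP hA
  have hPS := hP.1
  have := finite_of_le hPS
  have := finite_mulAut hPS
  have := finite_mulAut (le_refl S)
  -- extend to `S`
  have hSA : ¬ IsPGroup p (F.autGroup S) := by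
    obtain ⟨-, hr⟩ := fullyNormalized_good hS hF hP
    have hext : S ≤ extender S P (P.subtype.comp β.toMonoidHom) := fun g hg => by
      obtain ⟨u, hu, hue⟩ := hconj g hg
      refine mem_extender.mpr ⟨hg, le_normalizer_of_isNormal hPn hg, (β ⟨u, hu⟩ : P), hPS (β _).2, fun x hx => ?_⟩
      show ((β ⟨g * x * g⁻¹, hx⟩ : P) : Ω) = _
      rw [show (⟨g * x * g⁻¹, hx⟩ : P) = ⟨u, hu⟩ * x * (⟨u, hu⟩ : P)⁻¹ from Subtype.ext (hue x).symm, map_mul,
        map_mul, map_inv]
      rfl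
    have hrange : (P.subtype.comp β.toMonoidHom).range = P := by
      ext y
      exact ⟨fun ⟨x, hx⟩ => hx ▸ (β x).2, fun hy => ⟨β.symm ⟨y, hy⟩, congrArg Subtype.val (β.apply_symm_apply _)⟩⟩
    obtain ⟨ψ, hψ, hψe⟩ := exists_extension hr ((mem_autGroup hPS).mp hβA) hrange hPS hext
    have hψr : ψ.range = S := range_eq_of_card_le hψ le_rfl (fun x => apply_mem_S hψ x) le_rfl
    obtain ⟨a, ha, hae⟩ := exists_aut hψ hψr
    intro hpg
    obtain ⟨k, hk⟩ := hpg ⟨a, ha⟩
    have hk' : a ^ p ^ k = 1 := congrArg Subtype.val hk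
    have hpow : ∀ (n : ℕ) (x : P), (((a ^ n) ⟨x, hPS x.2⟩ : S) : Ω) = (((β ^ n) x : P) : Ω) := by
      intro n
      induction n with
      | zero => intro x; rfl
      | succ n ih =>
        intro x
        rw [pow_succ', pow_succ', MulAut.mul_apply, MulAut.mul_apply]
        have h1 : ((a ^ n) ⟨x, hPS x.2⟩ : S) = ⟨((β ^ n) x : P), hPS ((β ^ n) x).2⟩ := Subtype.ext (ih x)
        rw [h1, hae]
        exact hψe ((β ^ n) x)
    have hβ1 : β ^ p ^ k = 1 := MulEquiv.ext fun x => Subtype.ext ((hpow (p ^ k) x).symm.trans (by rw [hk']; rfl))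
    have h1 := orderOf_dvd_of_pow_eq_one hβ1
    rw [hβq] at h1
    exact hqp ((Nat.prime_dvd_prime_iff_eq hq hp).mp (hq.dvd_of_dvd_pow h1))
  have hSn : F.IsFullyNormalized S := ⟨le_rfl, fun R _ => by
    rw [show normalizerIn S S = S from inf_eq_left.mpr Subgroup.le_normalizer]
    exact Subgroup.card_le_of_le normalizerIn_le⟩
  obtain ⟨hSN, q, b, hq, hqp, hbA, hbq, -, hgen⟩ := local_shape hS hF hxs hSn hSA
  have haut : (F.autGroup S : Subgroup (MulAut S)) = Cfsg.Inn S ⊔ Subgroup.zpowers b := by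
    refine le_antisymm (fun a ha => ?_) (sup_le (inn_le_autGroup le_rfl) (Subgroup.zpowers_le.mpr hbA))
    obtain ⟨ψ, -, hψe, κ, hκ, hκe⟩ := hgen S _ ((mem_autGroup le_rfl).mp ha)
    rw [show a = κ from MulEquiv.ext fun x => Subtype.ext
      ((hψe x).symm.trans ((apply_eq_of_coe_eq rfl).trans (hκe x)))]
    exact hκ
  suffices hyp : S ≤ F.hyperfocalSubgroup p by
    have h1 : F.focalSubgroup ≤ S := (Subgroup.closure_le _).mpr (by
      rintro _ ⟨Q, φ, x, hφ, rfl⟩; exact S.mul_mem (S.inv_mem (le_S hφ x.2)) (apply_mem_S hφ x))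
    have h2 : F.hyperfocalSubgroup p ≤ F.focalSubgroup := (Subgroup.closure_le _).mpr (by
      rintro _ ⟨Q, α, x, hQ, -, rfl⟩
      exact Subgroup.subset_closure ⟨Q, _, x, (mem_autGroup hQ).mp α.2, rfl⟩)
    exact ⟨hSN, le_antisymm h1 (hyp.trans h2), le_antisymm (h2.trans h1) hyp, q, b, hq, hqp, hbA, hbq, haut⟩
  have hbcop : (orderOf b).Coprime p := by rw [hbq]; exact (Nat.coprime_primes hq hp).mpr hqp
  set U : Subgroup S := Subgroup.closure (Set.range fun x : S => x⁻¹ * b x) with hU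
  have hUgen : ∀ x : S, x⁻¹ * b x ∈ U := fun x => Subgroup.subset_closure ⟨x, rfl⟩
  have hUle : U.map S.subtype ≤ F.hyperfocalSubgroup p := by
    rw [hU, MonoidHom.map_closure, Subgroup.closure_le]
    rintro _ ⟨_, ⟨x, rfl⟩, rfl⟩
    exact Subgroup.subset_closure ⟨S, ⟨b, hbA⟩, x, le_rfl, Subgroup.subset_closure
      (by show (orderOf (⟨b, hbA⟩ : F.autGroup S)).Coprime p; rwa [Subgroup.orderOf_mk]), rfl⟩
  refine le_trans (fun s hs => ?_) hUle
  suffices htop : U.map S.subtype = S from htop.ge hs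
  have hbU : ∀ u ∈ U, b u ∈ U := by
    intro u hu
    have : U.map b.toMonoidHom ≤ U := by
      rw [hU, MonoidHom.map_closure, Subgroup.closure_le]
      rintro _ ⟨_, ⟨x, rfl⟩, rfl⟩
      exact Subgroup.subset_closure ⟨b x, by simp⟩
    exact this ⟨u, hu, rfl⟩
  -- the action on `U` is not trivial
  have hne : ∃ u ∈ U, b u ≠ u := by
    by_contra hcon
    push Not at hcon
    have hb1 : b = 1 := MulEquiv.ext fun x => Cfsg.Agent.S5236.fix_of_step hS b hbcop (hcon _ (hUgen x))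
    rw [hb1, orderOf_one] at hbq
    exact hq.ne_one hbq.symm
  set U' : Subgroup Ω := U.map S.subtype with hU'
  have hU'S : U' ≤ S := Subgroup.map_subtype_le _
  let bU : MulAut U := MulEquiv.ofBijective ((b.toMonoidHom.comp U.subtype).codRestrict U fun u => hbU u u.2)
    (Finite.injective_iff_bijective.mp fun x y h => Subtype.ext (b.injective (congrArg Subtype.val h :)))
  have hbUe : ∀ (n : ℕ) (u : U), (((bU ^ n) u : U) : S) = (b ^ n) u := by
    intro n
    induction n with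
    | zero => intro u; rfl
    | succ n ih =>
      intro u
      rw [pow_succ', pow_succ', MulAut.mul_apply, MulAut.mul_apply, ← ih]
      rfl
  have hbU1 : bU ^ q = 1 := MulEquiv.ext fun u => Subtype.ext (by rw [hbUe, ← hbq, pow_orderOf_eq_one]; rfl)
  have hbUne : bU ≠ 1 := fun h => by
    obtain ⟨u, hu, hne⟩ := hne
    exact hne (congrArg Subtype.val (DFunLike.congr_fun h (⟨u, hu⟩ : U)) :)
  have hbUq : orderOf bU = q := by
    haveI : Fact q.Prime := ⟨hq⟩
    exact orderOf_eq_prime hbU1 hbUne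
  let e : U ≃* U' := U.equivMapOfInjective S.subtype S.subtype_injective
  let L := U ⋊[(Subgroup.zpowers bU).subtype] Subgroup.zpowers bU
  have : Finite U := Subtype.finite
  have : Finite (MulAut U) := Finite.of_injective (fun f : MulAut U => (f : U → U)) DFunLike.coe_injective
  have : Finite L := Finite.of_equiv _ SemidirectProduct.equivProd.symm
  let ι : U' →* L := SemidirectProduct.inl.comp e.symm.toMonoidHom
  have hι : Function.Injective ι := SemidirectProduct.inl_injective.comp e.symm.injective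
  let E := realSystem U' ι hι
  have hreal : E.IsRealizedBy ι := by
    refine ⟨hι, fun Q hQ φ hφ => ⟨?_, ?_⟩⟩
    · rintro ⟨-, l, hl⟩
      exact ⟨l, fun x => (hl x).2.2⟩
    · rintro ⟨l, hl⟩
      exact ⟨hQ, l, fun x => ⟨hQ x.2, hφ x, hl x⟩⟩
  have hsylow : ¬ p ∣ (SemidirectProduct.inl : U →* L).range.index := by
    have h := (SemidirectProduct.inl : U →* L).range.card_mul_index
    rw [← Nat.card_congr (MonoidHom.ofInjective (SemidirectProduct.inl_injective (φ :=
      (Subgroup.zpowers bU).subtype))).toEquiv, SemidirectProduct.card, Nat.card_zpowers, hbUq] at h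
    rw [Nat.eq_of_mul_eq_mul_left Nat.card_pos h]
    exact fun h => hqp ((Nat.prime_dvd_prime_iff_eq hp hq).mp h).symm
  have hUp : IsPGroup p U := hS.to_subgroup U
  let T₀ : Sylow p L := (IsPGroup.of_surjective hUp _ (SemidirectProduct.inl : U →* L).rangeRestrict_surjective).toSylow hsylow
  have hT₀ : (T₀ : Subgroup L) = ι.range := by
    show (SemidirectProduct.inl : U →* L).range = _
    rw [MonoidHom.range_comp, (MonoidHom.range_eq_top (f := e.symm.toMonoidHom)).mpr e.symm.surjective, MonoidHom.range_eq_map]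
  have hEsat : E.IsSaturated p := saturated_of_realized hreal T₀ hT₀
  have hval : ∀ (w : U), ((w : S) : Ω) = (e w : Ω) := fun w => rfl
  have hsub : E.IsSubsystemOf F := by
    rintro Q φ ⟨hQ, l, hl⟩
    obtain ⟨n, hn⟩ : ∃ n : ℕ, (l.right : MulAut U) = bU ^ n :=
      (Submonoid.mem_powers_iff _ _).mp (mem_powers_iff_mem_zpowers.mpr l.right.2) |>.imp fun _ h => h.symm
    have hκ : MulAut.conj (l.left : S) * b ^ n ∈ F.autGroup S :=
      (F.autGroup S).mul_mem (inn_le_autGroup le_rfl (mem_inn.mpr ⟨(l.left : S), fun x => rfl⟩))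
        (pow_mem hbA n)
    rw [show φ = (S.subtype.comp (MulAut.conj (l.left : S) * b ^ n).toMonoidHom).comp
        (Subgroup.inclusion (hQ.trans hU'S)) from MonoidHom.ext fun x => ?_]
    · exact restrict_mem (hQ.trans hU'S) ((mem_autGroup le_rfl).mp hκ)
    obtain ⟨hx, hy, he⟩ := hl x
    obtain ⟨w, hw⟩ := e.surjective ⟨(x : Ω), hx⟩
    obtain ⟨v, hv⟩ := e.surjective ⟨φ x, hy⟩
    change SemidirectProduct.inl (e.symm ⟨φ x, hy⟩) = l * SemidirectProduct.inl (e.symm ⟨(x : Ω), hx⟩) * l⁻¹ at he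
    rw [← hv, ← hw, e.symm_apply_apply, e.symm_apply_apply] at he
    have h2 : v = l.left * (bU ^ n) w * l.left⁻¹ := by
      have := congrArg SemidirectProduct.left he
      simp only [SemidirectProduct.left_inl] at this
      rw [this, ← hn]
      show l.left * (l.right : MulAut U) w * ((l.right * 1 : Subgroup.zpowers bU) : MulAut U)
        (((l.right⁻¹ : Subgroup.zpowers bU) : MulAut U) l.left⁻¹) = _
      rw [mul_one, ← MulAut.mul_apply, ← Subgroup.coe_mul, mul_inv_cancel]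
      rfl
    have h3 : φ x = ((v : S) : Ω) := (congrArg Subtype.val hv).symm
    rw [h3, h2]
    show _ = ((MulAut.conj (l.left : S) ((b ^ n) ⟨(x : Ω), hQ.trans hU'S x.2⟩) : S) : Ω)
    rw [show (⟨(x : Ω), hQ.trans hU'S x.2⟩ : S) = (w : S) from Subtype.ext (congrArg Subtype.val hw).symm, ← hbUe]
    rfl
  rcases hxs U' E hEsat hsub with ⟨hUS, -⟩ | hin
  · exact hUS
  exfalso
  obtain ⟨φ, hφ, hφe⟩ := realized_exists_map hreal (le_refl U') (SemidirectProduct.inr ⟨bU, Subgroup.mem_zpowers bU⟩)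
    (fun x => ⟨e (bU (e.symm ⟨x, x.2⟩)), by
      show SemidirectProduct.inl (e.symm (e _)) = _
      rw [e.symm_apply_apply, ← map_inv]
      exact SemidirectProduct.inl_aut (⟨bU, Subgroup.mem_zpowers bU⟩ : Subgroup.zpowers bU) _⟩)
  obtain ⟨-, g, hg, hge⟩ := (hin U').le hφ
  refine not_mem_of_prime_order (B := Cfsg.Inn U) ?_ hq hqp hbUq ?_
  · exact IsPGroup.of_surjective hUp _ (MulAut.conj (G := U)).rangeRestrict_surjective
  refine mem_inn.mpr ⟨e.symm ⟨g, hg⟩, fun w => ?_⟩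
  have h1 := hφe (e w) (apply_mem_S hφ _)
  change SemidirectProduct.inl (e.symm ⟨φ (e w), _⟩) = SemidirectProduct.inr _ * SemidirectProduct.inl (e.symm (e w)) * _ at h1
  rw [e.symm_apply_apply, ← map_inv, ← SemidirectProduct.inl_aut, SemidirectProduct.inl_inj] at h1
  show bU w = _
  rw [show bU w = e.symm ⟨φ (e w), apply_mem_S hφ _⟩ from h1.symm]
  apply e.injective
  rw [e.apply_symm_apply, map_mul, map_mul, map_inv, e.apply_symm_apply]
  exact Subtype.ext (hge (e w))

end Cfsg.Agent.S5245
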