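import Cfsg.Statements.S5247
import Cfsg.Agent.Lib.FusionNormal.Stable
import Cfsg.Agent.Lib.Fusion.LocalModel
import Mathlib.NumberTheory.Multiplicity
-- import your own Cfsg.Agent.* helpers here

set_option autoImplicit false
open Cfsg

namespace Cfsg.Agent.S5247

open CfsgLib.Fusion Cfsg.FusionSystem

/-- An automorphism of a cyclic `p`-group acting quadratically has `p`-power order. -/
theorem pow_eq_one_of_cyclic {X : Type*} [Group X] {p : ℕ} [Fact p.Prime] (hX : IsPGroup p X) [IsCyclic X]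
    (χ : MulAut X) (h : ∀ a : X, (χ a⁻¹) * a * (χ a⁻¹) * (χ (χ a)) = 1) : ∃ n, χ ^ p ^ n = 1 := by
  obtain ⟨g, hg⟩ := IsCyclic.exists_generator (α := X)
  obtain ⟨m, hm⟩ := MonoidHom.map_cyclic χ.toMonoidHom
  have hm' : ∀ a : X, χ a = a ^ m := hm
  obtain ⟨n, hn⟩ := hX g
  obtain ⟨j, -, hj⟩ := (Nat.dvd_prime_pow (Fact.out : p.Prime)).mp (orderOf_dvd_of_pow_eq_one hn)
  have hd : ((p : ℤ) ^ j) ∣ (m - 1) * (m - 1) := by
    have h1 := h g
    simp only [hm', inv_zpow', ← zpow_mul] at h1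
    have h2 : g ^ ((m - 1) * (m - 1)) = 1 := by
      rw [← h1]
      nth_rw 3 [show g = g ^ (1 : ℤ) from (zpow_one g).symm]
      rw [← zpow_add, ← zpow_add, ← zpow_add]
      congr 1
      ring
    have := orderOf_dvd_iff_zpow_eq_one.mpr h2
    rw [hj] at this
    exact_mod_cast this
  refine ⟨j, MulEquiv.ext fun a => ?_⟩
  have hpow : ∀ k : ℕ, (χ ^ k) g = g ^ m ^ k := by
    intro k
    induction k with
    | zero => simp
    | succ k ih => rw [pow_succ', MulAut.mul_apply, ih, hm', ← zpow_mul, pow_succ]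
  suffices hgg : (χ ^ p ^ j) g = g by
    obtain ⟨k, rfl⟩ := Subgroup.mem_zpowers_iff.mp (hg a)
    rw [map_zpow, hgg]
    rfl
  rw [hpow]
  rcases Nat.eq_zero_or_pos j with rfl | hjp
  · rw [pow_zero, orderOf_eq_one_iff] at hj
    rw [hj, one_zpow]
  have hp1 : (p : ℤ) ∣ m - 1 := by
    have h3 : (p : ℤ) ∣ (m - 1) * (m - 1) := (dvd_pow_self (p : ℤ) hjp.ne').trans hd
    exact ((Nat.prime_iff_prime_int.mp (Fact.out : p.Prime)).dvd_or_dvd h3).elim id id
  have h4 := dvd_sub_pow_of_dvd_sub (R := ℤ) hp1 j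
  rw [one_pow] at h4
  have h5 : g ^ (m ^ p ^ j - 1) = 1 := orderOf_dvd_iff_zpow_eq_one.mp (by
    rw [hj]; push_cast; exact (dvd_trans (pow_dvd_pow (p : ℤ) (Nat.le_succ j)) h4))
  rw [zpow_sub, zpow_one, mul_inv_eq_one] at h5
  exact h5


/-- Let p be an odd prime and F a saturated fusion system over a finite p-group S. Call a fusion system E (over any subgroup) p-stable when, for every fully E-normalized subgroup Q and every χ ∈ Aut_E(Q) with χ(a⁻¹)·a·χ(a⁻¹)·χ(χ(a)) = 1 for all a ∈ Q (χ acts quadratically), χ lies in O_p(Aut_E(Q)). Then F is p-stable if and only if every normalizer fusion system N_F(R) of every non-cyclic fully F-normalized subgroup R of S is p-stable. -/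
theorem result {Ω : Type*} [Group Ω] {S : Subgroup Ω} [Finite S] (p : ℕ) [Fact p.Prime] (hS : IsPGroup p S) (F : Cfsg.FusionSystem S) (hF : F.IsSaturated p) (hp : p ≠ 2) : (∀ Q : Subgroup Ω, F.IsFullyNormalized Q → ∀ χ : MulAut ↥Q, χ ∈ F.autGroup Q → (∀ a : ↥Q, (χ a⁻¹) * a * (χ a⁻¹) * (χ (χ a)) = 1) → χ ∈ ((Cfsg.pCore p ↥(F.autGroup Q)).map (F.autGroup Q).subtype : Subgroup (MulAut ↥Q))) ↔ ∀ R : Subgroup Ω, F.IsFullyNormalized R → ¬ IsCyclic ↥R → ∀ N : Cfsg.FusionSystem (Cfsg.FusionSystem.normalizerIn S R), F.IsNormalizerSystem R N → (∀ Q : Subgroup Ω, N.IsFullyNormalized Q → ∀ χ : MulAut ↥Q, χ ∈ N.autGroup Q → (∀ a : ↥Q, (χ a⁻¹) * a * (χ a⁻¹) * (χ (χ a)) = 1) → χ ∈ ((Cfsg.pCore p ↥(N.autGroup Q)).map (N.autGroup Q).subtype : Subgroup (MulAut ↥Q))) := by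
  constructor
  · intro h R hR _ N hN Q hQ χ hχ hquad
    have hRS := hR.1
    have hQS : Q ≤ S := hQ.1.trans normalizerIn_le
    have hle : N.autGroup Q ≤ F.autGroup Q := fun β hβ =>
      (mem_autGroup hQS).mpr ((hN Q).le ((mem_autGroup hQ.1).mp hβ)).1
    have := CfsgLib.FusionNormal.Stable.finite_autGroup (F := F) hQS
    exact CfsgLib.FusionNormal.Stable.mem_coreAut_of_le hle hχ
      (CfsgLib.FusionNormal.Stable.stable_all (fun Q' hn β hβ hq => h Q' hn β hβ hq) hQS (hle hχ) hquad)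
  · intro h Q hQ χ hχ hquad
    by_cases hc : IsCyclic Q
    · have := finite_of_le hQ.1
      have := CfsgLib.FusionNormal.Stable.finite_autGroup (F := F) hQ.1
      obtain ⟨n, hn⟩ := pow_eq_one_of_cyclic (hS.to_le hQ.1) χ hquad
      refine ⟨⟨χ, hχ⟩, CfsgLib.PCore.le_pCore (N := Subgroup.zpowers (⟨χ, hχ⟩ : F.autGroup Q)) ⟨fun z hz b => ?_⟩
        ?_ (Subgroup.mem_zpowers _), rfl⟩
      · have hcomm : b * z = z * b := Subtype.ext (MulEquiv.ext fun x => by
          obtain ⟨m, hm⟩ := MonoidHom.map_cyclic (b : MulAut Q).toMonoidHom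
          have hb : ∀ a : Q, (b : MulAut Q) a = a ^ m := hm
          show (b : MulAut Q) ((z : MulAut Q) x) = (z : MulAut Q) ((b : MulAut Q) x)
          rw [hb, hb, map_zpow])
        rw [hcomm, mul_inv_cancel_right]; exact hz
      · refine fun z => ⟨n, ?_⟩
        obtain ⟨k, hk⟩ := Subgroup.mem_zpowers_iff.mp z.2
        refine Subtype.ext (Subtype.ext ?_)
        rw [Subgroup.coe_pow, Subgroup.coe_pow, ← hk]
        show ((χ : MulAut Q) ^ k) ^ p ^ n = 1
        rw [← zpow_natCast, ← zpow_mul, mul_comm, zpow_mul, zpow_natCast, hn, one_zpow]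
    obtain ⟨N, hN⟩ := exists_normalizerSystem (F := F) hQ.1
    have hA := autGroup_normalizerSystem hQ.1 hN
    have := finite_of_le (normalizerIn_le (S := S) (P := Q))
    have hNn : N.IsFullyNormalized Q := by
      refine ⟨le_normalizerIn hQ.1, fun P hP => ?_⟩
      have hT : normalizerIn (normalizerIn S Q) Q = normalizerIn S Q := inf_eq_left.mpr inf_le_right
      have := finite_of_le (normalizerIn_le (S := normalizerIn S Q) (P := Q))
      rw [hT]
      exact Subgroup.card_le_of_le normalizerIn_le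
    have hfin := h Q hQ hc N hN Q hNn χ (hA.ge hχ) hquad
    rw [hA] at hfin
    exact hfin

end Cfsg.Agent.S5247
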