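import Cfsg.Statements.S5250
import Cfsg.Agent.Lib.Fusion.LocalFree

set_option autoImplicit false
universe u
open Cfsg

namespace Cfsg.Agent.S5250

/-- Let F be a saturated fusion system over a finite p-group S such that Qd(p) (the natural semidirect product of an elementary abelian group of order p² by SL₂(p)) is involved in no model of the normalizer system of any fully normalized subgroup that is both centric and radical in F. Then F is Qd(p)-free: Qd(p) is involved in no model of the normalizer system of any fully normalized centric subgroup. -/
theorem result {Ω : Type u} [Group Ω] {S : Subgroup Ω} [Finite S] (p : ℕ) [Fact p.Prime] (hS : IsPGroup p S) (F : Cfsg.FusionSystem S) (hF : F.IsSaturated p) (h : ∀ Q : Subgroup Ω, F.IsFullyNormalized Q → F.IsCentric Q → F.IsRadical p Q → ∀ N : Cfsg.FusionSystem (Cfsg.FusionSystem.normalizerIn S Q), F.IsNormalizerSystem Q N → ∀ (L : Type u) [Group L] (ι : ↥(Cfsg.FusionSystem.normalizerIn S Q) →* L), N.IsModel p L ι → ¬ Cfsg.Involves ↥(Cfsg.qd p) L) : F.IsSectionFree p ↥(Cfsg.qd p) := by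
  exact CfsgLib.Fusion.centricFree_of_radicalFree CfsgLib.Fusion.sectionClosed_not_involves hS hF h

end Cfsg.Agent.S5250
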