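import Cfsg.Statements.S5251
import Cfsg.Agent.Lib.Fusion.Normal
import Cfsg.Agent.Lib.Fusion.Extend
import Cfsg.Agent.Lib.Fusion.RadicalConj
import Cfsg.Agent.Lib.Fusion.Simple

set_option autoImplicit false
open Cfsg Cfsg.FusionSystem CfsgLib.Fusion CfsgLib.FusionExtend
open scoped Pointwise

namespace Cfsg.Agent.S5251

/-- Let F be a saturated fusion system over a finite p-group S, E a normal subsystem of F over T, and P an F-centric subgroup of S such that P ∩ T is not E-centric. Then some F-conjugate P* of P satisfies Out_S(P*) ∩ O_p(Out_F(P*)) ≠ 1: there is an element of N_S(P*) outside P* whose conjugation action on P* lies in O_p(Aut_F(P*)). In particular P is not both centric and radical in F. -/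
theorem result {Ω : Type*} [Group Ω] {S : Subgroup Ω} [Finite S] (p : ℕ) [Fact p.Prime] (hS : IsPGroup p S) (F : Cfsg.FusionSystem S) (hF : F.IsSaturated p) {T : Subgroup Ω} (E : Cfsg.FusionSystem T) (hE : E.IsNormalIn F p) (P : Subgroup Ω) (hP : F.IsCentric P) (hPT : ¬ E.IsCentric (P ⊓ T)) : (∃ φ ∈ F.Hom P, ∃ x ∈ S ⊓ Subgroup.normalizer (φ.range : Set Ω), x ∉ φ.range ∧ ∃ α ∈ ((Cfsg.pCore p ↥(F.autGroup φ.range)).map (F.autGroup φ.range).subtype : Subgroup (MulAut ↥φ.range)), ∀ y : ↥φ.range, ((α y : ↥φ.range) : Ω) = x * (y : Ω) * x⁻¹) ∧ ¬ F.IsRadical p P := by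
  classical
  obtain ⟨⟨-, -, hEF, hT, -⟩, -⟩ := hE
  have hTS := hT.1
  have hPS := hP.1
  set U := P ⊓ T with hU
  have hUT : U ≤ T := inf_le_right
  have hUS : U ≤ S := hUT.trans hTS
  obtain ⟨Q, hQc, hQne⟩ : ∃ Q, E.IsConj U Q ∧ ¬ centralizerIn T Q ≤ Q := by
    by_contra h
    push Not at h
    exact hPT ⟨hUT, h⟩
  obtain ⟨U', hU'a, hU'r, hUU', f, hf, -, hfU⟩ := exists_good_conj hS hF hUS
  have hPN : P ≤ normalizerIn S U := by
    intro x hx
    refine ⟨hPS hx, Subgroup.mem_normalizer_iff.mpr fun y => ?_⟩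
    have h1 := Subgroup.mem_normalizer_iff.mp (Subgroup.le_normalizer (H := P) hx) y
    have h2 := Subgroup.mem_normalizer_iff.mp (sc_normalizer hT (hPS hx)) y
    simp only [hU, Subgroup.mem_inf]
    tauto
  obtain ⟨φ, hφ, hφr, hφe⟩ := exists_restrict hf hPN rfl
  refine ⟨⟨φ, hφ, ?_⟩, ?_⟩
  all_goals (
    set P' := φ.range with hP'
    have hP'S : P' ≤ S := range_le_S hφ
    have hU'P : U' = P' ⊓ T := by
      apply le_antisymm
      · intro y hy
        obtain ⟨x, hx, rfl⟩ := hfU.ge hy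
        have hx' : (x : Ω) ∈ P ∧ (x : Ω) ∈ T := hx
        refine ⟨⟨⟨x, hx'.1⟩, ?_⟩, sc_apply hT hf x hx'.2⟩
        rw [hφe]
      · rintro y ⟨⟨x, rfl⟩, hyT⟩
        refine hfU.le ⟨⟨x, hPN x.2⟩, ⟨x.2, (sc_apply_iff hT hφ x).mp hyT⟩, (hφe x).symm⟩
    have hQU' : F.IsConj Q U' :=
      isConj_trans (isConj_symm (CfsgLib.FusionSimple.isConj_mono hEF hQc)) hUU'
    obtain ⟨c, hcQ, hcne⟩ := SetLike.not_le_iff_exists.mp hQne
    obtain ⟨ψ, hψ, -, hψQ⟩ := exists_normalizer_hom hS hU'a hU'r hQU'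
    have hQS : Q ≤ S := IsConj.le_left hQU'
    obtain ⟨ψ₀, hψ₀, hψ₀r, hψ₀e⟩ := exists_restrict hψ (le_normalizerIn hQS) hψQ
    have hcS : c ∈ centralizerIn S Q := ⟨hTS hcQ.1, hcQ.2⟩
    set c' := ψ ⟨c, centralizerIn_le_normalizerIn hcS⟩ with hc'
    have hc'T : c' ∈ T := sc_apply hT hψ _ hcQ.1
    have hc'C : c' ∈ centralizerIn S U' :=
      extension_mem_centralizerIn hψ hψ₀r (le_normalizerIn hQS) (fun x => (hψ₀e x).symm) _ hcS
    have hc'P : c' ∉ P' := by
      intro h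
      obtain ⟨q, hq, hqc⟩ := hψQ.ge (hU'P.ge ⟨h, hc'T⟩)
      have := F.injective_of_mem hψ hqc
      rw [this] at hq
      exact hcne hq
    set W := T ⊓ centralizerIn S U' with hW
    have hP'N : P' ≤ Subgroup.normalizer (W : Set Ω) := by
      intro x hx
      have := finite_of_le (inf_le_left.trans hTS : W ≤ S)
      refine mem_normalizer_of_forall fun w hw => ⟨(Subgroup.mem_normalizer_iff.mp (sc_normalizer hT (hP'S hx)) w).mp hw.1, ?_⟩
      refine mem_centralizerIn'.mpr ⟨S.mul_mem (S.mul_mem (hP'S hx) hw.2.1) (S.inv_mem (hP'S hx)), fun u => ?_⟩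
      have hm : x⁻¹ * (u : Ω) * x ∈ U' := by
        have hu := hU'P.le u.2
        refine hU'P.ge ⟨P'.mul_mem (P'.mul_mem (P'.inv_mem hx) hu.1) hx, ?_⟩
        have := (Subgroup.mem_normalizer_iff.mp (sc_normalizer hT (S.inv_mem (hP'S hx))) u).mp hu.2
        simpa using this
      have h := (mem_centralizerIn'.mp hw.2).2 ⟨_, hm⟩
      calc x * w * x⁻¹ * (u : Ω) * (x * w * x⁻¹)⁻¹ = x * (w * (x⁻¹ * u * x) * w⁻¹) * x⁻¹ := by group
        _ = x * (x⁻¹ * u * x) * x⁻¹ := by rw [h]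
        _ = u := by group
    have hlt : P' < P' ⊔ W := lt_of_le_of_ne le_sup_left fun he => hc'P (he.ge (Subgroup.mem_sup_right ⟨hc'T, hc'C⟩))
    obtain ⟨g, hg, hgP⟩ := SetLike.exists_of_lt
      (lt_normalizerIn hS (sup_le hP'S (inf_le_left.trans hTS)) hlt)
    have hg' : g ∈ ((P' : Set Ω) * (W : Set Ω) : Set Ω) :=
      (Set.ext_iff.mp (Subgroup.coe_mul_of_left_le_normalizer_right P' W hP'N) g).mp hg.1
    obtain ⟨x, hx, t, ht, rfl⟩ := hg'
    have htP : t ∉ P' := fun h => hgP (P'.mul_mem hx h)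
    have htN : t ∈ Subgroup.normalizer (P' : Set Ω) := by
      have := Subgroup.mul_mem _ (Subgroup.inv_mem _ (Subgroup.le_normalizer hx)) hg.2
      rwa [inv_mul_cancel_left] at this
    obtain ⟨a, ha, hae⟩ := exists_autInducedBy (K := S) (hTS ht.1) htN
    have := finite_of_le hP'S
    have := finite_mulAut hP'S
    let L : ℕ → Subgroup P' := fun i => if i = 0 then ⊥ else if i = 1 then U'.subgroupOf P' else ⊤
    have hinv : ∀ i ≤ 2, ∀ b ∈ F.autGroup P', ∀ y ∈ L i, b y ∈ L i := by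
      intro i _ b hb y hy
      rcases i with _ | _ | i
      · simp only [L, if_true, Subgroup.mem_bot] at hy ⊢; rw [hy, map_one]
      · refine hU'P.ge ⟨(b y).2, ?_⟩
        exact StronglyClosed.aut_mem hT hP'S hb y (hU'P.le hy).2
      · exact Subgroup.mem_top _
    have haA : a ∈ seriesStabilizer F P' 2 L hinv := by
      refine ⟨autInducedBy_le_autGroup hP'S ha, fun i hi y hy => ?_⟩
      obtain rfl | rfl : i = 0 ∨ i = 1 := by omega
      · refine Subgroup.mem_bot.mpr (Subtype.ext ?_)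
        rw [Subgroup.coe_mul, Subgroup.coe_inv, hae, (mem_centralizerIn'.mp ht.2).2 ⟨y, hy⟩]
        exact inv_mul_cancel _
      · refine hU'P.ge ⟨(y⁻¹ * a y).2, ?_⟩
        show (y : Ω)⁻¹ * ((a y : P') : Ω) ∈ T
        rw [hae]
        have h2 := (Subgroup.mem_normalizer_iff.mp (sc_normalizer hT (S.inv_mem (hP'S y.2))) t).mp ht.1
        have := T.mul_mem h2 (T.inv_mem ht.1)
        simpa [mul_assoc] using this
    have hAn : (seriesStabilizer F P' 2 L hinv).subgroupOf (F.autGroup P') ≤ pCore p (F.autGroup P') := by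
      refine CfsgLib.PCore.le_pCore ⟨fun b hb g => seriesStabilizer_conj_mem (hinv := hinv) hb g.2⟩ ?_
      intro b
      obtain ⟨k, hk⟩ := exists_pow_eq_one_of_stabilizes (hS.to_le hP'S) L (n := 2) (fun i hi => by
          obtain rfl | rfl : i = 0 ∨ i = 1 := by omega
          · exact bot_le
          · exact le_top) (by simp [L]) (α := ((b : F.autGroup P') : MulAut P'))
        ⟨0, fun y hy => by
          simp only [L, if_true, Subgroup.mem_bot] at hy
          rw [hy, map_one]⟩ b.2.2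
      exact ⟨k, Subtype.ext (Subtype.ext (by simpa using hk))⟩)
  · exact ⟨t, ⟨hTS ht.1, htN⟩, htP, a, ⟨⟨a, haA.1⟩, hAn haA, rfl⟩, hae⟩
  · intro hrad
    have hc : F.IsCentric P' := CfsgLib.FusionSimple.isCentric_of_conj hP ⟨φ, hφ, rfl⟩
    have hr' := radical_of_conj hrad ⟨φ, hφ, rfl⟩
    exact htP ((mem_inn_iff_mem hP'S (IsCentric.centralizerIn_le' hc) (hTS ht.1) hae).mp
      (hr'.2.le ⟨⟨a, haA.1⟩, hAn haA, rfl⟩))

end Cfsg.Agent.S5251
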