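import Cfsg.Statements.S5253
import Cfsg.Agent.Lib.Fusion.QuadraticControl
-- import your own Cfsg.Agent.* helpers here

set_option autoImplicit false
universe u
open Cfsg

namespace Cfsg.Agent.S5253

/-- Let p be a prime and W a positive characteristic p-functor with Z(Q) ≤ W(Q): W assigns to every finite p-group Q (in a fixed universe) a subgroup W(Q), nontrivial when Q is, carried to W(R) by every isomorphism Q ≅ R, and containing the centre of Q. Suppose that for every finite group G with Sylow p-subgroup P in which W(P) is not normal there is g ∈ P outside O_p(G) with [Z(O_p(G)), g, g] = 1. Then for every saturated fusion system F over a finite p-group S and every normalizer fusion system N of W(S) in F, every p-th power of an element of Z(S) that lies in the centre of N lies in the centre of F. -/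
theorem result {p : ℕ} [Fact p.Prime] (W : ∀ (Q : Type u) [Group Q], Subgroup Q) (hW1 : ∀ (Q : Type u) [Group Q] [Finite Q], IsPGroup p Q → Nontrivial Q → W Q ≠ ⊥) (hW2 : ∀ (Q R : Type u) [Group Q] [Group R] [Finite Q], IsPGroup p Q → ∀ φ : Q ≃* R, (W Q).map φ.toMonoidHom = W R) (hWZ : ∀ (Q : Type u) [Group Q] [Finite Q], IsPGroup p Q → Subgroup.center Q ≤ W Q) (hq : ∀ (G : Type u) [Group G] [Finite G] (P : Sylow p G), ¬ (((W ↥(P : Subgroup G)).map (P : Subgroup G).subtype : Subgroup G)).Normal → ∃ g : G, g ∈ (P : Subgroup G) ∧ g ∉ Cfsg.pCore p G ∧ ⁅⁅Subgroup.center ↥(Cfsg.pCore p G) |>.map (Cfsg.pCore p G).subtype, Subgroup.zpowers g⁆, Subgroup.zpowers g⁆ = ⊥) {Ω : Type u} [Group Ω] {S : Subgroup Ω} [Finite S] (hS : IsPGroup p S) (F : Cfsg.FusionSystem S) (hF : F.IsSaturated p) (N : Cfsg.FusionSystem (Cfsg.FusionSystem.normalizerIn S ((W ↥S).map S.subtype))) (hN : F.IsNormalizerSystem ((W ↥S).map S.subtype) N) : Subgroup.closure ((fun z => z ^ p) '' ((S ⊓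 Subgroup.centralizer (S : Set Ω) : Subgroup Ω) : Set Ω)) ⊓ N.center ≤ F.center := by
  obtain ⟨X, hXdef⟩ : ∃ X, X = Subgroup.closure ((fun z => z ^ p) '' ((S ⊓ Subgroup.centralizer (S : Set Ω) : Subgroup Ω) : Set Ω)) ⊓ N.center := ⟨_, rfl⟩
  rw [← hXdef]
  have hXV : X ≤ CfsgLib.Fusion.powCentre p S := hXdef ▸ inf_le_left.trans ((Subgroup.closure_le _).mpr (by
    rintro _ ⟨z, hz, rfl⟩
    exact Subgroup.subset_closure ⟨z, hz, by simp⟩))
  have hXS : X ≤ S := hXV.trans CfsgLib.Fusion.powCentre_le_S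
  have hSX : S ≤ Subgroup.centralizer (X : Set Ω) := fun s hs x hx =>
    (Subgroup.mem_centralizer_iff.mp (CfsgLib.Fusion.powCentre_le (hXV hx)).2 s hs).symm
  have hle : F ≤ CfsgLib.Fusion.extSystem F hXS ⊥ S (CfsgLib.Fusion.isKNormalizer_bot_self hSX) := by
    refine CfsgLib.Fusion.le_of_quadratic hW1 hW2 (fun G _ _ P _ h => hq G P h) hS hF _ ?_ ?_
    · rintro P φ ⟨hφ, -, -, ψ, hψ, hψe, hψV⟩
      exact ⟨hφ, CfsgLib.Fusion.le_S hφ, CfsgLib.Fusion.apply_mem_S hφ, _,
        CfsgLib.Fusion.restrict_mem (sup_le_sup_left hXV P) hψ, fun x => hψe x, 1, one_mem _,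
        fun x => hψV ⟨x, hXV x.2⟩⟩
    · intro P φ hφ
      have := CfsgLib.Fusion.finite_of_le (CfsgLib.Fusion.normalizerIn_le (S := S) (P := (W ↥S).map S.subtype))
      obtain ⟨ψ, hψ, hψe, hψc⟩ := (CfsgLib.FusionExt.isCentral_center N).2 P φ ((hN P).ge hφ)
      have hXc : X ≤ N.center := hXdef ▸ inf_le_right
      exact ⟨hφ.1, CfsgLib.Fusion.le_S hφ.1, CfsgLib.Fusion.apply_mem_S hφ.1, _,
        CfsgLib.Fusion.restrict_mem (sup_le_sup_left hXc P) ((hN _).le hψ).1, fun x => hψe x, 1, one_mem _,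
        fun x => hψc ⟨x, hXc x.2⟩⟩
  exact (show X ≤ F.center from le_sSup (CfsgLib.Fusion.isCentral_of_extHom hXS fun P φ hφ => hle P hφ))

end Cfsg.Agent.S5253
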