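import Cfsg.Statements.S5255
import Cfsg.Agent.Lib.Fusion.ModClosed

set_option autoImplicit false
open Cfsg Cfsg.FusionSystem CfsgLib.Fusion CfsgLib.FusionExtend

namespace Cfsg.Agent.S5255

/-- Let F be a saturated fusion system over a finite p-group S and T a subgroup of S strongly closed in F. Then T·C_S(T) is strongly closed in F. -/
theorem result {Ω : Type*} [Group Ω] {S : Subgroup Ω} [Finite S] (p : ℕ) [Fact p.Prime] (hS : IsPGroup p S) (F : Cfsg.FusionSystem S) (hF : F.IsSaturated p) (T : Subgroup Ω) (hT : F.StronglyClosed T) : F.StronglyClosed (T ⊔ Cfsg.FusionSystem.centralizerIn S T) := by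
  have hTS := hT.1
  refine ⟨sup_le hTS centralizerIn_le, fun R hR φ hφ x => ?_⟩
  obtain ⟨ψ, hψ, hψe⟩ := exists_congr_extension hS hF hT hφ
  obtain ⟨-, t, ht, hxt⟩ := (mem_sup_centralizerIn_iff hTS).mp (hR x.2)
  set x' : ↥(R ⊔ T) := ⟨x, Subgroup.mem_sup_left x.2⟩
  have hmem : ψ x' ∈ T ⊔ centralizerIn S T := by
    refine (mem_sup_centralizerIn_iff hTS).mpr ⟨apply_mem_S hψ _, ψ ⟨t, Subgroup.mem_sup_right ht⟩,
      sc_apply hT hψ _ ht, fun u => ?_⟩
    obtain ⟨v, hv, hvu⟩ := (sc_map_eq hT hψ le_sup_right).ge u.2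
    rw [← hvu, ← map_inv, ← map_mul, ← map_mul, ← map_inv, ← map_mul, ← map_mul]
    exact apply_eq_of_coe_eq (hxt ⟨v, hv⟩)
  have h := Subgroup.mul_mem _ hmem (Subgroup.mem_sup_left (S := T) (T := centralizerIn S T) (T.inv_mem (hψe x)))
  simpa [x', mul_assoc] using h

end Cfsg.Agent.S5255
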