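import Cfsg.Statements.S5256
import Cfsg.Agent.Lib.Fusion.ModClosed

set_option autoImplicit false
open Cfsg Cfsg.FusionSystem CfsgLib.Fusion CfsgLib.FusionExtend

namespace Cfsg.Agent.S5256

/-- Let F be a saturated fusion system over a finite p-group S, T a subgroup of S strongly closed in F, and E a factor system F/T realised along a homomorphism θ of S with kernel T. Then the hyperfocal subgroup of E is the image under θ of the hyperfocal subgroup of F (hyp(F/T) = T·hyp(F)/T). -/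
theorem result {Ω : Type*} [Group Ω] {S : Subgroup Ω} [Finite S] (p : ℕ) [Fact p.Prime] (hS : IsPGroup p S) (F : Cfsg.FusionSystem S) (hF : F.IsSaturated p) (T : Subgroup Ω) (hT : F.StronglyClosed T) {Ω' : Type*} [Group Ω'] {S' : Subgroup Ω'} (θ : ↥S →* Ω') (E : Cfsg.FusionSystem S') (hE : F.IsFactorSystem T θ E) : E.hyperfocalSubgroup p = ((F.hyperfocalSubgroup p).subgroupOf S).map θ := by
  obtain ⟨hk, hrange, hHom⟩ := hE.2
  have hFE : ∀ {P : Subgroup Ω} {φ : P →* Ω}, φ ∈ F.Hom P →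
      ∃ φ' ∈ E.Hom (imageAlong θ P), InducedAlong θ φ φ' :=
    fun hφ => CfsgLib.FusionFactor.exists_map_induced hS hF hT hE hφ
  have : Finite S' := by
    rw [← hrange]
    exact Finite.of_surjective θ.rangeRestrict θ.rangeRestrict_surjective
  apply le_antisymm
  · refine hyperfocal_le_of_coprime E _ fun P' β y hP' hβ => ?_
    have := finite_of_le hP'
    obtain ⟨f', hf', hf'r, hf'e⟩ := exists_map_of_mem_autGroup hP' β.2
    obtain ⟨-, ψ, hψ, hind⟩ := (hHom P' f').mp hf'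
    set Q := preimageAlong θ P'
    have hQ : Q ≤ S := CfsgLib.FusionFactor.preimageAlong_le P'
    have := finite_of_le hQ
    obtain ⟨hQ', hψS, hm, hie⟩ := hind
    obtain ⟨α, hα, hαe⟩ := exists_aut hψ (range_eq_of_card_le hψ hQ (fun x => by
      refine CfsgLib.FusionFactor.mem_preimageAlong.mpr ⟨hψS x, ?_⟩
      rw [← hie x]; exact hf'r.le ⟨_, rfl⟩) le_rfl)
    have := finite_mulAut hQ
    obtain ⟨x, hx, hxQ, hxy⟩ := CfsgLib.FusionFactor.exists_preimage (θ := θ) (hrange ▸ hP') y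
    have hp : p.Prime := Fact.out
    obtain ⟨a, m, hm', hord⟩ := Nat.exists_eq_pow_mul_and_not_dvd (orderOf_pos α).ne' p hp.ne_one
    obtain ⟨c, hc₁, hc₂⟩ :=
      Nat.chineseRemainder (((hp.coprime_iff_not_dvd).mpr hβ).pow_left a).symm 1 0
    obtain ⟨d, rfl⟩ : p ^ a ∣ c := Nat.modEq_zero_iff_dvd.mp hc₂
    have key : ∀ (k : ℕ) (z : Q), θ ⟨((α ^ k) z : Q), hQ ((α ^ k) z).2⟩ =
        (((β : MulAut P') ^ k) ⟨θ ⟨z, hQ z.2⟩, hm z⟩ : P') := by
      intro k
      induction k with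
      | zero => intro z; simp
      | succ k ih =>
        intro z
        have h1 := hie ((α ^ k) z)
        rw [hf'e] at h1
        have e2 : (⟨θ ⟨((α ^ k) z : Q), hQ ((α ^ k) z).2⟩, hm ((α ^ k) z)⟩ : P') =
            ((β : MulAut P') ^ k) ⟨θ ⟨z, hQ z.2⟩, hm z⟩ := Subtype.ext (ih z)
        rw [pow_succ', pow_succ', MulAut.mul_apply, MulAut.mul_apply, ← e2, h1]
        congr 1
        exact Subtype.ext (hαe _)
    have hβc : (β : MulAut P') ^ (p ^ a * d) = β := by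
      conv_rhs => rw [← pow_one (β : MulAut P')]
      rw [← SubgroupClass.coe_pow, ← SubgroupClass.coe_pow]
      exact congrArg Subtype.val (pow_eq_pow_iff_modEq.mpr hc₁)
    have hmem : ((⟨x, hxQ⟩ : Q) : Ω)⁻¹ * (((α ^ (p ^ a * d)) ⟨x, hxQ⟩ : Q) : Ω) ∈ F.hyperfocalSubgroup p := by
      refine Subgroup.subset_closure ⟨Q, ⟨_, Subgroup.pow_mem _ hα (p ^ a * d)⟩, ⟨x, hxQ⟩, hQ, ?_, rfl⟩
      refine Subgroup.subset_closure (Nat.Coprime.symm (hp.coprime_iff_not_dvd.mpr fun hd => hm' ?_))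
      rw [Subgroup.orderOf_mk] at hd
      refine hd.trans (orderOf_dvd_of_pow_eq_one ?_)
      rw [← pow_mul, mul_right_comm, ← hord, pow_mul, pow_orderOf_eq_one, one_pow]
    refine ⟨(⟨x, hx⟩ : S)⁻¹ * ⟨((α ^ (p ^ a * d)) ⟨x, hxQ⟩ : Q), hQ ((α ^ (p ^ a * d)) ⟨x, hxQ⟩).2⟩,
      hmem, ?_⟩
    have hy : (⟨θ ⟨x, hQ hxQ⟩, hm ⟨x, hxQ⟩⟩ : P') = y := Subtype.ext hxy
    rw [map_mul, map_inv, key, hβc, hy, hxy]
  · rw [Subgroup.map_le_iff_le_comap]
    intro s hs
    let X : Subgroup Ω := ((E.hyperfocalSubgroup p).comap θ).map S.subtype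
    suffices h : F.hyperfocalSubgroup p ≤ X by
      obtain ⟨y, hy, e⟩ := h hs
      rwa [← S.subtype_injective e]
    refine hyperfocal_le_of_coprime F X fun P β x hP hβ => ?_
    have := finite_of_le hP
    obtain ⟨f, hf, hfr, hfe⟩ := exists_map_of_mem_autGroup hP β.2
    obtain ⟨φ', hφ', hind⟩ := hFE hf
    set P' := imageAlong θ P
    have hP' : P' ≤ S' := hrange ▸ CfsgLib.FusionFactor.imageAlong_le_range P
    obtain ⟨hP₂, hfS, hm, hie⟩ := hind
    obtain ⟨β', hβ', hβ'e⟩ := exists_aut hφ' (range_eq_of_card_le hφ' hP' (fun y => by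
      obtain ⟨z, hz, hzy⟩ := CfsgLib.FusionFactor.mem_imageAlong.mp y.2
      rw [show y = ⟨θ ⟨z, hP₂ hz⟩, hm ⟨z, hz⟩⟩ from Subtype.ext hzy.symm, hie ⟨(z : Ω), hz⟩]
      exact ⟨⟨f ⟨z, hz⟩, hfS _⟩, hfr.le ⟨_, rfl⟩, rfl⟩) le_rfl)
    have key : ∀ (k : ℕ) (z : P), (((β' ^ k) ⟨θ ⟨z, hP z.2⟩, hm z⟩ : P') : Ω') =
        θ ⟨((((β : MulAut P) ^ k) z : P) : Ω), hP (((β : MulAut P) ^ k) z).2⟩ := by
      intro k
      induction k with
      | zero => intro z; simp
      | succ k ih =>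
        intro z
        have h1 := hie (((β : MulAut P) ^ k) z)
        have e2 : (β' ^ k) ⟨θ ⟨z, hP z.2⟩, hm z⟩ =
            ⟨θ ⟨((((β : MulAut P) ^ k) z : P) : Ω), hP (((β : MulAut P) ^ k) z).2⟩, hm _⟩ := Subtype.ext (ih z)
        rw [pow_succ', pow_succ', MulAut.mul_apply, MulAut.mul_apply, e2, hβ'e, h1]
        congr 1
        exact Subtype.ext (hfe _)
    have hβ'p : Nat.Coprime (orderOf β') p := by
      refine Nat.Coprime.symm ((Fact.out : p.Prime).coprime_iff_not_dvd.mpr fun hd => hβ ?_)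
      refine hd.trans (orderOf_dvd_of_pow_eq_one (MulEquiv.ext fun y => Subtype.ext ?_))
      obtain ⟨z, hz, hzy⟩ := CfsgLib.FusionFactor.mem_imageAlong.mp y.2
      rw [show y = ⟨θ ⟨z, hP hz⟩, hm ⟨z, hz⟩⟩ from Subtype.ext hzy.symm, key (orderOf β) ⟨(z : Ω), hz⟩,
        ← SubgroupClass.coe_pow, pow_orderOf_eq_one]
      rfl
    refine ⟨(⟨x, hP x.2⟩ : S)⁻¹ * ⟨_, hP ((β : MulAut P) x).2⟩, ?_, rfl⟩
    show θ _ ∈ E.hyperfocalSubgroup p
    rw [map_mul, map_inv]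
    refine Subgroup.subset_closure ⟨P', ⟨β', hβ'⟩, ⟨θ ⟨x, hP x.2⟩, hm x⟩, hP', ?_, ?_⟩
    · exact Subgroup.subset_closure (show Nat.Coprime _ p by rwa [Subgroup.orderOf_mk])
    · have := key 1 x
      simp only [pow_one] at this
      rw [this]

end Cfsg.Agent.S5256
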