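import Cfsg.Statements.S5259
import Cfsg.Agent.Lib.Fusion.HeisenbergCore
import Cfsg.Agent.Lib.AutPSL.Unitriangular

set_option autoImplicit false
open Cfsg

namespace Cfsg.Agent.S5259

open CfsgLib.AutPSL CfsgLib.Fusion.HeisenbergCore
open scoped commutatorElement

section

variable {K : Type*} [Field K] [Fintype K]

/-- The element of the unitriangular group with the given entries. -/
def u3 (a b c : K) : uni 3 K :=
  ⟨⟨!![1, a, c; 0, 1, b; 0, 0, 1], by simp [Matrix.det_fin_three]⟩, by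
    intro i j hij
    fin_cases i <;> fin_cases j <;> simp_all⟩

theorem exists_u3 (x : uni 3 K) : ∃ a b c : K, u3 a b c = x := by
  refine ⟨x.1.1 0 1, x.1.1 1 2, x.1.1 0 2, ?_⟩
  apply Subtype.ext; apply Subtype.ext
  ext i j
  have hx := x.2
  fin_cases i <;> fin_cases j <;> simp [u3]
  all_goals
    first
      | exact ((hx _ _ (by decide)).trans (if_pos (by decide))).symm
      | exact ((hx _ _ (by decide)).trans (if_neg (by decide))).symm

theorem u3_mul (a b c a' b' c' : K) : u3 a b c * u3 a' b' c' = u3 (a + a') (b + b') (c + c' + a * b') := by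
  apply Subtype.ext; apply Subtype.ext
  rw [Subgroup.coe_mul, Matrix.SpecialLinearGroup.coe_mul]
  ext i j
  fin_cases i <;> fin_cases j <;> simp [u3, Matrix.mul_apply, Fin.sum_univ_three] <;> ring

theorem u3_eq {a b c a' b' c' : K} : u3 a b c = u3 a' b' c' ↔ a = a' ∧ b = b' ∧ c = c' := by
  refine ⟨fun h => ?_, fun ⟨h₁, h₂, h₃⟩ => by rw [h₁, h₂, h₃]⟩
  have e : ∀ i j, (u3 a b c).1.1 i j = (u3 a' b' c').1.1 i j := fun i j => by rw [h]
  exact ⟨by simpa [u3] using e 0 1, by simpa [u3] using e 1 2, by simpa [u3] using e 0 2⟩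

theorem u3_commute {a b c a' b' c' : K} :
    u3 a b c * u3 a' b' c' = u3 a' b' c' * u3 a b c ↔ a * b' = a' * b := by
  rw [u3_mul, u3_mul, u3_eq]
  constructor
  · rintro ⟨-, -, h⟩; linear_combination h
  · intro h; exact ⟨add_comm _ _, add_comm _ _, by linear_combination h⟩

theorem u3_center {a b c : K} : u3 a b c ∈ Subgroup.center (uni 3 K) ↔ a = 0 ∧ b = 0 := by
  rw [Subgroup.mem_center_iff]
  constructor
  · intro h
    have h1 := u3_commute.mp (h (u3 1 0 0))
    have h2 := u3_commute.mp (h (u3 0 1 0))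
    simp at h1 h2
    exact ⟨h2.symm, h1⟩
  · rintro ⟨rfl, rfl⟩ x
    obtain ⟨a', b', c', rfl⟩ := exists_u3 x
    rw [u3_commute]; ring

theorem u3_commutator (a b c a' b' c' : K) :
    ⁅u3 a b c, u3 a' b' c'⁆ = u3 0 0 (a * b' - a' * b) := by
  have h : u3 a b c * u3 a' b' c' = u3 0 0 (a * b' - a' * b) * (u3 a' b' c' * u3 a b c) := by
    simp only [u3_mul, u3_eq]
    refine ⟨by ring, by ring, by ring⟩
  rw [commutatorElement_def, h]
  group

theorem isHeis_uni : IsHeis (uni 3 K) := by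
  refine ⟨fun x y => ?_, fun x hx z hz => ?_, fun x hx a b ha hb => ?_⟩
  · obtain ⟨a, b, c, rfl⟩ := exists_u3 x
    obtain ⟨a', b', c', rfl⟩ := exists_u3 y
    rw [u3_commutator, u3_center]; exact ⟨rfl, rfl⟩
  · obtain ⟨a, b, c, rfl⟩ := exists_u3 x
    obtain ⟨a', b', c', rfl⟩ := exists_u3 z
    obtain ⟨rfl, rfl⟩ := u3_center.mp hz
    by_cases h : b = 0
    · subst h
      have ha : a ≠ 0 := fun h => hx (u3_center.mpr ⟨h, rfl⟩)
      refine ⟨u3 0 (-c' / a) 0, ?_⟩
      rw [u3_commutator, u3_eq]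
      exact ⟨rfl, rfl, by field_simp; ring⟩
    · refine ⟨u3 (c' / b) 0 0, ?_⟩
      rw [u3_commutator, u3_eq]
      exact ⟨rfl, rfl, by field_simp; ring⟩
  · obtain ⟨u, v, w, rfl⟩ := exists_u3 x
    obtain ⟨a₁, b₁, c₁, rfl⟩ := exists_u3 a
    obtain ⟨a₂, b₂, c₂, rfl⟩ := exists_u3 b
    rw [u3_commute] at ha hb ⊢
    by_cases h : v = 0
    · subst h
      have hu : u ≠ 0 := fun h => hx (u3_center.mpr ⟨h, rfl⟩)
      have h1 : b₁ = 0 := (mul_eq_zero.mp (by simpa using ha.symm)).resolve_left hu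
      have h2 : b₂ = 0 := (mul_eq_zero.mp (by simpa using hb.symm)).resolve_left hu
      simp [h1, h2]
    · refine mul_right_cancel₀ h ?_
      linear_combination b₂ * ha - b₁ * hb

theorem isHeis_sylow {p : ℕ} [Fact p.Prime] [CharP K p] (T : Sylow p (Matrix.SpecialLinearGroup (Fin 3) K)) :
    IsHeis ↥(T : Subgroup (Matrix.SpecialLinearGroup (Fin 3) K)) := by
  let U : Sylow p (Matrix.SpecialLinearGroup (Fin 3) K) :=
    (isPGroup_uni (n := 3) (F := K)).toSylow (not_dvd_index_uni (by norm_num))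
  exact (isHeis_uni (K := K)).of_mulEquiv (T.equiv U)

end

/-- Let p be a prime, K a finite field of characteristic p, and S a finite p-group isomorphic to a Sylow p-subgroup of SL₃(K). Then every exotic fusion system F over S (saturated but not the fusion system of a finite group on a Sylow p-subgroup) has no nontrivial normal subgroup: O_p(F) = 1. -/
theorem result {Ω : Type*} [Group Ω] {S : Subgroup Ω} [Finite S] (p : ℕ) [Fact p.Prime] (hS : IsPGroup p S) (F : Cfsg.FusionSystem S) (hF : F.IsSaturated p) {K : Type*} [Field K] [Fintype K] [CharP K p] (T : Sylow p (Matrix.SpecialLinearGroup (Fin 3) K)) (e : ↥S ≃* ↥(T : Subgroup (Matrix.SpecialLinearGroup (Fin 3) K))) (hex : F.IsExotic p) : F.core = ⊥ := by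
  by_contra hcore
  exact hex.2 (isRealizable_of_core_ne_bot ((isHeis_sylow T).of_mulEquiv e) hS hF hcore)

end Cfsg.Agent.S5259
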