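import Cfsg.Statements.S5264
import Cfsg.Agent.Lib.Fusion.OrderFifthCube
import Cfsg.Agent.Lib.Fusion.OrderFifthPearl

set_option autoImplicit false
open Cfsg

namespace Cfsg.Agent.S5264

/-- Let p be an odd prime other than 7, S a finite p-group of order p^5, and F a saturated fusion system over S with no nontrivial normal subgroup and with hyperfocal subgroup equal to S (so F is its own p-residual subsystem). Then S has an abelian subgroup of index p. -/
theorem result {Ω : Type*} [Group Ω] {S : Subgroup Ω} [Finite S] (p : ℕ) [Fact p.Prime] (hS : IsPGroup p ↥S) (F : Cfsg.FusionSystem S) (hF : F.IsSaturated p) (hp : p ≠ 2) (hp7 : p ≠ 7) (hcard : Nat.card S = p ^ 5) (hcore : F.core = ⊥) (hhyp : F.hyperfocalSubgroup p = S) : ∃ A : Subgroup Ω, A ≤ S ∧ IsMulCommutative ↥A ∧ (A.subgroupOf S).index = p := by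
  by_contra hcon
  push Not at hcon
  have hna : CfsgLib.FusionFifth.NoAbel S p := fun A hA hc => hcon A hA hc
  by_cases h3 : ∃ E, F.IsEssential p E ∧ Nat.card E = p ^ 3 ∧ IsElementaryAbelian p E
  · obtain ⟨E, hE, hcE, hel⟩ := h3
    exact CfsgLib.FusionFifth.false_of_cube hS hF hp hcard hna hhyp hE hcE hel
  obtain ⟨E, hE, hcE, hel⟩ := CfsgLib.FusionFifth.exists_elementary hS hF hp hcard hna hcore
  exact CfsgLib.FusionFifth.false_of_pearl hS hF hp hp7 hcard hna hhyp
    (fun X hX hcX helX => h3 ⟨X, hX, hcX, helX⟩) hE (hcE.resolve_right fun h => h3 ⟨E, hE, h, hel⟩) hel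

end Cfsg.Agent.S5264
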