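import Cfsg.Statements.S5265
import Cfsg.Agent.Lib.Fusion.Normal
import Cfsg.Agent.Lib.Fusion.Hyperfocal
import Cfsg.Agent.Lib.Fusion.Alperin
import Cfsg.Agent.Lib.Fusion.PEmbedded
import Cfsg.Agent.Lib.PCore.Basic
import Cfsg.Agent.Lib.PGroup.Class2
import Cfsg.Agent.Lib.PGroup.Frattini
import Cfsg.Agent.Lib.Small.OrderEight

/-!
Saturated fusion systems over a group whose centre has index at most `p ^ 2`.
-/

set_option autoImplicit false
open Cfsg

namespace Cfsg.Agent.S5265Aux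

section abstract

variable {p : ℕ} [hp : Fact p.Prime] {K : Type*} [CommGroup K]

/-- The fixed points of an automorphism. -/
def fixed (u : MulAut K) : Subgroup K := MonoidHom.eqLocus u.toMonoidHom (MonoidHom.id K)

theorem mem_fixed {u : MulAut K} {x : K} : x ∈ fixed u ↔ u x = x := Iff.rfl

/-- The automizer of an abelian essential subgroup of index `p`. -/
structure Setting (p : ℕ) (A : Subgroup (MulAut K)) (u : MulAut K) (c : K) : Prop where
  pgrp : IsPGroup p K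
  uA : u ∈ A
  c1 : c ≠ 1
  cp : c ^ p = 1
  uc : u c = c
  une : u ≠ 1
  move : ∀ x, x⁻¹ * u x ∈ Subgroup.zpowers c
  syl : ∀ H : Subgroup (MulAut K), H ≤ A → IsPGroup p H → u ∈ H → H ≤ Subgroup.zpowers u
  notNormal : ∃ a ∈ A, a * u * a⁻¹ ∉ Subgroup.zpowers u

theorem zpowers_eq {G : Type*} [Group G] {c z : G} (hc : c ^ p = 1) (hz : z ∈ Subgroup.zpowers c)
    (hz1 : z ≠ 1) : Subgroup.zpowers z = Subgroup.zpowers c := by
  have hc1 : c ≠ 1 := by
    rintro rfl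
    exact hz1 (by simpa using hz)
  have ho := orderOf_eq_prime hc hc1
  have : Finite (Subgroup.zpowers c) := Nat.finite_of_card_ne_zero (by
    rw [Nat.card_zpowers, ho]; exact hp.out.ne_zero)
  refine Subgroup.eq_of_le_of_card_ge (Subgroup.zpowers_le.mpr hz) ?_
  rw [Nat.card_zpowers, Nat.card_zpowers, ho]
  have hzp : z ^ p = 1 := by
    obtain ⟨n, rfl⟩ := Subgroup.mem_zpowers_iff.mp hz
    rw [← zpow_natCast (c ^ n), ← zpow_mul, mul_comm, zpow_mul, zpow_natCast, hc, one_zpow]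
  rw [orderOf_eq_prime hzp hz1]

theorem pow_move {a : MulAut K} {x z : K} (hx : a x = x * z) (hz : a z = z) (n : ℕ) :
    (a ^ n) x = x * z ^ n := by
  induction n with
  | zero => simp
  | succ n ih =>
    rw [pow_succ', MulAut.mul_apply, ih, map_mul, map_pow, hx, hz, pow_succ', mul_assoc]

variable {A : Subgroup (MulAut K)} {u : MulAut K} {c : K}

theorem fix_of_mem_zpowers {a b : MulAut K} (hb : b ∈ Subgroup.zpowers a) {x : K} (hx : a x = x) :
    b x = x :=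
  (Subgroup.zpowers_le.mpr (show a ∈ MulAction.stabilizer (MulAut K) x from hx)) hb

theorem Setting.u_pow (h : Setting p A u c) : u ^ p = 1 := by
  refine MulEquiv.ext fun x => ?_
  obtain ⟨n, hn⟩ := Subgroup.mem_zpowers_iff.mp (h.move x)
  rw [pow_move (show u x = x * c ^ n by rw [hn, mul_inv_cancel_left]) (by rw [map_zpow, h.uc]) p,
    ← zpow_natCast (c ^ n), ← zpow_mul, mul_comm n, zpow_mul, zpow_natCast, h.cp, one_zpow, mul_one]
  rfl

theorem Setting.mem_of_stab (h : Setting p A u c) {a : MulAut K} (ha : a ∈ A) (hac : a c = c)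
    (hm : ∀ x, x⁻¹ * a x ∈ Subgroup.zpowers c) : a ∈ Subgroup.zpowers u := by
  let N : Subgroup (MulAut K) :=
    { carrier := {b | b ∈ A ∧ b c = c ∧ ∀ x, x⁻¹ * b x ∈ Subgroup.zpowers c}
      one_mem' := ⟨A.one_mem, rfl, fun x => by simp⟩
      mul_mem' := fun {a b} ha hb => ⟨A.mul_mem ha.1 hb.1, by rw [MulAut.mul_apply, hb.2.1, ha.2.1],
        fun x => by
          have := Subgroup.mul_mem _ (hb.2.2 x) (ha.2.2 (b x))
          rwa [mul_assoc, mul_inv_cancel_left] at this⟩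
      inv_mem' := fun {a} ha => ⟨A.inv_mem ha.1, by
          conv_lhs => rw [← ha.2.1, MulAut.inv_apply_self],
        fun x => by
          have := Subgroup.inv_mem _ (ha.2.2 (a⁻¹ x))
          rwa [MulAut.apply_inv_self, mul_inv_rev, inv_inv] at this⟩ }
  refine h.syl N (fun b hb => hb.1) (fun b => ⟨1, Subtype.ext (MulEquiv.ext fun x => ?_)⟩)
    ⟨h.uA, h.uc, h.move⟩ ⟨ha, hac, hm⟩
  obtain ⟨n, hn⟩ := Subgroup.mem_zpowers_iff.mp (b.2.2.2 x)
  rw [pow_one, SubgroupClass.coe_pow,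
    pow_move (show (b : MulAut K) x = x * c ^ n by rw [hn, mul_inv_cancel_left])
      (by rw [map_zpow, b.2.2.1]) p,
    ← zpow_natCast (c ^ n), ← zpow_mul, mul_comm n, zpow_mul, zpow_natCast, h.cp, one_zpow, mul_one]
  rfl

theorem Setting.conj_move (h : Setting p A u c) (a : MulAut K) (x : K) :
    x⁻¹ * (a * u * a⁻¹) x ∈ Subgroup.zpowers (a c) := by
  obtain ⟨n, hn⟩ := Subgroup.mem_zpowers_iff.mp (h.move (a⁻¹ x))
  refine Subgroup.mem_zpowers_iff.mpr ⟨n, ?_⟩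
  rw [← map_zpow, hn, map_mul, map_inv, MulAut.apply_inv_self]
  rfl

theorem Setting.conj_fix (h : Setting p A u c) (a : MulAut K) : (a * u * a⁻¹) (a c) = a c := by
  rw [MulAut.mul_apply, MulAut.mul_apply, MulAut.inv_apply_self, h.uc]

theorem Setting.conj_zpowers_eq (h : Setting p A u c) {a b : MulAut K}
    (hab : a * u * a⁻¹ ∈ Subgroup.zpowers (b * u * b⁻¹)) :
    Subgroup.zpowers (a * u * a⁻¹) = Subgroup.zpowers (b * u * b⁻¹) := by
  refine zpowers_eq (by rw [conj_pow, h.u_pow, mul_one, mul_inv_cancel]) hab fun e => h.une ?_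
  rwa [conj_eq_one_iff] at e

theorem Setting.key (h : Setting p A u c) {a : MulAut K} (ha : a ∈ A)
    (hn : a * u * a⁻¹ ∉ Subgroup.zpowers u) : (a * u * a⁻¹) c ≠ c := by
  intro hc
  set v := a * u * a⁻¹ with hv
  have hvA : v ∈ A := A.mul_mem (A.mul_mem ha h.uA) (A.inv_mem ha)
  have hc' : ∀ b : MulAut K, b ∈ Subgroup.zpowers v → b c = c := fun b hb => fix_of_mem_zpowers hb hc
  have hw : v * u * v⁻¹ ∈ Subgroup.zpowers u :=
    h.mem_of_stab (A.mul_mem (A.mul_mem hvA h.uA) (A.inv_mem hvA))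
      (by
        have := h.conj_fix v
        rwa [hc] at this)
      (fun x => by
        have := h.conj_move v x
        rwa [hc] at this)
  let N : Subgroup (MulAut K) := Subgroup.zpowers u ⊔ Subgroup.zpowers v
  have hnorm : Subgroup.zpowers v ≤ Subgroup.normalizer (Subgroup.zpowers u : Set (MulAut K)) := by
    rw [Subgroup.zpowers_le, Subgroup.mem_normalizer_iff]
    have e : (Subgroup.zpowers u).map (MulAut.conj v).toMonoidHom = Subgroup.zpowers u := by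
      rw [MonoidHom.map_zpowers]
      show Subgroup.zpowers (v * u * v⁻¹) = _
      refine zpowers_eq h.u_pow hw fun e => h.une ?_
      rwa [conj_eq_one_iff] at e
    intro x
    constructor
    · intro hx
      rw [← e]; exact ⟨x, hx, rfl⟩
    · intro hx
      obtain ⟨y, hy, hyx⟩ := e.ge hx
      have : y = x := (MulAut.conj v).injective hyx
      rwa [← this]
  have hpu : IsPGroup p (Subgroup.zpowers u) := IsPGroup.of_card (n := 1) (by
    rw [Nat.card_zpowers, orderOf_eq_prime h.u_pow h.une, pow_one])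
  have hpv : IsPGroup p (Subgroup.zpowers v) := IsPGroup.of_card (n := 1) (by
    rw [Nat.card_zpowers, orderOf_eq_prime (show v ^ p = 1 by
      rw [hv, conj_pow, h.u_pow, mul_one, mul_inv_cancel]) (fun e => h.une (by
      rwa [hv, conj_eq_one_iff] at e)), pow_one])
  have hN : IsPGroup p N := IsPGroup.to_sup_of_normal_left' hpu hpv hnorm
  exact hn (h.syl N (sup_le (Subgroup.zpowers_le.mpr h.uA) (Subgroup.zpowers_le.mpr hvA)) hN
    (Subgroup.mem_sup_left (Subgroup.mem_zpowers u)) (Subgroup.mem_sup_right (Subgroup.mem_zpowers v)))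

theorem Setting.pair (h : Setting p A u c) {a b : MulAut K} (ha : a ∈ A) (hb : b ∈ A)
    (hfix : (a * u * a⁻¹) (b c) = b c) : b * u * b⁻¹ ∈ Subgroup.zpowers (a * u * a⁻¹) := by
  set g := a⁻¹ * b with hg
  have hgA : g ∈ A := A.mul_mem (A.inv_mem ha) hb
  have hu : u (g c) = g c := by
    have := congrArg (a⁻¹ : MulAut K) hfix
    rwa [MulAut.mul_apply, MulAut.mul_apply, MulAut.inv_apply_self] at this
  have hmem : g * u * g⁻¹ ∈ Subgroup.zpowers u := by
    by_contra hn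
    have hn' : g⁻¹ * u * g⁻¹⁻¹ ∉ Subgroup.zpowers u := fun hm => hn (by
      have e := h.conj_zpowers_eq (a := g⁻¹) (b := 1) (by simpa using hm)
      rw [one_mul, inv_one, mul_one, inv_inv] at e
      obtain ⟨n, hn2⟩ := Subgroup.mem_zpowers_iff.mp (e.ge (Subgroup.mem_zpowers u))
      refine Subgroup.mem_zpowers_iff.mpr ⟨n, ?_⟩
      calc u ^ n = g * (g⁻¹ * u * g) ^ n * g⁻¹ := by
              have := conj_zpow (a := g⁻¹) (b := u) (i := n)
              rw [inv_inv] at this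
              rw [this]; group
        _ = g * u * g⁻¹ := by rw [hn2])
    refine h.key (A.inv_mem hgA) hn' ?_
    rw [inv_inv, MulAut.mul_apply, MulAut.mul_apply, hu, MulAut.inv_apply_self]
  obtain ⟨n, hn⟩ := Subgroup.mem_zpowers_iff.mp hmem
  refine Subgroup.mem_zpowers_iff.mpr ⟨n, ?_⟩
  rw [conj_zpow, hn, hg]
  group

theorem Setting.key2 (h : Setting p A u c) {a : MulAut K} (ha : a ∈ A)
    (hn : a * u * a⁻¹ ∉ Subgroup.zpowers u) : u (a c) ≠ a c := fun hf => hn (by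
  simpa using h.pair A.one_mem ha (by simpa using hf))

theorem Setting.line_mem (h : Setting p A u c) {a b : MulAut K} (hab : a * u * a⁻¹ = b * u * b⁻¹) :
    a c ∈ Subgroup.zpowers (b c) := by
  obtain ⟨x, hx⟩ : ∃ x, u x ≠ x := by
    by_contra hall
    push Not at hall
    exact h.une (MulEquiv.ext hall)
  have hgen : Subgroup.zpowers (x⁻¹ * u x) = Subgroup.zpowers c :=
    zpowers_eq h.cp (h.move x) fun e => hx (inv_mul_eq_one.mp e).symm
  obtain ⟨n, hn⟩ := Subgroup.mem_zpowers_iff.mp (hgen.ge (Subgroup.mem_zpowers c))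
  rw [show a c = a (x⁻¹ * u x) ^ n by rw [← map_zpow, hn]]
  refine Subgroup.zpow_mem _ ?_ n
  have := h.conj_move b (a x)
  rw [← hab, MulAut.mul_apply, MulAut.mul_apply, MulAut.inv_apply_self] at this
  rwa [map_mul, map_inv]

/-- The elements whose orbit is fixed by `u`. -/
def core (A : Subgroup (MulAut K)) (u : MulAut K) : Subgroup K where
  carrier := {x | ∀ b ∈ A, u (b x) = b x}
  one_mem' := fun b _ => by simp
  mul_mem' := fun {x y} hx hy b hb => by simp [hx b hb, hy b hb]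
  inv_mem' := fun {x} hx b hb => by simp [hx b hb]

theorem Setting.decompZ (h : Setting p A u c) {a : MulAut K} (ha : a ∈ A)
    (hn : a * u * a⁻¹ ∉ Subgroup.zpowers u) {z : K} (hz : u z = z) :
    ∃ w, ∃ i : ℤ, u w = w ∧ (a * u * a⁻¹) w = w ∧ z = w * c ^ i := by
  set v := a * u * a⁻¹ with hv
  have hap : (a c) ^ p = 1 := by rw [← map_pow, h.cp, map_one]
  have hgen := zpowers_eq hap (h.conj_move a c) fun e => h.key ha hn (inv_mul_eq_one.mp e).symm
  obtain ⟨k, hk⟩ := Subgroup.mem_zpowers_iff.mp (hgen.ge (h.conj_move a z))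
  have hk' : z⁻¹ * v z = (c⁻¹ * v c) ^ k := hk.symm
  refine ⟨z * c ^ (-k), k, by rw [map_mul, map_zpow, hz, h.uc], ?_, by group⟩
  rw [map_mul, map_zpow, eq_mul_of_inv_mul_eq hk', mul_zpow, inv_zpow', mul_comm (c ^ (-k)) ((v c) ^ k),
    mul_assoc, mul_assoc, mul_comm (c ^ (-k)), ← mul_assoc ((v c) ^ k), ← zpow_add]
  simp

theorem Setting.decomp (h : Setting p A u c) {a : MulAut K} (ha : a ∈ A)
    (hn : a * u * a⁻¹ ∉ Subgroup.zpowers u) (x : K) :
    ∃ w, ∃ i j : ℤ, u w = w ∧ (a * u * a⁻¹) w = w ∧ x = w * c ^ i * (a c) ^ j := by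
  have hgen := zpowers_eq h.cp (h.move (a c)) fun e => h.key2 ha hn (inv_mul_eq_one.mp e).symm
  obtain ⟨k, hk⟩ := Subgroup.mem_zpowers_iff.mp (hgen.ge (h.move x))
  have hz : u (x * (a c) ^ (-k)) = x * (a c) ^ (-k) := by
    rw [map_mul, map_zpow, eq_mul_of_inv_mul_eq hk.symm, mul_zpow, inv_zpow',
      mul_comm ((a c) ^ (-k)) ((u (a c)) ^ k), mul_assoc, mul_assoc, mul_comm ((a c) ^ (-k)),
      ← mul_assoc ((u (a c)) ^ k), ← zpow_add]
    simp
  obtain ⟨w, i, h1, h2, h3⟩ := h.decompZ ha hn hz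
  refine ⟨w, i, k, h1, h2, ?_⟩
  rw [← h3, mul_assoc, ← zpow_add, neg_add_cancel, zpow_zero, mul_one]

/-- The rotation `c ↦ a c ↦ c⁻¹`. -/
theorem Setting.exists_rot (h : Setting p A u c) {a : MulAut K} (ha : a ∈ A)
    (hn : a * u * a⁻¹ ∉ Subgroup.zpowers u) :
    ∃ g ∈ A, g c = a c ∧ g (a c) = c⁻¹ ∧ ∀ w, u w = w → (a * u * a⁻¹) w = w → g w = w := by
  set v := a * u * a⁻¹ with hv
  set y := a c with hy
  have hyp : y ^ p = 1 := by rw [hy, ← map_pow, h.cp, map_one]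
  have hvy : v y = y := h.conj_fix a
  have hvA : v ∈ A := A.mul_mem (A.mul_mem ha h.uA) (A.inv_mem ha)
  have hfo : IsOfFinOrder c := isOfFinOrder_iff_pow_eq_one.mpr ⟨p, hp.out.pos, h.cp⟩
  have hfy : IsOfFinOrder y := isOfFinOrder_iff_pow_eq_one.mpr ⟨p, hp.out.pos, hyp⟩
  have g1 := zpowers_eq h.cp (h.move y) fun e => h.key2 ha hn (inv_mul_eq_one.mp e).symm
  have g2 := zpowers_eq hyp (h.conj_move a c) fun e => h.key ha hn (inv_mul_eq_one.mp e).symm
  obtain ⟨z1, hz1⟩ := Subgroup.mem_zpowers_iff.mp (h.move y)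
  obtain ⟨z2, hz2⟩ := Subgroup.mem_zpowers_iff.mp (h.conj_move a c)
  have f1 : u (y⁻¹ * u y) = y⁻¹ * u y := by rw [← hz1, map_zpow, h.uc]
  have f2 : v (c⁻¹ * v c) = c⁻¹ * v c := by rw [← hz2, map_zpow, hvy]
  have o1 : IsOfFinOrder (y⁻¹ * u y) := hz1 ▸ hfo.zpow
  have o2 : IsOfFinOrder (c⁻¹ * v c) := hz2 ▸ hfy.zpow
  obtain ⟨i, hi⟩ := o1.mem_powers_iff_mem_zpowers.mpr (g1.ge (Subgroup.mem_zpowers c))
  obtain ⟨j, hj⟩ := o2.mem_powers_iff_mem_zpowers.mpr (g2.ge (Subgroup.mem_zpowers y))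
  have hi' : (y⁻¹ * u y) ^ i = c := hi
  have hj' : (c⁻¹ * v c) ^ j = y := hj
  have hu1 : (u ^ i) y = y * c := by rw [pow_move (mul_inv_cancel_left y (u y)).symm f1 i, hi']
  have hu1c : (u ^ i) c = c := fix_of_mem_zpowers (Subgroup.npow_mem_zpowers u i) h.uc
  have hv1 : (v ^ j) c = c * y := by rw [pow_move (mul_inv_cancel_left c (v c)).symm f2 j, hj']
  have hv1y : (v ^ j) y = y := fix_of_mem_zpowers (Subgroup.npow_mem_zpowers v j) hvy
  have hinvc : (u ^ i)⁻¹ c = c := by conv_lhs => rw [← hu1c, MulAut.inv_apply_self]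
  have hinvy : (u ^ i)⁻¹ y = y * c⁻¹ := by
    conv_lhs => rw [← mul_inv_cancel_right y c, ← hu1]
    rw [map_mul, map_inv, MulAut.inv_apply_self, hinvc]
  refine ⟨(u ^ i)⁻¹ * v ^ j * (u ^ i)⁻¹,
    A.mul_mem (A.mul_mem (A.inv_mem (A.pow_mem h.uA i)) (A.pow_mem hvA j)) (A.inv_mem (A.pow_mem h.uA i)),
    ?_, ?_, fun w h1 h2 => ?_⟩
  · rw [MulAut.mul_apply, MulAut.mul_apply, hinvc, hv1, map_mul, hinvc, hinvy, mul_comm y, mul_inv_cancel_left]
  · rw [MulAut.mul_apply, MulAut.mul_apply, hinvy, map_mul, map_inv, hv1y, hv1, map_mul, map_inv, map_mul,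
      hinvy, hinvc]
    group
  · have e1 : (u ^ i)⁻¹ w = w :=
      fix_of_mem_zpowers (inv_mem (Subgroup.npow_mem_zpowers u i)) h1
    rw [MulAut.mul_apply, MulAut.mul_apply, e1, fix_of_mem_zpowers (Subgroup.npow_mem_zpowers v j) h2, e1]

/-- The reflection inverting the two lines. -/
theorem Setting.exists_refl (h : Setting p A u c) {a : MulAut K} (ha : a ∈ A)
    (hn : a * u * a⁻¹ ∉ Subgroup.zpowers u) :
    ∃ r ∈ A, r * u = u * r ∧ r c = c⁻¹ ∧ (∀ w, u w = w → (a * u * a⁻¹) w = w → r w = w) ∧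
      ∀ x, u (x * r x) = x * r x := by
  obtain ⟨g, hgA, hgc, hgy, hgw⟩ := h.exists_rot ha hn
  have e1 : (g * g) c = c⁻¹ := by rw [MulAut.mul_apply, hgc, hgy]
  have e2 : (g * g) (a c) = (a c)⁻¹ := by rw [MulAut.mul_apply, hgy, map_inv, hgc]
  have e3 : ∀ w, u w = w → (a * u * a⁻¹) w = w → (g * g) w = w := fun w h1 h2 => by
    rw [MulAut.mul_apply, hgw w h1 h2, hgw w h1 h2]
  refine ⟨g * g, A.mul_mem hgA hgA, MulEquiv.ext fun x => ?_, e1, e3, fun x => ?_⟩
  · obtain ⟨w, i, j, h1, h2, rfl⟩ := h.decomp ha hn x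
    obtain ⟨n, hn'⟩ := Subgroup.mem_zpowers_iff.mp (h.move (a c))
    have hu : u (a c) = a c * c ^ n := by rw [hn', mul_inv_cancel_left]
    have h3 : (g * g) w = w := e3 w h1 h2
    show (g * g) (u _) = u ((g * g) _)
    simp only [map_mul u, map_zpow u, map_mul (g * g), map_zpow (g * g), h1, h.uc, hu, h3, e1, e2, map_inv u,
      inv_zpow']
    rw [← inv_zpow' (a c * c ^ n) j, mul_inv (a c), ← zpow_neg c n]
  · obtain ⟨w, i, j, h1, h2, rfl⟩ := h.decomp ha hn x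
    have h3 : (g * g) w = w := e3 w h1 h2
    have : w * c ^ i * (a c) ^ j * (g * g) (w * c ^ i * (a c) ^ j) = w * w := by
      simp only [map_mul (g * g), map_zpow (g * g), h3, e1, e2, inv_zpow]
      rw [mul_mul_mul_comm, mul_mul_mul_comm w, mul_inv_cancel, mul_one, mul_inv_cancel, mul_one]
    rw [this, map_mul, h1]

theorem Setting.fixed_all_odd (h : Setting p A u c) (hp2 : p ≠ 2) [Finite K] {a b : MulAut K}
    (ha : a ∈ A) (hb : b ∈ A) (han : a * u * a⁻¹ ∉ Subgroup.zpowers u)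
    (hbn : b * u * b⁻¹ ∉ Subgroup.zpowers u) {z : K} (hzu : u z = z) (hz : (a * u * a⁻¹) z = z) :
    (b * u * b⁻¹) z = z := by
  obtain ⟨r, hrA, hru, hrc, hrw, hrx⟩ := h.exists_refl ha han
  obtain ⟨r', hrA', hru', hrc', hrw', hrx'⟩ := h.exists_refl hb hbn
  let N : Subgroup (MulAut K) :=
    { carrier := {g | g ∈ A ∧ g * u = u * g ∧ g c = c ∧ (∀ t, u t = t → t⁻¹ * g t ∈ Subgroup.zpowers c) ∧
        ∀ x, x⁻¹ * g x ∈ fixed u}
      one_mem' := ⟨A.one_mem, by simp, rfl, fun t _ => by simp, fun x => by simp⟩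
      mul_mem' := fun {g k} hg hk => ⟨A.mul_mem hg.1 hk.1,
        by rw [mul_assoc, hk.2.1, ← mul_assoc, hg.2.1, mul_assoc],
        by rw [MulAut.mul_apply, hk.2.2.1, hg.2.2.1],
        fun t ht => by
          have hkt : u (k t) = k t := by rw [← MulAut.mul_apply, ← hk.2.1, MulAut.mul_apply, ht]
          have := Subgroup.mul_mem _ (hk.2.2.2.1 t ht) (hg.2.2.2.1 (k t) hkt)
          rwa [mul_assoc, mul_inv_cancel_left] at this,
        fun x => by
          have := Subgroup.mul_mem _ (hk.2.2.2.2 x) (hg.2.2.2.2 (k x))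
          rwa [mul_assoc, mul_inv_cancel_left] at this⟩
      inv_mem' := fun {g} hg => ⟨A.inv_mem hg.1,
        by rw [inv_mul_eq_iff_eq_mul, ← mul_assoc, hg.2.1, mul_inv_cancel_right],
        by conv_lhs => rw [← hg.2.2.1, MulAut.inv_apply_self],
        fun t ht => by
          have hgt : u (g⁻¹ t) = g⁻¹ t := by
            apply g.injective
            rw [← MulAut.mul_apply _ g, hg.2.1, MulAut.mul_apply, MulAut.apply_inv_self, ht]
          have := Subgroup.inv_mem _ (hg.2.2.2.1 (g⁻¹ t) hgt)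
          rwa [MulAut.apply_inv_self, mul_inv_rev, inv_inv] at this,
        fun x => by
          have := Subgroup.inv_mem _ (hg.2.2.2.2 (g⁻¹ x))
          rwa [MulAut.apply_inv_self, mul_inv_rev, inv_inv] at this⟩ }
  obtain ⟨e, he⟩ := IsPGroup.iff_card.mp h.pgrp
  have hNp : IsPGroup p N := fun g => ⟨1 + e, Subtype.ext (MulEquiv.ext fun x => by
    obtain ⟨hgA, hgu, hgc, hgt, hgx⟩ := g.2
    have hfix : ∀ t, u t = t → ((g : MulAut K) ^ p) t = t := fun t ht => by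
      obtain ⟨n, hn⟩ := Subgroup.mem_zpowers_iff.mp (hgt t ht)
      rw [pow_move (show (g : MulAut K) t = t * c ^ n by rw [hn, mul_inv_cancel_left])
        (by rw [map_zpow, hgc]) p, ← zpow_natCast (c ^ n), ← zpow_mul, mul_comm n, zpow_mul, zpow_natCast,
        h.cp, one_zpow, mul_one]
    have hgp : x⁻¹ * ((g : MulAut K) ^ p) x ∈ fixed u := (g ^ p : N).2.2.2.2.2 x
    rw [SubgroupClass.coe_pow, pow_add, pow_one, pow_mul,
      pow_move (mul_inv_cancel_left x (((g : MulAut K) ^ p) x)).symm (hfix _ hgp) (p ^ e), ← he,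
      pow_card_eq_one', mul_one]
    rfl)⟩
  have huN : u ∈ N := ⟨h.uA, rfl, h.uc, fun t ht => by rw [ht, inv_mul_cancel]; exact Subgroup.one_mem _,
    fun x => by
      obtain ⟨n, hn⟩ := Subgroup.mem_zpowers_iff.mp (h.move x)
      rw [← hn, mem_fixed, map_zpow, h.uc]⟩
  have hcomm : ∀ {g : MulAut K}, g * u = u * g → ∀ {t}, u t = t → u (g t) = g t := fun hg t ht => by
    rw [← MulAut.mul_apply, ← hg, MulAut.mul_apply, ht]
  have hline : ∀ {d : MulAut K}, d ∈ A → d * u * d⁻¹ ∉ Subgroup.zpowers u → ∀ {g : MulAut K}, g c = c⁻¹ →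
      (∀ w, u w = w → (d * u * d⁻¹) w = w → g w = w) →
      ∀ t, u t = t → t⁻¹ * g t ∈ Subgroup.zpowers c := fun {d} hd hdn {g} hgc hgw t ht => by
    obtain ⟨w, i, h1, h2, rfl⟩ := h.decompZ hd hdn ht
    rw [map_mul, map_zpow, hgc, hgw w h1 h2, inv_zpow, mul_inv_rev, mul_assoc, inv_mul_cancel_left]
    exact Subgroup.mul_mem _ (Subgroup.inv_mem _ (Subgroup.zpow_mem _ (Subgroup.mem_zpowers c) i))
      (Subgroup.inv_mem _ (Subgroup.zpow_mem _ (Subgroup.mem_zpowers c) i))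
  have hrN : r' * r ∈ N := by
    refine ⟨A.mul_mem hrA' hrA, by rw [mul_assoc, hru, ← mul_assoc, hru', mul_assoc],
      by rw [MulAut.mul_apply, hrc, map_inv, hrc', inv_inv], fun t ht => ?_, fun x => ?_⟩
    · have := Subgroup.mul_mem _ (hline ha han hrc hrw t ht) (hline hb hbn hrc' hrw' (r t) (hcomm hru ht))
      rwa [mul_assoc, mul_inv_cancel_left] at this
    · have h1 : x * r x ∈ fixed u := hrx x
      have h2 : r' (x * r x) ∈ fixed u := hcomm hru' h1
      have h3 := (fixed u).mul_mem ((fixed u).inv_mem (show x * r' x ∈ fixed u from hrx' x)) h2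
      have : (x * r' x)⁻¹ * r' (x * r x) = x⁻¹ * (r' * r) x := by
        rw [map_mul, mul_inv_rev, MulAut.mul_apply, mul_comm (r' x)⁻¹, mul_assoc, inv_mul_cancel_left]
      rwa [this] at h3
  have hfz := fix_of_mem_zpowers (h.syl N (fun g hg => hg.1) hNp huN hrN) hzu
  obtain ⟨w, i, hw1, hw2, hzw⟩ := h.decompZ hb hbn hzu
  rw [MulAut.mul_apply, hrw z hzu hz, hzw, map_mul, map_zpow, hrc', hrw' w hw1 hw2] at hfz
  have hci : c ^ i = 1 := by
    have h1 : c⁻¹ ^ i = c ^ i := mul_left_cancel hfz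
    rw [inv_zpow, inv_eq_iff_mul_eq_one, ← zpow_add, ← orderOf_dvd_iff_zpow_eq_one,
      orderOf_eq_prime h.cp h.c1] at h1
    rw [← orderOf_dvd_iff_zpow_eq_one, orderOf_eq_prime h.cp h.c1]
    rcases (Nat.prime_iff_prime_int.mp hp.out).dvd_or_dvd (show (p : ℤ) ∣ 2 * i by rwa [two_mul]) with h2 | h2
    · exact absurd ((Nat.prime_dvd_prime_iff_eq hp.out Nat.prime_two).mp (by exact_mod_cast h2)) hp2
    · exact h2
  rw [hzw, hci, mul_one]
  exact hw2

theorem Setting.two_step (h : Setting p A u c) (hp2 : p = 2) {a b : MulAut K} (ha : a ∈ A) (hb : b ∈ A)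
    (han : a * u * a⁻¹ ∉ Subgroup.zpowers u) :
    b * u * b⁻¹ = u ∨ b * u * b⁻¹ = a * u * a⁻¹ ∨ b * u * b⁻¹ = u * a * u * (u * a)⁻¹ := by
  subst hp2
  have huu : u * u = 1 := by rw [← pow_two]; exact h.u_pow
  have hone : ∀ {d : MulAut K}, b * u * b⁻¹ ∈ Subgroup.zpowers (d * u * d⁻¹) → b * u * b⁻¹ = d * u * d⁻¹ := by
    intro d hd
    have h2 : (d * u * d⁻¹) ^ 2 = 1 := by rw [conj_pow, h.u_pow, mul_one, mul_inv_cancel]
    obtain ⟨n, hn⟩ := Subgroup.mem_zpowers_iff.mp hd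
    rcases Int.even_or_odd n with ⟨k, rfl⟩ | ⟨k, rfl⟩
    · exfalso
      rw [← two_mul, zpow_mul] at hn
      rw [show (d * u * d⁻¹) ^ (2 : ℤ) = (d * u * d⁻¹) ^ 2 from zpow_natCast _ 2, h2, one_zpow] at hn
      exact h.une (conj_eq_one_iff.mp hn.symm)
    · rw [zpow_add, zpow_mul, show (d * u * d⁻¹) ^ (2 : ℤ) = (d * u * d⁻¹) ^ 2 from zpow_natCast _ 2, h2,
        one_zpow, one_mul, zpow_one] at hn
      exact hn.symm
  by_cases h1 : u (b c) = b c
  · left
    simpa using hone (d := 1) (h.pair A.one_mem hb (by simpa using h1))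
  by_cases h2 : (a * u * a⁻¹) (b c) = b c
  · exact Or.inr (Or.inl (hone (h.pair ha hb h2)))
  right; right
  have two : ∀ {e z : K}, e ^ 2 = 1 → z ∈ Subgroup.zpowers e → z = 1 ∨ z = e := fun {e z} he hz => by
    obtain ⟨n, rfl⟩ := Subgroup.mem_zpowers_iff.mp hz
    rcases Int.even_or_odd n with ⟨k, rfl⟩ | ⟨k, rfl⟩
    · left; rw [← two_mul, zpow_mul, show e ^ (2 : ℤ) = e ^ 2 from zpow_natCast _ 2, he, one_zpow]
    · right
      rw [zpow_add, zpow_mul, show e ^ (2 : ℤ) = e ^ 2 from zpow_natCast _ 2, he, one_zpow, one_mul, zpow_one]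
  have hyp : (a c) ^ 2 = 1 := by rw [← map_pow, h.cp, map_one]
  have mv : ∀ {g : MulAut K} {e x : K}, e ^ 2 = 1 → x⁻¹ * g x ∈ Subgroup.zpowers e → g x ≠ x → g x = x * e :=
    fun {g e x} he hx hne => by
      rcases two he hx with h3 | h3
      · exact absurd (inv_mul_eq_one.mp h3).symm hne
      · rw [← h3, mul_inv_cancel_left]
  have u1 : u (b c) = b c * c := mv h.cp (h.move _) h1
  have v1 : (a * u * a⁻¹) (b c) = b c * a c := mv hyp (h.conj_move a _) h2
  have v2 : (a * u * a⁻¹) c = c * a c := mv hyp (h.conj_move a _) (h.key ha han)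
  refine hone (h.pair (A.mul_mem h.uA ha) hb ?_)
  have et : u * a * u * (u * a)⁻¹ = u * (a * u * a⁻¹) * u := by
    rw [mul_inv_rev, inv_eq_of_mul_eq_one_left huu]; group
  rw [et, MulAut.mul_apply, MulAut.mul_apply, u1, map_mul (a * u * a⁻¹), v1, v2, mul_mul_mul_comm,
    mul_comm (a c) (a c), ← pow_two, hyp, mul_one, map_mul, h.uc, u1, mul_assoc, ← pow_two, h.cp, mul_one]

/-- The structure of the automizer. -/
theorem Setting.split (h : Setting p A u c) [Finite K] :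
    ∃ y : K, y ^ p = 1 ∧ u y ≠ y ∧ c ∉ core A u ∧
      (∀ z, u z = z → ∃ w ∈ core A u, ∃ i : ℤ, z = w * c ^ i) ∧
      (p ≠ 2 → ∃ r ∈ A, r * u = u * r ∧ r c = c⁻¹ ∧ ∀ w ∈ core A u, r w = w) ∧
      (p = 2 → (∀ b ∈ A, b c ∈ Subgroup.closure {c, y}) ∧ (∀ b ∈ A, b y ∈ Subgroup.closure {c, y}) ∧
        (∀ x, ∃ w ∈ core A u, ∃ i j : ℤ, x = w * c ^ i * y ^ j) ∧
        ∀ b ∈ A, ∃ g ∈ A, (∀ w ∈ core A u, g w = w) ∧ g⁻¹ * b * u = u * (g⁻¹ * b)) := by
  obtain ⟨a, ha, han⟩ := h.notNormal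
  have hcore : ∀ {w}, u w = w → (a * u * a⁻¹) w = w → w ∈ core A u := by
    intro w h1 h2 b hb
    have hb' : (b⁻¹ * u * b⁻¹⁻¹) w = w := by
      by_cases hm : b⁻¹ * u * b⁻¹⁻¹ ∈ Subgroup.zpowers u
      · exact fix_of_mem_zpowers hm h1
      · by_cases hp2 : p = 2
        · rcases h.two_step hp2 ha (A.inv_mem hb) han with e | e | e
          · rw [e, h1]
          · rw [e, h2]
          · have hinv : u⁻¹ w = w := by conv_lhs => rw [← h1, MulAut.inv_apply_self]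
            have h2' : a (u (a⁻¹ w)) = w := h2
            rw [e, mul_inv_rev]
            simp only [MulAut.mul_apply, hinv, h2', h1]
        · exact h.fixed_all_odd hp2 ha (A.inv_mem hb) han hm h1 h2
    rw [inv_inv, MulAut.mul_apply, MulAut.mul_apply] at hb'
    have := congrArg b hb'
    rwa [MulAut.apply_inv_self] at this
  have hmem : ∀ {w}, w ∈ core A u → u w = w ∧ (a * u * a⁻¹) w = w := fun {w} hw => by
    refine ⟨by simpa using hw 1 A.one_mem, ?_⟩
    rw [MulAut.mul_apply, MulAut.mul_apply, hw _ (A.inv_mem ha), MulAut.apply_inv_self]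
  refine ⟨a c, by rw [← map_pow, h.cp, map_one], h.key2 ha han, fun hc => h.key ha han (hmem hc).2,
    fun z hz => ?_, fun _ => ?_, fun hp2 => ?_⟩
  · obtain ⟨w, i, h1, h2, h3⟩ := h.decompZ ha han hz
    exact ⟨w, hcore h1 h2, i, h3⟩
  · obtain ⟨r, hr, h1, h2, h3, -⟩ := h.exists_refl ha han
    exact ⟨r, hr, h1, h2, fun w hw => h3 w (hmem hw).1 (hmem hw).2⟩
  have hline : ∀ b ∈ A, b c ∈ Subgroup.closure {c, a c} := fun b hb => by
    have hc : c ∈ Subgroup.closure {c, a c} := Subgroup.subset_closure (by simp)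
    have hy : a c ∈ Subgroup.closure {c, a c} := Subgroup.subset_closure (by simp)
    rcases h.two_step hp2 ha hb han with e | e | e
    · have := h.line_mem (a := b) (b := 1) (by simpa using e)
      exact (Subgroup.zpowers_le.mpr (by simpa using hc)) this
    · exact (Subgroup.zpowers_le.mpr hy) (h.line_mem e)
    · refine (Subgroup.zpowers_le.mpr ?_) (h.line_mem e)
      rw [MulAut.mul_apply, ← mul_inv_cancel_left (a c) (u (a c))]
      exact Subgroup.mul_mem _ hy (Subgroup.zpowers_le.mpr hc (h.move _))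
  refine ⟨hline, fun b hb => by simpa using hline (b * a) (A.mul_mem hb ha), fun x => ?_, fun b hb => ?_⟩
  · obtain ⟨w, i, j, h1, h2, h3⟩ := h.decomp ha han x
    exact ⟨w, hcore h1 h2, i, j, h3⟩
  obtain ⟨g, hgA, hgc, -, hgw⟩ := h.exists_rot ha han
  have hgu : g * u * g⁻¹ = a * u * a⁻¹ := by
    rcases h.two_step hp2 ha hgA han with e | e | e
    · exfalso
      have := h.conj_fix g
      rw [e, hgc] at this
      exact h.key2 ha han this
    · exact e
    · exfalso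
      have hy : u (a c) = a c * c := by
        subst hp2
        obtain ⟨n, hn⟩ := Subgroup.mem_zpowers_iff.mp (h.move (a c))
        rcases Int.even_or_odd n with ⟨k, rfl⟩ | ⟨k, rfl⟩
        · rw [← two_mul, zpow_mul, show c ^ (2 : ℤ) = c ^ 2 from zpow_natCast _ 2, h.cp, one_zpow] at hn
          exact absurd (inv_mul_eq_one.mp hn.symm).symm (h.key2 ha han)
        · rw [zpow_add, zpow_mul, show c ^ (2 : ℤ) = c ^ 2 from zpow_natCast _ 2, h.cp, one_zpow, one_mul,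
            zpow_one] at hn
          conv_rhs => arg 2; rw [hn]
          rw [mul_inv_cancel_left]
      have := h.line_mem e
      rw [hgc, MulAut.mul_apply, hy] at this
      have hc2 : c ^ 2 = 1 := hp2 ▸ h.cp
      obtain ⟨n, hn⟩ := Subgroup.mem_zpowers_iff.mp this
      have hac2 : (a c) ^ 2 = 1 := by rw [← map_pow, hc2, map_one]
      rcases Int.even_or_odd n with ⟨k, rfl⟩ | ⟨k, rfl⟩
      · rw [← two_mul, zpow_mul, show (a c * c) ^ (2 : ℤ) = (a c * c) ^ 2 from zpow_natCast _ 2,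
          mul_pow, hac2, hc2, one_mul, one_zpow] at hn
        exact h.c1 ((MulEquiv.map_eq_one_iff a).mp hn.symm)
      · rw [zpow_add, zpow_mul, show (a c * c) ^ (2 : ℤ) = (a c * c) ^ 2 from zpow_natCast _ 2,
          mul_pow, hac2, hc2, one_mul, one_zpow, one_mul, zpow_one] at hn
        exact h.c1 (mul_eq_left.mp hn)
  have comm : ∀ {d : MulAut K}, b * u * b⁻¹ = d * u * d⁻¹ → d⁻¹ * b * u = u * (d⁻¹ * b) := fun {d} e => by
    have : d⁻¹ * (b * u * b⁻¹) * b = d⁻¹ * (d * u * d⁻¹) * b := by rw [e]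
    simpa [mul_assoc] using this
  rcases h.two_step hp2 ha hb han with e | e | e
  · exact ⟨1, A.one_mem, fun w _ => rfl, comm (by simpa using e)⟩
  · exact ⟨g, hgA, fun w hw => hgw w (hmem hw).1 (hmem hw).2, comm (by rw [e, hgu])⟩
  · refine ⟨u * g, A.mul_mem h.uA hgA, fun w hw => ?_, comm ?_⟩
    · rw [MulAut.mul_apply, hgw w (hmem hw).1 (hmem hw).2, (hmem hw).1]
    · rw [e, show u * a * u * (u * a)⁻¹ = u * (a * u * a⁻¹) * u⁻¹ by group, ← hgu]
      group

end abstract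

end Cfsg.Agent.S5265Aux

open CfsgLib.Fusion
open Cfsg.FusionSystem (normalizerIn centralizerIn extender)
open scoped commutatorElement

namespace Cfsg.Agent.S5265Aux

section fusion

variable {Ω : Type*} [Group Ω] {S P : Subgroup Ω} {F : FusionSystem S} {p : ℕ}

/-- The centre of `S` in the ambient group. -/
def zS (S : Subgroup Ω) : Subgroup Ω := (Subgroup.center ↥S).map S.subtype

theorem mem_zS {x : Ω} : x ∈ zS S ↔ x ∈ S ∧ ∀ g ∈ S, g * x = x * g := by
  constructor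
  · rintro ⟨y, hy, rfl⟩
    exact ⟨y.2, fun g hg => congrArg Subtype.val (Subgroup.mem_center_iff.mp hy ⟨g, hg⟩)⟩
  · rintro ⟨hx, h⟩
    exact ⟨⟨x, hx⟩, Subgroup.mem_center_iff.mpr fun g => Subtype.ext (h g g.2), rfl⟩

theorem zS_le : zS S ≤ S := fun _ hx => (mem_zS.mp hx).1

theorem mem_zS_center {x : S} : (x : Ω) ∈ zS S ↔ x ∈ Subgroup.center ↥S := by
  constructor
  · rintro ⟨y, hy, e⟩
    rwa [← Subtype.ext e]
  · exact fun h => ⟨x, h, rfl⟩

theorem conj_zS {g z : Ω} (hg : g ∈ S) (hz : z ∈ zS S) : g * z * g⁻¹ = z := by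
  rw [(mem_zS.mp hz).2 g hg, mul_inv_cancel_right]

theorem aut_zS (ψ : MulAut ↥S) {x : S} (hx : (x : Ω) ∈ zS S) : ((ψ x : S) : Ω) ∈ zS S := by
  rw [mem_zS_center, Subgroup.mem_center_iff] at hx ⊢
  intro g
  obtain ⟨g, rfl⟩ := ψ.surjective g
  rw [← map_mul, ← map_mul, hx g]

theorem aut_zS_iff (ψ : MulAut ↥S) {x : S} : ((ψ x : S) : Ω) ∈ zS S ↔ (x : Ω) ∈ zS S :=
  ⟨fun h => by simpa using aut_zS ψ⁻¹ h, aut_zS ψ⟩

/-- The part of `P` sent into the centre of `S` by the whole automizer. -/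
def coreP (F : FusionSystem S) (P : Subgroup Ω) : Subgroup Ω :=
  (⨅ α : F.autGroup P, ((zS S).subgroupOf P).comap (α : MulAut P).toMonoidHom).map P.subtype

theorem mem_coreP {x : Ω} :
    x ∈ coreP F P ↔ ∃ hx : x ∈ P, ∀ α ∈ F.autGroup P, ((α ⟨x, hx⟩ : P) : Ω) ∈ zS S := by
  constructor
  · rintro ⟨y, hy, rfl⟩
    exact ⟨y.2, fun α hα => Subgroup.mem_iInf.mp hy ⟨α, hα⟩⟩
  · rintro ⟨hx, h⟩
    exact ⟨⟨x, hx⟩, Subgroup.mem_iInf.mpr fun α => h α α.2, rfl⟩

theorem coreP_le : coreP F P ≤ P := fun _ hx => (mem_coreP.mp hx).1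

theorem coreP_le_zS : coreP F P ≤ zS S := fun x hx => by
  obtain ⟨hxP, h⟩ := mem_coreP.mp hx
  exact h 1 (Subgroup.one_mem _)

theorem coreP_inv {α : MulAut P} (hα : α ∈ F.autGroup P) {x : P} (hx : (x : Ω) ∈ coreP F P) :
    ((α x : P) : Ω) ∈ coreP F P := by
  obtain ⟨_, h⟩ := mem_coreP.mp hx
  exact mem_coreP.mpr ⟨(α x).2, fun β hβ => h (β * α) (Subgroup.mul_mem _ hβ hα)⟩

/-- The data of an essential subgroup. -/
structure EssData (F : FusionSystem S) (p : ℕ) (P : Subgroup Ω) (c y : Ω) : Prop where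
  zle : zS S ≤ P
  le : P ≤ S
  relP : (zS S).relIndex P = p
  relS : P.relIndex S = p
  cZ : c ∈ zS S
  c1 : c ≠ 1
  cp : c ^ p = 1
  comm : ∀ g ∈ S, ∀ h ∈ S, ⁅g, h⁆ ∈ Subgroup.zpowers c
  cW : c ∉ coreP F P
  decomp : ∀ z ∈ zS S, ∃ w ∈ coreP F P, ∃ i : ℤ, z = w * c ^ i
  yP : y ∈ P
  yZ : y ∉ zS S
  yp : y ^ p = 1
  refl : p ≠ 2 → ∃ φ ∈ F.autGroup S, (∀ x : S, (x : Ω) = c → ((φ x : S) : Ω) = c⁻¹) ∧
    ∀ x : S, (x : Ω) ∈ coreP F P → φ x = x
  moves : p = 2 → ∀ α ∈ F.autGroup P, (∀ x : P, (x : Ω) ∈ coreP F P → α x = x) →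
    ∀ x : P, (x : Ω)⁻¹ * ((α x : P) : Ω) ∈ Subgroup.closure {c, y}
  agree : p = 2 → ∀ α ∈ F.autGroup P, ∃ ψ ∈ F.autGroup S,
    ∀ (x : P) (hx : (x : Ω) ∈ S), (x : Ω) ∈ coreP F P → ((α x : P) : Ω) = ((ψ ⟨x, hx⟩ : S) : Ω)

variable [Finite S] [hp : Fact p.Prime]

theorem prime_le_relIndex (hS : IsPGroup p S) {A B : Subgroup Ω} (hB : B ≤ S) (h : A < B) :
    p ≤ A.relIndex B := by
  have := Finite.of_injective _ (Subgroup.inclusion_injective hB)
  obtain ⟨n, hn⟩ := IsPGroup.iff_card.mp (hS.to_le hB)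
  have hd : A.relIndex B ∣ p ^ n := hn ▸ Subgroup.index_dvd_card _
  obtain ⟨i, _, hi⟩ := (Nat.dvd_prime_pow hp.out).mp hd
  rcases i with _ | i
  · rw [pow_zero] at hi
    exact absurd (Subgroup.relIndex_eq_one.mp hi) h.not_ge
  · rw [hi]; exact Nat.le_self_pow (by omega) _

theorem exists_essential (hS : IsPGroup p S) (hF : F.IsSaturated p) (hS1 : S ≠ ⊥) (hcore : F.core = ⊥) :
    ∃ P, F.IsEssential p P ∧ P < S := by
  by_contra hno
  push Not at hno
  refine hS1 (le_bot_iff.mp (hcore ▸ le_sSup (isNormal_of_essential hS hF fun P hP => ⟨?_, ?_⟩)))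
  · rcases hP with rfl | hP
    · exact le_rfl
    · rcases (hP.1.1).lt_or_eq with h | h
      · exact absurd h (hno P hP)
      · exact h.ge
  · intro α _ x _
    rcases hP with rfl | hP
    · exact (α x).2
    · exact hP.1.1 (α x).2

theorem zS_lt (hP : F.IsEssential p P) (hPS : P < S) : zS S < P := by
  have hC := IsCentric.centralizerIn_le' hP.1
  refine lt_of_le_of_ne (fun z hz => hC ?_) ?_
  · exact mem_centralizerIn.mpr ⟨zS_le hz, fun x hx => (mem_zS.mp hz).2 x (hPS.le hx)⟩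
  · rintro rfl
    exact hPS.not_ge fun g hg => hC (mem_centralizerIn.mpr ⟨hg, fun x hx => ((mem_zS.mp hx).2 g hg).symm⟩)

theorem essData (hS : IsPGroup p S) (hF : F.IsSaturated p) (hZ : (zS S).relIndex S ≤ p ^ 2)
    (hP : F.IsEssential p P) (hPS : P < S) : ∃ c y, EssData F p P c y := by
  obtain ⟨hA, hR⟩ := fullyNormalized_good hS hF hP.2.1
  have hZP := zS_lt hP hPS
  have hmul := Subgroup.relIndex_mul_relIndex _ _ _ hZP.le hPS.le
  have h1 := prime_le_relIndex hS hPS.le hZP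
  have h2 := prime_le_relIndex hS le_rfl hPS
  have h3 : (zS S).relIndex P * P.relIndex S ≤ p * p := hmul ▸ (pow_two p) ▸ hZ
  have hPp : (zS S).relIndex P = p := by
    refine le_antisymm (Nat.le_of_mul_le_mul_right ?_ hp.out.pos) h1
    exact (Nat.mul_le_mul_left _ h2).trans h3
  have hSp : P.relIndex S = p := by
    refine le_antisymm (Nat.le_of_mul_le_mul_left ?_ hp.out.pos) h2
    exact (Nat.mul_le_mul_right _ h1).trans h3
  have hZS : (zS S).relIndex S = p ^ 2 := by rw [← hmul, hPp, hSp, pow_two]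
  have : Finite P := finite_of_le hPS.le
  -- `P` is normal
  have hNS : S ≤ Subgroup.normalizer (P : Set Ω) := by
    have hlt := lt_normalizerIn hS le_rfl hPS
    have hmul' := Subgroup.relIndex_mul_relIndex _ _ _ hlt.le (normalizerIn_le (S := S) (P := P))
    rw [hSp] at hmul'
    have h4 := prime_le_relIndex hS normalizerIn_le hlt
    have hone : (normalizerIn S P).relIndex S = 1 := by
      rcases Nat.eq_zero_or_pos ((normalizerIn S P).relIndex S) with h0 | h0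
      · rw [h0, mul_zero] at hmul'; exact absurd hmul'.symm hp.out.ne_zero
      · have h5 := Nat.mul_le_mul_right ((normalizerIn S P).relIndex S) h4
        rw [hmul'] at h5
        have := Nat.le_of_mul_le_mul_left (h5.trans (mul_one p).ge) hp.out.pos
        omega
    exact fun g hg => (Subgroup.relIndex_eq_one.mp hone hg).2
  -- commutators are central
  have hab : ∀ g ∈ S, ∀ h ∈ S, ⁅g, h⁆ ∈ zS S := by
    intro g hg h hh
    have hq : Nat.card (↥S ⧸ Subgroup.center ↥S) = p ^ 2 := by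
      rw [← Subgroup.index_eq_card, ← hZS, Subgroup.relIndex]
      congr 1
      exact Subgroup.ext fun x => mem_zS_center.symm
    have hc := IsPGroup.commutative_of_card_eq_prime_sq hq
    have : ⁅(⟨g, hg⟩ : S), ⟨h, hh⟩⁆ ∈ Subgroup.center ↥S := by
      rw [← QuotientGroup.eq_one_iff]
      show QuotientGroup.mk' (Subgroup.center ↥S) _ = 1
      rw [map_commutatorElement]
      exact commutatorElement_eq_one_iff_mul_comm.mpr (hc _ _)
    exact mem_zS_center.mpr this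
  have hZn : ((zS S).subgroupOf P) ≤ Subgroup.center ↥P := fun x hx => Subgroup.mem_center_iff.mpr fun g =>
    Subtype.ext ((mem_zS.mp hx).2 g (hPS.le g.2))
  have : ((zS S).subgroupOf P).Normal := ⟨fun x hx g => by
    rw [(Subgroup.mem_center_iff.mp (hZn hx) g), mul_inv_cancel_right]; exact hx⟩
  have hcardQ : Nat.card (↥P ⧸ (zS S).subgroupOf P) = p := by rw [← Subgroup.index_eq_card]; exact hPp
  have hcycQ : IsCyclic (↥P ⧸ (zS S).subgroupOf P) := isCyclic_of_prime_card (p := p) hcardQ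
  have hPc : ∀ x y : P, x * y = y * x := fun x y =>
    commutative_of_cyclic_center_quotient (QuotientGroup.mk' ((zS S).subgroupOf P))
      (by rw [QuotientGroup.ker_mk']; exact hZn) x y
  obtain ⟨a, haP, haZ⟩ := SetLike.exists_of_lt hZP
  obtain ⟨s, hsS, hsP⟩ := SetLike.exists_of_lt hPS
  have hdecP : ∀ x ∈ P, ∃ z ∈ zS S, ∃ i : ℤ, x = z * a ^ i := by
    intro x hx
    have hne : (QuotientGroup.mk (⟨a, haP⟩ : P) : ↥P ⧸ (zS S).subgroupOf P) ≠ 1 := fun e =>
      haZ ((QuotientGroup.eq_one_iff (N := (zS S).subgroupOf P) _).mp e)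
    obtain ⟨i, hi⟩ := mem_zpowers_of_prime_card (p := p) (g' := (QuotientGroup.mk (⟨x, hx⟩ : P) : ↥P ⧸ (zS S).subgroupOf P))
      hcardQ hne
    refine ⟨x * (a ^ i)⁻¹, ?_, i, by group⟩
    have hi' : ((⟨a, haP⟩ : P) : ↥P ⧸ (zS S).subgroupOf P) ^ i = ((⟨x, hx⟩ : P) : ↥P ⧸ (zS S).subgroupOf P) := hi
    have hm : (⟨x, hx⟩ : P) * ((⟨a, haP⟩ : P) ^ i)⁻¹ ∈ (zS S).subgroupOf P := by
      rw [← QuotientGroup.eq_one_iff, QuotientGroup.mk_mul, QuotientGroup.mk_inv, QuotientGroup.mk_zpow, hi',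
        mul_inv_cancel]
    simpa [Subgroup.mem_subgroupOf] using hm
  have hPn : (P.subgroupOf S).Normal := ⟨fun n hn g =>
    (Subgroup.mem_normalizer_iff.mp (hNS g.2) n).mp hn⟩
  have hdecS : ∀ g ∈ S, ∃ q ∈ P, ∃ i : ℤ, g = q * s ^ i := by
    intro g hg
    have hc : Nat.card (↥S ⧸ P.subgroupOf S) = p := by rw [← Subgroup.index_eq_card]; exact hSp
    have hne : (QuotientGroup.mk (⟨s, hsS⟩ : S) : ↥S ⧸ P.subgroupOf S) ≠ 1 := fun e =>
      hsP ((QuotientGroup.eq_one_iff (N := P.subgroupOf S) _).mp e)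
    obtain ⟨i, hi⟩ := mem_zpowers_of_prime_card (p := p) (g' := (QuotientGroup.mk (⟨g, hg⟩ : S) : ↥S ⧸ P.subgroupOf S))
      hc hne
    refine ⟨g * (s ^ i)⁻¹, ?_, i, by group⟩
    have hi' : ((⟨s, hsS⟩ : S) : ↥S ⧸ P.subgroupOf S) ^ i = ((⟨g, hg⟩ : S) : ↥S ⧸ P.subgroupOf S) := hi
    have hm : (⟨g, hg⟩ : S) * ((⟨s, hsS⟩ : S) ^ i)⁻¹ ∈ P.subgroupOf S := by
      rw [← QuotientGroup.eq_one_iff, QuotientGroup.mk_mul, QuotientGroup.mk_inv, QuotientGroup.mk_zpow, hi',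
        mul_inv_cancel]
    simpa [Subgroup.mem_subgroupOf] using hm
  set c := ⁅s, a⁆ with hc
  have hcZ : c ∈ zS S := hab s hsS a (hPS.le haP)
  have hsa : s * a * s⁻¹ = c * a := by rw [hc, commutatorElement_def]; group
  have hc1 : c ≠ 1 := fun e => haZ (mem_zS.mpr ⟨hPS.le haP, fun g hg => by
    have hcom : Commute s a := commutatorElement_eq_one_iff_commute.mp e
    obtain ⟨q, hq, i, rfl⟩ := hdecS g hg
    have h5 : q * a = a * q := congrArg Subtype.val (hPc ⟨q, hq⟩ ⟨a, haP⟩)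
    rw [mul_assoc, (hcom.zpow_left i).eq, ← mul_assoc, h5, mul_assoc]⟩)
  have hca : Commute c a := ((mem_zS.mp hcZ).2 a (hPS.le haP)).symm
  have hpowZ : a ^ p ∈ zS S := by
    have h5 := Subgroup.pow_index_mem ((zS S).subgroupOf P) (⟨a, haP⟩ : P)
    rw [show ((zS S).subgroupOf P).index = p from hPp] at h5
    exact h5
  have hcp : c ^ p = 1 := by
    have h5 := conj_zS hsS hpowZ
    rw [← conj_pow, hsa, hca.mul_pow] at h5
    exact mul_eq_right.mp h5
  -- conjugation by `s`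
  obtain ⟨u, huI, hu⟩ := exists_autInducedBy (K := S) hsS (hNS hsS)
  have huA : u ∈ F.autGroup P := autInducedBy_le_autGroup hPS.le huI
  let cP : P := ⟨c, hZP.le hcZ⟩
  have huc : u cP = cP := Subtype.ext (by rw [hu]; exact conj_zS hsS hcZ)
  have humove : ∀ x : P, x⁻¹ * u x ∈ Subgroup.zpowers cP := by
    intro x
    obtain ⟨z, hz, i, hx⟩ := hdecP x x.2
    refine Subgroup.mem_zpowers_iff.mpr ⟨i, Subtype.ext ?_⟩
    rw [Subgroup.coe_mul, Subgroup.coe_inv, hu, hx, SubgroupClass.coe_zpow,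
      show s * (z * a ^ i) * s⁻¹ = (s * z * s⁻¹) * (s * a * s⁻¹) ^ i by rw [conj_zpow]; group,
      conj_zS hsS hz, hsa, hca.mul_zpow, (hca.zpow_zpow i i).eq]
    show c ^ i = _
    group
  have hauti : ∀ β ∈ autInducedBy S P, β ∈ Subgroup.zpowers u := by
    intro β hβ
    obtain ⟨g, hg, hge⟩ := mem_autInducedBy.mp hβ
    obtain ⟨q, hq, i, rfl⟩ := hdecS g hg
    have hcoe : ∀ {d : MulAut P} {e : Ω} (he : e ∈ Subgroup.normalizer (P : Set Ω)),
        (∀ x : P, ((d x : P) : Ω) = e * x * e⁻¹) → d = P.normalizerMonoidHom ⟨e, he⟩ :=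
      fun he h => MulEquiv.ext fun x => Subtype.ext (h x)
    have h5 : β = P.normalizerMonoidHom ⟨q, hNS (hPS.le hq)⟩ * (P.normalizerMonoidHom ⟨s, hNS hsS⟩) ^ i := by
      rw [hcoe (hNS hg) hge, ← map_zpow, ← map_mul]
      congr 1
    have h6 : P.normalizerMonoidHom ⟨q, hNS (hPS.le hq)⟩ = 1 := MulEquiv.ext fun x => Subtype.ext (by
      show q * (x : Ω) * q⁻¹ = x
      rw [show q * (x : Ω) = x * q from congrArg Subtype.val (hPc ⟨q, hq⟩ x), mul_inv_cancel_right])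
    rw [h5, h6, one_mul, ← hcoe (hNS hsS) hu]
    exact Subgroup.zpow_mem _ (Subgroup.mem_zpowers u) i
  let _ : CommGroup ↥P := { (inferInstance : Group ↥P) with mul_comm := hPc }
  have hfin : Finite (MulAut P) := finite_mulAut hPS.le
  have hune : u ≠ 1 := fun e => hc1 (by
    have h5 := hu ⟨a, haP⟩
    rw [e, hsa] at h5
    exact mul_eq_right.mp h5.symm)
  have hup : u ^ p = 1 := MulEquiv.ext fun x => by
    obtain ⟨n, hn⟩ := Subgroup.mem_zpowers_iff.mp (humove x)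
    rw [pow_move (show u x = x * cP ^ n by rw [hn, mul_inv_cancel_left]) (by rw [map_zpow, huc]) p,
      ← zpow_natCast (cP ^ n), ← zpow_mul, mul_comm n, zpow_mul, zpow_natCast,
      show cP ^ p = 1 from Subtype.ext hcp, one_zpow, mul_one]
    rfl
  have hset : Setting p (F.autGroup P) u cP := by
    refine ⟨hS.to_le hPS.le, huA, fun e => hc1 (congrArg Subtype.val e), Subtype.ext hcp, huc, hune,
      humove, fun H hH hHp huH => ?_, ?_⟩
    · obtain ⟨α, -, hα⟩ := FullyAutomized.exists_conj hA hH hHp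
      have hle : H.map (MulAut.conj α).toMonoidHom ≤ Subgroup.zpowers u := by
        rintro _ ⟨b, hb, rfl⟩
        exact hauti _ (hα b hb)
      have hcard : Nat.card H ≤ Nat.card (Subgroup.zpowers u) := by
        rw [← Subgroup.card_map_of_injective (K := H) (f := (MulAut.conj α).toMonoidHom) (MulAut.conj α).injective]
        exact Subgroup.card_le_of_le hle
      exact (Subgroup.eq_of_le_of_card_ge (Subgroup.zpowers_le.mpr huH) hcard).ge
    · by_contra hno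
      push Not at hno
      have hn : ((Subgroup.zpowers u).subgroupOf (F.autGroup P)).Normal := ⟨fun n hn g => by
        obtain ⟨i, hi⟩ := Subgroup.mem_zpowers_iff.mp hn
        show (g : MulAut P) * n * (g : MulAut P)⁻¹ ∈ Subgroup.zpowers u
        rw [show (n : MulAut P) = u ^ i from hi.symm, ← conj_zpow]
        exact Subgroup.zpow_mem _ (hno g g.2) i⟩
      have hupg : IsPGroup p (Subgroup.zpowers u) := IsPGroup.of_card (n := 1) (by
        rw [Nat.card_zpowers, orderOf_eq_prime hup hune, pow_one])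
      have h5 := CfsgLib.PCore.le_pCore hn
        (hupg.comap_subtype (K := F.autGroup P) : IsPGroup p ((Subgroup.zpowers u).subgroupOf (F.autGroup P)))
        (show (⟨u, huA⟩ : F.autGroup P) ∈ _ from Subgroup.mem_zpowers u)
      have h6 : u ∈ Inn P := (radical_of_essential hP hS).2 ▸ ⟨⟨u, huA⟩, h5, rfl⟩
      obtain ⟨z, hz⟩ := mem_inn.mp h6
      exact hune (MulEquiv.ext fun x => by rw [hz, mul_comm z, mul_inv_cancel_right]; rfl)
  have hfix : ∀ x : P, u x = x ↔ (x : Ω) ∈ zS S := by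
    intro x
    constructor
    · intro hx
      refine mem_zS.mpr ⟨hPS.le x.2, fun g hg => ?_⟩
      have hcom : Commute s (x : Ω) := mul_inv_eq_iff_eq_mul.mp ((hu x).symm.trans (congrArg Subtype.val hx))
      obtain ⟨q, hq, i, rfl⟩ := hdecS g hg
      have h5 : q * (x : Ω) = (x : Ω) * q := congrArg Subtype.val (hPc ⟨q, hq⟩ x)
      rw [mul_assoc, (hcom.zpow_left i).eq, ← mul_assoc, h5, mul_assoc]
    · exact fun hx => Subtype.ext (by rw [hu]; exact conj_zS hsS hx)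
  have hWcore : ∀ x : P, x ∈ core (F.autGroup P) u ↔ (x : Ω) ∈ coreP F P := by
    intro x
    rw [mem_coreP]
    exact ⟨fun h => ⟨x.2, fun α hα => (hfix _).mp (h α hα)⟩,
      fun ⟨_, h⟩ α hα => (hfix _).mpr (h α hα)⟩
  have hext : ∀ β ∈ F.autGroup P, β * u = u * β → ∃ ψ ∈ F.autGroup S, ∀ (x : P) (hx : (x : Ω) ∈ S),
      ((ψ ⟨x, hx⟩ : S) : Ω) = ((β x : P) : Ω) := by
    intro β hβ hcom
    obtain ⟨φ, hφ, hφr, hφe⟩ := exists_map_of_mem_autGroup hPS.le hβ
    have hN : S ≤ extender S P φ := fun g hg => mem_extender.mpr ⟨hg, hNS hg, g, hg, fun x hx => by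
      obtain ⟨d, hd, hde⟩ := exists_autInducedBy (K := S) hg (hNS hg)
      obtain ⟨i, rfl⟩ := Subgroup.mem_zpowers_iff.mp (hauti d hd)
      have hcom' : β * u ^ i = u ^ i * β := (show Commute β u from hcom).zpow_right i
      have hx' : (⟨g * (x : Ω) * g⁻¹, hx⟩ : P) = (u ^ i) x := Subtype.ext (hde x).symm
      rw [hφe, hφe, hx', ← hde (β x), ← MulAut.mul_apply _ β (u ^ i), hcom', MulAut.mul_apply]⟩
    obtain ⟨ψ, hψ, hψe⟩ := exists_extension hR hφ hφr hPS.le hN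
    obtain ⟨ψ', hψ', hψ'e⟩ := exists_aut hψ (range_eq_of_card_le hψ le_rfl (fun x => apply_mem_S hψ x) le_rfl)
    exact ⟨ψ', hψ', fun x hx => by rw [hψ'e, ← hφe, ← hψe x]⟩
  obtain ⟨y, hyp, huy, hcW, hdec, hodd, htwo⟩ := hset.split
  refine ⟨c, y, ?_⟩
  constructor
  · exact hZP.le
  · exact hPS.le
  · exact hPp
  · exact hSp
  · exact hcZ
  · exact hc1
  · exact hcp
  · intro g hg h hh
    have hstep : ∀ g ∈ S, ∀ q ∈ P, ⁅g, q⁆ ∈ Subgroup.zpowers c := by
      intro g hg q hq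
      obtain ⟨d, hd, hde⟩ := exists_autInducedBy (K := S) hg (hNS hg)
      obtain ⟨i, rfl⟩ := Subgroup.mem_zpowers_iff.mp (hauti d hd)
      let B : Subgroup (MulAut P) :=
        { carrier := {b | b cP = cP ∧ ∀ x, x⁻¹ * b x ∈ Subgroup.zpowers cP}
          one_mem' := ⟨rfl, fun x => by simp⟩
          mul_mem' := fun {b b'} hb hb' => ⟨by rw [MulAut.mul_apply, hb'.1, hb.1], fun x => by
            have := Subgroup.mul_mem _ (hb'.2 x) (hb.2 (b' x))
            rwa [mul_assoc, mul_inv_cancel_left] at this⟩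
          inv_mem' := fun {b} hb => ⟨by conv_lhs => rw [← hb.1, MulAut.inv_apply_self], fun x => by
            have := Subgroup.inv_mem _ (hb.2 (b⁻¹ x))
            rwa [MulAut.apply_inv_self, mul_inv_rev, inv_inv] at this⟩ }
      obtain ⟨n, hn⟩ := Subgroup.mem_zpowers_iff.mp
        ((B.zpow_mem (show u ∈ B from ⟨huc, humove⟩) i).2 ⟨q, hq⟩)
      have hn' : c ^ n = q⁻¹ * ((u ^ i) ⟨q, hq⟩ : P) := by
        simpa [cP] using congrArg Subtype.val hn
      rw [hde] at hn'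
      refine Subgroup.mem_zpowers_iff.mpr ⟨n, ?_⟩
      have hcq : Commute (c ^ n) q := (Commute.zpow_left ((mem_zS.mp hcZ).2 q (hPS.le hq)).symm n)
      rw [commutatorElement_def, eq_mul_inv_iff_mul_eq, hcq.eq, hn', mul_inv_cancel_left]
    obtain ⟨q, hq, i, rfl⟩ := hdecS g hg
    obtain ⟨q', hq', j, rfl⟩ := hdecS h hh
    have hsi := S.zpow_mem hsS i
    have hsj := S.zpow_mem hsS j
    have hzc : ∀ {t}, t ∈ Subgroup.zpowers c → ∀ g ∈ S, g * t * g⁻¹ = t := fun {t} ht g hg =>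
      conj_zS hg ((Subgroup.zpowers_le.mpr hcZ) ht)
    have e : ⁅q * s ^ i, q' * s ^ j⁆ =
        (q * ⁅s ^ i, q'⁆ * q⁻¹) * ⁅q, q'⁆ * (q' * ⁅q, s ^ j⁆ * q'⁻¹) := by
      have hss : s ^ i * s ^ j = s ^ j * s ^ i := zpow_mul_comm s i j
      simp only [commutatorElement_def, mul_inv_rev]
      calc q * s ^ i * (q' * s ^ j) * ((s ^ i)⁻¹ * q⁻¹) * ((s ^ j)⁻¹ * q'⁻¹)
          = q * s ^ i * q' * (s ^ i)⁻¹ * (s ^ i * s ^ j) * (s ^ i)⁻¹ * q⁻¹ * (s ^ j)⁻¹ * q'⁻¹ := by group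
        _ = q * s ^ i * q' * (s ^ i)⁻¹ * (s ^ j * s ^ i) * (s ^ i)⁻¹ * q⁻¹ * (s ^ j)⁻¹ * q'⁻¹ := by rw [hss]
        _ = _ := by group
    have hqj : ⁅q, s ^ j⁆ ∈ Subgroup.zpowers c := by
      rw [← commutatorElement_inv]; exact Subgroup.inv_mem _ (hstep _ hsj q hq)
    rw [e, hzc (hstep _ hsi q' hq') q (hPS.le hq), hzc hqj q' (hPS.le hq'),
      show ⁅q, q'⁆ = 1 from commutatorElement_eq_one_iff_mul_comm.mpr (congrArg Subtype.val (hPc ⟨q, hq⟩ ⟨q', hq'⟩)),
      mul_one]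
    exact Subgroup.mul_mem _ (hstep _ hsi q' hq') hqj
  · exact fun h => hcW ((hWcore _).mpr h)
  · intro z hz
    obtain ⟨w, hw, i, hwe⟩ := hdec ⟨z, hZP.le hz⟩ ((hfix _).mpr hz)
    exact ⟨w, (hWcore w).mp hw, i, by simpa [cP] using congrArg Subtype.val hwe⟩
  · exact y.2
  · exact fun h => huy ((hfix y).mpr h)
  · rw [← SubgroupClass.coe_pow, hyp]; rfl
  · intro h2
    obtain ⟨r, hr, hru, hrc, hrw⟩ := hodd h2
    obtain ⟨φ, hφ, hφe⟩ := hext r hr hru
    refine ⟨φ, hφ, fun x hx => ?_, fun x hx => Subtype.ext ?_⟩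
    · have hxe : (⟨(cP : Ω), hPS.le cP.2⟩ : S) = x := Subtype.ext hx.symm
      rw [← hxe, hφe cP (hPS.le cP.2), hrc]
      rfl
    · have h5 := hφe ⟨x, coreP_le hx⟩ x.2
      rw [hrw _ ((hWcore _).mpr hx)] at h5
      exact h5
  · intro h2 α hα hαW x
    obtain ⟨hc', hy', hdecx, -⟩ := htwo h2
    obtain ⟨w, hw, i, j, rfl⟩ := hdecx x
    have hcl : ∀ t : P, t ∈ Subgroup.closure {cP, y} → (t : Ω) ∈ Subgroup.closure {c, (y : Ω)} := fun t ht => by
      have h5 : (t : Ω) ∈ (Subgroup.closure {cP, y}).map P.subtype := ⟨t, ht, rfl⟩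
      rw [MonoidHom.map_closure] at h5
      simpa [Set.image_pair, cP] using h5
    rw [← Subgroup.coe_inv, ← Subgroup.coe_mul]
    apply hcl
    have hc0 : cP ∈ Subgroup.closure {cP, y} := Subgroup.subset_closure (by simp)
    have hy0 : y ∈ Subgroup.closure {cP, y} := Subgroup.subset_closure (by simp)
    have e : (w * cP ^ i * y ^ j)⁻¹ * α (w * cP ^ i * y ^ j) =
        (cP ^ i)⁻¹ * (y ^ j)⁻¹ * ((α cP) ^ i * (α y) ^ j) := by
      simp only [map_mul, map_zpow, mul_inv, hαW w ((hWcore w).mp hw)]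
      calc _ = (w⁻¹ * w) * ((cP ^ i)⁻¹ * (y ^ j)⁻¹ * ((α cP) ^ i * (α y) ^ j)) := by ac_rfl
        _ = _ := by rw [inv_mul_cancel, one_mul]
    rw [e]
    exact Subgroup.mul_mem _ (Subgroup.mul_mem _ (Subgroup.inv_mem _ (Subgroup.zpow_mem _ hc0 i))
      (Subgroup.inv_mem _ (Subgroup.zpow_mem _ hy0 j)))
      (Subgroup.mul_mem _ (Subgroup.zpow_mem _ (hc' α hα) i) (Subgroup.zpow_mem _ (hy' α hα) j))
  · intro h2 α hα
    obtain ⟨-, -, -, hg⟩ := htwo h2
    obtain ⟨g, hgA, hgw, hcom⟩ := hg α hα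
    have hb : g⁻¹ * α ∈ F.autGroup P := Subgroup.mul_mem _ (Subgroup.inv_mem _ hgA) hα
    obtain ⟨ψ, hψ, hψe⟩ := hext _ hb hcom
    refine ⟨ψ, hψ, fun x hx hxW => ?_⟩
    have h5 := hgw _ ((hWcore _).mpr (coreP_inv hb hxW))
    rw [MulAut.mul_apply, MulAut.apply_inv_self] at h5
    rw [hψe, MulAut.mul_apply, ← h5]

end fusion

end Cfsg.Agent.S5265Aux

namespace Cfsg.Agent.S5265Aux

section main

variable {Ω : Type*} [Group Ω] {S P : Subgroup Ω} {F : FusionSystem S} {p : ℕ} {c y : Ω}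
variable [Finite S] [hp : Fact p.Prime]

theorem coe_comm (a b : S) : ((⁅a, b⁆ : S) : Ω) = ⁅(a : Ω), (b : Ω)⁆ := by simp [commutatorElement_def]

theorem decomp_prime {A B : Subgroup Ω} (hn : (A.subgroupOf B).Normal) (hi : A.relIndex B = p)
    {k : Ω} (hk : k ∈ B) (hkA : k ∉ A) {x : Ω} (hx : x ∈ B) : ∃ a ∈ A, ∃ i : ℤ, x = a * k ^ i := by
  have hc : Nat.card (↥B ⧸ A.subgroupOf B) = p := by rw [← Subgroup.index_eq_card]; exact hi
  have hne : (QuotientGroup.mk (⟨k, hk⟩ : B) : ↥B ⧸ A.subgroupOf B) ≠ 1 := fun e =>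
    hkA ((QuotientGroup.eq_one_iff (N := A.subgroupOf B) _).mp e)
  obtain ⟨i, hi'⟩ := mem_zpowers_of_prime_card (p := p)
    (g' := (QuotientGroup.mk (⟨x, hx⟩ : B) : ↥B ⧸ A.subgroupOf B)) hc hne
  refine ⟨x * (k ^ i)⁻¹, ?_, i, by group⟩
  have hi'' : ((⟨k, hk⟩ : B) : ↥B ⧸ A.subgroupOf B) ^ i = ((⟨x, hx⟩ : B) : ↥B ⧸ A.subgroupOf B) := hi'
  have hm : (⟨x, hx⟩ : B) * ((⟨k, hk⟩ : B) ^ i)⁻¹ ∈ A.subgroupOf B := by
    rw [← QuotientGroup.eq_one_iff, QuotientGroup.mk_mul, QuotientGroup.mk_inv, QuotientGroup.mk_zpow, hi'',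
      mul_inv_cancel]
  simpa [Subgroup.mem_subgroupOf] using hm

theorem EssData.decP (h : EssData F p P c y) {k x : Ω} (hk : k ∈ P) (hkZ : k ∉ zS S) (hx : x ∈ P) :
    ∃ z ∈ zS S, ∃ i : ℤ, x = z * k ^ i :=
  decomp_prime ⟨fun n hn g => by
    show (g : Ω) * n * (g : Ω)⁻¹ ∈ zS S
    rw [conj_zS (h.le g.2) (show (n : Ω) ∈ zS S from hn)]; exact hn⟩ h.relP hk hkZ hx

theorem EssData.normal (h : EssData F p P c y) {g x : Ω} (hg : g ∈ S) (hx : x ∈ P) : g * x * g⁻¹ ∈ P := by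
  have hm := P.mul_mem (h.zle ((Subgroup.zpowers_le.mpr h.cZ) (h.comm g hg x (h.le hx)))) hx
  rw [commutatorElement_def] at hm
  simpa using hm

theorem EssData.decS (h : EssData F p P c y) {k x : Ω} (hk : k ∈ S) (hkP : k ∉ P) (hx : x ∈ S) :
    ∃ q ∈ P, ∃ i : ℤ, x = q * k ^ i :=
  decomp_prime ⟨fun n hn g => h.normal g.2 hn⟩ h.relS hk hkP hx

theorem EssData.comm_ne (h : EssData F p P c y) : ∃ g ∈ S, ⁅g, y⁆ ≠ 1 := by
  by_contra hno
  push Not at hno
  exact h.yZ (mem_zS.mpr ⟨h.le h.yP, fun g hg => commutatorElement_eq_one_iff_mul_comm.mp (hno g hg)⟩)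

theorem EssData.line_eq (h : EssData F p P c y) {P' : Subgroup Ω} {c' y' : Ω} (h' : EssData F p P' c' y') :
    Subgroup.zpowers c' = Subgroup.zpowers c := by
  obtain ⟨g, hg, hne⟩ := h.comm_ne
  rw [← zpowers_eq h.cp (h.comm g hg y (h.le h.yP)) hne, ← zpowers_eq h'.cp (h'.comm g hg y (h.le h.yP)) hne]

theorem EssData.aut_line (h : EssData F p P c y) (ψ : MulAut ↥S) (cS : S) (hcS : (cS : Ω) = c) :
    ((ψ cS : S) : Ω) ∈ Subgroup.zpowers c := by
  obtain ⟨g, hg, hne⟩ := h.comm_ne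
  have hmem : cS ∈ Subgroup.zpowers (⁅(⟨g, hg⟩ : S), ⟨y, h.le h.yP⟩⁆ : S) := by
    obtain ⟨n, hn⟩ := Subgroup.mem_zpowers_iff.mp
      ((zpowers_eq h.cp (h.comm g hg y (h.le h.yP)) hne).ge (Subgroup.mem_zpowers c))
    exact Subgroup.mem_zpowers_iff.mpr ⟨n, Subtype.ext (by rw [SubgroupClass.coe_zpow, coe_comm, hn, hcS])⟩
  obtain ⟨n, hn⟩ := Subgroup.mem_zpowers_iff.mp hmem
  rw [← hn, map_zpow, map_commutatorElement, SubgroupClass.coe_zpow, coe_comm]
  exact Subgroup.zpow_mem _ (h.comm _ (ψ _).2 _ (ψ _).2) n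

theorem outer (hS : IsPGroup p S) (hF : F.IsSaturated p) :
    ∃ m : ℕ, ¬ p ∣ m ∧ ∀ ψ ∈ F.autGroup S, ψ ^ m ∈ Inn S := by
  obtain ⟨-, T, hT⟩ := ((saturated_iff_top_and_receptive hS).mp hF).1
  have := normal_inn_subgroupOf F S
  have hI : (T : Subgroup (F.autGroup S)) = (Inn S).subgroupOf (F.autGroup S) := by rw [hT, autInducedBy_self]
  have hfin : Finite (MulAut S) := finite_mulAut (le_refl S)
  have : (T : Subgroup (F.autGroup S)).Normal := hI ▸ this
  refine ⟨(T : Subgroup (F.autGroup S)).index, T.not_dvd_index, fun ψ hψ => ?_⟩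
  have h1 := Subgroup.pow_index_mem (T : Subgroup (F.autGroup S)) (⟨ψ, hψ⟩ : F.autGroup S)
  rw [hI] at h1
  rw [hI]
  exact h1

theorem fix_of_pow (hS : IsPGroup p S) (hF : F.IsSaturated p) {R : MulAut ↥S} (hR : R ∈ F.autGroup S)
    {z : S} (hz : (z : Ω) ∈ zS S) (hp' : (R ^ p) z = z) : R z = z := by
  obtain ⟨m, hm, hmem⟩ := outer hS hF
  obtain ⟨g, hg⟩ := mem_inn.mp (hmem R hR)
  have h2 : (R ^ m) z = z := by
    rw [hg, (Subgroup.mem_center_iff.mp (mem_zS_center.mp hz) g), mul_inv_cancel_right]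
  have hcop : Nat.Coprime p m := (hp.out.coprime_iff_not_dvd).mpr hm
  have hb := Nat.gcd_eq_gcd_ab p m
  rw [hcop.gcd_eq_one, Nat.cast_one] at hb
  let St := MulAction.stabilizer (MulAut ↥S) z
  have hR1 : R ∈ St := by
    rw [← zpow_one R, hb, zpow_add, zpow_mul, zpow_mul, zpow_natCast, zpow_natCast]
    exact St.mul_mem (St.zpow_mem hp' _) (St.zpow_mem h2 _)
  exact hR1

/-- Two maps inverting `c`: their fixed points in the centre agree. -/
theorem refl_fix (hS : IsPGroup p S) (hF : F.IsSaturated p) {φ₁ φ₂ : MulAut ↥S} (h1 : φ₁ ∈ F.autGroup S)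
    (h2 : φ₂ ∈ F.autGroup S) {cS z w : S} {i : ℤ} (hcp : cS ^ p = 1) (hc1 : φ₁ cS = cS⁻¹) (hc2 : φ₂ cS = cS⁻¹)
    (hz : (z : Ω) ∈ zS S) (hf : φ₁ z = z) (hw : φ₂ w = w) (hzw : z = w * cS ^ i) : φ₂ z = z := by
  have e2 : φ₂ z = z * cS ^ (-i + -i) := by
    rw [hzw, map_mul, map_zpow, hw, hc2, inv_zpow', mul_assoc, ← zpow_add, add_neg_cancel_left]
  have hRc : (φ₂ * φ₁) cS = cS := by rw [MulAut.mul_apply, hc1, map_inv, hc2, inv_inv]
  have hRz : (φ₂ * φ₁) z = z * cS ^ (-i + -i) := by rw [MulAut.mul_apply, hf, e2]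
  have hpow : ∀ n : ℕ, ((φ₂ * φ₁) ^ n) z = z * (cS ^ (-i + -i)) ^ n := by
    intro n
    induction n with
    | zero => simp
    | succ n ih =>
      rw [pow_succ', MulAut.mul_apply, ih, map_mul, hRz, map_pow, map_zpow, hRc, pow_succ', mul_assoc]
  have h3 := fix_of_pow hS hF (Subgroup.mul_mem _ h2 h1) hz (by
    rw [hpow, ← zpow_natCast (cS ^ (-i + -i)), ← zpow_mul, mul_comm, zpow_mul, zpow_natCast, hcp, one_zpow,
      mul_one])
  rwa [MulAut.mul_apply, hf] at h3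

theorem sq_free {G : Type*} [Group G] (hp2 : p ≠ 2) {g : G} (hg : g ^ p = 1) {i : ℤ}
    (h : (g ^ i)⁻¹ = g ^ i) : g ^ i = 1 := by
  rcases eq_or_ne g 1 with rfl | hg1
  · simp
  rw [inv_eq_iff_mul_eq_one, ← zpow_add, ← orderOf_dvd_iff_zpow_eq_one, orderOf_eq_prime hg hg1] at h
  rw [← orderOf_dvd_iff_zpow_eq_one, orderOf_eq_prime hg hg1]
  rcases (Nat.prime_iff_prime_int.mp hp.out).dvd_or_dvd (show (p : ℤ) ∣ 2 * i by rwa [two_mul]) with h2 | h2
  · exact absurd ((Nat.prime_dvd_prime_iff_eq hp.out Nat.prime_two).mp (by exact_mod_cast h2)) hp2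
  · exact h2

theorem EssData.zS_eq_of_core_bot (h : EssData F p P c y) (hW : coreP F P = ⊥) : zS S = Subgroup.zpowers c := by
  refine le_antisymm (fun z hz => ?_) (Subgroup.zpowers_le.mpr h.cZ)
  obtain ⟨w, hw, i, rfl⟩ := h.decomp z hz
  rw [hW, Subgroup.mem_bot] at hw
  rw [hw, one_mul]
  exact Subgroup.zpow_mem _ (Subgroup.mem_zpowers c) i

theorem eq_bot_of_invariant (hS : IsPGroup p S) (hF : F.IsSaturated p) (hcore : F.core = ⊥) {Q : Subgroup Ω}
    (hQS : Q ≤ S) (hSinv : ∀ ψ ∈ F.autGroup S, ∀ x : S, (x : Ω) ∈ Q → ((ψ x : S) : Ω) ∈ Q)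
    (hE : ∀ R, F.IsEssential p R → R < S → Q ≤ R ∧ ∀ α ∈ F.autGroup R, ∀ x : R, (x : Ω) ∈ Q → ((α x : R) : Ω) ∈ Q) :
    Q = ⊥ := by
  refine le_bot_iff.mp (hcore ▸ le_sSup (isNormal_of_essential hS hF fun R hR => ?_))
  rcases hR with rfl | hR
  · exact ⟨hQS, hSinv⟩
  · rcases hR.1.1.lt_or_eq with h | rfl
    · exact hE R hR h
    · exact ⟨hQS, hSinv⟩

theorem EssData.eq_of_mem (h : EssData F p P c y) {P' : Subgroup Ω} {c' y' : Ω} (h' : EssData F p P' c' y')
    {k : Ω} (hk : k ∈ P) (hk' : k ∈ P') (hkZ : k ∉ zS S) : P' = P := by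
  refine le_antisymm (fun x hx => ?_) (fun x hx => ?_)
  · obtain ⟨z, hz, i, rfl⟩ := h'.decP hk' hkZ hx
    exact P.mul_mem (h.zle hz) (P.zpow_mem hk i)
  · obtain ⟨z, hz, i, rfl⟩ := h.decP hk hkZ hx
    exact P'.mul_mem (h'.zle hz) (P'.zpow_mem hk' i)

theorem odd_core (hS : IsPGroup p S) (hF : F.IsSaturated p) (hcore : F.core = ⊥)
    (hZ : (zS S).relIndex S ≤ p ^ 2) (hp2 : p ≠ 2) (h : EssData F p P c y) : coreP F P = ⊥ := by
  obtain ⟨φ, hφ, hφc, hφW⟩ := h.refl hp2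
  let cS : S := ⟨c, zS_le h.cZ⟩
  have hcp : cS ^ p = 1 := Subtype.ext h.cp
  have hc0 : φ cS = cS⁻¹ := Subtype.ext (hφc cS rfl)
  refine eq_bot_of_invariant hS hF hcore (coreP_le.trans h.le) ?_ fun R hR hRS => ?_
  · intro ψ hψ x hx
    have hinv : ∀ τ : MulAut ↥S, ∃ n : ℤ, τ cS = cS ^ n := fun τ => by
      obtain ⟨n, hn⟩ := Subgroup.mem_zpowers_iff.mp (h.aut_line τ cS rfl)
      exact ⟨n, Subtype.ext (by rw [SubgroupClass.coe_zpow]; exact hn.symm)⟩
    obtain ⟨k, hk⟩ := hinv ψ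
    obtain ⟨l, hl⟩ := hinv ψ⁻¹
    obtain ⟨w, hw, i, hwe⟩ := h.decomp _ (aut_zS ψ (coreP_le_zS hx))
    have hwS : w ∈ S := h.le (coreP_le hw)
    have e : ψ x = ⟨w, hwS⟩ * cS ^ i := Subtype.ext (by rw [Subgroup.coe_mul, SubgroupClass.coe_zpow]; exact hwe)
    have e2 : x = ψ⁻¹ ⟨w, hwS⟩ * cS ^ (l * i) := by
      rw [zpow_mul, ← hl, ← map_zpow, ← map_mul, ← e, MulAut.inv_apply_self]
    have hc2 : (ψ⁻¹ * φ * ψ) cS = cS⁻¹ := by
      rw [MulAut.mul_apply, MulAut.mul_apply, hk, map_zpow, hc0, inv_zpow, map_inv, ← hk, MulAut.inv_apply_self]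
    have hw2 : (ψ⁻¹ * φ * ψ) (ψ⁻¹ ⟨w, hwS⟩) = ψ⁻¹ ⟨w, hwS⟩ := by
      rw [MulAut.mul_apply, MulAut.mul_apply, MulAut.apply_inv_self, hφW _ hw]
    have h3 := refl_fix hS hF hφ (Subgroup.mul_mem _ (Subgroup.mul_mem _ (Subgroup.inv_mem _ hψ) hφ) hψ)
      hcp hc0 hc2 (coreP_le_zS hx) (hφW x hx) hw2 e2
    have h4 : φ (ψ x) = ψ x := by
      have := congrArg ψ h3
      rwa [MulAut.mul_apply, MulAut.mul_apply, MulAut.apply_inv_self] at this
    rw [e, map_mul, map_zpow, hφW ⟨w, hwS⟩ hw, hc0, inv_zpow] at h4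
    rw [e, sq_free hp2 hcp (mul_left_cancel h4), mul_one]
    exact hw
  · obtain ⟨c', y', h'⟩ := essData hS hF hZ hR hRS
    obtain ⟨φ', hφ', hφc', hφW'⟩ := h'.refl hp2
    let cS' : S := ⟨c', zS_le h'.cZ⟩
    have hcp' : cS' ^ p = 1 := Subtype.ext h'.cp
    have hc0' : φ' cS' = cS'⁻¹ := Subtype.ext (hφc' cS' rfl)
    obtain ⟨k, hk⟩ := Subgroup.mem_zpowers_iff.mp ((h.line_eq h').le (Subgroup.mem_zpowers c'))
    have hk' : cS' = cS ^ k := Subtype.ext (by rw [SubgroupClass.coe_zpow]; exact hk.symm)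
    have hc0'' : φ cS' = cS'⁻¹ := by rw [hk', map_zpow, hc0, inv_zpow]
    have hsub : coreP F P ≤ coreP F R := by
      intro x hx
      have hxS : x ∈ S := zS_le (coreP_le_zS hx)
      obtain ⟨w, hw, i, hwe⟩ := h'.decomp x (coreP_le_zS hx)
      have hwS : w ∈ S := h'.le (coreP_le hw)
      have e : (⟨x, hxS⟩ : S) = ⟨w, hwS⟩ * cS' ^ i :=
        Subtype.ext (by rw [Subgroup.coe_mul, SubgroupClass.coe_zpow]; exact hwe)
      have h3 := refl_fix hS hF hφ hφ' hcp' hc0'' hc0' (coreP_le_zS (x := x) hx) (hφW ⟨x, hxS⟩ hx)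
        (hφW' _ hw) e
      rw [e, map_mul, map_zpow, hφW' ⟨w, hwS⟩ hw, hc0', inv_zpow] at h3
      have := congrArg Subtype.val e
      rw [sq_free hp2 hcp' (mul_left_cancel h3), mul_one] at this
      have hxw : x = w := this
      rw [hxw]; exact hw
    have hsup : coreP F R ≤ coreP F P := by
      intro x hx
      have hxS : x ∈ S := zS_le (coreP_le_zS hx)
      obtain ⟨w, hw, i, hwe⟩ := h.decomp x (coreP_le_zS hx)
      have h4 : c ^ i ∈ coreP F R := by
        have := (coreP F R).mul_mem ((coreP F R).inv_mem (hsub hw)) hx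
        rwa [hwe, inv_mul_cancel_left] at this
      rcases eq_or_ne (c ^ i) 1 with h5 | h5
      · rw [hwe, h5, mul_one]; exact hw
      · refine absurd ?_ h'.cW
        have h6 := (zpowers_eq h.cp (Subgroup.zpow_mem _ (Subgroup.mem_zpowers c) i) h5).ge
          ((h.line_eq h').le (Subgroup.mem_zpowers c'))
        exact (Subgroup.zpowers_le.mpr h4) h6
    refine ⟨fun x hx => coreP_le (hsub hx), fun α hα x hx => hsup (coreP_inv hα (hsub hx))⟩

theorem card_eq_cube (h : EssData F p P c y) (hW : coreP F P = ⊥) : Nat.card S = p ^ 3 := by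
  have hc : Nat.card (zS S) = p := by
    rw [h.zS_eq_of_core_bot hW, Nat.card_zpowers, orderOf_eq_prime h.cp h.c1]
  have h1 := Subgroup.relIndex_mul_relIndex _ _ _ (bot_le : ⊥ ≤ zS S) (h.zle.trans h.le)
  rw [Subgroup.relIndex_bot_left, Subgroup.relIndex_bot_left, hc,
    ← Subgroup.relIndex_mul_relIndex _ _ _ h.zle h.le, h.relP, h.relS] at h1
  rw [← h1]; ring

theorem extraspecial (hS : IsPGroup p S) (h : EssData F p P c y) (hW : coreP F P = ⊥) :
    Cfsg.IsExtraspecial p ↥S := by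
  have hz := h.zS_eq_of_core_bot hW
  have hcen : Subgroup.center ↥S = Subgroup.zpowers (⟨c, zS_le h.cZ⟩ : S) := by
    ext x
    rw [← mem_zS_center, hz, Subgroup.mem_zpowers_iff, Subgroup.mem_zpowers_iff]
    simp only [Subtype.ext_iff, SubgroupClass.coe_zpow]
  have hcard : Nat.card (Subgroup.center ↥S) = p := by
    rw [hcen, Nat.card_zpowers]
    exact orderOf_eq_prime (Subtype.ext h.cp) fun e => h.c1 (congrArg Subtype.val e)
  have hle : commutator ↥S ≤ Subgroup.center ↥S := by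
    rw [commutator_def, Subgroup.commutator_le]
    intro a _ b _
    rw [← mem_zS_center, coe_comm]
    exact (Subgroup.zpowers_le.mpr h.cZ) (h.comm a a.2 b b.2)
  have hge : Subgroup.center ↥S ≤ commutator ↥S := by
    obtain ⟨g, hg, hne⟩ := h.comm_ne
    obtain ⟨n, hn⟩ := Subgroup.mem_zpowers_iff.mp
      ((zpowers_eq h.cp (h.comm g hg y (h.le h.yP)) hne).ge (Subgroup.mem_zpowers c))
    rw [hcen, Subgroup.zpowers_le]
    have e : (⟨c, zS_le h.cZ⟩ : S) = ⁅(⟨g, hg⟩ : S), ⟨y, h.le h.yP⟩⁆ ^ n :=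
      Subtype.ext (by rw [SubgroupClass.coe_zpow, coe_comm]; exact hn.symm)
    rw [e, commutator_def]
    exact Subgroup.zpow_mem _ (Subgroup.commutator_mem_commutator (Subgroup.mem_top _) (Subgroup.mem_top _)) n
  refine ⟨⟨hS, le_antisymm (CfsgLib.PGroup.frattini_le_of (p := p) _ hle fun x => ?_)
    (hge.trans (CfsgLib.PGroup.commutator_le_frattini hS)), le_antisymm hle hge⟩, hcard⟩
  rw [Subgroup.mem_center_iff]
  intro g
  -- `x ^ p` commutes with everything, since commutators have order `p`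
  have hcen' : ⁅x, g⁆ ∈ Subgroup.center ↥S := hle (Subgroup.commutator_mem_commutator (Subgroup.mem_top _) (Subgroup.mem_top _))
  refine commutatorElement_eq_one_iff_mul_comm.mp ?_ |>.symm
  rw [CfsgLib.PGroup.commutatorElement_pow_left_of_central hcen']
  rw [hcen] at hcen'
  obtain ⟨n, hn⟩ := Subgroup.mem_zpowers_iff.mp hcen'
  rw [← hn, ← zpow_natCast, ← zpow_mul, mul_comm, zpow_mul, zpow_natCast,
    show (⟨c, zS_le h.cZ⟩ : S) ^ p = 1 from Subtype.ext h.cp, one_zpow]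

theorem exponent_eq (hS : IsPGroup p S) (hF : F.IsSaturated p) (hcore : F.core = ⊥)
    (hZ : (zS S).relIndex S ≤ p ^ 2) (hp2 : p ≠ 2) (h : EssData F p P c y) (hW : coreP F P = ⊥) :
    Monoid.exponent ↥S = p := by
  have hz := h.zS_eq_of_core_bot hW
  have hex := extraspecial hS h hW
  have hcen1 : ∀ t : S, t ∈ Subgroup.center ↥S → t ^ p = 1 := fun t ht => by
    have := congrArg Subtype.val (pow_card_eq_one' (G := Subgroup.center ↥S) (x := ⟨t, ht⟩))
    rw [hex.2] at this; exact this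
  have hmul : ∀ a b : S, (a * b) ^ p = a ^ p * b ^ p := fun a b => by
    have hm : ⁅b, a⁆ ∈ Subgroup.center ↥S := by
      rw [← hex.1.2.2, commutator_def]
      exact Subgroup.commutator_mem_commutator (Subgroup.mem_top _) (Subgroup.mem_top _)
    exact CfsgLib.PGroup.mul_pow_odd_of_central (hp.out.odd_of_ne_two hp2) hm (hcen1 _ hm)
  have hall : ∀ (R : Subgroup Ω) {d e : Ω}, EssData F p R d e → ∀ x ∈ R, x ^ p = 1 := by
    intro R d e hR x hx
    obtain ⟨z, hz', i, rfl⟩ := hR.decP hR.yP hR.yZ hx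
    have hco : Commute z (e ^ i) := ((mem_zS.mp hz').2 _ (S.zpow_mem (hR.le hR.yP) i)).symm
    rw [hco.mul_pow, ← zpow_natCast (e ^ i), ← zpow_mul, mul_comm i, zpow_mul, zpow_natCast, hR.yp, one_zpow,
      mul_one]
    rw [hz] at hz'
    obtain ⟨j, rfl⟩ := Subgroup.mem_zpowers_iff.mp hz'
    rw [← zpow_natCast (c ^ j), ← zpow_mul, mul_comm, zpow_mul, zpow_natCast, h.cp, one_zpow]
  by_cases hexp : ∀ x : S, x ^ p = 1
  · refine Nat.dvd_antisymm (Monoid.exponent_dvd_of_forall_pow_eq_one hexp) ?_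
    have h1 : orderOf (⟨c, zS_le h.cZ⟩ : S) = p :=
      orderOf_eq_prime (Subtype.ext h.cp) fun e => h.c1 (congrArg Subtype.val e)
    have h2 := Monoid.order_dvd_exponent (⟨c, zS_le h.cZ⟩ : S)
    rwa [h1] at h2
  · exfalso
    push Not at hexp
    obtain ⟨x₀, hx₀⟩ := hexp
    have hmem : ∀ g : S, g ^ p = 1 → (g : Ω) ∈ P := by
      intro g hg
      by_contra hgP
      refine hx₀ ?_
      obtain ⟨q, hq, i, hqe⟩ := h.decS g.2 hgP x₀.2
      have e : x₀ = ⟨q, h.le hq⟩ * g ^ i := Subtype.ext hqe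
      rw [e, hmul, ← zpow_natCast (g ^ i), ← zpow_mul, mul_comm i, zpow_mul, zpow_natCast, hg, one_zpow, mul_one]
      exact Subtype.ext (hall P h q hq)
    have hP0 : P = ⊥ := by
      refine eq_bot_of_invariant hS hF hcore h.le ?_ fun R hR hRS => ?_
      · intro ψ hψ x hx
        exact hmem _ (by rw [← map_pow, show x ^ p = 1 from Subtype.ext (hall P h x hx), map_one])
      · obtain ⟨d, e, hRd⟩ := essData hS hF hZ hR hRS
        have hRP : R = P := h.eq_of_mem hRd (hmem ⟨e, hRd.le hRd.yP⟩ (Subtype.ext hRd.yp)) hRd.yP hRd.yZ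
        subst hRP
        exact ⟨le_rfl, fun α hα x hx => (α x).2⟩
    exact h.yZ (by rw [show y = 1 from Subgroup.mem_bot.mp (hP0 ▸ h.yP)]; exact (zS S).one_mem)

end main

end Cfsg.Agent.S5265Aux

namespace Cfsg.Agent.S5265Aux

section two

variable {Ω : Type*} [Group Ω] {S P : Subgroup Ω} {F : FusionSystem S} {c y : Ω}

theorem zpow_two_cases {G : Type*} [Group G] {g : G} (hg : g ^ 2 = 1) (i : ℤ) : g ^ i = 1 ∨ g ^ i = g := by
  have h2 : g ^ (2 : ℤ) = 1 := by rw [show g ^ (2 : ℤ) = g ^ 2 from zpow_natCast g 2, hg]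
  rcases Int.even_or_odd i with ⟨k, rfl⟩ | ⟨k, rfl⟩
  · left; rw [← two_mul, zpow_mul, h2, one_zpow]
  · right; rw [zpow_add, zpow_mul, h2, one_zpow, one_mul, zpow_one]

variable [Finite S]

theorem cosets (h : EssData F 2 P c y) {y2 x : Ω} (hy2 : y2 ∈ S) (hy2P : y2 ∉ P) (hy22 : y2 ^ 2 = 1)
    (hx : x ∈ S) (hx2 : x ^ 2 = 1) : x ∈ P ∨ y2⁻¹ * x ∈ zS S := by
  obtain ⟨q, hq, i, rfl⟩ := h.decS hy2 hy2P hx
  rcases zpow_two_cases hy22 i with e | e <;> rw [e] at hx2 ⊢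
  · left; rw [mul_one]; exact hq
  obtain ⟨z, hz, j, rfl⟩ := h.decP h.yP h.yZ hq
  rcases zpow_two_cases h.yp j with e' | e' <;> rw [e'] at hx2 ⊢
  · right
    rw [mul_one, (mem_zS.mp hz).2 _ hy2 |>.symm, inv_mul_cancel_left]
    exact hz
  exfalso
  have hyS : y ∈ S := h.le h.yP
  have hyi : y⁻¹ = y := inv_eq_of_mul_eq_one_left (by rw [← pow_two, h.yp])
  have hy2i : y2⁻¹ = y2 := inv_eq_of_mul_eq_one_left (by rw [← pow_two, hy22])
  have hsq : (y * y2) ^ 2 = ⁅y, y2⁆ := by rw [pow_two, commutatorElement_def, hyi, hy2i]; group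
  have hco : Commute z (y * y2) := ((mem_zS.mp hz).2 _ (S.mul_mem hyS hy2)).symm
  rw [mul_assoc, hco.mul_pow, hsq] at hx2
  have hne : ⁅y, y2⁆ ≠ 1 := fun e => h.yZ (mem_zS.mpr ⟨hyS, fun g hg => by
    obtain ⟨q, hq, i, rfl⟩ := h.decS hy2 hy2P hg
    obtain ⟨t, ht, j, rfl⟩ := h.decP h.yP h.yZ hq
    have c1 : Commute t y := ((mem_zS.mp ht).2 _ hyS).symm
    have c3 : Commute y y2 := commutatorElement_eq_one_iff_commute.mp e
    exact ((c1.mul_left ((Commute.refl y).zpow_left j)).mul_left (c3.symm.zpow_left i)).eq⟩)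
  have hmem := h.comm y hyS y2 hy2
  obtain ⟨n, hn⟩ := Subgroup.mem_zpowers_iff.mp hmem
  rcases zpow_two_cases h.cp n with e'' | e''
  · exact hne (by rw [← hn, e''])
  rw [← hn, e''] at hx2
  obtain ⟨w, hw, k, rfl⟩ := h.decomp z hz
  have hwc : Commute w (c ^ k) := ((mem_zS.mp (coreP_le_zS hw)).2 _ (S.zpow_mem (zS_le h.cZ) k)).symm
  have hck : (c ^ k) ^ 2 = 1 := by
    rw [← zpow_natCast (c ^ k), ← zpow_mul, mul_comm, zpow_mul, zpow_natCast, h.cp, one_zpow]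
  rw [hwc.mul_pow, hck, mul_one] at hx2
  refine h.cW ?_
  rw [← inv_eq_of_mul_eq_one_right hx2]
  exact (coreP F P).inv_mem ((coreP F P).pow_mem hw 2)

theorem aut_pres (hS : IsPGroup 2 S) (hF : F.IsSaturated 2) (h : EssData F 2 P c y) {y2 : Ω} (hy2 : y2 ∈ S)
    (hy2P : y2 ∉ P) (hy22 : y2 ^ 2 = 1) {ψ : MulAut ↥S} (hψ : ψ ∈ F.autGroup S) (x : S) (hx : (x : Ω) ∈ P) :
    ((ψ x : S) : Ω) ∈ P := by
  let Y : S := ⟨y, h.le h.yP⟩
  have hY2 : ∀ τ : MulAut ↥S, ((τ Y : S) : Ω) ^ 2 = 1 := fun τ => by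
    rw [← SubgroupClass.coe_pow, ← map_pow, show Y ^ 2 = 1 from Subtype.ext h.yp, map_one, Subgroup.coe_one]
  have hYnZ : ∀ τ : MulAut ↥S, ((τ Y : S) : Ω) ∉ zS S := fun τ hτ => h.yZ ((aut_zS_iff τ).mp hτ)
  have hrel : ∀ τ : MulAut ↥S, ((τ Y : S) : Ω) ∈ P → ((Y⁻¹ * τ Y : S) : Ω) ∈ zS S := fun τ hτ => by
    obtain ⟨z, hz, j, hj⟩ := h.decP h.yP h.yZ hτ
    rcases zpow_two_cases h.yp j with e | e <;> rw [e] at hj
    · exact absurd (by rw [hj, mul_one]; exact hz) (hYnZ τ)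
    · rw [Subgroup.coe_mul, hj, Subgroup.coe_inv, ← (mem_zS.mp hz).2 y (h.le h.yP), inv_mul_cancel_left]
      exact hz
  have key : ((ψ Y : S) : Ω) ∈ P := by
    by_contra hn
    have h1 : y2⁻¹ * ((ψ Y : S) : Ω) ∈ zS S := (cosets h hy2 hy2P hy22 (ψ Y).2 (hY2 ψ)).resolve_left hn
    have hnot : ((Y⁻¹ * ψ Y : S) : Ω) ∉ zS S := fun hz => hn (by
      have := P.mul_mem h.yP (h.zle hz)
      rwa [Subgroup.coe_mul, Subgroup.coe_inv, mul_inv_cancel_left] at this)
    have h2 : ((ψ (ψ Y) : S) : Ω) ∈ P := by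
      rcases cosets h hy2 hy2P hy22 (ψ (ψ Y)).2 (hY2 (ψ * ψ)) with h2 | h2
      · exact h2
      · exfalso
        refine hnot ((aut_zS_iff ψ).mp ?_)
        rw [map_mul, map_inv, Subgroup.coe_mul, Subgroup.coe_inv]
        have := (zS S).mul_mem ((zS S).inv_mem h1) h2
        rwa [mul_inv_rev, inv_inv, mul_assoc, mul_inv_cancel_left] at this
    have h2' := hrel (ψ * ψ) h2
    have hev : ∀ k : ℕ, ((Y⁻¹ * (ψ ^ (2 * k)) Y : S) : Ω) ∈ zS S := by
      intro k
      induction k with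
      | zero => simp
      | succ k ih =>
        have := (zS S).mul_mem h2' (aut_zS (ψ * ψ) ih)
        rw [← Subgroup.coe_mul, map_mul, map_inv, mul_assoc, mul_inv_cancel_left] at this
        rwa [show 2 * (k + 1) = 2 + 2 * k by ring, pow_add, pow_two, MulAut.mul_apply _ (ψ * ψ)]
    obtain ⟨m, hm, hmem⟩ := outer hS hF
    obtain ⟨k, rfl⟩ : Odd m := Nat.not_even_iff_odd.mp fun he => hm (even_iff_two_dvd.mp he)
    obtain ⟨g, hg⟩ := mem_inn.mp (hmem ψ hψ)
    have h3 : (((ψ ^ (2 * k + 1)) Y : S) : Ω) ∈ P := by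
      rw [hg]; exact h.normal g.2 h.yP
    have h4 := aut_zS ψ (hev k)
    rw [map_mul, map_inv, ← MulAut.mul_apply _ ψ (ψ ^ (2 * k)), ← pow_succ', Subgroup.coe_mul,
      Subgroup.coe_inv] at h4
    refine hn ?_
    have := P.mul_mem h3 (P.inv_mem (h.zle h4))
    rwa [mul_inv_rev, inv_inv, mul_inv_cancel_left] at this
  obtain ⟨z, hz, i, hi⟩ := h.decP h.yP h.yZ hx
  have e : x = ⟨z, zS_le hz⟩ * Y ^ i := Subtype.ext (by rw [Subgroup.coe_mul, SubgroupClass.coe_zpow]; exact hi)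
  rw [e, map_mul, map_zpow, Subgroup.coe_mul, SubgroupClass.coe_zpow]
  exact P.mul_mem (h.zle (aut_zS ψ (show ((⟨z, zS_le hz⟩ : S) : Ω) ∈ zS S from hz))) (P.zpow_mem key i)

theorem coreP_pres (hS : IsPGroup 2 S) (hF : F.IsSaturated 2) (h : EssData F 2 P c y) {y2 : Ω} (hy2 : y2 ∈ S)
    (hy2P : y2 ∉ P) (hy22 : y2 ^ 2 = 1) {ψ : MulAut ↥S} (hψ : ψ ∈ F.autGroup S) (x : S)
    (hx : (x : Ω) ∈ coreP F P) : ((ψ x : S) : Ω) ∈ coreP F P := by
  obtain ⟨φ, hφ, -, hφe⟩ := exists_map_of_mem_autGroup le_rfl hψ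
  have hm := restrict_mem h.le hφ
  obtain ⟨α, hα, hαe⟩ := exists_aut hm (range_eq_of_card_le hm h.le
    (fun t => by
      show φ (Subgroup.inclusion h.le t) ∈ P
      rw [hφe]; exact aut_pres hS hF h hy2 hy2P hy22 hψ _ t.2) le_rfl)
  have := coreP_inv hα (x := ⟨x, coreP_le hx⟩) hx
  rw [hαe] at this
  simp only [MonoidHom.comp_apply, hφe] at this
  exact this

theorem two_main (hS : IsPGroup 2 S) (hF : F.IsSaturated 2) (hcore : F.core = ⊥)
    (hhyp : F.hyperfocalSubgroup 2 = S) (hZ : (zS S).relIndex S ≤ 2 ^ 2)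
    (h : EssData F 2 P c y) :
    Cfsg.IsExtraspecial 2 ↥S ∧ Nat.card S = 2 ^ 3 ∧ Nonempty (↥S ≃* DihedralGroup 4) := by
  -- a second essential subgroup
  obtain ⟨R, hR, hRS, hRP⟩ : ∃ R, F.IsEssential 2 R ∧ R < S ∧ R ≠ P := by
    by_contra hno
    push Not at hno
    have hP0 : P = ⊥ := by
      refine eq_bot_of_invariant hS hF hcore h.le ?_ fun R hR hRS => ?_
      · intro ψ hψ x hx
        by_contra hn
        -- otherwise the image of `P` would be essential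
        obtain ⟨z, hz, i, hi⟩ := h.decP h.yP h.yZ hx
        have e : x = ⟨z, zS_le hz⟩ * (⟨y, h.le h.yP⟩ : S) ^ i :=
          Subtype.ext (by rw [Subgroup.coe_mul, SubgroupClass.coe_zpow]; exact hi)
        have hy2 : ((ψ ⟨y, h.le h.yP⟩ : S) : Ω) ^ 2 = 1 := by
          rw [← SubgroupClass.coe_pow, ← map_pow,
            show (⟨y, h.le h.yP⟩ : S) ^ 2 = 1 from Subtype.ext h.yp, map_one, Subgroup.coe_one]
        have hy2P : ((ψ ⟨y, h.le h.yP⟩ : S) : Ω) ∉ P := fun hm => hn (by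
          rw [e, map_mul, map_zpow, Subgroup.coe_mul, SubgroupClass.coe_zpow]
          exact P.mul_mem (h.zle (aut_zS ψ (show ((⟨z, zS_le hz⟩ : S) : Ω) ∈ zS S from hz))) (P.zpow_mem hm i))
        exact hn (aut_pres hS hF h (ψ _).2 hy2P hy2 hψ x hx)
      · obtain rfl := hno R hR hRS
        exact ⟨le_rfl, fun α _ x _ => (α x).2⟩
    exact h.yZ (by rw [show y = 1 from Subgroup.mem_bot.mp (hP0 ▸ h.yP)]; exact (zS S).one_mem)
  obtain ⟨c', y', h'⟩ := essData hS hF hZ hR hRS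
  have hy'P : y' ∉ P := fun hm => hRP (h.eq_of_mem h' hm h'.yP h'.yZ)
  have hyR : y ∉ R := fun hm => hRP (h.eq_of_mem h' h.yP hm h.yZ)
  have hy'S : y' ∈ S := h'.le h'.yP
  have hyS : y ∈ S := h.le h.yP
  have hc' : c' = c := by
    obtain ⟨n, hn⟩ := Subgroup.mem_zpowers_iff.mp ((h.line_eq h').le (Subgroup.mem_zpowers c'))
    rcases zpow_two_cases h.cp n with e | e <;> rw [e] at hn
    · exact absurd hn.symm h'.c1
    · exact hn.symm
  have hall : ∀ R', F.IsEssential 2 R' → R' < S → R' = P ∨ R' = R := by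
    intro R' hR' hR'S
    obtain ⟨c2, y2, h2⟩ := essData hS hF hZ hR' hR'S
    rcases cosets h hy'S hy'P h'.yp (h2.le h2.yP) h2.yp with hm | hm
    · exact Or.inl (h.eq_of_mem h2 hm h2.yP h2.yZ)
    · refine Or.inr (h'.eq_of_mem h2 ?_ h2.yP h2.yZ)
      have := R.mul_mem h'.yP (h'.zle hm)
      rwa [mul_inv_cancel_left] at this
  have hpP := fun {ψ : MulAut ↥S} (hψ : ψ ∈ F.autGroup S) => coreP_pres hS hF h hy'S hy'P h'.yp hψ
  have hpR := fun {ψ : MulAut ↥S} (hψ : ψ ∈ F.autGroup S) => coreP_pres hS hF h' hyS hyR h.yp hψ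
  have hQ : coreP F P ⊓ coreP F R = ⊥ := by
    refine eq_bot_of_invariant hS hF hcore ((inf_le_left.trans coreP_le).trans h.le) ?_ fun R' hR' hR'S => ?_
    · exact fun ψ hψ x hx => ⟨hpP hψ x hx.1, hpR hψ x hx.2⟩
    · rcases hall R' hR' hR'S with rfl | rfl
      · refine ⟨inf_le_left.trans coreP_le, fun α hα x hx => ⟨coreP_inv hα hx.1, ?_⟩⟩
        obtain ⟨ψ, hψ, hψe⟩ := h.agree rfl α hα
        rw [hψe x (h.le x.2) hx.1]
        exact hpR hψ ⟨x, h.le x.2⟩ hx.2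
      · refine ⟨inf_le_right.trans coreP_le, fun α hα x hx => ⟨?_, coreP_inv hα hx.2⟩⟩
        obtain ⟨ψ, hψ, hψe⟩ := h'.agree rfl α hα
        rw [hψe x (h'.le x.2) hx.2]
        exact hpP hψ ⟨x, h'.le x.2⟩ hx.1
  -- both cores have at most two elements
  have small : ∀ {A B : Subgroup Ω} {a b : Ω}, EssData F 2 A a b → ∀ {B' : Subgroup Ω} {a' b' : Ω},
      EssData F 2 B' a' b' → a' = a → coreP F A ⊓ coreP F B' = ⊥ →
      ∀ u ∈ coreP F A, ∀ v ∈ coreP F A, u ≠ 1 → v ≠ 1 → u = v := by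
    intro A B a b hA B' a' b' hB haa hAB u hu v hv hu1 hv1
    subst haa
    have hd : ∀ t ∈ coreP F A, t ≠ 1 → a' * t ∈ coreP F B' := by
      intro t ht ht1
      obtain ⟨w, hw, i, hi⟩ := hB.decomp t (coreP_le_zS ht)
      rcases zpow_two_cases hB.cp i with e | e <;> rw [e] at hi
      · rw [mul_one] at hi
        exact absurd (Subgroup.mem_bot.mp (hAB ▸ (⟨ht, hi ▸ hw⟩ : t ∈ coreP F A ⊓ coreP F B'))) ht1
      · rw [hi, (mem_zS.mp hB.cZ).2 w (zS_le (coreP_le_zS hw)), ← mul_assoc, ← pow_two, hB.cp, one_mul]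
        exact hw
    have h1 := (coreP F B').mul_mem ((coreP F B').inv_mem (hd u hu hu1)) (hd v hv hv1)
    rw [mul_inv_rev, mul_assoc, inv_mul_cancel_left] at h1
    exact inv_mul_eq_one.mp (Subgroup.mem_bot.mp (hAB ▸ (⟨(coreP F A).mul_mem ((coreP F A).inv_mem hu) hv, h1⟩ :
      u⁻¹ * v ∈ coreP F A ⊓ coreP F B')))
  have sP := small (A := P) (B := P) h h' hc' hQ
  have sR := small (A := R) (B := R) h' h hc'.symm (by rw [inf_comm]; exact hQ)
  have fixW : ∀ {A : Subgroup Ω}, (∀ u ∈ coreP F A, ∀ v ∈ coreP F A, u ≠ 1 → v ≠ 1 → u = v) →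
      ∀ {B : Subgroup Ω} (β : MulAut B) (x : B), (x : Ω) ∈ coreP F A → ((β x : B) : Ω) ∈ coreP F A → β x = x := by
    intro A hA B β x hx hbx
    rcases eq_or_ne x 1 with rfl | hx1
    · exact map_one β
    · exact Subtype.ext (hA _ hbx _ hx (fun e => hx1 ((MulEquiv.map_eq_one_iff β).mp (Subtype.ext e)))
        fun e => hx1 (Subtype.ext e))
  have wsq : ∀ w ∈ coreP F P, w ^ 2 = 1 := by
    intro w hw
    rcases eq_or_ne w 1 with rfl | hw1
    · simp
    by_contra hne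
    have := sP _ ((coreP F P).pow_mem hw 2) _ hw hne hw1
    rw [pow_two] at this
    exact hw1 (mul_eq_left.mp this)
  have zsq : ∀ z ∈ zS S, z ^ 2 = 1 := by
    intro z hz
    obtain ⟨w, hw, i, rfl⟩ := h.decomp z hz
    have hwc : Commute w (c ^ i) := ((mem_zS.mp (coreP_le_zS hw)).2 _ (S.zpow_mem (zS_le h.cZ) i)).symm
    rw [hwc.mul_pow, wsq w hw, one_mul, ← zpow_natCast (c ^ i), ← zpow_mul, mul_comm, zpow_mul, zpow_natCast, h.cp,
      one_zpow]
  -- automorphisms of `S` are inner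
  have inner : ∀ ψ ∈ F.autGroup S, ψ ∈ Inn S := by
    intro ψ hψ
    let cS : S := ⟨c, zS_le h.cZ⟩
    have hcS : ψ cS = cS := by
      obtain ⟨n, hn⟩ := Subgroup.mem_zpowers_iff.mp (h.aut_line ψ cS rfl)
      rcases zpow_two_cases h.cp n with e | e <;> rw [e] at hn
      · exact absurd (congrArg Subtype.val ((MulEquiv.map_eq_one_iff ψ).mp (Subtype.ext hn.symm))) h.c1
      · exact Subtype.ext hn.symm
    have hZfix : ∀ z : S, (z : Ω) ∈ zS S → ψ z = z := by
      intro z hz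
      obtain ⟨w, hw, i, hi⟩ := h.decomp _ hz
      have hwS : w ∈ S := h.le (coreP_le hw)
      have e : z = ⟨w, hwS⟩ * cS ^ i := Subtype.ext (by rw [Subgroup.coe_mul, SubgroupClass.coe_zpow]; exact hi)
      rw [e, map_mul, map_zpow, hcS, fixW sP ψ ⟨w, hwS⟩ hw (hpP hψ ⟨w, hwS⟩ hw)]
    have inv2 : ∀ {A : Subgroup Ω} {a b : Ω}, EssData F 2 A a b → ∀ {t : Ω}, t ∈ S → t ∉ A → t ^ 2 = 1 →
        ∀ bS : S, (bS : Ω) = b → ψ (ψ bS) = bS := by
      intro A a b hA t ht htA ht2 bS hb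
      obtain ⟨z, hz, j, hj⟩ := hA.decP hA.yP hA.yZ (aut_pres hS hF hA ht htA ht2 hψ bS (hb ▸ hA.yP))
      rcases zpow_two_cases hA.yp j with e | e <;> rw [e] at hj
      · exact absurd ((aut_zS_iff ψ).mp (by rw [hj, mul_one]; exact hz)) (hb ▸ hA.yZ)
      have e' : ψ bS = ⟨z, zS_le hz⟩ * bS := Subtype.ext (by rw [Subgroup.coe_mul, hb]; exact hj)
      have hzz : (⟨z, zS_le hz⟩ : S) * ⟨z, zS_le hz⟩ = 1 := Subtype.ext (by
        rw [Subgroup.coe_mul, ← pow_two, zsq z hz]; rfl)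
      rw [e', map_mul, hZfix _ hz, e', ← mul_assoc, hzz, one_mul]
    have hψ2 : ψ * ψ = 1 := MulEquiv.ext fun x => by
      obtain ⟨q, hq, i, hx⟩ := h.decS hy'S hy'P x.2
      obtain ⟨z, hz, j, hq'⟩ := h.decP h.yP h.yZ hq
      have e : x = ⟨z, zS_le hz⟩ * (⟨y, hyS⟩ : S) ^ j * (⟨y', hy'S⟩ : S) ^ i :=
        Subtype.ext (by rw [hx, hq']; simp)
      rw [MulAut.one_apply, e, MulAut.mul_apply]
      simp only [map_mul ψ, map_zpow ψ, hZfix _ (show ((⟨z, zS_le hz⟩ : S) : Ω) ∈ zS S from hz),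
        inv2 h hy'S hy'P h'.yp ⟨y, hyS⟩ rfl, inv2 h' hyS hyR h.yp ⟨y', hy'S⟩ rfl]
    obtain ⟨m, hm, hmem⟩ := outer hS hF
    obtain ⟨k, rfl⟩ : Odd m := Nat.not_even_iff_odd.mp fun he => hm (even_iff_two_dvd.mp he)
    have h5 := hmem ψ hψ
    rwa [pow_succ', pow_mul, pow_two, hψ2, one_pow, mul_one] at h5
  -- the focal subgroup
  set D := Subgroup.closure {c, y, y'} with hD
  have hcD : c ∈ D := Subgroup.subset_closure (by simp)
  have hzD : Subgroup.zpowers c ≤ D := Subgroup.zpowers_le.mpr hcD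
  have hfoc : F.focalSubgroup ≤ D := by
    rw [FusionSystem.focalSubgroup, Subgroup.closure_le]
    rintro _ ⟨A, φ, x, hφ, rfl⟩
    refine rel_of_mem hS hF (r := fun a b => a⁻¹ * b ∈ D) ⟨fun a => by simp, fun {a b} hab => ?_,
      fun {a b e} h1 h2 => ?_⟩ (fun g hg t ht => ?_) ?_ hφ x
    · have := D.inv_mem hab; rwa [mul_inv_rev, inv_inv] at this
    · have := D.mul_mem h1 h2; rwa [mul_assoc, mul_inv_cancel_left] at this
    · have := hzD (h.comm t⁻¹ (S.inv_mem ht) g hg)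
      rwa [commutatorElement_def, inv_inv, show t⁻¹ * g * t * g⁻¹ = t⁻¹ * (g * t * g⁻¹) by group] at this
    intro A hA hAS _ α hα x
    rcases hA with rfl | hA
    · obtain ⟨g, hg⟩ := mem_inn.mp (inner α hα)
      rw [hg]
      have := hzD (h.comm (x : Ω)⁻¹ (Subgroup.inv_mem _ x.2) g g.2)
      rwa [commutatorElement_def, inv_inv,
        show (x : Ω)⁻¹ * g * x * (g : Ω)⁻¹ = (x : Ω)⁻¹ * (g * x * (g : Ω)⁻¹) by group] at this
    · rcases hAS.lt_or_eq with hlt | rfl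
      · rcases hall A hA hlt with rfl | rfl
        · refine Subgroup.closure_mono (by intro t; simp; tauto) (h.moves rfl α hα (fun t ht => ?_) x)
          exact fixW sP α t ht (coreP_inv hα ht)
        · refine Subgroup.closure_mono (by intro t; simp [hc']; tauto) (h'.moves rfl α hα (fun t ht => ?_) x)
          exact fixW sR α t ht (coreP_inv hα ht)
      · obtain ⟨g, hg⟩ := mem_inn.mp (inner α hα)
        rw [hg]
        have := hzD (h.comm (x : Ω)⁻¹ (Subgroup.inv_mem _ x.2) g g.2)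
        rwa [commutatorElement_def, inv_inv,
          show (x : Ω)⁻¹ * g * x * (g : Ω)⁻¹ = (x : Ω)⁻¹ * (g * x * (g : Ω)⁻¹) by group] at this
  have hSD : S ≤ D := hhyp.ge.trans ((hyperfocal_le_focal F 2).trans hfoc)
  have hform : ∀ t ∈ D, ∃ a ∈ Subgroup.zpowers c, ∃ i j : ℤ, t = a * y ^ i * y' ^ j := by
    let M : Subgroup Ω :=
      { carrier := {t | ∃ a ∈ Subgroup.zpowers c, ∃ i j : ℤ, t = a * y ^ i * y' ^ j}
        one_mem' := ⟨1, Subgroup.one_mem _, 0, 0, by simp⟩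
        mul_mem' := by
          rintro _ _ ⟨a, ha, i, j, rfl⟩ ⟨b, hb, k, l, rfl⟩
          refine ⟨a * b * ⁅y' ^ j, y ^ k⁆, Subgroup.mul_mem _ (Subgroup.mul_mem _ ha hb)
            (h.comm _ (S.zpow_mem hy'S j) _ (S.zpow_mem hyS k)), i + k, j + l, ?_⟩
          have hzc : ∀ {u}, u ∈ Subgroup.zpowers c → ∀ g ∈ S, g * u = u * g := fun hu g hg =>
            (mem_zS.mp ((Subgroup.zpowers_le.mpr h.cZ) hu)).2 g hg
          have e1 : y' ^ j * y ^ k = ⁅y' ^ j, y ^ k⁆ * (y ^ k * y' ^ j) := by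
            rw [commutatorElement_def]; group
          calc a * y ^ i * y' ^ j * (b * y ^ k * y' ^ l)
              = a * ((y ^ i * y' ^ j) * b) * y ^ k * y' ^ l := by group
            _ = a * (b * (y ^ i * y' ^ j)) * y ^ k * y' ^ l := by
                rw [hzc hb _ (S.mul_mem (S.zpow_mem hyS i) (S.zpow_mem hy'S j))]
            _ = a * b * y ^ i * (y' ^ j * y ^ k) * y' ^ l := by group
            _ = a * b * (y ^ i * ⁅y' ^ j, y ^ k⁆) * y ^ k * y' ^ j * y' ^ l := by rw [e1]; group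
            _ = a * b * ⁅y' ^ j, y ^ k⁆ * y ^ (i + k) * y' ^ (j + l) := by
                rw [hzc (h.comm _ (S.zpow_mem hy'S j) _ (S.zpow_mem hyS k)) _ (S.zpow_mem hyS i)]; group
        inv_mem' := by
          rintro _ ⟨a, ha, i, j, rfl⟩
          refine ⟨a⁻¹ * ⁅y' ^ (-j), y ^ (-i)⁆, Subgroup.mul_mem _ (Subgroup.inv_mem _ ha)
            (h.comm _ (S.zpow_mem hy'S _) _ (S.zpow_mem hyS _)), -i, -j, ?_⟩
          have hza : y' ^ (-j) * y ^ (-i) * a⁻¹ = a⁻¹ * (y' ^ (-j) * y ^ (-i)) :=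
            (mem_zS.mp ((Subgroup.zpowers_le.mpr h.cZ) (Subgroup.inv_mem _ ha))).2 _
              (S.mul_mem (S.zpow_mem hy'S _) (S.zpow_mem hyS _))
          calc (a * y ^ i * y' ^ j)⁻¹ = y' ^ (-j) * y ^ (-i) * a⁻¹ := by group
            _ = a⁻¹ * (y' ^ (-j) * y ^ (-i)) := hza
            _ = _ := by rw [commutatorElement_def]; group }
    intro t ht
    refine (Subgroup.closure_le (K := M)).mpr ?_ ht
    rintro s (rfl | rfl | rfl)
    · exact ⟨s, Subgroup.mem_zpowers s, 0, 0, by simp⟩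
    · exact ⟨1, Subgroup.one_mem _, 1, 0, by simp⟩
    · exact ⟨1, Subgroup.one_mem _, 0, 1, by simp⟩
  have hW : coreP F P = ⊥ := by
    rw [Subgroup.eq_bot_iff_forall]
    intro w hw
    by_contra hw1
    obtain ⟨a, ha, i, j, e⟩ := hform w (hSD (h.le (coreP_le hw)))
    have haP : a ∈ P := h.zle ((Subgroup.zpowers_le.mpr h.cZ) ha)
    rcases zpow_two_cases h'.yp j with e1 | e1 <;> rw [e1] at e
    · rcases zpow_two_cases h.yp i with e2 | e2 <;> rw [e2] at e
      · rw [mul_one, mul_one] at e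
        obtain ⟨n, hn⟩ := Subgroup.mem_zpowers_iff.mp ha
        rcases zpow_two_cases h.cp n with e3 | e3 <;> rw [e3] at hn
        · exact hw1 (e.trans hn.symm)
        · exact h.cW (hn ▸ e ▸ hw)
      · rw [mul_one] at e
        refine h.yZ ?_
        have := (zS S).mul_mem ((zS S).inv_mem ((Subgroup.zpowers_le.mpr h.cZ) ha)) (coreP_le_zS hw)
        rwa [e, inv_mul_cancel_left] at this
    · refine hy'P ?_
      have := P.mul_mem (P.inv_mem (P.mul_mem haP (P.zpow_mem h.yP i))) (coreP_le hw)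
      rwa [e, inv_mul_cancel_left] at this
  have hcard := card_eq_cube h hW
  refine ⟨extraspecial hS h hW, hcard, ?_⟩
  have hnc : ¬ ∀ a b : S, a * b = b * a := fun hab => by
    obtain ⟨g, hg, hne⟩ := h.comm_ne
    exact hne (commutatorElement_eq_one_iff_mul_comm.mpr (congrArg Subtype.val (hab ⟨g, hg⟩ ⟨y, hyS⟩)))
  refine (CfsgLib.Small.order_eight_dihedral_or_many_four hcard hnc).resolve_right ?_
  intro h4
  have hz := h.zS_eq_of_core_bot hW
  have hPsq : ∀ x ∈ P, x ^ 2 = 1 := by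
    intro x hx
    obtain ⟨z, hz', i, rfl⟩ := h.decP h.yP h.yZ hx
    have hco : Commute z (y ^ i) := ((mem_zS.mp hz').2 _ (S.zpow_mem hyS i)).symm
    rw [hco.mul_pow, zsq z hz', one_mul, ← zpow_natCast (y ^ i), ← zpow_mul, mul_comm i, zpow_mul, zpow_natCast,
      h.yp, one_zpow]
  have hPcard : Nat.card (P.subgroupOf S) = 4 := by
    have h1 := (P.subgroupOf S).card_mul_index
    rw [show (P.subgroupOf S).index = 2 from h.relS, hcard] at h1
    omega
  classical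
  have := Fintype.ofFinite S
  have hsub : (Finset.univ.filter fun t : S => orderOf t = 4) ⊆
      ((Finset.univ : Finset S) \ ((P.subgroupOf S : Set S).toFinset)).erase ⟨y', hy'S⟩ := by
    intro t ht
    rw [Finset.mem_filter] at ht
    have hne2 : t ^ 2 ≠ 1 := fun e2 => by
      have := orderOf_le_of_pow_eq_one two_pos e2
      omega
    rw [Finset.mem_erase, Finset.mem_sdiff, Set.mem_toFinset]
    exact ⟨fun e => hne2 (by rw [e]; exact Subtype.ext h'.yp), Finset.mem_univ _,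
      fun hm => hne2 (Subtype.ext (hPsq _ hm))⟩
  have hle := Finset.card_le_card hsub
  rw [Finset.card_erase_of_mem (by
      rw [Finset.mem_sdiff, Set.mem_toFinset]; exact ⟨Finset.mem_univ _, hy'P⟩),
    Finset.card_sdiff_of_subset (Finset.subset_univ _), Finset.card_univ, Set.toFinset_card,
    ← Nat.card_eq_fintype_card, hcard, ← Nat.card_eq_fintype_card,
    show Nat.card (P.subgroupOf S : Set S) = 4 from hPcard] at hle
  rw [Nat.card_eq_fintype_card, Fintype.card_subtype] at h4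
  omega

end two

end Cfsg.Agent.S5265Aux

namespace Cfsg.Agent.S5265

open Cfsg.Agent.S5265Aux

/-- Let p be a prime, S a nontrivial finite p-group whose centre has index at most p², and F a saturated fusion system over S with no nontrivial normal subgroup and with hyperfocal subgroup equal to S. Then S is extraspecial of order p³; for odd p it has exponent p, and for p = 2 it is dihedral of order 8. -/
theorem result {Ω : Type*} [Group Ω] {S : Subgroup Ω} [Finite S] (p : ℕ) [Fact p.Prime] (hS : IsPGroup p ↥S) (F : Cfsg.FusionSystem S) (hF : F.IsSaturated p) (hS1 : S ≠ ⊥) (hcore : F.core = ⊥) (hhyp : F.hyperfocalSubgroup p = S) (hZ : (Subgroup.center ↥S).index ≤ p ^ 2) : Cfsg.IsExtraspecial p ↥S ∧ Nat.card S = p ^ 3 ∧ (p ≠ 2 → Monoid.exponent ↥S = p) ∧ (p = 2 → Nonempty (↥S ≃* DihedralGroup 4)) := by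
  have hZ' : (zS S).relIndex S ≤ p ^ 2 := by
    rwa [Subgroup.relIndex, show (zS S).subgroupOf S = Subgroup.center ↥S from
      Subgroup.ext fun x => mem_zS_center]
  obtain ⟨P, hP, hPS⟩ := exists_essential hS hF hS1 hcore
  obtain ⟨c, y, h⟩ := essData hS hF hZ' hP hPS
  by_cases hp2 : p = 2
  · subst hp2
    obtain ⟨h1, h2, h3⟩ := two_main hS hF hcore hhyp hZ' h
    exact ⟨h1, h2, fun hne => absurd rfl hne, fun _ => h3⟩
  · have hW := odd_core hS hF hcore hZ' hp2 h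
    exact ⟨extraspecial hS h hW, card_eq_cube h hW, fun _ => exponent_eq hS hF hcore hZ' hp2 h hW,
      fun e => absurd e hp2⟩

end Cfsg.Agent.S5265
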