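import Cfsg.Statements.S5270
import Cfsg.Agent.Lib.Fusion.Alperin
import Cfsg.Agent.Lib.Fusion.MaxClass


set_option autoImplicit false
open Cfsg

namespace Cfsg.Agent.S5270

open CfsgLib.Fusion Cfsg.FusionSystem
open scoped commutatorElement

/-- Conjugation acting on an element of the second centre has centralizer of index at most `p`. -/
theorem index_centralizer_le {G : Type*} [Group G] [Finite G] {p : ℕ} (hc : Nat.card (Subgroup.center G) = p)
    {z : G} (hz : z ∈ Subgroup.upperCentralSeries G 2) : (Subgroup.centralizer {z}).index ≤ p := by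
  have hm : ∀ g : G, ⁅g, z⁆ ∈ Subgroup.center G := fun g => by
    have h := Subgroup.mem_upperCentralSeries_succ_iff.mp hz g
    rw [Subgroup.upperCentralSeries_one] at h
    rw [← commutatorElement_inv]
    exact inv_mem h
  let f : G →* G := MonoidHom.mk' (fun g => ⁅g, z⁆) fun g h => by
    have h1 := Subgroup.mem_center_iff.mp (hm h) g
    have h2 := Subgroup.mem_center_iff.mp (hm h) ⁅g, z⁆
    calc ⁅g * h, z⁆ = g * ⁅h, z⁆ * g⁻¹ * ⁅g, z⁆ := by simp only [commutatorElement_def]; group
      _ = ⁅h, z⁆ * ⁅g, z⁆ := by rw [h1]; group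
      _ = ⁅g, z⁆ * ⁅h, z⁆ := h2.symm
  have hk : f.ker = Subgroup.centralizer {z} := by
    ext g
    rw [MonoidHom.mem_ker, Subgroup.mem_centralizer_singleton_iff]
    exact commutatorElement_eq_one_iff_mul_comm
  rw [← hk, Subgroup.index_ker]
  have hr : f.range ≤ Subgroup.center G := by rintro _ ⟨g, rfl⟩; exact hm g
  exact hc ▸ Subgroup.card_le_of_le hr

/-- Let p ≥ 5 be a prime, S a finite p-group of maximal class of order p^n with n ≥ 4, and F a saturated fusion system over S. If some map of F defined on the second centre Z₂(S) with image Z₂(S) does not carry Z(S) into itself, then the centralizer C_S(Z₂(S)) is an F-essential subgroup. -/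
theorem result {Ω : Type*} [Group Ω] {S : Subgroup Ω} [Finite S] (p : ℕ) [Fact p.Prime] (hS : IsPGroup p ↥S) (n : ℕ) (hn : Nat.card S = p ^ n) (h4 : 4 ≤ n) (hmax : Subgroup.lowerCentralSeries S (n - 2) ≠ ⊥) (F : Cfsg.FusionSystem S) (hF : F.IsSaturated p) (hp : 5 ≤ p) (φ : ↥((Subgroup.upperCentralSeries ↥S 2).map S.subtype) →* Ω) (hφ : φ ∈ F.Hom ((Subgroup.upperCentralSeries ↥S 2).map S.subtype)) (hφZ : φ.range = ((Subgroup.upperCentralSeries ↥S 2).map S.subtype)) (hmove : ∃ (z : Ω) (hz : z ∈ ((Subgroup.upperCentralSeries ↥S 2).map S.subtype)), z ∈ ((Subgroup.center ↥S).map S.subtype) ∧ φ ⟨z, hz⟩ ∉ ((Subgroup.center ↥S).map S.subtype)) : F.IsEssential p (S ⊓ Subgroup.centralizer (((Subgroup.upperCentralSeries ↥S 2).map S.subtype) : Set Ω)) := by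
  have hp' : p.Prime := Fact.out
  have hmax' : (⊤ : Subgroup S).lowerCentralSeries (n - 2) ≠ ⊥ := fun h =>
    hmax (by rw [← Subgroup.top_subtype_lowerCentralSeries, h, Subgroup.map_bot])
  have hc1 : Nat.card (Subgroup.center S) = p := by
    rw [← Subgroup.upperCentralSeries_one, CfsgLib.Fusion.MaxClass.card_upperCentralSeries hS hn (by omega) hmax' (by omega : 1 + 2 ≤ n), pow_one]
  have hc2 : Nat.card (Subgroup.upperCentralSeries S 2) = p ^ 2 :=
    CfsgLib.Fusion.MaxClass.card_upperCentralSeries hS hn (by omega) hmax' (by omega : 2 + 2 ≤ n)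
  have h12 : Subgroup.center S ≤ Subgroup.upperCentralSeries S 2 := by
    rw [← Subgroup.upperCentralSeries_one]
    exact Subgroup.upperCentralSeries_mono S (by norm_num)
  have habel : ∀ a ∈ Subgroup.upperCentralSeries S 2, ∀ b ∈ Subgroup.upperCentralSeries S 2, a * b = b * a := by
    intro a ha b hb
    exact congrArg Subtype.val (IsPGroup.commutative_of_card_eq_prime_sq hc2
      (⟨a, ha⟩ : Subgroup.upperCentralSeries S 2) ⟨b, hb⟩)
  set Z2 := ((Subgroup.upperCentralSeries ↥S 2).map S.subtype) with hZ2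
  set M := centralizerIn S Z2 with hM
  change F.IsEssential p M
  obtain ⟨z, hz, hz1, hzφ⟩ := hmove
  have hZ2S : Z2 ≤ S := Subgroup.map_subtype_le _
  have hZ2M : Z2 ≤ M := by
    rintro _ ⟨a, ha, rfl⟩
    refine mem_centralizerIn.mpr ⟨a.2, ?_⟩
    rintro _ ⟨b, hb, rfl⟩
    exact congrArg Subtype.val (habel b hb a ha)
  have hnorm2 : normalizerIn S Z2 = S := by
    refine le_antisymm normalizerIn_le fun g hg => ⟨hg, ?_⟩
    have : Finite Z2 := finite_of_le hZ2S
    refine mem_normalizer_of_forall ?_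
    rintro _ ⟨a, ha, rfl⟩
    have hN2 : (Subgroup.upperCentralSeries S 2).Normal := inferInstance
    let g' : S := ⟨g, hg⟩
    exact ⟨g' * a * g'⁻¹, hN2.conj_mem a ha g', rfl⟩
  have hnormM : normalizerIn S M = S := by
    refine le_antisymm normalizerIn_le fun g hg => ⟨hg, ?_⟩
    have : Finite M := finite_of_le centralizerIn_le
    refine mem_normalizer_of_forall fun x hx => mem_centralizerIn.mpr
      ⟨S.mul_mem (S.mul_mem hg (mem_centralizerIn.mp hx).1) (S.inv_mem hg), fun y hy => ?_⟩
    have hy' := (Subgroup.mem_normalizer_iff''.mp (hnorm2.ge hg).2 y).mp hy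
    have h := (mem_centralizerIn.mp hx).2 _ hy'
    calc y * (g * x * g⁻¹) = g * (g⁻¹ * y * g * x) * g⁻¹ := by group
      _ = g * (x * (g⁻¹ * y * g)) * g⁻¹ := by rw [h]
      _ = g * x * g⁻¹ * y := by group
  obtain ⟨w, hw, hwc⟩ : ∃ w ∈ Subgroup.upperCentralSeries S 2, w ∉ Subgroup.center S := by
    by_contra h
    push Not at h
    have := Subgroup.card_le_of_le (show Subgroup.upperCentralSeries S 2 ≤ Subgroup.center S from h)
    rw [hc1, hc2] at this
    nlinarith [hp'.two_le]
  have hMsub : M.subgroupOf S = Subgroup.centralizer {w} := by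
    refine le_antisymm (fun x hx => ?_) fun x hx => ?_
    · rw [Subgroup.mem_centralizer_singleton_iff]
      have h := (mem_centralizerIn.mp hx).2 (w : Ω) ⟨w, hw, rfl⟩
      exact Subtype.ext h.symm
    · refine mem_centralizerIn.mpr ⟨x.2, ?_⟩
      rintro _ ⟨a, ha, rfl⟩
      have hgen : Subgroup.upperCentralSeries S 2 ≤ Subgroup.center S ⊔ Subgroup.zpowers w := by
        have hlt : Subgroup.center S < Subgroup.center S ⊔ Subgroup.zpowers w :=
          lt_of_le_of_ne le_sup_left fun e => hwc (e.ge (Subgroup.mem_sup_right (Subgroup.mem_zpowers w)))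
        have h1 := CfsgLib.Fusion.MaxClass.mul_card_le_of_lt hS hlt
        rw [hc1] at h1
        exact (CfsgLib.Fusion.eq_of_le_of_card_le (sup_le h12 (Subgroup.zpowers_le.mpr hw))
          (by rw [hc2, pow_two]; exact h1)).ge
      have hle : Subgroup.center S ⊔ Subgroup.zpowers w ≤ Subgroup.centralizer {x} := by
        refine sup_le (fun c hc => ?_) (Subgroup.zpowers_le.mpr ?_)
        · rw [Subgroup.mem_centralizer_singleton_iff]
          exact (Subgroup.mem_center_iff.mp hc x).symm
        · rw [Subgroup.mem_centralizer_singleton_iff] at hx ⊢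
          exact hx.symm
      have h := hle (hgen ha)
      rw [Subgroup.mem_centralizer_singleton_iff] at h
      exact congrArg Subtype.val h
  have hMS : M < S := by
    refine lt_of_le_of_ne centralizerIn_le fun h => hwc (Subgroup.mem_center_iff.mpr fun g => ?_)
    have : g ∈ M.subgroupOf S := h.ge g.2
    rw [hMsub, Subgroup.mem_centralizer_singleton_iff] at this
    exact this
  have hmaxM : ∀ Q, M < Q → Q ≤ S → Q = S := by
    intro Q hMQ hQS
    obtain ⟨q, hqQ, hqM⟩ := SetLike.exists_of_lt hMQ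
    have hlt : M.subgroupOf S < Q.subgroupOf S := lt_of_le_of_ne (Subgroup.comap_mono hMQ.le)
      fun e => hqM ((SetLike.ext_iff.mp e ⟨q, hQS hqQ⟩).mpr hqQ)
    have h1 := CfsgLib.Fusion.MaxClass.mul_card_le_of_lt hS hlt
    rw [Nat.card_congr (Subgroup.subgroupOfEquivOfLe hQS).toEquiv, hMsub] at h1
    have h2 := index_centralizer_le hc1 hw
    refine CfsgLib.Fusion.eq_of_le_of_card_le hQS ?_
    calc Nat.card S = (Subgroup.centralizer {w}).index * Nat.card (Subgroup.centralizer ({w} : Set S)) :=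
          (Subgroup.index_mul_card _).symm
      _ ≤ _ := (Nat.mul_le_mul_right _ h2).trans h1
  have hfn : F.IsFullyNormalized M := by
    refine ⟨hMS.le, fun Q hQ => ?_⟩
    rw [hnormM]
    exact Subgroup.card_le_of_le normalizerIn_le
  have hfn2 : F.IsFullyNormalized Z2 := by
    refine ⟨hZ2S, fun Q hQ => ?_⟩
    rw [hnorm2]
    exact Subgroup.card_le_of_le normalizerIn_le
  have hR := (fullyNormalized_good hS hF hfn2).2
  obtain ⟨ψ, hψ, hψe⟩ := exists_extension hR hφ hφZ hZ2M centralizerIn_le_extender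
  have hψr : ψ.range = M := by
    refine range_eq_of_card_le hψ centralizerIn_le (fun x => ?_) le_rfl
    refine mem_centralizerIn.mpr ⟨apply_mem_S hψ x, fun y hy => ?_⟩
    obtain ⟨a, rfl⟩ := hφZ.ge hy
    rw [← hψe a, ← map_mul, ← map_mul]
    exact apply_eq_of_coe_eq ((mem_centralizerIn.mp x.2).2 a a.2)
  obtain ⟨α, hα, hαe⟩ := exists_aut hψ hψr
  set Z1 := (Subgroup.center ↥S).map S.subtype with hZ1
  have hne : extGroup F M ≠ F.autGroup M := by
    intro heq
    have hle : extGroup F M ≤
        { carrier := {β : MulAut M | ∀ x : M, (x : Ω) ∈ Z1 ↔ ((β x : M) : Ω) ∈ Z1}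
          mul_mem' := fun {a b} ha hb x => (hb x).trans (ha (b x))
          one_mem' := fun x => Iff.rfl
          inv_mem' := fun {a} ha x => by
            have h := ha (a⁻¹ x)
            rw [show a (a⁻¹ x) = x from a.apply_symm_apply x] at h
            exact h.symm } := by
      rw [extGroup, Subgroup.closure_le]
      rintro β ⟨Q, hMQ, θ, hθ, hθe⟩
      obtain rfl := hmaxM Q hMQ (le_S hθ)
      have hθr := range_eq_of_card_le hθ le_rfl (apply_mem_S hθ) le_rfl
      intro x
      rw [← hθe x]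
      refine ⟨?_, ?_⟩
      · rintro ⟨c, hc, hcx⟩
        refine ⟨⟨_, apply_mem_S hθ _⟩, Subgroup.mem_center_iff.mpr fun g => Subtype.ext ?_, rfl⟩
        obtain ⟨y, hy⟩ := hθr.ge g.2
        show (g : Ω) * θ _ = θ _ * g
        rw [← hy, ← map_mul, ← map_mul]
        refine congrArg θ (Subtype.ext ?_)
        show (y : Ω) * (x : Ω) = (x : Ω) * y
        rw [show (x : Ω) = (c : Ω) from hcx.symm]
        exact congrArg Subtype.val (Subgroup.mem_center_iff.mp hc y)
      · rintro ⟨c, hc, hcx⟩
        refine ⟨Subgroup.inclusion hMQ.le x, Subgroup.mem_center_iff.mpr fun g => ?_, rfl⟩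
        refine F.injective_of_mem hθ ?_
        rw [map_mul, map_mul, show θ (Subgroup.inclusion hMQ.le x) = (c : Ω) from hcx.symm]
        exact congrArg Subtype.val (Subgroup.mem_center_iff.mp hc ⟨θ g, apply_mem_S hθ g⟩)
    have h := hle (heq.ge hα) ⟨z, hZ2M hz⟩
    rw [hαe] at h
    exact hzφ ((hψe ⟨z, hz⟩) ▸ h.mp hz1)
  have hN : ((Inn M).subgroupOf (F.autGroup M)).Normal := normal_inn_subgroupOf F M
  obtain ⟨hcen, hE⟩ := embedded_of_extGroup_ne hS hF hMS hfn hne
  exact ⟨hcen, hfn, hN, _, hE⟩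

end Cfsg.Agent.S5270
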