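import Cfsg.Statements.S5271
import Cfsg.Agent.Lib.Fusion.EmbeddedInner

set_option autoImplicit false
open Cfsg

namespace Cfsg.Agent.S5271

/-- A nilpotency criterion for fusion systems. Let F be a saturated fusion system over a finite p-group S of order at least p². Call a subgroup Q of S weakly embedded in F when there is a subgroup P of S strongly closed in F such that both the product QP and the intersection Q ∩ P are strongly closed in F. Then F is the inner fusion system of S if and only if there is a subgroup D of S with 1 < D < S such that every subgroup of S of the same order as D is weakly embedded in F and, for every fully normalized subgroup H of S of that order, the normalizer fusion system of H in F is the inner fusion system of N_S(H). -/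
theorem result {Ω : Type*} [Group Ω] {S : Subgroup Ω} [Finite S] (p : ℕ) [Fact p.Prime] (hS : IsPGroup p ↥S) (F : Cfsg.FusionSystem S) (hF : F.IsSaturated p) (hcard : p ^ 2 ≤ Nat.card S) : (∀ P : Subgroup Ω, F.Hom P = (Cfsg.innerFusionSystem S).Hom P) ↔ ∃ D : Subgroup Ω, ⊥ < D ∧ D < S ∧ (∀ Q : Subgroup Ω, Q ≤ S → Nat.card ↥Q = Nat.card ↥D → ∃ P : Subgroup Ω, F.StronglyClosed P ∧ F.StronglyClosed (Q ⊔ P) ∧ F.StronglyClosed (Q ⊓ P)) ∧ (∀ H : Subgroup Ω, F.IsFullyNormalized H → Nat.card ↥H = Nat.card ↥D → ∀ N : Cfsg.FusionSystem (Cfsg.FusionSystem.normalizerIn S H), F.IsNormalizerSystem H N → ∀ P : Subgroup Ω, N.Hom P = (Cfsg.innerFusionSystem (Cfsg.FusionSystem.normalizerIn S H)).Hom P) := by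
  constructor
  · intro h
    obtain ⟨a, ha⟩ := IsPGroup.iff_card.mp hS
    have hp := (Fact.out : p.Prime)
    have ha2 : 2 ≤ a := (Nat.pow_le_pow_iff_right hp.one_lt).mp (ha ▸ hcard)
    obtain ⟨D, -, hDS, hDc⟩ := CfsgLib.FusionEmbeddedInner.exists_card_between hS (bot_le (a := S)) (k := a - 1)
      (by rw [Subgroup.card_bot]; exact Nat.one_le_pow _ _ hp.pos)
      (ha ▸ Nat.pow_le_pow_right hp.pos (Nat.sub_le a 1))
    have hne1 : 1 < p ^ (a - 1) := Nat.one_lt_pow (by omega) hp.one_lt
    have hlt : p ^ (a - 1) < p ^ a := Nat.pow_lt_pow_right hp.one_lt (by omega)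
    have hn : ∀ Q : Subgroup Ω, Q ≤ S → Nat.card Q = Nat.card D → S ≤ Subgroup.normalizer (Q : Set Ω) := by
      intro Q hQS hQ
      have := CfsgLib.Fusion.finite_of_le hQS
      have hmax : IsCoatom (Q.subgroupOf S) := by
        refine ⟨fun e => hlt.ne ?_, fun M hM => ?_⟩
        · rw [← hDc, ← hQ, ← ha, ← Nat.card_congr (Subgroup.subgroupOfEquivOfLe hQS).toEquiv, e,
            Subgroup.card_top]
        · obtain ⟨b, hb⟩ := IsPGroup.iff_card.mp (hS.to_subgroup M)
          refine Subgroup.eq_top_of_le_card M ?_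
          rw [ha, hb]
          refine Nat.pow_le_pow_right hp.pos ?_
          by_contra hba
          have h1 : Nat.card M ≤ Nat.card (Q.subgroupOf S) := by
            rw [hb, Nat.card_congr (Subgroup.subgroupOfEquivOfLe hQS).toEquiv, hQ, hDc]
            exact Nat.pow_le_pow_right hp.pos (by omega)
          exact hM.ne (CfsgLib.Fusion.eq_of_le_of_card_le hM.le h1)
      exact (Subgroup.normal_subgroupOf_iff_le_normalizer hQS).mp (CfsgLib.PGroup.normal_of_isCoatom hS hmax)
    refine ⟨D, ?_, ?_, fun Q hQS hQ => ?_, fun H hH hHd N hN P => ?_⟩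
    · exact bot_lt_iff_ne_bot.mpr fun e => hne1.ne (by rw [← hDc, e, Subgroup.card_bot])
    · exact lt_of_le_of_ne hDS fun e => hlt.ne (by rw [← hDc, e, ha])
    · have hsc : F.StronglyClosed Q := ⟨hQS, fun R hR φ hφ x => by
        obtain ⟨-, g, hg, hge⟩ := (h R).le hφ
        rw [hge]
        exact (Subgroup.mem_normalizer_iff.mp (hn Q hQS hQ hg) _).mp (hR x.2)⟩
      refine ⟨⊥, CfsgLib.Fusion.stronglyClosed_bot F, ?_, ?_⟩
      · rwa [sup_bot_eq]
      · rw [inf_bot_eq]; exact CfsgLib.Fusion.stronglyClosed_bot F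
    · have hNS : Cfsg.FusionSystem.normalizerIn S H = S := inf_eq_left.mpr (hn H hH.1 hHd)
      ext φ
      constructor
      · intro hφ
        obtain ⟨-, g, hg, hge⟩ := (h P).le ((hN P).le hφ).1
        exact ⟨CfsgLib.Fusion.le_S hφ, g, hNS.symm ▸ hg, hge⟩
      · rintro ⟨hP, g, hg, hge⟩
        exact CfsgLib.Fusion.mem_of_conj hP hg hge
  · rintro ⟨D, hD1, hD2, hemb, hloc⟩ P
    have hDS := hD2.le
    have := CfsgLib.Fusion.finite_of_le hDS
    have hc : CfsgLib.FusionEmbeddedInner.Cond F (Nat.card D) := by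
      refine ⟨(Subgroup.one_lt_card_iff_ne_bot D).mpr hD1.ne', ?_, Subgroup.card_dvd_of_le hDS, hemb,
        fun H hH hHd Q φ hφ => ?_⟩
      · exact lt_of_not_ge fun hle => hD2.ne (CfsgLib.Fusion.eq_of_le_of_card_le hDS hle)
      · obtain ⟨N, hN⟩ := CfsgLib.Fusion.exists_normalizerSystem (F := F) hH.1
        obtain ⟨-, g, hg, hge⟩ := (hloc H hH hHd N hN Q).le ((hN Q).ge hφ)
        exact ⟨g, hg, hge⟩
    exact subset_antisymm (fun φ hφ => CfsgLib.FusionEmbeddedInner.le_inner_of_cond hS hF hc P hφ)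
      (CfsgLib.Fusion.inner_le F P)

end Cfsg.Agent.S5271
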