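import Cfsg.Statements.S5272
import Cfsg.Agent.Lib.Fusion.FamilyInner
-- import your own Cfsg.Agent.* helpers here

set_option autoImplicit false
open Cfsg

namespace Cfsg.Agent.S5272

/-- An axiomatic Glauberman–Thompson nilpotency criterion for fusion systems. Let p be an odd prime, F a saturated fusion system over a finite p-group S, and 𝒜 a nonempty family of abelian subgroups of S. For Q ≤ S write I(Q) for the intersection of the members of 𝒜 contained in Q. Assume (invariance) that for every Q ≤ S containing a member of 𝒜, every F-automorphism of Q maps I(Q) into itself, and (replacement) that for every subgroup B of S of nilpotency class at most 2, if some member of 𝒜 contains [B,B] but not B, then B normalizes some member of 𝒜 that contains [B,B] but not B. Then F is the inner fusion system of S if and only if the normalizer fusion system of I(S) in F is the inner fusion system of N_S(I(S)).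 -/
theorem result {Ω : Type*} [Group Ω] {S : Subgroup Ω} [Finite S] (p : ℕ) [Fact p.Prime] (hS : IsPGroup p ↥S) (F : Cfsg.FusionSystem S) (hF : F.IsSaturated p) (hp : p ≠ 2) (𝒜 : Set (Subgroup Ω)) (h𝒜 : ∀ A ∈ 𝒜, A ≤ S ∧ IsMulCommutative ↥A) (hne : 𝒜.Nonempty) (hinv : ∀ Q : Subgroup Ω, Q ≤ S → (∃ A ∈ 𝒜, A ≤ Q) → ∀ α ∈ F.autGroup Q, ∀ x : ↥Q, (x : Ω) ∈ (⨅ A ∈ {A : Subgroup Ω | A ∈ 𝒜 ∧ A ≤ Q}, A) → (((α : MulAut ↥Q) x : ↥Q) : Ω) ∈ (⨅ A ∈ {A : Subgroup Ω | A ∈ 𝒜 ∧ A ≤ Q}, A)) (hrep : ∀ B : Subgroup Ω, B ≤ S → ⁅⁅B, B⁆, B⁆ = ⊥ → (∃ A ∈ 𝒜, ⁅B, B⁆ ≤ A ∧ ¬ B ≤ A) → ∃ A ∈ 𝒜, ⁅B, B⁆ ≤ A ∧ ¬ B ≤ A ∧ B ≤ Subgroup.normalizer (A : Set Ω)) : (∀ P : Subgroup Ω, F.Hom P = (Cfsg.innerFusionSystem S).Hom P) ↔ ∀ N : Cfsg.FusionSystem (Cfsg.FusionSystem.normalizerIn S (⨅ A ∈ 𝒜, A)), F.IsNormalizerSystem (⨅ A ∈ 𝒜, A) N → ∀ P : Subgroup Ω, N.Hom P = (Cfsg.innerFusionSystem (Cfsg.FusionSystem.normalizerIn S (⨅ A ∈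 𝒜, A))).Hom P := by
  have hc : CfsgLib.Fusion.FamilyCond F 𝒜 := ⟨h𝒜, hne, hinv, hrep⟩
  have hSn : Cfsg.FusionSystem.normalizerIn S (⨅ A ∈ 𝒜, A) = S := inf_eq_left.mpr hc.le_normalizer
  constructor
  · intro h N hN P
    ext φ
    constructor
    · intro hφ
      obtain ⟨-, g, hg, hge⟩ := (h P).le ((hN P).le hφ).1
      exact ⟨CfsgLib.Fusion.le_S hφ, g, hSn.symm ▸ hg, hge⟩
    · rintro ⟨hP, g, hg, hge⟩
      exact CfsgLib.Fusion.mem_of_conj hP hg hge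
  · intro h P
    refine subset_antisymm (fun φ hφ => CfsgLib.Fusion.le_inner_of_family hp hS hF hc (fun Q ψ hψ => ?_) P hφ)
      (CfsgLib.Fusion.inner_le F P)
    obtain ⟨N, hN⟩ := CfsgLib.Fusion.exists_normalizerSystem (F := F) hc.inf_le
    obtain ⟨hQ, g, hg, hge⟩ := (h N hN Q).le ((hN Q).ge hψ)
    exact ⟨hQ.trans hSn.le, g, hSn.le hg, hge⟩

end Cfsg.Agent.S5272
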