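import Cfsg.Statements.S5275
import Cfsg.Agent.Lib.FusionNormal.ZJCriterion

set_option autoImplicit false
open Cfsg

namespace Cfsg.Agent.S5275

/-- A Glauberman–Thompson nilpotency criterion for fusion systems relative to a strongly closed subgroup. Let p be an odd prime, F a saturated fusion system over a finite p-group S, and D a subgroup of S that is strongly closed in F. Let Z(J(D)) be the centre of the subgroup of D generated by the abelian subgroups of D of largest order. Then F is the inner fusion system of S if and only if the normalizer fusion system of Z(J(D)) in F is the inner fusion system of N_S(Z(J(D))) = S. -/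
theorem result {Ω : Type*} [Group Ω] {S : Subgroup Ω} [Finite S] (p : ℕ) [Fact p.Prime] (hS : IsPGroup p ↥S) (F : Cfsg.FusionSystem S) (hF : F.IsSaturated p) (hp : p ≠ 2) (D : Subgroup Ω) (hD : F.StronglyClosed D) : (∀ P : Subgroup Ω, F.Hom P = (Cfsg.innerFusionSystem S).Hom P) ↔ ∀ N : Cfsg.FusionSystem (Cfsg.FusionSystem.normalizerIn S (Cfsg.centerThompsonAOf D)), F.IsNormalizerSystem (Cfsg.centerThompsonAOf D) N → ∀ P : Subgroup Ω, N.Hom P = (Cfsg.innerFusionSystem (Cfsg.FusionSystem.normalizerIn S (Cfsg.centerThompsonAOf D))).Hom P := by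
  refine ⟨fun h N hN P => ?_, fun h => ?_⟩
  · have hS' : S ≤ Subgroup.normalizer (D : Set Ω) := CfsgLib.Fusion.StronglyClosed.le_normalizer hD
    have hT : Cfsg.FusionSystem.normalizerIn S (Cfsg.centerThompsonAOf D) = S := by
      refine inf_eq_left.mpr ?_
      rw [CfsgLib.PLocal.centerThompsonAOf_eq]
      exact hS'.trans (CfsgLib.PLocal.normalizer_le_normalizer_centerJ 0 D)
    refine Set.Subset.antisymm (fun φ hφ => ?_) (CfsgLib.Fusion.inner_le N P)
    have h1 := hφ
    rw [hN] at h1
    have h2 := h1.1
    rw [h] at h2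
    obtain ⟨-, g, hg, hge⟩ := h2
    exact ⟨h1.2.1, g, hT.ge hg, hge⟩
  · refine CfsgLib.FusionNormal.eq_inner_of_autP hS hF
      (CfsgLib.FusionNormal.autP_of_autPAt_centerJ hp _ _ hS F hF rfl rfl D hD ?_)
    rw [CfsgLib.PLocal.centerThompsonAOf_eq] at h
    exact CfsgLib.FusionNormal.autPAt_of_inner hS ((CfsgLib.PLocal.centerJ_le 0 D).trans hD.1)
      ((CfsgLib.Fusion.StronglyClosed.le_normalizer hD).trans
        (CfsgLib.PLocal.normalizer_le_normalizer_centerJ 0 D)) h

end Cfsg.Agent.S5275
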