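import Cfsg.Statements.S5276
import Cfsg.Agent.Lib.FusionNormal.TateInner

set_option autoImplicit false
open Cfsg

namespace Cfsg.Agent.S5276

/-- Let p be a prime and F a saturated fusion system over a finite p-group S. Then F is the inner fusion system of S if and only if the normalizer fusion system of S itself in F is the inner fusion system (equivalently, Aut_F(S) is induced by S) and the Frattini subgroup Φ(S) is strongly closed in F. -/
theorem result {Ω : Type*} [Group Ω] {S : Subgroup Ω} [Finite S] (p : ℕ) [Fact p.Prime] (hS : IsPGroup p ↥S) (F : Cfsg.FusionSystem S) (hF : F.IsSaturated p) : (∀ P : Subgroup Ω, F.Hom P = (Cfsg.innerFusionSystem S).Hom P) ↔ (∀ N : Cfsg.FusionSystem (Cfsg.FusionSystem.normalizerIn S S), F.IsNormalizerSystem S N → ∀ P : Subgroup Ω, N.Hom P = (Cfsg.innerFusionSystem (Cfsg.FusionSystem.normalizerIn S S)).Hom P) ∧ F.StronglyClosed ((frattini ↥S).map S.subtype) := by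
  refine ⟨fun h => ⟨fun N hN P => ?_, ?_⟩, fun h => ?_⟩
  · have hT : Cfsg.FusionSystem.normalizerIn S S = S := inf_eq_left.mpr Subgroup.le_normalizer
    refine Set.Subset.antisymm (fun φ hφ => ?_) (CfsgLib.Fusion.inner_le N P)
    have h1 := hφ
    rw [hN] at h1
    have h2 := h1.1
    rw [h] at h2
    obtain ⟨-, g, hg, hge⟩ := h2
    exact ⟨h1.2.1, g, hT.ge hg, hge⟩
  · refine ⟨Subgroup.map_subtype_le _, fun R hR φ hφ x => ?_⟩
    rw [h] at hφ
    obtain ⟨-, g, hg, hge⟩ := hφ
    obtain ⟨y, hy, hye⟩ := hR x.2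
    refine ⟨⟨g, hg⟩ * y * ⟨g, hg⟩⁻¹, (inferInstance : (frattini ↥S).Normal).conj_mem _ hy _, ?_⟩
    rw [hge, ← hye]
    rfl
  · refine CfsgLib.FusionNormal.inner_of_stronglyClosed_frattini hS hF (fun φ hφ => ?_) h.2
    have hT : Cfsg.FusionSystem.normalizerIn S S = S := inf_eq_left.mpr Subgroup.le_normalizer
    have hN : F.IsNormalizerSystem S
        (CfsgLib.Fusion.extSystem F le_rfl ⊤ _ CfsgLib.Fusion.isKNormalizer_top) :=
      fun Q => CfsgLib.Fusion.extHom_top F S Q
    obtain ⟨f, hf, hfe⟩ := CfsgLib.FusionNormal.mapFn_of_hom hφ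
    have hfS : f '' S = (S : Set Ω) :=
      hf.image_eq_of_maps le_rfl (fun x hx => hf.mem_S hx) le_rfl
    obtain ⟨χ, hχ, hχe⟩ := CfsgLib.FusionNormal.mapFn_normalizer hN (by rwa [sup_idem]) hT.ge hfS
      fun x hx => hT.ge (hf.mem_S hx)
    rw [h.1 _ hN] at hχ
    obtain ⟨-, g, hg, hge⟩ := hχ
    exact ⟨g, hT.le hg, fun x => (hfe x).trans ((hχe x).symm.trans (hge x))⟩

end Cfsg.Agent.S5276
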