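import Cfsg.Statements.S5286
import Cfsg.Agent.Lib.Fusion.GraphGroup
import Cfsg.Agent.Lib.Fusion.Basic

set_option autoImplicit false
universe u
open Cfsg

namespace Cfsg.Agent.S5286

/-- Every fusion system F over a finite p-group S, saturated or not, is realized by a possibly infinite group: there are a group G and an injective homomorphism ι of S into G such that the maps of F are exactly the conjugations by elements of G between subgroups of ι(S), every finite subgroup of G is conjugate to a subgroup of ι(S), and G has a free normal subgroup whose index divides (#S)!. -/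
theorem result {Ω : Type u} [Group Ω] {S : Subgroup Ω} [Finite S] (p : ℕ) [Fact p.Prime] (hS : IsPGroup p ↥S) (F : Cfsg.FusionSystem S) : ∃ (G : Type u) (_ : Group G) (ι : ↥S →* G), F.IsRealizedBy ι ∧ (∀ H : Subgroup G, Finite ↥H → ∃ g : G, ∀ h ∈ H, g * h * g⁻¹ ∈ ι.range) ∧ ∃ N : Subgroup G, N.Normal ∧ IsFreeGroup ↥N ∧ N.index ∣ (Nat.card ↥S).factorial := by
  classical
  let Gen := {x : Σ P : Subgroup Ω, (P →* Ω) // x.2 ∈ F.Hom x.1}
  let loc : (i : Gen) → (i.1.1.subgroupOf S) →* S := fun i =>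
    (i.1.2.comp (Subgroup.subgroupOfEquivOfLe (CfsgLib.Fusion.le_S i.2)).toMonoidHom).codRestrict S
      fun x => CfsgLib.Fusion.apply_mem_S i.2 _
  have hloc : ∀ i, Function.Injective (loc i) := fun i x y h =>
    (Subgroup.subgroupOfEquivOfLe (CfsgLib.Fusion.le_S i.2)).injective
      (F.injective_of_mem i.2 (congrArg Subtype.val h))
  choose σ hσ using fun i => CfsgLib.Fusion.GraphGroup.exists_sigma _ (loc i) (hloc i)
  let D : CfsgLib.Fusion.GraphGroup.Setup ↥S :=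
    { Gen := Gen, P := fun i => i.1.1.subgroupOf S, f := loc, σ := σ, hσ := hσ }
  refine ⟨D.Grp, inferInstance, D.emb, ⟨D.emb_injective, fun P hP φ hφ => ⟨fun h => ?_, ?_⟩⟩,
    fun H hH => ?_, D.exists_free⟩
  · let i : Gen := ⟨⟨P, φ⟩, h⟩
    refine ⟨⟨D.T i, D.T_mem i⟩⁻¹, fun x => Subtype.ext ?_⟩
    have h1 := D.inr_mul_T i ⟨⟨x, hP x.2⟩, x.2⟩
    show SemidirectProduct.inr (D.toQ ⟨φ x, hφ x⟩) =
      (D.T i)⁻¹ * SemidirectProduct.inr (D.toQ ⟨x, hP x.2⟩) * (D.T i)⁻¹⁻¹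
    rw [inv_inv, mul_assoc, h1, inv_mul_cancel_left]
    rfl
  · rintro ⟨g, hg⟩
    have key := D.fusion (Δ := ↥P) (fun d => ⟨d, hP d.2⟩)
      (fun w => ∃ ψ ∈ F.Hom P, ∀ d, ψ d = (w d : Ω))
      ⟨P.subtype, CfsgLib.Fusion.subtype_mem hP, fun d => rfl⟩ ?_ ?_ ?_ g (fun d => ⟨φ d, hφ d⟩)
      (fun d => by rw [hg d, inv_mul_cancel_right])
    · obtain ⟨ψ, hψ, hψe⟩ := key
      rwa [show φ = ψ from MonoidHom.ext fun d => (hψe d).symm]
    · rintro s w ⟨ψ, hψ, hψe⟩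
      obtain ⟨χ, hχ, hχe⟩ := CfsgLib.Fusion.exists_conj_comp hψ s.2
      exact ⟨χ, hχ, fun d => by rw [hχe, hψe]; rfl⟩
    · rintro i w hw ⟨ψ, hψ, hψe⟩
      obtain ⟨χ, hχ, hχe⟩ := CfsgLib.Fusion.exists_comp hψ i.2 (fun d => (hψe d).symm ▸ hw d)
      exact ⟨χ, hχ, fun d => (hχe d).trans (CfsgLib.Fusion.apply_eq_of_coe_eq (hψe d))⟩
    · rintro i w hw ⟨ψ, hψ, hψe⟩
      obtain ⟨η, hη, -, hη₁, -⟩ := CfsgLib.Fusion.exists_inv i.2 rfl
      have hm : ∀ d, ψ d = i.1.2 ⟨w d, hw d⟩ := fun d => hψe d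
      obtain ⟨χ, hχ, hχe⟩ := CfsgLib.Fusion.exists_comp hψ hη fun d => ⟨_, (hm d).symm⟩
      exact ⟨χ, hχ, fun d => (hχe d).trans
        ((CfsgLib.Fusion.apply_eq_of_coe_eq (hm d)).trans (hη₁ ⟨(w d : Ω), hw d⟩ ⟨_, rfl⟩))⟩
  · exact D.finite_conj H

end Cfsg.Agent.S5286
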