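import Cfsg.Statements.S5287
import Cfsg.Agent.Lib.MetaTwoFusion.Super
import Cfsg.Agent.Lib.FusionNormal.AbelianInvariants
import Cfsg.Agent.S5234
-- import your own Cfsg.Agent.* helpers here

set_option autoImplicit false
open Cfsg

namespace Cfsg.Agent.S5287

/-- Let S be a finite metacyclic p-group (an extension of a cyclic group by a cyclic group). Every saturated fusion system over S is supersoluble (S has a chain of F-strongly closed subgroups from 1 to S with cyclic steps) if and only if S is not homocyclic of rank two (isomorphic to Z/p^n × Z/p^n with n ≥ 1) and, when p = 2, S is not dihedral of order at least 4, not quasi-dihedral (semidihedral) and not generalized quaternion of order at least 8. -/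
theorem result {Ω : Type*} [Group Ω] {S : Subgroup Ω} [Finite S] (p : ℕ) [Fact p.Prime] (hS : IsPGroup p ↥S) (hm : Cfsg.IsMetacyclic ↥S) : (∀ F : Cfsg.FusionSystem S, F.IsSaturated p → (∃ (m : ℕ) (c : Fin (m + 1) → Subgroup Ω), c 0 = ⊥ ∧ c (Fin.last m) = S ∧ (∀ i : Fin (m + 1), F.StronglyClosed (c i)) ∧ ∀ i : Fin m, c i.castSucc ≤ c i.succ ∧ ∃ x ∈ S, c i.succ = c i.castSucc ⊔ Subgroup.zpowers x)) ↔ ¬ ((∃ n : ℕ, 0 < n ∧ Nonempty (↥S ≃* Multiplicative (ZMod (p ^ n)) × Multiplicative (ZMod (p ^ n)))) ∨ (p = 2 ∧ ((∃ n : ℕ, 2 ≤ n ∧ Nonempty (↥S ≃* DihedralGroup n)) ∨ Cfsg.IsQuasiDihedral ↥S ∨ (∃ n : ℕ, 2 ≤ n ∧ Nonempty (↥S ≃* QuaternionGroup n))))) := by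
  classical
  refine (CfsgLib.FusionNormal.forall_chain_iff hS).trans ⟨?_, fun hno => ?_⟩
  · rintro ⟨hnorm, hexp⟩
    have hp2' : p = 2 → ∀ h : MulAut ↥S, orderOf h = 3 → False := by
      rintro rfl h hh
      have hcop : (Nat.card (Subgroup.zpowers h)).Coprime 2 := by rw [Nat.card_zpowers, hh]; norm_num
      have h1 := (hexp _ hcop).2 h (Subgroup.mem_zpowers h)
      rw [show (2 : ℕ) - 1 = 1 from rfl, pow_one] at h1
      rw [h1, orderOf_one] at hh
      omega
    rintro (⟨n, hn, ⟨e⟩⟩ | ⟨rfl, hshape⟩)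
    · have hab : IsMulCommutative ↥S :=
        ⟨⟨fun a b => e.injective (by rw [map_mul, map_mul, mul_comm])⟩⟩
      refine ((CfsgLib.FusionNormal.forall_chain_iff_invariants hS hab).mp
        ((CfsgLib.FusionNormal.forall_chain_iff hS).mpr ⟨hnorm, hexp⟩)) ⟨n, PUnit, inferInstance, hn,
          ⟨e.trans MulEquiv.prodUnique.symm⟩⟩
    have hcard : ∀ n, n ≠ 0 → 2 * n = Nat.card ↥S → ∃ k, n = 2 ^ k := by
      intro n hn h
      obtain ⟨m, hm'⟩ := IsPGroup.iff_card.mp hS
      rw [hm'] at h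
      rcases m with _ | m
      · simp at h
      · exact ⟨m, by rw [pow_succ'] at h; omega⟩
    -- the trichotomy needed by the witness construction, once Klein and `Q₈` are removed
    suffices hkey : ((∃ j : ℕ, 3 ≤ j ∧ Nat.card ↥S = 2 ^ j ∧ ∃ n, Nonempty (↥S ≃* DihedralGroup n)) ∨
        Cfsg.IsQuasiDihedral ↥S ∨ ∃ j : ℕ, 2 ≤ j ∧ Nonempty (↥S ≃* QuaternionGroup (2 ^ j))) ∧
        ¬ Nonempty (↥S ≃* QuaternionGroup 2) ∧ ¬ IsMulCommutative ↥S ∨ Nonempty (↥S ≃* QuaternionGroup 2) ∨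
        Nonempty (↥S ≃* DihedralGroup 2) by
      rcases hkey with ⟨hs, hq8, hna⟩ | ⟨⟨e⟩⟩ | ⟨⟨e⟩⟩
      · have hA : IsPGroup 2 (MulAut ↥S) := by
          by_contra hA
          rcases CfsgLib.MetaTwoAut.main hS hm hA with h | ⟨n, ⟨e⟩⟩
          · exact hq8 h
          · exact hna ⟨⟨fun a b => e.injective (by rw [map_mul, map_mul, mul_comm])⟩⟩
        obtain ⟨F, hF, hFn⟩ := CfsgLib.MetaTwoFusion.exists_not_normal_of_shape hs hA
        exact hFn (hnorm F hF)
      · obtain ⟨φ, hφ⟩ := CfsgLib.MetaTwoFusion.exists_order_three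
        exact hp2' rfl (MulAut.congr e.symm φ) (by rw [MulEquiv.orderOf_eq, hφ])
      · have hab : IsMulCommutative ↥S := ⟨⟨fun a b => e.injective (by
          rw [map_mul, map_mul]
          exact (show ∀ x y : DihedralGroup 2, x * y = y * x by decide) _ _)⟩⟩
        have hV : IsKleinFour (CfsgLib.MetaTwoFusion.Pair 1) :=
          { card_four := by rw [Nat.card_prod, Nat.card_congr Multiplicative.toAdd, Nat.card_zmod]; norm_num
            exponent_two := by
              refine Monoid.exponent_eq_prime_iff Nat.prime_two |>.mpr fun g hg => ?_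
              exact orderOf_eq_prime (CfsgLib.MetaTwoFusion.pair_one_sq g) hg }
        obtain ⟨e'⟩ := IsKleinFour.nonempty_mulEquiv (G₁ := DihedralGroup 2) (G₂ := CfsgLib.MetaTwoFusion.Pair 1)
        exact ((CfsgLib.FusionNormal.forall_chain_iff_invariants hS hab).mp
          ((CfsgLib.FusionNormal.forall_chain_iff hS).mpr ⟨hnorm, hexp⟩)) ⟨1, PUnit, inferInstance, one_pos,
            ⟨(e.trans e').trans MulEquiv.prodUnique.symm⟩⟩
    rcases hshape with ⟨n, hn, ⟨e⟩⟩ | hsd | ⟨n, hn, ⟨e⟩⟩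
    · have hc : Nat.card ↥S = 2 * n := by rw [Nat.card_congr e.toEquiv, DihedralGroup.nat_card]
      obtain ⟨k, rfl⟩ := hcard n (by omega) hc.symm
      rcases (show k = 1 ∨ 2 ≤ k by rcases k with _ | _ | k <;> simp_all) with rfl | hk
      · exact Or.inr (Or.inr ⟨e⟩)
      have h4 : 2 ^ 2 ≤ 2 ^ k := Nat.pow_le_pow_right two_pos hk
      refine Or.inl ⟨Or.inl ⟨k + 1, by omega, by rw [hc, pow_succ'], _, ⟨e⟩⟩, fun ⟨q⟩ => ?_, fun h => ?_⟩
      · -- two distinct involutions
        have hu : ∀ a b : QuaternionGroup 2, a ^ 2 = 1 → b ^ 2 = 1 → a ≠ 1 → b ≠ 1 → a = b := by decide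
        have h1 : ∀ i : ZMod (2 ^ k), (DihedralGroup.sr i) ^ 2 = 1 := fun i => by
          rw [pow_two, DihedralGroup.sr_mul_self]
        have h2 : ∀ i : ZMod (2 ^ k), (DihedralGroup.sr i : DihedralGroup (2 ^ k)) ≠ 1 := fun i h => by
          rw [DihedralGroup.one_def] at h; cases h
        have := hu (q (e.symm (DihedralGroup.sr 0))) (q (e.symm (DihedralGroup.sr 1)))
          (by rw [← map_pow, ← map_pow, h1, map_one, map_one])
          (by rw [← map_pow, ← map_pow, h1, map_one, map_one])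
          (fun h => h2 0 ((MulEquiv.map_eq_one_iff e.symm).mp ((MulEquiv.map_eq_one_iff q).mp h)))
          (fun h => h2 1 ((MulEquiv.map_eq_one_iff e.symm).mp ((MulEquiv.map_eq_one_iff q).mp h)))
        have h3 := e.symm.injective (q.injective this)
        injection h3 with h3
        have : Fact (1 < 2 ^ k) := ⟨by omega⟩
        exact zero_ne_one h3
      · haveI : Fact (2 < 2 ^ k) := ⟨by omega⟩
        have h1 := h.is_comm.comm (e.symm (DihedralGroup.r 1)) (e.symm (DihedralGroup.sr 0))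
        rw [← map_mul, ← map_mul] at h1
        have h2 := e.symm.injective h1
        rw [DihedralGroup.r_mul_sr, DihedralGroup.sr_mul_r] at h2
        injection h2 with h2
        rw [zero_sub, zero_add] at h2
        exact ZMod.neg_one_ne_one h2
    · refine Or.inl ⟨Or.inr (Or.inl hsd), fun ⟨q⟩ => ?_, fun h => ?_⟩
      · obtain ⟨m, hm3, hc, -⟩ := hsd
        rw [Nat.card_congr q.toEquiv, Nat.card_eq_fintype_card, QuaternionGroup.card] at hc
        have : 2 ^ 4 ≤ 2 ^ (m + 1) := Nat.pow_le_pow_right two_pos (by omega)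
        omega
      · obtain ⟨r, x, y, hxy⟩ := CfsgLib.TwoGroups.SD.exists_sd hsd
        have h1 : y * x * y⁻¹ = x := by rw [h.is_comm.comm y x, mul_inv_cancel_right]
        rw [hxy.rel] at h1
        nth_rewrite 2 [← zpow_one x] at h1
        have h2 := (CfsgLib.TwoGroups.SD.zpow_x_eq hxy).mp h1
        have := CfsgLib.TwoGroups.SD.r_pos hxy
        obtain ⟨c, hc⟩ := h2
        rcases le_or_gt 0 c with hc0 | hc0
        · rcases eq_or_lt_of_le hc0 with rfl | hc1
          · omega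
          · nlinarith
        · nlinarith
    · haveI : NeZero n := ⟨by omega⟩
      have hc : Nat.card ↥S = 2 * (2 * n) := by
        rw [Nat.card_congr e.toEquiv, Nat.card_eq_fintype_card, QuaternionGroup.card]; ring
      obtain ⟨k, hk⟩ := hcard (2 * n) (by omega) hc.symm
      obtain ⟨j, rfl⟩ : ∃ j, n = 2 ^ j := by
        rcases k with _ | k
        · simp at hk
        · exact ⟨k, by rw [pow_succ'] at hk; omega⟩
      rcases (show j = 1 ∨ 2 ≤ j by rcases j with _ | _ | j <;> simp_all) with rfl | hj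
      · exact Or.inr (Or.inl ⟨e⟩)
      have h4 : 2 ^ 2 ≤ 2 ^ j := Nat.pow_le_pow_right two_pos hj
      refine Or.inl ⟨Or.inr (Or.inr ⟨j, hj, ⟨e⟩⟩), fun ⟨q⟩ => ?_, fun h => ?_⟩
      · rw [Nat.card_congr q.toEquiv, Nat.card_eq_fintype_card, QuaternionGroup.card] at hc
        omega
      · haveI : Fact (2 < 2 * 2 ^ j) := ⟨by omega⟩
        have h1 := h.is_comm.comm (e.symm (QuaternionGroup.a 1)) (e.symm (QuaternionGroup.xa 0))
        rw [← map_mul, ← map_mul] at h1
        have h2 := e.symm.injective h1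
        rw [QuaternionGroup.a_mul_xa, QuaternionGroup.xa_mul_a] at h2
        injection h2 with h2
        rw [zero_sub, zero_add] at h2
        exact ZMod.neg_one_ne_one h2
  by_cases hp2 : p = 2
  · subst hp2
    have hnot : ¬ CfsgLib.TwoGroups85.IsDSQ ↥S := by
      rintro (⟨k, h⟩ | ⟨k, hc, a, b, ha, hb, hab⟩ | ⟨k, h⟩)
      · exact hno (Or.inr ⟨rfl, Or.inl ⟨_, le_self_pow₀ one_le_two (by omega), h⟩⟩)
      · exact hno (Or.inr ⟨rfl, Or.inr (Or.inl ⟨k + 3, by omega, hc, a, b, ha, hb,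
          by rw [show k + 3 - 1 = k + 2 by omega]; exact hab⟩)⟩)
      · exact hno (Or.inr ⟨rfl, Or.inr (Or.inr ⟨_, le_self_pow₀ one_le_two (by omega), h⟩)⟩)
    have hA : IsPGroup 2 (MulAut ↥S) := by
      by_contra hA
      rcases CfsgLib.MetaTwoAut.main hS hm hA with h | ⟨n, ⟨e⟩⟩
      · exact hno (Or.inr ⟨rfl, Or.inr (Or.inr ⟨2, le_rfl, h⟩)⟩)
      rcases Nat.eq_zero_or_pos n with rfl | hn
      · have : Subsingleton (Multiplicative (ZMod (2 ^ 0))) := inferInstanceAs (Subsingleton (ZMod 1))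
        exact hA fun α => ⟨0, by
          rw [pow_zero, pow_one]
          exact MulEquiv.ext fun z => e.injective (Subsingleton.elim _ _)⟩
      · exact hno (Or.inl ⟨n, hn, ⟨e⟩⟩)
    refine ⟨fun F hF => (CfsgLib.Fusion.isNormal_iff_stronglyClosed_le hS hF).mpr
      ⟨⟨le_rfl, fun R _ φ hφ => CfsgLib.Fusion.apply_mem_S hφ⟩, fun R hc hr =>
        CfsgLib.MetaTwoFusion.le_of_centric_radical_metacyclic hS
          ⟨le_rfl, fun R _ φ hφ => CfsgLib.Fusion.apply_mem_S hφ⟩ hm hnot hc hr⟩, fun H hH => ?_⟩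
    obtain ⟨m, hm'⟩ := IsPGroup.iff_card.mp (hA.to_subgroup H)
    have : Finite (MulAut ↥S) :=
      Finite.of_injective (fun f => (f : ↥S → ↥S)) fun f g h => MulEquiv.ext (congrFun h)
    have h1 : Nat.card H = 1 := Nat.eq_one_of_dvd_coprimes ((Nat.Coprime.pow_right m hH)) dvd_rfl hm'.dvd
    have hbot : H = ⊥ := Subgroup.card_eq_one.mp h1
    subst hbot
    refine ⟨⟨⟨fun a b => Subsingleton.elim _ _⟩⟩, fun h hh => ?_⟩
    rw [Subgroup.mem_bot.mp hh, one_pow]
  · by_cases hab : IsMulCommutative ↥S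
    · refine (CfsgLib.FusionNormal.forall_chain_iff hS).mp ((CfsgLib.FusionNormal.forall_chain_iff_invariants hS hab).mpr ?_)
      rintro ⟨n, H, hH, hn, ⟨e⟩⟩
      have := CfsgLib.MetaTwoFusion.subsingleton_of_equiv hS hm hn e
      haveI : Unique H := uniqueOfSubsingleton 1
      exact hno (Or.inl ⟨n, hn, ⟨e.trans MulEquiv.prodUnique⟩⟩)
    · exact ⟨fun F hF => Cfsg.Agent.S5234.result p hS F hF S ⟨le_rfl, fun R _ φ hφ => CfsgLib.Fusion.apply_mem_S hφ⟩ hp2 hm,
        fun H hH => CfsgLib.MetaTwoFusion.aut_comm_exponent hp2 hS hm hab H hH⟩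


end Cfsg.Agent.S5287
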