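import Cfsg.Statements.S5290
import Cfsg.Agent.Lib.FusionNormal.Inner

set_option autoImplicit false
open Cfsg

namespace Cfsg.Agent.S5290

/-- Let F be a saturated fusion system over a finite p-group S and Q a subgroup of S. Then Q is normal in F (F = N_F(Q)) if and only if the inner fusion system of Q, consisting of the conjugations by elements of Q on subgroups of Q, is a weakly normal subsystem of F (both saturated, Q strongly closed, invariant under F-conjugation, with the Frattini property). -/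
theorem result {Ω : Type*} [Group Ω] {S : Subgroup Ω} [Finite S] (p : ℕ) [Fact p.Prime] (hS : IsPGroup p S)
    (F : Cfsg.FusionSystem S) (hF : F.IsSaturated p)
    (Q : Subgroup Ω) (hQ : Q ≤ S) :
    F.IsNormal Q ↔ (Cfsg.innerFusionSystem Q).IsWeaklyNormalIn F p := by
  refine ⟨fun h => CfsgLib.FusionNormal.inner_isWeaklyNormalIn hS hF h,
    fun h => (CfsgLib.Fusion.isNormal_iff_maps_extend hS hF hQ).mpr ?_⟩
  intro P hPQ φ hφ
  obtain ⟨α, hα, φ₀, ⟨-, g, hg, hg'⟩, he⟩ := h.2.2.2.2.2 P hPQ φ hφ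
  obtain ⟨β, hβ, hβe⟩ := CfsgLib.Fusion.exists_autInducedBy (K := S) (P := Q) (hQ hg)
    (Subgroup.le_normalizer hg)
  refine ⟨α * β, Subgroup.mul_mem _ hα (CfsgLib.Fusion.autInducedBy_le_autGroup hQ hβ), fun x => ?_⟩
  have hm : φ₀ x ∈ Q := by
    rw [hg']; exact Q.mul_mem (Q.mul_mem hg (hPQ x.2)) (Q.inv_mem hg)
  rw [he x hm, MulAut.mul_apply]
  refine congrArg (fun z : ↥Q => ((α z : ↥Q) : Ω)) (Subtype.ext ?_)
  show ((β ⟨(x : Ω), hPQ x.2⟩ : ↥Q) : Ω) = φ₀ x
  rw [hβe, hg']

end Cfsg.Agent.S5290
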