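import Cfsg.Statements.S5291
import Cfsg.Agent.Lib.FusionNormal.Inner
import Cfsg.Agent.Lib.FusionNormal.Alperin
import Cfsg.Agent.Lib.Fusion.Ext

set_option autoImplicit false
open Cfsg Cfsg.FusionSystem CfsgLib.Fusion CfsgLib.FusionNormal

namespace Cfsg.Agent.S5291

/-- Let F be a saturated fusion system over a finite p-group S and E a weakly normal subsystem of F over a subgroup T. Suppose a subgroup R of T is normal in E (E = N_E(R)), and let R* be the subgroup of T generated by the images of R under all maps of F with source R. Then R* is normal in F (F = N_F(R*)). -/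
theorem result {Ω : Type*} [Group Ω] {S : Subgroup Ω} [Finite S] (p : ℕ) [Fact p.Prime] (hS : IsPGroup p S)
    (F : Cfsg.FusionSystem S) (hF : F.IsSaturated p)
    {T : Subgroup Ω} (E : Cfsg.FusionSystem T) (hE : E.IsWeaklyNormalIn F p)
    (R : Subgroup Ω) (hR : E.IsNormal R) :
    F.IsNormal (Subgroup.closure {x : Ω | ∃ φ ∈ F.Hom R, ∃ r : R, x = φ r}) := by
  obtain ⟨-, -, hInv⟩ := hE
  have hTS : T ≤ S := hInv.2.1.1
  haveI := finite_of_le hTS
  -- images of `R` under `Aut_F(T)`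
  let 𝒮 : Set (Subgroup Ω) :=
    {R' | ∃ a, MapFn F T a ∧ a '' T = (T : Set Ω) ∧ a '' R = (R' : Set Ω)}
  have hN : ∀ R' ∈ 𝒮, E.IsNormal R' := by
    rintro R' ⟨a, ha, har, hR'⟩
    obtain ⟨ai, hai, hair, hai₁, hai₂⟩ := ha.exists_inv har
    have hR'T : R' ≤ T := fun y hy => by
      obtain ⟨x, hx, rfl⟩ := exists_of_image hR' hy
      exact mem_of_image har (hR.1 hx)
    refine isNormal_of_mapFn hR'T fun P f hf => ?_
    have hPT := hf.le_S
    obtain ⟨P₀, -, hP₀⟩ := (hai.mono hPT).exists_image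
    obtain ⟨f', hf', hf'e⟩ := mapFn_transport hInv hf hai hair hP₀
    obtain ⟨g, hg, hgP, hgR⟩ := isNormal_mapFn hR hf'
    have himg : a '' ((P₀ ⊔ R : Subgroup Ω) : Set Ω) = ((P ⊔ R' : Subgroup Ω) : Set Ω) := by
      ext y
      constructor
      · rintro ⟨x, hx, rfl⟩
        refine (ha.mono (sup_le hf'.le_S hR.1)).maps_sup (fun z hz => Subgroup.mem_sup_left ?_)
          (fun z hz => Subgroup.mem_sup_right (mem_of_image hR' hz)) x hx
        obtain ⟨w, hw, rfl⟩ := exists_of_image hP₀ hz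
        rwa [hai₂ w (hPT hw)]
      · intro hy
        refine ⟨ai y, (hai.mono (sup_le hPT hR'T)).maps_sup (fun z hz => ?_) (fun z hz => ?_) y hy,
          hai₂ y (sup_le hPT hR'T hy)⟩
        · exact Subgroup.mem_sup_left (mem_of_image hP₀ hz)
        · obtain ⟨w, hw, rfl⟩ := exists_of_image hR' hz
          rw [hai₁ w (hR.1 hw)]; exact Subgroup.mem_sup_right hw
    obtain ⟨g', hg', hg'e⟩ := mapFn_transport hInv hg ha har himg
    refine ⟨g', hg', fun x hx => ?_, ?_⟩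
    · have hxm := mem_of_image hP₀ hx
      have h1 := hg'e (ai x) (Subgroup.mem_sup_left hxm)
      rw [hai₂ x (hPT hx), hgP _ hxm, hf'e x hx] at h1
      rw [h1, hai₂ _ (hf.mem_S hx)]
    · rw [← hR', ← Set.image_comp,
        Set.image_congr (f := g' ∘ a) (g := a ∘ g) fun x hx => hg'e x (Subgroup.mem_sup_right hx),
        Set.image_comp, hgR]
  have hbot : E.IsNormal ⊥ := CfsgLib.FusionExt.isNormal_bot E
  have hWn : E.IsNormal (sSup 𝒮) :=
    CfsgLib.FusionExt.sSup_of_finite hbot (fun _ _ => CfsgLib.FusionExt.isNormal_sup E)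
      (CfsgLib.FusionExt.finite_setOf_le (S := T) (fun R' => R' ∈ 𝒮) fun R' h => (hN R' h).1) hN
  set W := sSup 𝒮 with hW
  have hWT : W ≤ T := hWn.1
  have hRimg : ∀ φ ∈ F.Hom R, φ.range ∈ 𝒮 := by
    intro φ hφ
    obtain ⟨f, hf, hfe⟩ := mapFn_of_hom hφ
    obtain ⟨a, f₀, ha, har, hf₀, he⟩ := mapFn_frattini hInv hR.1 hf
    obtain ⟨g, -, hgP, hgR⟩ := isNormal_mapFn hR hf₀
    refine ⟨a, ha, har, ?_⟩
    rw [← MapFn.image_eq_range hfe]
    conv_lhs => rw [← hgR]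
    rw [← Set.image_comp]
    exact Set.image_congr fun x hx => by
      show a (g x) = f x
      rw [hgP x hx, he x hx]
  have hgoal : Subgroup.closure {x : Ω | ∃ φ ∈ F.Hom R, ∃ r : R, x = φ r} = W := by
    refine le_antisymm ((Subgroup.closure_le _).mpr ?_) (sSup_le ?_)
    · rintro x ⟨φ, hφ, r, rfl⟩
      exact le_sSup (hRimg φ hφ) ⟨r, rfl⟩
    · rintro R' ⟨a, ha, har, hR'⟩ y hy
      obtain ⟨x, hx, rfl⟩ := exists_of_image hR' hy
      obtain ⟨φ, hφ, hφe⟩ := ha.mono hR.1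
      exact Subgroup.subset_closure ⟨φ, hφ, ⟨x, hx⟩, (hφe ⟨x, hx⟩).symm⟩
  rw [hgoal]
  refine (isNormal_iff_maps_extend hS hF (hWT.trans hTS)).mpr fun P hPW φ hφ => ?_
  obtain ⟨f, hf, hfe⟩ := mapFn_of_hom hφ
  obtain ⟨a, f₀, ha, har, hf₀, he⟩ := mapFn_frattini hInv (hPW.trans hWT) hf
  obtain ⟨g, hg, hgP, hgW⟩ := isNormal_mapFn hWn hf₀
  have hgW' : MapFn E W g := hg.mono le_sup_right
  have haW : ∀ y ∈ W, a y ∈ W := by
    obtain ⟨ψ, hψ, hψe⟩ := ha
    have hle : W ≤ (W.comap ψ).map T.subtype := by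
      refine sSup_le ?_
      rintro R' ⟨b, hb, hbr, hR'⟩ y hy
      obtain ⟨x, hx, rfl⟩ := exists_of_image hR' hy
      refine ⟨⟨b x, mem_of_image hbr (hR.1 hx)⟩, ?_, rfl⟩
      show ψ _ ∈ W
      rw [hψe]
      obtain ⟨R'', -, hR''⟩ := ((hb.comp (⟨ψ, hψ, hψe⟩ : MapFn F T a)
        fun z hz => mem_of_image hbr hz).mono hR.1).exists_image
      have h𝒮 : R'' ∈ 𝒮 := ⟨a ∘ b, hb.comp ⟨ψ, hψ, hψe⟩ fun z hz => mem_of_image hbr hz,
        image_comp hbr har, hR''⟩
      exact le_sSup h𝒮 (mem_of_image hR'' hx)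
    intro y hy
    obtain ⟨z, hz, rfl⟩ := hle hy
    show a (z : Ω) ∈ W
    rw [← hψe]; exact hz
  have hag : MapFn F W (a ∘ g) :=
    (mapFn_of_sub hInv.1 hgW').comp ha fun x hx => hWT (mem_of_image hgW hx)
  obtain ⟨α, hα, hαe⟩ := hag.exists_aut
    (hag.image_eq_of_maps (hWT.trans hTS) (fun x hx => haW _ (mem_of_image hgW hx)) le_rfl)
  refine ⟨α, hα, fun x => ?_⟩
  rw [hαe]
  show a (g x) = φ x
  rw [hgP x x.2, hfe, he x x.2]

end Cfsg.Agent.S5291
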