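import Cfsg.Statements.S5295
import Cfsg.Agent.Lib.Fusion.LocalControl
import Cfsg.Agent.Lib.Fusion.ModelExists
import Cfsg.Agent.Lib.Fusion.PrimeToP
import Cfsg.Agent.Lib.FusionNormal.CenterFactor
import Cfsg.Agent.Lib.LocalEven.GlaubermanWeak

set_option autoImplicit false
universe u
open Cfsg

namespace Cfsg.Agent.S5295

open Cfsg Cfsg.FusionSystem CfsgLib.Fusion CfsgLib.FusionExt CfsgLib.PLocal

variable {Ω : Type u} [Group Ω] {S : Subgroup Ω} {F : FusionSystem S} {p : ℕ} {z : Ω}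

/-- The maps of `F` that fix `z`. -/
def fixSystem (F : FusionSystem S) (hz : z ∈ centralizerIn S S) : FusionSystem S where
  Hom P := {φ | φ ∈ F.Hom P ∧ ∀ x : P, φ x = z ↔ (x : Ω) = z}
  le_of_mem h := F.le_of_mem h.1
  injective_of_mem h := F.injective_of_mem h.1
  conj_mem {P g} hP hg := ⟨F.conj_mem hP hg, fun x => by
    have h := (mem_centralizerIn'.mp hz).2 ⟨g, hg⟩
    rw [mul_inv_eq_iff_eq_mul] at h
    rw [conjHom_apply, mul_inv_eq_iff_eq_mul]
    show g * (x : Ω) = z * g ↔ _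
    rw [h]
    exact mul_left_cancel_iff⟩
  comp_mem {P R φ ψ} hφ hψ h := ⟨F.comp_mem hφ.1 hψ.1 h, fun x => (hψ.2 _).trans (hφ.2 x)⟩
  inv_mem := by
    rintro P φ ⟨hφ, hf⟩
    obtain ⟨ψ, hψ, hψe⟩ := F.inv_mem hφ
    refine ⟨ψ, ⟨hψ, ?_⟩, hψe⟩
    rintro ⟨_, x, rfl⟩
    rw [hψe x]
    exact (hf x).symm

/-- `φ` fixes `z`. -/
def Fixes (z : Ω) {P : Subgroup Ω} (φ : P →* Ω) : Prop := ∀ x : P, (x : Ω) = z → φ x = z

/-- All automorphisms of `A` in `F` fix `z`. -/
def AutFix (F : FusionSystem S) (z : Ω) (A : Subgroup Ω) : Prop :=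
  ∀ φ ∈ F.Hom A, φ.range = A → Fixes z φ

/-- All maps of `F` with source of order at least `m` fix `z`. -/
def BigFix (F : FusionSystem S) (z : Ω) (m : ℕ) : Prop :=
  ∀ (P : Subgroup Ω), ∀ φ ∈ F.Hom P, m ≤ Nat.card P → Fixes z φ

variable [Finite S]

theorem mem_thompson {T : Subgroup Ω} (hT : T ≤ S) {x : Ω} (hx : x ∈ T)
    (hc : ∀ s ∈ T, s * x = x * s) : x ∈ thompson 0 T := by
  have := finite_of_le hT
  have h := CfsgLib.LocalEven.GlaubermanWeak.mem_thompson_of_centralizes (P := (⊤ : Subgroup ↥T))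
    (x := ⟨x, hx⟩) (Subgroup.mem_top _) fun s _ => Subtype.ext (hc s s.2)
  rw [← map_subtype_top T, thompson_map T.subtype_injective]
  exact ⟨_, h, rfl⟩

theorem isFullyNormalized_self : F.IsFullyNormalized S :=
  haveI := finite_of_le (normalizerIn_le (S := S) (P := S))
  ⟨le_rfl, fun _ _ => Subgroup.card_le_of_le (normalizerIn_le.trans_eq
    (inf_eq_left.mpr Subgroup.le_normalizer).symm)⟩

theorem isCentric_self : F.IsCentric S := by
  refine ⟨le_rfl, fun Q hQ => ?_⟩
  obtain ⟨φ, hφ, rfl⟩ := hQ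
  rw [range_eq_of_card_le hφ le_rfl (apply_mem_S hφ) le_rfl]
  exact centralizerIn_le

/-- If a map on `N_S(A)` fixing `z` carries `A` to `A'`, then fixing passes from `Aut(A')` to `Aut(A)`. -/
theorem autFix_of_map {A A' : Subgroup Ω} (hAS : A ≤ S) (hzA : z ∈ A)
    {θ : normalizerIn S A →* Ω} (hθ : θ ∈ F.Hom (normalizerIn S A))
    (hθA : (A.subgroupOf (normalizerIn S A)).map θ = A') (hθz : Fixes z θ) (h : AutFix F z A') :
    AutFix F z A := by
  intro φ hφ hr x hx
  have hA := finite_of_le hAS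
  obtain ⟨θ₀, hθ₀, hθ₀r, hθ₀e⟩ := exists_restrict hθ (le_normalizerIn hAS) hθA
  obtain ⟨θi, hθi, hθir, hθi₁, -⟩ := exists_inv hθ₀ hθ₀r
  obtain ⟨χ₁, hχ₁, hχ₁e⟩ := exists_comp hθi hφ fun y => hθir.le ⟨y, rfl⟩
  obtain ⟨χ, hχ, hχe⟩ := exists_comp hχ₁ hθ₀ fun y => by rw [hχ₁e]; exact hr.le ⟨_, rfl⟩
  have hA' : A' ≤ S := le_S hθi
  have hχr : χ.range = A' := range_eq_of_card_le hχ hA' (fun y => by
    rw [hχe]; exact hθ₀r.le ⟨_, rfl⟩) le_rfl
  have hz₀ : ∀ y : A, (y : Ω) = z → θ₀ y = z := fun y hy => by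
    rw [hθ₀e]; exact hθz _ hy
  have hzA' : z ∈ A' := hθ₀r.le ⟨⟨z, hzA⟩, hz₀ _ rfl⟩
  have h1 := h χ hχ hχr ⟨z, hzA'⟩ rfl
  rw [hχe] at h1
  have h2 : χ₁ ⟨z, hzA'⟩ = φ x := by
    rw [hχ₁e]
    refine apply_eq_of_coe_eq ?_
    show θi ⟨z, hzA'⟩ = (x : Ω)
    rw [apply_eq_of_coe_eq (φ := θi) (x := ⟨z, hzA'⟩) (y := ⟨θ₀ x, hθ₀r.le ⟨x, rfl⟩⟩) (hz₀ x hx).symm]
    exact hθi₁ x _
  have h3 : θ₀ ⟨φ x, hr.le ⟨x, rfl⟩⟩ = z := by
    rw [← h1]
    exact apply_eq_of_coe_eq h2.symm
  have h4 := F.injective_of_mem hθ₀ (h3.trans (hz₀ x hx).symm)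
  exact (congrArg Subtype.val h4).trans hx

variable [Fact p.Prime]

/-- Fixing by the automorphism groups of large centric subgroups gives fixing by all large maps. -/
theorem bigFix_of_aut (hS : IsPGroup p S) (hF : F.IsSaturated p) (hz : z ∈ centralizerIn S S) (m : ℕ)
    (h : ∀ R, F.IsCentric R → F.IsFullyNormalized R → m ≤ Nat.card R → AutFix F z R) :
    BigFix F z m := by
  intro P φ hφ hm
  have hle : F ≤ truncSystem F (fixSystem F hz) m := by
    refine alperin hS hF _ fun R hR => ?_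
    obtain ⟨hRc, hRn⟩ : F.IsCentric R ∧ F.IsFullyNormalized R := by
      rcases hR with rfl | hR
      · exact ⟨isCentric_self, isFullyNormalized_self⟩
      · exact ⟨hR.1, hR.2.1⟩
    intro a ha
    rw [mem_autGroup hRn.1]
    have hm' := (mem_autGroup hRn.1).mp ha
    refine ⟨hm', ?_⟩
    rcases lt_or_ge (Nat.card R) m with hlt | hge
    · exact Or.inl hlt
    · have hfix := h R hRc hRn hge _ hm' (by
        ext y
        constructor
        · rintro ⟨x, rfl⟩; exact (a x).2
        · exact fun hy => ⟨a.symm ⟨y, hy⟩, by simp⟩)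
      have hzR : z ∈ R := hRc.2 R (isConj_refl hRn.1) ⟨hz.1,
        Subgroup.centralizer_le (SetLike.coe_subset_coe.mpr hRn.1) hz.2⟩
      refine Or.inr ⟨hm', fun x => ⟨fun hx => ?_, hfix x⟩⟩
      exact congrArg Subtype.val (F.injective_of_mem hm' (hx.trans (hfix ⟨z, hzR⟩ rfl).symm))
  rcases (hle P hφ).2 with h' | h'
  · omega
  · exact fun x hx => (h'.2 x).mpr hx

/-- A centric fully normalized subgroup, seen through its model. -/
theorem autFix_of_model (hS : IsPGroup p S) (hF : F.IsSaturated p) (hp : p ≠ 2)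
    (hz : z ∈ centralizerIn S S) {R : Subgroup Ω} (hRc : F.IsCentric R) (hRn : F.IsFullyNormalized R)
    (hV : AutFix F z (thompson 0 (normalizerIn S R))) : AutFix F z R := by
  have hRS := hRn.1
  have := finite_of_le (normalizerIn_le (S := S) (P := R))
  set T := normalizerIn S R with hT
  set V := thompson 0 T with hVdef
  have hzR : z ∈ R := hRc.2 R (isConj_refl hRS) ⟨(mem_centralizerIn'.mp hz).1,
    Subgroup.centralizer_le (SetLike.coe_subset_coe.mpr hRS) hz.2⟩
  have hzT : z ∈ T := le_normalizerIn hRS hzR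
  obtain ⟨N, hN⟩ := exists_normalizerSystem (F := F) hRS
  obtain ⟨L, _, ι, hfin, ⟨hinj, hreal⟩, ⟨T₀, hT₀⟩, hcen⟩ := exists_model_normalizer hS hF hRn hRc hN
  set zT : T := ⟨z, hzT⟩ with hzTdef
  have hzc : ∀ s : T, s * zT = zT * s := fun s => Subtype.ext
    (Subgroup.mem_centralizer_iff.mp hz.2 _ (normalizerIn_le s.2))
  have hc₀ : ∀ s ∈ (T₀ : Subgroup L), s * ι zT = ι zT * s := by
    intro s hs
    obtain ⟨s', rfl⟩ := hT₀.le hs
    rw [← map_mul, ← map_mul, hzc]
  have hzO : ι zT ∈ Cfsg.pCore p L := hcen (Subgroup.mem_centralizer_iff.mpr fun o ho =>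
    hc₀ o (CfsgLib.PCore.pCore_le_sylow T₀ ho))
  have hmap : (V.subgroupOf T).map ι = thompson 0 (T₀ : Subgroup L) := by
    have h1 : thompson 0 (⊤ : Subgroup ↥T) = V.subgroupOf T := by
      apply Subgroup.map_injective T.subtype_injective
      rw [← thompson_map T.subtype_injective, map_subtype_top,
        Subgroup.map_subgroupOf_eq_of_le (thompson_le 0 T)]
    rw [← h1, ← thompson_map hinj, hT₀, MonoidHom.range_eq_map]
  have hzV : z ∈ V := mem_thompson normalizerIn_le hzT
    fun s hs => congrArg Subtype.val (hzc ⟨s, hs⟩)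
  have hN' : ∀ n ∈ Subgroup.normalizer (thompson 0 (T₀ : Subgroup L) : Set L),
      n * ι zT = ι zT * n := by
    intro n hn
    have hex : ∀ v : V, ∃ w : T, ι w = n * ι (Subgroup.inclusion (thompson_le 0 T) v) * n⁻¹ ∧ (w : Ω) ∈ V := by
      intro v
      have h1 : ι (Subgroup.inclusion (thompson_le 0 T) v) ∈ thompson 0 (T₀ : Subgroup L) :=
        hmap ▸ ⟨_, v.2, rfl⟩
      obtain ⟨w, hw, hwe⟩ := hmap.ge ((Subgroup.mem_normalizer_iff.mp hn _).mp h1)
      exact ⟨w, hwe, hw⟩
    choose w hw hwV using hex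
    let α : V →* Ω :=
      { toFun := fun v => (w v : Ω)
        map_one' := by
          have : w 1 = 1 := hinj (by rw [hw]; simp)
          rw [this]; rfl
        map_mul' := fun a b => by
          have : w (a * b) = w a * w b := hinj (by rw [map_mul, hw, hw, hw, map_mul, map_mul]; group)
          rw [this]; rfl }
    have hαT : ∀ v, α v ∈ T := fun v => (w v).2
    have hα : α ∈ N.Hom V := (hreal V (thompson_le 0 T) α hαT).mpr ⟨n, fun v => hw v⟩
    have hαF : α ∈ F.Hom V := ((hN V).le hα).1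
    have hαr : α.range = V := range_eq_of_card_le hαF ((thompson_le 0 T).trans normalizerIn_le)
      hwV le_rfl
    have h2 : w ⟨z, hzV⟩ = zT := Subtype.ext (hV α hαF hαr ⟨z, hzV⟩ rfl)
    have h3 := hw ⟨z, hzV⟩
    rw [h2] at h3
    exact (mul_inv_eq_iff_eq_mul.mp h3.symm)
  have hcenter : ι zT ∈ Subgroup.center L :=
    CfsgLib.LocalEven.GlaubermanWeak.mem_center_of_local T₀ hzO (hT₀.ge ⟨zT, rfl⟩) hc₀ (pow_one _)
      (Or.inr ⟨rfl, Or.inl hp⟩) hN'
  intro φ hφ hr x hx
  have hφN : φ ∈ N.Hom R := (hN R).ge (mem_normalizerHom hφ le_rfl (le_normalizerIn hRS)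
    fun y _ => hr.le ⟨y, rfl⟩)
  obtain ⟨g, hg⟩ := (hreal R (le_normalizerIn hRS) φ (fun y => le_normalizerIn hRS (hr.le ⟨y, rfl⟩))).mp hφN
  have h1 := hg x
  rw [show (⟨(x : Ω), le_normalizerIn hRS x.2⟩ : T) = zT from Subtype.ext hx,
    Subgroup.mem_center_iff.mp hcenter g, mul_inv_cancel_right] at h1
  exact congrArg Subtype.val (hinj h1)

/-- A central element of `S` fixed by `N_F(J(S))` is fixed by `F`. -/
theorem fixed_of_thompson (hS : IsPGroup p S) (hF : F.IsSaturated p) (hp : p ≠ 2)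
    (hz : z ∈ centralizerIn S S) (hJ : AutFix F z (thompson 0 S)) : BigFix F z 0 := by
  have claim : ∀ (n : ℕ) (R : Subgroup Ω), F.IsCentric R → F.IsFullyNormalized R →
      Nat.card S < Nat.card (normalizerIn S R) + n → AutFix F z R := by
    intro n
    induction n with
    | zero =>
      intro R _ _ h
      exact absurd h (not_lt.mpr (Subgroup.card_le_of_le normalizerIn_le))
    | succ n ih =>
      intro R hRc hRn hlt
      refine autFix_of_model hS hF hp hz hRc hRn ?_
      set T := normalizerIn S R with hT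
      by_cases hTS : T = S
      · rw [hTS]; exact hJ
      have hbig : BigFix F z (Nat.card T + 1) := bigFix_of_aut hS hF hz _ fun R' hc hn hcard =>
        ih R' hc hn (by
          have := finite_of_le (normalizerIn_le (S := S) (P := R'))
          have := Subgroup.card_le_of_le (le_normalizerIn (S := S) hn.1)
          omega)
      have := finite_of_le (normalizerIn_le (S := S) (P := R))
      set V := thompson 0 T with hV
      have hVS : V ≤ S := (thompson_le 0 T).trans normalizerIn_le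
      have hzR : z ∈ R := hRc.2 R (isConj_refl hRn.1) ⟨(mem_centralizerIn'.mp hz).1,
        Subgroup.centralizer_le (SetLike.coe_subset_coe.mpr hRn.1) hz.2⟩
      have hzV : z ∈ V := mem_thompson normalizerIn_le
        (le_normalizerIn hRn.1 hzR)
        fun s hs => Subgroup.mem_centralizer_iff.mp hz.2 _ (normalizerIn_le hs)
      have hTV : Nat.card T < Nat.card (normalizerIn S V) := by
        have := finite_of_le (normalizerIn_le (S := S) (P := T))
        have := finite_of_le (normalizerIn_le (S := S) (P := V))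
        have hlt := lt_normalizerIn hS le_rfl (lt_of_le_of_ne normalizerIn_le hTS)
        refine lt_of_lt_of_le (lt_of_not_ge fun h => hlt.ne (eq_of_le_of_card_le hlt.le h))
          (Subgroup.card_le_of_le (inf_le_inf_left S (normalizer_le_normalizer_thompson 0 T)))
      -- move `V` to a fully normalized conjugate
      obtain ⟨V', hV', hV'n⟩ := exists_fullyNormalized (F := F) hVS
      obtain ⟨ha, hr⟩ := fullyNormalized_good hS hF hV'n
      obtain ⟨θ, hθ, hθT, hθV⟩ := exists_normalizer_hom hS ha hr hV'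
      have hθz : Fixes z θ := hbig _ θ hθ (by omega)
      refine autFix_of_map hVS hzV hθ hθV hθz fun φ hφ hφr => ?_
      have hV'S := hV'n.1
      have hzV' : z ∈ V' := hθV.le ⟨⟨z, le_normalizerIn hVS hzV⟩, hzV, hθz _ rfl⟩
      have hVV' : Nat.card (normalizerIn S V) ≤ Nat.card (normalizerIn S V') :=
        card_le_of_map hθ normalizerIn_le hθT
      -- extend to `V' C_S(V')`
      set R₁ := V' ⊔ centralizerIn S V' with hR₁
      have hR₁S : R₁ ≤ S := sup_le hV'S centralizerIn_le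
      obtain ⟨χ, hχ, hχe⟩ := exists_extension hr hφ hφr (le_sup_left : V' ≤ R₁)
        (sup_le (le_extender hV'S (apply_mem_S hφ)) centralizerIn_le_extender)
      have hχV : ∀ y : R₁, (y : Ω) ∈ V' → χ y ∈ V' := fun y hy => by
        rw [apply_eq_of_coe_eq (φ := χ) (x := y) (y := ⟨((⟨y, hy⟩ : V') : Ω), Subgroup.mem_sup_left hy⟩) rfl, hχe ⟨y, hy⟩]
        exact hφr.le ⟨_, rfl⟩
      have hχR : ∀ y, χ y ∈ R₁ := sup_le_map_comap
        (fun a ha => Subgroup.mem_sup_left (hχV _ ha))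
        (fun c hc => Subgroup.mem_sup_right (mem_centralizerIn.mpr ⟨apply_mem_S hχ _, fun v hv => by
          obtain ⟨v', rfl⟩ := hφr.ge hv
          rw [← hχe v', ← map_mul, ← map_mul]
          exact congrArg χ (Subtype.ext ((mem_centralizerIn.mp hc).2 _ v'.2))⟩))
      have hR₁c : F.IsCentric R₁ := by
        have hfc : F.IsFullyCentralized V' := fullyCentralized_of_receptive hr
        refine ⟨hR₁S, ?_⟩
        rintro _ ⟨ψ, hψ, rfl⟩
        have := finite_of_le hV'S
        have hW : F.IsConj V' ((V'.subgroupOf R₁).map ψ) := isConj_map hψ le_sup_left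
        set W := (V'.subgroupOf R₁).map ψ with hWdef
        have hC : centralizerIn S W ≤ ψ.range := by
          have hle : ((centralizerIn S V').subgroupOf R₁).map ψ ≤ centralizerIn S W := by
            rintro _ ⟨c, hc, rfl⟩
            refine mem_centralizerIn.mpr ⟨apply_mem_S hψ _, ?_⟩
            rintro _ ⟨v, hv, rfl⟩
            rw [← map_mul, ← map_mul]
            exact congrArg ψ (Subtype.ext ((mem_centralizerIn.mp hc).2 _ hv))
          have := finite_of_le (centralizerIn_le (S := S) (P := W))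
          rw [← eq_of_le_of_card_le hle ((hfc.2 W hW).trans_eq
            (card_map_subgroupOf (F.injective_of_mem hψ) le_sup_right).symm)]
          exact Subgroup.map_le_range _ _
        exact fun c hc => hC ⟨hc.1, Subgroup.centralizer_le
          (SetLike.coe_subset_coe.mpr (Subgroup.map_le_range ψ _)) hc.2⟩
      have := finite_of_le hR₁S
      have hNR₁ : normalizerIn S V' ≤ normalizerIn S R₁ := by
        intro g hg
        refine ⟨hg.1, mem_normalizer_of_forall fun x hx => ?_⟩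
        revert x
        suffices R₁ ≤ R₁.comap (MulAut.conj g).toMonoidHom from fun x hx => this hx
        refine sup_le (fun v hv => ?_) fun c hc => ?_
        · exact Subgroup.mem_sup_left (by simpa using (Subgroup.mem_normalizer_iff.mp hg.2 v).mp hv)
        · refine Subgroup.mem_sup_right (mem_centralizerIn.mpr ⟨?_, fun v hv => ?_⟩)
          · simpa using S.mul_mem (S.mul_mem hg.1 hc.1) (S.inv_mem hg.1)
          · have hm : g⁻¹ * v * g ∈ V' := (Subgroup.mem_normalizer_iff.mp hg.2 _).mpr (by simpa [mul_assoc] using hv)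
            have := congrArg (fun y => g * y * g⁻¹) ((mem_centralizerIn.mp hc).2 _ hm)
            simpa [mul_assoc] using this
      have := finite_of_le hR₁S
      obtain ⟨R₂, hR₂, hR₂n⟩ := exists_fullyNormalized (F := F) hR₁S
      obtain ⟨ha₂, hr₂⟩ := fullyNormalized_good hS hF hR₂n
      obtain ⟨θ₂, hθ₂, hθ₂T, hθ₂R⟩ := exists_normalizer_hom hS ha₂ hr₂ hR₂
      have := finite_of_le (normalizerIn_le (S := S) (P := R₁))
      have hN₁ := Subgroup.card_le_of_le hNR₁
      have hθ₂z : Fixes z θ₂ := hbig _ θ₂ hθ₂ (by omega)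
      have hcard₂ := card_le_of_map hθ₂ normalizerIn_le hθ₂T
      have h2 : AutFix F z R₁ := autFix_of_map hR₁S (Subgroup.mem_sup_left hzV') hθ₂ hθ₂R hθ₂z
        (ih R₂ (IsCentric.of_conj hR₁c hR₂) hR₂n (by omega))
      intro x hx
      rw [← hχe x]
      exact h2 χ hχ (range_eq_of_card_le hχ hR₁S hχR le_rfl) _ hx
  exact bigFix_of_aut hS hF hz 0 fun R hc hn _ => claim (Nat.card S + 1) R hc hn (by omega)


/-- Let F be a saturated fusion system over a finite p-group S with p odd. Then the centre Z(F) of F is a direct factor of Z(S): there is a subgroup K of Z(S) with Z(F) ∩ K = 1 and Z(F)K = Z(S). (At the prime 2 this can fail.) -/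
theorem result {Ω : Type u} [Group Ω] {S : Subgroup Ω} [Finite S] (p : ℕ) [Fact p.Prime] (hp : p ≠ 2) (hS : IsPGroup p S)
    (F : Cfsg.FusionSystem S) (hF : F.IsSaturated p) :
    ∃ K : Subgroup Ω, K ≤ (S ⊓ Subgroup.centralizer (S : Set Ω)) ∧ F.center ⊓ K = ⊥ ∧ F.center ⊔ K = (S ⊓ Subgroup.centralizer (S : Set Ω)) := by
  have hJS : CfsgLib.PLocal.thompson 0 S ≤ S := CfsgLib.PLocal.thompson_le 0 S
  have hSJ : S ≤ Subgroup.normalizer (CfsgLib.PLocal.thompson 0 S : Set Ω) :=
    CfsgLib.PLocal.le_normalizer_thompson 0 S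
  set J := CfsgLib.PLocal.thompson 0 S with hJdef
  have := finite_of_le hJS
  have := finite_of_le (normalizerIn_le (S := S) (P := J))
  have hJn : F.IsFullyNormalized J := ⟨hJS, fun _ _ => Subgroup.card_le_of_le (normalizerIn_le.trans_eq
    (inf_eq_left.mpr hSJ).symm)⟩
  have hNJ : normalizerIn S J = S := inf_eq_left.mpr hSJ
  obtain ⟨N, hN, hNsat⟩ : ∃ N : FusionSystem S, (∀ P, N.Hom P = F.normalizerHom J P) ∧ N.IsSaturated p := by
    have hgen : ∀ (M : Subgroup Ω), M = normalizerIn S J →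
        ∃ N : FusionSystem M, (∀ P, N.Hom P = F.normalizerHom J P) ∧ N.IsSaturated p := by
      rintro _ rfl
      obtain ⟨N, hN⟩ := exists_normalizerSystem (F := F) hJn.1
      exact ⟨N, hN, normalizerSystem_saturated hS hF hJn hN⟩
    exact hgen S hNJ.symm
  have hnorm : N.IsNormal J := by
    refine ⟨hJS, fun P φ hφ => ?_⟩
    obtain ⟨-, hP, hT, ψ, hψ, hψe, hψJ⟩ := (hN P).le hφ
    refine ⟨ψ, (hN _).ge (mem_normalizerHom hψ le_sup_right ?_ fun x hx => hψJ.le ⟨x, hx, rfl⟩), hψe, hψJ⟩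
    exact (sup_le (hP.trans normalizerIn_le) hJS).trans hNJ.ge
  have hZJ : centralizerIn S S ≤ J := fun z hz =>
    mem_thompson le_rfl hz.1
      fun s hs => Subgroup.mem_centralizer_iff.mp hz.2 s hs
  obtain ⟨K, hK, h1, h2⟩ := CfsgLib.FusionNormal.exists_center_complement hS hNsat hnorm hZJ
  suffices h : F.center = N.center from ⟨K, hK, h ▸ h1, h ▸ h2⟩
  refine le_antisymm (fun z hz => ?_) fun z hz => ?_
  · refine (le_sSup (a := Subgroup.zpowers z) ?_ : _ ≤ N.center) (Subgroup.mem_zpowers z)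
    refine (isCentral_iff hS hNsat).mpr ⟨Subgroup.zpowers_le.mpr ((isCentral_center F).1 hz), ?_⟩
    rintro w hw y ⟨φ, hφ, rfl⟩
    exact CfsgLib.FusionNormal.center_fixed ((hN _).le hφ).1 _ (Subgroup.zpowers_le.mpr hz hw)
  · refine (le_sSup (a := Subgroup.zpowers z) ?_ : _ ≤ F.center) (Subgroup.mem_zpowers z)
    refine (isCentral_iff hS hF).mpr ⟨Subgroup.zpowers_le.mpr ((isCentral_center N).1 hz), ?_⟩
    rintro w hw y ⟨φ, hφ, rfl⟩
    have hwN : w ∈ N.center := Subgroup.zpowers_le.mpr hz hw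
    have hwc : w ∈ centralizerIn S S := CfsgLib.FusionNormal.center_le_centralizerIn N hwN
    have hfix := fixed_of_thompson (z := w) hS hF hp hwc fun φ hφ hr x hx => by
      have hφN : φ ∈ N.Hom J := (hN J).ge (mem_normalizerHom hφ le_rfl (hJS.trans hNJ.ge)
        fun y _ => hr.le ⟨y, rfl⟩)
      exact (CfsgLib.FusionNormal.center_fixed hφN x (hx ▸ hwN)).trans hx
    exact hfix _ φ hφ (Nat.zero_le _) _ rfl

end Cfsg.Agent.S5295
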