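import Cfsg.Statements.S5299


set_option autoImplicit false
universe u
open Cfsg

namespace Cfsg.Agent.S5299

/-- Let F be a saturated fusion system over a finite p-group S, H a finite group and Q a p-subgroup of H. If Q is not involved in S (no section of S is isomorphic to Q), then F is H-free: H is involved in no model of the normalizer system of a fully normalized centric subgroup. -/
theorem result {Ω : Type u} [Group Ω] {S : Subgroup Ω} [Finite S] (p : ℕ) [Fact p.Prime] (hS : IsPGroup p S)
    (F : Cfsg.FusionSystem S) (hF : F.IsSaturated p) (H : Type*) [Group H] [Finite H] (Q : Subgroup H) (hQ : IsPGroup p Q)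
    (hfree : ¬ Cfsg.Involves (↥Q) (↥S)) : F.IsSectionFree p H := by
  intro Q0 _ _ N _ L _ ι hm hinv
  obtain ⟨hfin, hreal, ⟨T, hT⟩, -⟩ := hm
  apply hfree
  obtain ⟨K, R, hR, ⟨e⟩⟩ := hinv
  -- preimage of `Q` in `K`
  let f : ↥K →* H := e.toMonoidHom.comp (QuotientGroup.mk' (R.subgroupOf K))
  have hf : Function.Surjective f := e.surjective.comp (QuotientGroup.mk'_surjective _)
  let g : ↥(Q.comap f) →* Q := (f.comp (Q.comap f).subtype).codRestrict Q fun x => x.2
  have hg : Function.Surjective g := fun q => by
    obtain ⟨x, hx⟩ := hf q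
    exact ⟨⟨x, by rw [Subgroup.mem_comap, hx]; exact q.2⟩, Subtype.ext hx⟩
  obtain ⟨P⟩ : Nonempty (Sylow p ↥(Q.comap f)) := inferInstance
  have hPg : Function.Surjective (g.comp (P : Subgroup ↥(Q.comap f)).subtype) := by
    have h2 : ((P : Subgroup ↥(Q.comap f)).map g : Subgroup Q) = ⊤ := by
      exact ((P.mapSurjective hg).3 (hQ.to_subgroup ⊤) le_top).symm
    intro q
    obtain ⟨x, hx, rfl⟩ := h2.ge (Subgroup.mem_top q)
    exact ⟨⟨x, hx⟩, rfl⟩
  -- move `P` into the image of `ι`
  let P' : Subgroup L := ((P : Subgroup ↥(Q.comap f)).map (Q.comap f).subtype).map K.subtype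
  have hP' : IsPGroup p P' := (P.2.map _).map _
  obtain ⟨T', hT'⟩ := hP'.exists_le_sylow
  obtain ⟨c, hc⟩ := MulAction.exists_smul_eq L T' T
  let j : ↥(P : Subgroup ↥(Q.comap f)) →* L :=
    (MulAut.conj c).toMonoidHom.comp ((K.subtype.comp (Q.comap f).subtype).comp (P : Subgroup ↥(Q.comap f)).subtype)
  have hj : ∀ x, j x ∈ ι.range := by
    intro x
    rw [← hT, ← hc, Sylow.coe_subgroup_smul]
    exact ⟨_, hT' ⟨_, ⟨_, x.2, rfl⟩, rfl⟩, rfl⟩
  have hjinj : Function.Injective j := fun a b h => by
    have := (MulAut.conj c).injective h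
    exact Subtype.ext (Subtype.ext (Subtype.ext this))
  let k : ↥(P : Subgroup ↥(Q.comap f)) →* ↥S :=
    (Subgroup.inclusion (inf_le_left : Cfsg.FusionSystem.normalizerIn S Q0 ≤ S)).comp
      ((MonoidHom.ofInjective hreal.1).symm.toMonoidHom.comp (j.codRestrict ι.range hj))
  have hk : Function.Injective k := by
    intro a b h
    have h1 := Subgroup.inclusion_injective inf_le_left h
    have h2 : j.codRestrict ι.range hj a = j.codRestrict ι.range hj b :=
      (MonoidHom.ofInjective hreal.1).symm.injective h1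
    exact hjinj (congrArg Subtype.val h2)
  let u : ↥k.range →* Q := (g.comp (P : Subgroup ↥(Q.comap f)).subtype).comp (MonoidHom.ofInjective hk).symm.toMonoidHom
  have hu : Function.Surjective u := hPg.comp (MulEquiv.surjective _)
  have hker : (u.ker.map k.range.subtype).subgroupOf k.range = u.ker :=
    Subgroup.comap_map_eq_self_of_injective k.range.subtype_injective _
  have hN : ((u.ker.map k.range.subtype).subgroupOf k.range).Normal := by
    rw [hker]; infer_instance
  exact ⟨k.range, u.ker.map k.range.subtype, hN,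
    ⟨(QuotientGroup.quotientMulEquivOfEq hker).trans (QuotientGroup.quotientKerEquivOfSurjective u hu)⟩⟩

end Cfsg.Agent.S5299
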