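import Cfsg.Statements.S5301
import Cfsg.Agent.Lib.FusionNormal.Alperin

set_option autoImplicit false
universe u
open Cfsg Cfsg.FusionSystem CfsgLib.Fusion CfsgLib.FusionNormal

namespace Cfsg.Agent.S5301

/-- Let F be a saturated fusion system over a finite p-group S. If for every subgroup P of S that is fully normalized, centric and radical in F the automorphism group that F induces on P has a normal Sylow p-subgroup, then S is normal in F. -/
theorem result {Ω : Type u} [Group Ω] {S : Subgroup Ω} [Finite S] (p : ℕ) [Fact p.Prime] (hS : IsPGroup p S)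
    (F : Cfsg.FusionSystem S) (hF : F.IsSaturated p)
    (hcl : ∀ P : Subgroup Ω, F.IsFullyNormalized P → F.IsCentric P → F.IsRadical p P →
      ∃ R : Sylow p ↥(F.autGroup P), (R : Subgroup ↥(F.autGroup P)).Normal) :
    F.IsNormal S := by
  refine isNormal_of_radicals hS hF le_rfl fun R hn hc hr => ?_
  have hRS := hn.1
  haveI := finite_mulAut hRS
  obtain ⟨T, hT⟩ := (fullyNormalized_good hS hF hn).1.2
  obtain ⟨U, hU⟩ := hcl R hn hc hr
  have hTn : (T : Subgroup ↥(F.autGroup R)).Normal := by
    haveI := Sylow.unique_of_normal U hU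
    rw [Subsingleton.elim T U]
    exact hU
  have hN : normalizerIn S R ≤ R := by
    intro g hg
    obtain ⟨α, hα, hαe⟩ := exists_autInducedBy (K := S) hg.1 hg.2
    refine mem_of_radical hc hr hTn T.2 hg.1 (α := ⟨α, autInducedBy_le_autGroup hRS hα⟩) ?_ hαe
    rw [hT]
    exact hα
  have hRS' : R = S := by
    by_contra h
    exact (lt_normalizerIn' hS hRS h).not_ge hN
  subst hRS'
  exact ⟨le_rfl, fun a _ har => har⟩

end Cfsg.Agent.S5301
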