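import Cfsg.Statements.S5306
import Cfsg.Agent.Lib.PLocal.Thompson

set_option autoImplicit false
open Cfsg

namespace Cfsg.Agent.S5306

/-- Let P be a Sylow p-subgroup of the finite group X and J = J(P) its Thompson subgroup (generated by the elementary abelian subgroups of P of largest order). If x and y lie in the centre of J and y = g x g⁻¹ for some g in X, then y = n x n⁻¹ for some n in the normalizer N_X(J). -/
theorem result {X : Type*} [Group X] [Finite X] (p : ℕ) [Fact p.Prime] (P : Sylow p X) (J : Subgroup X) (hJ : J = Cfsg.thompsonSubgroupOf p (P : Subgroup X))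
    (x y : X) (hx : x ∈ J ∧ ∀ j ∈ J, Commute j x) (hy : y ∈ J ∧ ∀ j ∈ J, Commute j y) (g : X) (hg : g * x * g⁻¹ = y) :
    ∃ n ∈ Subgroup.normalizer (J : Set X), n * x * n⁻¹ = y := by
  rw [CfsgLib.PLocal.thompsonSubgroupOf_eq] at hJ
  have hJP : J ≤ (P : Subgroup X) := hJ ▸ CfsgLib.PLocal.thompson_le p _
  -- `J` is weakly closed in `P`
  have hwc : ∀ m : X, J.map (MulAut.conj m).toMonoidHom ≤ (P : Subgroup X) →
      J.map (MulAut.conj m).toMonoidHom = J := by
    intro m hm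
    refine Subgroup.eq_of_le_of_card_ge ?_
      (Subgroup.card_map_of_injective (f := (MulAut.conj m).toMonoidHom) (MulAut.conj m).injective).ge
    rw [Subgroup.map_le_iff_le_comap]
    conv_lhs => rw [hJ]
    refine CfsgLib.PLocal.thompson_le_iff.mpr fun A hA => ?_
    rw [← Subgroup.map_le_iff_le_comap, hJ]
    refine CfsgLib.PLocal.IsMaxElemIn.le_thompson
      (hA.of_card_le ?_ (CfsgLib.PLocal.elemAb_map _ hA.elem) ?_)
    · exact (Subgroup.map_mono (hJ ▸ hA.le_thompson)).trans hm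
    · exact (Subgroup.card_map_of_injective (f := (MulAut.conj m).toMonoidHom) (MulAut.conj m).injective).ge
  let C : Subgroup X := Subgroup.centralizer {y}
  have hJC : J ≤ C := fun j hj => Subgroup.mem_centralizer_iff.mpr <| by
    rintro z rfl; exact (hy.2 j hj).symm
  have hgC : J.map (MulAut.conj g).toMonoidHom ≤ C := by
    rintro _ ⟨j, hj, rfl⟩
    refine Subgroup.mem_centralizer_iff.mpr ?_
    rintro z rfl
    show z * (g * j * g⁻¹) = g * j * g⁻¹ * z
    rw [← hg]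
    calc g * x * g⁻¹ * (g * j * g⁻¹) = g * (x * j) * g⁻¹ := by group
      _ = g * (j * x) * g⁻¹ := by rw [(hx.2 j hj).symm.eq]
      _ = g * j * g⁻¹ * (g * x * g⁻¹) := by group
  have hJp : IsPGroup p J := P.2.to_le hJP
  obtain ⟨Q₁, hQ₁⟩ := (hJp.comap_of_injective C.subtype C.subtype_injective).exists_le_sylow
  obtain ⟨Q₂, hQ₂⟩ := ((hJp.map (MulAut.conj g).toMonoidHom).comap_of_injective C.subtype
    C.subtype_injective).exists_le_sylow
  obtain ⟨c, hc⟩ := MulAction.exists_smul_eq C Q₂ Q₁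
  obtain ⟨P', hP'⟩ := (Q₁.2.map C.subtype).exists_le_sylow
  obtain ⟨h, hh⟩ := MulAction.exists_smul_eq X P' P
  have key : ∀ k : X, (∀ j ∈ J, ∃ hk : k * j * k⁻¹ ∈ C, (⟨_, hk⟩ : C) ∈ (Q₁ : Subgroup C)) →
      J.map (MulAut.conj (h * k)).toMonoidHom = J := by
    intro k hk
    refine hwc _ ?_
    rintro _ ⟨j, hj, rfl⟩
    obtain ⟨hk1, hk2⟩ := hk j hj
    rw [← hh, Sylow.coe_subgroup_smul]
    refine ⟨k * j * k⁻¹, hP' ⟨_, hk2, rfl⟩, ?_⟩
    show h * (k * j * k⁻¹) * h⁻¹ = h * k * j * (h * k)⁻¹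
    group
  have h1 := key 1 fun j hj => ⟨by simpa using hJC hj, hQ₁ (show _ ∈ J by simpa using hj)⟩
  have h2 : J.map (MulAut.conj (h * ((c : X) * g))).toMonoidHom = J := key _ fun j hj => by
    have hgj : g * j * g⁻¹ ∈ C := hgC ⟨j, hj, rfl⟩
    have e : (c : X) * g * j * ((c : X) * g)⁻¹ = c * (g * j * g⁻¹) * (c : X)⁻¹ := by group
    refine ⟨by rw [e]; exact C.mul_mem (C.mul_mem c.2 hgj) (C.inv_mem c.2), ?_⟩
    rw [← hc, Sylow.coe_subgroup_smul]
    exact ⟨⟨_, hgj⟩, hQ₂ ⟨j, hj, rfl⟩, Subtype.ext e.symm⟩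
  have hhN : h ∈ Subgroup.normalizer (J : Set X) :=
    Subgroup.mem_normalizer_iff_map_conj_eq.mpr (by simpa using h1)
  have hkN : h * ((c : X) * g) ∈ Subgroup.normalizer (J : Set X) :=
    Subgroup.mem_normalizer_iff_map_conj_eq.mpr h2
  refine ⟨(c : X) * g, ?_, ?_⟩
  · have := Subgroup.mul_mem _ (Subgroup.inv_mem _ hhN) hkN
    simpa using this
  · calc (c : X) * g * x * ((c : X) * g)⁻¹ = c * (g * x * g⁻¹) * (c : X)⁻¹ := by group
      _ = y := by
        rw [hg, ← Subgroup.mem_centralizer_iff.mp c.2 y rfl, mul_inv_cancel_right]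

end Cfsg.Agent.S5306
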