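import Cfsg.Statements.S5310
import Cfsg.Agent.Lib.FusionLayer.Basics
import Cfsg.Agent.S5146
import Cfsg.Agent.Lib.Fusion.ProductSystem

set_option autoImplicit false
open Cfsg

namespace Cfsg.Agent.S5310

open CfsgLib.Fusion CfsgLib.FusionNormal CfsgLib.FusionTransport CfsgLib.FusionLayer
open Cfsg.FusionSystem

variable {Ω : Type*} [Group Ω]

/-- The inner system of `Q` is a central product of itself and the system over the trivial group. -/
theorem central_product_bot (Q : Subgroup Ω) :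
    IsCentralProductOf (innerFusionSystem Q) (innerFusionSystem (⊥ : Subgroup Ω)) (innerFusionSystem Q) := by
  let θ : ↥(Q.prod (⊥ : Subgroup Ω)) →* Ω := (MonoidHom.fst Ω Ω).comp (Subgroup.subtype _)
  set D₀ := CfsgLib.FusionProduct.prodSystem (innerFusionSystem Q) (innerFusionSystem (⊥ : Subgroup Ω))
  refine ⟨D₀, CfsgLib.FusionProduct.prodSystem_isProductSystem _ _, ⊥, θ, bot_le, bot_inf_eq _,
    bot_inf_eq _, fun x _ => rfl, fun y hy => (Subgroup.mem_bot.mp hy.2).symm, bot_le, fun x => ?_, ?_,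
    fun P' φ' => ?_⟩
  · constructor
    · intro h
      exact Subgroup.mem_bot.mpr (Prod.ext h (Subgroup.mem_bot.mp x.2.2))
    · intro h
      exact congrArg Prod.fst (Subgroup.mem_bot.mp h)
  · ext y
    exact ⟨fun ⟨x, hx⟩ => hx ▸ x.2.1, fun hy => ⟨⟨(y, 1), hy, Subgroup.one_mem _⟩, rfl⟩⟩
  · constructor
    · rintro ⟨hP', g, hg, he⟩
      refine ⟨hP', conjHom _ ((g, 1) : Ω × Ω), D₀.conj_mem (Subgroup.map_subtype_le _)
        ⟨hg, Subgroup.one_mem _⟩, Subgroup.map_subtype_le _, fun x => ?_, fun x => ?_, fun x => ?_⟩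
      · have hx := Subgroup.map_subtype_le _ x.2
        exact (Q.prod ⊥).mul_mem ((Q.prod ⊥).mul_mem ⟨hg, Subgroup.one_mem _⟩ hx)
          ((Q.prod ⊥).inv_mem ⟨hg, Subgroup.one_mem _⟩)
      · exact CfsgLib.FusionFactor.map_mem_of_mem_preimageAlong x.2 _
      · rw [he]
        rfl
    · rintro ⟨hP', φ, ⟨-, φ₁, ⟨-, g, hg, hge⟩, φ₂, hφ₂, hφe⟩, hP, hφS, hm, he⟩
      refine ⟨hP', g, hg, fun y => ?_⟩
      have hx : ((y : Ω), (1 : Ω)) ∈ preimageAlong θ P' :=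
        CfsgLib.FusionFactor.mem_preimageAlong.mpr ⟨⟨hP' y.2, Subgroup.one_mem _⟩, y.2⟩
      refine (he ⟨_, hx⟩).trans ?_
      show (φ ⟨_, hx⟩).1 = _
      rw [hφe ⟨_, hx⟩ ⟨_, hx, rfl⟩ ⟨_, hx, rfl⟩]
      exact hge _

variable {S : Subgroup Ω} [Finite S] {p : ℕ} [Fact p.Prime] {F : FusionSystem S}

/-- In a central product equal to an inner system every map of a factor is a conjugation. -/
theorem conj_of_centralProduct {Q T : Subgroup Ω} (hQ : Q ≤ S) (hT : T ≤ S) {E : FusionSystem T}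
    (h : IsCentralProductOf (innerFusionSystem Q) E (innerFusionSystem Q)) (P : Subgroup Ω)
    (φ : P →* Ω) (hφ : φ ∈ E.Hom P) : ∃ g ∈ Q, ∀ x : P, φ x = g * (x : Ω) * g⁻¹ := by
  obtain ⟨D₀, hD₀, Z, θ, hZ, -, -, -, hθ₂, hfac⟩ := h
  have := finite_of_le hQ
  have := finite_of_le hT
  have : Finite ↥(Q.prod T) := Finite.of_equiv _ (Subgroup.prodEquiv Q T).toEquiv.symm
  have hPT := CfsgLib.Fusion.le_S hφ
  obtain ⟨hcS, -⟩ := CfsgLib.FusionExt.isCentral_center D₀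
  have hZc : D₀.IsCentral Z := isCentral_of_mapFn (hZ.trans hcS) fun R f hf => by
    obtain ⟨g, hg, hgR, hgZ⟩ := mapFn_central (CfsgLib.FusionExt.isCentral_center D₀) hf
    exact ⟨g, hg.mono (sup_le_sup_left hZ _), hgR, fun z hz => hgZ z (hZ hz)⟩
  -- the map `(1, φ)`
  set P₀ : Subgroup (Ω × Ω) := (⊥ : Subgroup Ω).prod P with hP₀
  have hP₀le : P₀ ≤ Q.prod T := fun x hx => ⟨Subgroup.mem_bot.mp hx.1 ▸ Q.one_mem, hPT hx.2⟩
  obtain ⟨f, hf, hfe⟩ := mapFn_of_hom hφ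
  have hsnd : P₀.map (MonoidHom.snd Ω Ω) = P := by
    ext y
    exact ⟨fun ⟨x, hx, he⟩ => he ▸ hx.2, fun hy => ⟨((1 : Ω), y), ⟨Subgroup.one_mem _, hy⟩, rfl⟩⟩
  obtain ⟨φ₂, hφ₂, hφ₂e⟩ : MapFn E (P₀.map (MonoidHom.snd Ω Ω)) f := hsnd.symm ▸ hf
  let φ₀ : P₀ →* Ω × Ω := MonoidHom.prod 1
    (φ₂.comp ((MonoidHom.snd Ω Ω).subgroupMap P₀))
  have hφ₀ : MapFn D₀ P₀ fun x => ((1 : Ω), f x.2) := by
    refine ⟨φ₀, (hD₀ _ _).mpr ⟨hP₀le, conjHom _ 1, (innerFusionSystem Q).conj_mem ?_ Q.one_mem,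
      φ₂, hφ₂, fun x h₁ h₂ => ?_⟩, fun x => Prod.ext rfl (hφ₂e _)⟩
    · rintro _ ⟨x, hx, rfl⟩
      exact (hP₀le hx).1
    · refine Prod.ext ?_ rfl
      show (1 : Ω) = 1 * (x : Ω × Ω).1 * (1 : Ω)⁻¹
      simp [Subgroup.mem_bot.mp x.2.1]
  obtain ⟨g, hg, hgP, -⟩ := mapFn_central hZc hφ₀
  have hle : P₀ ⊔ Z ≤ Q.prod T := sup_le hP₀le (hfac.1)
  have hg' : MapFn D₀ (preimageAlong θ (imageAlong θ P₀)) g :=
    hg.mono (CfsgLib.FusionFactor.preimageAlong_imageAlong hfac.2.1 hfac.1 hP₀le).le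
  obtain ⟨u, ⟨φ', hφ', hue⟩, hu⟩ := mapFn_induce hfac (stronglyClosed_of_central hZc)
    ((CfsgLib.FusionFactor.imageAlong_le_range P₀).trans hfac.2.2.1.le) hg'
  obtain ⟨-, c, hc, hce⟩ := hφ'
  refine ⟨c, hc, fun x => ?_⟩
  have hx0 : ((1 : Ω), (x : Ω)) ∈ P₀ := ⟨Subgroup.one_mem _, x.2⟩
  have hxI : (x : Ω) ∈ imageAlong θ P₀ :=
    ⟨⟨_, hP₀le hx0⟩, hx0, hθ₂ x (hP₀le hx0)⟩
  obtain ⟨h1, h2⟩ := hu ⟨_, hP₀le hx0⟩ (CfsgLib.FusionFactor.mem_preimageAlong.mpr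
    ⟨hP₀le hx0, ⟨_, hP₀le hx0⟩, hx0, rfl⟩)
  have e : (⟨g ((1 : Ω), (x : Ω)), h1⟩ : ↥(Q.prod T)) =
      ⟨((1 : Ω), φ x), Q.one_mem, (E.le_of_mem hφ).2 x⟩ :=
    Subtype.ext ((hgP _ hx0).trans (Prod.ext rfl (hfe x).symm))
  rw [hθ₂ x (hP₀le hx0)] at h2
  rw [show θ ⟨g ((1 : Ω), (x : Ω)), h1⟩ = φ x from (congrArg θ e).trans (hθ₂ _ _)] at h2
  rw [← h2, ← hue ⟨x, hxI⟩]
  exact hce _

/-- A saturated fusion system F over a finite p-group S is constrained (its largest normal subgroup O_p(F) is centric) if and only if the inner fusion system of O_p(F) is itself a generalized Fitting subsystem of F (that is, F*(F) = O_p(F)). -/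
theorem result {Ω : Type*} [Group Ω] {S : Subgroup Ω} [Finite S] (p : ℕ) [Fact p.Prime] (hS : IsPGroup p S) (F : Cfsg.FusionSystem S) (hF : F.IsSaturated p) :
    F.IsConstrained p ↔ (Cfsg.innerFusionSystem F.core).IsGeneralizedFittingOf F p := by
  obtain ⟨hcn, -⟩ := CfsgLib.FusionExt.isNormal_core F
  have hnocomp : (innerFusionSystem F.core).IsGeneralizedFittingOf F p →
      ∀ (U : Subgroup Ω) (C : FusionSystem U), ¬ C.IsComponentIn F p := by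
    rintro ⟨T, E, hE, hD⟩ U C hC
    have hT : T ≤ S := hE.1.1.2.2.2.1.1
    have hUS := le_of_subnormal hC.1
    have := finite_of_le hUS
    refine not_quasisimple_of_pGroup hC.2 fun P hP => ?_
    exact isPGroup_autGroup_of_conj (hS.to_le hcn) (fun R φ hφ =>
      conj_of_centralProduct hcn hT hD R φ (hE.2.1 U C hC R hφ)) hP
  constructor
  · intro hc
    refine ⟨⊥, innerFusionSystem ⊥, ⟨inner_isNormalIn hS hF (CfsgLib.FusionExt.isNormal_bot F),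
      fun U C hC => absurd hC (not_component_of_constrained hS hc C),
      fun R D _ _ => inner_isSubsystemOf bot_le⟩, central_product_bot _⟩
  · intro h
    exact (Cfsg.Agent.S5146.result p hS F hF).mpr fun ⟨T, C, hC⟩ => hnocomp h T C hC

end Cfsg.Agent.S5310
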