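import Cfsg.Statements.S5311
import Cfsg.Agent.Lib.FusionNormal.LayerTransport

set_option autoImplicit false
open Cfsg

namespace Cfsg.Agent.S5311

/-- The layer of a saturated fusion system F over a finite p-group S is characteristic in F: for every automorphism α of S that is an automorphism of F (α and its inverse are morphisms from F to F) and every layer E of F over T, α carries T onto T and, for every map φ of E with source P, the map induced by α on α(P) (that is, α ∘ φ ∘ α⁻¹) is a map of E. -/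
theorem result {Ω : Type*} [Group Ω] {S : Subgroup Ω} [Finite S] (p : ℕ) [Fact p.Prime] (hS : IsPGroup p S) (F : Cfsg.FusionSystem S) (hF : F.IsSaturated p)
    (α : ↥S ≃* ↥S) (hα : F.IsMorphism F (S.subtype.comp α.toMonoidHom))
    (hα' : F.IsMorphism F (S.subtype.comp α.symm.toMonoidHom))
    {T : Subgroup Ω} (E : Cfsg.FusionSystem T) (hE : E.IsLayerOf F p) :
    Cfsg.FusionSystem.imageAlong (S.subtype.comp α.toMonoidHom) T = T ∧
      ∀ (P : Subgroup Ω) (φ : ↥P →* Ω), φ ∈ E.Hom P →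
        ∀ φ' : ↥(Cfsg.FusionSystem.imageAlong (S.subtype.comp α.toMonoidHom) P) →* Ω,
          Cfsg.FusionSystem.InducedAlong (S.subtype.comp α.toMonoidHom) φ φ' →
            φ' ∈ E.Hom (Cfsg.FusionSystem.imageAlong (S.subtype.comp α.toMonoidHom) P) := by
  classical
  let e : CfsgLib.FusionTransport.Emb S S :=
    { f := fun x => if h : x ∈ S then ((α ⟨x, h⟩ : S) : Ω) else 1
      g := fun x => if h : x ∈ S then ((α.symm ⟨x, h⟩ : S) : Ω) else 1
      f_mem := fun x hx => by rw [dif_pos hx]; exact (α ⟨x, hx⟩).2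
      g_mem := fun x hx => by rw [dif_pos hx]; exact (α.symm ⟨x, hx⟩).2
      gf := fun x hx => by
        rw [dif_pos hx, dif_pos (α ⟨x, hx⟩).2]
        simp
      fg := fun x hx => by
        rw [dif_pos hx, dif_pos (α.symm ⟨x, hx⟩).2]
        simp
      f_mul := fun x hx y hy => by
        rw [dif_pos hx, dif_pos hy, dif_pos (S.mul_mem hx hy)]
        exact congrArg Subtype.val (map_mul α ⟨x, hx⟩ ⟨y, hy⟩) }
  have hθ : ∀ x : S, S.subtype.comp α.toMonoidHom x = e.f x := fun x => by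
    show ((α x : S) : Ω) = if h : (x : Ω) ∈ S then ((α ⟨x, h⟩ : S) : Ω) else 1
    rw [dif_pos x.2]
  have hθ' : ∀ x : S, S.subtype.comp α.symm.toMonoidHom x = e.symm.f x := fun x => by
    show ((α.symm x : S) : Ω) = if h : (x : Ω) ∈ S then ((α.symm ⟨x, h⟩ : S) : Ω) else 1
    rw [dif_pos x.2]
  have hFF : CfsgLib.FusionTransport.Rel e F F :=
    ⟨le_rfl, e.img_self, fun hk => CfsgLib.FusionNormal.LayerTransport.fwd_of_morphism e hθ hα hk,
      fun hk => CfsgLib.FusionNormal.LayerTransport.fwd_of_morphism e.symm hθ' hα' hk⟩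
  obtain ⟨hT, hmap⟩ := CfsgLib.FusionNormal.LayerTransport.layer_invariant hS hFF hE
  have hTS : T ≤ S := hE.1.1.2.2.2.1.1
  refine ⟨by rw [CfsgLib.FusionNormal.LayerTransport.imageAlong_eq e hθ hTS]; exact hT, ?_⟩
  intro P φ hφ φ' hind
  obtain ⟨hPS, hφS, hP', hi⟩ := hind
  obtain ⟨k, hk, hke⟩ := CfsgLib.FusionNormal.mapFn_of_hom hφ
  have h1 := hmap hk
  rw [← CfsgLib.FusionNormal.LayerTransport.imageAlong_eq e hθ hPS] at h1
  refine h1.mem fun y => ?_
  obtain ⟨x, hx, hxy⟩ := y.2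
  have h2 := hi ⟨x, hx⟩
  have hy : y = ⟨_, hP' ⟨x, hx⟩⟩ := Subtype.ext hxy.symm
  have hxf : e.f x = (y : Ω) := (hθ x).symm.trans hxy
  have hgy : e.g y = x := by rw [← hxf]; exact e.gf x x.2
  show φ' y = e.f (k (e.g y))
  rw [hgy, ← hke ⟨x, hx⟩, hy, h2]
  exact hθ ⟨φ ⟨x, hx⟩, hφS _⟩

end Cfsg.Agent.S5311
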