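import Cfsg.Statements.S5319
import Cfsg.Agent.Lib.TwoGroups.RankTwoFusionSimple
import Cfsg.Agent.Lib.TwoGroups.PSUThreeSylow
import Cfsg.Agent.Lib.ClassicalGroups.UnitarySimple
import Cfsg.Agent.S1218

set_option autoImplicit false
open Cfsg

namespace Cfsg.Agent.S5319

/-- Let q be an odd prime power and F a field with q² elements. Then the 2-fusion system of PSU(3,q) (realised as the special unitary group of the standard Hermitian form over F modulo its centre) on a Sylow 2-subgroup is simple. -/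
theorem result {F : Type*} [Field F] [Fintype F] (q : ℕ) (hq : Fintype.card F = q ^ 2) (hodd : q % 2 = 1) (S : Sylow 2 (Cfsg.PSU 3 F q)) :
    (Cfsg.groupFusionSystem (S : Subgroup (Cfsg.PSU 3 F q))).IsSimple 2 := by
  classical
  have hodd' : Odd q := Nat.odd_iff.2 hodd
  obtain ⟨P, ⟨e⟩⟩ := CfsgLib.TwoGroups.PSUThree.exists_iso hq hodd' S
  have hS : Cfsg.IsQuasiDihedral (S : Subgroup (Cfsg.PSU 3 F q)) ∨
      Cfsg.IsWreathed (S : Subgroup (Cfsg.PSU 3 F q)) := by
    rcases (show q % 4 = 1 ∨ q % 4 = 3 by omega) with h | h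
    · exact Or.inl (CfsgLib.TwoGroups.PSUThree.isQuasiDihedral_congr e
        ((Cfsg.Agent.S1218.result q hq hodd' P).1 h))
    · exact Or.inr (CfsgLib.TwoGroups.PSUThree.isWreathed_congr e
        ((Cfsg.Agent.S1218.result q hq hodd' P).2 h))
  refine CfsgLib.TwoGroups.RankTwoFusion.isSimple S hS fun H hH => ?_
  have := CfsgLib.ClassicalGroups.psu_isSimpleGroup (n := 3) hq le_rfl (by omega)
  rcases (Subgroup.normal_of_index_eq_two hH).eq_bot_or_eq_top with h | h
  · rw [h, Subgroup.index_bot] at hH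
    have hc : Nat.card (S : Subgroup (Cfsg.PSU 3 F q)) ∣ 2 :=
      (Subgroup.card_subgroup_dvd_card _).trans (dvd_of_eq hH)
    have h2 := Nat.le_of_dvd two_pos hc
    rcases hS with ⟨n, hn, hcard, -⟩ | ⟨n, hn, hcard, -⟩
    · have : 2 ^ 4 ≤ 2 ^ (n + 1) := Nat.pow_le_pow_right two_pos (by omega)
      omega
    · have : 2 ^ 5 ≤ 2 ^ (2 * n + 1) := Nat.pow_le_pow_right two_pos (by omega)
      omega
  · rw [h, Subgroup.index_top] at hH
    omega

end Cfsg.Agent.S5319
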