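import Cfsg.Statements.S5321
import Cfsg.Agent.Lib.Fusion68.HallJankoTwo
import Cfsg.Agent.Lib.Icosian.Model

set_option autoImplicit false
open Cfsg

namespace Cfsg.Agent.S5321

/-- For a finite group G isomorphic to the Hall–Janko group J₂ (as constructed in the problem's definitions), the 2-fusion system of G on a Sylow 2-subgroup is simple: saturated, over a nontrivial 2-group, with no normal subsystem other than the trivial one and itself. -/
theorem result {G : Type*} [Group G] [Finite G] (hG : Cfsg.Spor.IsoJ2 G) (S : Sylow 2 G) : (Cfsg.groupFusionSystem (S : Subgroup G)).IsSimple 2 := by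
  obtain ⟨e⟩ := hG
  let f := e.trans CfsgLib.Icosian.toHJ
  refine CfsgLib.Fusion68.HallJankoTwo.isSimple
    ((CfsgLib.Sporadic.PermCode.emb.comp CfsgLib.Sporadic.HallJanko.grp.subtype).comp f.toMonoidHom)
    ?_ ?_ ((Nat.card_congr f.toEquiv).trans CfsgLib.Sporadic.HallJanko.card_grp) S
  · exact (CfsgLib.Sporadic.PermCode.hemb.comp Subtype.val_injective).comp f.injective
  · intro c hc
    obtain ⟨g, hg, hge⟩ := CfsgLib.Sporadic.HallJanko.gens_mem c hc
    exact ⟨f.symm ⟨g, hg⟩, Subgroup.mem_top _, by simpa using hge⟩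

end Cfsg.Agent.S5321
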