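import Cfsg.Statements.S5326
import Cfsg.Agent.Lib.FusionNormal.Embedded

set_option autoImplicit false
open Cfsg Cfsg.FusionSystem CfsgLib.Fusion CfsgLib.FusionNormal

namespace Cfsg.Agent.S5326

/-- Let F be a saturated fusion system over a finite p-group S and Q an essential subgroup. Then the F-conjugacy class of Q cannot be left out of a generating family: there is a fusion system E over S whose automorphism group of every subgroup R ≤ S not F-conjugate to Q contains Aut_F(R), and yet E does not contain every map of F. -/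
theorem result {Ω : Type*} [Group Ω] {S : Subgroup Ω} [Finite S] (p : ℕ) [Fact p.Prime] (hS : IsPGroup p S) (F : Cfsg.FusionSystem S) (hF : F.IsSaturated p) (Q : Subgroup Ω) (hQ : F.IsEssential p Q) : ∃ E : Cfsg.FusionSystem S, (∀ R : Subgroup Ω, R ≤ S → ¬ F.IsConj Q R → F.autGroup R ≤ E.autGroup R) ∧ ¬ F ≤ E := by
  obtain ⟨hQc, hQn, hInn, Y, hdvd, hYne, P₀, hY⟩ := hQ
  have hQS := hQc.1
  haveI := finite_mulAut hQS
  let π := QuotientGroup.mk' ((Cfsg.Inn ↥Q).subgroupOf (F.autGroup Q))
  obtain ⟨T, hT⟩ := (fullyNormalized_good hS hF hQn).1.2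
  let P₁ : Sylow p _ := T.mapSurjective (QuotientGroup.mk'_surjective _ : Function.Surjective π)
  obtain ⟨c, hc⟩ := MulAction.exists_smul_eq (↥(F.autGroup Q) ⧸ (Cfsg.Inn ↥Q).subgroupOf (F.autGroup Q)) P₁ P₀
  let B : Subgroup ↥(F.autGroup Q) := Y.comap ((MulAut.conj c).toMonoidHom.comp π)
  -- `B` controls conjugation inside `Aut_S(Q)`
  have key : ∀ (a : ↥(F.autGroup Q)) (x : MulAut ↥Q) (hx : x ∈ autInducedBy S Q),
      x ∉ Cfsg.Inn ↥Q → (a : MulAut ↥Q) * x * (a : MulAut ↥Q)⁻¹ ∈ autInducedBy S Q → a ∈ B := by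
    intro a x hx hxI hax
    have hxA : x ∈ F.autGroup Q := autInducedBy_le_autGroup hQS hx
    have hmem : ∀ y : ↥(F.autGroup Q), (y : MulAut ↥Q) ∈ autInducedBy S Q →
        MulAut.conj c (π y) ∈ (P₀ : Subgroup _) := by
      intro y hy
      rw [← hc, Sylow.coe_subgroup_smul]
      refine Subgroup.smul_mem_pointwise_smul _ (MulAut.conj c) _ ⟨y, ?_, rfl⟩
      rw [hT]; exact hy
    show MulAut.conj c (π a) ∈ Y
    refine mem_of_conj_mem hY (x := MulAut.conj c (π ⟨x, hxA⟩)) (hmem _ hx) ?_ ?_
    · intro h1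
      rw [map_eq_one_iff _ (MulAut.conj c).injective, QuotientGroup.mk'_apply,
        QuotientGroup.eq_one_iff] at h1
      exact hxI h1
    · rw [← map_inv, ← map_mul, ← map_mul, ← map_inv, ← map_mul, ← map_mul]
      exact hmem _ hax
  have hQne : Q ≠ S := by
    intro hQS'
    have h1 : autInducedBy S Q ≤ Cfsg.Inn ↥Q := by
      rw [inn_eq_autInducedBy]; exact autInducedBy_mono hQS'.ge Q
    have h2 : P₁.toSubgroup = ⊥ := (Subgroup.eq_bot_iff_forall _).mpr fun y hy => by
      obtain ⟨z, hz, rfl⟩ := hy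
      rw [hT] at hz
      exact (QuotientGroup.eq_one_iff z).mpr (h1 hz)
    exact P₁.ne_bot_of_dvd_card hdvd h2
  -- automorphisms extending to a larger subgroup of the normalizer lie in `B`
  have ext_mem : ∀ (a : ↥(F.autGroup Q)) (N : Subgroup Ω) (w : Ω → Ω), Q < N → N ≤ normalizerIn S Q →
      MapFn F N w → (∀ x : Q, w x = (((a : MulAut ↥Q) x : Q) : Ω)) → a ∈ B := by
    intro a N w hlt hNQ hw hwe
    obtain ⟨g, hgN, hgQ⟩ := SetLike.exists_of_lt hlt
    obtain ⟨α, hα, hαe⟩ := exists_autInducedBy (hNQ hgN).1 (hNQ hgN).2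
    refine key a α hα (fun hI => ?_) ?_
    · obtain ⟨z, hz⟩ := mem_inn.mp hI
      refine hgQ ?_
      have hcz : (z : Ω)⁻¹ * g ∈ centralizerIn S Q := by
        refine mem_centralizerIn'.mpr ⟨S.mul_mem (S.inv_mem (hQS z.2)) (hNQ hgN).1, fun x => ?_⟩
        have h1 : g * (x : Ω) * g⁻¹ = z * x * (z : Ω)⁻¹ := by rw [← hαe x, hz x]; rfl
        calc (z : Ω)⁻¹ * g * x * ((z : Ω)⁻¹ * g)⁻¹ = (z : Ω)⁻¹ * (g * x * g⁻¹) * z := by group
          _ = x := by rw [h1]; group
      have := Q.mul_mem z.2 (hQc.2 Q (isConj_refl hQS) hcz)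
      rwa [mul_inv_cancel_left] at this
    · have hwQ : w '' Q = (Q : Set Ω) := by
        ext y
        constructor
        · rintro ⟨x, hx, rfl⟩; rw [hwe ⟨x, hx⟩]; exact ((a : MulAut ↥Q) _).2
        · intro hy
          refine ⟨((a : MulAut ↥Q).symm ⟨y, hy⟩ : Q), Subtype.prop _, ?_⟩
          rw [hwe]; simp
      refine mem_autInducedBy.mpr ⟨w g, hw.mem_S hgN, fun x => ?_⟩
      obtain ⟨x, rfl⟩ := (a : MulAut ↥Q).surjective x
      rw [MulAut.mul_apply, MulAut.mul_apply, MulAut.inv_apply, MulEquiv.symm_apply_apply,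
        ← hwe, hαe, hw.map_conj hgN (hlt.le x.2), hwe]
  -- a normalizer map onto `Q` from each conjugate
  have hnm : ∀ P : Subgroup Ω, F.IsConj Q P → ∃ u, MapFn F (normalizerIn S P) u ∧
      u '' P = (Q : Set Ω) ∧ ∀ g ∈ normalizerIn S P, u g ∈ normalizerIn S Q := fun P hP =>
    exists_normalizer_mapFn hS hF hQn (isConj_symm hP)
  let Cond : Subgroup Ω → (Ω → Ω) → Prop := fun P f =>
    ∀ (P' : Subgroup Ω) (u v : Ω → Ω) (a : ↥(F.autGroup Q)), f '' P = (P' : Set Ω) →
      MapFn F (normalizerIn S P) u → u '' P = (Q : Set Ω) →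
      MapFn F (normalizerIn S P') v → v '' P' = (Q : Set Ω) →
      (∀ x ∈ P, ∀ y : Q, (y : Ω) = u x → (((a : MulAut ↥Q) y : Q) : Ω) = v (f x)) → a ∈ B
  -- a map extending to a larger subgroup satisfies the condition
  have extend_cond : ∀ (P R : Subgroup Ω) (f : Ω → Ω), P < R → MapFn F R f → Cond P f := by
    intro P R f hlt hf P' u v a hfP hu hur hv hvr ha
    have hR : R ≤ S := hf.le_S
    have hP : P ≤ S := hlt.le.trans hR
    have hPP : P < normalizerIn R P := CfsgLib.Fusion.lt_normalizerIn hS hR hlt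
    have hN1 : normalizerIn R P ≤ normalizerIn S P := inf_le_inf_right _ hR
    obtain ⟨M, hMS, hM⟩ := (hu.mono hN1).exists_image
    obtain ⟨u', hu', hu'r, hu'₁, -⟩ := (hu.mono hN1).exists_inv hM
    have hQM : Q ≤ M := fun y hy => by
      obtain ⟨x, hx, rfl⟩ := exists_of_image hur hy
      exact mem_of_image hM (hPP.le hx)
    refine ext_mem a M (v ∘ f ∘ u') (lt_of_le_of_ne hQM fun he => ?_) (fun y hy => ?_)
      ((hu'.comp (hf.mono (inf_le_left : normalizerIn R P ≤ R)) fun y hy =>
        mem_of_image hu'r hy).comp hv fun y hy => ?_) fun y => ?_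
    · haveI := finite_of_le hR
      haveI : Finite ↥(normalizerIn R P) := finite_of_le (inf_le_left : normalizerIn R P ≤ R)
      refine hPP.ne (eq_of_le_of_card_le hPP.le (le_of_eq ?_))
      rw [← (hu.mono hN1).card_image hM, ← he, (hu.mono (hPP.le.trans hN1)).card_image hur]
    · obtain ⟨x, hx, rfl⟩ := exists_of_image hM hy
      exact hu.mem_normalizerIn (le_normalizerIn hP) hur (hN1 hx) hx.2
    · have hx := mem_of_image hu'r hy
      exact hf.mem_normalizerIn hlt.le hfP hx.1 hx.2
    · obtain ⟨x, hx, hxy⟩ := exists_of_image hur y.2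
      show v (f (u' y)) = _
      rw [ha x hx y hxy.symm, ← hxy, hu'₁ x (hPP.le hx)]
  let C : MapPred F :=
    { pred := fun P f => F.IsConj Q P → Cond P f
      congr := fun {P f g} h e hP P' u v a hg hu hur hv hvr ha =>
        h hP P' u v a (by rw [← hg]; exact Set.image_congr e) hu hur hv hvr fun x hx y hy => by
          rw [ha x hx y hy, e x hx]
      conj := fun {P g} hPS hg hP => extend_cond P S _ (lt_of_le_of_ne hPS fun h =>
          hQne (by
            haveI := finite_of_le (le_refl S)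
            exact eq_of_le_of_card_le hQS (by rw [← h, IsConj.card_eq hP])))
        (mapFn_conj le_rfl hg)
      comp := by
        intro P R f g hf hCf hg hCg hm hP P'' u v a hgf hu hur hv hvr ha
        obtain ⟨P', hP'S, hfP⟩ := hf.exists_image
        have hP'c : F.IsConj Q P' := isConj_trans hP (hf.isConj hfP)
        have hP'R : P' ≤ R := fun y hy => by
          obtain ⟨x, hx, rfl⟩ := exists_of_image hfP hy
          exact hm x hx
        have hgP : g '' P' = (P'' : Set Ω) := by rw [← hfP, ← Set.image_comp]; exact hgf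
        have hCg' : Cond P' g := by
          rcases eq_or_lt_of_le hP'R with h | h
          · subst h; exact hCg hP'c
          · exact extend_cond P' R g h hg
        obtain ⟨w, hw, hwr, -⟩ := hnm P' hP'c
        have hPN : P ≤ normalizerIn S P := le_normalizerIn hf.le_S
        obtain ⟨u', hu', hu'r, hu'₁, -⟩ := (hu.mono hPN).exists_inv hur
        obtain ⟨α, hα, hαe⟩ := ((hu'.comp hf fun y hy => mem_of_image hu'r hy).comp
          (hw.mono (le_normalizerIn hP'S)) fun y hy =>
            mem_of_image hfP (mem_of_image hu'r hy)).exists_aut (image_comp (image_comp hu'r hfP) hwr)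
        have h1 : (⟨α, hα⟩ : ↥(F.autGroup Q)) ∈ B := hCf hP P' u w _ hfP hu hur hw hwr
          fun x hx y hy => by
            rw [hαe]
            show w (f (u' y)) = w (f x)
            rw [hy, hu'₁ x hx]
        have h2 : a * (⟨α, hα⟩ : ↥(F.autGroup Q))⁻¹ ∈ B := hCg' P'' w v _ hgP hw hwr hv hvr
          fun x hx y hy => by
            obtain ⟨x₀, hx₀, rfl⟩ := exists_of_image hfP hx
            obtain ⟨z, rfl⟩ := α.surjective y
            show (((a : MulAut ↥Q) (α⁻¹ (α z)) : Q) : Ω) = _
            rw [MulAut.inv_apply, MulEquiv.symm_apply_apply]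
            refine ha x₀ hx₀ z ?_
            rw [hαe] at hy
            change w (f (u' z)) = w (f x₀) at hy
            have hzm : u' z ∈ P := mem_of_image hu'r z.2
            have h5 := (hw.mono (le_normalizerIn hP'S)).injOn (mem_of_image hfP hzm) (mem_of_image hfP hx₀) hy
            have h6 := hf.injOn hzm hx₀ h5
            obtain ⟨x₁, hx₁, hx₁z⟩ := exists_of_image hur z.2
            rw [← hx₁z, hu'₁ x₁ hx₁] at h6
            rw [← hx₁z, h6]
        have := B.mul_mem h2 h1
        rwa [inv_mul_cancel_right] at this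
      inv := by
        intro P P' f g hf hCf hfr hg hinv hP' P'' u v a hgr hu hur hv hvr ha
        have hP : F.IsConj Q P := isConj_trans hP' (isConj_symm (hf.isConj hfr))
        have hgP : g '' P' = (P : Set Ω) := by
          ext y
          constructor
          · rintro ⟨x, hx, rfl⟩
            obtain ⟨x₀, hx₀, rfl⟩ := exists_of_image hfr hx
            rw [hinv x₀ hx₀]; exact hx₀
          · exact fun hy => ⟨f y, mem_of_image hfr hy, hinv y hy⟩
        obtain rfl : P'' = P := SetLike.coe_injective (hgr.symm.trans hgP)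
        have h1 : a⁻¹ ∈ B := hCf hP P' v u _ hfr hv hvr hu hur fun x hx y hy => by
          obtain ⟨z, rfl⟩ := (a : MulAut ↥Q).surjective y
          show ((((a : MulAut ↥Q))⁻¹ ((a : MulAut ↥Q) z) : Q) : Ω) = _
          rw [MulAut.inv_apply, MulEquiv.symm_apply_apply]
          obtain ⟨x₁, hx₁, hx₁z⟩ := exists_of_image hur z.2
          have h2 := ha x₁ hx₁ z hx₁z.symm
          rw [hy] at h2
          have h3 := (hv.mono (le_normalizerIn hf.le_S)).injOn hx (mem_of_image hgP hx₁) h2
          obtain ⟨x₂, hx₂, rfl⟩ := exists_of_image hfr hx₁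
          rw [hinv x₂ hx₂] at h3
          rw [← hx₁z, h3]
        simpa using B.inv_mem h1 }
  refine ⟨C.sub, fun R hR hRQ => C.le_autGroup hR fun f _ hc => absurd hc hRQ, fun hle => ?_⟩
  obtain ⟨a, ha⟩ : ∃ a, a ∉ B := by
    by_contra h
    push Not at h
    refine hYne ((Subgroup.eq_top_iff' _).mpr fun y => ?_)
    obtain ⟨z, hz⟩ := QuotientGroup.mk'_surjective ((Cfsg.Inn ↥Q).subgroupOf (F.autGroup Q))
      ((MulAut.conj c).symm y)
    have h1 : MulAut.conj c (π z) ∈ Y := h z
    rwa [show π z = (MulAut.conj c).symm y from hz, MulEquiv.apply_symm_apply] at h1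
  obtain ⟨f, hf, hfr, hfe⟩ := exists_mapFn_of_aut hQS a.2
  refine ha ((C.mapFn_sub.mp (mapFn_of_le hle hf)).2 (isConj_refl hQS) Q id id a hfr
    (mapFn_id normalizerIn_le) (Set.image_id _) (mapFn_id normalizerIn_le) (Set.image_id _) ?_)
  intro x hx y hy
  rw [show id (f x) = f x from rfl, show x = (y : Ω) from hy.symm, hfe y]

end Cfsg.Agent.S5326
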