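import Cfsg.Statements.S5327
import Cfsg.Agent.Lib.FusionNormal.Build

set_option autoImplicit false
open Cfsg Cfsg.FusionSystem CfsgLib.Fusion CfsgLib.FusionNormal

namespace Cfsg.Agent.S5327

/-- Let F be a saturated fusion system over a finite p-group S. Call a family of subgroups of S generating when every fusion system over S whose automorphism group of each member R contains Aut_F(R) contains every map of F. If two families are each closed under F-conjugacy and each generating, then their intersection is generating. -/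
theorem result {Ω : Type*} [Group Ω] {S : Subgroup Ω} [Finite S] (p : ℕ) [Fact p.Prime] (hS : IsPGroup p S) (F : Cfsg.FusionSystem S) (hF : F.IsSaturated p) (𝒬₁ 𝒬₂ : Set (Subgroup Ω)) (h₁ : ∀ R ∈ 𝒬₁, ∀ R' : Subgroup Ω, F.IsConj R R' → R' ∈ 𝒬₁) (h₂ : ∀ R ∈ 𝒬₂, ∀ R' : Subgroup Ω, F.IsConj R R' → R' ∈ 𝒬₂) (hg₁ : ∀ E : Cfsg.FusionSystem S, (∀ R ∈ 𝒬₁, F.autGroup R ≤ E.autGroup R) → F ≤ E) (hg₂ : ∀ E : Cfsg.FusionSystem S, (∀ R ∈ 𝒬₂, F.autGroup R ≤ E.autGroup R) → F ≤ E) (E : Cfsg.FusionSystem S) (hE : ∀ R ∈ 𝒬₁ ∩ 𝒬₂, F.autGroup R ≤ E.autGroup R) : F ≤ E := by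
  suffices h : ∀ (n : ℕ) (P : Subgroup Ω), Nat.card S - Nat.card P < n → P ≤ S →
      ∀ f, MapFn F P f → MapFn E P f by
    intro P φ hφ
    obtain ⟨f, hf, he⟩ := mapFn_of_hom hφ
    exact (h _ P (Nat.lt_succ_self _) hf.le_S f hf).mem he
  intro n
  induction n with
  | zero => intro P h; omega
  | succ n ih =>
  intro P hn hPS f hf
  -- maps with strictly larger source are maps of `E`
  have big : ∀ R : Subgroup Ω, R ≤ S → Nat.card P < Nat.card R → ∀ g, MapFn F R g → MapFn E R g := by
    intro R hR hc g hg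
    have : Nat.card R ≤ Nat.card S :=
      card_le_of_map (subtype_mem (F := F) hR) le_rfl fun x => hR x.2
    exact ih R (by omega) hR g hg
  -- the key auxiliary system
  have aux : ∀ 𝒬 : Set (Subgroup Ω),
      (∀ R ∈ 𝒬, ∀ R' : Subgroup Ω, F.IsConj R R' → R' ∈ 𝒬) →
      (∀ E : Cfsg.FusionSystem S, (∀ R ∈ 𝒬, F.autGroup R ≤ E.autGroup R) → F ≤ E) →
      P ∉ 𝒬 → MapFn E P f := by
    intro 𝒬 hcl hgen hP
    let C : MapPred F :=
      { pred := fun R g => F.IsConj P R → MapFn E R g
        congr := fun h e hc => (h hc).congr e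
        conj := fun hR hg _ => mapFn_conj hR hg
        comp := by
          intro R R' g g' hg hEg hg' hEg' hm hc
          obtain ⟨T, hTS, hT⟩ := hg.exists_image
          have hPT : F.IsConj P T := isConj_trans hc (hg.isConj hT)
          have hTR' : T ≤ R' := fun y hy => by
            obtain ⟨x, hx, rfl⟩ := exists_of_image hT hy
            exact hm x hx
          have hT' : MapFn E T g' := by
            haveI := finite_of_le hg'.le_S
            by_cases hlt : Nat.card P < Nat.card R'
            · exact (big R' hg'.le_S hlt g' hg').mono hTR'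
            · have hTeq : T = R' := eq_of_le_of_card_le hTR' (by rw [IsConj.card_eq hPT]; omega)
              subst hTeq
              exact hEg' hPT
          exact (hEg hc).comp hT' fun x hx => mem_of_image hT hx
        inv := by
          intro R T g k hg hEg hr hk hinv hc
          obtain ⟨k', hk', -, hk'₁, -⟩ := (hEg (isConj_trans hc (isConj_symm (hg.isConj hr)))).exists_inv hr
          exact hk'.congr fun y hy => by
            obtain ⟨x, hx, rfl⟩ := exists_of_image hr hy
            rw [hinv x hx, hk'₁ x hx] }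
    have hFC : F ≤ C.sub := hgen _ fun R hR => by
      by_cases hRS : R ≤ S
      · exact C.le_autGroup hRS fun g _ hc => absurd (hcl R hR P (isConj_symm hc)) hP
      · rw [autGroup_eq_bot_of_not_le hRS]; exact bot_le
    exact (C.mapFn_sub.mp (mapFn_of_le hFC hf)).2 (isConj_refl hPS)
  by_cases h1 : P ∈ 𝒬₁
  · by_cases h2 : P ∈ 𝒬₂
    · -- both contain the class of `P`
      obtain ⟨T, hTS, hT⟩ := hf.exists_image
      by_cases hPeq : P = S
      · obtain ⟨α, hα, hαe⟩ := hf.exists_aut (hf.image_eq_of_maps hPS (fun x hx => by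
          rw [hPeq]; exact hf.mem_S hx) le_rfl)
        obtain ⟨g, hg, -, hge⟩ := exists_mapFn_of_aut hPS (hE P ⟨h1, h2⟩ hα)
        exact hg.congr fun x hx => (hge ⟨x, hx⟩).trans (hαe ⟨x, hx⟩)
      obtain ⟨Q, u, hQn, hu, hur, -⟩ := exists_fullyNormalized_mapFn hS hF hPS
      have hPN : P ≤ normalizerIn S P := le_normalizerIn hPS
      have hPQ : F.IsConj P Q := (hu.mono hPN).isConj hur
      have hTQ : F.IsConj T Q := isConj_trans (isConj_symm (hf.isConj hT)) hPQ
      obtain ⟨v, hv, hvr, -⟩ := exists_normalizer_mapFn hS hF hQn hTQ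
      have hTN : T ≤ normalizerIn S T := le_normalizerIn hTS
      have hTne : T ≠ S := fun h => hPeq (by
        haveI := finite_of_le (le_refl S)
        exact eq_of_le_of_card_le hPS (by rw [← h, hf.card_image hT]))
      have hlt : ∀ R : Subgroup Ω, R ≤ S → R ≠ S → Nat.card P = Nat.card R →
          Nat.card P < Nat.card (normalizerIn S R) := by
        intro R hR hne he
        have := finite_of_le (normalizerIn_le (S := S) (P := R))
        refine lt_of_not_ge fun hle => (lt_normalizerIn' hS hR hne).ne ?_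
        exact eq_of_le_of_card_le (le_normalizerIn hR) (he ▸ hle)
      have huE : MapFn E (normalizerIn S P) u := big _ normalizerIn_le (hlt P hPS hPeq rfl) u hu
      have hvE : MapFn E (normalizerIn S T) v :=
        big _ normalizerIn_le (hlt T hTS hTne (hf.card_image hT).symm) v hv
      obtain ⟨u', hu', hu'r, hu'₁, -⟩ := (hu.mono hPN).exists_inv hur
      have hw : MapFn F Q (v ∘ f ∘ u') :=
        (hu'.comp hf fun y hy => mem_of_image hu'r hy).comp (hv.mono hTN) fun y hy =>
          mem_of_image hT (mem_of_image hu'r hy)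
      have hwr : (v ∘ f ∘ u') '' Q = (Q : Set Ω) := image_comp (image_comp hu'r hT) hvr
      obtain ⟨α, hα, hαe⟩ := hw.exists_aut hwr
      obtain ⟨a, ha, har, hae⟩ := exists_mapFn_of_aut hQn.1
        (hE Q ⟨h₁ P h1 Q hPQ, h₂ P h2 Q hPQ⟩ hα)
      obtain ⟨v', hv', hv'r, hv'₁, -⟩ := (hvE.mono hTN).exists_inv hvr
      refine (((huE.mono hPN).comp ha fun x hx => mem_of_image hur hx).comp hv' fun x hx =>
        mem_of_image har (mem_of_image hur hx)).congr fun x hx => ?_
      show v' (a (u x)) = f x
      rw [hae ⟨u x, mem_of_image hur hx⟩, hαe]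
      show v' (v (f (u' (u x)))) = f x
      rw [hu'₁ x hx, hv'₁ (f x) (mem_of_image hT hx)]
    · exact aux 𝒬₂ h₂ hg₂ h2
  · exact aux 𝒬₁ h₁ hg₁ h1

end Cfsg.Agent.S5327
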