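import Cfsg.Statements.S5333
import Cfsg.Agent.Lib.FusionNormal.Alperin
import Cfsg.Agent.Lib.Fusion.ExtSystem

set_option autoImplicit false
open Cfsg Cfsg.FusionSystem CfsgLib.Fusion CfsgLib.FusionNormal

namespace Cfsg.Agent.S5333

/-- Let F′ ≤ F be saturated fusion systems over the same finite p-group S. Suppose that for every subgroup Z ≤ S of order p that is fully centralized in F′, the maps of F and of F′ with source Z coincide and the centralizer systems C_F(Z) and C_{F′}(Z) coincide. Then F = F′. -/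
theorem result {Ω : Type*} [Group Ω] {S : Subgroup Ω} [Finite S] (p : ℕ) [Fact p.Prime] (hS : IsPGroup p S) (F : Cfsg.FusionSystem S) (hF : F.IsSaturated p) (F' : Cfsg.FusionSystem S) (hF' : F'.IsSaturated p) (hle : F' ≤ F) (hZ : ∀ Z : Subgroup Ω, Z ≤ S → Nat.card Z = p → F'.IsFullyCentralized Z → F.Hom Z = F'.Hom Z ∧ ∀ (C C' : Cfsg.FusionSystem (Cfsg.FusionSystem.centralizerIn S Z)), F.IsCentralizerSystem Z C → F'.IsCentralizerSystem Z C' → ∀ P : Subgroup Ω, C.Hom P = C'.Hom P) (P : Subgroup Ω) : F.Hom P = F'.Hom P := by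
  have hle' : ∀ (R : Subgroup Ω) f, MapFn F' R f → MapFn F R f :=
    fun R => hom_subset_iff_mapFn.mp (hle R)
  suffices h : ∀ f, MapFn F P f → MapFn F' P f from
    hom_eq_iff_mapFn.mpr fun f => ⟨h f, hle' P f⟩
  intro f hf
  have hPS := hf.le_S
  haveI := finite_of_le hPS
  by_cases hP1 : P = ⊥
  · subst hP1
    refine (mapFn_id bot_le).congr fun x hx => ?_
    rw [Subgroup.mem_bot] at hx; subst hx
    exact hf.map_one.symm
  have hPp := hS.to_le hPS
  haveI : Nontrivial P := (Subgroup.nontrivial_iff_ne_bot P).mpr hP1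
  obtain ⟨k, hk⟩ := IsPGroup.iff_card.mp hPp
  haveI : Nontrivial (Subgroup.center P) :=
    (Subgroup.nontrivial_iff_ne_bot _).mpr (ne_of_gt hPp.bot_lt_center)
  obtain ⟨m, hm⟩ := IsPGroup.iff_card.mp (hPp.to_subgroup (Subgroup.center P))
  have hm0 : m ≠ 0 := fun h => Finite.one_lt_card.ne' (by rw [hm, h, pow_zero])
  obtain ⟨z, hz⟩ := exists_prime_orderOf_dvd_card' (G := Subgroup.center P) p
    (by rw [hm]; exact dvd_pow_self p hm0)
  set Z : Subgroup Ω := Subgroup.zpowers ((z : P) : Ω) with hZdef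
  have hZP : Z ≤ P := Subgroup.zpowers_le.mpr (z : P).2
  have hZcard : Nat.card Z = p := by
    rw [hZdef, Nat.card_zpowers, Subgroup.orderOf_coe, Subgroup.orderOf_coe, hz]
  have hPC : P ≤ centralizerIn S Z := fun y hy => by
    refine mem_centralizerIn.mpr ⟨hPS hy, fun w hw => ?_⟩
    obtain ⟨n, rfl⟩ := Subgroup.mem_zpowers_iff.mp hw
    have h1 : y * ((z : P) : Ω) = ((z : P) : Ω) * y :=
      congrArg Subtype.val (Subgroup.mem_center_iff.mp z.2 ⟨y, hy⟩)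
    exact (Commute.zpow_right h1 n).symm.eq
  -- maps out of conjugates of order `p` agree
  have hord : ∀ W : Subgroup Ω, W ≤ S → Nat.card W = p → ∀ g, MapFn F W g → MapFn F' W g := by
    intro W hW hWc g hg
    obtain ⟨W₀, hW₀, hn⟩ := exists_fullyNormalized (F := F') hW
    have hc₀ := isFullyCentralized_of_fullyNormalized hS hF' hn
    have heq := (hZ W₀ hn.1 (by rw [IsConj.card_eq hW₀, hWc]) hc₀).1
    obtain ⟨u, hu, hur⟩ := isConj_iff.mp hW₀
    obtain ⟨u', hu', hu'r, hu'₁, -⟩ := hu.exists_inv hur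
    have h1 : MapFn F' W₀ (g ∘ u') :=
      (hom_eq_iff_mapFn.mp heq _).mp ((hle' _ _ hu').comp hg fun y hy => mem_of_image hu'r hy)
    exact (hu.comp h1 fun x hx => mem_of_image hur hx).congr fun x hx => congrArg g (hu'₁ x hx)
  -- a fully centralized conjugate of `Z`
  obtain ⟨Z₀, hZ₀, hn⟩ := exists_fullyNormalized (F := F') (hZP.trans hPS)
  have hc₀ := isFullyCentralized_of_fullyNormalized hS hF' hn
  have hZ₀c : Nat.card Z₀ = p := by rw [IsConj.card_eq hZ₀, hZcard]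
  obtain ⟨b, hb, hbr⟩ := isConj_iff.mp hZ₀
  obtain ⟨Z₁, hZ₁S, hZ₁⟩ := (hf.mono hZP).exists_image
  have hfZ : MapFn F' Z f := hord Z (hZP.trans hPS) hZcard f (hf.mono hZP)
  obtain ⟨fi, hfi, hfir, hfi₁, -⟩ := hfZ.exists_inv hZ₁
  have hb₁ : MapFn F' Z₁ (b ∘ fi) := hfi.comp hb fun y hy => mem_of_image hfir hy
  have hb₁r : (b ∘ fi) '' Z₁ = (Z₀ : Set Ω) := image_comp hfir hbr
  obtain ⟨B, hB, hBe⟩ := hb.extend_centralizer hS hF' hc₀ hbr
  obtain ⟨B₁, hB₁, hB₁e⟩ := hb₁.extend_centralizer hS hF' hc₀ hb₁r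
  have hPB : P ≤ Z ⊔ centralizerIn S Z := hPC.trans le_sup_right
  obtain ⟨P₁, hP₁S, hP₁⟩ := hf.exists_image
  have hP₁C : P₁ ≤ centralizerIn S Z₁ := fun y hy => by
    obtain ⟨x, hx, rfl⟩ := exists_of_image hP₁ hy
    exact hf.mem_centralizerIn hZP hZ₁ hx (hPC hx)
  have hP₁B : P₁ ≤ Z₁ ⊔ centralizerIn S Z₁ := hP₁C.trans le_sup_right
  obtain ⟨R, hRS, hR⟩ := (hB.mono hPB).exists_image
  obtain ⟨Bi, hBi, hBir, hBi₁, -⟩ := (hB.mono hPB).exists_inv hR
  have hBr : B '' Z = (Z₀ : Set Ω) := by rw [← hbr]; exact Set.image_congr fun y hy => hBe y hy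
  have hB₁r : B₁ '' Z₁ = (Z₀ : Set Ω) := by rw [← hb₁r]; exact Set.image_congr fun y hy => hB₁e y hy
  have hRC : R ≤ centralizerIn S Z₀ := fun y hy => by
    obtain ⟨x, hx, rfl⟩ := exists_of_image hR hy
    exact hB.mem_centralizerIn le_sup_left hBr (hPB hx) (hPC hx)
  have hZ₀R : Z₀ ≤ R := fun y hy => by
    obtain ⟨x, hx, rfl⟩ := exists_of_image hBr hy
    exact mem_of_image hR (hZP hx)
  set w := B₁ ∘ f ∘ Bi with hwdef
  have hw : MapFn F R w := ((hle' _ _ hBi).comp hf fun y hy => mem_of_image hBir hy).comp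
    (hle' _ _ (hB₁.mono hP₁B)) fun y hy => mem_of_image hP₁ (mem_of_image hBir hy)
  have hwfix : ∀ y ∈ Z₀, w y = y := by
    intro y hy
    obtain ⟨x, hx, rfl⟩ := exists_of_image hBr hy
    show B₁ (f (Bi (B x))) = B x
    rw [hBi₁ x (hZP hx), hB₁e _ (mem_of_image hZ₁ hx), hBe x hx]
    show b (fi (f x)) = b x
    rw [hfi₁ x hx]
  have hwC : ∀ y ∈ R, w y ∈ centralizerIn S Z₀ := fun y hy =>
    hB₁.mem_centralizerIn le_sup_left hB₁r (hP₁B (mem_of_image hP₁ (mem_of_image hBir hy)))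
      (hP₁C (mem_of_image hP₁ (mem_of_image hBir hy)))
  -- compare the centralizer systems
  let C : Cfsg.FusionSystem (centralizerIn S Z₀) :=
    extSystem F hn.1 ⊥ (centralizerIn S Z₀) isKNormalizer_bot
  let C' : Cfsg.FusionSystem (centralizerIn S Z₀) :=
    extSystem F' hn.1 ⊥ (centralizerIn S Z₀) isKNormalizer_bot
  have hCC' := (hZ Z₀ hn.1 hZ₀c hc₀).2 C C' (fun P => extHom_bot F Z₀ P)
    (fun P => extHom_bot F' Z₀ P) R
  obtain ⟨χ, hχ, hχe⟩ := hw
  have hRR : R ⊔ Z₀ = R := sup_eq_left.mpr hZ₀R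
  obtain ⟨ψ, hψ, hψe⟩ := MapFn.mono (F := F) (f := w) ⟨χ, hχ, hχe⟩ hRR.le
  have hmemC : χ ∈ C.Hom R := by
    rw [show C.Hom R = F.centralizerHom Z₀ R from extHom_bot F Z₀ R]
    exact ⟨hχ, hRC, fun x => by rw [hχe]; exact hwC x x.2, ψ, hψ,
      fun x => by rw [hψe, hχe]; rfl, fun x => by rw [hψe]; exact hwfix x x.2⟩
  rw [hCC', show C'.Hom R = F'.centralizerHom Z₀ R from extHom_bot F' Z₀ R] at hmemC
  have hw' : MapFn F' R w := ⟨χ, hmemC.1, hχe⟩
  obtain ⟨M, hMS, hM⟩ := (hB₁.mono hP₁B).exists_image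
  obtain ⟨B₁i, hB₁i, -, hB₁i₁, -⟩ := (hB₁.mono hP₁B).exists_inv hM
  refine (((hB.mono hPB).comp hw' fun x hx => mem_of_image hR hx).comp hB₁i fun x hx => ?_).congr
    fun x hx => ?_
  · show B₁ (f (Bi (B x))) ∈ M
    rw [hBi₁ x hx]; exact mem_of_image hM (mem_of_image hP₁ hx)
  · show B₁i (B₁ (f (Bi (B x)))) = f x
    rw [hBi₁ x hx, hB₁i₁ _ (mem_of_image hP₁ hx)]

end Cfsg.Agent.S5333
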