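import Cfsg.Statements.S5334
import Cfsg.Agent.Lib.FusionNormal.Centric

set_option autoImplicit false
open Cfsg Cfsg.FusionSystem CfsgLib.Fusion CfsgLib.FusionNormal

namespace Cfsg.Agent.S5334

/-- Let F′ ≤ F be saturated fusion systems over the same finite p-group S, let Q and R be F-centric subgroups, φ a map of F with source Q and values in R, and ψ a map of F with source R. If two of φ, ψ and the composite ψ ∘ φ are maps of F′ then so is the third. -/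
theorem result {Ω : Type*} [Group Ω] {S : Subgroup Ω} [Finite S] (p : ℕ) [Fact p.Prime] (hS : IsPGroup p S) (F : Cfsg.FusionSystem S) (hF : F.IsSaturated p) (F' : Cfsg.FusionSystem S) (hF' : F'.IsSaturated p) (hle : F' ≤ F) (Q R : Subgroup Ω) (hQ : F.IsCentric Q) (hR : F.IsCentric R) (φ : ↥Q →* Ω) (hφ : φ ∈ F.Hom Q) (hφR : ∀ x : Q, φ x ∈ R) (ψ : ↥R →* Ω) (hψ : ψ ∈ F.Hom R) : (φ ∈ F'.Hom Q → ψ ∈ F'.Hom R → ψ.comp (φ.codRestrict R hφR) ∈ F'.Hom Q) ∧ (ψ ∈ F'.Hom R → ψ.comp (φ.codRestrict R hφR) ∈ F'.Hom Q → φ ∈ F'.Hom Q) ∧ (φ ∈ F'.Hom Q → ψ.comp (φ.codRestrict R hφR) ∈ F'.Hom Q → ψ ∈ F'.Hom R) := by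
  have hle' : ∀ (P : Subgroup Ω) g, MapFn F' P g → MapFn F P g :=
    fun P => hom_subset_iff_mapFn.mp (hle P)
  obtain ⟨f, hf, hfe⟩ := mapFn_of_hom hφ
  obtain ⟨g, hg, hge⟩ := mapFn_of_hom hψ
  have hfR : ∀ x ∈ Q, f x ∈ R := fun x hx => by rw [← hfe ⟨x, hx⟩]; exact hφR _
  have hce : ∀ x : Q, ψ.comp (φ.codRestrict R hφR) x = (g ∘ f) x := fun x => by
    show ψ ⟨φ x, _⟩ = g (f x)
    rw [hge, ← hfe]
  have e1 : φ ∈ F'.Hom Q ↔ MapFn F' Q f := ⟨fun h => ⟨φ, h, hfe⟩, fun h => h.mem hfe⟩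
  have e2 : ψ ∈ F'.Hom R ↔ MapFn F' R g := ⟨fun h => ⟨ψ, h, hge⟩, fun h => h.mem hge⟩
  have e3 : ψ.comp (φ.codRestrict R hφR) ∈ F'.Hom Q ↔ MapFn F' Q (g ∘ f) :=
    ⟨fun h => ⟨_, h, hce⟩, fun h => h.mem hce⟩
  rw [e1, e2, e3]
  refine ⟨fun h1 h2 => h1.comp h2 hfR, fun h2 h3 => ?_, fun h1 h3 => ?_⟩
  · obtain ⟨M, hMS, hM⟩ := h2.exists_image
    obtain ⟨g', hg', -, hg'₁, -⟩ := h2.exists_inv hM
    exact (h3.comp hg' fun x hx => mem_of_image hM (hfR x hx)).congr fun x hx => hg'₁ _ (hfR x hx)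
  · obtain ⟨Q', hQ'S, hQ'⟩ := hf.exists_image
    obtain ⟨f', hf', hf'r, hf'₁, hf'₂⟩ := h1.exists_inv hQ'
    have hQ'c : F.IsCentric Q' :=
      ⟨hQ'S, fun W hW => hQ.2 W (isConj_trans (hf.isConj hQ') hW)⟩
    have hQ'R : Q' ≤ R := fun y hy => by
      obtain ⟨x, hx, rfl⟩ := exists_of_image hQ' hy
      exact hfR x hx
    refine mapFn_of_centric_restrict hS hF hF' hle hQ'c hQ'R hg
      ((hf'.comp h3 fun y hy => mem_of_image hf'r hy).congr fun y hy => ?_)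
    show g (f (f' y)) = g y
    rw [hf'₂ y hy]

end Cfsg.Agent.S5334
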