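import Cfsg.Statements.S5335
import Cfsg.Agent.Lib.FusionNormal.Centric

set_option autoImplicit false
open Cfsg Cfsg.FusionSystem CfsgLib.Fusion CfsgLib.FusionNormal

namespace Cfsg.Agent.S5335

/-- Let F′ ≤ F be saturated fusion systems over the same finite p-group S. If the maps of F and of F′ with source Q coincide for every F-centric subgroup Q that is minimal among F-centric subgroups, then F = F′. -/
theorem result {Ω : Type*} [Group Ω] {S : Subgroup Ω} [Finite S] (p : ℕ) [Fact p.Prime] (hS : IsPGroup p S) (F : Cfsg.FusionSystem S) (hF : F.IsSaturated p) (F' : Cfsg.FusionSystem S) (hF' : F'.IsSaturated p) (hle : F' ≤ F) (hmin : ∀ Q : Subgroup Ω, F.IsCentric Q → (∀ R : Subgroup Ω, R < Q → ¬ F.IsCentric R) → F.Hom Q = F'.Hom Q) (P : Subgroup Ω) : F.Hom P = F'.Hom P := by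
  have hle' : ∀ (P : Subgroup Ω) g, MapFn F' P g → MapFn F P g :=
    fun P => hom_subset_iff_mapFn.mp (hle P)
  refine hom_eq_iff_mapFn.mpr fun f => ⟨fun hf => ?_, hle' P f⟩
  refine alperin_induction hS hF (fun P f => MapFn F' P f) (fun _ h e => h.congr e)
    (fun _ h hR => h.mono hR) (fun _ h₁ _ h₂ hm => h₁.comp h₂ hm) ?_ ?_ P f hf
  · intro P R f g hf h hr hg hinv
    obtain ⟨g', hg', -, hg'₁, -⟩ := h.exists_inv hr
    exact hg'.congr fun y hy => by
      obtain ⟨x, hx, rfl⟩ := exists_of_image hr hy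
      rw [hinv x hx, hg'₁ x hx]
  · intro Q _ hc _ _ a ha _
    obtain ⟨R, hRQ, hRc, hRmin⟩ := exists_minimal_centric hc
    exact mapFn_of_centric_restrict hS hF hF' hle hRc hRQ ha
      ((hom_eq_iff_mapFn.mp (hmin R hRc hRmin) a).mp (ha.mono hRQ))

end Cfsg.Agent.S5335
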