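import Cfsg.Statements.S5336
import Cfsg.Agent.Lib.Fusion.GroupNormalSub

set_option autoImplicit false
open Cfsg

namespace Cfsg.Agent.S5336

/-- Let G be a finite group with Sylow p-subgroup S whose fusion system F_S(G) is simple. If G has no nontrivial normal subgroup of order prime to p and no proper subgroup H containing S induces the same fusion system on S as G does, then G is a simple group. -/
theorem result {G : Type*} [Group G] [Finite G] (p : ℕ) [Fact p.Prime] (S : Sylow p G) (hsimple : (Cfsg.groupFusionSystem (S : Subgroup G)).IsSimple p) (hcore : Cfsg.pPrimeCore p G = ⊥) (hmin : ∀ (H : Subgroup G) (hSH : (S : Subgroup G) ≤ H), H ≠ ⊤ → ∃ P : Subgroup G, (Cfsg.fusionSystemOfSubgroup H (S : Subgroup G) hSH).Hom P ≠ (Cfsg.groupFusionSystem (S : Subgroup G)).Hom P) : IsSimpleGroup G := by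
  obtain ⟨-, hS1, hs⟩ := hsimple
  have hne : Nontrivial G := by
    obtain ⟨x, hx, hx1⟩ := (S : Subgroup G).ne_bot_iff_exists_ne_one.mp hS1 |>.imp fun x h => And.intro x.2 h
    exact ⟨⟨(x : G), 1, fun h => hx1 (Subtype.ext h)⟩⟩
  refine ⟨fun H hH => ?_⟩
  by_contra hcon
  rw [not_or] at hcon
  obtain ⟨hbot, htop⟩ := hcon
  rcases hs _ _ (CfsgLib.Fusion.group_normal_subsystem S H) with h | ⟨h, hhom⟩
  · refine hbot (eq_bot_iff.mpr (hcore ▸ le_sSup ⟨hH, ?_⟩))
    obtain ⟨T, hT⟩ := CfsgLib.Fusion.exists_sylow_inf S H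
    have hTb : (T : Subgroup H) = ⊥ := by rw [hT, h, Subgroup.bot_subgroupOf]
    have hd := T.not_dvd_index
    rw [hTb, Subgroup.index_bot] at hd
    exact Nat.coprime_comm.mp ((Fact.out : p.Prime).coprime_iff_not_dvd.mpr hd)
  · have hSH : (S : Subgroup G) ≤ H := inf_eq_left.mp h
    obtain ⟨P, hP⟩ := hmin H hSH htop
    refine hP (Eq.trans ?_ (hhom P))
    ext φ
    show (P ≤ (S : Subgroup G) ∧ (∀ x : P, φ x ∈ (S : Subgroup G)) ∧ _) ↔
      (P ≤ (S : Subgroup G) ⊓ H ∧ (∀ x : P, φ x ∈ (S : Subgroup G) ⊓ H) ∧ _)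
    rw [h]

end Cfsg.Agent.S5336
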