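import Cfsg.Statements.S5337
import Cfsg.Agent.Lib.FusionNormal.Inner
import Cfsg.Agent.Lib.Fusion.Extend

set_option autoImplicit false
open Cfsg Cfsg.FusionSystem CfsgLib.Fusion CfsgLib.FusionNormal

namespace Cfsg.Agent.S5337

/-- Let F be a saturated fusion system over a finite abelian p-group S. Then F is simple if and only if S has order p and F is the inner system of S (whose only maps are the inclusions, S being abelian). -/
theorem result {Ω : Type*} [Group Ω] {S : Subgroup Ω} [Finite S] (p : ℕ) [Fact p.Prime] (hS : IsPGroup p S) (F : Cfsg.FusionSystem S) (hF : F.IsSaturated p) (hab : ∀ x ∈ S, ∀ y ∈ S, x * y = y * x) : F.IsSimple p ↔ (Nat.card S = p ∧ ∀ P : Subgroup Ω, F.Hom P = (Cfsg.innerFusionSystem S).Hom P) := by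
  haveI := finite_of_le (le_refl S)
  constructor
  · intro hs
    have hSn : F.IsNormal S := by
      refine CfsgLib.FusionExtend.isNormal_of_abelian hS hF CfsgLib.FusionExtend.sc_self ?_
      refine (Subgroup.commutator_eq_bot_iff_le_centralizer).mpr fun x hx => ?_
      exact Subgroup.mem_centralizer_iff.mpr fun y hy => hab y hy x hx
    have hin : ∀ P : Subgroup Ω, F.Hom P = (Cfsg.innerFusionSystem S).Hom P := fun P => by
      obtain ⟨-, h⟩ := (hs.2.2 S _ (inner_isNormalIn hS hF hSn)).resolve_left hs.2.1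
      exact (h P).symm
    refine ⟨?_, hin⟩
    haveI : Nontrivial ↥S := (Subgroup.nontrivial_iff_ne_bot S).mpr hs.2.1
    obtain ⟨a, ha⟩ := exists_prime_orderOf_dvd_card' (G := ↥S) p
      (hS.card_eq_or_dvd.resolve_left Finite.one_lt_card.ne')
    have hT : Subgroup.zpowers (a : Ω) ≤ S := Subgroup.zpowers_le.mpr a.2
    have hTn : F.IsNormal (Subgroup.zpowers (a : Ω)) := by
      refine isNormal_of_mapFn hT fun P f hf => ?_
      obtain ⟨-, g, hg, he⟩ := mapFn_inner.mp ((hom_eq_iff_mapFn.mp (hin P) f).mp hf)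
      have hid : ∀ x ∈ S, g * x * g⁻¹ = x := fun x hx => by
        rw [hab g hg x hx, mul_inv_cancel_right]
      refine ⟨id, mapFn_id (sup_le hf.le_S hT), fun x hx => ?_, Set.image_id _⟩
      rw [he x hx, hid x (hf.le_S hx)]; rfl
    rcases hs.2.2 _ _ (inner_isNormalIn hS hF hTn) with h | h
    · exfalso
      rw [Subgroup.zpowers_eq_bot] at h
      have : orderOf a = 1 := orderOf_eq_one_iff.mpr (Subtype.ext h)
      exact (Fact.out : p.Prime).one_lt.ne' (ha ▸ this)
    · conv_lhs => rw [← h.1]
      rw [Nat.card_zpowers, Subgroup.orderOf_coe, ha]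
  · rintro ⟨hc, hin⟩
    have hS1 : S ≠ ⊥ := fun h => by
      subst h
      rw [Subgroup.card_bot] at hc
      exact (Fact.out : p.Prime).one_lt.ne hc
    refine ⟨hF, hS1, fun T E hE => ?_⟩
    obtain ⟨⟨-, -, hsub, hT, -⟩, -⟩ := hE
    by_cases hT1 : T = ⊥
    · exact Or.inl hT1
    have hTS : T = S := by
      haveI := finite_of_le hT.1
      haveI : Nontrivial ↥T := (Subgroup.nontrivial_iff_ne_bot T).mpr hT1
      refine eq_of_le_of_card_le hT.1 ?_
      rcases (Nat.dvd_prime (Fact.out : p.Prime)).mp (hc ▸ Subgroup.card_dvd_of_le hT.1) with h | h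
      · exact absurd h Finite.one_lt_card.ne'
      · rw [hc, h]
    subst hTS
    exact Or.inr ⟨rfl, fun P => Set.Subset.antisymm (hsub P) ((hin P).le.trans (inner_le E P))⟩

end Cfsg.Agent.S5337
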