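import Cfsg.Statements.S5338
import Cfsg.Agent.Lib.FusionNormal.Centric

set_option autoImplicit false
open Cfsg Cfsg.FusionSystem CfsgLib.Fusion CfsgLib.FusionNormal

namespace Cfsg.Agent.S5338

/-- Let F be a saturated fusion system over a finite p-group S and F′ ≤ F a saturated subsystem over all of S that is invariant under F in the conjugation sense: for every map φ of F with source Q and every map ψ of F′ between subgroups R ≤ Q (with values in Q), the transported map φψφ⁻¹ defined on φ(R) is again a map of F′. If moreover Aut_{F′}(S) = Aut_F(S), then F′ = F. -/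
theorem result {Ω : Type*} [Group Ω] {S : Subgroup Ω} [Finite S] (p : ℕ) [Fact p.Prime] (hS : IsPGroup p S) (F : Cfsg.FusionSystem S) (hF : F.IsSaturated p) (F' : Cfsg.FusionSystem S) (hF' : F'.IsSaturated p) (hle : F' ≤ F) (hinv : ∀ (Q : Subgroup Ω) (φ : ↥Q →* Ω), φ ∈ F.Hom Q → ∀ (R : Subgroup Ω) (hRQ : R ≤ Q) (ψ : ↥R →* Ω), ψ ∈ F'.Hom R → ∀ (hψQ : ∀ x : R, ψ x ∈ Q), ∃ χ ∈ F'.Hom ((R.subgroupOf Q).map φ), ∀ (x : R) (hx : φ ⟨(x : Ω), hRQ x.2⟩ ∈ (R.subgroupOf Q).map φ), χ ⟨φ ⟨(x : Ω), hRQ x.2⟩, hx⟩ = φ ⟨ψ x, hψQ x⟩) (htop : F'.autGroup S = F.autGroup S) (P : Subgroup Ω) : F'.Hom P = F.Hom P := by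
  have hle' : ∀ (P : Subgroup Ω) g, MapFn F' P g → MapFn F P g :=
    fun P => hom_subset_iff_mapFn.mp (hle P)
  refine hom_eq_iff_mapFn.mpr fun f => ⟨hle' P f, ?_⟩
  refine mapFn_of_normal_automizers hS hF hle htop.ge ?_ P f
  intro Q hn _ _ a ha b hb
  obtain ⟨φ, hφ, -, hφe⟩ := exists_map_of_mem_autGroup hn.1 ha
  obtain ⟨ψ, hψ, -, hψe⟩ := exists_map_of_mem_autGroup hn.1 hb
  have hψQ : ∀ x : Q, ψ x ∈ Q := fun x => by rw [hψe]; exact Subtype.mem _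
  obtain ⟨χ, hχ, hχe⟩ := hinv Q φ hφ Q le_rfl ψ hψ hψQ
  have hmap : ∀ y : Q, (y : Ω) ∈ (Q.subgroupOf Q).map φ := fun y =>
    ⟨a⁻¹ y, (a⁻¹ y).2, by rw [hφe]; simp⟩
  refine (mem_autGroup hn.1).mpr (restrict_of (fun y hy => hmap ⟨y, hy⟩) hχ fun y => ?_)
  obtain ⟨x, rfl⟩ := a.surjective y
  have e2 : φ ⟨ψ x, hψQ x⟩ = ((a (b x) : Q) : Ω) := by
    rw [hφe]
    exact congrArg (fun z => ((a z : Q) : Ω)) (Subtype.ext (hψe x))
  have e3 := hχe x ⟨x, x.2, rfl⟩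
  rw [e2] at e3
  show ((a (b (a⁻¹ (a x))) : Q) : Ω) = χ ⟨((a x : Q) : Ω), _⟩
  rw [MulAut.inv_apply_self, ← e3]
  exact apply_eq_of_coe_eq (hφe x)

end Cfsg.Agent.S5338
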