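import Cfsg.Statements.S5341
import Cfsg.Agent.Lib.FusionNormal.Alperin

set_option autoImplicit false
open Cfsg Cfsg.FusionSystem CfsgLib.Fusion CfsgLib.FusionNormal

namespace Cfsg.Agent.S5341

/-- Let F be a saturated fusion system over a finite p-group S, T a subgroup strongly closed in F, and F′ any fusion system over T all of whose maps are maps of F. For a subgroup Q ≤ T: if Q is fully centralized in F then it is fully centralized in F′, and if Q is fully normalized in F then it is fully normalized in F′. -/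
theorem result {Ω : Type*} [Group Ω] {S : Subgroup Ω} [Finite S] (p : ℕ) [Fact p.Prime] (hS : IsPGroup p S) (F : Cfsg.FusionSystem S) (hF : F.IsSaturated p) (T : Subgroup Ω) (hT : F.StronglyClosed T) (F' : Cfsg.FusionSystem T) (hsub : F'.IsSubsystemOf F) (Q : Subgroup Ω) (hQT : Q ≤ T) : (F.IsFullyCentralized Q → F'.IsFullyCentralized Q) ∧ (F.IsFullyNormalized Q → F'.IsFullyNormalized Q) := by
  have hTS := hT.1
  have hsub' : ∀ P f, MapFn F' P f → MapFn F P f := fun P => hom_subset_iff_mapFn.mp (hsub P)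
  -- a map of `F` preserves `T`
  have hmem : ∀ (P : Subgroup Ω) (f : Ω → Ω), MapFn F P f → ∀ x ∈ P, x ∈ T → f x ∈ T := by
    intro P f hf x hx hxT
    obtain ⟨φ, hφ, he⟩ := hf.mono (inf_le_left : P ⊓ T ≤ P)
    have := hT.2 _ inf_le_right φ hφ ⟨x, hx, hxT⟩
    rwa [he] at this
  constructor
  · intro hc
    refine ⟨hQT, fun R hR => ?_⟩
    obtain ⟨f, hf, hr⟩ := isConj_iff.mp (isConj_symm hR)
    have hRT : R ≤ T := IsConj.le_right hR
    obtain ⟨g, hg, hge⟩ := (hsub' R f hf).extend_centralizer hS hF hc hr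
    have hle : centralizerIn T R ≤ R ⊔ centralizerIn S R :=
      (inf_le_inf_right _ hTS).trans le_sup_right
    obtain ⟨φ, hφ, he⟩ := hg.mono hle
    refine card_le_of_map hφ ((inf_le_left : centralizerIn T Q ≤ T).trans hTS) fun x => ?_
    have hxS : (x : Ω) ∈ centralizerIn S R := ⟨hTS x.2.1, x.2.2⟩
    have hr' : g '' R = (Q : Set Ω) := by rw [← hr]; exact Set.image_congr fun y hy => hge y hy
    rw [he]
    exact ⟨hmem _ g hg x (hle x.2) x.2.1,
      (hg.mem_centralizerIn le_sup_left hr' (hle x.2) hxS).2⟩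
  · intro hn
    refine ⟨hQT, fun R hR => ?_⟩
    obtain ⟨f, hf, hr⟩ := isConj_iff.mp (isConj_symm hR)
    obtain ⟨g, hg, -, hgm⟩ := exists_normalizer_mapFn hS hF hn ((hsub' R f hf).isConj hr)
    have hle : normalizerIn T R ≤ normalizerIn S R := inf_le_inf_right _ hTS
    obtain ⟨φ, hφ, he⟩ := hg.mono hle
    refine card_le_of_map hφ ((inf_le_left : normalizerIn T Q ≤ T).trans hTS) fun x => ?_
    rw [he]
    exact ⟨hmem _ g hg x (hle x.2) x.2.1, (hgm x (hle x.2)).2⟩

end Cfsg.Agent.S5341
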