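import Cfsg.Statements.S5342
import Cfsg.Agent.Lib.FusionNormal.Constrained

set_option autoImplicit false
open Cfsg

namespace Cfsg.Agent.S5342

/-- Let F be a constrained saturated fusion system over a finite p-group S. Then every subsystem of F that is subnormal in F (reached from F by a finite chain of successive normal subsystems) is constrained. -/
theorem result {Ω : Type*} [Group Ω] {S : Subgroup Ω} [Finite S] (p : ℕ) [Fact p.Prime] (hS : IsPGroup p S) (F : Cfsg.FusionSystem S) (hF : F.IsConstrained p) {T : Subgroup Ω} (E : Cfsg.FusionSystem T) (hE : E.IsSubnormalIn F p) : E.IsConstrained p := by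
  revert hF
  suffices h : ∀ {T U : Subgroup Ω} {E : Cfsg.FusionSystem T} {D : Cfsg.FusionSystem U} {q : ℕ},
      E.IsSubnormalIn D q → q = p → Finite ↥U → IsPGroup p ↥U → D.IsConstrained p → E.IsConstrained p from
    h hE rfl inferInstance hS
  intro T U E D q h
  induction h with
  | refl F' q => exact fun _ _ _ h => h
  | step _ hDF ih =>
    intro hq hfin hp hc
    subst hq
    have hsc := hDF.1.2.2.2.1.1
    exact ih rfl (CfsgLib.Fusion.finite_of_le hsc) (hp.to_le hsc)
      (CfsgLib.FusionNormal.constrained_of_weaklyNormal hp hc hDF.1)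

end Cfsg.Agent.S5342
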