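import Cfsg.Statements.S5345
import Cfsg.Agent.Lib.ThreeTrans.Basic

set_option autoImplicit false
open Cfsg

namespace Cfsg.Agent.S5345

open CfsgLib.ThreeTrans

/-- Let D be a conjugation-invariant generating set of 3-transpositions of a finite group G and T a Sylow 2-subgroup of G. Then the members of D lying in T generate an abelian subgroup, and their number is the width of D (the largest number of pairwise commuting members of D). -/
theorem result {G : Type*} [Group G] [Finite G] {D : Set G} (hD : Cfsg.IsThreeTranspositionGroup D) (T : Sylow 2 G) : IsMulCommutative (Subgroup.closure {d : G | d ∈ D ∧ d ∈ T}) ∧ {d : G | d ∈ D ∧ d ∈ T}.ncard = Cfsg.commutingWidth D := by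
  have hs := hD.1
  have hcl := conjClosed_of_group hD
  have hTc : ∀ a ∈ {d : G | d ∈ D ∧ d ∈ T}, ∀ b ∈ {d : G | d ∈ D ∧ d ∈ T}, Commute a b := by
    rintro a ⟨ha, haT⟩ b ⟨hb, hbT⟩
    by_contra h
    have h3 := orderOf_mul_of_not_commute hs ha hb h
    obtain ⟨k, hk⟩ := T.isPGroup' ⟨a * b, mul_mem haT hbT⟩
    have hk' : (a * b) ^ (2 ^ k) = 1 := by simpa using congrArg Subtype.val hk
    have := Nat.prime_three.dvd_of_dvd_pow (h3 ▸ orderOf_dvd_of_pow_eq_one hk')
    omega
  refine ⟨Subgroup.isMulCommutative_closure fun a ha b hb => hTc a ha b hb, ?_⟩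
  unfold Cfsg.commutingWidth
  symm
  apply IsGreatest.csSup_eq
  refine ⟨⟨{d : G | d ∈ D ∧ d ∈ T}, fun d hd => hd.1, Set.toFinite _, hTc, rfl⟩, ?_⟩
  rintro n ⟨E, hED, -, hEc, rfl⟩
  have hP : IsPGroup 2 (Subgroup.closure E) := by
    have hcomm := Subgroup.isMulCommutative_closure fun a ha b hb => hEc a ha b hb
    rintro ⟨x, hx⟩
    refine ⟨1, Subtype.ext ?_⟩
    simp only [pow_one, SubgroupClass.coe_pow, OneMemClass.coe_one]
    induction hx using Subgroup.closure_induction with
    | mem y hy => rw [pow_two]; exact mul_self hs (hED hy)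
    | one => simp
    | mul y z hy hz ihy ihz =>
      have hc : Commute y z := congrArg Subtype.val (hcomm.is_comm.comm ⟨y, hy⟩ ⟨z, hz⟩)
      rw [hc.mul_pow, ihy, ihz, one_mul]
    | inv y hy ih => rw [inv_pow, ih, inv_one]
  obtain ⟨T', hT'⟩ := hP.exists_le_sylow
  obtain ⟨g, hg⟩ := MulAction.exists_smul_eq G T' T
  refine Set.ncard_le_ncard_of_injOn (fun e => g * e * g⁻¹) (fun e he => ⟨hcl.conj g e (hED he), ?_⟩)
    (fun a _ b _ h => by simpa using h) (Set.toFinite _)
  rw [← hg]
  show g * e * g⁻¹ ∈ ((g • T' : Sylow 2 G) : Subgroup G)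
  rw [Sylow.coe_subgroup_smul]
  exact ⟨e, hT' (Subgroup.subset_closure he), rfl⟩

end Cfsg.Agent.S5345
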