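import Cfsg.Statements.S5346
import Cfsg.Agent.Lib.ThreeTrans.Layer

set_option autoImplicit false
open Cfsg

namespace Cfsg.Agent.S5346

open CfsgLib.ThreeTrans

/-- Let D be a conjugation-invariant generating set of 3-transpositions of a finite group G and d a member of D. Then D has width 1 (no two different members of D commute) if and only if G is the product of the subgroup generated by d with the largest normal 3-subgroup of G. -/
theorem result {G : Type*} [Group G] [Finite G] {D : Set G} (hD : Cfsg.IsThreeTranspositionGroup D) {d : G} (hd : d ∈ D) : Cfsg.commutingWidth D = 1 ↔ Subgroup.zpowers d ⊔ Cfsg.pCore 3 G = ⊤ := by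
  have hs := hD.1
  have hc := conjClosed_of_group hD
  have hgen := hD.2.2
  have hbdd : BddAbove {n : ℕ | ∃ E : Set G, E ⊆ D ∧ E.Finite ∧ (∀ a ∈ E, ∀ b ∈ E, Commute a b) ∧ E.ncard = n} :=
    ⟨Nat.card G, by rintro n ⟨E, -, -, -, rfl⟩; exact Set.ncard_le_card E⟩
  constructor
  · intro hw
    have hpair : ∀ a ∈ D, ∀ b ∈ D, Commute a b → a = b := by
      intro a ha b hb hab
      by_contra hne
      have h2 : 2 ≤ Cfsg.commutingWidth D := le_csSup hbdd ⟨{a, b}, Set.insert_subset ha (by simpa using hb),
        Set.toFinite _, by rintro x (rfl | rfl) y (rfl | rfl) <;> first | exact Commute.refl _ | exact hab | exact hab.symm,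
        Set.ncard_pair hne⟩
      omega
    have hB : WidthOne.Braided D := by
      refine ⟨fun x hx => mul_self hs hx, fun x hx y hy => ?_, fun x hx y hy => conj_mem_left hc hx hy⟩
      by_cases h : Commute x y
      · rw [hpair x hx y hy h]
      · exact braid hs hx hy h
    have hP : Subgroup.closure {z | ∃ x ∈ D, ∃ y ∈ D, z = x * y} ≤ Cfsg.pCore 3 G := by
      refine CfsgLib.PCore.le_pCore ?_ (WidthOne.isPGroup_products hB)
      refine ⟨fun n hn g => ?_⟩
      induction hn using Subgroup.closure_induction with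
      | mem z hz =>
        obtain ⟨x, hx, y, hy, rfl⟩ := hz
        exact Subgroup.subset_closure ⟨_, hc.conj g x hx, _, hc.conj g y hy, by group⟩
      | one => simp
      | mul a b _ _ iha ihb => simpa [mul_assoc] using mul_mem iha ihb
      | inv a _ ih => simpa [mul_assoc] using inv_mem ih
    refine eq_top_of_conj_invariant hgen fun e he => ?_
    have := mul_mem (Subgroup.mem_sup_left (Subgroup.mem_zpowers d))
      (Subgroup.mem_sup_right (S := Subgroup.zpowers d) (hP (Subgroup.subset_closure ⟨d, hd, e, he, rfl⟩)))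
    rwa [mul_self_mul hs hd] at this
  · intro htop
    have hP : IsPGroup 3 (Cfsg.pCore 3 G) := CfsgLib.PCore.pCore_isPGroup
    have hN : (Cfsg.pCore 3 G).Normal := Cfsg.pCore_normal 3 G
    have hcos : ∀ x ∈ D, (x : G ⧸ Cfsg.pCore 3 G) = (d : G ⧸ Cfsg.pCore 3 G) := by
      intro x hx
      have hx' : x ∈ Subgroup.zpowers d ⊔ Cfsg.pCore 3 G := htop ▸ Subgroup.mem_top x
      rw [Subgroup.mem_sup_of_normal_right] at hx'
      obtain ⟨y, hy, z, hz, rfl⟩ := hx'
      obtain ⟨k, rfl⟩ := Subgroup.mem_zpowers_iff.1 hy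
      rcases Int.even_or_odd k with ⟨m, hm⟩ | ⟨m, hm⟩
      · exfalso
        have h1 : d ^ k = 1 := by rw [hm, ← two_mul, zpow_mul, zpow_two, mul_self hs hd, one_zpow]
        rw [h1, one_mul] at hx
        exact ne_one hs hx (eq_one_of_mem_pGroup Nat.prime_three Nat.prime_two (by norm_num) hP hz
          (by rw [pow_two]; exact mul_self hs hx))
      · rw [hm, zpow_add, zpow_mul, zpow_two, mul_self hs hd, one_zpow, zpow_one, one_mul, QuotientGroup.eq]
        simpa using inv_mem hz
    refine IsGreatest.csSup_eq ⟨⟨{d}, by simpa using hd, Set.toFinite _, by simp, by simp⟩, ?_⟩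
    rintro n ⟨E, hED, -, hEc, rfl⟩
    rw [Set.ncard_le_one_iff (Set.toFinite E)]
    intro a b ha hb
    have hab : a * b ∈ Cfsg.pCore 3 G := by
      rw [← inv_eq hs (hED ha), ← QuotientGroup.eq, hcos a (hED ha), hcos b (hED hb)]
    exact (mul_eq_one_iff_eq' hs (hED hb)).1 (eq_one_of_mem_pGroup Nat.prime_three Nat.prime_two (by norm_num) hP hab
      ((sq_eq_one_iff hs (hED ha) (hED hb)).2 (hEc a ha b hb)))

end Cfsg.Agent.S5346
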