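import Cfsg.Statements.S5347
import Cfsg.Agent.Lib.ThreeTrans.Basic

set_option autoImplicit false
open Cfsg

namespace Cfsg.Agent.S5347

open CfsgLib.ThreeTrans

/-- Let D be a conjugation-invariant generating set of 3-transpositions of a finite group G, p a prime bigger than 3, and P a p-subgroup of G. If a member d of D normalizes P then d centralizes P. -/
theorem result {G : Type*} [Group G] [Finite G] {D : Set G} (hD : Cfsg.IsThreeTranspositionGroup D) {p : ℕ} (hp : p.Prime) (hp3 : 3 < p) (P : Subgroup G) (hP : IsPGroup p P) {d : G} (hd : d ∈ D) (hnorm : d ∈ Subgroup.normalizer (P : Set G)) : ∀ x ∈ P, Commute d x := by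
  intro x hx
  have hs := hD.1
  have hy : x * d * x⁻¹ ∈ D := hD.2.1 x d hd
  have hm : d * (x * d * x⁻¹) ∈ P := by
    have h1 := (Subgroup.mem_normalizer_iff.1 hnorm x).1 hx
    rw [inv_eq hs hd] at h1
    have := P.mul_mem h1 (P.inv_mem hx)
    simpa [mul_assoc] using this
  have h1 : d * (x * d * x⁻¹) = 1 := by
    obtain ⟨k, hk⟩ := hP ⟨_, hm⟩
    have hk' : (d * (x * d * x⁻¹)) ^ (p ^ k) = 1 := by simpa using congrArg Subtype.val hk
    have := orderOf_dvd_of_pow_eq_one hk'
    obtain ⟨q, hq, hqp, h⟩ : ∃ q : ℕ, q.Prime ∧ q ≠ p ∧ (d * (x * d * x⁻¹)) ^ q = 1 :=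
      (hs.2 d hd _ hy).elim (fun h => ⟨2, Nat.prime_two, by omega, h⟩)
        (fun h => ⟨3, Nat.prime_three, by omega, h⟩)
    have hcop : Nat.Coprime (p ^ k) q := Nat.Coprime.pow_left k ((Nat.coprime_primes hp hq).2 hqp.symm)
    exact orderOf_eq_one_iff.1
      (Nat.eq_one_of_dvd_coprimes hcop this (orderOf_dvd_of_pow_eq_one h))
  rw [mul_eq_one_iff_eq_inv, inv_eq hs hy] at h1
  show d * x = x * d
  conv_lhs => rw [h1]
  group

end Cfsg.Agent.S5347
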