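import Cfsg.Statements.S5348
import Cfsg.Agent.Lib.ThreeTrans.Basic

set_option autoImplicit false
open Cfsg

namespace Cfsg.Agent.S5348

open CfsgLib.ThreeTrans

/-- Let D be a conjugation-invariant generating set of 3-transpositions of a finite group G and d a member of D. Let V be the set of members of D commuting with exactly the same members of D as d, and W the set of members w of D such that the members of D other than w commuting with w are precisely the members of D other than d commuting with d. Then V = {d} or W = {d}. -/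
theorem result {G : Type*} [Group G] [Finite G] {D : Set G} (hD : Cfsg.IsThreeTranspositionGroup D) {d : G} (hd : d ∈ D) : {v : G | v ∈ D ∧ ∀ e ∈ D, Commute v e ↔ Commute d e} = {d} ∨ {w : G | w ∈ D ∧ {y : G | y ∈ D ∧ y ≠ d ∧ Commute d y} = {y : G | y ∈ D ∧ y ≠ w ∧ Commute w y}} = {d} := by
  have hs := hD.1
  by_contra h
  push Not at h
  obtain ⟨h1, h2⟩ := h
  have a1 : d ∈ {v : G | v ∈ D ∧ ∀ e ∈ D, Commute v e ↔ Commute d e} := ⟨hd, fun e _ => Iff.rfl⟩
  have a2 : d ∈ {w : G | w ∈ D ∧ {y : G | y ∈ D ∧ y ≠ d ∧ Commute d y} = {y : G | y ∈ D ∧ y ≠ w ∧ Commute w y}} := ⟨hd, rfl⟩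
  obtain ⟨v, hv, hvd⟩ := Set.exists_ne_of_one_lt_ncard (s := {v : G | v ∈ D ∧ ∀ e ∈ D, Commute v e ↔ Commute d e}) (by
    rw [Set.one_lt_ncard]
    by_contra hc
    push Not at hc
    exact h1 (Set.eq_singleton_iff_unique_mem.2 ⟨a1, fun x hx => hc x hx d a1⟩)) d
  obtain ⟨w, hw, hwd⟩ := Set.exists_ne_of_one_lt_ncard (s := {w : G | w ∈ D ∧ {y : G | y ∈ D ∧ y ≠ d ∧ Commute d y} = {y : G | y ∈ D ∧ y ≠ w ∧ Commute w y}}) (by
    rw [Set.one_lt_ncard]
    by_contra hc
    push Not at hc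
    exact h2 (Set.eq_singleton_iff_unique_mem.2 ⟨a2, fun x hx => hc x hx d a2⟩)) d
  obtain ⟨hvD, hv⟩ := hv
  obtain ⟨hwD, hw⟩ := hw
  have hdv : Commute d v := (hv v hvD).1 (Commute.refl v)
  have hdw : ¬ Commute d w := fun hc => by
    have : w ∈ {y : G | y ∈ D ∧ y ≠ d ∧ Commute d y} := ⟨hwD, hwd, hc⟩
    rw [hw] at this
    exact this.2.1 rfl
  have : v ∈ {y : G | y ∈ D ∧ y ≠ d ∧ Commute d y} := ⟨hvD, hvd, hdv⟩
  rw [hw] at this
  exact hdw ((hv w hwD).1 this.2.2.symm)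

end Cfsg.Agent.S5348
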