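import Cfsg.Statements.S5349
import Cfsg.Agent.Lib.ThreeTrans.Layer

set_option autoImplicit false
open Cfsg

namespace Cfsg.Agent.S5349

open CfsgLib.ThreeTrans

/-- Let D be a conjugacy class of 3-transpositions generating the finite group G, with at least two members, and d a member of D. Then the set of members of D commuting with exactly the same members of D as d coincides with the set of members of D lying in the coset of d modulo the largest normal 2-subgroup of G, and also with the orbit of d under conjugation by that normal 2-subgroup. -/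
theorem result {G : Type*} [Group G] [Finite G] {D : Set G} (hD : Cfsg.IsThreeTranspositionClass D) (hD2 : ∃ a ∈ D, ∃ b ∈ D, a ≠ b) {d : G} (hd : d ∈ D) : {v : G | v ∈ D ∧ ∀ e ∈ D, Commute v e ↔ Commute d e} = {v : G | v ∈ D ∧ d⁻¹ * v ∈ Cfsg.pCore 2 G} ∧ {v : G | v ∈ D ∧ ∀ e ∈ D, Commute v e ↔ Commute d e} = {v : G | ∃ g ∈ Cfsg.pCore 2 G, v = g * d * g⁻¹} := by
  have h := classTwo_of hD hD2
  have key : ∀ v, (v ∈ D ∧ ∀ e ∈ D, Commute v e ↔ Commute d e) ↔ VRel D d v :=
    fun v => ⟨fun k => ⟨hd, k⟩, fun k => k.2⟩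
  constructor <;> ext v <;> simp only [Set.mem_ofPred_eq, key]
  · rw [inv_eq hD.1 hd]
    exact ⟨fun k => ⟨k.2.1, k.mul_mem_pCore h.closed⟩, fun k => vRel_of_mul_mem h.closed hd k.1 k.2⟩
  · exact h.vRel_iff hd

end Cfsg.Agent.S5349
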