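import Cfsg.Statements.S5361
import Cfsg.Agent.Lib.ThreeTrans.Primitive

set_option autoImplicit false
open Cfsg

namespace Cfsg.Agent.S5361

open CfsgLib.ThreeTrans

/-- Let D be a conjugacy class of 3-transpositions generating the finite group G, and suppose the centre of G is trivial and some two different members of D commute. Then the following are equivalent: (1) the commutator subgroup of G is simple (possibly of prime order); (2) G acts primitively on D by conjugation; (3) the largest normal 2-subgroup and the largest normal 3-subgroup of G are trivial and the commuting graph of D is connected. -/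
theorem result {G : Type*} [Group G] [Finite G] {D : Set G} (hD : Cfsg.IsThreeTranspositionClass D) (hZ : Subgroup.center G = ⊥) (hw : ∃ a ∈ D, ∃ b ∈ D, a ≠ b ∧ Commute a b) : (IsSimpleGroup (commutator G) ↔ Cfsg.IsPrimitiveUnderConj D) ∧ (Cfsg.IsPrimitiveUnderConj D ↔ (Cfsg.pCore 2 G = ⊥ ∧ Cfsg.pCore 3 G = ⊥ ∧ (Cfsg.commutingGraph D).Connected)) := by
  have h := classTwo_of hD (by obtain ⟨a, ha, b, hb, hne, -⟩ := hw; exact ⟨a, ha, b, hb, hne⟩)
  refine ⟨⟨h.primitive_of_simple_derived hw hZ, fun hp => h.simple_derived_of_primitive hp hw hZ⟩, ?_, ?_⟩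
  · intro hp
    obtain ⟨h2, h3⟩ := h.cores_of_primitive hp hw
    rw [hZ, le_bot_iff] at h2 h3
    exact ⟨h2, h3, h.connected_of_primitive hp hw⟩
  · rintro ⟨h2, h3, hc⟩
    obtain ⟨L, hL⟩ := h.exists_component (h2 ▸ bot_le) (h3 ▸ bot_le)
    exact h.primitive_of_index_le_two (h2 ▸ bot_le) (h3 ▸ bot_le) hL (h.index_le_two_of_connected hL hc)

end Cfsg.Agent.S5361
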