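import Cfsg.Statements.S5363


set_option autoImplicit false
open Cfsg

namespace Cfsg.Agent.S5363

/-- Let D be a conjugation-invariant set of involutions of a finite group G. Then every product of two members of D has odd order or order 2 if and only if, for every a in D and every b in D different from a and commuting with a, the members of D commuting with a b are exactly those commuting with both a and b. -/
theorem result {G : Type*} [Group G] [Finite G] {D : Set G} (hinv : ∀ d ∈ D, orderOf d = 2) (hconj : ∀ g : G, ∀ d ∈ D, g * d * g⁻¹ ∈ D) : (∀ a ∈ D, ∀ b ∈ D, Odd (orderOf (a * b)) ∨ orderOf (a * b) = 2) ↔ ∀ a ∈ D, ∀ b ∈ D, b ≠ a → Commute a b → {y : G | y ∈ D ∧ Commute (a * b) y} = {y : G | y ∈ D ∧ Commute a y} ∩ {y : G | y ∈ D ∧ Commute b y} := by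
  have hsq : ∀ d ∈ D, d * d = 1 := fun d hd => by
    have := pow_orderOf_eq_one d; rwa [hinv d hd, pow_two] at this
  have hi : ∀ d ∈ D, d⁻¹ = d := fun d hd => inv_eq_of_mul_eq_one_right (hsq d hd)
  have hcomm : ∀ a ∈ D, ∀ b ∈ D, (a * b) ^ 2 = 1 → Commute a b := fun a ha b hb h => by
    rw [pow_two, mul_eq_one_iff_eq_inv, mul_inv_rev, hi a ha, hi b hb] at h
    exact h
  constructor
  · intro H a ha b hb hne hab
    ext y
    refine ⟨fun ⟨hy, hc⟩ => ?_, fun ⟨⟨hy, h1⟩, ⟨_, h2⟩⟩ => ⟨hy, h1.mul_left h2⟩⟩
    suffices hya : Commute a y by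
      refine ⟨⟨hy, hya⟩, hy, ?_⟩
      have : Commute (a * (a * b)) y := hya.mul_left hc
      rwa [← mul_assoc, hsq a ha, one_mul] at this
    have hz : orderOf (a * b) = 2 := by
      apply orderOf_eq_prime
      · rw [pow_two]; calc a * b * (a * b) = a * b * (b * a) := by rw [hab.eq]
          _ = 1 := by simp [mul_assoc, hsq a ha, ← mul_assoc b b a, hsq b hb]
      · intro h; rw [mul_eq_one_iff_eq_inv, hi b hb] at h; exact hne h.symm
    rcases H y hy a ha with hodd | h2
    · have hc' : Commute (y * a) (a * b) :=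
        hc.symm.mul_left ((Commute.refl a).mul_right hab)
      have ho := hc'.orderOf_mul_eq_mul_orderOf_of_coprime (by rw [hz]; exact Nat.coprime_two_right.2 hodd)
      have he : y * a * (a * b) = y * b := by simp [mul_assoc, ← mul_assoc a a b, hsq a ha]
      rw [he, hz] at ho
      rcases H y hy b hb with h' | h'
      · rw [ho] at h'
        exact absurd h' (Nat.not_odd_iff_even.2 (even_two.mul_left _))
      · rw [ho] at h'
        have : orderOf (y * a) = 1 := by omega
        rw [orderOf_eq_one_iff, mul_eq_one_iff_eq_inv, hi a ha] at this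
        exact this ▸ Commute.refl y
    · exact (hcomm y hy a ha (h2 ▸ pow_orderOf_eq_one (y * a))).symm
  · intro H a ha b hb
    by_contra hcon
    push Not at hcon
    obtain ⟨hev, hne2⟩ := hcon
    obtain ⟨m, hm⟩ := Nat.not_odd_iff_even.1 hev
    set x := a * b with hx
    have hpos : 0 < orderOf x := orderOf_pos x
    have haxa : a * x * a⁻¹ = x⁻¹ := by
      rw [hx, mul_inv_rev, hi a ha, hi b hb, ← mul_assoc, hsq a ha, one_mul]
    set z := x ^ m with hz
    have hz2 : z * z = 1 := by rw [hz, ← pow_add, ← hm, pow_orderOf_eq_one]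
    have hz1 : z ≠ 1 := pow_ne_one_of_lt_orderOf (by omega) (by omega)
    have haz : Commute a z := by
      have h1 : a * z * a⁻¹ = z := by
        rw [hz, ← conj_pow, haxa, inv_pow]
        exact inv_eq_of_mul_eq_one_right hz2
      exact mul_inv_eq_iff_eq_mul.1 h1
    have hpush : ∀ j : ℕ, a * x ^ j = (x ^ j)⁻¹ * a := by
      intro j
      have : a * x ^ j * a⁻¹ = (x ^ j)⁻¹ := by rw [← conj_pow, haxa, inv_pow]
      rw [← this]; group
    have hax : a * x = b := by rw [hx, ← mul_assoc, hsq a ha, one_mul]
    have hc : a * z ∈ D := by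
      rcases Nat.even_or_odd m with ⟨j, hj⟩ | ⟨j, hj⟩
      · have := hconj (x ^ j)⁻¹ a ha
        rwa [inv_inv, ← hpush, mul_assoc, ← pow_add, ← hj] at this
      · have h1 : a * z = (x ^ j)⁻¹ * b * x ^ j := by
          rw [hz, hj, show 2 * j + 1 = j + (1 + j) by omega, pow_add, pow_add, ← mul_assoc, hpush, pow_one, ← hax]
          group
        have := hconj (x ^ j)⁻¹ b hb
        rwa [inv_inv, ← h1] at this
    have hcom : Commute a (a * z) := (Commute.refl a).mul_right haz
    have hne : a * z ≠ a := by simpa using hz1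
    have hbz : Commute (a * (a * z)) b := by
      rw [← mul_assoc, hsq a ha, one_mul]
      have : b = a * x := hax.symm
      rw [this]
      exact (haz.mul_left (Commute.self_pow x m)).symm
    have hmem : b ∈ {y : G | y ∈ D ∧ Commute (a * (a * z)) y} := ⟨hb, hbz⟩
    rw [H a ha (a * z) hc hne hcom] at hmem
    have hab : Commute a b := hmem.1.2
    have : x ^ 2 = 1 := by
      rw [hx, pow_two]
      calc a * b * (a * b) = a * b * (b * a) := by rw [hab.eq]
        _ = 1 := by simp [mul_assoc, ← mul_assoc b b a, hsq b hb, hsq a ha]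
    have := Nat.le_of_dvd two_pos (orderOf_dvd_of_pow_eq_one this)
    omega

end Cfsg.Agent.S5363
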