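import Cfsg.Statements.S5364


set_option autoImplicit false
open Cfsg

namespace Cfsg.Agent.S5364

/-- Let D be a conjugation-invariant set of involutions of a finite group G and t an involution in the centre of G such that d t does not lie in D for any d in D. If the images of the members of D in G modulo the subgroup generated by t satisfy the 3-transposition order conditions (each has order 2 and any two have product of order at most 3), then so do the members of D. -/
theorem result {G : Type*} [Group G] [Finite G] {D : Set G} (hinv : ∀ d ∈ D, orderOf d = 2) (hconj : ∀ g : G, ∀ d ∈ D, g * d * g⁻¹ ∈ D) (t : G) (ht : orderOf t = 2) (htZ : t ∈ Subgroup.center G) (hDt : ∀ d ∈ D, d * t ∉ D) [(Subgroup.zpowers t).Normal] (himg : Cfsg.IsThreeTranspositionSet ((QuotientGroup.mk : G → G ⧸ Subgroup.zpowers t) '' D)) : Cfsg.IsThreeTranspositionSet D := by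
  refine ⟨hinv, fun d hd e he => ?_⟩
  set N := Subgroup.zpowers t
  have hd2 : d * d = 1 := by have := pow_orderOf_eq_one d; rwa [hinv d hd, pow_two] at this
  have he2 : e * e = 1 := by have := pow_orderOf_eq_one e; rwa [hinv e he, pow_two] at this
  have hd' : d⁻¹ = d := inv_eq_of_mul_eq_one_right hd2
  have he' : e⁻¹ = e := inv_eq_of_mul_eq_one_right he2
  have ht2 : t * t = 1 := by have := pow_orderOf_eq_one t; rwa [ht, pow_two] at this
  have hN : ∀ x ∈ N, x = 1 ∨ x = t := by
    intro x hx
    obtain ⟨k, rfl⟩ := Subgroup.mem_zpowers_iff.1 hx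
    rcases Int.even_or_odd k with ⟨m, hm⟩ | ⟨m, hm⟩
    · left; rw [hm, ← two_mul, zpow_mul, zpow_two, ht2, one_zpow]
    · right; rw [hm, zpow_add, zpow_mul, zpow_two, ht2, one_zpow, zpow_one, one_mul]
  rcases himg.2 _ ⟨d, hd, rfl⟩ _ ⟨e, he, rfl⟩ with h | h <;>
    rw [← QuotientGroup.mk_mul, ← QuotientGroup.mk_pow, QuotientGroup.eq_one_iff] at h <;>
    rcases hN _ h with h | h
  · exact Or.inl h
  · exfalso
    have h1 := hconj d e he
    rw [hd'] at h1
    apply hDt e he
    have : e * t = d * e * d := by
      have hc : e * t = t * e := (Subgroup.mem_center_iff.1 htZ e)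
      rw [hc, ← h, pow_two]
      simp [mul_assoc, he2]
    rwa [this]
  · exact Or.inr h
  · exfalso
    have h1 := hconj (d * e) d hd
    rw [mul_inv_rev, hd', he'] at h1
    apply hDt e he
    have : e * t = d * e * d * (e * d) := by
      have hc : e * t = t * e := (Subgroup.mem_center_iff.1 htZ e)
      rw [hc, ← h]
      simp [pow_succ, mul_assoc, he2]
    rwa [this]

end Cfsg.Agent.S5364
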