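import Cfsg.Statements.S5375
import Cfsg.Agent.Lib.ThreeTrans.TypeTop.Facts
import Cfsg.Agent.Lib.ThreeTrans.TypeTop.ParityTop

set_option autoImplicit false
open Cfsg

namespace Cfsg.Agent.S5375

/-- Let G be a finite group with trivial centre generated by a conjugation-invariant set D of 3-transpositions on which it acts primitively, of type M(24). Then the layer of G (its largest semisimple normal subgroup) has index 2, D has exactly 306936 members, G has order 2^22 · 3^16 · 5^2 · 7^3 · 11 · 13 · 17 · 23 · 29, the width of D is 24, and for every d in D the subgroup generated by the members of D other than d commuting with d is the centralizer of d. -/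
theorem result {G : Type*} [Group G] [Finite G] {D : Set G} (hD : Cfsg.IsThreeTranspositionGroup D) (hprim : Cfsg.IsPrimitiveUnderConj D) (ht : Cfsg.IsOfTypeM24 G D) : (Cfsg.layer G).index = 2 ∧ D.ncard = 306936 ∧ Nat.card G = 2 ^ 22 * 3 ^ 16 * 5 ^ 2 * 7 ^ 3 * 11 * 13 * 17 * 23 * 29 ∧ Cfsg.commutingWidth D = 24 ∧ ∀ d ∈ D, Subgroup.closure {y : G | y ∈ D ∧ y ≠ d ∧ Commute d y} = Subgroup.centralizer ({d} : Set G) := by
  have L := CfsgLib.ThreeTrans.Tower.local24 hD hprim ht
  refine ⟨CfsgLib.ThreeTrans.TypeTop.layer_index24 hD hprim ht, L.card, ?_,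
    CfsgLib.ThreeTrans.TypeTop.commutingWidth_eq (CfsgLib.ThreeTrans.TypeTop.width24 hD hprim ht), fun d hd => ?_⟩
  · rw [CfsgLib.ThreeTrans.TypeTop.order24 hD hprim ht]; norm_num
  · exact CfsgLib.ThreeTrans.TypeTop.centralizer_eq_Hd L hd (CfsgLib.ThreeTrans.TypeTop.mem_Hd24 hD hprim ht d hd)

end Cfsg.Agent.S5375
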