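import Cfsg.Statements.S5383
import Cfsg.Agent.S5379
import Cfsg.Agent.Lib.SuzType.SevenNorm

set_option autoImplicit false
open Cfsg

namespace Cfsg.Agent.S5383

/-- Let G be a finite group of Suzuki sporadic type (involution z with generalized Fitting subgroup Q of its centralizer C extraspecial of order 2^7, C/Q the commutator subgroup of the isometry group of the elliptic quadratic form in dimension 6 over the field with two elements, z not weakly closed in Q). Then for every Sylow 7-subgroup B of G, the centralizer of B is isomorphic to the direct product of a cyclic group of order 7 and the alternating group of degree 4, and the normalizer of B has order 504. -/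
theorem result {G : Type*} [Group G] [Finite G] (z : G) (hz : orderOf z = 2) (Q : Subgroup (Subgroup.centralizer ({z} : Set G))) [Q.Normal] (hF : Cfsg.generalizedFittingSubgroup (Subgroup.centralizer ({z} : Set G)) = Q) (hQ : Cfsg.IsExtraspecial 2 Q) (hcard : Nat.card Q = 2 ^ 7) (e : (Subgroup.centralizer ({z} : Set G)) ⧸ Q ≃* Cfsg.Omega (ZMod 2) (Cfsg.quadFormMinus 2 (ZMod 2) 1 1)) (hnwc : ∃ g : G, (∃ hq : g * z * g⁻¹ ∈ Subgroup.centralizer ({z} : Set G), (⟨g * z * g⁻¹, hq⟩ : Subgroup.centralizer ({z} : Set G)) ∈ Q) ∧ g * z * g⁻¹ ≠ z) (B : Sylow 7 G) : Nonempty (↥(Subgroup.centralizer ((B : Subgroup G) : Set G)) ≃* Multiplicative (ZMod 7) × alternatingGroup (Fin 4)) ∧ Nat.card ↥(Subgroup.normalizer ((B : Subgroup G) : Set G)) = 504 := by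
  have hS : Cfsg.IsExtraspecialCentralizerSetting z Q 3 := ⟨hz, hF, hQ, hcard, hnwc⟩
  obtain ⟨hEx, hself, hnorm⟩ := CfsgLib.MonsterType.setting_extraAt hS
  have H : CfsgLib.SuzType.Hyp z (CfsgLib.MonsterType.qm Q) := by
    refine ⟨hz, Subgroup.map_subtype_le _,
      fun c hc y hy => (Subgroup.mem_normalizer_iff.1 (hnorm (Subgroup.mem_centralizer_singleton_iff.2 hc)) y).1 hy,
      ?_, hEx, fun c _ hcy => ?_, ?_, ?_⟩
    · rw [CfsgLib.MonsterType.card_qm, hcard]; norm_num
    · obtain ⟨a, -, rfl⟩ : c ∈ (Subgroup.center ↥(CfsgLib.MonsterType.qm Q)).map (CfsgLib.MonsterType.qm Q).subtype :=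
        hself ▸ Subgroup.mem_centralizer_iff.2 hcy
      exact a.2
    · rw [Subgroup.card_eq_card_quotient_mul_card_subgroup Q, Nat.card_congr e.toEquiv, Cfsg.Agent.S5379.card_omega,
        hcard]; norm_num
    · obtain ⟨g, ⟨hq, hgQ⟩, hne⟩ := hnwc
      exact ⟨g, ⟨⟨_, hq⟩, hgQ, rfl⟩, hne⟩
  exact H.seven_norm B

end Cfsg.Agent.S5383
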