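import Cfsg.Statements.S5385
import Cfsg.Agent.S5378
import Cfsg.Agent.Lib.CoOneType.FiveLayer

set_option autoImplicit false
open Cfsg

namespace Cfsg.Agent.S5385

/-- Let G be a finite group of Conway type (involution z with generalized Fitting subgroup Q of its centralizer C extraspecial of order 2^9, C/Q the commutator subgroup of the isometry group of the hyperbolic quadratic form in dimension 8 over the field with two elements, z not weakly closed in Q), and let B be a subgroup of C of order 5 such that the centralizer of B in Q is extraspecial of order 32 containing no elementary abelian subgroup of order 8 (the quaternion-times-dihedral type). Then the layer L of the centralizer of B in G is isomorphic to the Hall–Janko group and the centralizer of L is isomorphic to the alternating group of degree 5. -/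
theorem result {G : Type*} [Group G] [Finite G] (z : G) (hz : orderOf z = 2) (Q : Subgroup (Subgroup.centralizer ({z} : Set G))) [Q.Normal] (hF : Cfsg.generalizedFittingSubgroup (Subgroup.centralizer ({z} : Set G)) = Q) (hQ : Cfsg.IsExtraspecial 2 Q) (hcard : Nat.card Q = 2 ^ 9) (e : (Subgroup.centralizer ({z} : Set G)) ⧸ Q ≃* Cfsg.Omega (ZMod 2) (Cfsg.quadFormPlus 4 (ZMod 2))) (hnwc : ∃ g : G, (∃ hq : g * z * g⁻¹ ∈ Subgroup.centralizer ({z} : Set G), (⟨g * z * g⁻¹, hq⟩ : Subgroup.centralizer ({z} : Set G)) ∈ Q) ∧ g * z * g⁻¹ ≠ z) (B : Subgroup (Subgroup.centralizer ({z} : Set G))) (hB : Nat.card B = 5) (hCQ : Cfsg.IsExtraspecial 2 ↥(Q ⊓ Subgroup.centralizer (B : Set (Subgroup.centralizer ({z} : Set G))))) (hCQcard : Nat.card ↥(Q ⊓ Subgroup.centralizer (B : Set (Subgroup.centralizer ({z} : Set G)))) = 32) (hminus : ∀ A : Subgroup (Subgroup.centralizer ({z} : Set G)), A ≤ Q ⊓ Subgroup.centralizer (B : Set (Subgroup.centralizer ({z} : Set G))) → Cfsg.IsElementaryAbelian 2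 A → Nat.card A ≤ 4) : Cfsg.Spor.IsoJ2 ↥(Cfsg.layer ↥(Subgroup.centralizer ((B.map (Subgroup.subtype (Subgroup.centralizer ({z} : Set G)))) : Set G))) ∧ Nonempty (↥(Subgroup.centralizer (((Cfsg.layer ↥(Subgroup.centralizer ((B.map (Subgroup.subtype (Subgroup.centralizer ({z} : Set G)))) : Set G))).map (Subgroup.subtype _)) : Set G)) ≃* alternatingGroup (Fin 5)) := by
  classical
  have : Fact (Nat.Prime 2) := ⟨Nat.prime_two⟩
  have h5f : Fact (Nat.Prime 5) := ⟨Nat.prime_five⟩
  have hS : Cfsg.IsExtraspecialCentralizerSetting z Q 4 := ⟨hz, hF, hQ, hcard, hnwc⟩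
  obtain ⟨hEx, hself, hnorm⟩ := CfsgLib.MonsterType.setting_extraAt hS
  have H : CfsgLib.CoOneType.Hyp z (CfsgLib.MonsterType.qm Q) := by
    refine ⟨hz, Subgroup.map_subtype_le _,
      fun c hc y hy => (Subgroup.mem_normalizer_iff.1 (hnorm (Subgroup.mem_centralizer_singleton_iff.2 hc)) y).1 hy,
      ?_, hEx, fun c _ hcy => ?_, ?_, ?_⟩
    · rw [CfsgLib.MonsterType.card_qm, hcard]; norm_num
    · obtain ⟨a, -, rfl⟩ : c ∈ (Subgroup.center ↥(CfsgLib.MonsterType.qm Q)).map (CfsgLib.MonsterType.qm Q).subtype :=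
        hself ▸ Subgroup.mem_centralizer_iff.2 hcy
      exact a.2
    · rw [Subgroup.card_eq_card_quotient_mul_card_subgroup Q, Nat.card_congr e.toEquiv, Cfsg.Agent.S5378.card_omega,
        hcard]; norm_num
    · obtain ⟨g, ⟨hq, hgQ⟩, hne⟩ := hnwc
      exact ⟨g, ⟨⟨_, hq⟩, hgQ, rfl⟩, hne⟩
  obtain ⟨K⟩ := H.exists_plus
  obtain ⟨b0, hb0⟩ := exists_prime_orderOf_dvd_card' (G := ↥B) 5 (by rw [hB])
  have hgen : Subgroup.zpowers (b0 : ↥(Subgroup.centralizer ({z} : Set G))) = B := by
    refine Subgroup.eq_of_le_of_card_ge (Subgroup.zpowers_le.2 b0.2) ?_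
    rw [hB, Nat.card_zpowers, Subgroup.orderOf_coe, hb0]
  set bC : ↥(Subgroup.centralizer ({z} : Set G)) := b0.1 with hbC
  set b : G := bC.1 with hbdef
  have hb : orderOf b = 5 := by rw [hbdef, Subgroup.orderOf_coe, hbC, Subgroup.orderOf_coe, hb0]
  have hbz : b * z = z * b := Subgroup.mem_centralizer_singleton_iff.1 bC.2
  have hmem : ∀ y : ↥(Subgroup.centralizer ({z} : Set G)),
      y ∈ Q ⊓ Subgroup.centralizer (B : Set (Subgroup.centralizer ({z} : Set G))) ↔
        (y : G) ∈ CfsgLib.MonsterType.qm Q ∧ (y : G) * b = b * y := by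
    intro y
    rw [Subgroup.mem_inf, ← hgen, Subgroup.zpowers_eq_closure, Subgroup.centralizer_closure,
      Subgroup.mem_centralizer_singleton_iff]
    refine and_congr ⟨fun h => ⟨y, h, rfl⟩, fun ⟨a, ha, e⟩ => Subtype.ext e ▸ ha⟩ ?_
    exact ⟨fun h => congrArg Subtype.val h, fun h => Subtype.ext h⟩
  set P := Q ⊓ Subgroup.centralizer (B : Set (Subgroup.centralizer ({z} : Set G))) with hP
  have hzC : z ∈ Subgroup.centralizer ({z} : Set G) := Subgroup.mem_centralizer_singleton_iff.2 rfl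
  have hzP : (⟨z, hzC⟩ : ↥(Subgroup.centralizer ({z} : Set G))) ∈ P := (hmem _).2 ⟨H.extra.z_mem, hbz.symm⟩
  obtain ⟨s, t, F⟩ := H.exists_five_of_fix K hb hbz (by
    rw [← hCQcard]
    exact Nat.card_congr
      { toFun := fun y => ⟨⟨y.1, H.hQC y.2.1⟩, (hmem _).2 y.2⟩
        invFun := fun y => ⟨y.1.1, (hmem _).1 y.2⟩ }) (by
    intro y hy hyb hcen
    obtain ⟨a, -, hall⟩ := (Nat.card_eq_two_iff' (1 : ↥(Subgroup.center ↥P))).1 hCQ.2
    have hy' : (⟨⟨y, H.hQC hy⟩, (hmem _).2 ⟨hy, hyb⟩⟩ : ↥P) ∈ Subgroup.center ↥P :=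
      Subgroup.mem_center_iff.2 fun w => Subtype.ext (Subtype.ext (hcen _ ((hmem _).1 w.2).1 ((hmem _).1 w.2).2))
    have hz' : (⟨⟨z, hzC⟩, hzP⟩ : ↥P) ∈ Subgroup.center ↥P :=
      Subgroup.mem_center_iff.2 fun w => Subtype.ext (Subtype.ext (H.extra.comm_z ((hmem _).1 w.2).1))
    by_cases hy1 : y = 1
    · exact Or.inl hy1
    refine Or.inr ?_
    have e1 := hall ⟨_, hy'⟩ fun h => hy1 (congrArg (fun w : ↥(Subgroup.center ↥P) => ((w.1 : ↥(Subgroup.centralizer ({z} : Set G))) : G)) h)
    have e2 := hall ⟨_, hz'⟩ fun h => H.extra.ne_one (congrArg (fun w : ↥(Subgroup.center ↥P) => ((w.1 : ↥(Subgroup.centralizer ({z} : Set G))) : G)) h)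
    exact congrArg (fun w : ↥(Subgroup.center ↥P) => ((w.1 : ↥(Subgroup.centralizer ({z} : Set G))) : G)) (e1.trans e2.symm)) (by
    intro y hy w hw hyb hwb hy2 hw2 hyw hy0 hw0 hne
    set yC : ↥(Subgroup.centralizer ({z} : Set G)) := ⟨y, H.hQC hy⟩
    set wC : ↥(Subgroup.centralizer ({z} : Set G)) := ⟨w, H.hQC hw⟩
    set zC : ↥(Subgroup.centralizer ({z} : Set G)) := ⟨z, hzC⟩
    set gens : Set ↥(Subgroup.centralizer ({z} : Set G)) := {zC, yC, wC}
    set A := Subgroup.closure gens with hA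
    have hcm : ∀ u ∈ gens, ∀ v ∈ gens, u * v = v * u := by
      intro u hu v hv
      have e1 : zC * yC = yC * zC := Subtype.ext (H.extra.comm_z hy).symm
      have e2 : zC * wC = wC * zC := Subtype.ext (H.extra.comm_z hw).symm
      have e3 : yC * wC = wC * yC := Subtype.ext hyw
      simp only [gens, Set.mem_insert_iff, Set.mem_singleton_iff] at hu hv
      rcases hu with rfl | rfl | rfl <;> rcases hv with rfl | rfl | rfl <;>
        first | rfl | exact e1 | exact e1.symm | exact e2 | exact e2.symm | exact e3 | exact e3.symm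
    have hAA : A ≤ Subgroup.centralizer (A : Set ↥(Subgroup.centralizer ({z} : Set G))) := by
      rw [hA, Subgroup.closure_le, Subgroup.centralizer_closure]
      exact fun u hu => Subgroup.mem_centralizer_iff.2 fun v hv => hcm v hv u hu
    have hel : Cfsg.IsElementaryAbelian 2 A := by
      refine ⟨⟨⟨fun u v => Subtype.ext ((Subgroup.mem_centralizer_iff.1 (hAA v.2)) u u.2)⟩⟩, fun a ha => ?_⟩
      refine Subgroup.closure_induction ?_ (one_pow _) (fun u v hu hv h1 h2 => ?_) (fun u hu h1 => ?_) ha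
      · intro u hu
        simp only [gens, Set.mem_insert_iff, Set.mem_singleton_iff] at hu
        rw [pow_two]
        rcases hu with rfl | rfl | rfl
        exacts [Subtype.ext H.extra.sq_one, Subtype.ext hy2, Subtype.ext hw2]
      · rw [(show Commute u v from (Subgroup.mem_centralizer_iff.1 (hAA hv)) u hu).mul_pow, h1, h2, one_mul]
      · rw [inv_pow, h1, inv_one]
    have hle : A ≤ P := by
      rw [hA, Subgroup.closure_le]
      intro u hu
      simp only [gens, Set.mem_insert_iff, Set.mem_singleton_iff] at hu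
      rcases hu with rfl | rfl | rfl
      exacts [hzP, (hmem _).2 ⟨hy, hyb⟩, (hmem _).2 ⟨hw, hwb⟩]
    have hm : ∀ u ∈ gens, u ∈ A := fun u hu => Subgroup.subset_closure hu
    let five : Fin 5 → ↥A := ![1, ⟨zC, hm _ (by simp [gens])⟩, ⟨yC, hm _ (by simp [gens])⟩, ⟨wC, hm _ (by simp [gens])⟩,
      ⟨yC * wC, mul_mem (hm _ (by simp [gens])) (hm _ (by simp [gens]))⟩]
    let val : Fin 5 → CfsgLib.CoOneType.V := ![0, 0, K.vec y, K.vec w, K.vec y + K.vec w]
    have hinj : Function.Injective five := by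
      have hval : ∀ i, K.vec (((five i).1 : ↥(Subgroup.centralizer ({z} : Set G))) : G) = val i := by
        intro i
        fin_cases i
        exacts [K.vec_one, K.vec_z H, rfl, rfl, K.mul hy hw]
      have hyw0 : K.vec y + K.vec w ≠ 0 := fun h => hne (CfsgLib.CoOneType.eqV h)
      intro i j hij
      have hv : val i = val j := by rw [← hval, ← hval, hij]
      have hG := congrArg (fun a : ↥A => ((a.1 : ↥(Subgroup.centralizer ({z} : Set G))) : G)) hij
      fin_cases i <;> fin_cases j <;>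
        first
          | rfl
          | (exfalso; simp [five, val, zC, hy0, hw0, hne, hne.symm, hyw0, hyw0.symm, hy0.symm, hw0.symm,
              H.extra.ne_one, H.extra.ne_one.symm] at hv hG; done)
    have h5 := Nat.card_le_card_of_injective five hinj
    have h4 := hminus A hle hel
    rw [Nat.card_fin] at h5
    omega)
  obtain ⟨b', hb', F'⟩ := F.exists_partner
  have hconj : ∀ {c : G}, orderOf c = 5 → c * z = z * c → ∀ r ∈ CfsgLib.MonsterType.qm Q, r * r = 1 → r ≠ 1 → r ≠ z →
      r * c = c * r → ∃ h, h * c = c * h ∧ h * z * h⁻¹ = r := by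
    intro c hc hcz r hr h2 h1 hne hrc
    obtain ⟨g, hg⟩ := K.conj_of_mem H hr h2 h1
    exact CfsgLib.MonsterType.Local.exists_conj_commute (w := 4) (by norm_num) hS (l := 5) (by norm_num) hc hcz hr
      hrc.symm (isConj_iff.2 ⟨g, hg⟩) hne
  obtain ⟨S⟩ := F.exists_quot_setting (hconj F.ord F.bz)
  obtain ⟨S'⟩ := F'.exists_quot_setting (hconj F'.ord F'.bz)
  obtain ⟨hbE, hA5⟩ := F.centralizer_eGroup S hb' F' S'
  obtain ⟨hlayer, hJ2⟩ := F.layer_eq S hbE
  have hBm : Subgroup.centralizer ((B.map (Subgroup.subtype (Subgroup.centralizer ({z} : Set G)))) : Set G) =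
      CfsgLib.CoOneType.Hb b := by
    rw [← hgen, MonoidHom.map_zpowers, Subgroup.zpowers_eq_closure, Subgroup.centralizer_closure]
    rfl
  rw [hBm, hlayer]
  exact ⟨hJ2, hA5⟩

end Cfsg.Agent.S5385
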