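import Cfsg.Statements.S5387
import Cfsg.Agent.Lib.Schur.L34ExpTwo

set_option autoImplicit false
open Cfsg

namespace Cfsg.Agent.S5387

open scoped commutatorElement

/-- Up to isomorphism there is at most one quasisimple group whose centre is elementary abelian of order 4 and whose central quotient is isomorphic to the projective special linear group of dimension 3 over the field with four elements: any two such groups are isomorphic. -/
theorem result {L₁ L₂ : Type*} [Group L₁] [Finite L₁] [Group L₂] [Finite L₂] (F : Type) [Field F] [Fintype F] (hF : Fintype.card F = 4) (h₁ : Cfsg.IsQuasisimple L₁) (h₂ : Cfsg.IsQuasisimple L₂) (hc₁ : Nat.card (Subgroup.center L₁) = 4) (hc₂ : Nat.card (Subgroup.center L₂) = 4) (he₁ : ∀ x ∈ Subgroup.center L₁, x * x = 1) (he₂ : ∀ x ∈ Subgroup.center L₂, x * x = 1) (e₁ : L₁ ⧸ Subgroup.center L₁ ≃* Matrix.ProjectiveSpecialLinearGroup (Fin 3) F) (e₂ : L₂ ⧸ Subgroup.center L₂ ≃* Matrix.ProjectiveSpecialLinearGroup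 (Fin 3) F) : Nonempty (L₁ ≃* L₂) := by
  haveI : Group.IsPerfect L₁ := h₁.1
  haveI : Group.IsPerfect L₂ := h₂.1
  let π₁ : L₁ →* Matrix.ProjectiveSpecialLinearGroup (Fin 3) F :=
    e₁.toMonoidHom.comp (QuotientGroup.mk' _)
  let π₂ : L₂ →* Matrix.ProjectiveSpecialLinearGroup (Fin 3) F :=
    e₂.toMonoidHom.comp (QuotientGroup.mk' _)
  have hs₁ : Function.Surjective π₁ := e₁.surjective.comp (QuotientGroup.mk'_surjective _)
  have hs₂ : Function.Surjective π₂ := e₂.surjective.comp (QuotientGroup.mk'_surjective _)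
  have hk₁ : ∀ x, π₁ x = 1 → x ∈ Subgroup.center L₁ := fun x hx =>
    (QuotientGroup.eq_one_iff x).1 (e₁.injective (hx.trans (map_one e₁).symm))
  have hk₂ : ∀ x, π₂ x = 1 → x ∈ Subgroup.center L₂ := fun x hx =>
    (QuotientGroup.eq_one_iff x).1 (e₂.injective (hx.trans (map_one e₂).symm))
  let P0 : Subgroup (L₁ × L₂) :=
    (π₁.comp (MonoidHom.fst L₁ L₂)).eqLocus (π₂.comp (MonoidHom.snd L₁ L₂))
  let P : Subgroup (L₁ × L₂) := ⁅P0, P0⁆
  have hPle : P ≤ P0 := by
    refine Subgroup.commutator_le.2 fun a ha b hb => ?_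
    simp only [commutatorElement_def]
    exact P0.mul_mem (P0.mul_mem (P0.mul_mem ha hb) (P0.inv_mem ha)) (P0.inv_mem hb)
  have hP0₁ : P0.map (MonoidHom.fst L₁ L₂) = ⊤ := eq_top_iff.2 fun a _ => by
    obtain ⟨b, hb⟩ := hs₂ (π₁ a)
    exact ⟨(a, b), hb.symm, rfl⟩
  have hP0₂ : P0.map (MonoidHom.snd L₁ L₂) = ⊤ := eq_top_iff.2 fun b _ => by
    obtain ⟨a, ha⟩ := hs₁ (π₂ b)
    exact ⟨(a, b), ha, rfl⟩
  have hP₁ : P.map (MonoidHom.fst L₁ L₂) = ⊤ := by
    rw [Subgroup.map_commutator, hP0₁]; exact Group.IsPerfect.commutator_eq_top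
  have hP₂ : P.map (MonoidHom.snd L₁ L₂) = ⊤ := by
    rw [Subgroup.map_commutator, hP0₂]; exact Group.IsPerfect.commutator_eq_top
  have hcen : ∀ x ∈ P0, π₁ x.1 = 1 → x ∈ Subgroup.center (L₁ × L₂) := by
    intro x hx hx1
    refine Subgroup.mem_center_iff.2 fun g => Prod.ext ?_ ?_
    · exact Subgroup.mem_center_iff.1 (hk₁ _ hx1) g.1
    · exact Subgroup.mem_center_iff.1 (hk₂ _ ((show π₁ x.1 = π₂ x.2 from hx).symm.trans hx1)) g.2
  have hperf : P ≤ ⁅P, P⁆ := by
    refine Subgroup.commutator_le.2 fun a ha b hb => ?_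
    have hdec : ∀ c ∈ P0, ∃ y ∈ P, y⁻¹ * c ∈ Subgroup.center (L₁ × L₂) := by
      intro c hc
      obtain ⟨y, hy, hy1⟩ : c.1 ∈ P.map (MonoidHom.fst L₁ L₂) := by rw [hP₁]; trivial
      refine ⟨y, hy, hcen _ (P0.mul_mem (P0.inv_mem (hPle hy)) hc) ?_⟩
      rw [Prod.fst_mul, Prod.fst_inv, show y.1 = c.1 from hy1, inv_mul_cancel, map_one]
    obtain ⟨a', ha', hza⟩ := hdec a ha
    obtain ⟨b', hb', hzb⟩ := hdec b hb
    have e : ⁅a, b⁆ = ⁅a', b'⁆ := by
      set z := a'⁻¹ * a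
      set w := b'⁻¹ * b
      have hz := Subgroup.mem_center_iff.1 hza
      have hw := Subgroup.mem_center_iff.1 hzb
      rw [show a = a' * z by simp [z], show b = b' * w by simp [w]]
      simp only [commutatorElement_def]
      calc a' * z * (b' * w) * (a' * z)⁻¹ * (b' * w)⁻¹
          = a' * (z * (b' * w)) * z⁻¹ * a'⁻¹ * w⁻¹ * b'⁻¹ := by group
        _ = a' * b' * (w * a'⁻¹) * w⁻¹ * b'⁻¹ := by rw [← hz (b' * w)]; group
        _ = _ := by rw [← hw a'⁻¹]; group
    rw [e]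
    exact Subgroup.commutator_mem_commutator ha' hb'
  have hPcomm : commutator ↥P = ⊤ := by
    apply Subgroup.map_injective P.subtype_injective
    rw [Subgroup.map_subtype_commutator, ← MonoidHom.range_eq_map, Subgroup.range_subtype]
    exact le_antisymm (Subgroup.commutator_le.2 fun a ha b hb => by
      simp only [commutatorElement_def]
      exact P.mul_mem (P.mul_mem (P.mul_mem ha hb) (P.inv_mem ha)) (P.inv_mem hb)) hperf
  let p₁ : ↥P →* L₁ := (MonoidHom.fst L₁ L₂).comp P.subtype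
  let p₂ : ↥P →* L₂ := (MonoidHom.snd L₁ L₂).comp P.subtype
  have hp₁ : Function.Surjective p₁ := fun a => by
    obtain ⟨y, hy, e⟩ : a ∈ P.map (MonoidHom.fst L₁ L₂) := by rw [hP₁]; trivial
    exact ⟨⟨y, hy⟩, e⟩
  have hp₂ : Function.Surjective p₂ := fun a => by
    obtain ⟨y, hy, e⟩ : a ∈ P.map (MonoidHom.snd L₁ L₂) := by rw [hP₂]; trivial
    exact ⟨⟨y, hy⟩, e⟩
  let σ : ↥P →* Matrix.ProjectiveSpecialLinearGroup (Fin 3) F := π₁.comp p₁
  have hσ : Function.Surjective σ := hs₁.comp hp₁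
  have hker : Nat.card σ.ker ≤ 4 := by
    refine CfsgLib.Schur.L34.card_ker_le hF σ hσ ?_ ?_ (by rw [hPcomm]; exact le_top)
    · intro x hx
      exact Subgroup.mem_center_iff.2 fun g =>
        Subtype.ext (Subgroup.mem_center_iff.1 (hcen _ (hPle x.2) hx) g.1)
    · intro x hx
      refine Subtype.ext (Prod.ext (he₁ _ (hk₁ _ hx)) (he₂ _ (hk₂ _ ?_)))
      exact (show π₁ x.1.1 = π₂ x.1.2 from hPle x.2).symm.trans hx
  have hcardP : Nat.card ↥P ≤ 4 * Nat.card (Matrix.ProjectiveSpecialLinearGroup (Fin 3) F) := by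
    have h := Subgroup.card_mul_index σ.ker
    rw [Subgroup.index_ker, MonoidHom.range_eq_top.2 hσ, Subgroup.card_top] at h
    rw [← h]; exact Nat.mul_le_mul_right _ hker
  have hc₁' : Nat.card L₁ = 4 * Nat.card (Matrix.ProjectiveSpecialLinearGroup (Fin 3) F) := by
    rw [Subgroup.card_eq_card_quotient_mul_card_subgroup (Subgroup.center L₁), hc₁,
      Nat.card_congr e₁.toEquiv, mul_comm]
  have hc₂' : Nat.card L₂ = 4 * Nat.card (Matrix.ProjectiveSpecialLinearGroup (Fin 3) F) := by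
    rw [Subgroup.card_eq_card_quotient_mul_card_subgroup (Subgroup.center L₂), hc₂,
      Nat.card_congr e₂.toEquiv, mul_comm]
  have b₁ : Function.Bijective p₁ := (Nat.bijective_iff_surjective_and_card p₁).2
    ⟨hp₁, le_antisymm (hc₁'.symm ▸ hcardP) (Nat.card_le_card_of_surjective p₁ hp₁)⟩
  have b₂ : Function.Bijective p₂ := (Nat.bijective_iff_surjective_and_card p₂).2
    ⟨hp₂, le_antisymm (hc₂'.symm ▸ hcardP) (Nat.card_le_card_of_surjective p₂ hp₂)⟩
  exact ⟨(MulEquiv.ofBijective p₁ b₁).symm.trans (MulEquiv.ofBijective p₂ b₂)⟩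

end Cfsg.Agent.S5387
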