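import Cfsg.Statements.S5394
import Cfsg.Agent.Lib.Golay.Involutions

set_option autoImplicit false
open Cfsg

namespace Cfsg.Agent.S5394

open CfsgLib.Golay CfsgLib.Golay.Invol

/-- The automorphism group of the length-24 code built from the squares modulo 23 has exactly two conjugacy classes of involutions: an involution either fixes exactly the eight points of an octad or has no fixed points, both kinds occur, and any two involutions of the same kind are conjugate in the group. -/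
theorem result : (∀ g ∈ Cfsg.M24, orderOf g = 2 → (Finset.univ.filter fun p => g p = p) ∈ Cfsg.octads ∨ ∀ p, g p ≠ p) ∧ (∃ g ∈ Cfsg.M24, orderOf g = 2 ∧ (Finset.univ.filter fun p => g p = p) ∈ Cfsg.octads) ∧ (∃ g ∈ Cfsg.M24, orderOf g = 2 ∧ ∀ p, g p ≠ p) ∧ ∀ g ∈ Cfsg.M24, ∀ h ∈ Cfsg.M24, orderOf g = 2 → orderOf h = 2 → ((∀ p, g p ≠ p) ↔ (∀ p, h p ≠ p)) → ∃ k ∈ Cfsg.M24, k * g * k⁻¹ = h := by
  refine ⟨fun g hg h2 => ?_, ?_, ?_, fun g hg h hh h2 h2' hiff => ?_⟩
  · rcases two_classes hg h2 with ⟨h, -⟩ | ⟨h, -⟩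
    exacts [Or.inl h, Or.inr h]
  · obtain ⟨t, ht, -, h2, hf⟩ := exists_repA
    exact ⟨t, ht, h2, hf⟩
  · obtain ⟨t, ht, -, h2, hf⟩ := exists_repB
    exact ⟨t, ht, h2, hf⟩
  · have hexcl : ∀ x : Equiv.Perm GolayPt,
        (Finset.univ.filter fun p => x p = p) ∈ octads → ¬ ∀ p, x p ≠ p := by
      intro x hx hne
      have h8 := card_of_mem_octads hx
      rw [Finset.filter_false_of_mem (fun p _ => hne p), Finset.card_empty] at h8
      omega
    have key : ∀ k k' : Equiv.Perm GolayPt, k ∈ M24 → k' ∈ M24 →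
        toList (k * g * k⁻¹) = toList (k' * h * k'⁻¹) → ∃ j ∈ M24, j * g * j⁻¹ = h := by
      intro k k' hk hk' he
      refine ⟨k'⁻¹ * k, mul_mem (inv_mem hk') hk, ?_⟩
      rw [show k'⁻¹ * k * g * (k'⁻¹ * k)⁻¹ = k'⁻¹ * (k * g * k⁻¹) * k' by group, toList_injective he]
      group
    rcases two_classes hg h2 with ⟨a, k, hk, he⟩ | ⟨a, k, hk, he⟩ <;>
      rcases two_classes hh h2' with ⟨b, k', hk', he'⟩ | ⟨b, k', hk', he'⟩
    · exact key k k' hk hk' (he.trans he'.symm)
    · exact absurd (hiff.mpr b) (hexcl g a)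
    · exact absurd (hiff.mp a) (hexcl h b)
    · exact key k k' hk hk' (he.trans he'.symm)

end Cfsg.Agent.S5394
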