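import Cfsg.Statements.S5398
import Cfsg.Agent.Lib.ThreeTrans.TypeTop.InvolutionTypes

set_option autoImplicit false
open Cfsg

namespace Cfsg.Agent.S5398

/-- Let G be a finite group with trivial centre generated by a conjugation-invariant set D of 3-transpositions on which it acts primitively, such that for some d in D the subgroup generated by the members of D other than d commuting with d has central largest normal 2- and 3-subgroups, and suppose G with D is of type M(22). Then G has exactly 3 conjugacy classes of involutions: every involution is a product of m distinct pairwise commuting members of D for some m between 1 and 3; for each such m these products form one non-empty conjugacy class; and the value of m is determined by the involution. -/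
theorem result {G : Type*} [Group G] [Finite G] {D : Set G} (hD : Cfsg.IsThreeTranspositionGroup D) (hprim : Cfsg.IsPrimitiveUnderConj D) (d : G) (hd : d ∈ D) (h3 : Cfsg.pCore 3 ↥(Subgroup.closure {y : G | y ∈ D ∧ y ≠ d ∧ Commute d y}) ≤ Subgroup.center ↥(Subgroup.closure {y : G | y ∈ D ∧ y ≠ d ∧ Commute d y})) (h2 : Cfsg.pCore 2 ↥(Subgroup.closure {y : G | y ∈ D ∧ y ≠ d ∧ Commute d y}) ≤ Subgroup.center ↥(Subgroup.closure {y : G | y ∈ D ∧ y ≠ d ∧ Commute d y})) (ht : Cfsg.IsOfTypeM22 G D) : (∀ x : G, orderOf x = 2 → ∃ m : ℕ, 1 ≤ m ∧ m ≤ 3 ∧ (∃ l : List G, l.Nodup ∧ l.length = m ∧ (∀ a ∈ l, a ∈ D) ∧ (∀ a ∈ l, ∀ b ∈ l, Commute a b) ∧ l.prod = x)) ∧ (∀ m : ℕ, 1 ≤ m → m ≤ 3 → (∃ x : G, orderOf x = 2 ∧ (∃ l : List G, l.Nodup ∧ l.length = m ∧ (∀ a ∈ l, a ∈ D) ∧ (∀ a ∈ l, ∀ b ∈ l, Commute a b) ∧ l.prod = x)) ∧ ∀ x y : G, (∃ l : List G, l.Nodup ∧ l.length = m ∧ (∀ a ∈ l, a ∈ D) ∧ (∀ a ∈ l, ∀ b ∈ l, Commute a b) ∧ l.prod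 = x) → (∃ l : List G, l.Nodup ∧ l.length = m ∧ (∀ a ∈ l, a ∈ D) ∧ (∀ a ∈ l, ∀ b ∈ l, Commute a b) ∧ l.prod = y) → IsConj x y) ∧ ∀ (m m' : ℕ) (x : G), 1 ≤ m → m ≤ 3 → 1 ≤ m' → m' ≤ 3 → (∃ l : List G, l.Nodup ∧ l.length = m ∧ (∀ a ∈ l, a ∈ D) ∧ (∀ a ∈ l, ∀ b ∈ l, Commute a b) ∧ l.prod = x) → (∃ l : List G, l.Nodup ∧ l.length = m' ∧ (∀ a ∈ l, a ∈ D) ∧ (∀ a ∈ l, ∀ b ∈ l, Commute a b) ∧ l.prod = x) → m = m' := by
  have L := CfsgLib.ThreeTrans.Tower.local22 hD hprim ht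
  have hG := CfsgLib.ThreeTrans.good22 hD ht
  have h3' := hG.rel 3 (by norm_num) (by norm_num)
  have h4' := hG.rel 4 (by norm_num) (by norm_num)
  have h5' := hG.rel 5 (by norm_num) (by norm_num)
  refine ⟨fun x hx => ?_, fun m hm hm3 => ⟨?_, fun x y hx hy => ?_⟩, fun m m' x hm hm3 hm' hm3' hx hy => ?_⟩
  · exact CfsgLib.ThreeTrans.TypeTop.classify22 hD hprim ht
      (by rw [← pow_two, ← hx]; exact pow_orderOf_eq_one x) (fun e => by rw [e, orderOf_one] at hx; norm_num at hx)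
  · obtain ⟨x, hx⟩ := CfsgLib.ThreeTrans.TypeTop.exists_isProd L (by norm_num) (by norm_num) (by norm_num) hm hm3
    exact ⟨x, CfsgLib.ThreeTrans.TypeTop.orderOf_isProd hD.1 h3' hm hm3 hx, hx⟩
  · obtain ⟨p, c, F, _, _, π, hB, -, -, hloc, -⟩ := CfsgLib.ThreeTrans.Tower.bottom22 hD ht
    exact CfsgLib.ThreeTrans.TypeTop.conj_isProd
      (CfsgLib.ThreeTrans.Tower.stage_of_base hD hprim ht.1 hloc hB rfl) L hm hm3 hx hy
  · exact CfsgLib.ThreeTrans.TypeTop.length_unique hD.1 h3' h4' h5' hm hm3 hm' hm3' hx hy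

end Cfsg.Agent.S5398
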