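import Cfsg.Statements.S5401
import Cfsg.Agent.Lib.ThreeTrans.Inst.FiTwentyTwoModel
import Cfsg.Agent.Lib.ThreeTrans.Inst.FiTwentyThreeType
import Cfsg.Agent.Lib.ThreeTrans.Inst.FiTwentyFourType

set_option autoImplicit false
open Cfsg

namespace Cfsg.Agent.S5401

/-- Existence of the Fischer 3-transposition groups: there exist finite groups generated by a conjugacy class of 3-transpositions on which they act primitively that are of type M(22), of type M(23), and of type M(24) respectively. -/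
theorem result : (∃ (X : Type) (_ : Group X) (_ : Finite X) (E : Set X), Cfsg.IsThreeTranspositionClass E ∧ Cfsg.IsPrimitiveUnderConj E ∧ Cfsg.IsOfTypeM22 X E) ∧ (∃ (X : Type) (_ : Group X) (_ : Finite X) (E : Set X), Cfsg.IsThreeTranspositionClass E ∧ Cfsg.IsPrimitiveUnderConj E ∧ Cfsg.IsOfTypeM23 X E) ∧ (∃ (X : Type) (_ : Group X) (_ : Finite X) (E : Set X), Cfsg.IsThreeTranspositionClass E ∧ Cfsg.IsPrimitiveUnderConj E ∧ Cfsg.IsOfTypeM24 X E) := by
  open CfsgLib.ThreeTrans.Inst in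
  exact ⟨⟨Cfsg.Spor.Fi22, inferInstance, FiTwentyTwo.finite_fi22, FiTwentyTwo.D,
      ⟨FiTwentyTwo.isGroup.1, ⟨FiTwentyTwo.P.a, FiTwentyTwo.P.a_mem, rfl⟩, FiTwentyTwo.isGroup.2.2⟩,
      FiTwentyTwo.primitive, FiTwentyTwo.typeM22⟩,
    ⟨Cfsg.Spor.Fi23, inferInstance, FiTwentyThree.finite_fi23, FiTwentyThree.D, FiTwentyThree.isClass,
      FiTwentyThree.primitive, FiTwentyThree.typeM23⟩,
    ⟨Cfsg.Spor.Fi24, inferInstance, FiTwentyFour.finite_fi24, FiTwentyFour.D, FiTwentyFour.isClass,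
      FiTwentyFour.primitive, FiTwentyFour.typeM24⟩⟩

end Cfsg.Agent.S5401
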