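import Cfsg.Statements.S5449
import Cfsg.Agent.Lib.FischerTwoFour.FourCert.Quot

set_option autoImplicit false
open Cfsg

namespace Cfsg.Agent.S5449

/-- Let G be a finite group of large Fischer type at the involution z: the generalized Fitting subgroup Q of H = C_G(z) is extraspecial of order 2^13, H has normal subgroups Q ≤ H₁ ≤ H₂ with H₁/Q of order 3, H₂/H₁ the projective special unitary group of dimension 4 over the field with nine elements and H₂ of index 2 in H, and some conjugate of z other than z lies in Q. Then Q contains a four-group E, not containing z and containing an involution not conjugate to z in G, whose centralizer in G is quasisimple with quotient by E isomorphic to the projective special unitary group of dimension 6 over the field with four elements. -/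
theorem result {G : Type*} [Group G] [Finite G] (z : G) (Q : Subgroup (Subgroup.centralizer ({z} : Set G))) [Q.Normal] (hF : Cfsg.IsOfLargeFischerTypeAt z Q) : ∃ E : Subgroup G, E ≤ (Q.map (Subgroup.centralizer ({z} : Set G)).subtype) ∧ Cfsg.IsElementaryAbelian 2 E ∧ Nat.card E = 4 ∧ z ∉ E ∧ (∃ t ∈ E, orderOf t = 2 ∧ ¬ IsConj z t) ∧ Cfsg.IsQuasisimple ↥(Subgroup.centralizer (E : Set G)) ∧ ∃ (_ : (E.subgroupOf (Subgroup.centralizer (E : Set G))).Normal) (K : Type) (_ : Field K) (_ : Fintype K), Fintype.card K = 4 ∧ Nonempty (↥(Subgroup.centralizer (E : Set G)) ⧸ E.subgroupOf (Subgroup.centralizer (E : Set G)) ≃* Cfsg.PSU 6 K 2) := by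
  obtain ⟨Y, hQ, D, hout⟩ := CfsgLib.FischerTwoFour.exists_aData_outer hF
  have hpt : CfsgLib.FischerTwoFour.Cocode.HasPts Y := fun q hq hc hne hΦ =>
    CfsgLib.FischerTwoFour.exists_pt_at hF Y hQ hq hc hne hΦ
  open CfsgLib.FischerTwoFour.FourCert in
  refine ⟨four D, fun x hx => hQ ▸ (four_Bg D hx).2, ?_, card_four D, z_notMem_four D, ?_,
    quasisimple D hF hQ hpt hout, four_normal D, quot_psu D hF hQ hpt hout⟩
  · refine ⟨⟨⟨fun a b => Subtype.ext ?_⟩⟩, fun a ha => ?_⟩
    · exact D.A_comm (CfsgLib.FischerTwoFour.FourCert.four_Bg D a.2).1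
        (CfsgLib.FischerTwoFour.FourCert.four_Bg D b.2).1
    · rw [sq]
      exact D.A_sq _ (CfsgLib.FischerTwoFour.FourCert.four_Bg D ha).1
  · have h := CfsgLib.FischerTwoFour.FourCert.nc_code D (c := 1) (by simp)
    have : Fact (Nat.Prime 2) := ⟨Nat.prime_two⟩
    exact ⟨D.phi 1, CfsgLib.FischerTwoFour.FourCert.phi_mem_four D (by norm_num),
      orderOf_eq_prime (by rw [sq]; exact D.A_sq _ h.1) h.2.1, h.2.2⟩

end Cfsg.Agent.S5449
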