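import Cfsg.Statements.S5405
import Cfsg.Agent.Lib.HOne79.Data
import Cfsg.Agent.Lib.POmega.Forms

set_option autoImplicit false
open scoped MatrixGroups
open Cfsg

namespace Cfsg.Agent.S5405

open CfsgLib.Orth CfsgLib.POmega CfsgLib.HOne79

theorem binary_aniso : ∀ z₁ z₂ : ZMod 2, z₁ ^ 2 + 1 * z₁ * z₂ + 1 * z₂ ^ 2 = 0 → z₁ = 0 ∧ z₂ = 0 := by
  decide

theorem hgen_minusFour : reflClosure (minusQ 1 (ZMod 2) 1 1) = ⊤ := by
  refine (Subgroup.eq_top_iff' _).2 fun g =>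
    mem_reflClosure (minusQ_nondegenerate_any binary_aniso) (fun u v hu hv huv => ?_) g
  have key : ∀ k l : Fin 16,
      Cfsg.quadFormMinus 1 (ZMod 2) 1 1 (bitVec (posMinus 1) k.1) = 0 →
      Cfsg.quadFormMinus 1 (ZMod 2) 1 1 (bitVec (posMinus 1) l.1) = 0 →
      QuadraticMap.polar (Cfsg.quadFormMinus 1 (ZMod 2) 1 1) (bitVec (posMinus 1) k.1)
        (bitVec (posMinus 1) l.1) = 0 →
      bitVec (posMinus 1) k.1 = 0 ∨ bitVec (posMinus 1) l.1 = 0 ∨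
        bitVec (posMinus 1) l.1 = bitVec (posMinus 1) k.1 := by
    decide +kernel
  obtain ⟨k, rfl⟩ := minusFourData.surj u
  obtain ⟨l, rfl⟩ := minusFourData.surj v
  rw [← minusQ_coe] at key
  rcases key k l hu hv huv with h | h | h
  · rw [h, eich_zero_left]; exact Subgroup.one_mem _
  · rw [h, eich_zero_right hu]; exact Subgroup.one_mem _
  · rw [h]
    have := eich_smul_self (Q := minusQ 1 (ZMod 2) 1 1) hu (1 : ZMod 2)
    rw [one_smul] at this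
    rw [this]; exact Subgroup.one_mem _

/-- the relations `a² = b³ = (ab)⁵ = 1` leave only coboundaries -/
theorem relations_cobound : ∀ k l : Fin 16,
    let A := minusFourData.S ⟨0, by decide⟩ * minusFourData.S ⟨0, by decide⟩
    let B := minusFourData.S ⟨1, by decide⟩ * minusFourData.S ⟨1, by decide⟩
    let x := bitVec (posMinus 1) k.1
    let y := bitVec (posMinus 1) l.1
    x + A.mulVec x = 0 →
    y + B.mulVec (y + B.mulVec y) = 0 →
    (let c := x + A.mulVec y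
     let M := A * B
     c + M.mulVec (c + M.mulVec (c + M.mulVec (c + M.mulVec c))) = 0) →
    ∃ v : Fin 16, x = A.mulVec (bitVec (posMinus 1) v.1) - bitVec (posMinus 1) v.1 ∧
      y = B.mulVec (bitVec (posMinus 1) v.1) - bitVec (posMinus 1) v.1 := by
  decide +kernel

theorem minusFour_vanish (f : commutator (O (minusQ 1 (ZMod 2) 1 1)) → _) (hf : IsCocycle f) :
    IsCobound f := by
  have hQ := minusQ_nondegenerate_any (F := ZMod 2) (m := 1) binary_aniso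
  have hQ' := minusQ_coe (F := ZMod 2) 1 1 1
  set L := minusFourData.gen hQ' hQ hgen_minusFour with hL
  set a := L ⟨0, by decide⟩
  set b := L ⟨1, by decide⟩
  have happ : ∀ i x, app (L i).1 x = (minusFourData.S i * minusFourData.S i).mulVec x := minusFourData.app_gen hQ' hQ hgen_minusFour
  have hmat : ∀ g : commutator (O (minusQ 1 (ZMod 2) 1 1)), ∀ M : Matrix _ _ (ZMod 2),
      (∀ x, app g.1 x = M.mulVec x) → M = 1 → g = 1 := fun g M h hM =>
    Subtype.ext (ext_app fun x => by rw [h, hM, Matrix.one_mulVec, OneMemClass.coe_one, app_one])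
  set A := minusFourData.S ⟨0, by decide⟩ * minusFourData.S ⟨0, by decide⟩ with hA
  set B := minusFourData.S ⟨1, by decide⟩ * minusFourData.S ⟨1, by decide⟩ with hB
  have ha : ∀ x, app a.1 x = A.mulVec x := happ _
  have hb : ∀ x, app b.1 x = B.mulVec x := happ _
  have ra : a * a = 1 := hmat _ (A * A) (fun x => by
    rw [Subgroup.coe_mul, app_mul, ha, ha, Matrix.mulVec_mulVec]) (by rw [hA]; decide +kernel)
  have rb : b * (b * b) = 1 := hmat _ (B * (B * B)) (fun x => by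
    simp only [Subgroup.coe_mul, app_mul, hb, Matrix.mulVec_mulVec]) (by rw [hB]; decide +kernel)
  have rab : (a * b) * ((a * b) * ((a * b) * ((a * b) * (a * b)))) = 1 :=
    hmat _ ((A * B) * ((A * B) * ((A * B) * ((A * B) * (A * B))))) (fun x => by
      simp only [Subgroup.coe_mul, app_mul, ha, hb, Matrix.mulVec_mulVec, mul_assoc])
      (by rw [hA, hB]; decide +kernel)
  have e1 := hf a a
  rw [ra, cocycle_one hf, ha] at e1
  have e2 := hf b (b * b)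
  rw [rb, cocycle_one hf, hf b b, hb, hb] at e2
  have hab : ∀ x, app (a * b).1 x = (A * B).mulVec x := fun x => by
    rw [Subgroup.coe_mul, app_mul, ha, hb, Matrix.mulVec_mulVec]
  have e3 := hf (a * b) ((a * b) * ((a * b) * ((a * b) * (a * b))))
  rw [rab, cocycle_one hf, hf (a * b) ((a * b) * ((a * b) * (a * b))),
    hf (a * b) ((a * b) * (a * b)), hf (a * b) (a * b), hab, hab, hab, hab, hf a b, ha] at e3
  obtain ⟨k, hk⟩ := minusFourData.surj (f a)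
  obtain ⟨l, hl⟩ := minusFourData.surj (f b)
  obtain ⟨v, hv1, hv2⟩ := relations_cobound k l (by rw [hk]; exact e1.symm) (by rw [hl]; exact e2.symm)
    (by rw [hk, hl]; exact e3.symm)
  refine cobound_of_gens hQ hgen_minusFour hf L (minusFourData.genCert hQ' hQ hgen_minusFour)
    ⟨bitVec (posMinus 1) v.1, fun i => ?_⟩
  have hi : i = ⟨0, by decide⟩ ∨ i = ⟨1, by decide⟩ := by
    rcases i with ⟨i, hi⟩
    have : i < 2 := hi
    interval_cases i
    · exact Or.inl rfl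
    · exact Or.inr rfl
  rcases hi with rfl | rfl
  · rw [ha, ← hk]; exact hv1
  · rw [hb, ← hl]; exact hv2

theorem minusSix_vanish (f : commutator (O (minusQ 2 (ZMod 2) 1 1)) → _) (hf : IsCocycle f) :
    IsCobound f := by
  have hQ := minusQ_nondegenerate_any (F := ZMod 2) (m := 2) binary_aniso
  exact minusSixData.cobound_of_chain (minusQ_coe (F := ZMod 2) 2 1 1) hQ
    (reflClosure_eq_top hQ (Or.inr (by decide))) minusSixPath (by decide +kernel) (by decide +kernel)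
    (by decide +kernel) hf

theorem plusEight_vanish (f : commutator (O (plusQ 4 (ZMod 2))) → _) (hf : IsCocycle f) :
    IsCobound f := by
  have hQ := plusQ_nondegenerate (F := ZMod 2) 4
  exact plusEightData.cobound_of_chain (plusQ_coe (F := ZMod 2) 4) hQ
    (reflClosure_eq_top hQ (Or.inr (by decide))) plusEightPath (by decide +kernel) (by decide +kernel)
    (by decide +kernel) hf


/-- Vanishing of first cohomology on the natural module for three small orthogonal groups over the field with two elements: for the commutator subgroup of the isometry group of the elliptic quadratic form in dimension 4, of the elliptic form in dimension 6, and of the hyperbolic form in dimension 8, every crossed homomorphism into the natural module (a map f with f(gh) = f(g) + g·f(h)) is principal (of the form g ↦ g·v − v). -/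
theorem result : (∀ f : ↥(Cfsg.Omega (ZMod 2) (Cfsg.quadFormMinus 1 (ZMod 2) 1 1)) → ((Fin 1 ⊕ Fin 1) ⊕ Fin 2 → ZMod 2), (∀ g h : ↥(Cfsg.Omega (ZMod 2) (Cfsg.quadFormMinus 1 (ZMod 2) 1 1)), f (g * h) = f g + Matrix.mulVec (((g : ↥(Cfsg.isometryGroup (ZMod 2) (Cfsg.quadFormMinus 1 (ZMod 2) 1 1))) : GL ((Fin 1 ⊕ Fin 1) ⊕ Fin 2) (ZMod 2)) : Matrix ((Fin 1 ⊕ Fin 1) ⊕ Fin 2) ((Fin 1 ⊕ Fin 1) ⊕ Fin 2) (ZMod 2)) (f h)) → ∃ v : (Fin 1 ⊕ Fin 1) ⊕ Fin 2 → ZMod 2, ∀ g : ↥(Cfsg.Omega (ZMod 2) (Cfsg.quadFormMinus 1 (ZMod 2) 1 1)), f g = Matrix.mulVec (((g : ↥(Cfsg.isometryGroup (ZMod 2) (Cfsg.quadFormMinus 1 (ZMod 2) 1 1))) : GL ((Fin 1 ⊕ Fin 1) ⊕ Fin 2) (ZMod 2)) : Matrix ((Fin 1 ⊕ Fin 1) ⊕ Fin 2) ((Fin 1 ⊕ Fin 1) ⊕ Fin 2) (ZMod 2)) v - v) ∧ (∀ f : ↥(Cfsg.Omega (ZMod 2) (Cfsg.quadFormMinus 2 (ZMod 2) 1 1)) → ((Fin 2 ⊕ Fin 2) ⊕ Fin 2 → ZMod 2), (∀ g h : ↥(Cfsg.Omega (ZMod 2) (Cfsg.quadFormMinus 2 (ZMod 2) 1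 1)), f (g * h) = f g + Matrix.mulVec (((g : ↥(Cfsg.isometryGroup (ZMod 2) (Cfsg.quadFormMinus 2 (ZMod 2) 1 1))) : GL ((Fin 2 ⊕ Fin 2) ⊕ Fin 2) (ZMod 2)) : Matrix ((Fin 2 ⊕ Fin 2) ⊕ Fin 2) ((Fin 2 ⊕ Fin 2) ⊕ Fin 2) (ZMod 2)) (f h)) → ∃ v : (Fin 2 ⊕ Fin 2) ⊕ Fin 2 → ZMod 2, ∀ g : ↥(Cfsg.Omega (ZMod 2) (Cfsg.quadFormMinus 2 (ZMod 2) 1 1)), f g = Matrix.mulVec (((g : ↥(Cfsg.isometryGroup (ZMod 2) (Cfsg.quadFormMinus 2 (ZMod 2) 1 1))) : GL ((Fin 2 ⊕ Fin 2) ⊕ Fin 2) (ZMod 2)) : Matrix ((Fin 2 ⊕ Fin 2) ⊕ Fin 2) ((Fin 2 ⊕ Fin 2) ⊕ Fin 2) (ZMod 2)) v - v) ∧ (∀ f : ↥(Cfsg.Omega (ZMod 2) (Cfsg.quadFormPlus 4 (ZMod 2))) → (Fin 4 ⊕ Fin 4 → ZMod 2), (∀ g h : ↥(Cfsg.Omega (ZMod 2) (Cfsg.quadFormPlus 4 (ZMod 2))), f (g * h) = f g + Matrix.mulVec (((g : ↥(Cfsg.isometryGroup (ZMod 2) (Cfsg.quadFormPlus 4 (ZMod 2)))) : GL (Fin 4 ⊕ Fin 4) (ZMod 2)) : Matrix (Fin 4 ⊕ Fin 4) (Fin 4 ⊕ Fin 4) (ZMod 2)) (f h)) → ∃ v :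 Fin 4 ⊕ Fin 4 → ZMod 2, ∀ g : ↥(Cfsg.Omega (ZMod 2) (Cfsg.quadFormPlus 4 (ZMod 2))), f g = Matrix.mulVec (((g : ↥(Cfsg.isometryGroup (ZMod 2) (Cfsg.quadFormPlus 4 (ZMod 2)))) : GL (Fin 4 ⊕ Fin 4) (ZMod 2)) : Matrix (Fin 4 ⊕ Fin 4) (Fin 4 ⊕ Fin 4) (ZMod 2)) v - v) := by
  refine ⟨?_, ?_, ?_⟩
  · unfold Cfsg.Omega
    rw [← minusQ_coe]
    exact fun f hf => minusFour_vanish f hf
  · unfold Cfsg.Omega
    rw [← minusQ_coe]
    exact fun f hf => minusSix_vanish f hf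
  · unfold Cfsg.Omega
    rw [← plusQ_coe]
    exact fun f hf => plusEight_vanish f hf

end Cfsg.Agent.S5405
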