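import Cfsg.Statements.S5418
import Cfsg.Agent.Lib.MonsterType.HeldNorm.Main
-- import your own Cfsg.Agent.* helpers here

set_option autoImplicit false
open Cfsg

namespace Cfsg.Agent.S5418

/-- Let G be a finite group of Monster type at the involution z with Q the extraspecial normal subgroup of order 2^25 of C = C_G(z) (so C/Q is identified with the first Conway group with Q modulo its centre the Leech lattice modulo 2, and z is not weakly closed in Q). Let s be a conjugate of z in Q other than z and let B be a Sylow 7-subgroup of the joint centralizer of z and s. Then the centralizer of B has index 6 in the normalizer of B; and some involution inverting B induces, by conjugation, a non-inner automorphism of the layer of the centralizer of B. -/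
theorem result {G : Type*} [Group G] [Finite G] (z : G) (Q : Subgroup (Subgroup.centralizer ({z} : Set G))) [Q.Normal] (hM : Cfsg.IsOfMonsterType z Q) (s : G) (hsQ : ∃ hsc : s ∈ Subgroup.centralizer ({z} : Set G), (⟨s, hsc⟩ : Subgroup.centralizer ({z} : Set G)) ∈ Q) (hs : IsConj z s) (hs1 : s ≠ z) (B : Subgroup G) (hB : B ≤ Subgroup.centralizer ({z, s} : Set G)) (hBp : Nat.card B = 7 ^ (Nat.card ↥(Subgroup.centralizer ({z, s} : Set G))).factorization 7) : (Subgroup.centralizer (B : Set G)).relIndex (Subgroup.normalizer (B : Set G)) = 6 ∧ ∃ t : G, orderOf t = 2 ∧ (∀ b ∈ B, t * b * t⁻¹ = b⁻¹) ∧ (∀ x ∈ (Cfsg.layer ↥(Subgroup.centralizer (B : Set G))).map (Subgroup.centralizer (B : Set G)).subtype, t * x * t⁻¹ ∈ (Cfsg.layer ↥(Subgroup.centralizer (B : Set G))).map (Subgroup.centralizer (B : Set G)).subtype) ∧ ¬ ∃ l ∈ (Cfsg.layer ↥(Subgroup.centralizer (B : Set G))).map (Subgroup.centralizer (B : Set G)).subtype, ∀ x ∈ (Cfsg.layer ↥(Subgroup.centralizer (B : Set G))).map (Subgroup.centralizer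 (B : Set G)).subtype, t * x * t⁻¹ = l * x * l⁻¹ := by
  obtain ⟨hsc, hsQ⟩ := hsQ
  obtain ⟨e, ψ, b, hbz, hψ, rfl, hb, hbs, he⟩ :=
    CfsgLib.MonsterType.Held.exists_normal_position hM (x := ⟨⟨s, hsc⟩, hsQ⟩) hs hs1 hB hBp
  obtain ⟨t, ht2, htb⟩ := CfsgLib.MonsterType.HeldNorm.exists_inverter hM.1 hψ hb hbz he
  refine ⟨CfsgLib.MonsterType.HeldNorm.relIndex_eq_six hM.1 hψ hb hbz he, t, ?_, ?_, ?_, ?_⟩
  · refine orderOf_eq_prime (by rw [pow_two]; exact ht2) fun h => ?_
    rw [h, one_mul, mul_one] at htb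
    have h2 : b ^ 2 = 1 := by
      rw [pow_two]
      conv_lhs => arg 1; rw [htb]
      exact inv_mul_cancel b
    have := orderOf_dvd_of_pow_eq_one h2
    rw [hb] at this
    norm_num at this
  · intro a ha
    obtain ⟨n, rfl⟩ := Subgroup.mem_zpowers_iff.mp ha
    rw [← conj_zpow, inv_eq_of_mul_eq_one_right ht2, htb, inv_zpow]
  · intro x hx
    obtain ⟨y, hy, rfl⟩ := hx
    have hti : (t : G)⁻¹ = t := inv_eq_of_mul_eq_one_right ht2
    have hmem : ∀ h ∈ Subgroup.centralizer (Subgroup.zpowers b : Set G),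
        (t : G) * h * (t : G)⁻¹ ∈ Subgroup.centralizer (Subgroup.zpowers b : Set G) := by
      intro h hh
      rw [CfsgLib.MonsterType.Local.mem_centralizer_zpowers] at hh ⊢
      have htb' : (t : G)⁻¹ * b * t = b⁻¹ := by rw [hti, htb]
      calc (t : G) * h * (t : G)⁻¹ * b = (t : G) * (h * ((t : G)⁻¹ * b * t)) * (t : G)⁻¹ := by group
        _ = (t : G) * (b⁻¹ * h) * (t : G)⁻¹ := by
            rw [htb', ((show Commute h b from hh).inv_right).eq]
        _ = ((t : G) * b⁻¹ * (t : G)⁻¹) * ((t : G) * h * (t : G)⁻¹) := by group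
        _ = b * ((t : G) * h * (t : G)⁻¹) := by rw [← conj_inv, hti, htb, inv_inv]
    let α : ↥(Subgroup.centralizer (Subgroup.zpowers b : Set G)) ≃* ↥(Subgroup.centralizer (Subgroup.zpowers b : Set G)) :=
      { toFun := fun h => ⟨(t : G) * h * (t : G)⁻¹, hmem h h.2⟩
        invFun := fun h => ⟨(t : G) * h * (t : G)⁻¹, hmem h h.2⟩
        left_inv := fun h => Subtype.ext (by
          show (t : G) * ((t : G) * h * (t : G)⁻¹) * (t : G)⁻¹ = h
          calc _ = (t : G) * t * h * ((t : G) * t)⁻¹ := by group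
            _ = h := by rw [ht2]; group)
        right_inv := fun h => Subtype.ext (by
          show (t : G) * ((t : G) * h * (t : G)⁻¹) * (t : G)⁻¹ = h
          calc _ = (t : G) * t * h * ((t : G) * t)⁻¹ := by group
            _ = h := by rw [ht2]; group)
        map_mul' := fun h k => Subtype.ext (by
          show (t : G) * ((h : G) * k) * (t : G)⁻¹ = (t : G) * h * (t : G)⁻¹ * ((t : G) * k * (t : G)⁻¹)
          group) }
    exact ⟨α y, CfsgLib.Components.map_layer_equiv α ▸ ⟨y, hy, rfl⟩, rfl⟩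
  · rintro ⟨l, hl, hlt⟩
    have hlb : l * b = b * l := by
      obtain ⟨y, -, rfl⟩ := hl
      exact CfsgLib.MonsterType.Local.mem_centralizer_zpowers.mp y.2
    refine CfsgLib.MonsterType.HeldNorm.not_centralize_layer hM.1 hψ hb hbz he (r := s)
      (CfsgLib.MonsterType.Local.mem_fixQ.mpr ⟨CfsgLib.MonsterType.mem_qm.mpr ⟨hsc, hsQ⟩, hbs.symm⟩) hs hs1
      (x := l⁻¹ * t) ?_ fun x hx => ?_
    · calc l⁻¹ * (t : G) * b * (l⁻¹ * (t : G))⁻¹ = l⁻¹ * ((t : G) * b * (t : G)⁻¹) * l := by group
        _ = l⁻¹ * b⁻¹ * l := by rw [inv_eq_of_mul_eq_one_right ht2, htb]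
        _ = b⁻¹ := by rw [((show Commute l b from hlb).inv_left.inv_right).eq, inv_mul_cancel_right]
    · calc l⁻¹ * (t : G) * x = l⁻¹ * ((t : G) * x * (t : G)⁻¹) * t := by group
        _ = x * (l⁻¹ * t) := by rw [hlt x hx]; group

end Cfsg.Agent.S5418
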