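import Cfsg.Statements.S5421
import Cfsg.Agent.Lib.LargeExtra.Basic

set_option autoImplicit false
open Cfsg
open scoped commutatorElement

namespace Cfsg.Agent.S5421

/-- Let Q be an extraspecial 2-subgroup of the finite group G whose centralizer in G is its centre Z and which is normal in the centralizer of Z. If some involution b of Q outside Z has Z inside the largest normal 2-subgroup of the centralizer of b, then Q is a large extraspecial 2-subgroup of G. -/
theorem result {G : Type*} [Group G] [Finite G] (Q : Subgroup G) (hL1 : Cfsg.IsExtraspecial 2 ↥Q) (hL2 : Subgroup.centralizer (Q : Set G) = ((Subgroup.center ↥Q).map Q.subtype)) (hL3 : Subgroup.centralizer (((Subgroup.center ↥Q).map Q.subtype) : Set G) ≤ Subgroup.normalizer (Q : Set G)) (b : G) (hbQ : b ∈ Q) (hbZ : b ∉ ((Subgroup.center ↥Q).map Q.subtype)) (hb : orderOf b = 2) (hZ : ((Subgroup.center ↥Q).map Q.subtype) ≤ (Cfsg.pCore 2 ↥(Subgroup.centralizer ({b} : Set G))).map (Subgroup.centralizer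 ({b} : Set G)).subtype) : Cfsg.IsLargeExtraspecial Q := by
  refine ⟨hL1, hL2, hL3, fun K hK hQK => ?_⟩
  haveI : Fact (Nat.Prime 2) := ⟨Nat.prime_two⟩
  obtain ⟨z, hz2, hzQ, hZz⟩ := CfsgLib.LargeExtra.extraspecial_two_center hL1
  have hzZ : z ∈ (Subgroup.center ↥Q).map Q.subtype := hZz ▸ Subgroup.mem_zpowers z
  have hzc : ∀ q ∈ Q, z * q = q * z := by
    intro q hq
    obtain ⟨c, hc, hcz⟩ := hzZ
    rw [← hcz]
    exact (congrArg Subtype.val (Subgroup.mem_center_iff.mp hc ⟨q, hq⟩)).symm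
  have hcz : ∀ {k : G}, k ∈ K → z * k = k * z → k = 1 := by
    intro k hk hkz
    refine CfsgLib.LargeExtra.odd_trivial_of_centralizes_centre hL1 hL2 hL3 hK hQK hk ?_
    intro y hy
    rw [hZz, Subgroup.mem_zpowers_iff] at hy
    obtain ⟨n, rfl⟩ := hy
    exact ((Commute.zpow_left hkz n).eq)
  -- `b` fixes no element of `K`
  have hbfix : ∀ k ∈ K, b * k = k * b → k = 1 := by
    intro k hk hkb
    refine hcz hk ?_
    have h1 : z * k * z⁻¹ * k⁻¹ ∈ K :=
      mul_mem ((Subgroup.mem_normalizer_iff.mp (hQK hzQ) k).mp hk) (inv_mem hk)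
    set C := Subgroup.centralizer ({b} : Set G) with hC
    obtain ⟨zc, hzc', hzcv⟩ := hZ hzZ
    let kc : C := ⟨k, Subgroup.mem_centralizer_singleton_iff.mpr hkb.symm⟩
    have h2 : zc * kc * zc⁻¹ * kc⁻¹ ∈ pCore 2 C := by
      have := (CfsgLib.LargeExtra.pCore_normal' 2 C).conj_mem zc⁻¹ (inv_mem hzc') kc
      have h := mul_mem hzc' this
      simpa [mul_assoc] using h
    have h3 : zc * kc * zc⁻¹ * kc⁻¹ ∈ (K.subgroupOf C) := by
      rw [Subgroup.mem_subgroupOf]
      rw [Subgroup.coe_subtype] at hzcv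
      simpa [kc, hzcv] using h1
    have hoddC : Odd (Nat.card (K.subgroupOf C)) :=
      hK.of_dvd_nat (Subgroup.card_comap_dvd_of_injective K C.subtype C.subtype_injective)
    have h4 := CfsgLib.LargeExtra.odd_inf_two hoddC (CfsgLib.LargeExtra.pCore_isPGroup' 2 C) h3 h2
    have h5 : z * k * z⁻¹ * k⁻¹ = 1 := by
      rw [Subgroup.coe_subtype] at hzcv
      simpa [kc, hzcv] using congrArg Subtype.val h4
    exact mul_inv_eq_iff_eq_mul.mp (mul_inv_eq_one.mp h5)
  have hb2 : b * b = 1 := by rw [← sq, ← hb]; exact pow_orderOf_eq_one b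
  have hinv : ∀ k ∈ K, b * k * b⁻¹ = k⁻¹ := fun k hk =>
    CfsgLib.LargeExtra.inverts_of_fixed_point_free hK (hQK hbQ) hb2 hbfix hk
  -- some conjugate of `b` in `Q` equals `b * z`
  obtain ⟨y, hy, hyb⟩ : ∃ y ∈ Q, y * b * y⁻¹ = z * b := by
    by_contra hne
    push Not at hne
    refine hbZ ⟨⟨b, hbQ⟩, Subgroup.mem_center_iff.mpr fun y => ?_, rfl⟩
    have hcomm : (y : G) * b * (y : G)⁻¹ * b⁻¹ ∈ (Subgroup.center ↥Q).map Q.subtype := by
      refine ⟨⁅y, (⟨b, hbQ⟩ : Q)⁆, ?_, rfl⟩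
      rw [← hL1.1.2.2]
      exact Subgroup.commutator_mem_commutator (Subgroup.mem_top _) (Subgroup.mem_top _)
    rw [hZz, Subgroup.mem_zpowers_iff] at hcomm
    obtain ⟨n, hn⟩ := hcomm
    have hz' : z ^ (2 : ℕ) = 1 := hz2 ▸ pow_orderOf_eq_one z
    rcases Int.emod_two_eq_zero_or_one n with h | h
    · rw [← Int.emod_add_mul_ediv n 2, h, zero_add, zpow_mul] at hn
      norm_num [hz'] at hn
      have : (y : G) * b * (y : G)⁻¹ = b := mul_inv_eq_one.mp hn.symm
      exact Subtype.ext (mul_inv_eq_iff_eq_mul.mp this)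
    · rw [← Int.emod_add_mul_ediv n 2, h, zpow_add, zpow_mul] at hn
      norm_num [hz'] at hn
      exact absurd (by rw [hn]; group) (hne y y.2)
  rw [Subgroup.eq_bot_iff_forall]
  intro k hk
  refine hcz hk ?_
  have hk' : y⁻¹ * k * y ∈ K := by
    simpa using (Subgroup.mem_normalizer_iff.mp (hQK (inv_mem hy)) k).mp hk
  have hzb : (z * b) * k * (z * b)⁻¹ = k⁻¹ := by
    rw [← hyb]
    calc y * b * y⁻¹ * k * (y * b * y⁻¹)⁻¹ = y * (b * (y⁻¹ * k * y) * b⁻¹) * y⁻¹ := by group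
      _ = y * (y⁻¹ * k * y)⁻¹ * y⁻¹ := by rw [hinv _ hk']
      _ = k⁻¹ := by group
  have := CfsgLib.LargeExtra.commute_mul_of_inverts hzb (hinv k hk)
  rwa [mul_assoc z b b, hb2, mul_one] at this

end Cfsg.Agent.S5421
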