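import Cfsg.Statements.S5422
import Cfsg.Agent.Lib.LargeExtra.Pair

set_option autoImplicit false
open Cfsg

namespace Cfsg.Agent.S5422

/-- Let Q be an extraspecial 2-subgroup of the finite group G whose centralizer in G is its centre Z and which is normal in the centralizer of Z; suppose Q has width at least 2 (order 2^(2w+1) with w ≥ 2) and g is an element of G not normalizing Z with g Z g⁻¹ inside Q. Then Z lies inside g Q g⁻¹; writing V for the subgroup generated by Z and g Z g⁻¹ (a four-group), the normalizer of V induces on V its full automorphism group, that is, the centralizer of V has index 6 in the normalizer of V; and Q is a large extraspecial 2-subgroup of G. -/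
theorem result {G : Type*} [Group G] [Finite G] (Q : Subgroup G) (hL1 : Cfsg.IsExtraspecial 2 ↥Q) (hL2 : Subgroup.centralizer (Q : Set G) = ((Subgroup.center ↥Q).map Q.subtype)) (hL3 : Subgroup.centralizer (((Subgroup.center ↥Q).map Q.subtype) : Set G) ≤ Subgroup.normalizer (Q : Set G)) (w : ℕ) (hw : 2 ≤ w) (hcard : Nat.card ↥Q = 2 ^ (2 * w + 1)) (g : G) (hg : g ∉ Subgroup.normalizer (((Subgroup.center ↥Q).map Q.subtype) : Set G)) (hZg : (((Subgroup.center ↥Q).map Q.subtype)).map (MulAut.conj g).toMonoidHom ≤ Q) : ((Subgroup.center ↥Q).map Q.subtype) ≤ (Q).map (MulAut.conj g).toMonoidHom ∧ (Subgroup.centralizer ((((Subgroup.center ↥Q).map Q.subtype) ⊔ (((Subgroup.center ↥Q).map Q.subtype)).map (MulAut.conj g).toMonoidHom : Subgroup G) : Set G)).relIndex (Subgroup.normalizer ((((Subgroup.center ↥Q).map Q.subtype) ⊔ (((Subgroup.center ↥Q).map Q.subtype)).map (MulAut.conj g).toMonoidHom : Subgroup G) : Set G)) = 6 ∧ Cfsg.IsLargeExtraspecial Q := by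
  classical
  obtain ⟨z, hz⟩ := CfsgLib.LargeExtra.ExtraAt.exists_of hL1
  have hmap : ((Subgroup.center ↥Q).map Q.subtype).map (MulAut.conj g).toMonoidHom = Subgroup.zpowers (g * z * g⁻¹) := by
    rw [hz.centre, MonoidHom.map_zpowers]
    rfl
  rw [hmap, Subgroup.zpowers_le] at hZg
  have hne : g * z * g⁻¹ ≠ z := by
    intro e
    refine hg ?_
    rw [hz.centre, Subgroup.mem_normalizer_iff]
    intro x
    have e' : g * z = z * g := mul_inv_eq_iff_eq_mul.mp e
    rw [hz.mem_zpowers_z, hz.mem_zpowers_z]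
    constructor
    · rintro (rfl | rfl)
      · exact Or.inl (by group)
      · exact Or.inr e
    · rintro (h | h)
      · exact Or.inl (conj_eq_one_iff.mp h)
      · refine Or.inr ?_
        rw [← e] at h
        simpa using h
  have hCz : Subgroup.centralizer ({z} : Set G) ≤ Subgroup.normalizer (Q : Set G) := by
    refine le_trans ?_ hL3
    intro x hx
    rw [Subgroup.mem_centralizer_singleton_iff] at hx
    rw [hz.centre, Subgroup.mem_centralizer_iff]
    intro t ht
    obtain ⟨n, rfl⟩ := Subgroup.mem_zpowers_iff.mp ht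
    exact (Commute.zpow_left hx.symm n).eq
  have h : CfsgLib.LargeExtra.PairAt Q z g := ⟨hz, hL2, hCz, hZg, hne⟩
  have h32 : 32 ≤ Nat.card Q := by
    rw [hcard]
    calc 32 = 2 ^ 5 := by norm_num
      _ ≤ 2 ^ (2 * w + 1) := Nat.pow_le_pow_right (by norm_num) (by omega)
  have hzW := h.z_mem_W h32
  refine ⟨?_, ?_, h.isLarge h32⟩
  · rw [hz.centre, Subgroup.zpowers_le]
    exact hzW
  rw [hmap, hz.centre]
  set s := g * z * g⁻¹ with hs
  set V := Subgroup.zpowers z ⊔ Subgroup.zpowers s with hV
  obtain ⟨y, hy, hys⟩ := h.exists_swap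
  obtain ⟨u, hu, hus⟩ := h.exists_swap' h32
  rw [← hs] at hys hus
  have hss : s * s = 1 := h.s_sq
  have hzs : s * z = z * s := hz.comm_z hZg
  have hzV : z ∈ V := Subgroup.mem_sup_left (Subgroup.mem_zpowers z)
  have hsV : s ∈ V := Subgroup.mem_sup_right (Subgroup.mem_zpowers s)
  have hVmem : ∀ x ∈ V, x = 1 ∨ x = z ∨ x = s ∨ x = z * s := by
    intro x hx
    rw [hV, Subgroup.zpowers_eq_closure, Subgroup.zpowers_eq_closure, ← Subgroup.closure_union] at hx
    induction hx using Subgroup.closure_induction with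
    | mem x hx => rcases hx with rfl | rfl <;> simp
    | one => exact Or.inl rfl
    | mul a b _ _ ha hb =>
      rcases ha with rfl | rfl | rfl | rfl <;> rcases hb with rfl | rfl | rfl | rfl <;>
        (try simp only [one_mul, mul_one, true_or, or_true, hz.sq_one, hss, hzs]) <;>
        first
          | exact Or.inl rfl
          | exact Or.inr (Or.inr (Or.inl (by rw [← mul_assoc, hz.sq_one, one_mul])))
          | exact Or.inr (Or.inl (by rw [← mul_assoc, hzs, mul_assoc, hss, mul_one]))
          | exact Or.inr (Or.inl (by rw [mul_assoc, hss, mul_one]))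
          | exact Or.inr (Or.inr (Or.inl (by rw [mul_assoc, hzs, ← mul_assoc, hz.sq_one, one_mul])))
          | exact Or.inl (by rw [show z * s * (z * s) = z * (s * z) * s by group, hzs,
              show z * (z * s) * s = (z * z) * (s * s) by group, hz.sq_one, hss, one_mul])
    | inv a _ ha =>
      rcases ha with rfl | rfl | rfl | rfl
      · exact Or.inl inv_one
      · exact Or.inr (Or.inl hz.inv_eq)
      · exact Or.inr (Or.inr (Or.inl h.s_inv))
      · exact Or.inr (Or.inr (Or.inr (by rw [mul_inv_rev, hz.inv_eq, h.s_inv, hzs])))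
  -- the pairs of distinct involutions of `V`
  set T : Finset (G × G) := (({z, s, z * s} : Finset G)).offDiag with hT
  have hcardT : T.card = 6 := by
    have h1 : z ≠ z * s := fun e => h.s_ne_one (mul_eq_left.mp e.symm)
    have h2 : s ≠ z * s := fun e => hz.ne_one (mul_eq_right.mp e.symm)
    have hc : ({z, s, z * s} : Finset G).card = 3 :=
      Finset.card_eq_three.mpr ⟨z, s, z * s, hne.symm, h1, h2, rfl⟩
    rw [hT, Finset.offDiag_card, hc]
  set N := Subgroup.normalizer (V : Set G) with hN
  have hmemN : ∀ x : G, x * z * x⁻¹ ∈ V → x * s * x⁻¹ ∈ V → x ∈ N := by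
    intro x h1 h2
    have hle : V.map (MulAut.conj x).toMonoidHom ≤ V := by
      rw [hV, Subgroup.map_sup, MonoidHom.map_zpowers, MonoidHom.map_zpowers]
      exact sup_le (Subgroup.zpowers_le.mpr h1) (Subgroup.zpowers_le.mpr h2)
    have heq : V.map (MulAut.conj x).toMonoidHom = V :=
      Subgroup.eq_of_le_of_card_ge hle (le_of_eq
        (Subgroup.card_map_of_injective (MulAut.conj x).injective).symm)
    rw [hN, Subgroup.mem_normalizer_iff]
    intro a
    constructor
    · exact fun ha => hle ⟨a, ha, rfl⟩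
    · intro ha
      rw [← heq] at ha
      obtain ⟨b, hb, hba⟩ := ha
      exact (MulAut.conj x).injective hba ▸ hb
  let f : N ⧸ (Subgroup.centralizer (V : Set G)).subgroupOf N → G × G :=
    Quotient.lift (fun x : N => ((x : G) * z * (x : G)⁻¹, (x : G) * s * (x : G)⁻¹)) (by
      intro a b hab
      replace hab := QuotientGroup.leftRel_apply.mp hab
      rw [Subgroup.mem_subgroupOf, Subgroup.mem_centralizer_iff] at hab
      have h1 := hab z hzV
      have h2 := hab s hsV
      simp only [Subgroup.coe_mul, Subgroup.coe_inv] at h1 h2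
      refine Prod.ext ?_ ?_
      · calc (a : G) * z * (a : G)⁻¹ = (a : G) * (z * ((a : G)⁻¹ * b)) * (b : G)⁻¹ := by group
          _ = (b : G) * z * (b : G)⁻¹ := by rw [h1]; group
      · calc (a : G) * s * (a : G)⁻¹ = (a : G) * (s * ((a : G)⁻¹ * b)) * (b : G)⁻¹ := by group
          _ = (b : G) * s * (b : G)⁻¹ := by rw [h2]; group)
  have hinj : Function.Injective f := by
    rintro a' b' hab
    obtain ⟨a, rfl⟩ := QuotientGroup.mk_surjective a'
    obtain ⟨b, rfl⟩ := QuotientGroup.mk_surjective b'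
    have h1 : (a : G) * z * (a : G)⁻¹ = (b : G) * z * (b : G)⁻¹ := congrArg Prod.fst hab
    have h2 : (a : G) * s * (a : G)⁻¹ = (b : G) * s * (b : G)⁻¹ := congrArg Prod.snd hab
    rw [QuotientGroup.eq, Subgroup.mem_subgroupOf, Subgroup.mem_centralizer_iff]
    intro x hx
    simp only [Subgroup.coe_mul, Subgroup.coe_inv]
    have hzc : z * ((a : G)⁻¹ * b) = (a : G)⁻¹ * b * z := by
      calc z * ((a : G)⁻¹ * b) = (a : G)⁻¹ * ((a : G) * z * (a : G)⁻¹) * b := by group
        _ = (a : G)⁻¹ * b * z := by rw [h1]; group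
    have hsc : s * ((a : G)⁻¹ * b) = (a : G)⁻¹ * b * s := by
      calc s * ((a : G)⁻¹ * b) = (a : G)⁻¹ * ((a : G) * s * (a : G)⁻¹) * b := by group
        _ = (a : G)⁻¹ * b * s := by rw [h2]; group
    rcases hVmem x hx with rfl | rfl | rfl | rfl
    · group
    · exact hzc
    · exact hsc
    · exact ((show Commute z _ from hzc).mul_left hsc).eq
  have hrange : ∀ p, (∃ q, f q = p) ↔ p ∈ T := by
    intro p
    constructor
    · rintro ⟨q, rfl⟩
      obtain ⟨x, rfl⟩ := QuotientGroup.mk_surjective q
      have hin : ∀ t ∈ V, (x : G) * t * (x : G)⁻¹ ∈ V := fun t ht => (Subgroup.mem_normalizer_iff.mp x.2 t).mp ht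
      have hnz : ∀ t ∈ V, t ≠ 1 → (x : G) * t * (x : G)⁻¹ ∈ ({z, s, z * s} : Finset G) := by
        intro t ht ht1
        rcases hVmem _ (hin t ht) with e | e | e | e
        · exact absurd (conj_eq_one_iff.mp e) ht1
        all_goals rw [e]; simp
      show ((x : G) * z * (x : G)⁻¹, (x : G) * s * (x : G)⁻¹) ∈ T
      rw [hT, Finset.mem_offDiag]
      exact ⟨hnz z hzV hz.ne_one, hnz s hsV h.s_ne_one, fun e => hne (by simpa using e.symm)⟩
    · intro hp
      have huN : u * z * u⁻¹ = z * s := hus.trans hzs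
      have hu_s : u * s * u⁻¹ = s := mul_inv_eq_iff_eq_mul.mpr (h.W_comm_s hu)
      have hy_z : y * z * y⁻¹ = z := mul_inv_eq_iff_eq_mul.mpr (hz.comm_z hy)
      have hzsV : z * s ∈ V := mul_mem hzV hsV
      have hyN : y ∈ N := hmemN y (by rw [hy_z]; exact hzV) (by rw [hys]; exact hzsV)
      have huN' : u ∈ N := hmemN u (by rw [huN]; exact hzsV) (by rw [hu_s]; exact hsV)
      have c1 : ∀ (c : G) (t1 t2 : G), c * (t1 * t2) * c⁻¹ = (c * t1 * c⁻¹) * (c * t2 * c⁻¹) := fun c t1 t2 => by group
      have c2 : ∀ (c d t : G), (c * d) * t * (c * d)⁻¹ = c * (d * t * d⁻¹) * c⁻¹ := fun c d t => by group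
      have hyzs : y * (z * s) * y⁻¹ = s := by rw [c1, hy_z, hys, ← mul_assoc, hz.sq_one, one_mul]
      have huzs : u * (z * s) * u⁻¹ = z := by rw [c1, huN, hu_s, mul_assoc, hss, mul_one]
      have build : ∀ (c : G) (hc : c ∈ N) (p1 p2 : G), c * z * c⁻¹ = p1 → c * s * c⁻¹ = p2 → ∃ q, f q = (p1, p2) :=
        fun c hc p1 p2 e1 e2 => ⟨QuotientGroup.mk ⟨c, hc⟩, Prod.ext e1 e2⟩
      rw [hT, Finset.mem_offDiag] at hp
      obtain ⟨p1, p2⟩ := p
      obtain ⟨h1, h2, h12⟩ := hp
      simp only [Finset.mem_insert, Finset.mem_singleton] at h1 h2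
      rcases h1 with e1 | e1 | e1 <;> rcases h2 with e2 | e2 | e2 <;> rw [e1, e2] at h12 ⊢
      · exact absurd rfl h12
      · exact build 1 (one_mem _) z s (by group) (by group)
      · exact build y hyN z (z * s) hy_z hys
      · exact build (y * u * y) (mul_mem (mul_mem hyN huN') hyN) s z
          (by rw [c2, hy_z, c2, huN, hyzs]) (by rw [c2, hys, c2, huzs, hy_z])
      · exact absurd rfl h12
      · exact build (y * u) (mul_mem hyN huN') s (z * s) (by rw [c2, huN, hyzs]) (by rw [c2, hu_s, hys])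
      · exact build (u * y) (mul_mem huN' hyN) (z * s) z (by rw [c2, hy_z, huN]) (by rw [c2, hys, huzs])
      · exact build u huN' (z * s) s huN hu_s
      · exact absurd rfl h12
  have e : N ⧸ (Subgroup.centralizer (V : Set G)).subgroupOf N ≃ T :=
    (Equiv.ofInjective f hinj).trans (Equiv.subtypeEquivRight fun p => (hrange p))
  rw [Subgroup.relIndex, Subgroup.index, Nat.card_congr e, Nat.card_eq_fintype_card, Fintype.card_coe, hcardT]

end Cfsg.Agent.S5422
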