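import Cfsg.Statements.S5423
import Cfsg.Agent.Lib.LargeExtra.HoloUse

set_option autoImplicit false
open Cfsg

namespace Cfsg.Agent.S5423

/-- Let G be a finite group that is the split extension of an elementary abelian normal subgroup U of order 2^(n+1), n ≥ 1, by its full automorphism group: U has a complement M in G whose conjugation action on U is faithful and realizes every automorphism of U. Let Z be a subgroup of U of order 2 and Q the largest normal 2-subgroup of the centralizer C of Z. Then Q is extraspecial of order 2^(2n+1) with an elementary abelian subgroup of order 2^(n+1) (plus type), Q is a large extraspecial 2-subgroup of G, and C is the split extension of Q by the general linear group of degree n over the field with two elements. -/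
theorem result {G : Type*} [Group G] [Finite G] (n : ℕ) (hn : 1 ≤ n) (U M : Subgroup G) [U.Normal] (hU : Cfsg.IsElementaryAbelian 2 U) (hUcard : Nat.card ↥U = 2 ^ (n + 1)) (hUM : U ⊓ M = ⊥) (hUM' : U ⊔ M = ⊤) (hfaith : ∀ m ∈ M, (∀ u ∈ U, m * u * m⁻¹ = u) → m = 1) (hfull : ∀ φ : ↥U ≃* ↥U, ∃ m ∈ M, ∀ u : ↥U, ((φ u : ↥U) : G) = m * u * m⁻¹) (Z : Subgroup G) (hZU : Z ≤ U) (hZ : Nat.card ↥Z = 2) (Q : Subgroup G) (hQ : Q = (Cfsg.pCore 2 ↥(Subgroup.centralizer (Z : Set G))).map (Subgroup.centralizer (Z : Set G)).subtype) : Cfsg.IsExtraspecial 2 ↥Q ∧ Nat.card ↥Q = 2 ^ (2 * n + 1) ∧ (∃ E : Subgroup G, E ≤ Q ∧ Cfsg.IsElementaryAbelian 2 E ∧ Nat.card ↥E = 2 ^ (n + 1)) ∧ Cfsg.IsLargeExtraspecial Q ∧ ∃ K : Subgroup G, K ≤ Subgroup.centralizer (Z : Set G) ∧ Q ⊓ K = ⊥ ∧ Q ⊔ K = Subgroup.centralizer (Z : Set G) ∧ Nonempty (↥K ≃* Matrix.GeneralLinearGroup (Fin n) (ZMod 2)) := by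
  haveI : Fact (Nat.Prime 2) := ⟨Nat.prime_two⟩
  obtain ⟨z, hz1, hzu⟩ : ∃ z, z ∈ Z ∧ z ≠ 1 := by
    by_contra h
    push Not at h
    rw [(Subgroup.eq_bot_iff_forall Z).mpr h, Subgroup.card_bot] at hZ
    omega
  have hzo : orderOf z = 2 := by
    have h := orderOf_dvd_natCard (⟨z, hz1⟩ : Z)
    rw [hZ, Subgroup.orderOf_mk] at h
    exact (Nat.prime_two.eq_one_or_self_of_dvd _ h).resolve_left (fun e => hzu (orderOf_eq_one_iff.mp e))
  have hZz : Z = Subgroup.zpowers z :=
    (Subgroup.eq_of_le_of_card_ge (Subgroup.zpowers_le.mpr hz1) (by rw [Nat.card_zpowers, hzo, hZ])).symm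
  have hC : Subgroup.centralizer (Z : Set G) = Subgroup.centralizer ({z} : Set G) := by
    rw [hZz, Subgroup.zpowers_eq_closure, Subgroup.centralizer_closure]
  obtain ⟨D, rfl, hDU⟩ := CfsgLib.LargeExtra.Holo.exists_model n U M hU hUcard hUM hUM' hfaith hfull (hZU hz1) hzu
  have hQ' : Q = D.qsub := by
    rw [hQ]
    convert D.pCore_eq using 3 <;> rw [hC]
  subst hQ'
  have hE := D.extraAt_qsub hn
  obtain ⟨hK, hinf, hsup, hiso⟩ := D.ksub_facts
  refine ⟨hE.extra, D.card_qsub, D.exists_elementaryAbelian, ?_, D.ksub, hC ▸ hK, hinf, hC ▸ hsup, hiso⟩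
  refine Cfsg.Agent.S5420.result _ hE.extra (D.centralizer_qsub hn) ?_ ?_
  · rw [hE.centre]
    refine le_trans (Subgroup.centralizer_le ?_) D.centralizer_le_normalizer
    simp
  · rw [hE.centre, Subgroup.zpowers_le]
    have hp : IsPGroup 2 U := fun a => ⟨1, Subtype.ext (by rw [pow_one]; exact hU.2 _ a.2)⟩
    exact (le_sSup ⟨inferInstance, hp⟩ : U ≤ Cfsg.pCore 2 G) (hDU _)

end Cfsg.Agent.S5423
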