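import Cfsg.Statements.S5424
import Cfsg.Agent.Lib.LargeExtra.SLModel
import Cfsg.Agent.Lib.LargeExtra.HoloUse
import Cfsg.Agent.Lib.LargeExtra.Transport
import Cfsg.Agent.S5422

set_option autoImplicit false
open Cfsg

namespace Cfsg.Agent.S5424

/-- Let G be the special linear group of degree n + 2 over the field with two elements, n ≥ 2, let z be a transvection, and let Q be the largest normal 2-subgroup of the centralizer C of z. Then Q is extraspecial of order 2^(2n+1) with an elementary abelian subgroup of order 2^(n+1) (plus type), Q is a large extraspecial 2-subgroup of G, and C is the split extension of Q by the special linear group of degree n over the field with two elements. -/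
theorem result (n : ℕ) (hn : 2 ≤ n) (z : Matrix.SpecialLinearGroup (Fin (n + 2)) (ZMod 2)) (hz : (z : Matrix (Fin (n + 2)) (Fin (n + 2)) (ZMod 2)) = Matrix.transvection 0 1 1) (Q : Subgroup (Matrix.SpecialLinearGroup (Fin (n + 2)) (ZMod 2))) (hQ : Q = (Cfsg.pCore 2 ↥(Subgroup.centralizer ({z} : Set (Matrix.SpecialLinearGroup (Fin (n + 2)) (ZMod 2))))).map (Subgroup.centralizer ({z} : Set (Matrix.SpecialLinearGroup (Fin (n + 2)) (ZMod 2)))).subtype) : Cfsg.IsExtraspecial 2 ↥Q ∧ Nat.card ↥Q = 2 ^ (2 * n + 1) ∧ (∃ E : Subgroup (Matrix.SpecialLinearGroup (Fin (n + 2)) (ZMod 2)), E ≤ Q ∧ Cfsg.IsElementaryAbelian 2 E ∧ Nat.card ↥E = 2 ^ (n + 1)) ∧ Cfsg.IsLargeExtraspecial Q ∧ ∃ K : Subgroup (Matrix.SpecialLinearGroup (Fin (n + 2)) (ZMod 2)), K ≤ Subgroup.centralizer ({z} : Set (Matrix.SpecialLinearGroup (Fin (n + 2)) (ZMod 2))) ∧ Q ⊓ K = ⊥ ∧ Q ⊔ K = Subgroup.centralizer ({z} : Set (Matrix.SpecialLinearGroup (Fin (n + 2)) (ZMod 2))) ∧ Nonempty (↥K ≃* Matrix.SpecialLinearGroup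 (Fin n) (ZMod 2)) := by
  haveI : Fact (Nat.Prime 2) := ⟨Nat.prime_two⟩
  let D := CfsgLib.LargeExtra.Holo.slModel n
  let P := CfsgLib.LargeExtra.Holo.pstab n
  have hzD : (D.zz : Matrix.SpecialLinearGroup (Fin (n + 2)) (ZMod 2)) = z :=
    Subtype.ext ((CfsgLib.LargeExtra.Holo.slModel_zz n).trans hz.symm)
  set C := Subgroup.centralizer ({z} : Set (Matrix.SpecialLinearGroup (Fin (n + 2)) (ZMod 2))) with hC
  set CP := Subgroup.centralizer ({D.zz} : Set P) with hCP
  have hmap : CP.map P.subtype = C := by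
    ext x
    constructor
    · rintro ⟨y, hy, rfl⟩
      rw [hC, Subgroup.mem_centralizer_singleton_iff, ← hzD]
      exact congrArg Subtype.val (Subgroup.mem_centralizer_singleton_iff.mp hy)
    · intro hx
      refine ⟨⟨x, CfsgLib.LargeExtra.Holo.centralizer_le_pstab hz hx⟩, Subgroup.mem_centralizer_singleton_iff.mpr (Subtype.ext ?_), rfl⟩
      have := Subgroup.mem_centralizer_singleton_iff.mp hx
      rw [← hzD] at this
      exact this
  let e : CP ≃* C := (CP.equivMapOfInjective P.subtype P.subtype_injective).trans (MulEquiv.subgroupCongr hmap)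
  have hQ' : Q = D.qsub.map P.subtype := by
    rw [hQ, ← D.pCore_eq, ← CfsgLib.PCore.map_pCore_equiv e, Subgroup.map_map, Subgroup.map_map]
    rfl
  have hE := D.extraAt_qsub (n := n) (by omega)
  have hext : Cfsg.IsExtraspecial 2 Q := hQ' ▸ CfsgLib.LargeExtra.isExtraspecial_of_equiv (D.qsub.equivMapOfInjective _ P.subtype_injective) hE.extra
  have hcard : Nat.card Q = 2 ^ (2 * n + 1) := by
    rw [hQ', Subgroup.card_map_of_injective P.subtype_injective, D.card_qsub]
  have hQC : ∀ q ∈ Q, q * z = z * q := by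
    rw [hQ']
    rintro _ ⟨q, hq, rfl⟩
    rw [← hzD]
    exact congrArg Subtype.val (hE.comm_z hq)
  have hzQ : z ∈ Q := hQ' ▸ ⟨D.zz, hE.z_mem, hzD⟩
  have hcen : (Subgroup.center ↥Q).map Q.subtype = Subgroup.zpowers z := by
    refine le_antisymm ?_ (Subgroup.zpowers_le.mpr ⟨⟨z, hzQ⟩, Subgroup.mem_center_iff.mpr fun q => Subtype.ext (hQC q q.2), rfl⟩)
    rintro _ ⟨⟨c, hc⟩, hcc, rfl⟩
    have hc' := hc
    rw [hQ'] at hc'
    obtain ⟨q, hq, rfl⟩ := hc'
    show (q : Matrix.SpecialLinearGroup (Fin (n + 2)) (ZMod 2)) ∈ Subgroup.zpowers z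
    rcases hE.central_cases hq (fun r hr => Subtype.ext
      (congrArg (fun a : Q => (a : Matrix.SpecialLinearGroup (Fin (n + 2)) (ZMod 2)))
        (Subgroup.mem_center_iff.mp hcc ⟨(r : Matrix.SpecialLinearGroup (Fin (n + 2)) (ZMod 2)), hQ' ▸ ⟨r, hr, rfl⟩⟩))) with h | h
    · rw [h]; exact one_mem _
    · rw [h, hzD]; exact Subgroup.mem_zpowers z
  have hselfc : Subgroup.centralizer (Q : Set _) = (Subgroup.center ↥Q).map Q.subtype := by
    refine le_antisymm (fun x hx => ?_) ?_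
    · have hxP : x ∈ P := CfsgLib.LargeExtra.Holo.centralizer_le_pstab hz
        (Subgroup.mem_centralizer_singleton_iff.mpr (Subgroup.mem_centralizer_iff.mp hx z hzQ).symm)
      have hx' : (⟨x, hxP⟩ : P) ∈ Subgroup.centralizer (D.qsub : Set P) := Subgroup.mem_centralizer_iff.mpr fun r hr =>
        Subtype.ext (Subgroup.mem_centralizer_iff.mp hx (r : Matrix.SpecialLinearGroup (Fin (n + 2)) (ZMod 2)) (hQ' ▸ ⟨r, hr, rfl⟩))
      rw [D.centralizer_qsub (by omega), hE.centre, hE.mem_zpowers_z] at hx'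
      rw [hcen]
      rcases hx' with h | h
      · rw [show x = 1 from congrArg Subtype.val h]; exact one_mem _
      · rw [show x = z from (congrArg Subtype.val h).trans hzD]; exact Subgroup.mem_zpowers z
    · rw [hcen, Subgroup.zpowers_le, Subgroup.mem_centralizer_iff]
      exact hQC
  have hnorm : C ≤ Subgroup.normalizer (Q : Set _) := by
    rw [hQ', ← hmap]
    exact le_trans (Subgroup.map_mono D.centralizer_le_normalizer) (Subgroup.le_normalizer_map _)
  obtain ⟨hK, hinf, hsup, ⟨iso⟩⟩ := D.ksub_facts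
  refine ⟨hext, hcard, ?_, ?_, D.ksub.map P.subtype, hmap ▸ Subgroup.map_mono hK, ?_, ?_,
    ⟨((D.ksub.equivMapOfInjective _ P.subtype_injective).symm.trans iso).trans (CfsgLib.LargeExtra.Holo.glEquivSL n)⟩⟩
  · obtain ⟨E, hEQ, hEab, hEcard⟩ := D.exists_elementaryAbelian
    refine ⟨E.map P.subtype, hQ' ▸ Subgroup.map_mono hEQ, ⟨?_, ?_⟩, by rw [Subgroup.card_map_of_injective P.subtype_injective, hEcard]⟩
    · refine ⟨⟨fun a b => ?_⟩⟩
      obtain ⟨_, a, ha, rfl⟩ := a
      obtain ⟨_, b, hb, rfl⟩ := b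
      exact Subtype.ext (congrArg (fun u : E => ((u : P) : Matrix.SpecialLinearGroup (Fin (n + 2)) (ZMod 2))) (hEab.1.is_comm.comm ⟨a, ha⟩ ⟨b, hb⟩))
    · rintro _ ⟨a, ha, rfl⟩
      rw [← map_pow, hEab.2 a ha, map_one]
  · -- a conjugate of `z` inside `Q`
    let v : CfsgLib.LargeExtra.Holo.W n := ((0 : ZMod 2), Pi.single ⟨0, by omega⟩ 1)
    obtain ⟨g, hg⟩ : ∃ g : CfsgLib.LargeExtra.Holo.AutW n, g (CfsgLib.LargeExtra.Holo.pt n) = v := by
      haveI : Finite (CfsgLib.LargeExtra.Holo.W n) := inferInstance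
      obtain ⟨φ, hφ⟩ := CfsgLib.LargeExtra.Holo.exists_equiv_pt (V := CfsgLib.LargeExtra.Holo.W n) (n := n)
        (v := v) (by rw [Nat.card_prod, Nat.card_fun, Nat.card_zmod, Nat.card_fin, pow_succ'])
        (fun e => by
          have := congrArg (fun a : CfsgLib.LargeExtra.Holo.W n => a.2 ⟨0, by omega⟩) e
          simp [v] at this)
      exact ⟨φ, hφ⟩
    have hconj : (D.m g : Matrix.SpecialLinearGroup (Fin (n + 2)) (ZMod 2)) * z * (D.m g : Matrix.SpecialLinearGroup (Fin (n + 2)) (ZMod 2))⁻¹ = D.u v := by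
      rw [← hzD, ← hg, ← D.conj g (CfsgLib.LargeExtra.Holo.pt n)]
      rfl
    have hvQ : ((D.u v : P) : Matrix.SpecialLinearGroup (Fin (n + 2)) (ZMod 2)) ∈ Q :=
      hQ' ▸ ⟨D.u v, ⟨v, 0, by rw [CfsgLib.LargeExtra.Holo.tw_zero, map_one, mul_one]⟩, rfl⟩
    refine (Cfsg.Agent.S5422.result Q hext hselfc ?_ n hn hcard (D.m g) ?_ ?_).2.2
    · rw [hcen, Subgroup.zpowers_eq_closure, Subgroup.centralizer_closure]
      exact hnorm
    · rw [hcen]
      intro hN
      have := (Subgroup.mem_normalizer_iff.mp hN z).mp (Subgroup.mem_zpowers z)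
      rw [hconj] at this
      have hmem : (D.u v) ∈ Subgroup.zpowers D.zz := by
        obtain ⟨k, hk⟩ := Subgroup.mem_zpowers_iff.mp this
        refine Subgroup.mem_zpowers_iff.mpr ⟨k, Subtype.ext ?_⟩
        rw [← hk, ← hzD]
        rfl
      rcases hE.mem_zpowers_z.mp hmem with h | h
      · have := congrArg Prod.snd (D.u_inj (h.trans D.u_zero.symm))
        have := congrFun this ⟨0, by omega⟩
        simp [v] at this
      · have := congrArg Prod.fst (D.u_inj h)
        simp [v, CfsgLib.LargeExtra.Holo.pt] at this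
    · rw [hcen]
      rintro _ ⟨a, ha, rfl⟩
      obtain ⟨k, rfl⟩ := Subgroup.mem_zpowers_iff.mp ha
      rw [map_zpow]
      refine zpow_mem ?_ k
      show _ * z * _ ∈ Q
      rw [hconj]
      exact hvQ
  · rw [hQ', ← Subgroup.map_inf _ _ _ P.subtype_injective, hinf, Subgroup.map_bot]
  · rw [hQ', ← Subgroup.map_sup, hsup, hmap]

end Cfsg.Agent.S5424
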