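import Cfsg.Statements.S5427
import Cfsg.Agent.S5421
import Cfsg.Agent.Lib.LargeExtra.Normal

set_option autoImplicit false
open Cfsg

namespace Cfsg.Agent.S5427

/-- Let z be an involution of the finite group G whose centralizer C has generalized Fitting subgroup Q, an extraspecial 2-group of width at least 2 (order 2^(2w+1), w ≥ 2). Let K be a subgroup of G such that the subgroup U generated by the K-conjugates of z is abelian and C is generated by the C-conjugates of U. Suppose that either some K-conjugate of z other than z lies in Q, or some element u of U ∩ Q outside the subgroup generated by z has z in the largest normal 2-subgroup of its centralizer. Then G is simple and Q is a large extraspecial 2-subgroup of G. -/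
theorem result {G : Type*} [Group G] [Finite G] (z : G) (hz : orderOf z = 2) (Q : Subgroup G) (hQC : Q ≤ Subgroup.centralizer ({z} : Set G)) (hF : (Cfsg.generalizedFittingSubgroup ↥(Subgroup.centralizer ({z} : Set G))).map (Subgroup.centralizer ({z} : Set G)).subtype = Q) (hQ : Cfsg.IsExtraspecial 2 ↥Q) (w : ℕ) (hw : 2 ≤ w) (hcard : Nat.card ↥Q = 2 ^ (2 * w + 1)) (K U : Subgroup G) (hU : U = Subgroup.closure {x : G | ∃ k ∈ K, x = k * z * k⁻¹}) (hUab : IsMulCommutative ↥U) (hgen : Subgroup.closure {x : G | ∃ c ∈ Subgroup.centralizer ({z} : Set G), ∃ u ∈ U, x = c * u * c⁻¹} = Subgroup.centralizer ({z} : Set G)) (h3 : (∃ k ∈ K, k * z * k⁻¹ ∈ Q ∧ k * z * k⁻¹ ≠ z) ∨ ∃ u ∈ U ⊓ Q, u ∉ Subgroup.zpowers z ∧ (∃ hz' : z ∈ Subgroup.centralizer ({u} : Set G), (⟨z, hz'⟩ : ↥(Subgroup.centralizer ({u} : Set G))) ∈ Cfsg.pCore 2 ↥(Subgroup.centralizer ({u} : Set G)))) : IsSimpleGroup G ∧ Cfsg.IsLargeExtraspecial Q := by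
  haveI : Fact (Nat.Prime 2) := ⟨Nat.prime_two⟩
  obtain ⟨hzA, hself, hnorm⟩ := CfsgLib.LargeExtra.extraAt_of_fstar hz hQC hF hQ
  have hnorm' : Subgroup.centralizer (((Subgroup.center ↥Q).map Q.subtype : Subgroup G) : Set G) ≤
      Subgroup.normalizer (Q : Set G) := by
    refine le_trans (Subgroup.centralizer_le ?_) hnorm
    simp [hzA.centre]
  have h32 : 32 ≤ Nat.card Q := by
    rw [hcard]
    calc 32 = 2 ^ 5 := by norm_num
      _ ≤ 2 ^ (2 * w + 1) := Nat.pow_le_pow_right (by norm_num) (by omega)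
  have hsq : ∀ u ∈ U, u * u = 1 := by
    intro u hu
    have hcomm : ∀ a ∈ U, ∀ b ∈ U, a * b = b * a := fun a ha b hb =>
      congrArg Subtype.val (isMulCommutative_iff.mp hUab ⟨a, ha⟩ ⟨b, hb⟩)
    have hu' := hu
    rw [hU] at hu'
    induction hu' using Subgroup.closure_induction with
    | mem x hx =>
      obtain ⟨k, -, rfl⟩ := hx
      calc k * z * k⁻¹ * (k * z * k⁻¹) = k * (z * z) * k⁻¹ := by group
        _ = 1 := by rw [hzA.sq_one]; group
    | one => exact mul_one 1
    | mul a b ha hb iha ihb =>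
      rw [← hU] at ha hb
      calc a * b * (a * b) = a * (b * a) * b := by group
        _ = a * (a * b) * b := by rw [hcomm b hb a ha]
        _ = (a * a) * (b * b) := by group
        _ = 1 := by rw [iha ha, ihb hb, one_mul]
    | inv a ha iha => rw [← hU] at ha; rw [← mul_inv_rev, iha ha, inv_one]
  have hlarge : IsLargeExtraspecial Q := by
    rcases h3 with ⟨k, -, hkQ, hkz⟩ | ⟨u, hu, hun, hz', hzO⟩
    · exact (show CfsgLib.LargeExtra.PairAt Q z k from ⟨hzA, hself, hnorm, hkQ, hkz⟩).isLarge h32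
    · have hu1 : orderOf u = 2 := by
        refine orderOf_eq_prime ?_ fun e => hun (e ▸ one_mem _)
        rw [sq]; exact hsq u hu.1
      refine Cfsg.Agent.S5421.result Q hQ hself hnorm' u hu.2 (by rw [hzA.centre]; exact hun) hu1 ?_
      rw [hzA.centre, Subgroup.zpowers_le]
      exact ⟨⟨z, hz'⟩, hzO, rfl⟩
  refine ⟨?_, hlarge⟩
  haveI : Nontrivial G := ⟨⟨z, 1, hzA.ne_one⟩⟩
  refine ⟨fun N hN => ?_⟩
  by_cases hne : N = ⊥
  · exact Or.inl hne
  right
  have hzN := CfsgLib.LargeExtra.z_mem_of_normal hzA hlarge N hne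
  have hUN : U ≤ N := by
    rw [hU, Subgroup.closure_le]
    rintro x ⟨k, -, rfl⟩
    exact hN.conj_mem z hzN k
  have hCN : Subgroup.centralizer ({z} : Set G) ≤ N := by
    rw [← hgen, Subgroup.closure_le]
    rintro x ⟨c, -, u, hu, rfl⟩
    exact hN.conj_mem u (hUN hu) c
  have := CfsgLib.LargeExtra.sup_normalizer_eq_top hzA hlarge N (hQC.trans hCN)
  rwa [sup_eq_left.mpr hCN] at this

end Cfsg.Agent.S5427
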