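import Cfsg.Statements.S5428
import Cfsg.Agent.Lib.LargeExtra.Quot
import Cfsg.Agent.Lib.LargeExtra.Normal

set_option autoImplicit false
open Cfsg

namespace Cfsg.Agent.S5428

/-- Let z be an involution of the finite group G whose centralizer C has generalized Fitting subgroup Q extraspecial (as a 2-group), let A be a subgroup of C of odd order, and let R be the centralizer of A in Q; suppose R has order at least 32, the largest normal subgroup of odd order of the centralizer of the subgroup generated by A and R lies in A, the order of that centralizer is not divisible by 4, and g is an element of G with g z g⁻¹ in R but outside the centre Z of Q. Let M be the subgroup generated by A and the centralizer of A (A is normal in it). Then: the centralizer in M of the subgroup generated by R and A, joined with A, equals the subgroup generated by A and Z; the image of R in M/A is a large extraspecial 2-subgroup of M/A; and g z g⁻¹ is conjugate to z inside the subgroup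 generated by R and the centralizer of A in g Q g⁻¹. -/
theorem result {G : Type*} [Group G] [Finite G] (z : G) (hz : orderOf z = 2) (Q : Subgroup G) (hQC : Q ≤ Subgroup.centralizer ({z} : Set G)) (hF : (Cfsg.generalizedFittingSubgroup ↥(Subgroup.centralizer ({z} : Set G))).map (Subgroup.centralizer ({z} : Set G)).subtype = Q) (hQ : Cfsg.IsExtraspecial 2 ↥Q) (A : Subgroup G) (hA : A ≤ Subgroup.centralizer ({z} : Set G)) (hAodd : Odd (Nat.card ↥A)) (R : Subgroup G) (hR : R = Q ⊓ Subgroup.centralizer (A : Set G)) (hR32 : 32 ≤ Nat.card ↥R) (hO : (Cfsg.oddCore ↥(Subgroup.centralizer ((A ⊔ R : Subgroup G) : Set G))).map (Subgroup.centralizer ((A ⊔ R : Subgroup G) : Set G)).subtype ≤ A) (h4 : ¬ 4 ∣ Nat.card ↥(Subgroup.centralizer ((A ⊔ R : Subgroup G) : Set G))) (g : G) (hgR : g * z * g⁻¹ ∈ R) (hgZ : g * z * g⁻¹ ∉ ((Subgroup.center ↥Q).map Q.subtype)) (M : Subgroup G) (hM : M = Subgroup.centralizer (A : Set G) ⊔ A) [hn : (A.subgroupOf M).Normal] : (M ⊓ Subgroup.centralizer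 ((R ⊔ A : Subgroup G) : Set G)) ⊔ A = A ⊔ ((Subgroup.center ↥Q).map Q.subtype) ∧ Cfsg.IsLargeExtraspecial ((R.subgroupOf M).map (QuotientGroup.mk' (A.subgroupOf M))) ∧ ∃ x ∈ R ⊔ ((Q).map (MulAut.conj g).toMonoidHom ⊓ Subgroup.centralizer (A : Set G)), x * (g * z * g⁻¹) * x⁻¹ = z := by
  haveI : Fact (Nat.Prime 2) := ⟨Nat.prime_two⟩
  obtain ⟨hzA, hself, hnorm⟩ := CfsgLib.LargeExtra.extraAt_of_fstar hz hQC hF hQ
  have hAN : A ≤ Subgroup.normalizer (Q : Set G) := hA.trans hnorm
  have hRQ : R ≤ Q := hR ▸ inf_le_left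
  have hRA : ∀ r ∈ R, ∀ a ∈ A, a * r = r * a := by
    intro r hr a ha
    rw [hR] at hr
    exact Subgroup.mem_centralizer_iff.mp hr.2 a ha
  have hzR : z ∈ R := hR ▸ CfsgLib.LargeExtra.z_mem_inf_centralizer hzA hAN hAodd
  have hgne : g * z * g⁻¹ ≠ z := by
    intro e
    refine hgZ ?_
    rw [e, hzA.centre]
    exact Subgroup.mem_zpowers z
  have hpair : CfsgLib.LargeExtra.PairAt Q z g := ⟨hzA, hself, hnorm, hRQ hgR, hgne⟩
  have hQ32 : 32 ≤ Nat.card Q := hR32.trans (Subgroup.card_le_of_le hRQ)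
  have hzW := hpair.z_mem_W hQ32
  set s := g * z * g⁻¹ with hs
  have hRex : CfsgLib.LargeExtra.ExtraAt R z := by
    rcases CfsgLib.LargeExtra.inf_centralizer_cases hzA hAN hAodd with e | e
    · exfalso
      rw [← hR, hzA.centre] at e
      rw [e, Nat.card_zpowers, hzA.order_z] at hR32
      omega
    · rwa [hR]
  -- `C(AR) ≤ A⟨z⟩`
  have hD : Subgroup.centralizer ((A ⊔ R : Subgroup G) : Set G) ≤ A ⊔ Subgroup.zpowers z := by
    set D := Subgroup.centralizer ((A ⊔ R : Subgroup G) : Set G) with hDdef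
    have hzD : z ∈ D := by
      rw [hDdef, Subgroup.mem_centralizer_iff]
      intro x hx
      rw [SetLike.mem_coe, Subgroup.sup_eq_closure] at hx
      induction hx using Subgroup.closure_induction with
      | mem y hy =>
        rcases hy with hy | hy
        · exact Subgroup.mem_centralizer_singleton_iff.mp (hA hy)
        · exact hzA.comm_z (hRQ hy)
      | one => simp
      | mul u v _ _ hu hv => rw [mul_assoc, hv, ← mul_assoc, hu, mul_assoc]
      | inv u _ hu => exact ((show Commute u z from hu).inv_left).eq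
    obtain ⟨P, hP⟩ : ∃ P : Sylow 2 D, Subgroup.zpowers (⟨z, hzD⟩ : D) ≤ P :=
      (IsPGroup.of_card (n := 1) (by rw [Nat.card_zpowers, ← Subgroup.orderOf_coe]; simpa using hzA.order_z)).exists_le_sylow
    have hcardz : Nat.card (Subgroup.zpowers (⟨z, hzD⟩ : D)) = 2 := by
      rw [Nat.card_zpowers, ← Subgroup.orderOf_coe]; exact hzA.order_z
    have hP2 : (P : Subgroup D) = Subgroup.zpowers (⟨z, hzD⟩ : D) := by
      refine (Subgroup.eq_of_le_of_card_ge hP ?_).symm
      obtain ⟨n, hn⟩ := IsPGroup.iff_card.mp P.isPGroup'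
      have hdvd : Nat.card (P : Subgroup D) ∣ Nat.card D := Subgroup.card_subgroup_dvd_card _
      rw [hcardz, hn]
      by_contra hlt
      have h2 : 2 ≤ n := by
        by_contra h
        interval_cases n <;> simp at hlt
      exact h4 (((pow_dvd_pow 2 h2)).trans (hn ▸ hdvd))
    have hzcentral : ∀ x : D, x * ⟨z, hzD⟩ = ⟨z, hzD⟩ * x := fun x =>
      Subtype.ext ((Subgroup.mem_centralizer_iff.mp x.2 z (Subgroup.mem_sup_right hzR)).symm)
    have hle : Subgroup.normalizer ((P : Subgroup D) : Set D) ≤ Subgroup.centralizer ((P : Subgroup D) : Set D) := by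
      intro x _
      rw [Subgroup.mem_centralizer_iff, hP2]
      intro y hy
      obtain ⟨n, rfl⟩ := Subgroup.mem_zpowers_iff.mp hy
      exact (Commute.zpow_left (hzcentral x).symm n).eq
    have hcomp := MonoidHom.ker_transferSylow_isComplement' P hle
    set N := (MonoidHom.transferSylow P hle).ker with hN
    have hNodd : Odd (Nat.card N) := by
      have h1 := hcomp.card_mul_card
      rw [hP2, hcardz] at h1
      rw [Nat.odd_iff]
      by_contra h
      refine h4 ?_
      obtain ⟨k, hk⟩ : 2 ∣ Nat.card N := Nat.dvd_of_mod_eq_zero (by omega)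
      exact ⟨k, by rw [← h1, hk]; ring⟩
    have hNle : N ≤ Cfsg.oddCore D := by
      refine le_sSup ⟨inferInstance, ?_⟩
      first | exact hNodd | exact Nat.coprime_two_right.mpr hNodd
    intro x hx
    obtain ⟨⟨n, p⟩, hnp⟩ := hcomp.2 ⟨x, hx⟩
    have hnA : ((n : D) : G) ∈ A := hO ⟨_, hNle n.2, rfl⟩
    have hpz : ((p : D) : G) ∈ Subgroup.zpowers z := by
      have hp : (p : D) ∈ Subgroup.zpowers (⟨z, hzD⟩ : D) := hP2 ▸ p.2
      obtain ⟨k, hk⟩ := Subgroup.mem_zpowers_iff.mp hp
      exact ⟨k, by rw [← hk]; rfl⟩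
    have : x = ((n : D) : G) * ((p : D) : G) := (congrArg Subtype.val hnp).symm
    rw [this]
    exact mul_mem (Subgroup.mem_sup_left hnA) (Subgroup.mem_sup_right hpz)
  have hAM : A ≤ M := hM ▸ le_sup_right
  have hRM : R ≤ M := by
    intro r hr
    rw [hM]
    exact Subgroup.mem_sup_left (Subgroup.mem_centralizer_iff.mpr fun a ha => hRA r hr a ha)
  have hzM : z ∈ M := hRM hzR
  -- decompose an element of `M`
  have hMsplit : ∀ m ∈ M, ∃ c ∈ Subgroup.centralizer (A : Set G), ∃ a ∈ A, m = c * a := by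
    intro m hm
    rw [hM, Subgroup.sup_eq_closure] at hm
    induction hm using Subgroup.closure_induction with
    | mem x hx =>
      rcases hx with hx | hx
      · exact ⟨x, hx, 1, one_mem _, (mul_one x).symm⟩
      · exact ⟨1, one_mem _, x, hx, (one_mul x).symm⟩
    | one => exact ⟨1, one_mem _, 1, one_mem _, (mul_one 1).symm⟩
    | mul u v _ _ hu hv =>
      obtain ⟨c, hc, a, ha, rfl⟩ := hu
      obtain ⟨c', hc', a', ha', rfl⟩ := hv
      refine ⟨c * c', mul_mem hc hc', a * a', mul_mem ha ha', ?_⟩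
      rw [show c * a * (c' * a') = c * (a * c') * a' by group, Subgroup.mem_centralizer_iff.mp hc' a ha]
      group
    | inv u _ hu =>
      obtain ⟨c, hc, a, ha, rfl⟩ := hu
      refine ⟨c⁻¹, inv_mem hc, a⁻¹, inv_mem ha, ?_⟩
      rw [← mul_inv_rev, Subgroup.mem_centralizer_iff.mp hc a ha]
  have hRAbot : ∀ x ∈ A, x ∈ R → x = 1 := fun x hxA hxR =>
    CfsgLib.LargeExtra.odd_inf_two hAodd hzA.extra.1.1 hxA (hRQ hxR)
  let π : ↥M →* ↥M ⧸ A.subgroupOf M := QuotientGroup.mk' (A.subgroupOf M)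
  have hπ : ∀ x y : ↥M, π x = π y ↔ (x : G)⁻¹ * y ∈ A := by
    intro x y
    show (QuotientGroup.mk x : ↥M ⧸ A.subgroupOf M) = QuotientGroup.mk y ↔ _
    rw [QuotientGroup.eq, Subgroup.mem_subgroupOf]
    rfl
  have hinjR : ∀ x y : ↥M, (x : G) ∈ R → (y : G) ∈ R → π x = π y → x = y := by
    intro x y hx hy e
    exact Subtype.ext (inv_mul_eq_one.mp (hRAbot _ ((hπ x y).mp e) (mul_mem (inv_mem hx) hy)))
  have hmodA : ∀ c ∈ Subgroup.centralizer (A : Set G), ∀ r ∈ R, (c * r * c⁻¹)⁻¹ * r ∈ A → c * r = r * c := by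
    intro c hc r hr hcr
    set a := (c * r * c⁻¹)⁻¹ * r with ha
    have har : Commute a r := hRA r hr a hcr
    have hr4 : r * r * (r * r) = 1 := by
      rcases hzA.sq_cases (hRQ hr) with e | e <;> rw [e]
      · exact mul_one 1
      · exact hzA.sq_one
    have hcr4 : c * r * c⁻¹ = r * a⁻¹ := by rw [ha]; group
    have h4' : (r * a⁻¹) ^ 4 = 1 := by
      rw [← hcr4, conj_pow, show r ^ 4 = r * r * (r * r) by simp [pow_succ, mul_assoc], hr4]; group
    rw [(har.symm.inv_right).mul_pow, show r ^ 4 = r * r * (r * r) by simp [pow_succ, mul_assoc], hr4, one_mul] at h4'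
    have ha1 : a = 1 := by
      have hd : orderOf a⁻¹ ∣ 4 := orderOf_dvd_of_pow_eq_one h4'
      rw [orderOf_inv] at hd
      have hd2 : orderOf a ∣ Nat.card A := Subgroup.orderOf_dvd_natCard A hcr
      have hc : Nat.Coprime (Nat.card A) (2 ^ 2) := Nat.Coprime.pow_right _ (Nat.coprime_two_right.mpr hAodd)
      exact orderOf_eq_one_iff.mp (Nat.eq_one_of_dvd_coprimes hc hd2 (by simpa using hd))
    rw [ha1, inv_one, mul_one] at hcr4
    exact mul_inv_eq_iff_eq_mul.mp hcr4
  have himg : ∀ x : ↥M, π x ∈ (R.subgroupOf M).map π → ∃ y : ↥M, (y : G) ∈ R ∧ π y = π x := by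
    rintro x ⟨y, hy, e⟩
    exact ⟨y, hy, e⟩
  obtain ⟨y, hy, hys⟩ := hRex.exists_conj_eq hgR hpair.s_ne_one hgne
  have hysne : y * s ≠ s * y := by
    intro e
    have : y * s * y⁻¹ = s := mul_inv_eq_iff_eq_mul.mpr e
    rw [hys] at this
    exact hzA.ne_one (mul_eq_right.mp this)
  have hz1 : π ⟨z, hzM⟩ ≠ 1 := by
    rw [← map_one π]
    intro e
    exact hzA.ne_one (congrArg Subtype.val (hinjR _ 1 hzR (one_mem R) e))
  have hEx : CfsgLib.LargeExtra.ExtraAt ((R.subgroupOf M).map π) (π ⟨z, hzM⟩) := by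
    refine CfsgLib.LargeExtra.extraAt_image hzA M π hRQ hzM hz1 (fun x hx hc => ?_)
      ⟨⟨y, hRM hy⟩, ⟨s, hRM hgR⟩, hy, hgR, fun e => hysne ?_⟩
    · rcases hRex.central_cases hx (fun q hq => congrArg Subtype.val
        (hinjR (⟨q, hRM hq⟩ * x) (x * ⟨q, hRM hq⟩) (mul_mem hq hx) (mul_mem hx hq) (hc ⟨q, hRM hq⟩ hq))) with e | e
      · exact Or.inl (by rw [show x = 1 from Subtype.ext e, map_one])
      · exact Or.inr (congrArg π (Subtype.ext e))
    · exact congrArg Subtype.val (hinjR _ _ (mul_mem hy hgR) (mul_mem hgR hy) e)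
  have hliftA : ∀ (x : ↥M), ∃ c : ↥M, (c : G) ∈ Subgroup.centralizer (A : Set G) ∧ π c = π x := by
    intro x
    obtain ⟨c, hc, a, ha, hca⟩ := hMsplit x x.2
    refine ⟨⟨c, by rw [hM]; exact Subgroup.mem_sup_left hc⟩, hc, (hπ _ _).mpr ?_⟩
    show c⁻¹ * (x : G) ∈ A
    rwa [hca, inv_mul_cancel_left]
  -- an element centralizing the image of `z` fixes `z`
  have hcommlift : ∀ (c : ↥M) (r : G) (hr : r ∈ R), (c : G) ∈ Subgroup.centralizer (A : Set G) →
      π c * π ⟨r, hRM hr⟩ = π ⟨r, hRM hr⟩ * π c → (c : G) * r = r * (c : G) := by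
    intro c r hr hc e
    refine hmodA c hc r hr ?_
    rw [← map_mul, ← map_mul] at e
    have := (hπ _ _).mp e
    simp only [Subgroup.coe_mul] at this
    -- `(c r)⁻¹ (r c) ∈ A` conjugated by `c`
    have h2 : (c : G) * (((c : G) * r)⁻¹ * (r * c)) * (c : G)⁻¹ ∈ A := by
      have hcomm := Subgroup.mem_centralizer_iff.mp hc _ this
      rwa [← hcomm, mul_inv_cancel_right]
    simpa [mul_assoc] using h2
  refine ⟨?_, ?_, ?_⟩
  · refine le_antisymm (sup_le ?_ le_sup_left) (sup_le le_sup_right ?_)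
    · intro x hx
      have hx' : x ∈ Subgroup.centralizer ((A ⊔ R : Subgroup G) : Set G) := by rw [sup_comm]; exact hx.2
      rw [hzA.centre]
      exact hD hx'
    · rw [hzA.centre, Subgroup.zpowers_le]
      refine Subgroup.mem_sup_left ⟨hzM, Subgroup.mem_centralizer_iff.mpr fun x hx => ?_⟩
      rw [SetLike.mem_coe, Subgroup.sup_eq_closure] at hx
      induction hx using Subgroup.closure_induction with
      | mem w hw =>
        rcases hw with hw | hw
        · exact hzA.comm_z (hRQ hw)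
        · exact Subgroup.mem_centralizer_singleton_iff.mp (hA hw)
      | one => simp
      | mul u v _ _ hu hv => rw [mul_assoc, hv, ← mul_assoc, hu, mul_assoc]
      | inv u _ hu => exact ((show Commute u z from hu).inv_left).eq
  · -- the image is large
    refine CfsgLib.LargeExtra.isLarge_of_data (s := π ⟨s, hRM hgR⟩) (y := π ⟨y, hRM hy⟩) hEx ?_ ?_
      ⟨_, hgR, rfl⟩ ⟨_, hy, rfl⟩ (by rw [← map_mul]; exact (congrArg π (Subtype.ext hpair.s_sq)).trans (map_one π))
      (by rw [← map_inv, ← map_mul, ← map_mul, ← map_mul]; exact congrArg π (Subtype.ext hys)) ?_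
    · intro x hx
      obtain ⟨x0, rfl⟩ := QuotientGroup.mk'_surjective _ x
      obtain ⟨c, hc, hcx⟩ := hliftA x0
      show π x0 = 1 ∨ π x0 = π ⟨z, hzM⟩
      rw [← hcx]
      have hcc : (c : G) ∈ Subgroup.centralizer ((A ⊔ R : Subgroup G) : Set G) := by
        rw [Subgroup.mem_centralizer_iff]
        intro u hu
        rw [SetLike.mem_coe, Subgroup.sup_eq_closure] at hu
        induction hu using Subgroup.closure_induction with
        | mem w hw =>
          rcases hw with hw | hw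
          · exact Subgroup.mem_centralizer_iff.mp hc w hw
          · refine (hcommlift c w hw hc ?_).symm
            rw [hcx]
            exact (hx _ ⟨⟨w, hRM hw⟩, hw, rfl⟩).symm
        | one => simp
        | mul u v _ _ hu hv => rw [mul_assoc, hv, ← mul_assoc, hu, mul_assoc]
        | inv u _ hu => exact ((show Commute u (c : G) from hu).inv_left).eq
      have hmem := hD hcc
      have hNA : Subgroup.zpowers z ≤ Subgroup.normalizer (A : Set G) := by
        rw [Subgroup.zpowers_le, Subgroup.mem_normalizer_iff]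
        intro a
        constructor
        · intro ha
          rwa [mul_inv_eq_iff_eq_mul.mpr (hRA z hzR a ha).symm]
        · intro ha
          have e := hRA z hzR _ ha
          have h2 : a = z * a * z⁻¹ := by
            calc a = z⁻¹ * (z * a * z⁻¹ * z) := by group
              _ = z⁻¹ * (z * (z * a * z⁻¹)) := by rw [e]
              _ = z * a * z⁻¹ := by group
          rwa [h2]
      obtain ⟨t, ht, a, ha, hta⟩ := CfsgLib.Coprime.exists_mul_of_mem_sup hNA (sup_comm A (Subgroup.zpowers z) ▸ hmem)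
      have e : π c = π ⟨t, Subgroup.zpowers_le.mpr hzM ht⟩ := by
        refine (hπ _ _).mpr ?_
        show ((c : G))⁻¹ * t ∈ A
        rw [hta, mul_inv_rev, mul_assoc, inv_mul_cancel, mul_one]
        exact inv_mem ha
      rw [e]
      rcases hzA.mem_zpowers_z.mp ht with rfl | rfl
      · exact Or.inl (map_one π)
      · exact Or.inr rfl
    · intro x hx r hr
      obtain ⟨x0, rfl⟩ := QuotientGroup.mk'_surjective _ x
      obtain ⟨c, hc, hcx⟩ := hliftA x0
      change π x0 * r * (π x0)⁻¹ ∈ _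
      rw [← hcx]
      obtain ⟨r0, hr0, rfl⟩ := hr
      have hcz : (c : G) * z = z * c := hcommlift c z hzR hc (by rw [hcx]; exact hx)
      refine ⟨c * r0 * c⁻¹, ?_, by rw [map_mul, map_mul, map_inv]⟩
      show (c : G) * r0 * (c : G)⁻¹ ∈ R
      rw [hR]
      refine ⟨hpair.Q_normal hcz (hRQ hr0), Subgroup.mem_centralizer_iff.mpr fun a ha => ?_⟩
      exact (((show Commute a (c : G) from Subgroup.mem_centralizer_iff.mp hc a ha).mul_right
        (show Commute a r0 from hRA _ hr0 a ha)).mul_right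
          (show Commute a (c : G) from Subgroup.mem_centralizer_iff.mp hc a ha).inv_right).eq
    · intro K hK hRK hfz k hk hks
      obtain ⟨x0, rfl⟩ := QuotientGroup.mk'_surjective _ k
      obtain ⟨c, hc, hcx⟩ := hliftA x0
      change π x0 = 1
      change π x0 ∈ K at hk
      rw [← hcx] at hk ⊢
      have hcs : (c : G) * s = s * c := hcommlift c s hgR hc (by rw [hcx]; exact hks.symm)
      refine hfz (π c) hk ?_
      -- the commutator with `z` lies in `K` and in the image of a 2-group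
      have h1 : π ⟨z, hzM⟩ * π c * (π ⟨z, hzM⟩)⁻¹ * (π c)⁻¹ ∈ K :=
        mul_mem ((Subgroup.mem_normalizer_iff.mp (hRK ⟨_, hzR, rfl⟩) _).mp hk) (inv_mem hk)
      have h2 : z * (c : G) * z⁻¹ * (c : G)⁻¹ ∈ Q.map (MulAut.conj g).toMonoidHom := by
        have := mul_mem hzW (hpair.W_normal hcs (inv_mem hzW))
        simpa [mul_assoc] using this
      have h3 : π ⟨z, hzM⟩ * π c * (π ⟨z, hzM⟩)⁻¹ * (π c)⁻¹ ∈
          ((Q.map (MulAut.conj g).toMonoidHom).subgroupOf M).map π :=
        ⟨⟨z, hzM⟩ * c * (⟨z, hzM⟩ : ↥M)⁻¹ * c⁻¹, h2, by simp⟩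
      have hWp : IsPGroup 2 ((Q.map (MulAut.conj g).toMonoidHom).subgroupOf M) :=
        (hzA.extra.1.1.map _).comap_of_injective M.subtype M.subtype_injective
      have := CfsgLib.LargeExtra.odd_inf_two hK (hWp.map π) h1 h3
      exact mul_inv_eq_iff_eq_mul.mp (mul_inv_eq_one.mp this)
  · -- conjugate `s` to `z`
    let A' : Subgroup G := A.map (MulAut.conj g⁻¹).toMonoidHom
    have hA's : ∀ a ∈ A, a * s = s * a := fun a ha => hRA s hgR a ha
    have hA'N : A' ≤ Subgroup.normalizer (Q : Set G) := by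
      rintro _ ⟨a, ha, rfl⟩
      refine hnorm (Subgroup.mem_centralizer_singleton_iff.mpr ?_)
      show g⁻¹ * a * g⁻¹⁻¹ * z = z * (g⁻¹ * a * g⁻¹⁻¹)
      calc g⁻¹ * a * g⁻¹⁻¹ * z = g⁻¹ * (a * s) * g := by rw [hs]; group
        _ = g⁻¹ * (s * a) * g := by rw [hA's a ha]
        _ = z * (g⁻¹ * a * g⁻¹⁻¹) := by rw [hs]; group
    have hA'odd : Odd (Nat.card A') := by
      rw [Subgroup.card_map_of_injective (MulAut.conj g⁻¹).injective]; exact hAodd
    have hz' : g⁻¹ * z * g ∈ Q ⊓ Subgroup.centralizer (A' : Set G) := by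
      refine ⟨hpair.mem_W.mp hzW, Subgroup.mem_centralizer_iff.mpr ?_⟩
      rintro _ ⟨a, ha, rfl⟩
      show g⁻¹ * a * g⁻¹⁻¹ * (g⁻¹ * z * g) = g⁻¹ * z * g * (g⁻¹ * a * g⁻¹⁻¹)
      calc g⁻¹ * a * g⁻¹⁻¹ * (g⁻¹ * z * g) = g⁻¹ * (a * z) * g := by group
        _ = g⁻¹ * (z * a) * g := by rw [hRA z hzR a ha]
        _ = g⁻¹ * z * g * (g⁻¹ * a * g⁻¹⁻¹) := by group
    have hz'1 : g⁻¹ * z * g ≠ 1 := fun e => hzA.ne_one (by
      calc z = g * (g⁻¹ * z * g) * g⁻¹ := by group
        _ = 1 := by rw [e]; group)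
    have hz'z : g⁻¹ * z * g ≠ z := fun e => hgne (by
      calc g * z * g⁻¹ = g * (g⁻¹ * z * g) * g⁻¹ := by rw [e]
        _ = z := by group)
    obtain ⟨v, hv, hvz⟩ := CfsgLib.LargeExtra.exists_conj_eq_centralized hzA hA'N hA'odd hz' hz'1 hz'z
    refine ⟨g * v * g⁻¹ * y, mul_mem (Subgroup.mem_sup_right ⟨?_, ?_⟩) (Subgroup.mem_sup_left hy), ?_⟩
    · exact ⟨v, hv.1, rfl⟩
    · refine Subgroup.mem_centralizer_iff.mpr fun a ha => ?_
      have e := Subgroup.mem_centralizer_iff.mp hv.2 (g⁻¹ * a * g) ⟨a, ha, by simp [mul_assoc]⟩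
      calc a * (g * v * g⁻¹) = g * (g⁻¹ * a * g * v) * g⁻¹ := by group
        _ = g * (v * (g⁻¹ * a * g)) * g⁻¹ := by rw [e]
        _ = g * v * g⁻¹ * a := by group
    · have e1 : g * v * g⁻¹ * z * (g * v * g⁻¹)⁻¹ = s * z := by
        calc g * v * g⁻¹ * z * (g * v * g⁻¹)⁻¹ = g * (v * (g⁻¹ * z * g) * v⁻¹) * g⁻¹ := by group
          _ = s * z := by rw [hvz, hs]; group
      have e2 : g * v * g⁻¹ * s * (g * v * g⁻¹)⁻¹ = s := by
        calc g * v * g⁻¹ * s * (g * v * g⁻¹)⁻¹ = g * (v * z * v⁻¹) * g⁻¹ := by rw [hs]; group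
          _ = s := by rw [mul_inv_eq_iff_eq_mul.mpr (hzA.comm_z hv.1)]
      calc g * v * g⁻¹ * y * s * (g * v * g⁻¹ * y)⁻¹
          = g * v * g⁻¹ * (y * s * y⁻¹) * (g * v * g⁻¹)⁻¹ := by group
        _ = (g * v * g⁻¹ * z * (g * v * g⁻¹)⁻¹) * (g * v * g⁻¹ * s * (g * v * g⁻¹)⁻¹) := by rw [hys]; group
        _ = z := by
            rw [e1, e2, show s * z = z * s from hzA.comm_z (hRQ hgR), mul_assoc, hpair.s_sq, mul_one]

end Cfsg.Agent.S5428
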