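import Cfsg.Statements.S5429
import Cfsg.Agent.Lib.LargeExtra.Quot

set_option autoImplicit false
open Cfsg

namespace Cfsg.Agent.S5429

/-- Let z be an involution of the finite group G with centralizer C whose generalized Fitting subgroup Q is extraspecial of width at least 3 (order 2^(2w+1), w ≥ 3); let g be an element of G with g z g⁻¹ in Q but outside the centre Z of Q, and t an involution lying in both Q and g Q g⁻¹ that is not conjugate to z; write P for the centralizer of t in Q and suppose that the elements of C acting trivially by conjugation on P modulo the subgroup generated by t and z are exactly the elements of Q. Then the image of P in the centralizer of t modulo the subgroup generated by t is a large extraspecial 2-subgroup there, and g z g⁻¹ is conjugate to z inside the subgroup generated by P and the centralizer of t in g Q g⁻¹. -/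
theorem result {G : Type*} [Group G] [Finite G] (z : G) (hz : orderOf z = 2) (Q : Subgroup G) (hQC : Q ≤ Subgroup.centralizer ({z} : Set G)) (hF : (Cfsg.generalizedFittingSubgroup ↥(Subgroup.centralizer ({z} : Set G))).map (Subgroup.centralizer ({z} : Set G)).subtype = Q) (hQ : Cfsg.IsExtraspecial 2 ↥Q) (w : ℕ) (hw : 3 ≤ w) (hcard : Nat.card ↥Q = 2 ^ (2 * w + 1)) (g : G) (hgQ : g * z * g⁻¹ ∈ Q) (hgZ : g * z * g⁻¹ ∉ ((Subgroup.center ↥Q).map Q.subtype)) (t : G) (ht : orderOf t = 2) (htQ : t ∈ Q ⊓ (Q).map (MulAut.conj g).toMonoidHom) (htz : ¬ IsConj z t) (P : Subgroup G) (hP : P = Q ⊓ Subgroup.centralizer ({t} : Set G)) (hCP : ∀ c ∈ Subgroup.centralizer ({z} : Set G), (∀ x ∈ P, ∃ y ∈ Subgroup.closure ({t, z} : Set G), c * x * c⁻¹ = x * y) ↔ c ∈ Q) [hn : ((Subgroup.zpowers t).subgroupOf (Subgroup.centralizer ({t} : Set G))).Normal] : Cfsg.IsLargeExtraspecial ((P.subgroupOf (Subgroup.centralizer ({t} : Set G))).map (QuotientGroup.mk' ((Subgroup.zpowers t).subgroupOf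 (Subgroup.centralizer ({t} : Set G))))) ∧ ∃ x ∈ P ⊔ ((Q).map (MulAut.conj g).toMonoidHom ⊓ Subgroup.centralizer ({t} : Set G)), x * (g * z * g⁻¹) * x⁻¹ = z := by
  haveI : Fact (Nat.Prime 2) := ⟨Nat.prime_two⟩
  obtain ⟨hzA, hself, hnorm⟩ := CfsgLib.LargeExtra.extraAt_of_fstar hz hQC hF hQ
  have hgne : g * z * g⁻¹ ≠ z := by
    intro e
    refine hgZ ?_
    rw [e, hzA.centre]
    exact Subgroup.mem_zpowers z
  have hpair : CfsgLib.LargeExtra.PairAt Q z g := ⟨hzA, hself, hnorm, hgQ, hgne⟩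
  have hQ32 : 32 ≤ Nat.card Q := by
    rw [hcard]
    calc 32 = 2 ^ 5 := by norm_num
      _ ≤ 2 ^ (2 * w + 1) := Nat.pow_le_pow_right (by norm_num) (by omega)
  have hzW := hpair.z_mem_W hQ32
  have htQ' : t ∈ Q := htQ.1
  have htW : t ∈ Q.map (MulAut.conj g).toMonoidHom := htQ.2
  have ht2 : t * t = 1 := by rw [← sq, ← ht]; exact pow_orderOf_eq_one t
  have hti : t⁻¹ = t := inv_eq_of_mul_eq_one_right ht2
  have ht1 : t ≠ 1 := fun e => by simp [e] at ht
  set s := g * z * g⁻¹ with hs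
  have hsconj : IsConj z s := isConj_iff.mpr ⟨g, rfl⟩
  obtain ⟨y0, hy0, hy0s⟩ := hpair.exists_swap
  rw [← hs] at hy0s
  have htV : t ≠ z ∧ t ≠ s ∧ t ≠ z * s :=
    ⟨fun e => htz (e ▸ IsConj.refl z), fun e => htz (e ▸ hsconj),
      fun e => htz (e ▸ hsconj.trans (isConj_iff.mpr ⟨y0, hy0s⟩))⟩
  have hts : t * s = s * t := hpair.W_comm_s htW
  have htz' : t * z = z * t := hzA.comm_z htQ'
  -- an element of `P` swapping `s` and `z s`
  have hyP : ∃ y ∈ P, y * s * y⁻¹ = z * s := by
    by_cases hyt : y0 * t = t * y0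
    · exact ⟨y0, hP ▸ ⟨hy0, Subgroup.mem_centralizer_singleton_iff.mpr hyt⟩, hy0s⟩
    · obtain ⟨a, ha, has, hat⟩ : ∃ a ∈ Q, a * s = s * a ∧ a * t ≠ t * a := by
        by_contra h
        push Not at h
        rcases hzA.double_centralizer hgQ hy0 hy0s htQ' h with e | e | e | e
        · exact ht1 e
        · exact htV.1 e
        · exact htV.2.1 (by rw [e, hpair.s_inv])
        · exact htV.2.2 (by rw [e, hpair.s_inv])
      refine ⟨y0 * a, hP ▸ ⟨mul_mem hy0 ha, Subgroup.mem_centralizer_singleton_iff.mpr ?_⟩, ?_⟩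
      · have e1 : a * t * a⁻¹ = z * t :=
          (hzA.conj_cases ha htQ').resolve_left fun e => hat (mul_inv_eq_iff_eq_mul.mp e)
        have e2 : y0 * t * y0⁻¹ = z * t :=
          (hzA.conj_cases hy0 htQ').resolve_left fun e => hyt (mul_inv_eq_iff_eq_mul.mp e)
        refine mul_inv_eq_iff_eq_mul.mp ?_
        calc y0 * a * t * (y0 * a)⁻¹ = y0 * (a * t * a⁻¹) * y0⁻¹ := by group
          _ = (y0 * z) * t * y0⁻¹ := by rw [e1]; group
          _ = z * (y0 * t * y0⁻¹) := by rw [hzA.comm_z hy0]; group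
          _ = t := by rw [e2, ← mul_assoc, hzA.sq_one, one_mul]
      · calc y0 * a * s * (y0 * a)⁻¹ = y0 * (a * s * a⁻¹) * y0⁻¹ := by group
          _ = z * s := by rw [mul_inv_eq_iff_eq_mul.mpr has, hy0s]
  obtain ⟨y, hy, hys⟩ := hyP
  have hPQ : P ≤ Q := hP ▸ inf_le_left
  have hPC : P ≤ Subgroup.centralizer ({t} : Set G) := hP ▸ inf_le_right
  have hmemP : ∀ x, x ∈ Q → x * t = t * x → x ∈ P := fun x h1 h2 =>
    hP ▸ ⟨h1, Subgroup.mem_centralizer_singleton_iff.mpr h2⟩
  have hsP : s ∈ P := hmemP s hgQ hts.symm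
  have hzP : z ∈ P := hmemP z hzA.z_mem htz'.symm
  have htP : t ∈ P := hmemP t htQ' rfl
  -- some `q ∈ Q` moves `t` to `z t`
  obtain ⟨q, hq, hqt⟩ := hzA.exists_conj_eq htQ' ht1 htV.1
  have hnzt : ¬ IsConj z (z * t) := fun e => htz (e.trans (isConj_iff.mpr ⟨q, hqt⟩).symm)
  let π : ↥(Subgroup.centralizer ({t} : Set G)) →* ↥(Subgroup.centralizer ({t} : Set G)) ⧸
      (Subgroup.zpowers t).subgroupOf (Subgroup.centralizer ({t} : Set G)) :=
    QuotientGroup.mk' ((Subgroup.zpowers t).subgroupOf (Subgroup.centralizer ({t} : Set G)))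
  have hmt : ∀ {x : G}, x ∈ Subgroup.zpowers t ↔ x = 1 ∨ x = t := by
    intro x
    constructor
    · intro hx
      obtain ⟨n, rfl⟩ := Subgroup.mem_zpowers_iff.mp hx
      rw [← zpow_mod_orderOf, ht]
      rcases Int.emod_two_eq_zero_or_one n with e | e <;> norm_num [e]
    · rintro (rfl | rfl)
      exacts [one_mem _, Subgroup.mem_zpowers _]
  have hπ : ∀ x y : ↥(Subgroup.centralizer ({t} : Set G)), π x = π y ↔ (y : G) = x ∨ (y : G) = x * t := by
    intro x y
    show (QuotientGroup.mk x : _ ⧸ (Subgroup.zpowers t).subgroupOf _) = QuotientGroup.mk y ↔ _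
    rw [QuotientGroup.eq, Subgroup.mem_subgroupOf, hmt]
    simp only [Subgroup.coe_mul, Subgroup.coe_inv, inv_mul_eq_iff_eq_mul, mul_one]
  have hsC := hPC hsP
  have hyC := hPC hy
  have hzC := hPC hzP
  have hst : s * t = t * s := hts.symm
  have hysne : ∀ {e : G}, (e = 1 ∨ e = t) → y * s ≠ s * y * e := by
    rintro e (rfl | rfl) he
    · rw [mul_one] at he
      have : y * s * y⁻¹ = s := mul_inv_eq_iff_eq_mul.mpr he
      rw [hys] at this
      exact hzA.ne_one (mul_eq_right.mp this)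
    · have h1 : y * s * y⁻¹ = s * (y * e * y⁻¹) := by rw [he]; group
      have hyt : y * e = e * y := Subgroup.mem_centralizer_singleton_iff.mp (hPC hy)
      rw [hys, mul_inv_eq_iff_eq_mul.mpr hyt, show z * s = s * z from (hzA.comm_z hgQ).symm] at h1
      exact htV.1 (mul_left_cancel h1).symm
  have hz1 : π ⟨z, hzC⟩ ≠ 1 := by
    rw [← map_one π]
    intro e
    rcases (hπ _ _).mp e with h | h
    · exact hzA.ne_one h.symm
    · refine htV.1 ?_
      simp only [Subgroup.coe_one] at h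
      rw [eq_comm, mul_eq_one_iff_inv_eq, hzA.inv_eq] at h
      exact h.symm
  -- double centralizer of `t`
  have hcentP : ∀ x ∈ Q, (∀ p ∈ P, p * x = x * p) → x = 1 ∨ x = z ∨ x = t ∨ x = z * t := by
    intro x hx hc
    obtain h := hzA.double_centralizer htQ' hq hqt hx fun a ha hat => hc a (hmemP a ha hat)
    rwa [hti] at h
  have hEx : CfsgLib.LargeExtra.ExtraAt ((P.subgroupOf (Subgroup.centralizer ({t} : Set G))).map π) (π ⟨z, hzC⟩) := by
    refine CfsgLib.LargeExtra.extraAt_image hzA _ π hPQ hzC hz1 (fun x hx hc => ?_)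
      ⟨⟨y, hyC⟩, ⟨s, hsC⟩, hy, hsP, fun e => ?_⟩
    · have hcomm : ∀ p ∈ P, p * (x : G) = (x : G) * p := by
        intro p hp
        rcases (hπ _ _).mp (hc ⟨p, hPC hp⟩ hp) with h | h <;> simp only [Subgroup.coe_mul] at h
        · exact h.symm
        · exfalso
          rcases hzA.conj_cases (hPQ hx) (hPQ hp) with e | e
          · rw [mul_inv_eq_iff_eq_mul.mp e] at h
            exact ht1 (mul_eq_left.mp h.symm)
          · rw [mul_inv_eq_iff_eq_mul.mp e] at h
            have h3 : z * (p * (x : G)) = p * (x : G) * t := by rw [← mul_assoc]; exact h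
            rw [← hzA.comm_z (mul_mem (hPQ hp) (hPQ hx))] at h3
            exact htV.1 (mul_left_cancel h3).symm
      rcases hcentP _ (hPQ hx) hcomm with e | e | e | e
      · exact Or.inl (by rw [show x = 1 from Subtype.ext e, map_one])
      · exact Or.inr (congrArg π (Subtype.ext e))
      · refine Or.inl ?_
        rw [← map_one π]
        exact (hπ _ _).mpr (Or.inr (by rw [e, Subgroup.coe_one, ht2]))
      · refine Or.inr ((hπ _ _).mpr (Or.inr ?_))
        rw [e, mul_assoc, ht2, mul_one]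
    · have hyt : y * t = t * y := Subgroup.mem_centralizer_singleton_iff.mp hyC
      rcases (hπ _ _).mp e with h | h <;> simp only [Subgroup.coe_mul] at h
      · exact hysne (Or.inl rfl) (by rw [mul_one]; exact h.symm)
      · refine hysne (Or.inr rfl) ?_
        rw [h, mul_assoc, ht2, mul_one]
  -- commuting modulo `t` with `z` is commuting with `z`
  have hlift : ∀ (c : ↥(Subgroup.centralizer ({t} : Set G))) (r : G) (hr : r ∈ P), (r = z ∨ r = s) →
      π c * π ⟨r, hPC hr⟩ = π ⟨r, hPC hr⟩ * π c → (c : G) * r = r * c := by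
    intro c r hr hrzs e
    rw [← map_mul, ← map_mul] at e
    rcases (hπ _ _).mp e with h | h <;> simp only [Subgroup.coe_mul] at h
    · exact h.symm
    · exfalso
      have hct : (c : G) * t = t * c := Subgroup.mem_centralizer_singleton_iff.mp c.2
      have h2 : (c : G) * r * (c : G)⁻¹ = r * t := by
        have h2' : (c : G) * r = r * c * t := by rw [h, mul_assoc, ht2, mul_one]
        rw [h2', mul_assoc r, hct]; group
      have hconj : IsConj r (r * t) := isConj_iff.mpr ⟨c, h2⟩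
      rcases hrzs with rfl | rfl
      · exact hnzt hconj
      · -- `s t` is conjugate to `t` inside `W`
        have hne : g⁻¹ * t * g ≠ 1 ∧ g⁻¹ * t * g ≠ z := by
          constructor
          · intro e'
            exact ht1 (by calc t = g * (g⁻¹ * t * g) * g⁻¹ := by group
              _ = 1 := by rw [e']; group)
          · intro e'
            exact htV.2.1 (by calc t = g * (g⁻¹ * t * g) * g⁻¹ := by group
              _ = s := by rw [e'])
        obtain ⟨v, -, hv⟩ := hzA.exists_conj_eq (hpair.mem_W.mp htW) hne.1 hne.2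
        have hst' : IsConj t (s * t) := isConj_iff.mpr ⟨g * v * g⁻¹, by
          calc g * v * g⁻¹ * t * (g * v * g⁻¹)⁻¹ = g * (v * (g⁻¹ * t * g) * v⁻¹) * g⁻¹ := by group
            _ = s * t := by rw [hv, hs]; group⟩
        exact htz ((hsconj.trans hconj).trans hst'.symm)
  have hprod : ∀ c : ↥(Subgroup.centralizer ({t} : Set G)), (c : G) * z = z * c →
      (∀ x (hx : x ∈ P), π c * π ⟨x, hPC hx⟩ = π ⟨x, hPC hx⟩ * π c) → π c = 1 ∨ π c = π ⟨z, hzC⟩ := by
    intro c hcz hall
    have hct : (c : G) * t = t * c := Subgroup.mem_centralizer_singleton_iff.mp c.2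
    have hcQ : (c : G) ∈ Q := by
      refine (hCP c (Subgroup.mem_centralizer_singleton_iff.mpr hcz)).mp fun x hx => ?_
      have e := hall x hx
      rw [← map_mul, ← map_mul] at e
      rcases (hπ _ _).mp e with h | h <;> simp only [Subgroup.coe_mul] at h
      · exact ⟨1, one_mem _, by rw [mul_one, mul_inv_eq_iff_eq_mul]; exact h.symm⟩
      · refine ⟨t, Subgroup.subset_closure (Or.inl rfl), ?_⟩
        have h2 : (c : G) * x = x * c * t := by rw [h, mul_assoc, ht2, mul_one]
        rw [h2, mul_assoc x, hct]; group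
    have hcP := hmemP c hcQ hct
    rcases hEx.central_cases (x := π c) ⟨c, hcP, rfl⟩ (by
      rintro _ ⟨r, hr, rfl⟩
      exact (hall (r : G) hr).symm) with e | e
    exacts [Or.inl e, Or.inr e]
  refine ⟨?_, ?_⟩
  · refine CfsgLib.LargeExtra.isLarge_of_data (s := π ⟨s, hsC⟩) (y := π ⟨y, hyC⟩) hEx ?_ ?_
      ⟨_, hsP, rfl⟩ ⟨_, hy, rfl⟩ (by rw [← map_mul]; exact (congrArg π (Subtype.ext hpair.s_sq)).trans (map_one π))
      (by rw [← map_inv, ← map_mul, ← map_mul, ← map_mul]; exact congrArg π (Subtype.ext hys)) ?_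
    · intro x hx
      obtain ⟨c, rfl⟩ := QuotientGroup.mk'_surjective _ x
      have hall : ∀ w (hw : w ∈ P), π c * π ⟨w, hPC hw⟩ = π ⟨w, hPC hw⟩ * π c :=
        fun w hw => (hx _ ⟨⟨w, hPC hw⟩, hw, rfl⟩).symm
      exact hprod c (hlift c z hzP (Or.inl rfl) (hall z hzP)) hall
    · intro x hx r hr
      obtain ⟨c, rfl⟩ := QuotientGroup.mk'_surjective _ x
      obtain ⟨r0, hr0, rfl⟩ := hr
      have hcz : (c : G) * z = z * c := hlift c z hzP (Or.inl rfl) hx
      refine ⟨c * r0 * c⁻¹, ?_, by rw [map_mul, map_mul, map_inv]⟩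
      exact hmemP _ (hpair.Q_normal hcz (hPQ hr0))
        (Subgroup.mem_centralizer_singleton_iff.mp (c * r0 * c⁻¹ : ↥(Subgroup.centralizer ({t} : Set G))).2)
    · intro K hK hRK hfz k hk hks
      obtain ⟨c, rfl⟩ := QuotientGroup.mk'_surjective _ k
      change π c = 1
      change π c ∈ K at hk
      have hcs : (c : G) * s = s * c := hlift c s hsP (Or.inr rfl) hks.symm
      refine hfz (π c) hk ?_
      have h1 : π ⟨z, hzC⟩ * π c * (π ⟨z, hzC⟩)⁻¹ * (π c)⁻¹ ∈ K :=
        mul_mem ((Subgroup.mem_normalizer_iff.mp (hRK ⟨_, hzP, rfl⟩) _).mp hk) (inv_mem hk)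
      have h2 : z * (c : G) * z⁻¹ * (c : G)⁻¹ ∈ Q.map (MulAut.conj g).toMonoidHom := by
        have := mul_mem hzW (hpair.W_normal hcs (inv_mem hzW))
        simpa [mul_assoc] using this
      have h3 : π ⟨z, hzC⟩ * π c * (π ⟨z, hzC⟩)⁻¹ * (π c)⁻¹ ∈
          ((Q.map (MulAut.conj g).toMonoidHom).subgroupOf (Subgroup.centralizer ({t} : Set G))).map π :=
        ⟨⟨z, hzC⟩ * c * (⟨z, hzC⟩ : ↥(Subgroup.centralizer ({t} : Set G)))⁻¹ * c⁻¹, h2, by simp⟩
      have hWp : IsPGroup 2 ((Q.map (MulAut.conj g).toMonoidHom).subgroupOf (Subgroup.centralizer ({t} : Set G))) :=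
        (hzA.extra.1.1.map _).comap_of_injective (Subgroup.centralizer ({t} : Set G)).subtype
          (Subgroup.centralizer ({t} : Set G)).subtype_injective
      have := CfsgLib.LargeExtra.odd_inf_two hK (hWp.map π) h1 h3
      exact mul_inv_eq_iff_eq_mul.mp (mul_inv_eq_one.mp this)
  · -- conjugate `s` to `z`
    have hne : g⁻¹ * z * g ≠ 1 ∧ g⁻¹ * z * g ≠ z := by
      constructor
      · intro e'
        exact hzA.ne_one (by calc z = g * (g⁻¹ * z * g) * g⁻¹ := by group
          _ = 1 := by rw [e']; group)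
      · intro e'
        exact hgne (by calc s = g * (g⁻¹ * z * g) * g⁻¹ := by rw [hs, e']
          _ = z := by group)
    have hzg : g⁻¹ * z * g ∈ Q := hpair.mem_W.mp hzW
    obtain ⟨v, hv, hvz⟩ := hzA.exists_conj_eq hzg hne.1 hne.2
    have htg : g⁻¹ * t * g ∈ Q := hpair.mem_W.mp htW
    -- adjust `v` so that it commutes with `g⁻¹ t g`
    have hv' : ∃ v' ∈ Q, v' * (g⁻¹ * z * g) * v'⁻¹ = z * (g⁻¹ * z * g) ∧ v' * (g⁻¹ * t * g) = (g⁻¹ * t * g) * v' := by
      by_cases hvt : v * (g⁻¹ * t * g) = (g⁻¹ * t * g) * v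
      · exact ⟨v, hv, hvz, hvt⟩
      obtain ⟨a, ha, haz, hat⟩ : ∃ a ∈ Q, a * (g⁻¹ * z * g) = (g⁻¹ * z * g) * a ∧ a * (g⁻¹ * t * g) ≠ (g⁻¹ * t * g) * a := by
        by_contra h
        push Not at h
        have hi : (g⁻¹ * z * g)⁻¹ = g⁻¹ * z * g := by rw [mul_inv_rev, mul_inv_rev, inv_inv, hzA.inv_eq, mul_assoc]
        rcases hzA.double_centralizer hzg hv hvz htg h with e | e | e | e
        · exact ht1 (by calc t = g * (g⁻¹ * t * g) * g⁻¹ := by group
            _ = 1 := by rw [e]; group)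
        · exact htV.2.1 (by calc t = g * (g⁻¹ * t * g) * g⁻¹ := by group
            _ = s := by rw [e])
        · rw [hi] at e
          exact htV.1 (by calc t = g * (g⁻¹ * t * g) * g⁻¹ := by group
            _ = z := by rw [e]; group)
        · rw [hi] at e
          exact htV.2.2 (by calc t = g * (g⁻¹ * t * g) * g⁻¹ := by group
            _ = s * z := by rw [e, hs]; group
            _ = z * s := hzA.comm_z hgQ)
      refine ⟨v * a, mul_mem hv ha, ?_, ?_⟩
      · calc v * a * (g⁻¹ * z * g) * (v * a)⁻¹ = v * (a * (g⁻¹ * z * g) * a⁻¹) * v⁻¹ := by group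
          _ = z * (g⁻¹ * z * g) := by rw [mul_inv_eq_iff_eq_mul.mpr haz, hvz]
      · generalize hu : g⁻¹ * t * g = u at *
        have e1 : a * u * a⁻¹ = z * u :=
          (hzA.conj_cases ha htg).resolve_left fun e => hat (mul_inv_eq_iff_eq_mul.mp e)
        have e2 : v * u * v⁻¹ = z * u :=
          (hzA.conj_cases hv htg).resolve_left fun e => hvt (mul_inv_eq_iff_eq_mul.mp e)
        refine mul_inv_eq_iff_eq_mul.mp ?_
        calc v * a * u * (v * a)⁻¹ = v * (a * u * a⁻¹) * v⁻¹ := by group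
          _ = (v * z) * u * v⁻¹ := by rw [e1]; group
          _ = z * (v * u * v⁻¹) := by rw [hzA.comm_z hv]; group
          _ = u := by rw [e2, ← mul_assoc, hzA.sq_one, one_mul]
    obtain ⟨v', hv'Q, hv'z, hv't⟩ := hv'
    refine ⟨g * v' * g⁻¹ * y, mul_mem (Subgroup.mem_sup_right ⟨⟨v', hv'Q, rfl⟩, ?_⟩) (Subgroup.mem_sup_left hy), ?_⟩
    · refine Subgroup.mem_centralizer_singleton_iff.mpr ?_
      calc g * v' * g⁻¹ * t = g * (v' * (g⁻¹ * t * g)) * g⁻¹ := by group
        _ = g * ((g⁻¹ * t * g) * v') * g⁻¹ := by rw [hv't]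
        _ = t * (g * v' * g⁻¹) := by group
    · have e1 : g * v' * g⁻¹ * z * (g * v' * g⁻¹)⁻¹ = s * z := by
        calc g * v' * g⁻¹ * z * (g * v' * g⁻¹)⁻¹ = g * (v' * (g⁻¹ * z * g) * v'⁻¹) * g⁻¹ := by group
          _ = s * z := by rw [hv'z, hs]; group
      have e2 : g * v' * g⁻¹ * s * (g * v' * g⁻¹)⁻¹ = s := by
        calc g * v' * g⁻¹ * s * (g * v' * g⁻¹)⁻¹ = g * (v' * z * v'⁻¹) * g⁻¹ := by rw [hs]; group
          _ = s := by rw [mul_inv_eq_iff_eq_mul.mpr (hzA.comm_z hv'Q)]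
      calc g * v' * g⁻¹ * y * s * (g * v' * g⁻¹ * y)⁻¹
          = g * v' * g⁻¹ * (y * s * y⁻¹) * (g * v' * g⁻¹)⁻¹ := by group
        _ = (g * v' * g⁻¹ * z * (g * v' * g⁻¹)⁻¹) * (g * v' * g⁻¹ * s * (g * v' * g⁻¹)⁻¹) := by rw [hys]; group
        _ = z := by rw [e1, e2, show s * z = z * s from hzA.comm_z hgQ, mul_assoc, hpair.s_sq, mul_one]

end Cfsg.Agent.S5429
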