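import Cfsg.Statements.S5430
import Cfsg.Agent.Lib.LargeExtra.PairOfLarge

set_option autoImplicit false
open Cfsg
open scoped commutatorElement

namespace Cfsg.Agent.S5430

/-- Let Q be a large extraspecial 2-subgroup of the finite group G (extraspecial; centralizer equal to its centre; normal in the centralizer of its centre; normalizing no non-trivial subgroup of odd order) with centre generated by z, an involution, of width w ≥ 2 (order 2^(2w+1)); let g be an element outside the centralizer H of z with g z g⁻¹ in Q; write V for the subgroup generated by z and g z g⁻¹, X for the subgroup generated by Q and g Q g⁻¹, R for the subgroup generated by the centralizer of z in g Q g⁻¹ and the centralizer of g z g⁻¹ in Q, and E for the intersection of Q and g Q g⁻¹. Then R is the centralizer of V in X and is the largest normal 2-subgroup of X, and X/R is isomorphic to the symmetric group of degree 3; moreover the normalizer of V is the product of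 X and the centralizer of V in H, X is normal in it, and modulo R it is the direct product of X/R and of the centralizer of V in H modulo R. -/
theorem result {G : Type*} [Group G] [Finite G] (Q : Subgroup G) (hQ : Cfsg.IsLargeExtraspecial Q) (z : G) (hz : ((Subgroup.center ↥Q).map Q.subtype) = Subgroup.zpowers z) (hz2 : orderOf z = 2) (w : ℕ) (hw : 2 ≤ w) (hcard : Nat.card ↥Q = 2 ^ (2 * w + 1)) (g : G) (hgH : g ∉ Subgroup.centralizer ({z} : Set G)) (hgQ : g * z * g⁻¹ ∈ Q) (V X R E : Subgroup G) (hV : V = Subgroup.closure ({z, g * z * g⁻¹} : Set G)) (hX : X = Q ⊔ (Q).map (MulAut.conj g).toMonoidHom) (hR : R = ((Q).map (MulAut.conj g).toMonoidHom ⊓ Subgroup.centralizer ({z} : Set G)) ⊔ (Q ⊓ Subgroup.centralizer ({g * z * g⁻¹} : Set G))) (hE : E = Q ⊓ (Q).map (MulAut.conj g).toMonoidHom) : R = X ⊓ Subgroup.centralizer (V : Set G) ∧ R = (Cfsg.pCore 2 ↥X).map X.subtype ∧ (∃ h : (R.subgroupOf X).Normal, Nonempty (↥X ⧸ R.subgroupOf X ≃* Equiv.Perm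 (Fin 3))) ∧ Subgroup.normalizer (V : Set G) = X ⊔ (Subgroup.centralizer ({z} : Set G) ⊓ Subgroup.centralizer (V : Set G)) ∧ (∀ y ∈ Subgroup.normalizer (V : Set G), ∀ x ∈ X, y * x * y⁻¹ ∈ X) ∧ R ≤ Subgroup.centralizer ({z} : Set G) ⊓ Subgroup.centralizer (V : Set G) ∧ (∀ x ∈ X, ∀ c ∈ Subgroup.centralizer ({z} : Set G) ⊓ Subgroup.centralizer (V : Set G), x * c * x⁻¹ * c⁻¹ ∈ R) ∧ X ⊓ (Subgroup.centralizer ({z} : Set G) ⊓ Subgroup.centralizer (V : Set G)) = R := by
  classical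
  haveI : Fact (Nat.Prime 2) := ⟨Nat.prime_two⟩
  have h : CfsgLib.LargeExtra.PairAt Q z g := CfsgLib.LargeExtra.pairAt_of_large hQ hz hz2 hgH hgQ
  have h32 := CfsgLib.LargeExtra.thirty_two_le hw hcard
  obtain rfl : V = CfsgLib.LargeExtra.fourV z g := hV
  obtain rfl : X = CfsgLib.LargeExtra.genX Q g := hX
  obtain rfl : R = CfsgLib.LargeExtra.radR Q z g := hR
  set X := CfsgLib.LargeExtra.genX Q g with hXdef
  set R := CfsgLib.LargeExtra.radR Q z g with hRdef
  set V := CfsgLib.LargeExtra.fourV z g with hVdef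
  set T := CfsgLib.LargeExtra.threePts z g with hTdef
  have hTV : ∀ {t : G}, t ∈ T → t ∈ V := fun ht => h.mem_fourV.mpr (Or.inr ht)
  have hT1 : ∀ {t : G}, t ∈ T → t ≠ 1 := by
    rintro t (rfl | rfl | rfl)
    exacts [h.ne_one, h.s_ne_one, h.zs_ne_one]
  have hzV : z ∈ V := hTV (Or.inl rfl)
  have hsV : g * z * g⁻¹ ∈ V := hTV (Or.inr (Or.inl rfl))
  have hperm : ∀ x ∈ Subgroup.normalizer (V : Set G), ∀ t ∈ T, x * t * x⁻¹ ∈ T := by
    intro x hx t ht
    rcases h.mem_fourV.mp ((Subgroup.mem_normalizer_iff.mp hx t).mp (hTV ht)) with e | e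
    · exact absurd (conj_eq_one_iff.mp e) (hT1 ht)
    · exact e
  have hXN : X ≤ Subgroup.normalizer (V : Set G) := by
    intro x hx
    rw [Subgroup.mem_normalizer_iff]
    intro t
    refine ⟨fun ht => h.genX_perm hx h32 t ht, fun ht => ?_⟩
    have := h.genX_perm (inv_mem hx) h32 _ ht
    simpa [mul_assoc] using this
  let φ : ↥(Subgroup.normalizer (V : Set G)) →* Equiv.Perm T :=
    { toFun := fun x =>
        { toFun := fun t => ⟨(x : G) * t * (x : G)⁻¹, hperm x x.2 t t.2⟩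
          invFun := fun t => ⟨(x : G)⁻¹ * t * (x : G)⁻¹⁻¹, hperm _ (inv_mem x.2) t t.2⟩
          left_inv := fun t => Subtype.ext (by simp [mul_assoc])
          right_inv := fun t => Subtype.ext (by simp [mul_assoc]) }
      map_one' := Equiv.ext fun t => Subtype.ext (by simp)
      map_mul' := fun a b => Equiv.ext fun t => Subtype.ext (by simp [mul_assoc]) }
  have hφker : ∀ x : ↥(Subgroup.normalizer (V : Set G)), φ x = 1 ↔ (x : G) ∈ Subgroup.centralizer (V : Set G) := by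
    intro x
    rw [h.mem_centralizer_fourV]
    constructor
    · intro e
      exact ⟨mul_inv_eq_iff_eq_mul.mp (congrArg Subtype.val (Equiv.ext_iff.mp e ⟨z, Or.inl rfl⟩)),
        mul_inv_eq_iff_eq_mul.mp (congrArg Subtype.val (Equiv.ext_iff.mp e ⟨g * z * g⁻¹, Or.inr (Or.inl rfl)⟩))⟩
    · rintro ⟨h1, h2⟩
      refine Equiv.ext fun t => Subtype.ext ?_
      obtain ⟨t, rfl | rfl | rfl⟩ := t
      · exact mul_inv_eq_iff_eq_mul.mpr h1
      · exact mul_inv_eq_iff_eq_mul.mpr h2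
      · exact mul_inv_eq_iff_eq_mul.mpr
          ((show Commute (x : G) z from h1).mul_right (show Commute (x : G) (g * z * g⁻¹) from h2)).eq
  let ι : ↥X →* ↥(Subgroup.normalizer (V : Set G)) := Subgroup.inclusion hXN
  let ψ : ↥X →* Equiv.Perm T := φ.comp ι
  -- a numbering of the three points
  let f : Fin 3 → T := ![⟨z, Or.inl rfl⟩, ⟨g * z * g⁻¹, Or.inr (Or.inl rfl)⟩, ⟨z * (g * z * g⁻¹), Or.inr (Or.inr rfl)⟩]
  have hf : Function.Bijective f := by
    constructor
    · intro i j hij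
      have hij' := congrArg Subtype.val hij
      fin_cases i <;> fin_cases j <;> first
        | rfl
        | exact absurd hij' h.conj_ne.symm
        | exact absurd hij' h.conj_ne
        | exact absurd hij' h.z_ne_zs
        | exact absurd hij' h.z_ne_zs.symm
        | exact absurd hij' h.s_ne_zs
        | exact absurd hij' h.s_ne_zs.symm
    · rintro ⟨t, rfl | rfl | rfl⟩
      exacts [⟨0, rfl⟩, ⟨1, rfl⟩, ⟨2, rfl⟩]
  let e : Fin 3 ≃ T := Equiv.ofBijective f hf
  let ψ' : ↥X →* Equiv.Perm (Fin 3) := (e.permCongrHom.symm.toMonoidHom).comp ψ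
  have hψ'ker : ∀ x : ↥X, ψ' x = 1 ↔ (x : G) ∈ Subgroup.centralizer (V : Set G) := by
    intro x
    refine Iff.trans ?_ (hφker (ι x))
    exact (map_eq_one_iff e.permCongrHom.symm.toMonoidHom e.permCongrHom.symm.injective)
  obtain ⟨y, hy, hys⟩ := h.exists_swap
  obtain ⟨u, hu, hus⟩ := h.exists_swap' h32
  have hval : ∀ (x : ↥X) (i j : Fin 3), (x : G) * (f i : G) * (x : G)⁻¹ = (f j : G) → ψ' x i = j := by
    intro x i j hij
    apply e.injective
    show e (e.symm (ψ x (e i))) = e j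
    rw [Equiv.apply_symm_apply]
    exact Subtype.ext hij
  have hψy : ψ' ⟨y, Subgroup.mem_sup_left hy⟩ = Equiv.swap 1 2 := by
    refine Equiv.ext fun i => ?_
    fin_cases i
    · exact hval _ 0 0 (mul_inv_eq_iff_eq_mul.mpr (h.comm_z hy))
    · exact hval _ 1 2 hys
    · refine hval _ 2 1 ?_
      show y * (z * (g * z * g⁻¹)) * y⁻¹ = g * z * g⁻¹
      calc y * (z * (g * z * g⁻¹)) * y⁻¹ = (y * z * y⁻¹) * (y * (g * z * g⁻¹) * y⁻¹) := by group
        _ = g * z * g⁻¹ := by rw [mul_inv_eq_iff_eq_mul.mpr (h.comm_z hy), hys, ← mul_assoc, h.sq_one, one_mul]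
  have huz : u * z * u⁻¹ = z * (g * z * g⁻¹) := hus.trans h.s_comm
  have hψu : ψ' ⟨u, Subgroup.mem_sup_right hu⟩ = Equiv.swap 0 2 := by
    refine Equiv.ext fun i => ?_
    fin_cases i
    · exact hval _ 0 2 huz
    · exact hval _ 1 1 (mul_inv_eq_iff_eq_mul.mpr (h.W_comm_s hu))
    · refine hval _ 2 0 ?_
      show u * (z * (g * z * g⁻¹)) * u⁻¹ = z
      calc u * (z * (g * z * g⁻¹)) * u⁻¹ = (u * z * u⁻¹) * (u * (g * z * g⁻¹) * u⁻¹) := by group
        _ = z := by rw [huz, mul_inv_eq_iff_eq_mul.mpr (h.W_comm_s hu), mul_assoc, h.s_sq, mul_one]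
  have hgen : ∀ σ : Equiv.Perm (Fin 3), σ = 1 ∨ σ = Equiv.swap 1 2 ∨ σ = Equiv.swap 0 2 ∨
      σ = Equiv.swap 1 2 * Equiv.swap 0 2 ∨ σ = Equiv.swap 0 2 * Equiv.swap 1 2 ∨
      σ = Equiv.swap 1 2 * Equiv.swap 0 2 * Equiv.swap 1 2 := by decide
  have hsurj : Function.Surjective ψ' := by
    intro σ
    have h1 : Equiv.swap (1 : Fin 3) 2 ∈ ψ'.range := ⟨_, hψy⟩
    have h2 : Equiv.swap (0 : Fin 3) 2 ∈ ψ'.range := ⟨_, hψu⟩
    rcases hgen σ with e | e | e | e | e | e <;> rw [e]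
    exacts [one_mem ψ'.range, h1, h2, mul_mem h1 h2, mul_mem h2 h1, mul_mem (mul_mem h1 h2) h1]
  have hkerR : ψ'.ker = R.subgroupOf X := by
    ext x
    rw [MonoidHom.mem_ker, hψ'ker, Subgroup.mem_subgroupOf, h.mem_radR_iff h32]
    exact ⟨fun hc => ⟨x.2, hc⟩, fun hc => hc.2⟩
  haveI hRn : (R.subgroupOf X).Normal := hkerR ▸ inferInstance
  have hNsplit : ∀ n ∈ Subgroup.normalizer (V : Set G), ∃ x ∈ X, ∃ c ∈ Subgroup.centralizer (V : Set G), n = x * c := by
    intro n hn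
    obtain ⟨x, hx⟩ := hsurj (e.permCongrHom.symm (φ ⟨n, hn⟩))
    have hx' : φ (ι x) = φ ⟨n, hn⟩ := e.permCongrHom.symm.injective hx
    refine ⟨x, x.2, (x : G)⁻¹ * n, ?_, by group⟩
    exact (hφker ((ι x)⁻¹ * ⟨n, hn⟩)).mp (by rw [map_mul, map_inv, hx', inv_mul_cancel])
  have hCV : ∀ c ∈ Subgroup.centralizer (V : Set G), c ∈ Subgroup.centralizer ({z} : Set G) :=
    fun c hc => Subgroup.mem_centralizer_singleton_iff.mpr (h.mem_centralizer_fourV.mp hc).1
  refine ⟨?_, ?_, ⟨hRn, ⟨(QuotientGroup.quotientMulEquivOfEq hkerR.symm).trans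
    (QuotientGroup.quotientKerEquivOfSurjective ψ' hsurj)⟩⟩, ?_, ?_, ?_, ?_, ?_⟩
  · ext x
    exact h.mem_radR_iff h32
  · refine le_antisymm ?_ ?_
    · intro x hx
      refine ⟨⟨x, h.radR_le_genX hx⟩, ?_, rfl⟩
      exact le_sSup (show R.subgroupOf X ∈ {N : Subgroup ↥X | N.Normal ∧ IsPGroup 2 N} from
        ⟨hRn, h.radR_isPGroup.comap_of_injective X.subtype X.subtype_injective⟩) hx
    · rintro _ ⟨x, hx, rfl⟩
      have himg : IsPGroup 2 ((Cfsg.pCore 2 ↥X).map ψ') := (CfsgLib.LargeExtra.pCore_isPGroup' 2 ↥X).map ψ'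
      haveI : ((Cfsg.pCore 2 ↥X).map ψ').Normal :=
        (CfsgLib.LargeExtra.pCore_normal' 2 ↥X).map ψ' hsurj
      have h1 : ψ' x = 1 := by
        by_contra hne
        have key : ∀ σ : Equiv.Perm (Fin 3), σ ≠ 1 →
            (σ * σ * σ = 1) ∨ ∃ τ : Equiv.Perm (Fin 3), σ * (τ * σ * τ⁻¹) ≠ 1 ∧
              (σ * (τ * σ * τ⁻¹)) * (σ * (τ * σ * τ⁻¹)) * (σ * (τ * σ * τ⁻¹)) = 1 := by decide +kernel
        have hmem : ψ' x ∈ (Cfsg.pCore 2 ↥X).map ψ' := ⟨x, hx, rfl⟩
        obtain ⟨ρ, hρ, hρ1, hρ3⟩ : ∃ ρ ∈ (Cfsg.pCore 2 ↥X).map ψ', ρ ≠ 1 ∧ ρ * ρ * ρ = 1 := by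
          rcases key _ hne with e3 | ⟨τ, hτ1, hτ3⟩
          · exact ⟨_, hmem, hne, e3⟩
          · exact ⟨_, mul_mem hmem (Subgroup.Normal.conj_mem ‹_› _ hmem τ), hτ1, hτ3⟩
        obtain ⟨k, hk⟩ := himg ⟨ρ, hρ⟩
        have hd1 : orderOf ρ ∣ 2 ^ k := orderOf_dvd_of_pow_eq_one (by simpa using congrArg Subtype.val hk)
        have hd2 : orderOf ρ ∣ 3 := orderOf_dvd_of_pow_eq_one (by rw [pow_succ, pow_two]; exact hρ3)
        exact hρ1 (orderOf_eq_one_iff.mp (Nat.eq_one_of_dvd_coprimes (Nat.Coprime.pow_left k (by norm_num)) hd1 hd2))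
      exact (h.mem_radR_iff h32).mpr ⟨x.2, (hψ'ker x).mp h1⟩
  · refine le_antisymm (fun n hn => ?_) (sup_le hXN ?_)
    · obtain ⟨x, hx, c, hc, rfl⟩ := hNsplit n hn
      exact mul_mem (Subgroup.mem_sup_left hx) (Subgroup.mem_sup_right ⟨hCV c hc, hc⟩)
    · intro c hc
      rw [Subgroup.mem_normalizer_iff]
      intro t
      have hcc := Subgroup.mem_centralizer_iff.mp hc.2
      constructor
      · intro ht
        rwa [mul_inv_eq_iff_eq_mul.mpr (hcc t ht).symm]
      · intro ht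
        have e := hcc _ ht
        have e2 : t = c * t * c⁻¹ := by
          calc t = c⁻¹ * (c * t * c⁻¹ * c) := by group
            _ = c⁻¹ * (c * (c * t * c⁻¹)) := by rw [e]
            _ = c * t * c⁻¹ := by group
        rwa [e2]
  · intro n hn x hx
    obtain ⟨x0, hx0, c, hc, rfl⟩ := hNsplit n hn
    obtain ⟨hcz, hcs⟩ := h.mem_centralizer_fourV.mp hc
    have hcx : c * x * c⁻¹ ∈ X := by
      rw [hXdef, CfsgLib.LargeExtra.genX, Subgroup.sup_eq_closure] at hx
      induction hx using Subgroup.closure_induction with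
      | mem w hw =>
        rcases hw with hw | hw
        · exact Subgroup.mem_sup_left (h.Q_normal hcz hw)
        · exact Subgroup.mem_sup_right (h.W_normal hcs hw)
      | one => simp
      | mul a b _ _ ha hb => simpa [mul_assoc] using mul_mem ha hb
      | inv a _ ha => simpa [mul_assoc] using inv_mem ha
    have := mul_mem (mul_mem hx0 hcx) (inv_mem hx0)
    simpa [mul_assoc] using this
  · exact fun r hr => ⟨hCV r (h.radR_le_centralizer hr), h.radR_le_centralizer hr⟩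
  · exact fun x hx c hc => (h.comm_centralizer_mem hx h32).1 c hc.2
  · ext x
    constructor
    · exact fun hx => (h.mem_radR_iff h32).mpr ⟨hx.1, hx.2.2⟩
    · intro hx
      obtain ⟨h1, h2⟩ := (h.mem_radR_iff h32).mp hx
      exact ⟨h1, hCV x h2, h2⟩

end Cfsg.Agent.S5430
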