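import Cfsg.Statements.S5431
import Cfsg.Agent.Lib.LargeExtra.PairOfLarge

set_option autoImplicit false
open Cfsg
open scoped commutatorElement

namespace Cfsg.Agent.S5431

/-- Let Q be a large extraspecial 2-subgroup of the finite group G (extraspecial; centralizer equal to its centre; normal in the centralizer of its centre; normalizing no non-trivial subgroup of odd order) with centre generated by z, an involution, of width w ≥ 2 (order 2^(2w+1)); let g be an element outside the centralizer H of z with g z g⁻¹ in Q; write V for the subgroup generated by z and g z g⁻¹, X for the subgroup generated by Q and g Q g⁻¹, R for the subgroup generated by the centralizer of z in g Q g⁻¹ and the centralizer of g z g⁻¹ in Q, and E for the intersection of Q and g Q g⁻¹. Then V is the centre of R, E lies in the second centre of R, R is nilpotent of class at most 3, E and R/E are elementary abelian, R/E is the direct product of the images of the centralizer of g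 z g⁻¹ in Q and of the centralizer of z in g Q g⁻¹ (R is their product and they meet in E), and the commutator subgroup of X and E lies in V. -/
theorem result {G : Type*} [Group G] [Finite G] (Q : Subgroup G) (hQ : Cfsg.IsLargeExtraspecial Q) (z : G) (hz : ((Subgroup.center ↥Q).map Q.subtype) = Subgroup.zpowers z) (hz2 : orderOf z = 2) (w : ℕ) (hw : 2 ≤ w) (hcard : Nat.card ↥Q = 2 ^ (2 * w + 1)) (g : G) (hgH : g ∉ Subgroup.centralizer ({z} : Set G)) (hgQ : g * z * g⁻¹ ∈ Q) (V X R E : Subgroup G) (hV : V = Subgroup.closure ({z, g * z * g⁻¹} : Set G)) (hX : X = Q ⊔ (Q).map (MulAut.conj g).toMonoidHom) (hR : R = ((Q).map (MulAut.conj g).toMonoidHom ⊓ Subgroup.centralizer ({z} : Set G)) ⊔ (Q ⊓ Subgroup.centralizer ({g * z * g⁻¹} : Set G))) (hE : E = Q ⊓ (Q).map (MulAut.conj g).toMonoidHom) : (Subgroup.center ↥R).map R.subtype = V ∧ E ≤ (Subgroup.upperCentralSeries ↥R 2).map R.subtype ∧ Subgroup.upperCentralSeries ↥R 3 = ⊤ ∧ Cfsg.IsElementaryAbelian 2 E ∧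 (∀ x ∈ R, ∀ y ∈ R, x * y * x⁻¹ * y⁻¹ ∈ E ∧ x ^ 2 ∈ E) ∧ ((Q).map (MulAut.conj g).toMonoidHom ⊓ Subgroup.centralizer ({z} : Set G)) ⊓ (Q ⊓ Subgroup.centralizer ({g * z * g⁻¹} : Set G)) = E ∧ ⁅X, E⁆ ≤ V := by
  haveI : Fact (Nat.Prime 2) := ⟨Nat.prime_two⟩
  have h : CfsgLib.LargeExtra.PairAt Q z g := CfsgLib.LargeExtra.pairAt_of_large hQ hz hz2 hgH hgQ
  have h32 := CfsgLib.LargeExtra.thirty_two_le hw hcard
  obtain rfl : V = CfsgLib.LargeExtra.fourV z g := hV
  obtain rfl : X = CfsgLib.LargeExtra.genX Q g := hX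
  obtain rfl : R = CfsgLib.LargeExtra.radR Q z g := hR
  obtain rfl : E = Q ⊓ Q.map (MulAut.conj g).toMonoidHom := hE
  have hzW := h.z_mem_W h32
  have hnot : ∀ x, x = z → x = g * z * g⁻¹ → False := fun x h1 h2 => h.conj_ne (h2.symm.trans h1)
  have hzV : z ∈ CfsgLib.LargeExtra.fourV z g := Subgroup.subset_closure (Or.inl rfl)
  have hsV : g * z * g⁻¹ ∈ CfsgLib.LargeExtra.fourV z g := Subgroup.subset_closure (Or.inr rfl)
  -- `E` is elementary abelian
  have hEsq : ∀ e ∈ Q ⊓ Q.map (MulAut.conj g).toMonoidHom, e * e = 1 := by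
    intro e he
    rcases h.sq_cases he.1 with h1 | h1
    · exact h1
    · rcases h.W_sq_cases he.2 with h2 | h2
      exacts [h2, (hnot _ h1 h2).elim]
  have hEcomm : ∀ a ∈ Q ⊓ Q.map (MulAut.conj g).toMonoidHom, ∀ b ∈ Q ⊓ Q.map (MulAut.conj g).toMonoidHom,
      a * b = b * a := by
    intro a ha b hb
    rcases h.conj_cases ha.1 hb.1 with h1 | h1
    · exact mul_inv_eq_iff_eq_mul.mp h1
    · rcases h.W_conj_cases ha.2 hb.2 with h2 | h2
      · exact mul_inv_eq_iff_eq_mul.mp h2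
      · exact (h.conj_ne (mul_right_cancel (h2.symm.trans h1))).elim
  have hzE : z ∈ Q ⊓ Q.map (MulAut.conj g).toMonoidHom := ⟨h.z_mem, hzW⟩
  have hsE : g * z * g⁻¹ ∈ Q ⊓ Q.map (MulAut.conj g).toMonoidHom := ⟨h.conj_mem, h.s_mem_W⟩
  have hEA : ∀ e ∈ Q ⊓ Q.map (MulAut.conj g).toMonoidHom, e ∈ CfsgLib.LargeExtra.sideA Q z g :=
    fun e he => h.mem_sideA.mpr ⟨he.1, h.W_comm_s he.2⟩
  have hER : ∀ e ∈ Q ⊓ Q.map (MulAut.conj g).toMonoidHom, e ∈ CfsgLib.LargeExtra.radR Q z g :=
    fun e he => Subgroup.mem_sup_right (hEA e he)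
  -- `[X, E] ≤ V`
  have hXE : ∀ x ∈ CfsgLib.LargeExtra.genX Q g, ∀ e ∈ Q ⊓ Q.map (MulAut.conj g).toMonoidHom,
      x * e * x⁻¹ * e⁻¹ ∈ CfsgLib.LargeExtra.fourV z g := by
    intro x hx
    have hgen : ∀ w ∈ (Q : Set G) ∪ (Q.map (MulAut.conj g).toMonoidHom : Set G),
        ∀ e ∈ Q ⊓ Q.map (MulAut.conj g).toMonoidHom, w * e * w⁻¹ * e⁻¹ ∈ CfsgLib.LargeExtra.fourV z g := by
      intro w hw e he
      rcases hw with hw | hw
      · rcases h.conj_cases hw he.1 with h1 | h1 <;> rw [h1]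
        · rw [mul_inv_cancel]; exact one_mem _
        · rw [mul_inv_cancel_right]; exact hzV
      · rcases h.W_conj_cases hw he.2 with h1 | h1 <;> rw [h1]
        · rw [mul_inv_cancel]; exact one_mem _
        · rw [mul_inv_cancel_right]; exact hsV
    rw [CfsgLib.LargeExtra.genX, Subgroup.sup_eq_closure] at hx
    have hVE : CfsgLib.LargeExtra.fourV z g ≤ Q ⊓ Q.map (MulAut.conj g).toMonoidHom := by
      rw [CfsgLib.LargeExtra.fourV, Subgroup.closure_le]
      rintro _ (rfl | rfl)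
      exacts [hzE, hsE]
    induction hx using Subgroup.closure_induction_left with
    | one => intro e _; simp
    | mul_left w hw u hu ih =>
      intro e he
      have hue := ih e he
      have hu' : u * e * u⁻¹ ∈ Q ⊓ Q.map (MulAut.conj g).toMonoidHom := by
        have := mul_mem (hVE hue) he
        simpa [mul_assoc] using this
      have := mul_mem (hgen w hw _ hu') hue
      simpa [mul_assoc] using this
    | inv_mul_cancel w hw u hu ih =>
      intro e he
      have hue := ih e he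
      have hu' : u * e * u⁻¹ ∈ Q ⊓ Q.map (MulAut.conj g).toMonoidHom := by
        have := mul_mem (hVE hue) he
        simpa [mul_assoc] using this
      have hw' : w⁻¹ ∈ (Q : Set G) ∪ (Q.map (MulAut.conj g).toMonoidHom : Set G) :=
        hw.imp (fun h => Q.inv_mem h) (fun h => (Q.map (MulAut.conj g).toMonoidHom).inv_mem h)
      have := mul_mem (hgen w⁻¹ hw' _ hu') hue
      simpa [mul_assoc] using this
  -- `V` is the centre of `R`
  have hVR : ∀ v ∈ CfsgLib.LargeExtra.fourV z g, v ∈ CfsgLib.LargeExtra.radR Q z g := by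
    intro v hv
    refine (Subgroup.closure_le _).mpr ?_ hv
    rintro _ (rfl | rfl)
    exacts [hER _ hzE, hER _ hsE]
  have hVc : ∀ v ∈ CfsgLib.LargeExtra.fourV z g, ∀ r ∈ CfsgLib.LargeExtra.radR Q z g, r * v = v * r :=
    fun v hv r hr => (Subgroup.mem_centralizer_iff.mp (h.radR_le_centralizer hr) v hv).symm
  have hcenter : ∀ x ∈ CfsgLib.LargeExtra.radR Q z g,
      (∀ r ∈ CfsgLib.LargeExtra.radR Q z g, r * x = x * r) → x ∈ CfsgLib.LargeExtra.fourV z g := by
    intro x hx hc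
    obtain ⟨hxz, hxs⟩ := h.mem_centralizer_fourV.mp (h.radR_le_centralizer hx)
    obtain ⟨y, hy, hys⟩ := h.exists_swap
    set e := y⁻¹ * (x * y * x⁻¹) with he
    have heQ : e ∈ Q := mul_mem (inv_mem hy) (h.Q_normal hxz hy)
    have hec : ∀ a ∈ Q, a * (g * z * g⁻¹) = g * z * g⁻¹ * a → a * e = e * a := by
      intro a ha has
      have haR : a ∈ CfsgLib.LargeExtra.radR Q z g := Subgroup.mem_sup_right (h.mem_sideA.mpr ⟨ha, has⟩)
      have hyX : y ∈ CfsgLib.LargeExtra.genX Q g := Subgroup.mem_sup_left hy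
      have h1 := hc _ ((h.comm_centralizer_mem hyX h32).2 a haR)
      have h0 := hc a haR
      -- `x` fixes `a` and `y a y⁻¹`
      calc a * e = y⁻¹ * ((y * a * y⁻¹) * x) * y * x⁻¹ := by rw [he]; group
        _ = y⁻¹ * (x * (y * a * y⁻¹)) * y * x⁻¹ := by rw [h1]
        _ = y⁻¹ * x * y * (a * x⁻¹) := by group
        _ = y⁻¹ * x * y * (x⁻¹ * a) := by rw [((show Commute a x from h0).inv_right).eq]
        _ = e * a := by rw [he]; group
    have hy2 : (y * y) * x = x * (y * y) := by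
      rcases h.sq_cases hy with h1 | h1 <;> rw [h1]
      · simp
      · exact hxz.symm
    have hxy : x * y * x⁻¹ = y * e := by rw [he]; group
    have fixQ : x * y = y * x → ∀ q ∈ Q, q * x = x * q := by
      intro hyx q hq
      rcases h.split_conj h.conj_mem hy hys hq with h1 | h1
      · exact hc q (Subgroup.mem_sup_right (h.mem_sideA.mpr ⟨hq, h1⟩))
      · have h2 := hc _ (Subgroup.mem_sup_right (h.mem_sideA.mpr ⟨mul_mem (inv_mem hy) hq, h1⟩))
        calc q * x = y * (y⁻¹ * q * x) := by group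
          _ = (y * x) * (y⁻¹ * q) := by rw [h2]; group
          _ = x * q := by rw [← hyx]; group
    have hQcent : ∀ w : G, (∀ q ∈ Q, q * w = w * q) → w = 1 ∨ w = z := by
      intro w hw
      have : w ∈ Subgroup.centralizer (Q : Set G) := Subgroup.mem_centralizer_iff.mpr hw
      rw [h.selfCent, h.centre] at this
      exact h.mem_zpowers_z.mp this
    rcases h.double_centralizer h.conj_mem hy hys heQ hec with e1 | e1 | e1 | e1
    · rw [e1, mul_one] at hxy
      rcases hQcent x (fixQ (mul_inv_eq_iff_eq_mul.mp hxy)) with e2 | e2 <;> rw [e2]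
      exacts [one_mem _, hzV]
    · -- `x * s` centralizes `Q`
      rw [e1] at hxy
      have hsy : g * z * g⁻¹ * y = y * (z * (g * z * g⁻¹)) := by
        have h1 : z * (g * z * g⁻¹) * y = y * (g * z * g⁻¹) := by rw [← hys]; group
        calc g * z * g⁻¹ * y = z * (z * (g * z * g⁻¹) * y) := by
              rw [show z * (z * (g * z * g⁻¹) * y) = (z * z) * (g * z * g⁻¹ * y) by group, h.sq_one, one_mul]
          _ = (z * y) * (g * z * g⁻¹) := by rw [h1]; group
          _ = y * (z * (g * z * g⁻¹)) := by rw [← h.comm_z hy]; group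
      have hxy' : x * y = y * z * x := mul_inv_eq_iff_eq_mul.mp hxy
      have hswap : x * (g * z * g⁻¹) * y = y * (x * (g * z * g⁻¹)) := by
        calc x * (g * z * g⁻¹) * y = x * y * (z * (g * z * g⁻¹)) := by rw [mul_assoc, hsy]; group
          _ = y * z * (x * z) * (g * z * g⁻¹) := by rw [hxy']; group
          _ = y * z * (z * x) * (g * z * g⁻¹) := by rw [hxz]
          _ = y * (x * (g * z * g⁻¹)) := by
              rw [show y * z * (z * x) * (g * z * g⁻¹) = y * ((z * z) * (x * (g * z * g⁻¹))) by group, h.sq_one, one_mul]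
      have hall : ∀ q ∈ Q, q * (x * (g * z * g⁻¹)) = x * (g * z * g⁻¹) * q := by
        intro q hq
        have hA : ∀ a ∈ Q, a * (g * z * g⁻¹) = g * z * g⁻¹ * a → a * (x * (g * z * g⁻¹)) = x * (g * z * g⁻¹) * a :=
          fun a ha has => by
            rw [← mul_assoc, hc a (Subgroup.mem_sup_right (h.mem_sideA.mpr ⟨ha, has⟩)), mul_assoc, has, ← mul_assoc]
        rcases h.split_conj h.conj_mem hy hys hq with h1 | h1
        · exact hA q hq h1
        · have h2 := hA _ (mul_mem (inv_mem hy) hq) h1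
          calc q * (x * (g * z * g⁻¹)) = y * (y⁻¹ * q * (x * (g * z * g⁻¹))) := by group
            _ = (y * (x * (g * z * g⁻¹))) * (y⁻¹ * q) := by rw [h2]; group
            _ = x * (g * z * g⁻¹) * q := by rw [← hswap]; group
      rcases hQcent _ hall with e2 | e2
      · rw [mul_eq_one_iff_eq_inv.mp e2, h.s_inv]; exact hsV
      · rw [eq_mul_inv_iff_mul_eq.mpr e2, h.s_inv]; exact mul_mem hzV hsV
    all_goals
      exfalso
      rw [h.s_inv] at e1
      rw [e1] at hxy
      -- then `x` does not fix `y * y`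
      have h2 : x * (y * y) * x⁻¹ = y * y := mul_inv_eq_iff_eq_mul.mpr hy2.symm
      have h3 : y * e * (y * e) = y * y := by
        conv_rhs => rw [← h2]
        rw [show x * (y * y) * x⁻¹ = (x * y * x⁻¹) * (x * y * x⁻¹) by group, hxy, e1]
      have h4 : e * y * e = y := by
        calc e * y * e = y⁻¹ * (y * e * (y * e)) := by group
          _ = y := by rw [h3]; group
      rw [e1] at h4
    · have h5 : y * (g * z * g⁻¹) * y⁻¹ = g * z * g⁻¹ := by
        calc y * (g * z * g⁻¹) * y⁻¹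
            = g * z * g⁻¹ * (g * z * g⁻¹ * y * (g * z * g⁻¹)) * y⁻¹ := by
              rw [show g * z * g⁻¹ * (g * z * g⁻¹ * y * (g * z * g⁻¹)) * y⁻¹ =
                (g * z * g⁻¹ * (g * z * g⁻¹)) * (y * (g * z * g⁻¹) * y⁻¹) by group, h.s_sq, one_mul]
          _ = g * z * g⁻¹ := by rw [h4]; group
      exact h.s_ne_zs (by rw [← hys, h5])
    · have h5 : y * (z * (g * z * g⁻¹)) * y⁻¹ = z * (g * z * g⁻¹) := by
        calc y * (z * (g * z * g⁻¹)) * y⁻¹
            = z * (g * z * g⁻¹) * (z * (g * z * g⁻¹) * y * (z * (g * z * g⁻¹))) * y⁻¹ := by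
              rw [show z * (g * z * g⁻¹) * (z * (g * z * g⁻¹) * y * (z * (g * z * g⁻¹))) * y⁻¹ =
                (z * (g * z * g⁻¹) * (z * (g * z * g⁻¹))) * (y * (z * (g * z * g⁻¹)) * y⁻¹) by group,
                h.zs_sq, one_mul]
          _ = z * (g * z * g⁻¹) := by rw [h4]; group
      refine h.s_ne_zs ?_
      have h6 : y * (z * (g * z * g⁻¹)) * y⁻¹ = g * z * g⁻¹ := by
        calc y * (z * (g * z * g⁻¹)) * y⁻¹ = (y * z * y⁻¹) * (y * (g * z * g⁻¹) * y⁻¹) := by group
          _ = g * z * g⁻¹ := by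
              rw [mul_inv_eq_iff_eq_mul.mpr (h.comm_z hy), hys, ← mul_assoc, h.sq_one, one_mul]
      exact h6.symm.trans h5
  -- squares and commutators of `R` lie in `E`
  have hAB : ∀ a ∈ CfsgLib.LargeExtra.sideA Q z g, ∀ b ∈ CfsgLib.LargeExtra.sideB Q z g,
      a * b * a⁻¹ * b⁻¹ ∈ Q ⊓ Q.map (MulAut.conj g).toMonoidHom := by
    intro a ha b hb
    refine Subgroup.mem_inf.mpr ⟨?_, mul_mem (h.mem_sideB.mp (h.centralizer_conj_sideB (h.sideA_le_centralizer ha) hb)).1
      (inv_mem (h.mem_sideB.mp hb).1)⟩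
    have := mul_mem (h.mem_sideA.mp ha).1 (h.centralizer_conj_sideA (h.sideB_le_centralizer hb) (inv_mem ha)).1
    simpa [mul_assoc] using this
  have hEn : ∀ r ∈ CfsgLib.LargeExtra.radR Q z g, ∀ e ∈ Q ⊓ Q.map (MulAut.conj g).toMonoidHom,
      r * e * r⁻¹ ∈ Q ⊓ Q.map (MulAut.conj g).toMonoidHom := by
    intro r hr e he
    obtain ⟨hrz, hrs⟩ := h.mem_centralizer_fourV.mp (h.radR_le_centralizer hr)
    exact ⟨h.Q_normal hrz he.1, h.W_normal hrs he.2⟩
  have hquad : ∀ x ∈ CfsgLib.LargeExtra.radR Q z g, ∀ y ∈ CfsgLib.LargeExtra.radR Q z g,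
      x * y * x⁻¹ * y⁻¹ ∈ Q ⊓ Q.map (MulAut.conj g).toMonoidHom ∧
        x ^ 2 ∈ Q ⊓ Q.map (MulAut.conj g).toMonoidHom := by
    haveI hn : ((Q ⊓ Q.map (MulAut.conj g).toMonoidHom).subgroupOf (CfsgLib.LargeExtra.radR Q z g)).Normal :=
      ⟨fun e he r => hEn r r.2 e he⟩
    let π := QuotientGroup.mk' ((Q ⊓ Q.map (MulAut.conj g).toMonoidHom).subgroupOf (CfsgLib.LargeExtra.radR Q z g))
    have hk : ∀ r : ↥(CfsgLib.LargeExtra.radR Q z g), π r = 1 ↔ (r : G) ∈ Q ⊓ Q.map (MulAut.conj g).toMonoidHom :=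
      fun r => (QuotientGroup.eq_one_iff r).trans Iff.rfl
    have hcomm : ∀ u v : ↥(CfsgLib.LargeExtra.radR Q z g), π u * π v = π v * π u ↔
        (u : G) * v * (u : G)⁻¹ * (v : G)⁻¹ ∈ Q ⊓ Q.map (MulAut.conj g).toMonoidHom := by
      intro u v
      have := hk (u * v * u⁻¹ * v⁻¹)
      rw [map_mul, map_mul, map_mul, map_inv, map_inv, mul_inv_eq_one, mul_inv_eq_iff_eq_mul] at this
      exact this
    have hAA : ∀ a ∈ CfsgLib.LargeExtra.sideA Q z g, ∀ b ∈ CfsgLib.LargeExtra.sideA Q z g,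
        a * b * a⁻¹ * b⁻¹ ∈ Q ⊓ Q.map (MulAut.conj g).toMonoidHom := by
      intro a ha b hb
      rcases h.conj_cases ha.1 hb.1 with h1 | h1 <;> rw [h1]
      · rw [mul_inv_cancel]; exact one_mem _
      · rw [mul_inv_cancel_right]; exact hzE
    have hBB : ∀ a ∈ CfsgLib.LargeExtra.sideB Q z g, ∀ b ∈ CfsgLib.LargeExtra.sideB Q z g,
        a * b * a⁻¹ * b⁻¹ ∈ Q ⊓ Q.map (MulAut.conj g).toMonoidHom := by
      intro a ha b hb
      rcases h.W_conj_cases ha.1 hb.1 with h1 | h1 <;> rw [h1]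
      · rw [mul_inv_cancel]; exact one_mem _
      · rw [mul_inv_cancel_right]; exact hsE
    have hdec : ∀ r : ↥(CfsgLib.LargeExtra.radR Q z g), ∃ (b a : ↥(CfsgLib.LargeExtra.radR Q z g)),
        (b : G) ∈ CfsgLib.LargeExtra.sideB Q z g ∧ (a : G) ∈ CfsgLib.LargeExtra.sideA Q z g ∧ π r = π b * π a := by
      intro r
      obtain ⟨b, hb, a, ha, hba⟩ := h.exists_mul_of_mem_radR r.2
      refine ⟨⟨b, Subgroup.mem_sup_left hb⟩, ⟨a, Subgroup.mem_sup_right ha⟩, hb, ha, ?_⟩
      rw [← map_mul]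
      exact congrArg π (Subtype.ext hba)
    have hall : ∀ u v : ↥(CfsgLib.LargeExtra.radR Q z g), π u * π v = π v * π u := by
      intro u v
      obtain ⟨b, a, hb, ha, hu⟩ := hdec u
      obtain ⟨b', a', hb', ha', hv⟩ := hdec v
      rw [hu, hv]
      have c1 : Commute (π b) (π b') := (hcomm b b').mpr (hBB _ hb _ hb')
      have c2 : Commute (π a) (π b') := (hcomm a b').mpr (hAB _ ha _ hb')
      have c3 : Commute (π a') (π b) := (hcomm a' b).mpr (hAB _ ha' _ hb)
      have c4 : Commute (π a) (π a') := (hcomm a a').mpr (hAA _ ha _ ha')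
      exact ((c1.mul_left c2).mul_right (c3.symm.mul_left c4)).eq
    intro x hx y hy
    refine ⟨(hcomm ⟨x, hx⟩ ⟨y, hy⟩).mp (hall _ _), (hk (⟨x, hx⟩ ^ 2)).mp ?_⟩
    obtain ⟨b, a, hb, ha, hxba⟩ := hdec ⟨x, hx⟩
    rw [map_pow, hxba, (show Commute (π b) (π a) from hall b a).mul_pow, ← map_pow, ← map_pow, sq, sq]
    have e1 : π (b * b) = 1 := (hk _).mpr (by
      rcases h.W_sq_cases hb.1 with h1 | h1 <;> rw [Subgroup.coe_mul, h1]
      exacts [one_mem _, hsE])
    have e2 : π (a * a) = 1 := (hk _).mpr (by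
      rcases h.sq_cases ha.1 with h1 | h1 <;> rw [Subgroup.coe_mul, h1]
      exacts [one_mem _, hzE])
    rw [e1, e2, one_mul]
  have hup1 : ∀ v : ↥(CfsgLib.LargeExtra.radR Q z g), (v : G) ∈ CfsgLib.LargeExtra.fourV z g →
      v ∈ Subgroup.upperCentralSeries ↥(CfsgLib.LargeExtra.radR Q z g) 1 := by
    intro v hv
    rw [Subgroup.upperCentralSeries_one, Subgroup.mem_center_iff]
    exact fun r => Subtype.ext (hVc v hv r r.2)
  have hup2 : ∀ e : ↥(CfsgLib.LargeExtra.radR Q z g), (e : G) ∈ Q ⊓ Q.map (MulAut.conj g).toMonoidHom →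
      e ∈ Subgroup.upperCentralSeries ↥(CfsgLib.LargeExtra.radR Q z g) 2 := by
    intro e he
    rw [Subgroup.mem_upperCentralSeries_succ_iff]
    intro r
    refine hup1 _ ?_
    have h1 := inv_mem (hXE r (h.radR_le_genX r.2) e he)
    simpa [mul_assoc, commutatorElement_def] using h1
  refine ⟨le_antisymm ?_ ?_, ?_, ?_, ?_, hquad, ?_, ?_⟩
  · rintro _ ⟨x, hx, rfl⟩
    exact hcenter x x.2 fun r hr => congrArg Subtype.val (Subgroup.mem_center_iff.mp hx ⟨r, hr⟩)
  · intro v hv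
    exact ⟨⟨v, hVR v hv⟩, Subgroup.mem_center_iff.mpr fun r => Subtype.ext (hVc v hv r r.2), rfl⟩
  · intro e he
    exact ⟨⟨e, hER e he⟩, hup2 _ he, rfl⟩
  · rw [eq_top_iff]
    intro x _
    rw [Subgroup.mem_upperCentralSeries_succ_iff]
    intro r
    refine hup2 _ ?_
    have h1 := (hquad x x.2 r r.2).1
    simpa [mul_assoc, commutatorElement_def] using h1
  · exact ⟨⟨⟨fun a b => Subtype.ext (hEcomm a a.2 b b.2)⟩⟩, fun a ha => by rw [sq]; exact hEsq a ha⟩
  · refine le_antisymm (fun x hx => ⟨hx.2.1, hx.1.1⟩) fun x hx => ?_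
    exact ⟨⟨hx.2, Subgroup.mem_centralizer_singleton_iff.mpr (h.comm_z hx.1)⟩, hx.1,
      Subgroup.mem_centralizer_singleton_iff.mpr (h.W_comm_s hx.2)⟩
  · rw [Subgroup.commutator_le]
    intro x hx e he
    simpa [commutatorElement_def] using hXE x hx e he

end Cfsg.Agent.S5431
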