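import Cfsg.Statements.S5432
import Cfsg.Agent.Lib.PGroup.ExtraModel
import Cfsg.Agent.Lib.PGroup.ExtraspecialIso
import Cfsg.Agent.Lib.Large.PlusType

set_option autoImplicit false
open Cfsg

namespace Cfsg.Agent.S5432

open CfsgLib.ExtraModel
open scoped Matrix

theorem card_map {A B : Type*} [Group A] [Group B] (e : A ≃* B) (S : Subgroup A) :
    Nat.card (S.map e.toMonoidHom) = Nat.card S :=
  Subgroup.card_map_of_injective e.injective

theorem elementary_map {A B : Type*} [Group A] [Group B] (e : A ≃* B) {S : Subgroup A}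
    (h : Cfsg.IsElementaryAbelian 2 S) : Cfsg.IsElementaryAbelian 2 (S.map e.toMonoidHom) := by
  haveI := h.1
  refine ⟨⟨⟨?_⟩⟩, ?_⟩
  · rintro ⟨_, a, ha, rfl⟩ ⟨_, b, hb, rfl⟩
    have := congrArg Subtype.val (mul_comm' (⟨a, ha⟩ : S) ⟨b, hb⟩)
    exact Subtype.ext (by show e a * e b = e b * e a; rw [← map_mul, ← map_mul]; exact congrArg e this)
  · rintro _ ⟨a, ha, rfl⟩
    show e a ^ 2 = 1
    rw [← map_pow, h.2 a ha, map_one]

/-- Outer automorphism groups of isomorphic groups. -/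
noncomputable def outCongr {A B : Type*} [Group A] [Group B] (e : A ≃* B) : Cfsg.Out A ≃* Cfsg.Out B :=
  QuotientGroup.congr (Cfsg.Inn A) (Cfsg.Inn B) (MulAut.congr e) (by
    ext φ
    constructor
    · rintro ⟨_, ⟨g, rfl⟩, rfl⟩
      refine ⟨e g, ?_⟩
      ext x
      simp [MulAut.congr, MulAut.conj_apply]
    · rintro ⟨g, rfl⟩
      refine ⟨MulAut.conj (e.symm g), ⟨_, rfl⟩, ?_⟩
      ext x
      simp [MulAut.congr, MulAut.conj_apply])

theorem bit_cases : ∀ t : ZMod 2, t = 0 ∨ t = 1 := by decide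

theorem vec_add {n : ℕ} {ε : Fin n → ZMod 2} (a b : Ext ε) : (a * b).vec = a.vec + b.vec := mul_vec a b

theorem vec_zero {n : ℕ} {ε : Fin n → ZMod 2} (φ : MulAut (Ext ε)) (a : Ext ε) :
    (φ a).vec = (φ ⟨a.vec, 0⟩).vec := by
  have he : a = (⟨a.vec, 0⟩ : Ext ε) * ⟨0, a.bit⟩ := Ext.ext (by simp [mul_vec]) (by simp [mul_bit])
  have hc : φ ⟨0, a.bit⟩ ∈ Subgroup.center (Ext ε) := by
    rw [Subgroup.mem_center_iff]
    intro g
    obtain ⟨h, rfl⟩ := φ.surjective g
    rw [← map_mul, ← map_mul,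
      Subgroup.mem_center_iff.mp ((mem_center_iff (a := (⟨0, a.bit⟩ : Ext ε))).mpr rfl) h]
  conv_lhs => rw [he, map_mul, mul_vec, mem_center_iff.mp hc, add_zero]

/-- The action of an automorphism on the vector part. -/
def bar {n : ℕ} {ε : Fin n → ZMod 2} (φ : MulAut (Ext ε)) : Vec n →+ Vec n :=
  AddMonoidHom.mk' (fun v => (φ ⟨v, 0⟩).vec) fun v w => by
    rw [← mul_vec, ← map_mul, vec_zero φ (⟨v, 0⟩ * ⟨w, 0⟩), mul_vec]

theorem bar_apply {n : ℕ} {ε : Fin n → ZMod 2} (φ : MulAut (Ext ε)) (a : Ext ε) :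
    (φ a).vec = bar φ a.vec := vec_zero φ a

theorem bar_form {n : ℕ} {ε : Fin n → ZMod 2} (φ : MulAut (Ext ε)) (v : Vec n) :
    beta ε (bar φ v) (bar φ v) = beta ε v v := by
  have h1 := congrArg φ (sq_eq (⟨v, 0⟩ : Ext ε))
  rw [map_pow, sq_eq] at h1
  dsimp only at h1
  rw [show (φ ⟨v, 0⟩).vec = bar φ v from rfl] at h1
  have hz : φ (⟨0, 1⟩ : Ext ε) = ⟨0, 1⟩ := by
    rcases center_cases (a := φ (⟨0, 1⟩ : Ext ε)) (by
      rw [mem_center_iff, bar_apply, map_zero]) with h | h
    · rw [MulEquiv.map_eq_one_iff] at h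
      exact absurd (congrArg Ext.bit h) (by rw [one_def]; exact one_ne_zero)
    · exact h
  rcases bit_cases (beta ε v v) with h | h
  · rw [h] at h1 ⊢
    rw [show (⟨0, 0⟩ : Ext ε) = 1 from one_def.symm, map_one, one_def] at h1
    exact congrArg Ext.bit h1
  · rw [h] at h1 ⊢
    rw [hz] at h1
    exact congrArg Ext.bit h1

theorem beta_single {n : ℕ} (ε : Fin n → ZMod 2) (u : Vec n) (i : Fin n) (r : ZMod 2 × ZMod 2) :
    beta ε u (Pi.single i r) + beta ε (Pi.single i r) u = (u i).1 * r.2 + r.1 * (u i).2 := by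
  have key : ∀ (e : ZMod 2) (a b : ZMod 2 × ZMod 2), pairB e a b + pairB e b a = a.1 * b.2 + b.1 * a.2 := by
    decide
  rw [beta, beta, Finset.sum_eq_single i (fun j _ hj => by simp [hj, pairB])
    (fun hi => absurd (Finset.mem_univ i) hi), Finset.sum_eq_single i
    (fun j _ hj => by simp [hj, pairB]) (fun hi => absurd (Finset.mem_univ i) hi), Pi.single_eq_same]
  exact key _ _ _

/-- An automorphism trivial on the vector part is inner. -/
theorem inner_of_bar {n : ℕ} {ε : Fin n → ZMod 2} {φ : MulAut (Ext ε)} (h : ∀ v, bar φ v = v) :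
    φ ∈ Cfsg.Inn (Ext ε) := by
  let lam : Vec n →+ ZMod 2 := AddMonoidHom.mk' (fun v => (φ ⟨v, 0⟩).bit) fun v w => by
    have hv : (φ ⟨v, 0⟩).vec = v := h v
    have hw : (φ ⟨w, 0⟩).vec = w := h w
    have hb : ∀ a : Ext ε, a = ⟨a.vec, 0⟩ * ⟨0, a.bit⟩ := fun a =>
      Ext.ext (by simp [mul_vec]) (by simp [mul_bit])
    have h1 := congrArg (fun a => (φ a).bit) (hb (⟨v, 0⟩ * ⟨w, 0⟩))
    simp only [map_mul, mul_bit, mul_vec, hv, hw, zero_add] at h1
    have hc : φ (⟨0, beta ε v w⟩ : Ext ε) = ⟨0, beta ε v w⟩ := by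
      rcases bit_cases (beta ε v w) with k | k
      · rw [k, ← one_def, map_one]
      · rw [k]
        rcases center_cases (a := φ (⟨0, 1⟩ : Ext ε)) (by
          rw [mem_center_iff, bar_apply, map_zero]) with q | q
        · rw [MulEquiv.map_eq_one_iff] at q
          exact absurd (congrArg Ext.bit q) (by rw [one_def]; exact one_ne_zero)
        · exact q
    rw [hc] at h1
    simp only [beta_zero_right, add_zero] at h1
    exact (add_right_cancel h1).symm
  let u : Vec n := fun i => (lam (Pi.single i (0, 1)), lam (Pi.single i (1, 0)))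
  refine ⟨⟨u, 0⟩, ?_⟩
  refine MulEquiv.ext fun a => ?_
  have hB : beta ε u a.vec + beta ε a.vec u = lam a.vec := by
    let B : Vec n →+ ZMod 2 := AddMonoidHom.mk' (fun v => beta ε u v + beta ε v u) fun v w => by
      rw [beta_add_left, beta_add_right]; ring
    suffices h2 : B = lam from DFunLike.congr_fun h2 a.vec
    refine B.functions_ext (ZMod 2) lam fun i r => ?_
    show beta ε u (Pi.single i r) + beta ε (Pi.single i r) u = _
    rw [beta_single]
    have hsum : (Pi.single i r : Vec n) = Pi.single i (r.1, 0) + Pi.single i (0, r.2) := by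
      rw [← Pi.single_add]; simp
    rw [hsum, map_add]
    rcases bit_cases r.1 with a1 | a1 <;> rcases bit_cases r.2 with a2 | a2 <;>
      rw [a1, a2] <;> simp [u, add_comm, Prod.mk_zero_zero]
  have hq : φ (⟨0, a.bit⟩ : Ext ε) = ⟨0, a.bit⟩ := by
    rcases bit_cases a.bit with k | k
    · rw [k, ← one_def, map_one]
    · rw [k]
      rcases center_cases (a := φ (⟨0, 1⟩ : Ext ε)) (by
        rw [mem_center_iff, bar_apply, map_zero]) with q | q
      · rw [MulEquiv.map_eq_one_iff] at q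
        exact absurd (congrArg Ext.bit q) (by rw [one_def]; exact one_ne_zero)
      · exact q
  have hφ : φ a = ⟨a.vec, lam a.vec + a.bit⟩ := by
    have he : a = (⟨a.vec, 0⟩ : Ext ε) * ⟨0, a.bit⟩ := Ext.ext (by simp [mul_vec]) (by simp [mul_bit])
    conv_lhs => rw [he, map_mul, hq]
    refine Ext.ext ?_ ?_
    · rw [mul_vec, show (φ ⟨a.vec, 0⟩).vec = a.vec from h a.vec]; simp
    · rw [mul_bit]; simp [lam]
  have hconj : (⟨u, 0⟩ : Ext ε) * a = ⟨a.vec, lam a.vec + a.bit⟩ * ⟨u, 0⟩ := by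
    refine Ext.ext ?_ ?_
    · simp [mul_vec, add_comm]
    · simp only [mul_bit]
      rw [← hB]
      have k2 : ∀ x y z : ZMod 2, 0 + x + y = y + z + x + 0 + z := by decide
      exact k2 _ _ _
  rw [MulAut.conj_apply, hφ, mul_inv_eq_iff_eq_mul]
  exact hconj

variable {n : ℕ} {ι : Type} [Fintype ι] [DecidableEq ι]

/-- The matrix of an automorphism. -/
noncomputable def matHom (ε : Fin n → ZMod 2) (L : Vec n ≃+ (ι → ZMod 2)) :
    MulAut (Ext ε) →* Matrix ι ι (ZMod 2) where
  toFun φ := LinearMap.toMatrix'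
    (((L.toAddMonoidHom.comp (bar φ)).comp L.symm.toAddMonoidHom).toZModLinearMap 2)
  map_one' := by
    rw [← LinearMap.toMatrix'_id]
    congr 1
    refine LinearMap.ext fun x => ?_
    show L ((1 : MulAut (Ext ε)) ⟨L.symm x, 0⟩).vec = x
    simp
  map_mul' φ ψ := by
    rw [← LinearMap.toMatrix'_comp]
    congr 1
    refine LinearMap.ext fun x => ?_
    show L ((φ * ψ) ⟨L.symm x, 0⟩).vec = L (bar φ (L.symm (L (bar ψ (L.symm x)))))
    rw [AddEquiv.symm_apply_apply, MulAut.mul_apply, bar_apply]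
    rfl

theorem matHom_apply (ε : Fin n → ZMod 2) (L : Vec n ≃+ (ι → ZMod 2)) (φ : MulAut (Ext ε))
    (x : ι → ZMod 2) : matHom ε L φ *ᵥ x = L (bar φ (L.symm x)) := by
  show LinearMap.toMatrix' _ *ᵥ x = _
  rw [LinearMap.toMatrix'_mulVec]
  rfl

/-- The map to the isometry group. -/
noncomputable def isoHom (ε : Fin n → ZMod 2) (L : Vec n ≃+ (ι → ZMod 2)) (Qf : (ι → ZMod 2) → ZMod 2)
    (hQ : ∀ v, Qf (L v) = beta ε v v) : MulAut (Ext ε) →* Cfsg.isometryGroup (ZMod 2) Qf :=
  (matHom ε L).toHomUnits.codRestrict _ fun φ u w => by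
    show Qf (matHom ε L φ *ᵥ u) = Qf u
    rw [matHom_apply, hQ, bar_form, ← hQ, AddEquiv.apply_symm_apply]

theorem exists_cobound (L : Vec n ≃+ (ι → ZMod 2)) (δ : Vec n → Vec n → ZMod 2)
    (hl : ∀ u v w, δ (u + v) w = δ u w + δ v w) (hr : ∀ u v w, δ u (v + w) = δ u v + δ u w)
    (hd : ∀ v, δ v v = 0) (hs : ∀ v w, δ v w = δ w v) :
    ∃ f : Vec n → ZMod 2, ∀ v w, f (v + w) = f v + f w + δ v w := by
  classical
  let b : ι → Vec n := fun i => L.symm (Pi.single i 1)
  let M : ι → ι → ZMod 2 := fun i j => δ (b i) (b j)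
  let o : ι → Fin (Fintype.card ι) := Fintype.equivFin ι
  have hexp : ∀ v w, δ v w = ∑ i, ∑ j, L v i * L w j * M i j := by
    intro v w
    let D₁ : ∀ w, Vec n →+ ZMod 2 := fun w => AddMonoidHom.mk' (fun v => δ v w) fun u v => hl u v w
    let D₂ : ∀ v, Vec n →+ ZMod 2 := fun v => AddMonoidHom.mk' (fun w => δ v w) fun u w => hr v u w
    have hv : ∀ v : Vec n, v = ∑ i, L.symm (Pi.single i (L v i)) := fun v => by
      rw [← map_sum, Finset.univ_sum_single, AddEquiv.symm_apply_apply]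
    have hsmul : ∀ (c : ZMod 2) (i : ι) (w : Vec n), δ (L.symm (Pi.single i c)) w = c * δ (b i) w := by
      intro c i w
      rcases bit_cases c with rfl | rfl
      · rw [Pi.single_zero, map_zero, zero_mul]; exact (D₁ w).map_zero
      · rw [one_mul]
    have hsmul' : ∀ (c : ZMod 2) (j : ι) (v : Vec n), δ v (L.symm (Pi.single j c)) = c * δ v (b j) := by
      intro c j v
      rw [hs, hsmul, hs]
    calc δ v w = D₁ w (∑ i, L.symm (Pi.single i (L v i))) := by rw [← hv]; rfl
      _ = ∑ i, δ (L.symm (Pi.single i (L v i))) w := by rw [map_sum]; rfl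
      _ = ∑ i, L v i * D₂ (b i) (∑ j, L.symm (Pi.single j (L w j))) := by
          refine Finset.sum_congr rfl fun i _ => ?_
          rw [hsmul, ← hv]; rfl
      _ = _ := by
          refine Finset.sum_congr rfl fun i _ => ?_
          rw [map_sum, Finset.mul_sum]
          refine Finset.sum_congr rfl fun j _ => ?_
          show L v i * δ (b i) (L.symm (Pi.single j (L w j))) = _
          rw [hsmul', mul_assoc]
  refine ⟨fun v => ∑ i, ∑ j, if o i < o j then L v i * L v j * M i j else 0, fun v w => ?_⟩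
  rw [hexp v w]
  have hswap : (∑ i, ∑ j, if o i < o j then L w i * L v j * M i j else 0) =
      ∑ i, ∑ j, if o j < o i then L v i * L w j * M i j else 0 := by
    rw [Finset.sum_comm]
    refine Finset.sum_congr rfl fun i _ => Finset.sum_congr rfl fun j _ => ?_
    split_ifs
    · show _ * δ _ _ = _ * δ _ _; rw [hs]; ring
    · rfl
  have hsplit : (∑ i, ∑ j, L v i * L w j * M i j) =
      (∑ i, ∑ j, if o i < o j then L v i * L w j * M i j else 0) +
      ∑ i, ∑ j, if o i < o j then L w i * L v j * M i j else 0 := by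
    rw [hswap, ← Finset.sum_add_distrib]
    refine Finset.sum_congr rfl fun i _ => ?_
    rw [← Finset.sum_add_distrib]
    refine Finset.sum_congr rfl fun j _ => ?_
    rcases lt_trichotomy (o i) (o j) with h | h | h
    · rw [if_pos h, if_neg h.not_gt, add_zero]
    · have hij : i = j := (Fintype.equivFin ι).injective h
      subst hij
      rw [if_neg (lt_irrefl _), add_zero]
      show _ * δ (b i) (b i) = 0
      rw [hd, mul_zero]
    · rw [if_neg h.not_gt, if_pos h, zero_add]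
  rw [hsplit, ← Finset.sum_add_distrib, ← Finset.sum_add_distrib, ← Finset.sum_add_distrib]
  refine Finset.sum_congr rfl fun i _ => ?_
  rw [← Finset.sum_add_distrib, ← Finset.sum_add_distrib, ← Finset.sum_add_distrib]
  refine Finset.sum_congr rfl fun j _ => ?_
  simp only [map_add, Pi.add_apply]
  split_ifs <;> ring

theorem isoHom_surjective (ε : Fin n → ZMod 2) (L : Vec n ≃+ (ι → ZMod 2))
    (Qf : (ι → ZMod 2) → ZMod 2) (hQ : ∀ v, Qf (L v) = beta ε v v) :
    Function.Surjective (isoHom ε L Qf hQ) := by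
  rintro ⟨g, hg⟩
  let G : (ι → ZMod 2) → (ι → ZMod 2) := fun x => (g : Matrix ι ι (ZMod 2)) *ᵥ x
  let G' : (ι → ZMod 2) → (ι → ZMod 2) := fun x => ((g⁻¹ : GL ι (ZMod 2)) : Matrix ι ι (ZMod 2)) *ᵥ x
  have hG : ∀ x y, G (x + y) = G x + G y := fun x y => Matrix.mulVec_add _ _ _
  have hGG : ∀ x, G (G' x) = x := fun x => by
    simp only [G, G', Matrix.mulVec_mulVec, ← Units.val_mul, mul_inv_cancel, Units.val_one,
      Matrix.one_mulVec]
  have hG'G : ∀ x, G' (G x) = x := fun x => by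
    simp only [G, G', Matrix.mulVec_mulVec, ← Units.val_mul, inv_mul_cancel, Units.val_one,
      Matrix.one_mulVec]
  let T : Vec n → Vec n := fun v => L.symm (G (L v))
  have hT : ∀ v w, T (v + w) = T v + T w := fun v w => by simp only [T, map_add, hG]
  let δ : Vec n → Vec n → ZMod 2 := fun v w => beta ε (T v) (T w) + beta ε v w
  have hδl : ∀ u v w, δ (u + v) w = δ u w + δ v w := fun u v w => by
    simp only [δ, hT, beta_add_left]; ring
  have hδr : ∀ u v w, δ u (v + w) = δ u v + δ u w := fun u v w => by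
    simp only [δ, hT, beta_add_right]; ring
  have hTq : ∀ v, beta ε (T v) (T v) = beta ε v v := fun v => by
    rw [← hQ, ← hQ]
    simp only [T, AddEquiv.apply_symm_apply]
    exact hg (L v) 0
  have hδd : ∀ v, δ v v = 0 := fun v => by
    simp only [δ, hTq]; exact CharTwo.add_self_eq_zero _
  have hδs : ∀ v w, δ v w = δ w v := fun v w => by
    have h1 := hδd (v + w)
    rw [hδl, hδr, hδr, hδd, hδd, zero_add, add_zero] at h1
    exact CharTwo.add_eq_zero.mp h1
  obtain ⟨f, hf⟩ := exists_cobound L δ hδl hδr hδd hδs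
  have key : ∀ c d x y b bT : ZMod 2, (c + d + b) + (x + y + (bT + b)) = (c + x) + (d + y) + bT := by
    decide
  let φ : MulAut (Ext ε) :=
    { toFun := fun a => ⟨T a.vec, a.bit + f a.vec⟩
      invFun := fun a => ⟨L.symm (G' (L a.vec)), a.bit + f (L.symm (G' (L a.vec)))⟩
      left_inv := fun a => by
        have e : L.symm (G' (L (T a.vec))) = a.vec := by
          simp only [T, AddEquiv.apply_symm_apply, hG'G, AddEquiv.symm_apply_apply]
        refine Ext.ext e ?_
        show a.bit + f a.vec + f (L.symm (G' (L (T a.vec)))) = a.bit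
        rw [e, add_assoc, CharTwo.add_self_eq_zero, add_zero]
      right_inv := fun a => by
        refine Ext.ext (by simp only [T, AddEquiv.apply_symm_apply, hGG, AddEquiv.symm_apply_apply]) ?_
        show a.bit + f _ + f _ = a.bit
        rw [add_assoc, CharTwo.add_self_eq_zero, add_zero]
      map_mul' := fun a b => by
        refine Ext.ext (by simp only [mul_vec, hT]) ?_
        show (a * b).bit + f (a * b).vec = _
        rw [mul_bit, mul_bit, mul_vec, hf]
        exact key _ _ _ _ _ _ }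
  refine ⟨φ, Subtype.ext (Units.ext ?_)⟩
  show matHom ε L φ = (g : Matrix ι ι (ZMod 2))
  refine Matrix.ext_iff_mulVec.mpr fun x => ?_
  rw [matHom_apply]
  show L (T (L.symm x)) = _
  simp only [T, AddEquiv.apply_symm_apply]
  rfl

theorem isoHom_ker (ε : Fin n → ZMod 2) (L : Vec n ≃+ (ι → ZMod 2))
    (Qf : (ι → ZMod 2) → ZMod 2) (hQ : ∀ v, Qf (L v) = beta ε v v) :
    (isoHom ε L Qf hQ).ker = Cfsg.Inn (Ext ε) := by
  ext φ
  have hval : ∀ ψ : MulAut (Ext ε), ∀ v,
      L (bar ψ v) = (((isoHom ε L Qf hQ ψ : GL ι (ZMod 2))) : Matrix ι ι (ZMod 2)) *ᵥ L v := fun ψ v => by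
    show _ = matHom ε L ψ *ᵥ L v
    rw [matHom_apply, AddEquiv.symm_apply_apply]
  constructor
  · intro hφ
    refine inner_of_bar fun v => L.injective ?_
    rw [hval, MonoidHom.mem_ker.mp hφ]
    simp
  · rintro ⟨g, rfl⟩
    rw [MonoidHom.mem_ker]
    refine Subtype.ext (Units.ext ?_)
    show matHom ε L (MulAut.conj g) = (1 : Matrix ι ι (ZMod 2))
    refine Matrix.ext_iff_mulVec.mpr fun x => ?_
    rw [matHom_apply, Matrix.one_mulVec]
    have : bar (MulAut.conj g) (L.symm x) = L.symm x := by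
      show (MulAut.conj g (⟨L.symm x, 0⟩ : Ext ε)).vec = _
      rw [MulAut.conj_apply, mul_vec, mul_vec]
      show g.vec + L.symm x + g.vec = _
      rw [add_comm g.vec, add_assoc, add_self', add_zero]
    rw [this, AddEquiv.apply_symm_apply]

/-- The outer automorphism group of a model. -/
noncomputable def outIso (ε : Fin n → ZMod 2) (L : Vec n ≃+ (ι → ZMod 2))
    (Qf : (ι → ZMod 2) → ZMod 2) (hQ : ∀ v, Qf (L v) = beta ε v v) :
    Cfsg.Out (Ext ε) ≃* Cfsg.isometryGroup (ZMod 2) Qf :=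
  (QuotientGroup.quotientMulEquivOfEq (isoHom_ker ε L Qf hQ).symm).trans
    (QuotientGroup.quotientKerEquivOfSurjective _ (isoHom_surjective ε L Qf hQ))

/-- Coordinates for the plus type. -/
def plusL (m : ℕ) : Vec m ≃+ (Fin m ⊕ Fin m → ZMod 2) where
  toFun v := Sum.elim (fun i => (v i).1) (fun i => (v i).2)
  invFun x i := (x (.inl i), x (.inr i))
  left_inv v := rfl
  right_inv x := by funext j; cases j <;> rfl
  map_add' v w := by funext j; cases j <;> rfl

theorem plusL_form (m : ℕ) (v : Vec m) :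
    Cfsg.quadFormPlus m (ZMod 2) (plusL m v) = beta 0 v v :=
  Finset.sum_congr rfl fun i _ => by
    show (v i).1 * (v i).2 = pairB 0 (v i) (v i)
    simp [pairB]

/-- Coordinates for the minus type. -/
def minusL (m : ℕ) : Vec (m + 1) ≃+ ((Fin m ⊕ Fin m) ⊕ Fin 2 → ZMod 2) where
  toFun v := Sum.elim (Sum.elim (fun i => (v i.succ).1) (fun i => (v i.succ).2))
    (fun j => if j = 0 then (v 0).1 else (v 0).2)
  invFun x := Fin.cons (x (.inr 0), x (.inr 1)) (fun i => (x (.inl (.inl i)), x (.inl (.inr i))))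
  left_inv v := by funext i; cases i using Fin.cases <;> simp
  right_inv x := by
    funext j
    rcases j with (i | i) | j
    · simp
    · simp
    · fin_cases j <;> simp
  map_add' v w := by
    funext j
    rcases j with (i | i) | j
    · rfl
    · rfl
    · fin_cases j <;> rfl

theorem minusL_form (m : ℕ) (v : Vec (m + 1)) :
    Cfsg.quadFormMinus m (ZMod 2) 1 1 (minusL m v) = beta (Fin.cons 1 0) v v := by
  rw [beta, Fin.sum_univ_succ, add_comm (pairB _ _ _)]
  refine congrArg₂ (· + ·) (Finset.sum_congr rfl fun i _ => ?_) ?_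
  · show (v i.succ).1 * (v i.succ).2 = _
    simp [pairB]
  · show (v 0).1 ^ 2 + 1 * (v 0).1 * (v 0).2 + 1 * (v 0).2 ^ 2 = pairB 1 (v 0) (v 0)
    have key : ∀ p : ZMod 2 × ZMod 2, p.1 ^ 2 + 1 * p.1 * p.2 + 1 * p.2 ^ 2 = pairB 1 p p := by decide
    exact key _

theorem plus_has_elementary (m : ℕ) : ∃ A : Subgroup (Ext (0 : Fin (m + 1) → ZMod 2)),
    Cfsg.IsElementaryAbelian 2 A ∧ Nat.card A = 2 ^ (m + 1 + 1) := by
  refine ⟨(part (ε := (0 : Fin (m + 1) → ZMod 2)) (fun _ => true) (fun _ _ => rfl)).range,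
    elementaryAbelian_range (fun p => by
      rw [pow_two]
      exact Multiplicative.toAdd.injective (Prod.ext (funext fun i => CharTwo.add_self_eq_zero _)
        (CharTwo.add_self_eq_zero _))) _, ?_⟩
  have hinj : Function.Injective (part (ε := (0 : Fin (m + 1) → ZMod 2)) (fun _ => true) (fun _ _ => rfl)) := by
    intro p q h
    apply Multiplicative.toAdd.injective
    refine Prod.ext (funext fun j => ?_) (congrArg Ext.bit h)
    have := congrArg (fun a : Ext (0 : Fin (m + 1) → ZMod 2) => (a.vec j).1) h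
    simpa [part] using this
  rw [← Nat.card_congr (MonoidHom.ofInjective hinj).toEquiv, Nat.card_congr Multiplicative.toAdd,
    Nat.card_prod, Nat.card_fun, Nat.card_zmod, Nat.card_fin]
  ring

theorem minus_no_elementary (m : ℕ) : ¬ ∃ A : Subgroup (Ext (Fin.cons 1 0 : Fin (m + 1) → ZMod 2)),
    Cfsg.IsElementaryAbelian 2 A ∧ Nat.card A = 2 ^ (m + 1 + 1) := by
  rintro ⟨A, hA, hAc⟩
  have h4 := CfsgLib.Large.PlusType.card_orderOf_four (m + 1)
    (CfsgLib.ExtraModel.isExtraspecial (by omega)) card_ext A hA hAc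
  have h5 := CfsgLib.ExtraModel.card_orderOf_four (ε := (Fin.cons 1 0 : Fin (m + 1) → ZMod 2))
  rw [Fin.prod_univ_succ] at h5
  simp only [Fin.cons_zero, one_ne_zero, if_false, Fin.cons_succ, Pi.zero_apply, if_true,
    Finset.prod_const, Finset.card_univ, Fintype.card_fin] at h5
  rw [h4, Nat.cast_sub (Nat.pow_le_pow_right (by norm_num) (by omega))] at h5
  push_cast at h5
  rw [pow_succ (2 : ℤ) m] at h5
  have : (0 : ℤ) < 2 ^ m := by positivity
  linarith

/-- Let E be an extraspecial 2-group of order 2^(2n+1), n ≥ 1. If E contains an elementary abelian subgroup of order 2^(n+1) (plus type), then its outer automorphism group is isomorphic to the full isometry group of the hyperbolic quadratic form in dimension 2n over the field with two elements; otherwise (minus type) it is isomorphic to the full isometry group of the elliptic quadratic form in dimension 2n over that field. -/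
theorem result {E : Type*} [Group E] [Finite E] (hE : Cfsg.IsExtraspecial 2 E) (n : ℕ) (hn : 1 ≤ n) (hcard : Nat.card E = 2 ^ (2 * n + 1)) : ((∃ A : Subgroup E, Cfsg.IsElementaryAbelian 2 A ∧ Nat.card ↥A = 2 ^ (n + 1)) → Nonempty (Cfsg.Out E ≃* Cfsg.isometryGroup (ZMod 2) (Cfsg.quadFormPlus n (ZMod 2)))) ∧ ((¬ ∃ A : Subgroup E, Cfsg.IsElementaryAbelian 2 A ∧ Nat.card ↥A = 2 ^ (n + 1)) → Nonempty (Cfsg.Out E ≃* Cfsg.isometryGroup (ZMod 2) (Cfsg.quadFormMinus (n - 1) (ZMod 2) 1 1))) := by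
  obtain ⟨m, rfl⟩ : ∃ m, n = m + 1 := ⟨n - 1, by omega⟩
  haveI : Fact (Nat.Prime 2) := ⟨Nat.prime_two⟩
  have hplus : ∃ A : Subgroup (Ext (0 : Fin (m + 1) → ZMod 2)),
      Cfsg.IsElementaryAbelian 2 A ∧ Nat.card A = 2 ^ (m + 1 + 1) := plus_has_elementary m
  have hminus : ¬ ∃ A : Subgroup (Ext (Fin.cons 1 0 : Fin (m + 1) → ZMod 2)),
      Cfsg.IsElementaryAbelian 2 A ∧ Nat.card A = 2 ^ (m + 1 + 1) := minus_no_elementary m
  have hE' : Nonempty (E ≃* Ext (0 : Fin (m + 1) → ZMod 2)) ∨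
      Nonempty (E ≃* Ext (Fin.cons 1 0 : Fin (m + 1) → ZMod 2)) := by
    obtain ⟨z, hz, hz1⟩ := CfsgLib.ExtraIso.exists_center_ne_one hE
    obtain ⟨z2, hz2, hz21⟩ := CfsgLib.ExtraIso.exists_center_ne_one
      (CfsgLib.ExtraModel.isExtraspecial (ε := (0 : Fin (m + 1) → ZMod 2)) hn)
    obtain ⟨z3, hz3, hz31⟩ := CfsgLib.ExtraIso.exists_center_ne_one
      (CfsgLib.ExtraModel.isExtraspecial (ε := (Fin.cons 1 0 : Fin (m + 1) → ZMod 2)) hn)
    rcases CfsgLib.ExtraIso.graphIso_two hE (CfsgLib.ExtraModel.isExtraspecial hn)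
      (CfsgLib.ExtraModel.isExtraspecial hn) hz hz1 hz2 hz21 hz3 hz31 (2 ^ (2 * (m + 1) + 1)) ⊤ ⊤ ⊤
      CfsgLib.ExtraIso.good_top CfsgLib.ExtraIso.good_top CfsgLib.ExtraIso.good_top
      (by rw [Subgroup.card_top, hcard]) (by rw [Subgroup.card_top, CfsgLib.ExtraModel.card_ext])
      (by rw [Subgroup.card_top, CfsgLib.ExtraModel.card_ext]) with h | h | h
    · exact Or.inl h.toMulEquiv
    · exfalso
      obtain ⟨e⟩ := h.toMulEquiv
      obtain ⟨A, hA, hAc⟩ := hplus
      exact hminus ⟨_, elementary_map e hA, (card_map e A).trans hAc⟩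
    · exact Or.inr h.toMulEquiv
  constructor
  · rintro ⟨A, hA, hAc⟩
    rcases hE' with ⟨⟨e⟩⟩ | ⟨⟨e⟩⟩
    · exact ⟨(outCongr e).trans (outIso 0 (plusL (m + 1)) _ (plusL_form _))⟩
    · exact absurd ⟨_, elementary_map e hA, (card_map e A).trans hAc⟩ hminus
  · intro hno
    rcases hE' with ⟨⟨e⟩⟩ | ⟨⟨e⟩⟩
    · obtain ⟨A, hA, hAc⟩ := hplus
      exact absurd ⟨_, elementary_map e.symm hA, (card_map e.symm A).trans hAc⟩ hno
    · exact ⟨(outCongr e).trans (outIso (Fin.cons 1 0) (minusL m) _ (minusL_form m))⟩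
end Cfsg.Agent.S5432
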