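import Cfsg.Statements.S5433
import Cfsg.Agent.Lib.LargeExtra.Basic

set_option autoImplicit false
open Cfsg

namespace Cfsg.Agent.S5433

/-- Let Q be a large extraspecial 2-subgroup of the finite group G (extraspecial; centralizer equal to its centre; normal in the centralizer of its centre; normalizing no non-trivial subgroup of odd order), and L a normal subgroup of G containing Q. Then G is the product of L and the normalizer of Q. -/
theorem result {G : Type*} [Group G] [Finite G] (Q : Subgroup G) (hQ : Cfsg.IsLargeExtraspecial Q) (L : Subgroup G) [L.Normal] (hQL : Q ≤ L) : L ⊔ Subgroup.normalizer (Q : Set G) = ⊤ := by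
  haveI : Fact (Nat.Prime 2) := ⟨Nat.prime_two⟩
  obtain ⟨z, hz2, hzQ, hZz⟩ := CfsgLib.LargeExtra.extraspecial_two_center hQ.1
  have hQp : IsPGroup 2 (Q.subgroupOf L) := hQ.1.1.1.of_equiv (Subgroup.subgroupOfEquivOfLe hQL).symm
  obtain ⟨T, hT⟩ := hQp.exists_le_sylow
  haveI : Nontrivial T := by
    refine ⟨⟨⟨⟨z, hQL hzQ⟩, hT (by simpa [Subgroup.mem_subgroupOf] using hzQ)⟩, 1, fun h => ?_⟩⟩
    have : z = 1 := congrArg (fun x : T => ((x : L) : G)) h
    simp [this] at hz2
  haveI : Nontrivial (Subgroup.center T) := T.isPGroup'.center_nontrivial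
  obtain ⟨c, hc⟩ := exists_ne (1 : Subgroup.center T)
  have hcomm : ∀ q ∈ Q, q * (((c : T) : L) : G) = (((c : T) : L) : G) * q := by
    intro q hq
    have := Subgroup.mem_center_iff.mp c.2 ⟨⟨q, hQL hq⟩, hT (by simpa [Subgroup.mem_subgroupOf] using hq)⟩
    exact congrArg (fun x : T => ((x : L) : G)) this
  have hcQ : (((c : T) : L) : G) ∈ Subgroup.centralizer (Q : Set G) :=
    Subgroup.mem_centralizer_iff.mpr hcomm
  rw [hQ.2.1, hZz] at hcQ
  have hcz : (((c : T) : L) : G) = z := by
    obtain ⟨n, hn⟩ := Subgroup.mem_zpowers_iff.mp hcQ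
    rw [← zpow_mod_orderOf, hz2] at hn
    rcases Int.emod_two_eq_zero_or_one n with h | h <;> norm_num [h] at hn
    · exact absurd (Subtype.ext (Subtype.ext (Subtype.ext hn.symm))) hc
    · exact hn.symm
  -- the normalizer of `T` fixes `z`
  have hN : Subgroup.normalizer (((T : Subgroup L).map L.subtype : Subgroup G) : Set G) ≤
      Subgroup.normalizer (Q : Set G) := by
    intro g hg
    refine hQ.2.2.1 ?_
    rw [hZz, Subgroup.mem_centralizer_iff]
    intro y hy
    obtain ⟨n, rfl⟩ := Subgroup.mem_zpowers_iff.mp hy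
    refine (Commute.zpow_left (show Commute z g from ?_) n).eq
    have hzmem : z ∈ (T : Subgroup L).map L.subtype := ⟨((c : T) : L), (c : T).2, hcz⟩
    have hgz := (Subgroup.mem_normalizer_iff.mp hg z).mp hzmem
    obtain ⟨u, hu, huz⟩ := hgz
    have hucQ : g * z * g⁻¹ ∈ Subgroup.centralizer (Q : Set G) := by
      refine Subgroup.mem_centralizer_iff.mpr fun q hq => ?_
      have hqT : q ∈ (T : Subgroup L).map L.subtype :=
        ⟨⟨q, hQL hq⟩, hT (by simpa [Subgroup.mem_subgroupOf] using hq), rfl⟩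
      have hg' := (Subgroup.mem_normalizer_iff.mp (inv_mem hg) q).mp hqT
      obtain ⟨v, hv, hvq⟩ := hg'
      have hvc := congrArg (fun x : T => ((x : L) : G)) (Subgroup.mem_center_iff.mp c.2 ⟨v, hv⟩)
      simp only [Subgroup.coe_mul, hcz] at hvc
      rw [Subgroup.coe_subtype] at hvq
      rw [hvq] at hvc
      calc q * (g * z * g⁻¹) = g * (g⁻¹ * q * g⁻¹⁻¹ * z) * g⁻¹ := by group
        _ = g * (z * (g⁻¹ * q * g⁻¹⁻¹)) * g⁻¹ := by rw [hvc]
        _ = g * z * g⁻¹ * q := by group
    rw [hQ.2.1, hZz] at hucQ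
    obtain ⟨m, hm⟩ := Subgroup.mem_zpowers_iff.mp hucQ
    rw [← zpow_mod_orderOf, hz2] at hm
    rcases Int.emod_two_eq_zero_or_one m with h | h <;> norm_num [h] at hm
    · have : z = 1 := conj_eq_one_iff.mp hm.symm
      simp [this] at hz2
    · exact (mul_inv_eq_iff_eq_mul.mp hm.symm).symm
  rw [eq_top_iff]
  refine le_trans ?_ (sup_le_sup_left hN L)
  rw [sup_comm, Sylow.normalizer_sup_eq_top]

end Cfsg.Agent.S5433
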