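import Cfsg.Statements.S5434
import Cfsg.Agent.Lib.LargeExtra.Decomp

set_option autoImplicit false
open Cfsg

namespace Cfsg.Agent.S5434

/-- Let Q be a large extraspecial 2-subgroup of the finite group G (extraspecial; centralizer equal to its centre; normal in the centralizer of its centre; normalizing no non-trivial subgroup of odd order), and A a non-trivial subgroup of odd order of the normalizer of Q. Then Q is the central product of the centralizer of A in Q and the commutator subgroup [Q, A] (they generate Q and commute elementwise), [Q, A] is extraspecial, and the centralizer of A in Q is either the centre of Q or extraspecial. -/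
theorem result {G : Type*} [Group G] [Finite G] (Q : Subgroup G) (hQ : Cfsg.IsLargeExtraspecial Q) (A : Subgroup G) (hA : A ≤ Subgroup.normalizer (Q : Set G)) (hAodd : Odd (Nat.card ↥A)) (hA1 : A ≠ ⊥) : (Q ⊓ Subgroup.centralizer (A : Set G)) ⊔ ⁅Q, A⁆ = Q ∧ (∀ x ∈ Q ⊓ Subgroup.centralizer (A : Set G), ∀ y ∈ ⁅Q, A⁆, x * y = y * x) ∧ Cfsg.IsExtraspecial 2 ↥⁅Q, A⁆ ∧ (Q ⊓ Subgroup.centralizer (A : Set G) = ((Subgroup.center ↥Q).map Q.subtype) ∨ Cfsg.IsExtraspecial 2 ↥(Q ⊓ Subgroup.centralizer (A : Set G))) := by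
  obtain ⟨z, hz⟩ := CfsgLib.LargeExtra.ExtraAt.exists_of hQ.1
  have hRQ : ⁅Q, A⁆ ≤ Q := CfsgLib.Coprime.commutator_le_of_normalizes hA
  have hsup := CfsgLib.LargeExtra.inf_centralizer_sup_commutator hz hA hAodd
  have hcomm : ∀ x ∈ Q ⊓ Subgroup.centralizer (A : Set G), ∀ y ∈ ⁅Q, A⁆, x * y = y * x :=
    fun x hx y hy => CfsgLib.LargeExtra.commute_commutator hz hA hx hy
  have hcen : ∀ x ∈ ⁅Q, A⁆, (∀ y ∈ ⁅Q, A⁆, y * x = x * y) → x = 1 ∨ x = z := by
    intro x hx hc
    refine hz.central_cases (hRQ hx) fun q hq => ?_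
    rw [← hsup, Subgroup.sup_eq_closure] at hq
    induction hq using Subgroup.closure_induction with
    | mem y hy =>
      rcases hy with hy | hy
      · exact hcomm y hy x hx
      · exact hc y hy
    | one => simp
    | mul u v _ _ hu hv => rw [mul_assoc, hv, ← mul_assoc, hu, mul_assoc]
    | inv u _ hu => exact ((show Commute u x from hu).inv_left).eq
  refine ⟨hsup, hcomm, (hz.sub hRQ hcen ?_).extra, ?_⟩
  · by_contra hab
    push Not at hab
    -- then `⁅Q, A⁆ ≤ ⟨z⟩`, so `A` centralizes `Q`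
    have hle : ⁅Q, A⁆ ≤ Q ⊓ Subgroup.centralizer (A : Set G) := by
      intro x hx
      rcases hcen x hx (fun y hy => hab y hy x hx) with e | e
      · rw [e]; exact one_mem _
      · rw [e]; exact CfsgLib.LargeExtra.z_mem_inf_centralizer hz hA hAodd
    rw [sup_eq_left.mpr hle] at hsup
    refine hA1 (Subgroup.eq_bot_iff_forall _ |>.mpr fun a ha => ?_)
    have haC : a ∈ Subgroup.centralizer (Q : Set G) := Subgroup.mem_centralizer_iff.mpr fun q hq => by
      rw [← hsup] at hq
      exact (Subgroup.mem_centralizer_iff.mp hq.2 a ha).symm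
    rw [hQ.2.1] at haC
    obtain ⟨c, -, hc⟩ := haC
    exact CfsgLib.LargeExtra.odd_inf_two hAodd hQ.1.1.1 ha (hc ▸ c.2)
  · rcases CfsgLib.LargeExtra.inf_centralizer_cases hz hA hAodd with e | e
    exacts [Or.inl e, Or.inr e.extra]

end Cfsg.Agent.S5434
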