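import Cfsg.Statements.S5435
import Cfsg.Agent.S4216
import Cfsg.Agent.Lib.Involutions.Basic
import Cfsg.Agent.Lib.PGroup.Frattini
import Cfsg.Agent.Lib.TwoGroups.Semidihedral
open scoped commutatorElement

set_option autoImplicit false
open Cfsg

namespace Cfsg.Agent.S5435

/-- Let L be a finite non-abelian simple group with an involution z whose centralizer R is a Sylow 2-subgroup of L whose Frattini subgroup is the subgroup generated by z. Then R is dihedral of order 8. -/
theorem result {L : Type*} [Group L] [Finite L] [IsSimpleGroup L] (hL : ¬ IsMulCommutative L) (z : L) (hz : orderOf z = 2) (R : Sylow 2 L) (hR : (R : Subgroup L) = Subgroup.centralizer ({z} : Set L)) (hΦ : (frattini ↥(R : Subgroup L)).map (R : Subgroup L).subtype = Subgroup.zpowers z) : Nonempty (↥(R : Subgroup L) ≃* DihedralGroup 4) := by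
  classical
  have : Fact (Nat.Prime 2) := ⟨Nat.prime_two⟩
  set R₀ : Subgroup L := (R : Subgroup L) with hR₀
  have hP : IsPGroup 2 R₀ := R.isPGroup'
  have hmem : ∀ x : L, x ∈ R₀ ↔ Commute x z := fun x => by
    rw [hR, Subgroup.mem_centralizer_singleton_iff]; rfl
  have hzz : z * z = 1 := CfsgLib.Involutions.mul_self_eq_one hz
  have hz1 : z ≠ 1 := CfsgLib.Involutions.ne_one_of_involution hz
  have hzR : z ∈ R₀ := (hmem z).2 (Commute.refl z)
  have hzp : ∀ v ∈ Subgroup.zpowers z, v = 1 ∨ v = z := by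
    rintro v ⟨k, rfl⟩
    rcases Int.even_or_odd' k with ⟨j, rfl | rfl⟩
    · left
      show z ^ (2 * j) = 1
      rw [zpow_mul, zpow_two, hzz, one_zpow]
    · right
      show z ^ (2 * j + 1) = z
      rw [zpow_add, zpow_mul, zpow_two, hzz, one_zpow, one_mul, zpow_one]
  -- squares and commutators in the centralizer of a conjugate of `z`
  have hsq : ∀ t m : L, IsConj z t → Commute m t → m * m = 1 ∨ m * m = t := by
    intro t m hzt hm
    obtain ⟨g, rfl⟩ := isConj_iff.1 hzt
    have hm' : g⁻¹ * m * g ∈ R₀ := by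
      rw [hmem]
      calc g⁻¹ * m * g * z = g⁻¹ * (m * (g * z * g⁻¹)) * g := by group
        _ = g⁻¹ * (g * z * g⁻¹ * m) * g := by rw [hm.eq]
        _ = z * (g⁻¹ * m * g) := by group
    have h1 : (g⁻¹ * m * g) ^ 2 ∈ Subgroup.zpowers z :=
      hΦ ▸ ⟨_, CfsgLib.PGroup.pow_mem_frattini hP ⟨_, hm'⟩, rfl⟩
    have h2 : m * m = g * (g⁻¹ * m * g) ^ 2 * g⁻¹ := by rw [pow_two]; group
    rcases hzp _ h1 with h | h
    · left; rw [h2, h]; group
    · right; rw [h2, h]
  have hcm : ∀ t a b : L, IsConj z t → Commute a t → Commute b t →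
      a * b * a⁻¹ = b ∨ a * b * a⁻¹ = t * b := by
    intro t a b hzt ha hb
    obtain ⟨g, rfl⟩ := isConj_iff.1 hzt
    have key : ∀ m, Commute m (g * z * g⁻¹) → g⁻¹ * m * g ∈ R₀ := fun m hm => by
      rw [hmem]
      calc g⁻¹ * m * g * z = g⁻¹ * (m * (g * z * g⁻¹)) * g := by group
        _ = g⁻¹ * (g * z * g⁻¹ * m) * g := by rw [hm.eq]
        _ = z * (g⁻¹ * m * g) := by group
    have h1 : g⁻¹ * a * g * (g⁻¹ * b * g) * (g⁻¹ * a * g)⁻¹ * (g⁻¹ * b * g)⁻¹ ∈ Subgroup.zpowers z :=
      hΦ ▸ ⟨⁅(⟨_, key a ha⟩ : R₀), ⟨_, key b hb⟩⁆,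
        CfsgLib.PGroup.commutator_le_frattini hP
          (Subgroup.commutator_mem_commutator (Subgroup.mem_top _) (Subgroup.mem_top _)), rfl⟩
    rcases hzp _ h1 with h | h
    · left
      calc a * b * a⁻¹ = g * (g⁻¹ * a * g * (g⁻¹ * b * g) * (g⁻¹ * a * g)⁻¹ * (g⁻¹ * b * g)⁻¹) *
            g⁻¹ * b := by group
        _ = b := by rw [h]; group
    · right
      calc a * b * a⁻¹ = g * (g⁻¹ * a * g * (g⁻¹ * b * g) * (g⁻¹ * a * g)⁻¹ * (g⁻¹ * b * g)⁻¹) *
            g⁻¹ * b := by group
        _ = g * z * g⁻¹ * b := by rw [h]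
  obtain ⟨m, hmR, hm⟩ : ∃ m ∈ R₀, m * m = z := by
    by_contra hcon
    push Not at hcon
    have h1 : ∀ x ∈ R₀, x * x = 1 := fun x hx =>
      (hsq z x (IsConj.refl z) ((hmem x).1 hx)).resolve_right (hcon x hx)
    have hb : frattini ↥R₀ = ⊥ := le_bot_iff.1 (CfsgLib.PGroup.frattini_le_of (p := 2) _ (by
      rw [commutator_def, Subgroup.commutator_le]
      intro a _ b _
      rw [Subgroup.mem_bot, commutatorElement_eq_one_iff_mul_comm]
      apply Subtype.ext
      calc (a : L) * b = (a : L)⁻¹ * (b : L)⁻¹ := by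
            rw [inv_eq_of_mul_eq_one_left (h1 a a.2), inv_eq_of_mul_eq_one_left (h1 b b.2)]
        _ = ((b : L) * a)⁻¹ := by rw [mul_inv_rev]
        _ = (b : L) * a := inv_eq_of_mul_eq_one_left (h1 _ (mul_mem b.2 a.2)))
      (fun x => Subgroup.mem_bot.2 (Subtype.ext (by
        rw [pow_two]; exact h1 x x.2))))
    rw [hb, Subgroup.map_bot] at hΦ
    exact hz1 (Subgroup.mem_bot.1 (hΦ ▸ Subgroup.mem_zpowers z))
  -- a conjugate commuting with another one is not centralized by the whole centralizer
  have hmove : ∀ t s : L, IsConj z t → IsConj z s → Commute t s → t ≠ s →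
      ∃ x : L, Commute x s ∧ x * t * x⁻¹ = s * t := by
    intro t s hzt hzs hts hne
    by_contra hcon
    push Not at hcon
    obtain ⟨g, hg⟩ := isConj_iff.1 hzs
    have hms : g * m * g⁻¹ * (g * m * g⁻¹) = s := by
      rw [← hg, ← hm]; group
    have hcs : Commute (g * m * g⁻¹) s := by
      rw [← hms]; exact (Commute.refl _).mul_right (Commute.refl _)
    have hct : Commute (g * m * g⁻¹) t := by
      rcases hcm s _ t hzs hcs hts with h | h
      · exact mul_inv_eq_iff_eq_mul.1 h
      · exact absurd h (hcon _ hcs)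
    rcases hsq t _ hzt hct with h | h
    · rw [hms] at h
      rw [h] at hzs
      exact hz1 (isConj_one_left.1 hzs)
    · rw [hms] at h
      exact hne h.symm
  have hab : ∀ t s a b : L, IsConj z t → IsConj z s → t ≠ s → Commute a t → Commute a s →
      Commute b t → Commute b s → Commute a b := by
    intro t s a b hzt hzs hne hat has hbt hbs
    have e : ∀ u : L, Commute u t → Commute u s → u * u = 1 := by
      intro u hut hus
      rcases hsq t u hzt hut with h | h
      · exact h
      rcases hsq s u hzs hus with h' | h'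
      · exact h'
      exact absurd (h.symm.trans h') hne
    calc a * b = a⁻¹ * b⁻¹ := by
          rw [inv_eq_of_mul_eq_one_left (e a hat has), inv_eq_of_mul_eq_one_left (e b hbt hbs)]
      _ = (b * a)⁻¹ := by rw [mul_inv_rev]
      _ = b * a := inv_eq_of_mul_eq_one_left (e _ (hbt.mul_left hat) (hbs.mul_left has))
  -- at most three conjugates commuting with `t`
  have hU : ∀ t u : L, IsConj z t → IsConj z u → t ≠ z → u ≠ z → Commute t z → Commute u z →
      Commute u t → u = t ∨ u = z * t := by
    intro t u hzt hzu htz huz ctz cuz cut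
    by_contra hcon
    push Not at hcon
    obtain ⟨x, hxz, hxt⟩ := hmove t z hzt (IsConj.refl z) ctz htz
    have hnc : ¬ Commute x t := fun h => by
      rw [h.eq, mul_inv_cancel_right] at hxt
      exact hz1 (mul_eq_right.1 hxt.symm)
    have hxu : x * u * x⁻¹ = z * u := by
      refine (hcm z x u (IsConj.refl z) hxz cuz).resolve_left fun h => hnc ?_
      exact hab z u x t (IsConj.refl z) hzu huz.symm hxz (mul_inv_eq_iff_eq_mul.1 h) ctz cut.symm
    obtain ⟨y, -, hy⟩ := hmove u t hzu hzt cut hcon.1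
    have hw : IsConj z (t * u) := hzu.trans (isConj_iff.2 ⟨y, hy⟩)
    have hwz : z ≠ t * u := fun h => hcon.2 (by
      rw [h, mul_assoc, cut.eq, ← mul_assoc, CfsgLib.Involutions.mul_self_eq_one
        (CfsgLib.Involutions.orderOf_eq_of_isConj hzt |>.trans hz), one_mul])
    have hxw : Commute x (t * u) := by
      refine mul_inv_eq_iff_eq_mul.1 ?_
      calc x * (t * u) * x⁻¹ = (x * t * x⁻¹) * (x * u * x⁻¹) := by group
        _ = z * (t * z) * u := by rw [hxt, hxu]; group
        _ = t * u := by rw [ctz.eq, ← mul_assoc, hzz, one_mul]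
    exact hnc (hab z (t * u) x t (IsConj.refl z) hw hwz hxz hxw ctz
      ((Commute.refl t).mul_right cut.symm))
  -- the conjugates of `z` generate the Sylow subgroup
  have hN : ∀ g ∈ Subgroup.normalizer (R₀ : Set L), g ∈ R₀ := by
    intro g hg
    rw [hmem]
    have hgm := (Subgroup.mem_normalizer_iff.1 hg m).1 hmR
    rcases hsq z _ (IsConj.refl z) ((hmem _).1 hgm) with h | h
    · exact absurd (conj_eq_one_iff.1 (show g * z * g⁻¹ = 1 by rw [← h, ← hm]; group)) hz1
    · exact mul_inv_eq_iff_eq_mul.1 (show g * z * g⁻¹ = z by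
        nth_rw 2 [← h]
        rw [← hm]; group)
  set X : Set L := {x | x ∈ R₀ ∧ IsConj z x} with hX
  have hgen : R₀ ≤ Subgroup.closure X := by
    have hzX : z ∈ X := ⟨hzR, IsConj.refl z⟩
    have hcomR : ⁅R₀, R₀⁆ ≤ Subgroup.zpowers z := by
      rw [Subgroup.commutator_le]
      intro a ha b hb
      rcases hcm z a b (IsConj.refl z) ((hmem a).1 ha) ((hmem b).1 hb) with h | h
      · rw [commutatorElement_def, h, mul_inv_cancel]; exact one_mem _
      · rw [commutatorElement_def, h, mul_inv_cancel_right]; exact Subgroup.mem_zpowers z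
    have hperf : commutator L = ⊤ := by
      have hn : (commutator L).Normal := inferInstance
      rcases hn.eq_bot_or_eq_top with h | h
      · refine absurd ⟨⟨fun a b => ?_⟩⟩ hL
        have := Subgroup.commutator_mem_commutator (Subgroup.mem_top a) (Subgroup.mem_top b)
        rw [← commutator_def, h, Subgroup.mem_bot, commutatorElement_eq_one_iff_mul_comm] at this
        exact this
      · exact h
    have hG := Cfsg.Agent.S4216.result R
    rw [hperf, inf_top_eq] at hG
    rw [hR₀, hG]
    refine sup_le ?_ (iSup_le fun g => ?_)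
    · refine inf_le_right.trans ((Subgroup.commutator_mono (fun v hv => hN v hv)
        fun v hv => hN v hv).trans (hcomR.trans ?_))
      exact Subgroup.zpowers_le.2 (Subgroup.subset_closure hzX)
    · rintro v ⟨hvR, w, hw, rfl⟩
      rcases hzp w (hcomR hw) with rfl | rfl
      · rw [map_one]; exact one_mem _
      · exact Subgroup.subset_closure ⟨hvR, isConj_iff.2 ⟨g, rfl⟩⟩
  obtain ⟨t, htR, hzt, htz⟩ : ∃ t ∈ R₀, IsConj z t ∧ t ≠ z := by
    by_contra hcon
    push Not at hcon
    have hle : R₀ ≤ Subgroup.zpowers z := hgen.trans ((Subgroup.closure_le _).2 fun x hx => by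
      rw [hcon x hx.1 hx.2]; exact Subgroup.mem_zpowers z)
    rcases hzp m (hle hmR) with h | h
    · rw [h, one_mul] at hm; exact hz1 hm.symm
    · rw [h, hzz] at hm; exact hz1 hm.symm
  have ht : orderOf t = 2 := (CfsgLib.Involutions.orderOf_eq_of_isConj hzt).trans hz
  have ctz : Commute t z := (hmem t).1 htR
  obtain ⟨s, hsR, hzs, hst⟩ : ∃ s ∈ R₀, IsConj z s ∧ ¬ Commute s t := by
    by_contra hcon
    push Not at hcon
    obtain ⟨x, hxz, hxt⟩ := hmove t z hzt (IsConj.refl z) ctz htz
    have hle : R₀ ≤ Subgroup.centralizer ({t} : Set L) := hgen.trans ((Subgroup.closure_le _).2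
      fun w hw => Subgroup.mem_centralizer_singleton_iff.2 (hcon w hw.1 hw.2))
    rw [Subgroup.mem_centralizer_singleton_iff.1 (hle ((hmem x).2 hxz)), mul_inv_cancel_right] at hxt
    exact hz1 (mul_eq_right.1 hxt.symm)
  have hs : orderOf s = 2 := (CfsgLib.Involutions.orderOf_eq_of_isConj hzs).trans hz
  have htt := CfsgLib.Involutions.mul_self_eq_one ht
  have hss := CfsgLib.Involutions.mul_self_eq_one hs
  have csz : Commute s z := (hmem s).1 hsR
  have hsz : s ≠ z := fun h => hst (h ▸ ctz.symm)
  have hinvol : ∀ a b : L, a * a = 1 → b * b = 1 → (a * b) * (a * b) = 1 → Commute a b := by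
    intro a b ha hb hab'
    calc a * b = (a * b)⁻¹ := (inv_eq_of_mul_eq_one_left hab').symm
      _ = b * a := by rw [mul_inv_rev, inv_eq_of_mul_eq_one_left ha, inv_eq_of_mul_eq_one_left hb]
  set u := s * t with hu
  have huu : u * u = z :=
    (hsq z u (IsConj.refl z) ((hmem _).1 (mul_mem hsR htR))).resolve_left fun h =>
      hst (hinvol s t hss htt h)
  have hzC : z ∈ Subgroup.closure {u, t} := by
    rw [← huu]; exact mul_mem (Subgroup.subset_closure (by simp)) (Subgroup.subset_closure (by simp))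
  have htC : t ∈ Subgroup.closure {u, t} := Subgroup.subset_closure (by simp)
  have hsC : s ∈ Subgroup.closure {u, t} := by
    have : s = u * t := by rw [hu, mul_assoc, htt, mul_one]
    rw [this]; exact mul_mem (Subgroup.subset_closure (by simp)) htC
  have hRC : R₀ = Subgroup.closure {u, t} := by
    refine le_antisymm (hgen.trans ((Subgroup.closure_le _).2 fun w hw => ?_))
      ((Subgroup.closure_le _).2 (by rintro w (rfl | rfl); exacts [mul_mem hsR htR, htR]))
    by_cases hwz : w = z
    · rw [hwz]; exact hzC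
    have cwz : Commute w z := (hmem w).1 hw.1
    by_cases hwt : Commute w t
    · rcases hU t w hzt hw.2 htz hwz ctz cwz hwt with rfl | rfl
      · exact htC
      · exact mul_mem hzC htC
    by_cases hws : Commute w s
    · rcases hU s w hzs hw.2 hsz hwz csz cwz hws with rfl | rfl
      · exact hsC
      · exact mul_mem hzC hsC
    exfalso
    have hww := CfsgLib.Involutions.mul_self_eq_one
      ((CfsgLib.Involutions.orderOf_eq_of_isConj hw.2).trans hz)
    have hmovet : ∀ a : L, Commute a z → ¬ Commute a t → a * t * a⁻¹ = z * t := fun a ha hat =>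
      (hcm z a t (IsConj.refl z) ha ctz).resolve_left fun h => hat (mul_inv_eq_iff_eq_mul.1 h)
    have hp : Commute (w * s) t := mul_inv_eq_iff_eq_mul.1 (by
      calc w * s * t * (w * s)⁻¹ = w * (s * t * s⁻¹) * w⁻¹ := by group
        _ = w * z * t * w⁻¹ := by rw [hmovet s csz hst]; group
        _ = z * (w * t * w⁻¹) := by rw [cwz.eq]; group
        _ = t := by rw [hmovet w cwz hwt, ← mul_assoc, hzz, one_mul])
    refine hws (hinvol w s hww hss ?_)
    rcases hsq z (w * s) (IsConj.refl z) (cwz.mul_left csz) with h | h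
    · exact h
    rcases hsq t (w * s) hzt hp with h' | h'
    · exact h'
    exact absurd (h'.symm.trans h) htz
  have hu4 : orderOf u = 4 :=
    orderOf_eq_prime_pow (p := 2) (n := 1) (by rw [pow_one, pow_two, huu]; exact hz1)
      (by rw [show 2 ^ (1 + 1) = 2 * 2 from rfl, pow_mul, pow_two, pow_two, huu, hzz])
  have hu4' : u ^ 4 = 1 := hu4 ▸ pow_orderOf_eq_one u
  have hti : t⁻¹ = t := inv_eq_of_mul_eq_one_left htt
  have htu : t * u * t⁻¹ = u⁻¹ := by
    rw [hu, mul_inv_rev, inv_eq_of_mul_eq_one_left hss, hti, mul_assoc, mul_assoc, htt, mul_one]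
  have hnot : t ∉ Subgroup.zpowers u := by
    rintro ⟨k, hk⟩
    have hc : Commute t u := by rw [← hk]; exact Commute.zpow_self u k
    rw [hc.eq, mul_inv_cancel_right] at htu
    exact hz1 (by rw [← huu]; nth_rw 2 [htu]; exact mul_inv_cancel u)
  exact ⟨((MonoidHom.ofInjective
    (CfsgLib.TwoGroups.SD.dihedralHom_injective u t hu4' htt htu hu4 hnot)).trans
      (MulEquiv.subgroupCongr ((CfsgLib.TwoGroups.SD.range_dihedralHom u t hu4' htt htu).trans
        hRC.symm))).symm⟩

end Cfsg.Agent.S5435
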