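import Cfsg.Statements.S5436
import Cfsg.Agent.Lib.LargeExtra.Transport
import Cfsg.Agent.Lib.LargeExtra.Normal

set_option autoImplicit false
open Cfsg

namespace Cfsg.Agent.S5436

/-- Let z be an involution of the finite group G with centralizer H whose generalized Fitting subgroup Q is extraspecial of width at least 2 (order 2^(2w+1), w ≥ 2); suppose some conjugate of z other than z lies in Q, H/Q is a non-abelian simple group, H acts irreducibly by conjugation on Q modulo the subgroup generated by z (the only H-invariant subgroups of Q containing z are that subgroup and Q), and Q is not the subgroup generated by the conjugates of z lying in H. Then G is simple. -/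
theorem result {G : Type*} [Group G] [Finite G] (z : G) (hz : orderOf z = 2) (Q : Subgroup (Subgroup.centralizer ({z} : Set G))) [Q.Normal] (hF : Cfsg.generalizedFittingSubgroup ↥(Subgroup.centralizer ({z} : Set G)) = Q) (hQ : Cfsg.IsExtraspecial 2 ↥Q) (w : ℕ) (hw : 2 ≤ w) (hcard : Nat.card ↥Q = 2 ^ (2 * w + 1)) (hnwc : ∃ g : G, (∃ hq : g * z * g⁻¹ ∈ Subgroup.centralizer ({z} : Set G), (⟨g * z * g⁻¹, hq⟩ : Subgroup.centralizer ({z} : Set G)) ∈ Q) ∧ g * z * g⁻¹ ≠ z) (hsimp : IsSimpleGroup (↥(Subgroup.centralizer ({z} : Set G)) ⧸ Q)) (hna : ¬ IsMulCommutative (↥(Subgroup.centralizer ({z} : Set G)) ⧸ Q)) (hirr : ∀ W : Subgroup (Subgroup.centralizer ({z} : Set G)), W.Normal → W ≤ Q → (W = Q ∨ ∀ x ∈ W, (x : G) ∈ Subgroup.zpowers z)) (hwcl : Subgroup.closure {x : Subgroup.centralizer ({z} : Set G) | IsConj z (x : G)} ≠ Q) : IsSimpleGroup G := by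
  haveI : Fact (Nat.Prime 2) := ⟨Nat.prime_two⟩
  have hQ'C : (Q.map (Subgroup.centralizer ({z} : Set G)).subtype) ≤ (Subgroup.centralizer ({z} : Set G)) := Subgroup.map_subtype_le Q
  let eQ : ↥Q ≃* ↥(Q.map (Subgroup.centralizer ({z} : Set G)).subtype) := Q.equivMapOfInjective (Subgroup.centralizer ({z} : Set G)).subtype (Subgroup.centralizer ({z} : Set G)).subtype_injective
  have hQ'e : IsExtraspecial 2 ↥(Q.map (Subgroup.centralizer ({z} : Set G)).subtype) := CfsgLib.LargeExtra.isExtraspecial_of_equiv eQ hQ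
  obtain ⟨hzA, hself, hnorm⟩ := CfsgLib.LargeExtra.extraAt_of_fstar hz hQ'C (by rw [hF]) hQ'e
  have h32 : 32 ≤ Nat.card (Q.map (Subgroup.centralizer ({z} : Set G)).subtype) := by
    rw [Subgroup.card_map_of_injective (Subgroup.centralizer ({z} : Set G)).subtype_injective, hcard]
    calc 32 = 2 ^ 5 := by norm_num
      _ ≤ 2 ^ (2 * w + 1) := Nat.pow_le_pow_right (by norm_num) (by omega)
  obtain ⟨g, ⟨hq, hgQ⟩, hgne⟩ := hnwc
  have hgQ' : g * z * g⁻¹ ∈ (Q.map (Subgroup.centralizer ({z} : Set G)).subtype) := ⟨_, hgQ, rfl⟩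
  have hpair : CfsgLib.LargeExtra.PairAt (Q.map (Subgroup.centralizer ({z} : Set G)).subtype) z g := ⟨hzA, hself, hnorm, hgQ', hgne⟩
  have hlarge := hpair.isLarge h32
  haveI : Nontrivial G := ⟨⟨z, 1, hzA.ne_one⟩⟩
  refine ⟨fun N hN => ?_⟩
  by_cases hne : N = ⊥
  · exact Or.inl hne
  right
  have hzN := CfsgLib.LargeExtra.z_mem_of_normal hzA hlarge N hne
  haveI hNC : (N.subgroupOf (Subgroup.centralizer ({z} : Set G))).Normal := inferInstance
  have hQN : Q ≤ N.subgroupOf (Subgroup.centralizer ({z} : Set G)) := by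
    rcases hirr (N.subgroupOf (Subgroup.centralizer ({z} : Set G)) ⊓ Q) inferInstance inf_le_right with e | e
    · exact inf_eq_right.mp e
    · exfalso
      have hm : (g * z * g⁻¹ : G) ∈ Subgroup.zpowers z := e ⟨_, hq⟩ ⟨hN.conj_mem z hzN g, hgQ⟩
      rcases hzA.mem_zpowers_z.mp hm with e' | e'
      exacts [hpair.s_ne_one e', hgne e']
  have hQ'N : (Q.map (Subgroup.centralizer ({z} : Set G)).subtype) ≤ N := by
    rintro _ ⟨q, hq, rfl⟩
    exact hQN hq
  have hCN : (Subgroup.centralizer ({z} : Set G)) ≤ N := by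
    haveI hmap : ((N.subgroupOf (Subgroup.centralizer ({z} : Set G))).map (QuotientGroup.mk' Q)).Normal :=
      Subgroup.Normal.map hNC _ (QuotientGroup.mk'_surjective Q)
    rcases hmap.eq_bot_or_eq_top with e | e
    · exfalso
      refine hwcl ?_
      rw [Subgroup.map_eq_bot_iff, QuotientGroup.ker_mk'] at e
      set W := Subgroup.closure {x : (Subgroup.centralizer ({z} : Set G)) | IsConj z (x : G)} with hW
      have hWQ : W ≤ Q := by
        rw [hW, Subgroup.closure_le]
        intro x hx
        obtain ⟨c, hc⟩ := isConj_iff.mp hx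
        refine e ?_
        rw [Subgroup.mem_subgroupOf, ← hc]
        exact hN.conj_mem z hzN c
      have hWn : W.Normal := by
        refine ⟨fun x hx c => ?_⟩
        have hle : W ≤ W.comap (MulAut.conj c).toMonoidHom := by
          conv_lhs => rw [hW]
          rw [Subgroup.closure_le]
          intro y hy
          refine Subgroup.subset_closure ?_
          show IsConj z ((c * y * c⁻¹ : (Subgroup.centralizer ({z} : Set G))) : G)
          exact IsConj.trans hy (isConj_iff.mpr ⟨(c : G), rfl⟩)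
        exact hle hx
      rcases hirr W hWn hWQ with e' | e'
      · exact e'
      · exfalso
        have hm : (g * z * g⁻¹ : G) ∈ Subgroup.zpowers z :=
          e' ⟨_, hq⟩ (Subgroup.subset_closure (isConj_iff.mpr ⟨g, rfl⟩))
        rcases hzA.mem_zpowers_z.mp hm with e'' | e''
        exacts [hpair.s_ne_one e'', hgne e'']
    · intro c hc
      have hmem : QuotientGroup.mk' Q ⟨c, hc⟩ ∈ (N.subgroupOf (Subgroup.centralizer ({z} : Set G))).map (QuotientGroup.mk' Q) := by
        rw [e]; exact Subgroup.mem_top _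
      obtain ⟨n, hn, hnc⟩ := hmem
      have : n⁻¹ * ⟨c, hc⟩ ∈ Q := QuotientGroup.eq.mp hnc
      have h2 := mul_mem hn (hQN this)
      rwa [mul_inv_cancel_left, Subgroup.mem_subgroupOf] at h2
  have := CfsgLib.LargeExtra.sup_normalizer_eq_top hzA hlarge N hQ'N
  rwa [sup_eq_left.mpr hCN] at this

end Cfsg.Agent.S5436
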