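import Cfsg.Statements.S5437

set_option autoImplicit false
open Cfsg

namespace Cfsg.Agent.S5437

/-- Let I be a set of involutions of the finite group G closed under conjugation, and H a subgroup of G. The following are equivalent: (1) for every member x of I lying in H, the conjugates of x lying in H form a single H-class and the centralizer of x lies in H; (2) for every g outside H, no member of I lies in both H and g H g⁻¹; (3) every member of I lying in H fixes exactly one coset in the action of G on the cosets of H. -/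
theorem result {G : Type*} [Group G] [Finite G] (I : Set G) (hI : ∀ x ∈ I, orderOf x = 2) (hIc : ∀ g : G, ∀ x ∈ I, g * x * g⁻¹ ∈ I) (H : Subgroup G) : ((∀ x ∈ I, x ∈ H → (∀ g : G, g * x * g⁻¹ ∈ H → ∃ h ∈ H, h * x * h⁻¹ = g * x * g⁻¹) ∧ Subgroup.centralizer ({x} : Set G) ≤ H) ↔ (∀ g : G, g ∉ H → ∀ x ∈ I, ¬ (x ∈ H ∧ x ∈ (H : Subgroup G).map (MulAut.conj g).toMonoidHom))) ∧ ((∀ g : G, g ∉ H → ∀ x ∈ I, ¬ (x ∈ H ∧ x ∈ (H : Subgroup G).map (MulAut.conj g).toMonoidHom)) ↔ ∀ x ∈ I, x ∈ H → ∃! c : G ⧸ H, x • c = c) := by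
  have key : ∀ (x g : G), (x ∈ (H : Subgroup G).map (MulAut.conj g).toMonoidHom ↔ g⁻¹ * x * g ∈ H) := by
    intro x g
    constructor
    · rintro ⟨y, hy, rfl⟩
      simpa [mul_assoc] using hy
    · exact fun h => ⟨_, h, by simp [mul_assoc]⟩
  have fixed : ∀ (x g : G), x • (QuotientGroup.mk g : G ⧸ H) = QuotientGroup.mk g ↔ g⁻¹ * x * g ∈ H := by
    intro x g
    change (QuotientGroup.mk (x * g) : G ⧸ H) = _ ↔ _
    rw [eq_comm, QuotientGroup.eq, mul_assoc]
  refine ⟨⟨fun h g hg x hx ⟨hxH, hxg⟩ => ?_, fun h x hx hxH => ⟨fun g hg => ?_, fun c hc => ?_⟩⟩,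
    ⟨fun h x hx hxH => ⟨QuotientGroup.mk 1, (fixed x 1).mpr (by simpa using hxH), fun c hc => ?_⟩,
      fun h g hg x hx ⟨hxH, hxg⟩ => ?_⟩⟩
  · obtain ⟨h1, h2⟩ := h x hx hxH
    rw [key] at hxg
    obtain ⟨k, hk, hkx⟩ := h1 g⁻¹ (by simpa using hxg)
    have hgk : g * k ∈ Subgroup.centralizer ({x} : Set G) := by
      rw [Subgroup.mem_centralizer_singleton_iff]
      have : g * k * x * (g * k)⁻¹ = x := by
        calc g * k * x * (g * k)⁻¹ = g * (k * x * k⁻¹) * g⁻¹ := by group
          _ = x := by rw [hkx]; group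
      exact mul_inv_eq_iff_eq_mul.mp this
    have := mul_mem (h2 hgk) (inv_mem hk)
    exact hg (by simpa [mul_assoc] using this)
  · refine ⟨g, ?_, rfl⟩
    by_contra hgH
    exact h g⁻¹ (fun h' => hgH (by simpa using inv_mem h')) x hx ⟨hxH, (key x g⁻¹).mpr (by simpa using hg)⟩
  · by_contra hcH
    refine h c hcH x hx ⟨hxH, (key x c).mpr ?_⟩
    rw [Subgroup.mem_centralizer_singleton_iff] at hc
    rw [mul_assoc, ← hc]
    simpa using hxH
  · obtain ⟨g, rfl⟩ := QuotientGroup.mk_surjective c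
    rw [fixed] at hc
    by_cases hg : g ∈ H
    · rw [QuotientGroup.eq]
      simpa using inv_mem hg
    · exact absurd ⟨hxH, (key x g).mpr hc⟩ (h g hg x hx)
  · obtain ⟨c, -, huniq⟩ := h x hx hxH
    have h1 := huniq (QuotientGroup.mk 1) ((fixed x 1).mpr (by simpa using hxH))
    have h2 := huniq (QuotientGroup.mk g) ((fixed x g).mpr ((key x g).mp hxg))
    have := h1.trans h2.symm
    rw [QuotientGroup.eq] at this
    exact hg (by simpa using this)

end Cfsg.Agent.S5437
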