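import Cfsg.Statements.S5438

set_option autoImplicit false
open Cfsg

namespace Cfsg.Agent.S5438

/-- Let z be a 2-central involution of the finite group G (an involution central in some Sylow 2-subgroup) and H a subgroup containing z such that the coset H is the only coset of H fixed by z (in the action of G on the cosets of H). Then H has odd index in G, and for every 2-element x of H the conjugates of x lying in H form a single H-class. -/
theorem result {G : Type*} [Group G] [Finite G] (z : G) (hz : Cfsg.IsTwoCentralInvolution z) (H : Subgroup G) (hzH : z ∈ H) (hfix : ∀ g : G, g⁻¹ * z * g ∈ H → g ∈ H) : Odd H.index ∧ ∀ x ∈ H, (∃ k : ℕ, orderOf x = 2 ^ k) → ∀ g : G, g * x * g⁻¹ ∈ H → ∃ h ∈ H, h * x * h⁻¹ = g * x * g⁻¹ := by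
  haveI : Fact (Nat.Prime 2) := ⟨Nat.prime_two⟩
  obtain ⟨hz2, P, hzP, hPz⟩ := hz
  -- conjugates of `z` in `H` come from `H`
  have hconj : ∀ a : G, a * z * a⁻¹ ∈ H → a ∈ H := fun a ha => by
    simpa using inv_mem (hfix a⁻¹ (by simpa using ha))
  have hCz : Subgroup.centralizer ({z} : Set G) ≤ H := fun c hc => hfix c (by
    rw [Subgroup.mem_centralizer_singleton_iff] at hc
    rw [mul_assoc, ← hc]
    simpa using hzH)
  -- every Sylow 2-subgroup containing `z` lies in `H`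
  have hSyl : ∀ T : Sylow 2 G, z ∈ (T : Subgroup G) → (T : Subgroup G) ≤ H := by
    intro T hzT
    obtain ⟨a, rfl⟩ := MulAction.exists_smul_eq G P T
    rw [Sylow.coe_subgroup_smul] at hzT ⊢
    have ha : a ∈ H := by
      refine hconj a (hCz ?_)
      rw [Subgroup.mem_centralizer_singleton_iff]
      obtain ⟨y, hy, hyz⟩ := (Subgroup.mem_smul_pointwise_iff_exists _ _ _).mp hzT
      rw [MulAut.smul_def, MulAut.conj_apply] at hyz
      calc a * z * a⁻¹ * z = a * z * a⁻¹ * (a * y * a⁻¹) := by rw [hyz]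
        _ = a * (z * y) * a⁻¹ := by group
        _ = a * (y * z) * a⁻¹ := by rw [hPz y hy]
        _ = a * y * a⁻¹ * (a * z * a⁻¹) := by group
        _ = z * (a * z * a⁻¹) := by rw [hyz]
    intro u hu
    obtain ⟨y, hy, rfl⟩ := (Subgroup.mem_smul_pointwise_iff_exists _ _ _).mp hu
    rw [MulAut.smul_def, MulAut.conj_apply]
    exact mul_mem (mul_mem ha (hCz (Subgroup.mem_centralizer_singleton_iff.mpr (hPz y hy)))) (inv_mem ha)
  have hPH : (P : Subgroup G) ≤ H := hSyl P hzP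
  refine ⟨?_, ?_⟩
  · have h1 : ¬ 2 ∣ (P : Subgroup G).index := P.not_dvd_index
    rw [Nat.odd_iff]
    by_contra h
    exact h1 ((Nat.dvd_of_mod_eq_zero (by omega)).trans (Subgroup.index_dvd_of_le hPH))
  -- conjugate a 2-element of `H` into `P` within `H`
  have hinto : ∀ u ∈ H, (∃ k : ℕ, orderOf u = 2 ^ k) → ∃ h ∈ H, h * u * h⁻¹ ∈ (P : Subgroup G) := by
    intro u hu ⟨k, hk⟩
    have hup : IsPGroup 2 (Subgroup.zpowers (⟨u, hu⟩ : H)) := by
      refine IsPGroup.of_card (n := k) ?_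
      rw [Nat.card_zpowers, ← Subgroup.orderOf_coe]
      exact hk
    obtain ⟨T, hT⟩ := hup.exists_le_sylow
    obtain ⟨b, hb⟩ := MulAction.exists_smul_eq H T (P.subtype hPH)
    refine ⟨(b : G), b.2, ?_⟩
    have hm : b * ⟨u, hu⟩ * b⁻¹ ∈ ((P.subtype hPH : Sylow 2 H) : Subgroup H) := by
      rw [← hb, Sylow.coe_subgroup_smul]
      exact Subgroup.mem_smul_pointwise_iff_exists _ _ _ |>.mpr
        ⟨_, hT (Subgroup.mem_zpowers _), by rw [MulAut.smul_def, MulAut.conj_apply]⟩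
    rw [Sylow.coe_subtype, Subgroup.mem_subgroupOf] at hm
    simpa using hm
  intro x hx ⟨k, hk⟩ g hg
  obtain ⟨h1, hh1, hx1⟩ := hinto x hx ⟨k, hk⟩
  obtain ⟨h2, hh2, hx2⟩ := hinto (g * x * g⁻¹) hg ⟨k, by
    rw [← hk]
    exact (MulAut.conj g).orderOf_eq x⟩
  set y := h2 * (g * x * g⁻¹) * h2⁻¹ with hy
  set g' := h2 * g * h1⁻¹ with hg'
  set C := Subgroup.centralizer ({y} : Set G) with hC
  have hzC : z ∈ C := Subgroup.mem_centralizer_singleton_iff.mpr (hPz y hx2).symm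
  have hz'C : g' * z * g'⁻¹ ∈ C := by
    rw [Subgroup.mem_centralizer_singleton_iff]
    have e : y = g' * (h1 * x * h1⁻¹) * g'⁻¹ := by rw [hy, hg']; group
    calc g' * z * g'⁻¹ * y = g' * (z * (h1 * x * h1⁻¹)) * g'⁻¹ := by rw [e]; group
      _ = g' * ((h1 * x * h1⁻¹) * z) * g'⁻¹ := by rw [hPz _ hx1]
      _ = y * (g' * z * g'⁻¹) := by rw [e]; group
  have hzp : ∀ u : G, orderOf u = 2 → ∀ hu : u ∈ C, IsPGroup 2 (Subgroup.zpowers (⟨u, hu⟩ : C)) :=
    fun u h2' hu => IsPGroup.of_card (n := 1) (by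
      rw [Nat.card_zpowers, ← Subgroup.orderOf_coe]; simpa using h2')
  obtain ⟨S, hS⟩ := (hzp z hz2 hzC).exists_le_sylow
  obtain ⟨S', hS'⟩ := (hzp _ (((MulAut.conj g').orderOf_eq z).trans hz2) hz'C).exists_le_sylow
  obtain ⟨T, hT⟩ := (S.isPGroup'.map C.subtype).exists_le_sylow
  obtain ⟨c, hc⟩ := MulAction.exists_smul_eq C S' S
  have hTH := hSyl T (hT ⟨⟨z, hzC⟩, hS (Subgroup.mem_zpowers _), rfl⟩)
  have hm : c * ⟨_, hz'C⟩ * c⁻¹ ∈ (S : Subgroup C) := by
    rw [← hc, Sylow.coe_subgroup_smul]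
    exact Subgroup.mem_smul_pointwise_iff_exists _ _ _ |>.mpr
      ⟨_, hS' (Subgroup.mem_zpowers _), by rw [MulAut.smul_def, MulAut.conj_apply]; rfl⟩
  have hcg : (c : G) * g' ∈ H := by
    refine hconj _ ?_
    have := hTH (hT ⟨_, hm, rfl⟩)
    simpa [mul_assoc] using this
  refine ⟨h2⁻¹ * ((c : G) * g') * h1, mul_mem (mul_mem (inv_mem hh2) hcg) hh1, ?_⟩
  have hcy : (c : G) * y = y * c := Subgroup.mem_centralizer_singleton_iff.mp c.2
  calc h2⁻¹ * ((c : G) * g') * h1 * x * (h2⁻¹ * ((c : G) * g') * h1)⁻¹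
      = h2⁻¹ * ((c : G) * y * (c : G)⁻¹) * h2 := by rw [hy, hg']; group
    _ = h2⁻¹ * y * h2 := by rw [hcy]; group
    _ = g * x * g⁻¹ := by rw [hy]; group

end Cfsg.Agent.S5438
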