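import Cfsg.Statements.S5439

set_option autoImplicit false
open Cfsg
open scoped commutatorElement

namespace Cfsg.Agent.S5439

/-- Let I and J be two different conjugacy classes of involutions of the finite group G and H a subgroup such that every member of I ∪ J fixes exactly one coset in the action on the cosets of H, and such that for every a in I ∩ H and every b in (I ∪ J) ∩ H different from a and commuting with it, the centralizer of a b lies in H. Then H = G. -/
theorem result {G : Type*} [Group G] [Finite G] (I J : Set G) (a₀ b₀ : G) (ha₀ : orderOf a₀ = 2) (hb₀ : orderOf b₀ = 2) (hI : I = {x | IsConj a₀ x}) (hJ : J = {x | IsConj b₀ x}) (hIJ : I ≠ J) (H : Subgroup G) (hfix : ∀ x ∈ I ∪ J, ∃! c : G ⧸ H, x • c = c) (hcent : ∀ a ∈ I, a ∈ H → ∀ b ∈ I ∪ J, b ∈ H → a ≠ b → a * b = b * a → Subgroup.centralizer ({a * b} : Set G) ≤ H) : H = ⊤ := by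
  have fixed : ∀ (x g : G), x • (QuotientGroup.mk g : G ⧸ H) = QuotientGroup.mk g ↔ g⁻¹ * x * g ∈ H := by
    intro x g
    change (QuotientGroup.mk (x * g) : G ⧸ H) = _ ↔ _
    rw [eq_comm, QuotientGroup.eq, mul_assoc]
  have hinvol : ∀ x ∈ I ∪ J, orderOf x = 2 := by
    intro x hx
    rcases hx with hx | hx
    · rw [hI] at hx
      obtain ⟨c, rfl⟩ := isConj_iff.mp hx
      exact ((MulAut.conj c).orderOf_eq a₀).trans ha₀
    · rw [hJ] at hx
      obtain ⟨c, rfl⟩ := isConj_iff.mp hx
      exact ((MulAut.conj c).orderOf_eq b₀).trans hb₀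
  have hclosI : ∀ g : G, ∀ x ∈ I, g * x * g⁻¹ ∈ I := by
    intro g x hx
    rw [hI] at hx ⊢
    exact IsConj.trans hx (isConj_iff.mpr ⟨g, rfl⟩)
  have hclosJ : ∀ g : G, ∀ x ∈ J, g * x * g⁻¹ ∈ J := by
    intro g x hx
    rw [hJ] at hx ⊢
    exact IsConj.trans hx (isConj_iff.mpr ⟨g, rfl⟩)
  have hne : ∀ a ∈ I, ∀ b ∈ J, ∀ g : G, g * a * g⁻¹ ≠ b := by
    intro a ha b hb g hgab
    refine hIJ ?_
    rw [hI] at ha; rw [hJ] at hb
    have hab : IsConj a₀ b₀ := (ha.trans (isConj_iff.mpr ⟨g, hgab⟩)).trans hb.symm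
    rw [hI, hJ]
    ext x
    exact ⟨fun h => hab.symm.trans h, fun h => hab.trans h⟩
  -- a member of `I` and a member of `J` fix the same coset
  have main : ∀ a ∈ I, ∀ b ∈ J, ∀ c : G ⧸ H, a • c = c → b • c = c := by
    intro a ha b hb c hac
    set r := a * b with hr
    have ha2 : a * a = 1 := by rw [← sq, ← hinvol a (Or.inl ha)]; exact pow_orderOf_eq_one a
    have hb2 : b * b = 1 := by rw [← sq, ← hinvol b (Or.inr hb)]; exact pow_orderOf_eq_one b
    have hai : a⁻¹ = a := inv_eq_of_mul_eq_one_right ha2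
    have hbi : b⁻¹ = b := inv_eq_of_mul_eq_one_right hb2
    have hrn : r ^ orderOf r = 1 := pow_orderOf_eq_one r
    have hara : ∀ k : ℕ, a * r ^ k = (r ^ k)⁻¹ * a := by
      intro k
      induction k with
      | zero => simp
      | succ k ih =>
        rw [pow_succ, ← mul_assoc, ih, mul_assoc, mul_inv_rev, mul_assoc]
        have h1 : a * r = r⁻¹ * a := by
          rw [hr, mul_inv_rev, hai, hbi, ← mul_assoc, ha2, one_mul, mul_assoc, ha2, mul_one]
        rw [h1, ← mul_assoc, ← mul_assoc, ← mul_inv_rev, ← mul_inv_rev, ← pow_succ, ← pow_succ']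
    have hba : b = r⁻¹ * a := by rw [hr, mul_inv_rev, hai, hbi, mul_assoc, ha2, mul_one]
    have hconja : ∀ k : ℕ, r ^ k * a * (r ^ k)⁻¹ = r ^ (2 * k) * a := by
      intro k
      have h1 : a * (r ^ k)⁻¹ = r ^ k * a := by
        rw [mul_inv_eq_iff_eq_mul, mul_assoc, hara, mul_inv_cancel_left]
      rw [mul_assoc, h1, ← mul_assoc, two_mul, pow_add]
    rcases Nat.even_or_odd' (orderOf r) with ⟨m, hm | hm⟩
    · -- even order
      set w := r ^ m with hw
      have hw2 : w * w = 1 := by rw [hw, ← pow_add, ← two_mul, ← hm, hrn]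
      have hwne : w ≠ 1 := by
        intro h
        have := orderOf_dvd_of_pow_eq_one h
        have hpos := orderOf_pos r
        have := Nat.le_of_dvd (by omega) this
        omega
      have hwa : a * w = w * a := by rw [hw, hara, ← hw, inv_eq_of_mul_eq_one_right hw2]
      have hwb : b * w = w * b := by
        have hwr : r⁻¹ * w = w * r⁻¹ := ((Commute.refl r).inv_left.pow_right m).eq
        rw [hba, mul_assoc, hwa, ← mul_assoc, hwr, mul_assoc]
      have hmem : w * a ∈ I ∪ J := by
        rcases Nat.even_or_odd' m with ⟨k, hk | hk⟩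
        · left
          have := hclosI (r ^ k) a ha
          rw [hconja, ← hk] at this
          exact this
        · right
          have := hclosJ (r ^ (k + 1)) b hb
          rw [hba] at this
          have e : r ^ (k + 1) * (r⁻¹ * a) * (r ^ (k + 1))⁻¹ = r⁻¹ * (r ^ (k + 1) * a * (r ^ (k + 1))⁻¹) := by
            rw [← mul_assoc (r ^ (k + 1)) r⁻¹ a, ((Commute.refl r).inv_right.pow_left (k + 1)).eq]
            group
          rw [e, hconja, ← mul_assoc, show 2 * (k + 1) = (2 * k + 1) + 1 by ring, pow_succ', ← mul_assoc,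
            inv_mul_cancel, one_mul, ← hk] at this
          exact this
      obtain ⟨g, rfl⟩ := QuotientGroup.mk_surjective c
      have hag : g⁻¹ * a * g ∈ H := (fixed a g).mp hac
      have hwag : g⁻¹ * (w * a) * g ∈ H := by
        rw [← fixed]
        -- `w * a` commutes with `a`, so it permutes the fixed cosets of `a`
        obtain ⟨c0, -, huni⟩ := hfix a (Or.inl ha)
        have h1 := huni _ hac
        have h2 := huni ((w * a) • (QuotientGroup.mk g : G ⧸ H)) (by
          show a • ((w * a) • (QuotientGroup.mk g : G ⧸ H)) = _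
          rw [smul_smul, ← mul_assoc, hwa, ← smul_smul, hac])
        exact h2.trans h1.symm
      have hC := hcent (g⁻¹ * a * g) (by simpa using hclosI g⁻¹ a ha) hag (g⁻¹ * (w * a) * g)
        (by
          rcases hmem with h | h
          · exact Or.inl (by simpa using hclosI g⁻¹ _ h)
          · exact Or.inr (by simpa using hclosJ g⁻¹ _ h)) hwag
        (by
          intro h
          have : a = w * a := by simpa using h
          exact hwne (by simpa using this.symm))
        (by
          calc g⁻¹ * a * g * (g⁻¹ * (w * a) * g) = g⁻¹ * (a * w * a) * g := by group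
            _ = g⁻¹ * (w * a * a) * g := by rw [hwa]
            _ = g⁻¹ * (w * a) * g * (g⁻¹ * a * g) := by group)
      rw [fixed]
      refine hC ?_
      rw [Subgroup.mem_centralizer_singleton_iff]
      have e : g⁻¹ * a * g * (g⁻¹ * (w * a) * g) = g⁻¹ * w * g := by
        calc g⁻¹ * a * g * (g⁻¹ * (w * a) * g) = g⁻¹ * (a * w * a) * g := by group
          _ = g⁻¹ * w * g := by rw [hwa, mul_assoc w a a, ha2, mul_one]
      rw [e]
      calc g⁻¹ * b * g * (g⁻¹ * w * g) = g⁻¹ * (b * w) * g := by group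
        _ = g⁻¹ * (w * b) * g := by rw [hwb]
        _ = g⁻¹ * w * g * (g⁻¹ * b * g) := by group
    · -- odd order: conjugate involutions
      exfalso
      refine hne a ha b hb (r ^ m) ?_
      rw [hconja, hba]
      congr 1
      rw [eq_inv_iff_mul_eq_one, ← pow_succ, ← hm, hrn]
  have haI : a₀ ∈ I := hI ▸ IsConj.refl a₀
  have hbJ : b₀ ∈ J := hJ ▸ IsConj.refl b₀
  obtain ⟨c, hc, huniq⟩ := hfix a₀ (Or.inl haI)
  obtain ⟨c', hc', huniq'⟩ := hfix b₀ (Or.inr hbJ)
  obtain ⟨x0, rfl⟩ := QuotientGroup.mk_surjective c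
  have hall : ∀ g : G, g • (QuotientGroup.mk x0 : G ⧸ H) = QuotientGroup.mk x0 := by
    intro g
    have h1 : (g * a₀ * g⁻¹) • (g • (QuotientGroup.mk x0 : G ⧸ H)) = g • (QuotientGroup.mk x0 : G ⧸ H) := by
      rw [smul_smul, inv_mul_cancel_right, ← smul_smul, hc]
    have h2 := main _ (hclosI g a₀ haI) b₀ hbJ _ h1
    have h3 := main a₀ haI b₀ hbJ _ hc
    exact (huniq' _ h2).trans (huniq' _ h3).symm
  rw [eq_top_iff]
  intro y _
  have := (fixed (x0 * y * x0⁻¹) x0).mp (hall _)
  simpa [mul_assoc] using this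

end Cfsg.Agent.S5439
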