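import Cfsg.Statements.S5440
import Cfsg.Agent.Lib.FischerTwoFour.Local

set_option autoImplicit false
open Cfsg

namespace Cfsg.Agent.S5440

/-- Let G be a finite group of large Fischer type at the involution z: the generalized Fitting subgroup Q of H = C_G(z) is extraspecial of order 2^13, H has normal subgroups Q ≤ H₁ ≤ H₂ with H₁/Q of order 3, H₂/H₁ the projective special unitary group of dimension 4 over the field with nine elements and H₂ of index 2 in H, and some conjugate of z other than z lies in Q. Then H has exactly two orbits, under conjugation, on the involutions of Q other than z. -/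
theorem result {G : Type*} [Group G] [Finite G] (z : G) (Q : Subgroup (Subgroup.centralizer ({z} : Set G))) [Q.Normal] (hF : Cfsg.IsOfLargeFischerTypeAt z Q) : ∃ s t : Subgroup.centralizer ({z} : Set G), s ∈ Q ∧ t ∈ Q ∧ orderOf s = 2 ∧ orderOf t = 2 ∧ (s : G) ≠ z ∧ (t : G) ≠ z ∧ (¬ ∃ h : Subgroup.centralizer ({z} : Set G), h * s * h⁻¹ = t) ∧ ∀ x : Subgroup.centralizer ({z} : Set G), x ∈ Q → orderOf x = 2 → (x : G) ≠ z → (∃ h : Subgroup.centralizer ({z} : Set G), h * s * h⁻¹ = x) ∨ ∃ h : Subgroup.centralizer ({z} : Set G), h * t * h⁻¹ = x := by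
  have S := CfsgLib.FischerTwoFour.shape_of hF
  have hz : orderOf z = 2 := hF.1.1
  have hG : ∀ {a : Q}, a * a = 1 → a ∉ Subgroup.center Q →
      orderOf (a : Subgroup.centralizer ({z} : Set G)) = 2 ∧
        ((a : Subgroup.centralizer ({z} : Set G)) : G) ≠ z := by
    intro a ha hn
    refine ⟨orderOf_eq_prime ?_ ?_, fun e => hn ?_⟩
    · rw [sq]; exact congrArg Subtype.val ha
    · intro e; exact hn (by rw [show a = 1 from Subtype.ext e]; exact one_mem _)
    · rw [show a = ⟨CfsgLib.FischerTwoFour.zC z, CfsgLib.FischerTwoFour.zC_mem S⟩ from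
        Subtype.ext (Subtype.ext e)]
      exact CfsgLib.FischerTwoFour.zQ_center S
  obtain ⟨s, t, hs2, ht2, hsn, htn, cs, ct⟩ := S.exists_both
  refine ⟨s, t, s.2, t.2, (hG hs2 hsn).1, (hG ht2 htn).1, (hG hs2 hsn).2, (hG ht2 htn).2, ?_, ?_⟩
  · rintro ⟨h, hh⟩
    have e : (CfsgLib.FischerTwoFour.stabImage s).map
        (MulAut.conj (QuotientGroup.mk h : _ ⧸ Q)).toMonoidHom = CfsgLib.FischerTwoFour.stabImage t := by
      rw [CfsgLib.FischerTwoFour.stabImage, CfsgLib.FischerTwoFour.stabImage, Subgroup.map_map]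
      have : ((MulAut.conj (QuotientGroup.mk h : _ ⧸ Q)).toMonoidHom.comp (QuotientGroup.mk' Q)) =
          (QuotientGroup.mk' Q).comp (MulAut.conj h).toMonoidHom := by
        ext c; simp
      rw [this, ← Subgroup.map_map]
      congr 1
      ext c
      constructor
      · rintro ⟨d, hd, rfl⟩
        rw [Subgroup.mem_centralizer_singleton_iff, ← hh]
        have hd' := Subgroup.mem_centralizer_singleton_iff.1 hd
        show h * d * h⁻¹ * (h * s * h⁻¹) = h * s * h⁻¹ * (h * d * h⁻¹)
        calc h * d * h⁻¹ * (h * s * h⁻¹) = h * (d * s) * h⁻¹ := by group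
          _ = h * (s * d) * h⁻¹ := by rw [hd']
          _ = h * s * h⁻¹ * (h * d * h⁻¹) := by group
      · intro hc
        refine ⟨h⁻¹ * c * h, Subgroup.mem_centralizer_singleton_iff.2 ?_, by simp [mul_assoc]⟩
        have hc' := Subgroup.mem_centralizer_singleton_iff.1 hc
        rw [← hh] at hc'
        calc h⁻¹ * c * h * s = h⁻¹ * (c * (h * s * h⁻¹)) * h := by group
          _ = h⁻¹ * (h * s * h⁻¹ * c) * h := by rw [hc']
          _ = s * (h⁻¹ * c * h) := by group
    have := congrArg (fun K : Subgroup _ => Nat.card K) e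
    rw [Subgroup.card_map_of_injective (MulEquiv.injective _), cs, ct] at this
    omega
  · intro x hx ho hxz
    have hx2 : (⟨x, hx⟩ : Q) * ⟨x, hx⟩ = 1 :=
      Subtype.ext (by show x * x = 1; rw [← sq, ← ho]; exact pow_orderOf_eq_one x)
    have hxn : (⟨x, hx⟩ : Q) ∉ Subgroup.center Q := by
      refine CfsgLib.FischerTwoFour.not_center S hz (fun e => ?_) hxz
      rw [show x = 1 from Subtype.ext e, orderOf_one] at ho
      omega
    rcases (S.stab_cases hx2 hxn).1 with hc | hc
    · exact Or.inl (S.conj_of_card hs2 hsn hx2 hxn (cs.trans hc.symm))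
    · exact Or.inr (S.conj_of_card ht2 htn hx2 hxn (ct.trans hc.symm))

end Cfsg.Agent.S5440
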