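import Cfsg.Statements.S5443
import Cfsg.Agent.Lib.FischerTwoFour.Minus

set_option autoImplicit false
open Cfsg

namespace Cfsg.Agent.S5443

/-- Let G be a finite group of large Fischer type at the involution z: the generalized Fitting subgroup Q of H = C_G(z) is extraspecial of order 2^13, H has normal subgroups Q ≤ H₁ ≤ H₂ with H₁/Q of order 3, H₂/H₁ the projective special unitary group of dimension 4 over the field with nine elements and H₂ of index 2 in H, and some conjugate of z other than z lies in Q. Let t be an involution of Q not conjugate to z in G, and S the set of elements of H conjugating t to t or to t z (the stabilizer of the image of t in Q modulo its centre). Then the image of S in H/Q is isomorphic to the full isometry group of the elliptic quadratic form in dimension 6 over the field with two elements. -/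
theorem result {G : Type*} [Group G] [Finite G] (z : G) (Q : Subgroup (Subgroup.centralizer ({z} : Set G))) [Q.Normal] (hF : Cfsg.IsOfLargeFischerTypeAt z Q) (t : Subgroup.centralizer ({z} : Set G)) (htQ : t ∈ Q) (ht2 : orderOf t = 2) (ht : ¬ IsConj z (t : G)) (S : Subgroup (Subgroup.centralizer ({z} : Set G))) (hS : ∀ h : Subgroup.centralizer ({z} : Set G), h ∈ S ↔ (h * t * h⁻¹ = t ∨ ((h * t * h⁻¹ : Subgroup.centralizer ({z} : Set G)) : G) = t * z)) : Nonempty (↥(S.map (QuotientGroup.mk' Q)) ≃* Cfsg.isometryGroup (ZMod 2) (Cfsg.quadFormMinus 2 (ZMod 2) 1 1)) := by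
  classical
  have Sh := CfsgLib.FischerTwoFour.shape_of hF
  have hz : orderOf z = 2 := hF.1.1
  have hfus := CfsgLib.FischerTwoFour.exists_fusion hz hF.1.2.2.2.2 Sh
  let a : Q := ⟨t, htQ⟩
  have ha2 : a * a = 1 := Subtype.ext (by show t * t = 1; rw [← sq, ← ht2]; exact pow_orderOf_eq_one t)
  have han : a ∉ Subgroup.center Q := by
    refine CfsgLib.FischerTwoFour.not_center Sh hz (fun e => ?_) fun e => ht ?_
    · rw [show t = 1 from Subtype.ext e, orderOf_one] at ht2
      omega
    · rw [show (t : G) = z from e]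
  have hc : Nat.card (CfsgLib.FischerTwoFour.stabImage a) = 51840 := by
    refine (Sh.stab_cases ha2 han).1.resolve_right fun h => ?_
    obtain ⟨g, ⟨hq, hqQ⟩, hne⟩ := hF.1.2.2.2.2
    let s : Q := ⟨⟨_, hq⟩, hqQ⟩
    have hs1 : g * z * g⁻¹ ≠ 1 := fun e => by
      rw [mul_inv_eq_one, mul_eq_left] at e
      rw [e, orderOf_one] at hz
      omega
    have hs2 : s * s = 1 := by
      refine Subtype.ext (Subtype.ext ?_)
      show g * z * g⁻¹ * (g * z * g⁻¹) = 1
      have hzz : z * z = 1 := by rw [← sq, ← hz]; exact pow_orderOf_eq_one z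
      calc g * z * g⁻¹ * (g * z * g⁻¹) = g * (z * z) * g⁻¹ := by group
        _ = 1 := by rw [hzz]; group
    have hsn : s ∉ Subgroup.center Q := CfsgLib.FischerTwoFour.not_center Sh hz hs1 hne
    have hcs := (CfsgLib.FischerTwoFour.local_structure Sh hz s rfl hne _ rfl _ rfl).1
    obtain ⟨c, hc⟩ := Sh.conj_of_card hs2 hsn ha2 han (hcs.trans h.symm)
    refine ht (isConj_iff.2 ⟨(c : G) * g, ?_⟩)
    rw [show (t : G) = (c : G) * (g * z * g⁻¹) * (c : G)⁻¹ from (congrArg Subtype.val hc).symm]
    group
  rw [Sh.stabImage_eq han] at hc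
  have hmap : S.map (QuotientGroup.mk' Q) = Sh.rep.stab (CfsgLib.FischerTwoFour.pr a) := by
    have key : ∀ c, c ∈ S ↔ QuotientGroup.mk' Q c ∈ Sh.rep.stab (CfsgLib.FischerTwoFour.pr a) := by
      intro c
      show c ∈ S ↔ Sh.rep.ρ (QuotientGroup.mk c) (CfsgLib.FischerTwoFour.pr a) = CfsgLib.FischerTwoFour.pr a
      rw [hS, Sh.rep_apply, eq_comm (b := CfsgLib.FischerTwoFour.pr a), Sh.pr_eq_iff]
      constructor
      · rintro (h | h)
        · rw [show CfsgLib.FischerTwoFour.cjQ c a = a from Subtype.ext h, inv_mul_cancel]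
          exact one_mem _
        · have e : CfsgLib.FischerTwoFour.cjQ c a = a * ⟨CfsgLib.FischerTwoFour.zC z, CfsgLib.FischerTwoFour.zC_mem Sh⟩ :=
            Subtype.ext (Subtype.ext h)
          rw [e, inv_mul_cancel_left]
          exact CfsgLib.FischerTwoFour.zQ_center Sh
      · intro h
        rcases CfsgLib.FischerTwoFour.center_cases Sh hz h with e | e
        · left
          refine Subtype.ext ?_
          exact (inv_mul_eq_one.1 e).symm
        · right
          exact (inv_mul_eq_iff_eq_mul.1 e)
    ext y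
    constructor
    · rintro ⟨c, hc, rfl⟩
      exact (key c).1 hc
    · intro hy
      obtain ⟨c, rfl⟩ := QuotientGroup.mk_surjective y
      exact ⟨c, (key c).2 hy, rfl⟩
  rw [hmap]
  exact Sh.stab_minus hfus (fun e => han (Sh.pr_eq_zero.1 e)) (Sh.q_invol ha2) hc

end Cfsg.Agent.S5443
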