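import Cfsg.Statements.S5445
import Cfsg.Agent.Lib.FischerTwoFour.PlaneSpecial
import Cfsg.Agent.Lib.FischerTwoFour.PlaneQuot
import Cfsg.Agent.Lib.PGroup.Frattini
import Cfsg.Agent.Lib.PCore.Basic

set_option autoImplicit false
open Cfsg

namespace Cfsg.Agent.S5445

/-- Let G be a finite group of large Fischer type at the involution z: the generalized Fitting subgroup Q of H = C_G(z) is extraspecial of order 2^13, H has normal subgroups Q ≤ H₁ ≤ H₂ with H₁/Q of order 3, H₂/H₁ the projective special unitary group of dimension 4 over the field with nine elements and H₂ of index 2 in H, and some conjugate of z other than z lies in Q. Then G has an elementary abelian subgroup V of order 8 containing z whose normalizer L has the following structure: the largest normal 2-subgroup R of L is special of order 2^15 with centre V, and L/R is isomorphic to the direct product of SL(3, 2) and the alternating group of degree 6. -/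
theorem result {G : Type*} [Group G] [Finite G] (z : G) (Q : Subgroup (Subgroup.centralizer ({z} : Set G))) [Q.Normal] (hF : Cfsg.IsOfLargeFischerTypeAt z Q) : ∃ V : Subgroup G, Cfsg.IsElementaryAbelian 2 V ∧ Nat.card V = 8 ∧ z ∈ V ∧ ∃ R : Subgroup G, R = (Cfsg.pCore 2 ↥(Subgroup.normalizer (V : Set G))).map (Subgroup.normalizer (V : Set G)).subtype ∧ Cfsg.IsSpecial 2 ↥R ∧ Nat.card R = 2 ^ 15 ∧ (Subgroup.center ↥R).map R.subtype = V ∧ ∃ _ : (R.subgroupOf (Subgroup.normalizer (V : Set G))).Normal, Nonempty (↥(Subgroup.normalizer (V : Set G)) ⧸ R.subgroupOf (Subgroup.normalizer (V : Set G)) ≃* Matrix.SpecialLinearGroup (Fin 3) (ZMod 2) × ↥(alternatingGroup (Fin 6))) := by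
  have S := CfsgLib.FischerTwoFour.shape_of hF
  obtain ⟨⟨hz, -, -, -, g, hg, hne⟩, -⟩ := id hF
  obtain ⟨hq, hqQ⟩ := hg
  obtain ⟨P⟩ := CfsgLib.FischerTwoFour.exists_line S hz (g := g) ⟨⟨g * z * g⁻¹, hq⟩, hqQ, rfl⟩ hne
  haveI := Fact.mk Nat.prime_two
  have hrad := P.exists_plane_rad hz hne
  have hcn := P.card_norm hz hne
  set V := CfsgLib.FischerTwoFour.Pl Q g with hV
  set L := Subgroup.normalizer (V : Set G) with hL
  set K := Subgroup.centralizer (V : Set G) with hK
  obtain ⟨R, hRK, hRc, hmax, hnorm, π, hπ, hRπ⟩ := hrad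
  obtain ⟨hcomm, hsq, hcen'⟩ := P.special hz hne R hRK hRc hmax hnorm
  have hcen : R ⊓ Subgroup.centralizer (R : Set G) = V := hcen'
  obtain ⟨hcardL, hcardK⟩ := hcn
  have hVel := P.Pl_elem hz hne
  have hMex := CfsgLib.FischerTwoFour.exists_matrix_hom hVel P.card_Pl
  obtain ⟨M, hM⟩ := hMex
  have hKL : K ≤ L := fun k hk => CfsgLib.FischerTwoFour.norm_of fun x hx => by
    rw [← Subgroup.mem_centralizer_iff.1 hk x hx, mul_inv_cancel_right]; exact hx
  obtain ⟨hMs, Ψ, hΨ, hΨker⟩ :=
    CfsgLib.FischerTwoFour.quot_prod L K R hKL hRK M hM hcardL π hπ hRπ hnorm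
  have hRL : R ≤ L := hRK.trans hKL
  have hpR : IsPGroup 2 R := IsPGroup.of_card hRc
  have hRn : (R.subgroupOf L).Normal := ⟨fun r hr l => hnorm l l.2 r hr⟩
  refine ⟨V, hVel, P.card_Pl, P.z_mem, R, ?_, ?_, hRc, ?_, hRn, ⟨(QuotientGroup.quotientMulEquivOfEq hΨker.symm).trans
    (QuotientGroup.quotientKerEquivOfSurjective Ψ hΨ)⟩⟩
  · refine le_antisymm ?_ ?_
    · intro r hr
      exact ⟨⟨r, hRL hr⟩, CfsgLib.PCore.le_pCore hRn (hpR.of_equiv (Subgroup.subgroupOfEquivOfLe hRL).symm) hr, rfl⟩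
    · haveI := CfsgLib.FischerTwoFour.sl32_simple
      have hnp : (Cfsg.pCore 2 L).Normal := Cfsg.pCore_normal 2 L
      have hker : Cfsg.pCore 2 L ≤ M.ker := by
        rcases (Subgroup.Normal.map hnp M hMs).eq_bot_or_eq_top with h | h
        · exact (Subgroup.map_eq_bot_iff _).1 h
        · exfalso
          obtain ⟨k, hk⟩ := IsPGroup.iff_card.1 ((CfsgLib.PCore.pCore_isPGroup (p := 2) (G := L)).map M)
          rw [h, Subgroup.card_top, CfsgLib.DimThreeMax.card_sl32] at hk
          have h7 := (show Nat.Prime 7 by norm_num).dvd_of_dvd_pow (show 7 ∣ 2 ^ k from hk ▸ by norm_num)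
          omega
      refine hmax _ ?_ (CfsgLib.PCore.pCore_isPGroup.map _) ?_
      · rintro _ ⟨x, hx, rfl⟩
        exact (hM x).1 (hker hx)
      · rintro k hk _ ⟨x, hx, rfl⟩
        exact ⟨⟨k, hKL hk⟩ * x * ⟨k, hKL hk⟩⁻¹, hnp.conj_mem x hx _, rfl⟩
  · have hcmap : (commutator R).map R.subtype = V := by rw [Subgroup.map_subtype_commutator]; exact hcomm
    have hzmap : (Subgroup.center R).map R.subtype = V := by
      rw [← hcen]
      ext x
      constructor
      · rintro ⟨r, hr, rfl⟩
        exact Subgroup.mem_inf.2 ⟨r.2, Subgroup.mem_centralizer_iff.2 fun y hy =>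
          congrArg Subtype.val (Subgroup.mem_center_iff.1 hr ⟨y, hy⟩)⟩
      · intro hx
        obtain ⟨h1, h2⟩ := Subgroup.mem_inf.1 hx
        exact ⟨⟨x, h1⟩, Subgroup.mem_center_iff.2 fun y =>
          Subtype.ext (Subgroup.mem_centralizer_iff.1 h2 y y.2), rfl⟩
    have heq : commutator R = Subgroup.center R :=
      Subgroup.map_injective R.subtype_injective (hcmap.trans hzmap.symm)
    refine ⟨hpR, le_antisymm (CfsgLib.PGroup.frattini_le_of (p := 2) _ heq.le fun x => ?_) ?_, heq⟩
    · have h : (x : G) * x ∈ (Subgroup.center R).map R.subtype := by rw [hzmap]; exact hsq x x.2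
      obtain ⟨y, hy, e⟩ := h
      rw [sq, show x * x = y from Subtype.ext e.symm]
      exact hy
    · rw [← heq]; exact CfsgLib.PGroup.commutator_le_frattini (p := 2) hpR
  · rw [← hcen]
    ext x
    constructor
    · rintro ⟨r, hr, rfl⟩
      exact Subgroup.mem_inf.2 ⟨r.2, Subgroup.mem_centralizer_iff.2 fun y hy =>
        congrArg Subtype.val (Subgroup.mem_center_iff.1 hr ⟨y, hy⟩)⟩
    · intro hx
      obtain ⟨h1, h2⟩ := Subgroup.mem_inf.1 hx
      exact ⟨⟨x, h1⟩, Subgroup.mem_center_iff.2 fun y =>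
        Subtype.ext (Subgroup.mem_centralizer_iff.1 h2 y y.2), rfl⟩

end Cfsg.Agent.S5445
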