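import Cfsg.Statements.S5451
import Cfsg.Agent.Lib.FischerTwoFour.Of
import Cfsg.Agent.Lib.ClassicalGroups.UnitarySimple

set_option autoImplicit false
open Cfsg
open Subgroup
open scoped commutatorElement

namespace Cfsg.Agent.S5451

/-- Let G be a finite group of large Fischer type at the involution z: the generalized Fitting subgroup Q of H = C_G(z) is extraspecial of order 2^13, H has normal subgroups Q ≤ H₁ ≤ H₂ with H₁/Q of order 3, H₂/H₁ the projective special unitary group of dimension 4 over the field with nine elements and H₂ of index 2 in H, and some conjugate of z other than z lies in Q. Let X be a subgroup of H of order 3 whose product with Q is normal in H (X maps onto the normal subgroup of order 3 of H/Q). Then the centralizer of X in H is quasisimple with cyclic centre of order 6 and central quotient isomorphic to the projective special unitary group of dimension 4 over the field with nine elements. -/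
theorem result {G : Type*} [Group G] [Finite G] (z : G) (Q : Subgroup (Subgroup.centralizer ({z} : Set G))) [Q.Normal] (hF : Cfsg.IsOfLargeFischerTypeAt z Q) (X : Subgroup (Subgroup.centralizer ({z} : Set G))) (hX : Nat.card X = 3) (hXQ : (X ⊔ Q).Normal) : Cfsg.IsQuasisimple ↥(Subgroup.centralizer ((X : Subgroup (Subgroup.centralizer ({z} : Set G))) : Set (Subgroup.centralizer ({z} : Set G)))) ∧ IsCyclic ↥(Subgroup.center ↥(Subgroup.centralizer ((X : Subgroup (Subgroup.centralizer ({z} : Set G))) : Set (Subgroup.centralizer ({z} : Set G))))) ∧ Nat.card ↥(Subgroup.center ↥(Subgroup.centralizer ((X : Subgroup (Subgroup.centralizer ({z} : Set G))) : Set (Subgroup.centralizer ({z} : Set G))))) = 6 ∧ ∃ (K : Type) (_ : Field K) (_ : Fintype K), Fintype.card K = 9 ∧ Nonempty (↥(Subgroup.centralizer ((X : Subgroup (Subgroup.centralizer ({z} : Set G))) : Set (Subgroup.centralizer ({z} : Set G)))) ⧸ Subgroup.center ↥(Subgroup.centralizer ((X : Subgroup (Subgroup.centralizer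 ({z} : Set G))) : Set (Subgroup.centralizer ({z} : Set G)))) ≃* Cfsg.PSU 4 K 3) := by
  classical
  have S := CfsgLib.FischerTwoFour.shape_of hF
  have hz : orderOf z = 2 := hF.1.1
  obtain ⟨N, M, hNn, hMn, hQN, hNM, hcardN, hidx, hcen, hfpf, hperf, K, hKf, hKt, hK, ⟨φ⟩⟩ :=
    S.tower_data
  haveI := hNn
  haveI := hMn
  have hsimp : IsSimpleGroup (Cfsg.PSU 4 K 3) :=
    CfsgLib.ClassicalGroups.psu_isSimpleGroup (by rw [hK]; norm_num) (by norm_num) (by omega)
  haveI : IsSimpleGroup (M ⧸ N.subgroupOf M) := φ.isSimpleGroup_congr.2 hsimp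
  have hnab : ¬ ∀ a b : M ⧸ N.subgroupOf M, a * b = b * a := by
    intro hc
    have hle : ⁅M, M⁆ ≤ N := commutator_le.2 fun a ha b hb => by
      have e : ((⁅(⟨a, ha⟩ : M), (⟨b, hb⟩ : M)⁆ : M) : M ⧸ N.subgroupOf M) = 1 :=
        (map_commutatorElement (QuotientGroup.mk' (N.subgroupOf M)) _ _).trans
          (commutatorElement_eq_one_iff_mul_comm.2 (hc _ _))
      exact mem_subgroupOf.1 ((QuotientGroup.eq_one_iff _).1 e)
    obtain ⟨a, ha⟩ := exists_ne (1 : M ⧸ N.subgroupOf M)
    induction a using QuotientGroup.induction_on with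
    | H a => exact ha ((QuotientGroup.eq_one_iff a).2
        (mem_subgroupOf.2 (sup_le hle hQN (hperf a.2))))
  -- a generator of `X`
  obtain ⟨x, hxX, hx1⟩ : ∃ x ∈ X, x ≠ 1 := by
    haveI : Nontrivial X := Finite.one_lt_card_iff_nontrivial.1 (by omega)
    obtain ⟨⟨x, hx⟩, hne⟩ := exists_ne (1 : X)
    exact ⟨x, hx, fun e => hne (Subtype.ext e)⟩
  have hx3 : x ^ 3 = 1 := by
    have := congrArg Subtype.val (pow_card_eq_one' (G := X) (x := ⟨x, hxX⟩))
    rwa [hX, SubmonoidClass.coe_pow] at this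
  haveI := Fact.mk Nat.prime_three
  have hord : orderOf x = 3 := orderOf_eq_prime hx3 hx1
  have hXeq : zpowers x = X :=
    eq_of_le_of_card_ge (zpowers_le.2 hxX) (by rw [Nat.card_zpowers, hord, hX])
  have hxQ : x ∉ Q := fun h => by
    have h1 : orderOf (⟨x, h⟩ : Q) ∣ 2 ^ 13 := S.card_Q ▸ orderOf_dvd_natCard _
    rw [Subgroup.orderOf_mk, hord] at h1
    norm_num at h1
  have hxM : x ∈ M := by
    have e : x = (x * x)⁻¹ := eq_inv_of_mul_eq_one_right (by rw [← hx3, pow_succ, pow_two])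
    rw [e]; exact inv_mem (mul_self_mem_of_index_two hidx x)
  let f : M →* M ⧸ N.subgroupOf M := QuotientGroup.mk' _
  have hfs : Function.Surjective f := QuotientGroup.mk'_surjective _
  have hf1 : ∀ a : M, f a = 1 ↔ (a : Subgroup.centralizer ({z} : Set G)) ∈ N := fun a =>
    (QuotientGroup.eq_one_iff a).trans mem_subgroupOf
  have hxN : x ∈ N := by
    haveI := hXQ
    have hle : X ⊔ Q ≤ M := sup_le (hXeq ▸ zpowers_le.2 hxM) (hQN.trans hNM)
    rcases IsSimpleGroup.eq_bot_or_eq_top_of_normal _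
        (Subgroup.Normal.map (inferInstance : ((X ⊔ Q).subgroupOf M).Normal) f hfs) with h | h
    · exact (hf1 ⟨x, hxM⟩).1 (mem_bot.1 (h ▸ mem_map_of_mem f (mem_subgroupOf.2 (mem_sup_left hxX))))
    · exfalso
      apply hnab
      have hcyc : ∀ a : M ⧸ N.subgroupOf M, a ∈ zpowers (f ⟨x, hxM⟩) := by
        intro a
        obtain ⟨c, hc, rfl⟩ := (h ▸ mem_top a : a ∈ ((X ⊔ Q).subgroupOf M).map f)
        rw [SetLike.mem_coe, mem_subgroupOf, ← SetLike.mem_coe, mul_normal, Set.mem_mul] at hc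
        obtain ⟨y, hy, q, hq, hyq⟩ := hc
        rw [SetLike.mem_coe, ← hXeq, mem_zpowers_iff] at hy
        obtain ⟨i, rfl⟩ := hy
        have hc' : c = ⟨x, hxM⟩ ^ i * ⟨q, hNM (hQN hq)⟩ := Subtype.ext hyq.symm
        rw [hc', map_mul, map_zpow, (hf1 ⟨q, hNM (hQN hq)⟩).2 (hQN hq), mul_one]
        exact zpow_mem (mem_zpowers _) i
      intro a b
      obtain ⟨i, rfl⟩ := mem_zpowers_iff.1 (hcyc a)
      obtain ⟨j, rfl⟩ := mem_zpowers_iff.1 (hcyc b)
      exact zpow_mul_comm _ i j
  -- the local frame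
  obtain ⟨Y, hYQ, hYM, hYx⟩ :=
    CfsgLib.FischerTwoFour.exists_sys S hz N M hQN hNM hidx hcen hfpf x hxN hxQ hx3
  obtain ⟨P⟩ := CfsgLib.FischerTwoFour.exists_pt hF Y hYQ
  have hperfY : Y.M ≤ ⁅Y.M, Y.M⁆ ⊔ Y.Qg := by
    rw [hYM, hYQ, ← Subgroup.map_commutator, ← Subgroup.map_sup]
    exact map_mono hperf
  have hmem : ∀ c : Subgroup.centralizer ({z} : Set G),
      c ∈ Subgroup.centralizer (X : Set (Subgroup.centralizer ({z} : Set G))) ↔
        (c : G) * Y.ξ = Y.ξ * c := by
    intro c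
    rw [← hXeq, zpowers_eq_closure, centralizer_closure, mem_centralizer_singleton_iff, hYx]
    exact ⟨fun e => congrArg Subtype.val e, fun e => Subtype.ext e⟩
  set K1 := Subgroup.centralizer (X : Set (Subgroup.centralizer ({z} : Set G))) with hK1
  have hK1M : K1 ≤ M := fun c hc => by
    have h : (c : G) ∈ Y.M := P.cen_xi_M c.2 ((hmem c).1 hc)
    rw [hYM] at h
    obtain ⟨d, hd, e⟩ := h
    exact Subtype.ext e ▸ hd
  let ι : K1 →* G := (Subgroup.centralizer ({z} : Set G)).subtype.comp K1.subtype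
  have hιi : Function.Injective ι := fun a b e => Subtype.ext (Subtype.ext e)
  have hιr : ι.range = Y.K := by
    ext w
    constructor
    · rintro ⟨c, rfl⟩
      exact ⟨by rw [hYM]; exact ⟨c, hK1M c.2, rfl⟩, mem_centralizer_singleton_iff.2 ((hmem c).1 c.2)⟩
    · rintro ⟨hw, hwx⟩
      exact ⟨⟨⟨w, Y.Mle hw⟩, (hmem _).2 (mem_centralizer_singleton_iff.1 hwx)⟩, rfl⟩
  have hperfect : Group.IsPerfect K1 := by
    refine ⟨eq_top_iff.2 fun k _ => ?_⟩
    have e : (commutator K1).map ι = ⁅Y.K, Y.K⁆ := by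
      rw [_root_.commutator_def, Subgroup.map_commutator, ← MonoidHom.range_eq_map, hιr]
    have hk : ι k ∈ (commutator K1).map ι := by
      rw [e]
      rcases P.K_cases hperfY (hιr ▸ ⟨k, rfl⟩ : ι k ∈ Y.K) with h | h
      · exact h
      · have := mul_mem h (inv_mem (P.z_mem_commutator hperfY))
        rwa [mul_inv_cancel_right] at this
    obtain ⟨k', hk', he⟩ := hk
    exact hιi he ▸ hk'
  -- the quotient map
  let g : K1 →* M ⧸ N.subgroupOf M := f.comp (inclusion hK1M)
  have hg1 : ∀ k : K1, g k = 1 ↔ (k : Subgroup.centralizer ({z} : Set G)) ∈ N := fun k => hf1 _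
  have hgs : Function.Surjective g := by
    intro a
    obtain ⟨m, rfl⟩ := hfs a
    obtain ⟨k, q, hkM, hkξ, hq, he⟩ := Y.cover (m := ((m : _) : G)) (by
      rw [hYM]; exact ⟨m, m.2, rfl⟩)
    rw [hYQ] at hq
    obtain ⟨q, hq, rfl⟩ := hq
    refine ⟨⟨⟨k, Y.Mle hkM⟩, (hmem _).2 hkξ⟩, ?_⟩
    have hm : m = ⟨⟨k, Y.Mle hkM⟩, hK1M ((hmem _).2 hkξ)⟩ * ⟨q, hNM (hQN hq)⟩ :=
      Subtype.ext (Subtype.ext he)
    rw [hm, map_mul, (hf1 ⟨q, hNM (hQN hq)⟩).2 (hQN hq), mul_one]
    rfl
  -- the centre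
  let zc : Subgroup.centralizer ({z} : Set G) := ⟨z, mem_centralizer_singleton_iff.2 rfl⟩
  have hzcc : ∀ c : Subgroup.centralizer ({z} : Set G), c * zc = zc * c := fun c =>
    Subtype.ext (mem_centralizer_singleton_iff.1 c.2)
  have hzc1 : zc ≠ 1 := fun e => Y.z1 (congrArg Subtype.val e)
  have hzc2 : zc ^ 2 = 1 := Subtype.ext (by rw [pow_two]; exact Y.zz)
  haveI := Fact.mk Nat.prime_two
  have hxK : x ∈ K1 := (hmem x).2 (by rw [hYx])
  have hzK : zc ∈ K1 := (hmem zc).2 (mem_centralizer_singleton_iff.1 Y.xi_cen).symm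
  let w : K1 := ⟨x * zc, mul_mem hxK hzK⟩
  have hword : orderOf w = 6 := by
    rw [← orderOf_coe w, show ((w : K1) : Subgroup.centralizer ({z} : Set G)) = x * zc from rfl,
      (show Commute x zc from hzcc x).orderOf_mul_eq_mul_orderOf_of_coprime
        (by rw [hord, orderOf_eq_prime hzc2 hzc1]; norm_num), hord, orderOf_eq_prime hzc2 hzc1]
  have hwC : w ∈ Subgroup.center K1 := mem_center_iff.2 fun k => Subtype.ext (by
    have hkx : (k : Subgroup.centralizer ({z} : Set G)) * x = x * k := Subtype.ext (by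
      have h := (hmem _).1 k.2
      rw [hYx] at h
      exact h)
    exact (show Commute (k : Subgroup.centralizer ({z} : Set G)) x from hkx).mul_right (hzcc _))
  have hxw : x ∈ (zpowers w).map K1.subtype := ⟨w ^ 4, pow_mem (mem_zpowers w) 4, by
    show (x * zc) ^ 4 = x
    rw [(show Commute x zc from hzcc x).mul_pow, pow_succ x, hx3, one_mul,
      show zc ^ 4 = (zc ^ 2) ^ 2 by rw [← pow_mul], hzc2, one_pow, mul_one]⟩
  have hzw : zc ∈ (zpowers w).map K1.subtype := ⟨w ^ 3, pow_mem (mem_zpowers w) 3, by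
    show (x * zc) ^ 3 = zc
    rw [(show Commute x zc from hzcc x).mul_pow, hx3, one_mul, pow_succ, hzc2, one_mul]⟩
  have hker_le : g.ker ≤ zpowers w := by
    intro k hk
    have hkN : (k : Subgroup.centralizer ({z} : Set G)) ∈ N := (hg1 k).1 hk
    have hN : zpowers x ⊔ Q = N := by
      refine eq_of_le_of_card_ge (sup_le (zpowers_le.2 hxN) hQN) ?_
      have hlt : Q < zpowers x ⊔ Q :=
        lt_of_le_of_ne le_sup_right fun e => hxQ (e ▸ mem_sup_left (mem_zpowers x))
      obtain ⟨d, hd⟩ := card_dvd_of_le hlt.le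
      have h2 : 1 < d := by
        by_contra h
        exact hlt.ne (eq_of_le_of_card_ge hlt.le (by
          rw [hd]; exact (Nat.mul_le_mul_left _ (by omega : d ≤ 1)).trans_eq (mul_one _)))
      obtain ⟨e, he⟩ := card_dvd_of_le (sup_le (zpowers_le.2 hxN) hQN : zpowers x ⊔ Q ≤ N)
      rw [hd, hcardN, mul_assoc, mul_comm 3] at he
      have h3 : d * e = 3 := (Nat.eq_of_mul_eq_mul_left Nat.card_pos he).symm
      rcases (Nat.dvd_prime Nat.prime_three).1 ⟨e, h3.symm⟩ with h | h
      · omega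
      · rw [hcardN, hd, h, mul_comm]
    rw [← hN, ← SetLike.mem_coe, mul_normal, Set.mem_mul] at hkN
    obtain ⟨y, hy, q, hq, hyq⟩ := hkN
    have hyw : y ∈ (zpowers w).map K1.subtype := zpowers_le.2 hxw hy
    have hqK : q ∈ K1 := by
      have hyK : y ∈ K1 := zpowers_le.2 hxK hy
      have e : q = y⁻¹ * k := by rw [← hyq, inv_mul_cancel_left]
      rw [e]; exact mul_mem (inv_mem hyK) k.2
    have hqw : q ∈ (zpowers w).map K1.subtype := by
      rcases Y.inZ_of_comm (a := (q : G)) (by rw [hYQ]; exact ⟨q, hq, rfl⟩) ((hmem q).1 hqK) with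
        e | e
      · rw [show q = 1 from Subtype.ext e]; exact one_mem _
      · rw [show q = zc from Subtype.ext e]; exact hzw
    obtain ⟨k', hk', e⟩ := hyq ▸ mul_mem hyw hqw
    exact K1.subtype_injective e ▸ hk'
  have hwker : w ∈ g.ker := (hg1 w).2 (mul_mem hxN (hQN (by
    have h := Y.zQ
    rw [hYQ] at h
    obtain ⟨d, hd, e⟩ := h
    exact (Subtype.ext e : d = zc) ▸ hd)))
  have hcenter : Subgroup.center K1 = zpowers w := by
    refine le_antisymm (fun k hk => hker_le ?_) (zpowers_le.2 hwC)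
    rcases IsSimpleGroup.eq_bot_or_eq_top_of_normal _
        (Subgroup.Normal.map (inferInstance : (Subgroup.center K1).Normal) g hgs) with h | h
    · exact mem_bot.1 (h ▸ mem_map_of_mem g hk)
    · exfalso
      refine hnab fun a b => ?_
      obtain ⟨c, hc, rfl⟩ := (h ▸ mem_top a : a ∈ (Subgroup.center K1).map g)
      obtain ⟨d, rfl⟩ := hgs b
      rw [← map_mul, ← map_mul, mem_center_iff.1 hc d]
  have hker : Subgroup.center K1 = g.ker :=
    le_antisymm (hcenter ▸ zpowers_le.2 hwker) (hcenter ▸ hker_le)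
  let e := ((QuotientGroup.quotientMulEquivOfEq hker).trans
    (QuotientGroup.quotientKerEquivOfSurjective g hgs)).trans φ
  refine ⟨⟨hperfect, e.isSimpleGroup_congr.2 hsimp⟩, ?_, ?_, K, hKf, hKt, hK, ⟨e⟩⟩
  · rw [hcenter]; infer_instance
  · rw [hcenter, Nat.card_zpowers, hword]

end Cfsg.Agent.S5451
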