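import Cfsg.Statements.S5452
import Cfsg.Agent.Lib.ThreeTrans.Tower.UnitaryInvolution
-- import your own Cfsg.Agent.* helpers here

set_option autoImplicit false
open Cfsg

namespace Cfsg.Agent.S5452

/-- Let G be a finite group with an involution d whose centralizer C is quasisimple with C modulo the subgroup generated by d isomorphic to the projective special unitary group of dimension 6 over the field with four elements, and suppose some conjugate of d other than d commutes with d. Then every involution of C modulo the subgroup generated by d is the image of an involution of C, and d is not a square in G. -/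
theorem result {G : Type*} [Group G] [Finite G] (d : G) (hd : orderOf d = 2) (hq : Cfsg.IsQuasisimple ↥(Subgroup.centralizer ({d} : Set G))) [hzn : ((Subgroup.zpowers d).subgroupOf (Subgroup.centralizer ({d} : Set G))).Normal] (K : Type) [Field K] [Fintype K] (hK : Fintype.card K = 4) (e : ↥(Subgroup.centralizer ({d} : Set G)) ⧸ (Subgroup.zpowers d).subgroupOf (Subgroup.centralizer ({d} : Set G)) ≃* Cfsg.PSU 6 K 2) (hnwc : ∃ g : G, g * d * g⁻¹ ∈ Subgroup.centralizer ({d} : Set G) ∧ g * d * g⁻¹ ≠ d) : (∀ x : ↥(Subgroup.centralizer ({d} : Set G)) ⧸ (Subgroup.zpowers d).subgroupOf (Subgroup.centralizer ({d} : Set G)), orderOf x = 2 → ∃ y : ↥(Subgroup.centralizer ({d} : Set G)), orderOf y = 2 ∧ (QuotientGroup.mk y : ↥(Subgroup.centralizer ({d} : Set G)) ⧸ (Subgroup.zpowers d).subgroupOf (Subgroup.centralizer ({d} : Set G))) = x) ∧ ¬ ∃ g : G, g ^ 2 = d := by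
  classical
  set C := Subgroup.centralizer ({d} : Set G) with hC
  have hdd : d * d = 1 := by rw [← pow_two]; exact hd ▸ pow_orderOf_eq_one d
  have hdC : d ∈ C := Subgroup.mem_centralizer_singleton_iff.2 rfl
  let dC : C := ⟨d, hdC⟩
  have hdC2 : dC * dC = 1 := Subtype.ext hdd
  have hcen : ∀ g : C, Commute g dC := fun g => Subtype.ext (Subgroup.mem_centralizer_singleton_iff.1 g.2)
  set N := (Subgroup.zpowers d).subgroupOf C with hN
  let φ : C →* Cfsg.PSU 6 K 2 := e.toMonoidHom.comp (QuotientGroup.mk' N)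
  have hφ : Function.Surjective φ := e.surjective.comp (QuotientGroup.mk'_surjective N)
  have hker : ∀ g : C, φ g = 1 → g = 1 ∨ g = dC := fun g hg => by
    have h : (QuotientGroup.mk g : C ⧸ N) = 1 := e.injective (hg.trans (map_one e).symm)
    obtain ⟨n, hn⟩ := (Subgroup.mem_zpowers_iff (g := d) (h := (g : G))).1 ((QuotientGroup.eq_one_iff (N := N) g).1 h)
    rcases Int.even_or_odd' n with ⟨m, rfl | rfl⟩
    · left
      refine Subtype.ext ?_
      rw [OneMemClass.coe_one, ← hn, zpow_mul, zpow_two, hdd, one_zpow]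
    · right
      refine Subtype.ext ?_
      show (g : G) = d
      rw [← hn, zpow_add, zpow_mul, zpow_two, hdd, one_zpow, one_mul, zpow_one]
  have hdφ : φ dC = 1 := by
    show e (QuotientGroup.mk dC) = 1
    rw [(QuotientGroup.eq_one_iff dC).2 (Subgroup.mem_zpowers d), map_one]
  have hlift : ∀ x : Cfsg.PSU 6 K 2, x * x = 1 → ∃ y : C, y * y = 1 ∧ φ y = x := fun x hx =>
    CfsgLib.ThreeTrans.USix.lift_involution (by rw [hK]; norm_num) φ hφ hdC2 hcen hker hx
  constructor
  · intro x hx
    have hxx : x * x = 1 := by rw [← pow_two]; exact hx ▸ pow_orderOf_eq_one x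
    obtain ⟨y, hy, hyx⟩ := hlift (e x) (by rw [← map_mul, hxx, map_one])
    have hyx' : (QuotientGroup.mk y : C ⧸ N) = x := e.injective hyx
    refine ⟨y, orderOf_eq_prime (by rw [pow_two, hy]) fun h1 => ?_, hyx'⟩
    rw [h1, QuotientGroup.mk_one] at hyx'
    rw [← hyx', orderOf_one] at hx
    norm_num at hx
  · rintro ⟨g, hg⟩
    have hgC : g ∈ C := Subgroup.mem_centralizer_singleton_iff.2 (by rw [← hg]; exact (pow_succ' g 2).symm.trans (pow_succ g 2))
    have hgd : (⟨g, hgC⟩ : C) * ⟨g, hgC⟩ = dC := Subtype.ext ((pow_two g).symm.trans hg)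
    obtain ⟨y, hy, hyg⟩ := hlift (φ ⟨g, hgC⟩) (by rw [← map_mul, hgd, hdφ])
    have hne : d ≠ 1 := fun h => by rw [h, orderOf_one] at hd; norm_num at hd
    rcases hker (y⁻¹ * ⟨g, hgC⟩) (by rw [map_mul, map_inv, hyg, inv_mul_cancel]) with k | k
    · rw [inv_mul_eq_one] at k
      exact hne (congrArg Subtype.val ((hgd.symm.trans (by rw [← k, hy])) : dC = 1))
    · rw [inv_mul_eq_iff_eq_mul] at k
      have : (⟨g, hgC⟩ : C) * ⟨g, hgC⟩ = 1 := by
        rw [k, mul_assoc, ← mul_assoc dC, ← (hcen y).eq, mul_assoc y dC, hdC2, mul_one, hy]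
      exact hne (congrArg Subtype.val (hgd.symm.trans this))

end Cfsg.Agent.S5452
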