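import Cfsg.Statements.S5453
import Cfsg.Agent.Lib.ThreeTrans.TypeTop.CoverLift22
-- import your own Cfsg.Agent.* helpers here

set_option autoImplicit false
open Cfsg

namespace Cfsg.Agent.S5453
open CfsgLib.ThreeTrans CfsgLib.ThreeTrans.Tower CfsgLib.ThreeTrans.TypeTop
open scoped commutatorElement

/-- A simple group with a class of type M(22) is primitive on it. -/
theorem primitive_of_simple {Y : Type*} [Group Y] [Finite Y] {D : Set Y} (hD : Cfsg.IsThreeTranspositionClass D)
    (h22 : Cfsg.IsOfTypeM22 Y D) (hs : IsSimpleGroup Y) : Cfsg.IsPrimitiveUnderConj D := by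
  obtain ⟨hZ, d, hd, c, hc, hdc, ⟨F, _, _, hF, ⟨iso⟩⟩, -⟩ := h22
  have hC := classTwo_of hD ⟨d, hd, c, hc, fun e => hdc (e ▸ Commute.refl d)⟩
  obtain ⟨y, hy⟩ : ∃ y, y ∈ D ∧ y ≠ d ∧ Commute d y := by
    by_contra hn
    have he : {y : Y | y ∈ D ∧ y ≠ d ∧ Commute d y} = ∅ := Set.eq_empty_of_forall_notMem fun y h => hn ⟨y, h⟩
    haveI : Subsingleton ↥(Subgroup.closure {y : Y | y ∈ D ∧ y ≠ d ∧ Commute d y}) := by
      rw [he, Subgroup.closure_empty]; infer_instance
    obtain ⟨p, q, hpq⟩ := psu_six_noncomm (F := F) (by rw [hF]; norm_num)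
    exact hpq (iso.symm.injective (Subsingleton.elim _ _))
  have htop : commutator Y = ⊤ := by
    refine (Subgroup.Normal.eq_bot_or_eq_top inferInstance).resolve_left fun h => hdc ?_
    have hm : ⁅d, c⁆ ∈ commutator Y := Subgroup.commutator_mem_commutator (Subgroup.mem_top d) (Subgroup.mem_top c)
    rw [h, Subgroup.mem_bot, commutatorElement_eq_one_iff_mul_comm] at hm
    exact hm
  refine hC.primitive_of_simple_derived ⟨d, hd, y, hy.1, Ne.symm hy.2.1, hy.2.2⟩ hZ ?_
  rw [htop]
  exact Subgroup.topEquiv.isSimpleGroup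


/-- Let G be a finite group with an involution d whose centralizer C is quasisimple, such that C modulo the subgroup generated by d is of type M(22) with respect to some conjugacy class of 3-transpositions generating it and also has an involution whose own centralizer is quasisimple with quotient by it isomorphic to the projective special unitary group of dimension 6 over the field with four elements and which is not weakly closed in that centralizer; and suppose some conjugate of d other than d commutes with d. Then every involution of C modulo the subgroup generated by d is the image of an involution of C, and d is not a square in G. -/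
theorem result {G : Type*} [Group G] [Finite G] (d : G) (hd : orderOf d = 2) (hq : Cfsg.IsQuasisimple ↥(Subgroup.centralizer ({d} : Set G))) [hzn : ((Subgroup.zpowers d).subgroupOf (Subgroup.centralizer ({d} : Set G))).Normal] (htype : ∃ E : Set (↥(Subgroup.centralizer ({d} : Set G)) ⧸ (Subgroup.zpowers d).subgroupOf (Subgroup.centralizer ({d} : Set G))), Cfsg.IsThreeTranspositionClass E ∧ Cfsg.IsOfTypeM22 _ E) (hinvol : ∃ d' : ↥(Subgroup.centralizer ({d} : Set G)) ⧸ (Subgroup.zpowers d).subgroupOf (Subgroup.centralizer ({d} : Set G)), orderOf d' = 2 ∧ Cfsg.IsQuasisimple ↥(Subgroup.centralizer ({d'} : Set _)) ∧ (∃ (K : Type) (_ : Field K) (_ : Fintype K), Fintype.card K = 4 ∧ ∃ _ : ((Subgroup.zpowers d').subgroupOf (Subgroup.centralizer ({d'} : Set _))).Normal, Nonempty (↥(Subgroup.centralizer ({d'} : Set _)) ⧸ (Subgroup.zpowers d').subgroupOf (Subgroup.centralizer ({d'} : Set _)) ≃* Cfsg.PSU 6 K 2)) ∧ ∃ g, g * d' * g⁻¹ ∈ Subgroup.centralizer ({d'} : Set _) ∧ g * d' * g⁻¹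 ≠ d') (hnwc : ∃ g : G, g * d * g⁻¹ ∈ Subgroup.centralizer ({d} : Set G) ∧ g * d * g⁻¹ ≠ d) : (∀ x : ↥(Subgroup.centralizer ({d} : Set G)) ⧸ (Subgroup.zpowers d).subgroupOf (Subgroup.centralizer ({d} : Set G)), orderOf x = 2 → ∃ y : ↥(Subgroup.centralizer ({d} : Set G)), orderOf y = 2 ∧ (QuotientGroup.mk y : ↥(Subgroup.centralizer ({d} : Set G)) ⧸ (Subgroup.zpowers d).subgroupOf (Subgroup.centralizer ({d} : Set G))) = x) ∧ ¬ ∃ g : G, g ^ 2 = d := by
  classical
  set C := Subgroup.centralizer ({d} : Set G) with hC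
  have hdd : d * d = 1 := by rw [← pow_two]; exact hd ▸ pow_orderOf_eq_one d
  have hne1 : d ≠ 1 := fun h => by rw [h, orderOf_one] at hd; norm_num at hd
  have hdC : d ∈ C := Subgroup.mem_centralizer_singleton_iff.2 rfl
  let dC : C := ⟨d, hdC⟩
  have hdC2 : dC * dC = 1 := Subtype.ext hdd
  have hcen : ∀ g : C, Commute g dC := fun g => Subtype.ext (Subgroup.mem_centralizer_singleton_iff.1 g.2)
  set N := (Subgroup.zpowers d).subgroupOf C with hN
  let φ : C →* C ⧸ N := QuotientGroup.mk' N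
  have hφ : Function.Surjective φ := QuotientGroup.mk'_surjective N
  have hker : ∀ g : C, φ g = 1 → g = 1 ∨ g = dC := fun g hg => by
    obtain ⟨n, hn⟩ := (Subgroup.mem_zpowers_iff (g := d) (h := (g : G))).1 ((QuotientGroup.eq_one_iff (N := N) g).1 hg)
    rcases Int.even_or_odd' n with ⟨m, rfl | rfl⟩
    · left
      refine Subtype.ext ?_
      rw [OneMemClass.coe_one, ← hn, zpow_mul, zpow_two, hdd, one_zpow]
    · right
      refine Subtype.ext ?_
      show (g : G) = d
      rw [← hn, zpow_add, zpow_mul, zpow_two, hdd, one_zpow, one_mul, zpow_one]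
  have hdφ : φ dC = 1 := (QuotientGroup.eq_one_iff dC).2 (Subgroup.mem_zpowers d)
  obtain ⟨E, hE, h22⟩ := htype
  have hD : Cfsg.IsThreeTranspositionGroup E := group_of_class hE
  have hcenN : Subgroup.center C = N := by
    refine le_antisymm (fun x hx => (QuotientGroup.eq_one_iff x).1 ?_) fun x hx => ?_
    · have : φ x ∈ Subgroup.center (C ⧸ N) := Subgroup.mem_center_iff.2 fun t => by
        obtain ⟨k, rfl⟩ := hφ t
        rw [← map_mul, ← map_mul, Subgroup.mem_center_iff.1 hx k]
      rwa [h22.1, Subgroup.mem_bot] at this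
    · refine Subgroup.mem_center_iff.2 fun k => ?_
      rcases hker x ((QuotientGroup.eq_one_iff x).2 hx) with rfl | rfl
      exacts [(Commute.one_right k).eq, (hcen k).eq]
  haveI := hq.2
  have hsimple : IsSimpleGroup (C ⧸ N) := (QuotientGroup.quotientMulEquivOfEq hcenN.symm).isSimpleGroup
  have hprim := primitive_of_simple hE h22 hsimple
  obtain ⟨F, _, _, D22⟩ := exists_data22 hD hprim h22
  have hs : Cfsg.IsThreeTranspositionSet E := hD.1
  have hself : ∀ a ∈ E, a ∈ Hd E a := fun a ha => ((main22 hD hprim h22).2 a ha).1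
  obtain ⟨a₀, ha₀⟩ : E.Nonempty := by
    obtain ⟨-, e, he, -⟩ := h22
    exact ⟨e, he⟩
  obtain ⟨x₀, hx₀⟩ := hφ a₀
  have hx₀E : φ x₀ ∈ E := hx₀ ▸ ha₀
  have commute_lift := fun {a g : C} => Cover22.commute_lift (a := a) (g := g) D22 hs hφ hdC2 hcen hker
  have hsame := fun {g g' : C} => Cover22.same (g := g) (g' := g') hs hφ hdC2 hcen hker
  have hprod := fun {n : ℕ} {x : C} (hx : IsProd E n (φ x)) =>
    Cover22.isProd_sq D22 hs hφ hdC2 hcen hker hx hx₀E
  -- members lift to involutions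
  have hinv : x₀ * x₀ = 1 := by
    refine (hker (x₀ * x₀) (by rw [map_mul, hx₀, mul_self hs ha₀])).resolve_right fun hsq => ?_
    have pair : ∀ x : C, x * x = 1 → φ x ≠ 1 → ∃ a b : C ⧸ N, a ∈ E ∧ b ∈ Dd E a ∧ φ x = a * b := by
      intro x hx hx1
      obtain ⟨n, hn1, hn3, hn⟩ := classify22 hD hprim h22 (x := φ x) (by rw [← map_mul, hx, map_one]) hx1
      have h := hprod hn
      rw [hx, hsq] at h
      have hd1 : dC ≠ 1 := fun e => hne1 (congrArg Subtype.val e)
      interval_cases n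
      · exact absurd (by rw [h, pow_one]) hd1
      · obtain ⟨l, hl, hlen, hmem, hcomm, hlp⟩ := hn
        match l, hlen, hl, hmem, hcomm, hlp with
        | [a, b], _, hl, hmem, hcomm, hlp =>
          exact ⟨a, b, hmem a (by simp), ⟨hmem b (by simp), fun e => (List.nodup_cons.1 hl).1 (by simp [e]),
            hcomm a (by simp) b (by simp)⟩, by rw [← hlp]; simp⟩
      · exact absurd (by rw [h, pow_succ, pow_two, hdC2, one_mul]) hd1
    obtain ⟨g, hgC, hgne⟩ := hnwc
    have hgg : g * d * g⁻¹ * (g * d * g⁻¹) = 1 := by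
      rw [show g * d * g⁻¹ * (g * d * g⁻¹) = g * (d * d) * g⁻¹ by group, hdd, mul_one, mul_inv_cancel]
    let y : C := ⟨g * d * g⁻¹, hgC⟩
    have hy1 : φ y ≠ 1 := fun h => by
      rcases hker y h with k | k
      · exact hne1 (conj_eq_one_iff.1 (congrArg Subtype.val k))
      · exact hgne (congrArg Subtype.val k)
    obtain ⟨a, b, ha, hb, hyab⟩ := pair y (Subtype.ext hgg) hy1
    have hgd : g⁻¹ * d * g ∈ C := Subgroup.mem_centralizer_singleton_iff.2 (by
      have h := (commute_conj_iff g⁻¹ (g * d * g⁻¹) d).2 (Subgroup.mem_centralizer_singleton_iff.1 hgC)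
      rw [inv_inv, show g⁻¹ * (g * d * g⁻¹) * g = d by group] at h
      exact h.symm.eq)
    let y' : C := ⟨g⁻¹ * d * g, hgd⟩
    have hy'1 : φ y' ≠ 1 := fun h => by
      rcases hker y' h with k | k
      · exact hne1 (by rw [show d = g * (g⁻¹ * d * g) * g⁻¹ by group, show g⁻¹ * d * g = 1 from congrArg Subtype.val k]; group)
      · have k' : g⁻¹ * d * g = d := congrArg Subtype.val k
        exact hgne (by conv_lhs => rw [← k']
                       group)
    obtain ⟨a', b', ha', hb', hy'ab⟩ := pair y' (Subtype.ext (by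
      show g⁻¹ * d * g * (g⁻¹ * d * g) = 1
      rw [show g⁻¹ * d * g * (g⁻¹ * d * g) = g⁻¹ * (d * d) * g by group, hdd, mul_one, inv_mul_cancel])) hy'1
    obtain ⟨u, hu⟩ := hφ a'
    have huy' : Commute (y' : C) u := commute_lift (hu ▸ ha') (by
      rw [hu, hy'ab]; exact (Commute.refl a').mul_left hb'.2.2.symm)
    have huu : u * u = dC := (Cover22.sq_const D22 hs hφ hdC2 hcen hker hx₀E (hu ▸ ha')).trans hsq
    have hwC : g * (u : G) * g⁻¹ ∈ C := Subgroup.mem_centralizer_singleton_iff.2 (by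
      have h := (commute_conj_iff g (u : G) (g⁻¹ * d * g)).2 (congrArg Subtype.val huy'.symm.eq)
      rw [show g * (g⁻¹ * d * g) * g⁻¹ = d by group] at h
      exact h.eq)
    let w : C := ⟨g * (u : G) * g⁻¹, hwC⟩
    have hww : w * w = y := Subtype.ext (by
      show g * (u : G) * g⁻¹ * (g * (u : G) * g⁻¹) = g * d * g⁻¹
      rw [show g * (u : G) * g⁻¹ * (g * (u : G) * g⁻¹) = g * ((u : G) * u) * g⁻¹ by group,
        show (u : G) * u = d from congrArg Subtype.val huu])
    refine Cover22.root_false D22 hs hself ha hb (c := φ w) (by rw [← map_mul, hww, hyab])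
      (good := fun h => ∃ k : C, φ k = h ∧ Commute k w) ?_ ?_ ?_ ?_ ?_
    · rintro h ⟨k, rfl, hk⟩
      exact (hk.map φ).symm
    · intro h h' ha1 hb1 ha2 hb2 n1 n2
      obtain ⟨k, rfl⟩ := hφ h
      obtain ⟨k', rfl⟩ := hφ h'
      have key : ∀ k : C, Commute (φ k) a → Commute (φ k) b →
          ∃ j : C, (j : G) = g⁻¹ * (k : G) * g ∧ Commute (φ j) (a' * b') := by
        intro k ka kb
        obtain ⟨la, hla⟩ := hφ a
        obtain ⟨lb, hlb⟩ := hφ b
        have kla : Commute k la := commute_lift (hla ▸ ha) (hla ▸ ka)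
        have klb : Commute k lb := commute_lift (hlb ▸ hb.1) (hlb ▸ kb)
        have ky : Commute k y := by
          rcases hsame (g := la * lb) (g' := y) (by rw [map_mul, hla, hlb, hyab]) with e | e <;> rw [e]
          exacts [kla.mul_right klb, (kla.mul_right klb).mul_right (hcen k)]
        have h1 := (commute_conj_iff g⁻¹ (k : G) (g * d * g⁻¹)).2 (congrArg Subtype.val ky.eq)
        rw [inv_inv, show g⁻¹ * (g * d * g⁻¹) * g = d by group] at h1
        refine ⟨⟨g⁻¹ * (k : G) * g, Subgroup.mem_centralizer_singleton_iff.2 h1.eq⟩, rfl, ?_⟩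
        rw [← hy'ab]
        refine Commute.map (show Commute (⟨g⁻¹ * (k : G) * g, _⟩ : C) y' from Subtype.ext ?_) φ
        have h2 := (commute_conj_iff g⁻¹ (k : G) d).2 (congrArg Subtype.val (hcen k).eq)
        rw [inv_inv] at h2
        exact h2.eq
      have hgoodfix : ∀ k : C, ∀ j : C, (j : G) = g⁻¹ * (k : G) * g → Commute (φ j) a' → Commute k w := by
        intro k j hj hc'
        have h1 : Commute j u := commute_lift (hu ▸ ha') (hu ▸ hc')
        have h2 := (commute_conj_iff g (j : G) (u : G)).2 (congrArg Subtype.val h1.eq)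
        rw [hj, show g * (g⁻¹ * (k : G) * g) * g⁻¹ = k by group] at h2
        exact Subtype.ext h2.eq
      obtain ⟨j, hj, hjc⟩ := key k ha1 hb1
      obtain ⟨j', hj', hjc'⟩ := key k' ha2 hb2
      have swap : ∀ (k : C) (j : C), (j : G) = g⁻¹ * (k : G) * g → Commute (φ j) (a' * b') →
          (¬ ∃ l : C, φ l = φ k ∧ Commute l w) → φ j * a' * (φ j)⁻¹ = b' ∧ φ j * b' * (φ j)⁻¹ = a' := by
        intro k j hj hjc hn
        rcases CfsgLib.ThreeTrans.Tower.pair_unique hs D22.rel ha' hb'.1 (Ne.symm hb'.2.1) hb'.2.2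
          (D22.closed.conj (φ j) a' ha') (D22.closed.conj (φ j) b' hb'.1) ((commute_conj_iff _ a' b').2 hb'.2.2)
          (by rw [show φ j * a' * (φ j)⁻¹ * (φ j * b' * (φ j)⁻¹) = φ j * (a' * b') * (φ j)⁻¹ by group, hjc.eq,
            mul_inv_cancel_right]) with h | h
        · exact absurd ⟨k, rfl, hgoodfix k j hj (mul_inv_eq_iff_eq_mul.1 h.1)⟩ hn
        · exact h
      obtain ⟨s1, s2⟩ := swap k j hj hjc n1
      obtain ⟨t1, t2⟩ := swap k' j' hj' hjc' n2
      refine ⟨k * k', map_mul φ k k', hgoodfix (k * k') (j * j') (by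
        rw [Subgroup.coe_mul, hj, hj', Subgroup.coe_mul]; group) (mul_inv_eq_iff_eq_mul.1 ?_)⟩
      rw [map_mul, show φ j * φ j' * a' * (φ j * φ j')⁻¹ = φ j * (φ j' * a' * (φ j')⁻¹) * (φ j)⁻¹ by group, t1, s2]
    · rintro h h' ⟨k, rfl, hk⟩ ⟨k', rfl, hk'⟩
      exact ⟨k * k', map_mul φ k k', hk.mul_left hk'⟩
    · rintro h ⟨k, rfl, hk⟩
      exact ⟨k⁻¹, map_inv φ k, hk.inv_left⟩
    · intro hwa
      obtain ⟨la, hla⟩ := hφ a
      exact ⟨la, hla, (commute_lift (hla ▸ ha) (hla ▸ hwa)).symm⟩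
  have hlift : ∀ x : C, φ x * φ x = 1 → φ x ≠ 1 → x * x = 1 := fun x hx hx1 => by
    obtain ⟨n, -, -, hn⟩ := classify22 hD hprim h22 hx hx1
    rw [hprod hn, hinv, one_pow]
  constructor
  · intro x hx
    obtain ⟨y, rfl⟩ := hφ x
    have hx1 : φ y ≠ 1 := fun h => by
      rw [h, orderOf_one] at hx; norm_num at hx
    refine ⟨y, orderOf_eq_prime ?_ fun h => hx1 (by rw [h, map_one]), rfl⟩
    rw [pow_two]
    exact hlift y (by rw [← pow_two]; exact hx ▸ pow_orderOf_eq_one (φ y)) hx1
  · rintro ⟨g, hg⟩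
    have hgC : g ∈ C := Subgroup.mem_centralizer_singleton_iff.2 (by
      rw [← hg]; exact (pow_succ' g 2).symm.trans (pow_succ g 2))
    have hgd : (⟨g, hgC⟩ : C) * ⟨g, hgC⟩ = dC := Subtype.ext ((pow_two g).symm.trans hg)
    have hd1 : dC ≠ 1 := fun e => hne1 (congrArg Subtype.val e)
    by_cases h1 : φ ⟨g, hgC⟩ = 1
    · rcases hker _ h1 with k | k <;> rw [k] at hgd
      exacts [hd1 ((one_mul (1 : C)).symm.trans hgd).symm, hd1 (hgd.symm.trans hdC2)]
    · exact hd1 (hgd.symm.trans (hlift _ (by rw [← map_mul, hgd, hdφ]) h1))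

end Cfsg.Agent.S5453
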