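import Cfsg.Statements.S5454
import Cfsg.Agent.Lib.ThreeTrans.FiCent.Fusion
import Cfsg.Agent.Lib.PLocal.Thompson

set_option autoImplicit false
open Cfsg

namespace Cfsg.Agent.S5454

open CfsgLib.ThreeTrans CfsgLib.ThreeTrans.FiCent

/-- A strictly largest elementary abelian subgroup is the Thompson subgroup. -/
theorem thompson_eq {C : Type*} [Group C] {S A : Subgroup C} (hAS : A ≤ S) (hA : Cfsg.IsElementaryAbelian 2 A)
    (hb : ∀ E : Subgroup C, E ≤ S → Cfsg.IsElementaryAbelian 2 E → ¬ E ≤ A → Nat.card E < Nat.card A) [Finite C] :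
    Cfsg.thompsonSubgroupOf 2 S = A := by
  have hcard : ∀ E : Subgroup S, Nat.card (E.map S.subtype) = Nat.card E := fun E =>
    Subgroup.card_map_of_injective S.subtype_injective
  have hmapA : (A.subgroupOf S).map S.subtype = A := by
    rw [Subgroup.subgroupOf_map_subtype, inf_eq_left.2 hAS]
  have hAmem : A.subgroupOf S ∈ Cfsg.maxElementaryAbelianSubgroups 2 S := by
    refine ⟨(CfsgLib.PLocal.elemAb_map_iff S.subtype_injective).1 (hmapA.symm ▸ hA), fun E hE => ?_⟩
    rw [← hcard E, ← hcard, hmapA]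
    by_cases h : E.map S.subtype ≤ A
    · exact Subgroup.card_le_of_le h
    · exact (hb _ (Subgroup.map_subtype_le _) (CfsgLib.PLocal.elemAb_map _ hE) h).le
  refine le_antisymm ?_ ?_
  · rw [Cfsg.thompsonSubgroupOf, Cfsg.thompsonSubgroup, Subgroup.map_le_iff_le_comap]
    refine sSup_le fun E hE => Subgroup.map_le_iff_le_comap.1 ?_
    by_contra h
    have h1 := hb _ (Subgroup.map_subtype_le _) (CfsgLib.PLocal.elemAb_map _ hE.1) h
    have h2 := hE.2 _ hAmem.1
    rw [← hmapA, hcard, hcard] at h1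
    omega
  · rw [← hmapA]
    exact Subgroup.map_mono (le_sSup hAmem)

/-- Let G be a finite group with an involution d whose centralizer C is quasisimple with C modulo the subgroup generated by d isomorphic to the projective special unitary group of dimension 6 over the field with four elements, and suppose some conjugate of d other than d commutes with d. Let S be a Sylow 2-subgroup of C and A the Thompson subgroup of S (generated by the elementary abelian subgroups of S of largest order), regarded as a subgroup of G. Then A is elementary abelian of order 2^10, exactly 22 conjugates of d lie in A, and the normalizer of A permutes them transitively. -/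
theorem result {G : Type*} [Group G] [Finite G] (d : G) (hd : orderOf d = 2) (hq : Cfsg.IsQuasisimple ↥(Subgroup.centralizer ({d} : Set G))) [hzn : ((Subgroup.zpowers d).subgroupOf (Subgroup.centralizer ({d} : Set G))).Normal] (K : Type) [Field K] [Fintype K] (hK : Fintype.card K = 4) (e : ↥(Subgroup.centralizer ({d} : Set G)) ⧸ (Subgroup.zpowers d).subgroupOf (Subgroup.centralizer ({d} : Set G)) ≃* Cfsg.PSU 6 K 2) (hnwc : ∃ g : G, g * d * g⁻¹ ∈ Subgroup.centralizer ({d} : Set G) ∧ g * d * g⁻¹ ≠ d) (S : Sylow 2 ↥(Subgroup.centralizer ({d} : Set G))) (A : Subgroup G) (hA : A = (Cfsg.thompsonSubgroupOf 2 (S : Subgroup ↥(Subgroup.centralizer ({d} : Set G)))).map (Subgroup.centralizer ({d} : Set G)).subtype) : Cfsg.IsElementaryAbelian 2 A ∧ Nat.card A = 2 ^ 10 ∧ Set.ncard {x : G | x ∈ A ∧ IsConj d x} = 22 ∧ ∀ x ∈ A, ∀ y ∈ A, IsConj d x → IsConj d y → ∃ n ∈ Subgroup.normalizer (A : Set G), n * x * n⁻¹ = y := by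
  classical
  have h : Hyp d := Hyp.mk' hd hq K hK e hnwc
  obtain ⟨θ, hθ⟩ := h.exists_iso
  let ψ : ↥(Subgroup.centralizer ({d} : Set G)) →* X := H0.subtype.comp θ.symm.toMonoidHom
  have hψ : Function.Injective ψ := H0.subtype_injective.comp θ.symm.injective
  have hdC : d ∈ (Subgroup.centralizer ({d} : Set G)) := Subgroup.mem_centralizer_singleton_iff.2 rfl
  -- the involution lies in the Sylow subgroup
  have hdS : (⟨d, hdC⟩ : ↥(Subgroup.centralizer ({d} : Set G))) ∈ (S : Subgroup ↥(Subgroup.centralizer ({d} : Set G))) := by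
    have hz : IsPGroup 2 ((Subgroup.zpowers d).subgroupOf (Subgroup.centralizer ({d} : Set G))) := by
      refine (IsPGroup.of_card (n := 1) ?_).to_le le_rfl
      rw [Nat.card_congr (Subgroup.subgroupOfEquivOfLe h.le_Cd).toEquiv, Nat.card_zpowers, hd, pow_one]
    exact S.is_maximal' (IsPGroup.to_sup_of_normal_right S.2 hz) le_sup_left ▸
      Subgroup.mem_sup_right (Subgroup.mem_zpowers d : (⟨d, hdC⟩ : ↥(Subgroup.centralizer ({d} : Set G))) ∈ (Subgroup.zpowers d).subgroupOf (Subgroup.centralizer ({d} : Set G)))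
  obtain ⟨c, hc, hperm⟩ := Base.fixed_conj (Q := (S : Subgroup ↥(Subgroup.centralizer ({d} : Set G))).map ψ) (S.2.map ψ) ⟨⟨d, hdC⟩, hdS, by
    show (θ.symm ⟨d, hdC⟩ : X) = _
    rw [show (⟨d, hdC⟩ : ↥(Subgroup.centralizer ({d} : Set G))) = θ aH from Subtype.ext hθ.symm, MulEquiv.symm_apply_apply]⟩
  let cH : ↥H0 := ⟨c, hc⟩
  let k : Fin 1024 → ↥(Subgroup.centralizer ({d} : Set G)) := θ.toMonoidHom.comp (MulAut.conj cH).toMonoidHom ∘ elH
  have hk : Base.Coord k := elH_coord.comp _ (θ.injective.comp (MulAut.conj cH).injective)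
  have hkψ : ∀ u, ψ (k u) = c * Base.el u * c⁻¹ := fun u => by
    show (θ.symm (θ (cH * elH u * cH⁻¹)) : X) = _
    rw [MulEquiv.symm_apply_apply]; rfl
  have hA' : Cfsg.IsElementaryAbelian 2 hk.sub := by
    refine ⟨⟨⟨fun p q => Subtype.ext ?_⟩⟩, ?_⟩
    · obtain ⟨u, hu⟩ := p.2
      obtain ⟨w, hw⟩ := q.2
      show (p : ↥(Subgroup.centralizer ({d} : Set G))) * q = q * p
      rw [← hu, ← hw]; exact (hk.comm u w).eq
    · rintro _ ⟨u, rfl⟩
      rw [pow_two]; exact hk.mul_self u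
  have hnorm : (S : Subgroup ↥(Subgroup.centralizer ({d} : Set G))) ≤ Subgroup.normalizer (hk.sub : Set ↥(Subgroup.centralizer ({d} : Set G))) := by
    intro s hs
    have key : ∀ t ∈ (S : Subgroup ↥(Subgroup.centralizer ({d} : Set G))), ∀ x ∈ hk.sub, t * x * t⁻¹ ∈ hk.sub := by
      rintro t ht _ ⟨u, rfl⟩
      obtain ⟨v, hv⟩ : ∃ v, Base.el v = (c⁻¹ * ψ t * c) * Base.el u * (c⁻¹ * ψ t * c)⁻¹ := by
        refine Base.el_range.1 ?_
        have : Base.A0.map (MulAut.conj (c⁻¹ * ψ t * c)).toMonoidHom ≤ Base.A0 := by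
          rw [MonoidHom.map_closure, Subgroup.closure_le]
          rintro _ ⟨b, hb, rfl⟩
          exact Subgroup.subset_closure (hperm _ ⟨t, ht, rfl⟩ b hb)
        exact this ⟨_, Base.el_mem u, rfl⟩
      refine ⟨v, hψ ?_⟩
      rw [hkψ, map_mul, map_mul, map_inv, hkψ, hv]
      group
    refine Subgroup.mem_normalizer_iff.2 fun x => ⟨key s hs x, fun hx => ?_⟩
    have := key s⁻¹ (inv_mem hs) _ hx
    simpa [mul_assoc] using this
  have hp2 : IsPGroup 2 hk.sub := IsPGroup.of_card (n := 10) (by rw [hk.card_sub]; norm_num)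
  have hAS : hk.sub ≤ (S : Subgroup ↥(Subgroup.centralizer ({d} : Set G))) :=
    le_sup_right.trans_eq (S.is_maximal' (IsPGroup.to_sup_of_normal_right' S.2 hp2 hnorm) le_sup_left)
  have hth : Cfsg.thompsonSubgroupOf 2 (S : Subgroup ↥(Subgroup.centralizer ({d} : Set G))) = hk.sub := by
    refine thompson_eq hAS hA' fun E hES hE hn => ?_
    rw [hk.card_sub, ← Base.card_A0]
    set F := (E.map ψ).map (MulAut.conj c⁻¹).toMonoidHom with hF
    have hFc : Nat.card F = Nat.card E := by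
      rw [hF, Subgroup.card_map_of_injective (MulAut.conj c⁻¹).injective, Subgroup.card_map_of_injective hψ]
    rw [← hFc]
    refine TypeTop.card_lt_base Base.m22.set Base.B0_base (fun y hy hy1 => Base.m22.classify hy hy1)
      (Base.m22.rel (by norm_num) (by norm_num))
      (CfsgLib.PLocal.elemAb_map _ (CfsgLib.PLocal.elemAb_map _ hE)) ?_ ?_
    · rintro _ ⟨_, ⟨t, ht, rfl⟩, rfl⟩ b hb
      simpa using hperm (ψ t) ⟨t, hES ht, rfl⟩ b hb
    · intro hle
      refine hn fun t ht => ?_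
      obtain ⟨u, hu⟩ := Base.el_range.1 (hle ⟨_, ⟨t, ht, rfl⟩, rfl⟩)
      refine ⟨u, hψ ?_⟩
      rw [hkψ, hu]
      simp [mul_assoc]
  set g0 := intoG θ cH with hg0
  have hkG : ∀ u, ((k u : ↥(Subgroup.centralizer ({d} : Set G))) : G) = g0 * baseG θ u * g0⁻¹ := fun u => by
    show intoG θ (cH * elH u * cH⁻¹) = _
    rw [map_mul, map_mul, map_inv]; rfl
  have hmem : ∀ x, x ∈ A ↔ ∃ u, g0 * baseG θ u * g0⁻¹ = x := fun x => by
    rw [hA, hth]
    constructor
    · rintro ⟨_, ⟨u, rfl⟩, rfl⟩; exact ⟨u, (hkG u).symm⟩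
    · rintro ⟨u, rfl⟩; exact ⟨k u, ⟨u, rfl⟩, hkG u⟩
  have hconj : ∀ u, IsConj d (g0 * baseG θ u * g0⁻¹) ↔ baseG θ u ∈ conjugatesOf d := fun u => by
    have : IsConj (baseG θ u) (g0 * baseG θ u * g0⁻¹) := isConj_iff.2 ⟨g0, rfl⟩
    exact ⟨fun k => k.trans this.symm, fun k => (show IsConj d _ from k).trans this⟩
  have hinj : Function.Injective fun u => g0 * baseG θ u * g0⁻¹ := fun u v e =>
    (baseG_coord θ).inj (mul_left_cancel (mul_right_cancel e))
  refine ⟨?_, ?_, ?_, ?_⟩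
  · rw [hA, hth]; exact CfsgLib.PLocal.elemAb_map _ hA'
  · rw [hA, hth, Subgroup.card_map_of_injective (Subgroup.centralizer ({d} : Set G)).subtype_injective, hk.card_sub]; norm_num
  · have hset : {x : G | x ∈ A ∧ IsConj d x} = (fun u => g0 * baseG θ u * g0⁻¹) '' {u | Base.el u ∈ Base.B0} := by
      ext x
      constructor
      · rintro ⟨hx, hdx⟩
        obtain ⟨u, rfl⟩ := (hmem x).1 hx
        exact ⟨u, (h.base_fusion θ hθ u).1 ((hconj u).1 hdx), rfl⟩
      · rintro ⟨u, hu, rfl⟩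
        exact ⟨(hmem _).2 ⟨u, rfl⟩, (hconj u).2 ((h.base_fusion θ hθ u).2 hu)⟩
    rw [hset, Set.ncard_image_of_injective _ hinj, ← Base.B0_card,
      ← Set.ncard_image_of_injective _ Base.coord.inj]
    congr 1
    ext b
    constructor
    · rintro ⟨u, hu, rfl⟩; exact hu
    · intro hb
      obtain ⟨u, rfl⟩ := Base.el_range.1 (Subgroup.subset_closure hb)
      exact ⟨u, hb, rfl⟩
  · intro x hx y hy hdx hdy
    obtain ⟨u, rfl⟩ := (hmem x).1 hx
    obtain ⟨v, rfl⟩ := (hmem y).1 hy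
    obtain ⟨p, hp, hpu⟩ := h.base_trans θ hθ ((hconj u).1 hdx)
    obtain ⟨q, hq', hqv⟩ := h.base_trans θ hθ ((hconj v).1 hdy)
    obtain ⟨n, -, hn⟩ := Base.mem_induced.1 (mul_mem hq' (inv_mem hp))
    have hn' : ∀ w, (g0 * n * g0⁻¹) * (g0 * baseG θ w * g0⁻¹) * (g0 * n * g0⁻¹)⁻¹ =
        g0 * baseG θ ((q * p⁻¹) w) * g0⁻¹ := fun w => by
      rw [← hn]; group
    refine ⟨g0 * n * g0⁻¹, Subgroup.mem_normalizer_iff.2 fun z => ⟨fun hz => ?_, fun hz => ?_⟩, ?_⟩
    · obtain ⟨w, rfl⟩ := (hmem z).1 hz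
      exact (hmem _).2 ⟨_, (hn' w).symm⟩
    · obtain ⟨w, hw⟩ := (hmem _).1 hz
      refine (hmem z).2 ⟨(q * p⁻¹)⁻¹ w, mul_left_cancel (a := g0 * n * g0⁻¹) (mul_right_cancel
        (b := (g0 * n * g0⁻¹)⁻¹) ?_)⟩
      rw [hn', show (q * p⁻¹) ((q * p⁻¹)⁻¹ w) = w from (q * p⁻¹).apply_symm_apply w, hw]
    · rw [hn', Equiv.Perm.mul_apply, ← hpu, show p⁻¹ (p 1) = 1 from p.symm_apply_apply 1, hqv]

end Cfsg.Agent.S5454
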