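import Cfsg.Statements.S5455
import Cfsg.Agent.Lib.ThreeTrans.FiCent23.Thompson
-- import your own Cfsg.Agent.* helpers here

set_option autoImplicit false
open Cfsg

namespace Cfsg.Agent.S5455

/-- Let G be a finite group with an involution d whose centralizer C is quasisimple, such that C modulo the subgroup generated by d is of type M(22) with respect to some conjugacy class of 3-transpositions generating it and also has an involution whose own centralizer is quasisimple with quotient by it isomorphic to the projective special unitary group of dimension 6 over the field with four elements and which is not weakly closed in that centralizer; and suppose some conjugate of d other than d commutes with d. Let S be a Sylow 2-subgroup of C and A the Thompson subgroup of S, regarded as a subgroup of G. Then A is elementary abelian of order 2^11, exactly 23 conjugates of d lie in A, and the normalizer of A permutes them transitively. -/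
theorem result {G : Type*} [Group G] [Finite G] (d : G) (hd : orderOf d = 2) (hq : Cfsg.IsQuasisimple ↥(Subgroup.centralizer ({d} : Set G))) [hzn : ((Subgroup.zpowers d).subgroupOf (Subgroup.centralizer ({d} : Set G))).Normal] (htype : ∃ E : Set (↥(Subgroup.centralizer ({d} : Set G)) ⧸ (Subgroup.zpowers d).subgroupOf (Subgroup.centralizer ({d} : Set G))), Cfsg.IsThreeTranspositionClass E ∧ Cfsg.IsOfTypeM22 _ E) (hinvol : ∃ d' : ↥(Subgroup.centralizer ({d} : Set G)) ⧸ (Subgroup.zpowers d).subgroupOf (Subgroup.centralizer ({d} : Set G)), orderOf d' = 2 ∧ Cfsg.IsQuasisimple ↥(Subgroup.centralizer ({d'} : Set _)) ∧ (∃ (K : Type) (_ : Field K) (_ : Fintype K), Fintype.card K = 4 ∧ ∃ _ : ((Subgroup.zpowers d').subgroupOf (Subgroup.centralizer ({d'} : Set _))).Normal, Nonempty (↥(Subgroup.centralizer ({d'} : Set _)) ⧸ (Subgroup.zpowers d').subgroupOf (Subgroup.centralizer ({d'} : Set _)) ≃* Cfsg.PSU 6 K 2)) ∧ ∃ g, g * d' * g⁻¹ ∈ Subgroup.centralizer ({d'} : Set _) ∧ g * d' * g⁻¹ ≠ d') (hnwc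 : ∃ g : G, g * d * g⁻¹ ∈ Subgroup.centralizer ({d} : Set G) ∧ g * d * g⁻¹ ≠ d) (S : Sylow 2 ↥(Subgroup.centralizer ({d} : Set G))) (A : Subgroup G) (hA : A = (Cfsg.thompsonSubgroupOf 2 (S : Subgroup ↥(Subgroup.centralizer ({d} : Set G)))).map (Subgroup.centralizer ({d} : Set G)).subtype) : Cfsg.IsElementaryAbelian 2 A ∧ Nat.card A = 2 ^ 11 ∧ Set.ncard {x : G | x ∈ A ∧ IsConj d x} = 23 ∧ ∀ x ∈ A, ∀ y ∈ A, IsConj d x → IsConj d y → ∃ n ∈ Subgroup.normalizer (A : Set G), n * x * n⁻¹ = y := by
  classical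
  obtain ⟨E, hE, h22⟩ := htype
  have h := CfsgLib.ThreeTrans.FiCent23.cov_of d hd hq hE h22 hnwc
  obtain ⟨x₀, B₀, f₀⟩ := h.exists_frame
  obtain ⟨B, f, hJ⟩ := h.thompson f₀.seed S
  obtain ⟨x₁, f₁, hΔ⟩ := f.exists_class
  have hAB : A = CfsgLib.ThreeTrans.FiCent23.Agrp (d := d) (QuotientGroup.mk' ((Subgroup.zpowers d).subgroupOf (Subgroup.centralizer ({d} : Set G)))) B := by rw [hA, hJ]; rfl
  subst hAB
  refine ⟨f.A_elementary, f.card_A, ?_, ?_⟩
  · show (CfsgLib.ThreeTrans.FiCent23.Dl d (QuotientGroup.mk' ((Subgroup.zpowers d).subgroupOf (Subgroup.centralizer ({d} : Set G)))) B).ncard = 23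
    rw [hΔ, Set.ncard_insert_of_notMem ?_ (Set.toFinite _), f₁.KG_card (by norm_num)]
    · rfl
    rintro ⟨S', hS', hc, e⟩
    have := (f₁.eg_inj' (Finset.empty_subset B) hS' (by simp) (by omega) (f₁.eg_true.trans e)).2
    rw [← this, Finset.card_empty] at hc
    omega
  · intro x hx y hy hdx hdy
    obtain ⟨n, hn, hnd⟩ := f.Dl_trans (x := x) ⟨hx, hdx⟩
    obtain ⟨m, hm, hmd⟩ := f.Dl_trans (x := y) ⟨hy, hdy⟩
    refine ⟨m * n⁻¹, mul_mem hm (inv_mem hn), ?_⟩
    show CfsgLib.ThreeTrans.FiCent23.cj (m * n⁻¹) x = y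
    rw [← hnd, CfsgLib.ThreeTrans.FiCent23.cj_cj, inv_mul_cancel_right, hmd]

end Cfsg.Agent.S5455
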