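import Cfsg.Statements.S5458
import Cfsg.Agent.Lib.ThreeTrans.TypeTop.BaseThompson
import Cfsg.Agent.Lib.PLocal.Thompson
-- import your own Cfsg.Agent.* helpers here

set_option autoImplicit false
open Cfsg

namespace Cfsg.Agent.S5458
open CfsgLib.ThreeTrans CfsgLib.ThreeTrans.Tower CfsgLib.ThreeTrans.TypeTop

/-- Let G be a finite group with trivial centre generated by a conjugation-invariant set D of 3-transpositions on which it acts primitively, of type M(22), and suppose G also has an involution whose centralizer is quasisimple with quotient by it the projective special unitary group of dimension 6 over the field with four elements and which is not weakly closed in that centralizer. Let T be a Sylow 2-subgroup of G. Then the subgroup generated by the members of D lying in T is the Thompson subgroup of T (generated by the elementary abelian subgroups of T of largest order). -/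
theorem result {G : Type*} [Group G] [Finite G] {D : Set G} (hD : Cfsg.IsThreeTranspositionGroup D) (hprim : Cfsg.IsPrimitiveUnderConj D) (h22 : Cfsg.IsOfTypeM22 G D) (hM : ∃ d : G, orderOf d = 2 ∧ Cfsg.IsQuasisimple ↥(Subgroup.centralizer ({d} : Set G)) ∧ (∃ (_ : ((Subgroup.zpowers d).subgroupOf (Subgroup.centralizer ({d} : Set G))).Normal) (K : Type) (_ : Field K) (_ : Fintype K), Fintype.card K = 4 ∧ Nonempty (↥(Subgroup.centralizer ({d} : Set G)) ⧸ (Subgroup.zpowers d).subgroupOf (Subgroup.centralizer ({d} : Set G)) ≃* Cfsg.PSU 6 K 2)) ∧ ∃ g : G, g * d * g⁻¹ ∈ Subgroup.centralizer ({d} : Set G) ∧ g * d * g⁻¹ ≠ d) (T : Sylow 2 G) : Subgroup.closure {x : G | x ∈ D ∧ x ∈ (T : Subgroup G)} = Cfsg.thompsonSubgroupOf 2 (T : Subgroup G) := by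
  classical
  have hs : Cfsg.IsThreeTranspositionSet D := hD.1
  have hclosed := conjClosed_of_group hD
  have h4 : NoRel D 4 := (good22 hD h22).rel 4 (by norm_num) (by norm_num)
  obtain ⟨B₀, hB₀⟩ := exists_base hD hprim h22
  haveI : Fact (Nat.Prime 2) := ⟨Nat.prime_two⟩
  set A₀ := Subgroup.closure B₀
  have hA₀ : Cfsg.IsElementaryAbelian 2 A₀ := by
    haveI : IsMulCommutative A₀ :=
      Subgroup.isMulCommutative_closure fun x hx y hy => (hB₀.comm x hx y hy).eq
    refine ⟨inferInstance, fun a ha => ?_⟩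
    induction ha using Subgroup.closure_induction with
    | mem y hy => rw [pow_two]; exact mul_self hs (hB₀.sub hy)
    | one => simp
    | mul p q hp hq ihp ihq => rw [Commute.mul_pow (setLike_mul_comm hp hq), ihp, ihq, mul_one]
    | inv p hp ihp => rw [inv_pow, ihp, inv_one]
  have hA₀p : IsPGroup 2 A₀ := fun a => ⟨1, Subtype.ext (by
    rw [pow_one, SubgroupClass.coe_pow]; exact hA₀.2 a a.2)⟩
  obtain ⟨T₀, hT₀⟩ := hA₀p.exists_le_sylow
  obtain ⟨g, hg⟩ := MulAction.exists_smul_eq G T₀ T
  set S : Set G := {x : G | x ∈ D ∧ x ∈ (T : Subgroup G)} with hS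
  have hScomm : ∀ x ∈ S, ∀ y ∈ S, Commute x y := by
    intro x hx y hy
    by_contra hn
    obtain ⟨k, hk⟩ := T.2 ⟨x * y, mul_mem hx.2 hy.2⟩
    have hk' : (x * y) ^ 2 ^ k = 1 := congrArg Subtype.val hk
    have h3 : (x * y) ^ 3 = 1 := pow_three_of_not_commute hs hx.1 hy.1 hn
    have h1 : orderOf (x * y) ∣ 1 := by
      rw [← show Nat.gcd (2 ^ k) 3 = 1 from (Nat.Coprime.pow_left k (by norm_num))]
      exact Nat.dvd_gcd (orderOf_dvd_of_pow_eq_one hk') (orderOf_dvd_of_pow_eq_one h3)
    have h1' : x * y = 1 := orderOf_eq_one_iff.1 (Nat.dvd_one.1 h1)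
    exact hn (((mul_eq_one_iff_eq' hs hy.1).1 h1') ▸ Commute.refl y)
  have himg : (fun x => g * x * g⁻¹) '' B₀ ⊆ S := by
    rintro _ ⟨x, hx, rfl⟩
    refine ⟨hclosed.conj g _ (hB₀.sub hx), ?_⟩
    rw [← hg, Sylow.coe_subgroup_smul]
    exact Subgroup.smul_mem_pointwise_smul x (MulAut.conj g) _ (hT₀ (Subgroup.subset_closure hx))
  have hSeq : (fun x => g * x * g⁻¹) '' B₀ = S := Set.eq_of_subset_of_ncard_le himg (by
    rw [Set.ncard_image_of_injective _ (fun a b h => mul_left_cancel (mul_right_cancel h)), hB₀.card]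
    exact (width22 hD hprim h22).1 S (fun x hx => hx.1) hScomm) (Set.toFinite _)
  have hB : IsBase22 D S := by
    refine ⟨fun x hx => hx.1, hScomm, ?_, fun e he heS x hx hex' => ?_⟩
    · rw [← hSeq, Set.ncard_image_of_injective _ (fun a b h => mul_left_cancel (mul_right_cancel h)), hB₀.card]
    · have hm : ∀ y, y ∈ S ↔ g⁻¹ * y * g ∈ B₀ := fun y => by
        rw [← hSeq]
        exact ⟨by rintro ⟨z, hz, rfl⟩; rwa [show g⁻¹ * (g * z * g⁻¹) * g = z by group], fun h => ⟨_, h, by group⟩⟩
      have hc : ∀ y, Commute (g⁻¹ * e * g) (g⁻¹ * y * g) ↔ Commute e y := fun y => by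
        simpa using commute_conj_iff g⁻¹ e y
      have h6 := hB₀.outside (g⁻¹ * e * g) (by simpa using hclosed.conj g⁻¹ _ he) (fun h => heS ((hm e).2 h))
        (g⁻¹ * x * g) ((hm x).1 hx) ((hc x).2 hex')
      rw [← h6, ← Set.ncard_image_of_injective _ (fun a b h => mul_left_cancel (mul_right_cancel h) :
        Function.Injective (fun x => g⁻¹ * x * g))]
      congr 1
      ext y
      constructor
      · rintro ⟨z, ⟨hz, hzc⟩, rfl⟩; exact ⟨(hm z).1 hz, (hc z).2 hzc⟩
      · rintro ⟨hy, hyc⟩
        refine ⟨g * y * g⁻¹, ⟨(hm _).2 (by rwa [show g⁻¹ * (g * y * g⁻¹) * g = y by group]), (hc _).1 (by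
          rwa [show g⁻¹ * (g * y * g⁻¹) * g = y by group])⟩, by group⟩
  set A := Subgroup.closure S
  have hAT : A ≤ (T : Subgroup G) := (Subgroup.closure_le _).2 fun x hx => hx.2
  have hAab : Cfsg.IsElementaryAbelian 2 A := by
    haveI : IsMulCommutative A := Subgroup.isMulCommutative_closure fun x hx y hy => (hScomm x hx y hy).eq
    refine ⟨inferInstance, fun a ha => ?_⟩
    induction ha using Subgroup.closure_induction with
    | mem y hy => rw [pow_two]; exact mul_self hs hy.1
    | one => simp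
    | mul p q hp hq ihp ihq => rw [Commute.mul_pow (setLike_mul_comm hp hq), ihp, ihq, mul_one]
    | inv p hp ihp => rw [inv_pow, ihp, inv_one]
  have hbound : ∀ E : Subgroup G, E ≤ (T : Subgroup G) → Cfsg.IsElementaryAbelian 2 E → ¬ E ≤ A →
      Nat.card E < Nat.card A := fun E hET hE hn =>
    card_lt_base hs hB (fun x hx hx1 => classify22 hD hprim h22 hx hx1) h4 hE
      (fun u hu b hb => ⟨hclosed.conj u _ hb.1, mul_mem (mul_mem (hET hu) hb.2) (inv_mem (hET hu))⟩) hn
  have hsub : ∀ E : Subgroup ↥(T : Subgroup G), Cfsg.IsElementaryAbelian 2 E →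
      Cfsg.IsElementaryAbelian 2 (E.map (T : Subgroup G).subtype) := fun E hE => CfsgLib.PLocal.elemAb_map _ hE
  have hcardmap : ∀ E : Subgroup ↥(T : Subgroup G), Nat.card (E.map (T : Subgroup G).subtype) = Nat.card E :=
    fun E => Subgroup.card_map_of_injective (Subgroup.subtype_injective _)
  have hmapA : (A.subgroupOf (T : Subgroup G)).map (T : Subgroup G).subtype = A := by
    rw [Subgroup.subgroupOf_map_subtype, inf_eq_left.2 hAT]
  have hAmem : A.subgroupOf (T : Subgroup G) ∈ Cfsg.maxElementaryAbelianSubgroups 2 ↥(T : Subgroup G) := by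
    refine ⟨(CfsgLib.PLocal.elemAb_map_iff (Subgroup.subtype_injective _)).1 (hmapA.symm ▸ hAab), fun E hE => ?_⟩
    rw [← hcardmap E, ← hcardmap, hmapA]
    by_cases h : E.map (T : Subgroup G).subtype ≤ A
    · exact Subgroup.card_le_of_le h
    · exact (hbound _ (Subgroup.map_subtype_le _) (hsub E hE) h).le
  refine le_antisymm ?_ ?_
  · rw [← hmapA]
    exact Subgroup.map_mono (le_sSup hAmem)
  · rw [Cfsg.thompsonSubgroupOf, Cfsg.thompsonSubgroup, Subgroup.map_le_iff_le_comap]
    refine sSup_le fun E hE => Subgroup.map_le_iff_le_comap.1 ?_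
    by_contra h
    have h1 := hbound _ (Subgroup.map_subtype_le _) (hsub E hE.1) h
    have h2 := hE.2 _ hAmem.1
    rw [← hmapA, hcardmap, hcardmap] at h1
    omega

end Cfsg.Agent.S5458
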