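import Cfsg.Statements.S5459
import Cfsg.Agent.Lib.LargeExtra.Basic

set_option autoImplicit false
open Cfsg
open scoped commutatorElement

namespace Cfsg.Agent.S5459

/-- Let G be a finite group with a quasisimple normal subgroup L and an involution d such that G is generated by L and d, the centre of L has odd order, and d inverts every element of the centre of L. If the commuting graph on the conjugacy class of the image of d in G modulo the centre of L is connected, then the commuting graph on the conjugacy class of d is connected. -/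
theorem result {G : Type*} [Group G] [Finite G] (L : Subgroup G) [L.Normal] (hL : Cfsg.IsQuasisimple ↥L) (d : G) (hd : orderOf d = 2) (hgen : L ⊔ Subgroup.zpowers d = ⊤) (hodd : Odd (Nat.card ↥(Subgroup.center ↥L))) (hinv : ∀ c ∈ (Subgroup.center ↥L).map L.subtype, d * c * d⁻¹ = c⁻¹) [hn : ((Subgroup.center ↥L).map L.subtype).Normal] (hconn : (Cfsg.commutingGraph (conjugatesOf (QuotientGroup.mk d : G ⧸ (Subgroup.center ↥L).map L.subtype))).Connected) : (Cfsg.commutingGraph (conjugatesOf d)).Connected := by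
  classical
  set Z := (Subgroup.center ↥L).map L.subtype with hZ
  have hoddZ : Odd (Nat.card Z) := by
    rw [hZ, Subgroup.card_map_of_injective L.subtype_injective]
    exact hodd
  have hinv' : ∀ g : G, ∀ c ∈ Z, (g * d * g⁻¹) * c * (g * d * g⁻¹)⁻¹ = c⁻¹ := by
    intro g c hc
    have h := hinv (g⁻¹ * c * g) (by simpa using hn.conj_mem c hc g⁻¹)
    calc (g * d * g⁻¹) * c * (g * d * g⁻¹)⁻¹ = g * (d * (g⁻¹ * c * g) * d⁻¹) * g⁻¹ := by group
      _ = g * (g⁻¹ * c * g)⁻¹ * g⁻¹ := by rw [h]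
      _ = c⁻¹ := by group
  have hroot : ∀ c ∈ Z, ∃ e ∈ Z, e * e = c := by
    intro c hc
    have hcop : (Nat.card Z).Coprime 2 := Nat.coprime_two_right.mpr hoddZ
    refine ⟨_, ((powCoprime hcop).symm ⟨c, hc⟩).2, ?_⟩
    have := congrArg Subtype.val ((powCoprime hcop).apply_symm_apply ⟨c, hc⟩)
    rw [powCoprime_apply, sq] at this
    exact this
  have hmem : ∀ g : G, g * d * g⁻¹ ∈ conjugatesOf d := fun g => isConj_iff.mpr ⟨g, rfl⟩
  let v : G → conjugatesOf d := fun g => ⟨g * d * g⁻¹, hmem g⟩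
  -- conjugation preserves reachability
  have hadj : ∀ (g : G) (a b : conjugatesOf d), (Cfsg.commutingGraph (conjugatesOf d)).Adj a b →
      (Cfsg.commutingGraph (conjugatesOf d)).Reachable
        ⟨g * a * g⁻¹, a.2.trans (isConj_iff.mpr ⟨g, rfl⟩)⟩ ⟨g * b * g⁻¹, b.2.trans (isConj_iff.mpr ⟨g, rfl⟩)⟩ := by
    intro g a b hab
    refine SimpleGraph.Adj.reachable ?_
    rw [commutingGraph, SimpleGraph.fromRel_adj] at hab ⊢
    refine ⟨fun h => hab.1 (Subtype.ext (by simpa using congrArg Subtype.val h)), ?_⟩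
    rcases hab.2 with h | h
    · exact Or.inl ((Commute.conj_iff g).mpr h)
    · exact Or.inr ((Commute.conj_iff g).mpr h)
  have hreach : ∀ (g : G) (a b : conjugatesOf d), (Cfsg.commutingGraph (conjugatesOf d)).Reachable a b →
      (Cfsg.commutingGraph (conjugatesOf d)).Reachable
        ⟨g * a * g⁻¹, a.2.trans (isConj_iff.mpr ⟨g, rfl⟩)⟩ ⟨g * b * g⁻¹, b.2.trans (isConj_iff.mpr ⟨g, rfl⟩)⟩ := by
    intro g a b hab
    obtain ⟨w⟩ := hab
    induction w with
    | nil => exact SimpleGraph.Reachable.refl _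
    | cons h _ ih => exact (hadj g _ _ h).trans ih
  let M : Subgroup G :=
    { carrier := {g | (Cfsg.commutingGraph (conjugatesOf d)).Reachable (v 1) (v g)}
      one_mem' := SimpleGraph.Reachable.refl _
      mul_mem' := by
        intro x y hx hy
        refine SimpleGraph.Reachable.trans hx ?_
        convert hreach x _ _ hy using 2 <;> simp [v, mul_assoc]
      inv_mem' := by
        intro x hx
        have h := (hreach x⁻¹ _ _ hx).symm
        convert h using 2 <;> simp [v, mul_assoc] }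
  -- lift paths from the quotient
  have hlift : ∀ x y : conjugatesOf (QuotientGroup.mk d : G ⧸ Z),
      (Cfsg.commutingGraph (conjugatesOf (QuotientGroup.mk d : G ⧸ Z))).Reachable x y →
      ∀ g : G, (QuotientGroup.mk (g * d * g⁻¹) : G ⧸ Z) = x.1 →
      ∃ g' : G, (QuotientGroup.mk (g' * d * g'⁻¹) : G ⧸ Z) = y.1 ∧
        (Cfsg.commutingGraph (conjugatesOf d)).Reachable (v g) (v g') := by
    intro x y hxy
    obtain ⟨w⟩ := hxy
    induction w with
    | nil => exact fun g hg => ⟨g, hg, SimpleGraph.Reachable.refl _⟩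
    | @cons x y z h _ ih =>
      intro g hg
      rw [commutingGraph, SimpleGraph.fromRel_adj] at h
      obtain ⟨u, hu⟩ := isConj_iff.mp y.2
      obtain ⟨g0, rfl⟩ := QuotientGroup.mk_surjective u
      have hy : (QuotientGroup.mk (g0 * d * g0⁻¹) : G ⧸ Z) = y.1 := by rw [← hu]; rfl
      have hc : Commute (QuotientGroup.mk (g * d * g⁻¹) : G ⧸ Z) (QuotientGroup.mk (g0 * d * g0⁻¹)) := by
        rw [hg, hy]
        rcases h.2 with h' | h'
        · exact h'
        · exact h'.symm
      have hne : (QuotientGroup.mk (g * d * g⁻¹) : G ⧸ Z) ≠ QuotientGroup.mk (g0 * d * g0⁻¹) := by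
        rw [hg, hy]
        exact fun e => h.1 (Subtype.ext e)
      set a := g * d * g⁻¹ with ha
      set b := g0 * d * g0⁻¹ with hb
      have hd2 : d * d = 1 := by rw [← sq, ← hd]; exact pow_orderOf_eq_one d
      have ha2 : a * a = 1 := by
        rw [ha]
        calc g * d * g⁻¹ * (g * d * g⁻¹) = g * (d * d) * g⁻¹ := by group
          _ = 1 := by rw [hd2]; group
      have hb2 : b * b = 1 := by
        rw [hb]
        calc g0 * d * g0⁻¹ * (g0 * d * g0⁻¹) = g0 * (d * d) * g0⁻¹ := by group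
          _ = 1 := by rw [hd2]; group
      have he : a * b * a⁻¹ * b⁻¹ ∈ Z := by
        rw [← QuotientGroup.eq_one_iff]
        simp only [QuotientGroup.mk_mul, QuotientGroup.mk_inv, hc.eq]
        group
      obtain ⟨e2, he2, he2'⟩ := hroot _ he
      obtain ⟨t, ht, ht'⟩ := hroot _ he2
      have hcent : ∀ {p q : G}, p ∈ Z → q ∈ Z → p * q = q * p := by
        rintro _ _ ⟨p, hp, rfl⟩ ⟨q, -, rfl⟩
        exact congrArg Subtype.val (Subgroup.mem_center_iff.mp hp q).symm
      -- the lift of `y` commuting with `a` is `t * b * t⁻¹`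
      have hbt : t * b * t⁻¹ = e2 * b := by
        have hbtb : b * t⁻¹ = t * b := by
          have := hinv' g0 t⁻¹ (inv_mem ht)
          rw [← hb, inv_inv] at this
          exact mul_inv_eq_iff_eq_mul.mp this
        rw [mul_assoc, hbtb, ← mul_assoc, ht']
      have hcomm : a * (e2 * b) = e2 * b * a := by
        have h1 : a * e2 = e2⁻¹ * a := by
          have := hinv' g e2 he2
          rw [← ha] at this
          exact mul_inv_eq_iff_eq_mul.mp this
        calc a * (e2 * b) = e2⁻¹ * ((a * b * a⁻¹ * b⁻¹) * b * a) := by rw [← mul_assoc, h1]; group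
          _ = e2⁻¹ * (e2 * e2 * b * a) := by rw [he2']
          _ = e2 * b * a := by group
      have htb : (QuotientGroup.mk t : G ⧸ Z) = 1 := (QuotientGroup.eq_one_iff t).mpr ht
      have hmk : (QuotientGroup.mk (t * g0 * d * (t * g0)⁻¹) : G ⧸ Z) = y.1 := by
        rw [← hy, hb, show t * g0 * d * (t * g0)⁻¹ = t * (g0 * d * g0⁻¹) * t⁻¹ by group]
        simp only [QuotientGroup.mk_mul, QuotientGroup.mk_inv, htb, one_mul, inv_one, mul_one]
      obtain ⟨g', hg', hr⟩ := ih (t * g0) hmk
      refine ⟨g', hg', SimpleGraph.Reachable.trans (SimpleGraph.Adj.reachable ?_) hr⟩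
      rw [commutingGraph, SimpleGraph.fromRel_adj]
      have e : t * g0 * d * (t * g0)⁻¹ = t * b * t⁻¹ := by rw [hb]; group
      refine ⟨fun hh => hne ?_, Or.inl ?_⟩
      · have hh' : a = t * g0 * d * (t * g0)⁻¹ := congrArg Subtype.val hh
        rw [hh', hmk, ← hy]
      · show a * (t * g0 * d * (t * g0)⁻¹) = (t * g0 * d * (t * g0)⁻¹) * a
        rw [e, hbt, hcomm]
  -- every element lies in `Z * M`
  have hZM : ∀ g : G, ∃ s ∈ Z, s * g ∈ M := by
    intro g
    have hm : ∀ k : G, (QuotientGroup.mk (k * d * k⁻¹) : G ⧸ Z) ∈ conjugatesOf (QuotientGroup.mk d : G ⧸ Z) :=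
      fun k => isConj_iff.mpr ⟨QuotientGroup.mk k, rfl⟩
    obtain ⟨g', hg', hr⟩ := hlift ⟨_, hm 1⟩ ⟨_, hm g⟩ (hconn.preconnected _ _) 1 rfl
    have hdiff : (g' * d * g'⁻¹) * (g * d * g⁻¹)⁻¹ ∈ Z := by
      rw [← QuotientGroup.eq_one_iff]
      simp only [QuotientGroup.mk_mul, QuotientGroup.mk_inv] at hg' ⊢
      rw [hg', mul_inv_cancel]
    obtain ⟨t, ht, ht'⟩ := hroot _ hdiff
    refine ⟨t, ht, ?_⟩
    have h1 : (g * d * g⁻¹) * t⁻¹ = t * (g * d * g⁻¹) := by
      have := hinv' g t⁻¹ (inv_mem ht)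
      rw [inv_inv] at this
      exact mul_inv_eq_iff_eq_mul.mp this
    have e : t * g * d * (t * g)⁻¹ = g' * d * g'⁻¹ := by
      rw [show t * g * d * (t * g)⁻¹ = t * ((g * d * g⁻¹) * t⁻¹) by group, h1, ← mul_assoc, ht', inv_mul_cancel_right]
    show (Cfsg.commutingGraph (conjugatesOf d)).Reachable (v 1) (v (t * g))
    rw [show v (t * g) = v g' from Subtype.ext e]
    exact hr
  have hLM : L ≤ M := by
    intro x hx
    have hx' : (⟨x, hx⟩ : L) ∈ commutator L := by rw [hL.1.commutator_eq_top]; exact Subgroup.mem_top _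
    have hle : commutator L ≤ M.comap L.subtype := by
      rw [commutator_def, Subgroup.commutator_le]
      intro p _ q _
      obtain ⟨s, hs, hsM⟩ := hZM p
      obtain ⟨s', hs', hs'M⟩ := hZM q
      obtain ⟨c, hc, rfl⟩ := hs
      obtain ⟨c', hc', rfl⟩ := hs'
      have e : ⁅c * p, c' * q⁆ = ⁅p, q⁆ := by
        have k1 : ∀ y : L, y * c = c * y := Subgroup.mem_center_iff.mp hc
        have k2 : ∀ y : L, y * c' = c' * y := Subgroup.mem_center_iff.mp hc'
        simp only [commutatorElement_def, mul_inv_rev]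
        calc c * p * (c' * q) * (p⁻¹ * c⁻¹) * (q⁻¹ * c'⁻¹)
            = c * (p * c') * q * p⁻¹ * c⁻¹ * q⁻¹ * c'⁻¹ := by group
          _ = c * (c' * p) * q * p⁻¹ * c⁻¹ * q⁻¹ * c'⁻¹ := by rw [k2 p]
          _ = c * c' * (p * q * p⁻¹) * c⁻¹ * q⁻¹ * c'⁻¹ := by group
          _ = c' * (c * (p * q * p⁻¹)) * c⁻¹ * q⁻¹ * c'⁻¹ := by rw [← k1 c']; group
          _ = c' * ((p * q * p⁻¹) * c) * c⁻¹ * q⁻¹ * c'⁻¹ := by rw [k1 (p * q * p⁻¹)]
          _ = c' * (p * q * p⁻¹ * q⁻¹) * c'⁻¹ := by group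
          _ = p * q * p⁻¹ * q⁻¹ := by rw [← k2 (p * q * p⁻¹ * q⁻¹)]; group
      rw [← e, Subgroup.mem_comap, map_commutatorElement]
      simp only [map_mul, commutatorElement_def]
      exact mul_mem (mul_mem (mul_mem hsM hs'M) (inv_mem hsM)) (inv_mem hs'M)
    exact hle hx'
  have hdM : d ∈ M := by
    show (Cfsg.commutingGraph (conjugatesOf d)).Reachable (v 1) (v d)
    rw [show v d = v 1 from Subtype.ext (by simp [v])]
  have htop : M = ⊤ := top_unique (hgen ▸ sup_le hLM (Subgroup.zpowers_le.mpr hdM))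
  have hall : ∀ a : conjugatesOf d, (Cfsg.commutingGraph (conjugatesOf d)).Reachable (v 1) a := by
    intro a
    obtain ⟨c, hc⟩ := isConj_iff.mp a.2
    have : c ∈ M := htop ▸ Subgroup.mem_top c
    rw [show a = v c from Subtype.ext hc.symm]
    exact this
  exact { preconnected := fun a b => (hall a).symm.trans (hall b), nonempty := ⟨v 1⟩ }

end Cfsg.Agent.S5459
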