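import Cfsg.Statements.S5462
import Cfsg.Agent.Lib.ThreeTrans.Tower.BasePairs
import Cfsg.Agent.Lib.ThreeTrans.Tower.UniqueTypes

set_option autoImplicit false
open Cfsg

namespace Cfsg.Agent.S5462
open CfsgLib.ThreeTrans CfsgLib.ThreeTrans.Tower

theorem card_even_of_involution {α : Type*} (s : Finset α) (f : α → α) (hmem : ∀ a ∈ s, f a ∈ s)
    (hinv : ∀ a ∈ s, f (f a) = a) (hne : ∀ a ∈ s, f a ≠ a) : Even s.card := by
  have h : ∑ _a ∈ s, (1 : ZMod 2) = 0 :=
    Finset.sum_involution (fun a _ => f a) (fun _ _ => by decide) (fun a ha _ => hne a ha) hmem hinv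
  simp at h
  exact ZMod.natCast_eq_zero_iff_even.1 h

/-- Let G be a finite group with trivial centre generated by a conjugation-invariant set D of 3-transpositions on which it acts primitively, such that for some d in D the subgroup generated by the members of D other than d commuting with d has central largest normal 2- and 3-subgroups, and suppose G with D is of type M(22). Then every automorphism of G of order 2 fixes some member of D. -/
theorem result {G : Type*} [Group G] [Finite G] {D : Set G} (hD : Cfsg.IsThreeTranspositionGroup D) (hprim : Cfsg.IsPrimitiveUnderConj D) (d₀ : G) (hd₀ : d₀ ∈ D) (h3 : Cfsg.pCore 3 ↥(Subgroup.closure {y : G | y ∈ D ∧ y ≠ d₀ ∧ Commute d₀ y}) ≤ Subgroup.center ↥(Subgroup.closure {y : G | y ∈ D ∧ y ≠ d₀ ∧ Commute d₀ y})) (h2 : Cfsg.pCore 2 ↥(Subgroup.closure {y : G | y ∈ D ∧ y ≠ d₀ ∧ Commute d₀ y}) ≤ Subgroup.center ↥(Subgroup.closure {y : G | y ∈ D ∧ y ≠ d₀ ∧ Commute d₀ y})) (h22 : Cfsg.IsOfTypeM22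 G D) (φ : MulAut G) (hφ : orderOf φ = 2) : ∃ d ∈ D, φ d = d := by
  classical
  obtain ⟨F, _, _, K⟩ := exists_data22 hD hprim h22
  have hU := unique22 hD hprim h22
  have hs : Cfsg.IsThreeTranspositionSet D := hD.1
  have hφ2 : ∀ x, φ (φ x) = x := fun x => by
    have h : φ * φ = 1 := by rw [← sq, ← hφ, pow_orderOf_eq_one]
    have := congrArg (fun ψ : MulAut G => ψ x) h
    simpa using this
  have hcom : ∀ {x y : G}, Commute x y → Commute (φ x) (φ y) := fun h => h.map φ.toMonoidHom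
  have hcom' : ∀ {x y : G}, Commute (φ x) y → Commute x (φ y) := fun {x y} h => by
    have := hcom h
    rwa [hφ2] at this
  have hmem : ∀ d ∈ D, φ d ∈ D := by
    intro d hd
    refine (hU (φ d) ⟨by rw [← map_mul, mul_self hs hd, map_one], fun g => ?_⟩).resolve_left fun h =>
      ne_one hs hd (φ.injective (h.trans (map_one φ).symm))
    obtain ⟨g, rfl⟩ := φ.surjective g
    rw [← map_inv, ← map_mul, ← map_mul, ← map_mul]
    rcases hs.2 d hd _ (hD.2.1 g d hd) with h | h <;> [left; right] <;> rw [← map_pow, h, map_one]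
  have hhex : ∀ a b c : G, φ '' hex D a b c = hex D (φ a) (φ b) (φ c) := by
    intro a b c
    ext y
    constructor
    · rintro ⟨x, hx, rfl⟩
      refine ⟨hmem x hx.1, fun z hz za zb zc => ?_⟩
      have := hcom (hx.2 (φ z) (hmem z hz) (by simpa [hφ2] using hcom za) (by simpa [hφ2] using hcom zb)
        (by simpa [hφ2] using hcom zc))
      rwa [hφ2] at this
    · intro hy
      refine ⟨φ y, ⟨hmem y hy.1, fun z hz za zb zc => ?_⟩, hφ2 y⟩
      have := hcom (hy.2 (φ z) (hmem z hz) (hcom za) (hcom zb) (hcom zc))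
      rwa [hφ2] at this
  by_contra hno
  push Not at hno
  have hcx : ∀ z ∈ D, Commute z (φ z) := fun z hz => by
    by_contra hn
    refine hno _ (conj_mem_left K.closed hz (hmem z hz)) ?_
    rw [map_mul, map_mul, hφ2]
    exact (braid hs hz (hmem z hz) hn).symm
  obtain ⟨d, hd, -⟩ := hprim.2.1
  set d' := φ d with hd'
  have hd'' : d' ∈ Dd D d := ⟨hmem d hd, hno d hd, hcx d hd⟩
  have nd : d ≠ d' := Ne.symm hd''.2.1
  set P := Dd D d ∩ Dd D d' with hP
  let rest : G → Set G := fun x => hex D d d' x \ {d, d'}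
  have hPdata : ∀ x ∈ P, (rest x).ncard = 4 ∧ x ∈ rest x ∧ rest x ⊆ P := by
    intro x hx
    obtain ⟨m1, m2, m3⟩ := Data22.mem_hex (D := D) hd hd''.1 hx.1.1
    have h2 : ({d, d'} : Set G).ncard = 2 := Set.ncard_pair nd
    have hsub : ({d, d'} : Set G) ⊆ hex D d d' x := Set.insert_subset m1 (Set.singleton_subset_iff.2 m2)
    refine ⟨?_, ⟨m3, ?_⟩, ?_⟩
    · rw [Set.ncard_sdiff hsub, K.ncard_hex hd hd''.1 hx.1.1 nd (Ne.symm hx.1.2.1) (Ne.symm hx.2.2.1) hd''.2.2
        hx.1.2.2 hx.2.2.2, h2]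
    · rintro (h | h)
      exacts [hx.1.2.1 h, hx.2.2.1 h]
    · rintro y ⟨hy, hy'⟩
      simp only [Set.mem_insert_iff, Set.mem_singleton_iff, not_or] at hy'
      exact ⟨⟨hy.1, hy'.1, (hy.2 d hd (Commute.refl d) hd''.2.2 hx.1.2.2).symm⟩,
        hy.1, hy'.2, (hy.2 d' hd''.1 hd''.2.2.symm (Commute.refl d') hx.2.2.2).symm⟩
  have hrest : ∀ x ∈ P, ∀ y ∈ rest x, rest y = rest x := by
    intro x hx y hy
    obtain ⟨-, -, -, -, -, -, rep⟩ := K.hex_spec hd hd''.1 hx.1.1 nd (Ne.symm hx.1.2.1) (Ne.symm hx.2.2.1)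
      hd''.2.2 hx.1.2.2 hx.2.2.2
    have hy' : y ≠ d ∧ y ≠ d' := by
      have := hy.2
      simpa only [Set.mem_insert_iff, Set.mem_singleton_iff, not_or] using this
    have e : hex D d d' y = hex D d d' x := Set.ext fun w =>
      ⟨fun hw => ⟨hw.1, fun z hz za zb zc => hw.2 z hz za zb (hy.1.2 z hz za zb zc).symm⟩,
        fun hw => ⟨hw.1, fun z hz za zb zc => hw.2 z hz za zb (rep y hy.1 hy'.1 hy'.2 z hz za zb zc)⟩⟩
    show hex D d d' y \ _ = hex D d d' x \ _
    rw [e]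
  -- a six through `d` and `φ d` fixed by `φ`
  obtain ⟨x₀, hx₀, hfix⟩ : ∃ x₀ ∈ P, φ '' hex D d d' x₀ = hex D d d' x₀ := by
    have hPc : P.ncard = 180 := K.loc.lam d hd d' hd''
    have h4 : P.ncard * 1 = (rest '' P).ncard * 4 := by
      refine count_eq P (rest '' P) (fun x r => rest x = r) (fun x hx => ?_) fun r hr => ?_
      · rw [show {r | r ∈ rest '' P ∧ rest x = r} = {rest x} from Set.ext fun r =>
          ⟨fun h => h.2.symm, fun h => ⟨h ▸ ⟨x, hx, rfl⟩, h.symm⟩⟩, Set.ncard_singleton]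
      · obtain ⟨x, hx, rfl⟩ := hr
        refine Eq.trans (congrArg Set.ncard (Set.ext fun y => ?_)) (hPdata x hx).1
        exact ⟨fun hy => hy.2 ▸ (hPdata y hy.1).2.1, fun hy => ⟨(hPdata x hx).2.2 hy, hrest x hx y hy⟩⟩
    have hodd : ¬ Even (Set.toFinite (rest '' P)).toFinset.card := by
      rw [← Set.ncard_eq_toFinset_card _ (Set.toFinite (rest '' P)), Nat.even_iff]
      omega
    have himg : ∀ x ∈ P, φ x ∈ P ∧ φ '' rest x = rest (φ x) := by
      intro x hx
      refine ⟨⟨⟨hmem x hx.1.1, fun h => hx.2.2.1 (φ.injective (h.trans (hφ2 d).symm)), ?_⟩, hmem x hx.1.1,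
        fun h => hx.1.2.1 (φ.injective h), ?_⟩, ?_⟩
      · have := hcom hx.2.2.2
        rwa [hd', hφ2] at this
      · exact hcom hx.1.2.2
      · show φ '' (hex D d d' x \ {d, d'}) = hex D d d' (φ x) \ {d, d'}
        rw [Set.image_sdiff φ.injective, hhex, Set.image_pair, hd', hφ2, Set.pair_comm]
        congr 1
        exact Set.ext fun w => ⟨fun hw => ⟨hw.1, fun z hz za zb zc => hw.2 z hz zb za zc⟩,
          fun hw => ⟨hw.1, fun z hz za zb zc => hw.2 z hz zb za zc⟩⟩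
    obtain ⟨r, hr, hfr⟩ : ∃ r ∈ rest '' P, φ '' r = r := by
      by_contra! h
      refine hodd (card_even_of_involution _ (fun r => φ '' r) (fun r hr => ?_) (fun r _ => ?_) fun r hr => ?_)
      · rw [Set.Finite.mem_toFinset] at hr ⊢
        obtain ⟨x, hx, rfl⟩ := hr
        exact ⟨φ x, (himg x hx).1, (himg x hx).2.symm⟩
      · show φ '' (φ '' r) = r
        rw [← Set.image_comp]
        exact (Set.image_congr fun x _ => hφ2 x).trans (Set.image_id r)
      · exact h r ((Set.Finite.mem_toFinset _).1 hr)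
    obtain ⟨x, hx, rfl⟩ := hr
    refine ⟨x, hx, ?_⟩
    obtain ⟨m1, m2, -⟩ := Data22.mem_hex (D := D) hd hd''.1 hx.1.1
    have e : hex D d d' x = rest x ∪ {d, d'} := (Set.sdiff_union_of_subset
      (Set.insert_subset m1 (Set.singleton_subset_iff.2 m2))).symm
    rw [e, Set.image_union, hfr, Set.image_pair, hd', hφ2, Set.pair_comm]
  -- a base fixed by `φ`
  have cdx := hx₀.1.2.2
  have cdx' := hx₀.2.2.2
  obtain ⟨w, hw, hwH⟩ : ∃ w ∈ {y | y ∈ D ∧ Commute y d ∧ Commute y d' ∧ Commute y x₀}, w ∉ hex D d d' x₀ := by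
    have h := K.ncard_outer hd hd''.1 hx₀.1.1 nd (Ne.symm hx₀.1.2.1) (Ne.symm hx₀.2.2.1) hd''.2.2 cdx cdx'
    obtain ⟨w, h1, h2⟩ := Set.nonempty_of_ncard_ne_zero (by rw [h]; norm_num)
    exact ⟨w, h1, h2⟩
  have hB := K.exists_base22 hd hd''.1 hx₀.1.1 nd (Ne.symm hx₀.1.2.1) (Ne.symm hx₀.2.2.1) hd''.2.2 cdx cdx'
    hw.1 hw.2.1 hw.2.2.1 hw.2.2.2 hwH
  set B := {y | y ∈ D ∧ Commute y d ∧ Commute y d' ∧ Commute y x₀ ∧ Commute y w}
  have hdB : d ∈ B := ⟨hd, Commute.refl d, hd''.2.2, cdx, hw.2.1.symm⟩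
  have hd'B : d' ∈ B := ⟨hd''.1, hd''.2.2.symm, Commute.refl d', cdx', hw.2.2.1.symm⟩
  have hxB : x₀ ∈ B := ⟨hx₀.1.1, cdx.symm, cdx'.symm, Commute.refl x₀, hw.2.2.2.symm⟩
  have hKB : hex D d d' x₀ ⊆ B := (K.six_in_base hB hdB hd'B hxB).1
  have hφxK : φ x₀ ∈ hex D d d' x₀ := hfix ▸ ⟨x₀, (Data22.mem_hex hd hd''.1 hx₀.1.1).2.2, rfl⟩
  have hφxB := hKB hφxK
  have hφwB : φ w ∈ B := ⟨hmem w hw.1, (by have := hcom hw.2.2.1; rwa [hd', hφ2] at this), hcom hw.2.1,
    (hcom' (hφxB.2.2.2.2)).symm, (hcx w hw.1).symm⟩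
  have hφB : ∀ y ∈ B, φ y ∈ B := fun y hy => ⟨hmem y hy.1, (by have := hcom hy.2.2.1; rwa [hd', hφ2] at this),
    hcom hy.2.1, by have := hcom (hB.comm y hy _ hφxB); rwa [hφ2] at this,
    by have := hcom (hB.comm y hy _ hφwB); rwa [hφ2] at this⟩
  -- a member commuting with nothing in it
  obtain ⟨e, he, hfar⟩ := K.exists_far_base hB
  obtain ⟨a, ha, b, hb, hab, hj⟩ := K.near_eq hB he hfar ⟨hmem e he, hno e he, hcx e he⟩ fun x hx h =>
    hfar (φ x) (hφB x hx) (hcom' h)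
  have hj' : φ a * φ b * e * (φ a * φ b) = φ e := by
    have h := congrArg φ hj
    rw [hφ2, map_mul, map_mul, map_mul] at h
    have h1 : φ a * φ b * (φ a * φ b) = 1 :=
      mul_sq_one (mul_self hs (hmem a (hB.sub ha))) (mul_self hs (hmem b (hB.sub hb))) (hcom (hB.comm a ha b hb))
    conv_lhs => rw [← h]
    calc φ a * φ b * (φ a * φ b * φ e * (φ a * φ b)) * (φ a * φ b)
        = φ a * φ b * (φ a * φ b) * φ e * (φ a * φ b * (φ a * φ b)) := by simp only [mul_assoc]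
      _ = φ e := by rw [h1, one_mul, mul_one]
  rcases K.pair_inj hB he hfar ha hb (hφB a ha) (hφB b hb) hab (fun h => hab (φ.injective h)) (hj.trans hj'.symm)
    with ⟨h, -⟩ | ⟨h, -⟩
  · exact hno a (hB.sub ha) h
  · refine hno (a * e * a) (conj_mem_left K.closed (hB.sub ha) he) ?_
    rw [map_mul, map_mul, h, ← hj, (hB.comm a ha b hb).eq]
    simp [mul_assoc, mul_self_mul hs (hB.sub hb), mul_self hs (hB.sub hb), (hB.comm a ha b hb).eq]

end Cfsg.Agent.S5462
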