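import Cfsg.Statements.S5465
import Cfsg.Agent.Lib.ThreeTrans.TypeTop.PairTwentyTwo
import Cfsg.Agent.Lib.ThreeTrans.Inst.FiTwentyTwoModel
import Cfsg.Agent.Lib.ThreeTrans.Uniq.AutTop22
import Cfsg.Agent.Lib.Components.FStar

set_option autoImplicit false
open Cfsg

namespace Cfsg.Agent.S5465

open CfsgLib.ThreeTrans CfsgLib.ThreeTrans.Tower CfsgLib.ThreeTrans.TypeTop
open scoped commutatorElement

theorem cj_comp {G : Type*} [Group G] (a b x : G) : a * b * x * (a * b)⁻¹ = a * (b * x * b⁻¹) * a⁻¹ := by group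

theorem cj_fix {G : Type*} [Group G] {g x : G} (h : Commute g x) : g * x * g⁻¹ = x := by
  rw [h.eq, mul_inv_cancel_right]

theorem cj_list {G : Type*} [Group G] (g : G) (l : List G) (h : ∀ y ∈ l, g * y * g⁻¹ = y) :
    g * l.prod * g⁻¹ = l.prod := by
  induction l with
  | nil => simp
  | cons a t ih =>
    rw [List.prod_cons, show g * (a * t.prod) * g⁻¹ = g * a * g⁻¹ * (g * t.prod * g⁻¹) by group,
      h a (by simp), ih fun y hy => h y (by simp [hy])]

theorem pair_factor {G : Type*} [Group G] {P : Set G} {K₀ : Subgroup G}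
    (h : ∀ y ∈ P, ∀ y' ∈ P, ∃ hm : y * y' ∈ K₀, (⟨y * y', hm⟩ : K₀) ∈ commutator K₀) :
    ∀ (l : List G), Even l.length → (∀ y ∈ l, y ∈ P) → ∃ hm : l.prod ∈ K₀, (⟨l.prod, hm⟩ : K₀) ∈ commutator K₀
  | [], _, _ => ⟨one_mem _, one_mem _⟩
  | [a], he, _ => absurd he (by simp)
  | a :: b :: t, he, hl => by
    obtain ⟨h1, h1'⟩ := h a (hl a (by simp)) b (hl b (by simp))
    obtain ⟨h2, h2'⟩ := pair_factor h t (by
      rw [List.length_cons, List.length_cons] at he
      simpa [Nat.even_add_one] using he) fun y hy => hl y (by simp [hy])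
    have e : (a :: b :: t).prod = a * b * t.prod := by simp [mul_assoc]
    refine ⟨e ▸ mul_mem h1 h2, ?_⟩
    convert mul_mem h1' h2' using 1
    exact Subtype.ext e

/-- Let G be a finite group with trivial centre generated by a conjugation-invariant set D of 3-transpositions on which it acts primitively, such that for some d in D the subgroup generated by the members of D other than d commuting with d has central largest normal 2- and 3-subgroups, and suppose G with D is of type M(24), and let L be the commutator subgroup of G. Let d₁, d₂ be distinct commuting members of D and j = d₁ d₂. Then K, the joint centralizer of d₁ and d₂ in L, is quasisimple, is the generalized Fitting subgroup of the centralizer of j in L, has index 2 in it and contains j, and the centralizer of j in L modulo the subgroup generated by j is isomorphic to the full automorphism group of the Fischer group Fi₂₂ (as presented). -/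
theorem result {G : Type*} [Group G] [Finite G] {D : Set G} (hD : Cfsg.IsThreeTranspositionGroup D) (hprim : Cfsg.IsPrimitiveUnderConj D) (d₀ : G) (hd₀ : d₀ ∈ D) (h3 : Cfsg.pCore 3 ↥(Subgroup.closure {y : G | y ∈ D ∧ y ≠ d₀ ∧ Commute d₀ y}) ≤ Subgroup.center ↥(Subgroup.closure {y : G | y ∈ D ∧ y ≠ d₀ ∧ Commute d₀ y})) (h2 : Cfsg.pCore 2 ↥(Subgroup.closure {y : G | y ∈ D ∧ y ≠ d₀ ∧ Commute d₀ y}) ≤ Subgroup.center ↥(Subgroup.closure {y : G | y ∈ D ∧ y ≠ d₀ ∧ Commute d₀ y})) (h24 : Cfsg.IsOfTypeM24 G D) (L : Subgroup G) (hL : L = commutator G) (d₁ d₂ : G) (h₁ : d₁ ∈ D) (h₂ : d₂ ∈ D) (hne : d₁ ≠ d₂) (hc : Commute d₁ d₂) (K CL : Subgroup G) (hK : K = L ⊓ Subgroup.centralizer ({d₁, d₂} : Set G)) (hCL : CL = L ⊓ Subgroup.centralizer ({d₁ * d₂} : Set G)) [hn : ((Subgroup.zpowers (d₁ * d₂)).subgroupOf CL).Normal] : Cfsg.IsQuasisimple ↥K ∧ K = (Cfsg.generalizedFittingSubgroup ↥CL).map CL.subtype ∧ K ≤ CL ∧ (K.subgroupOf CL).index = 2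 ∧ d₁ * d₂ ∈ K ∧ Nonempty (↥CL ⧸ (Subgroup.zpowers (d₁ * d₂)).subgroupOf CL ≃* MulAut Cfsg.Spor.Fi22) := by
  classical
  have hs : Cfsg.IsThreeTranspositionSet D := hD.1
  have hclosed := conjClosed_of_group hD
  have hnL : ∀ a ∈ D, a ∉ L := fun a ha => hL ▸ notMem_commutator24 hD hprim h24 ha
  have hsame : ∀ a ∈ D, ∀ b ∈ D, a * b ∈ L := fun a ha b hb => by
    obtain ⟨g, rfl⟩ := hprim.1 a ha b hb
    have h := Subgroup.commutator_mem_commutator (Subgroup.mem_top a) (Subgroup.mem_top g)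
    rw [← commutator_def, ← hL, commutatorElement_def, inv_eq hs ha] at h
    have e : a * (g * a * g⁻¹) = a * g * a * g⁻¹ := by group
    rwa [e]
  haveI hnorm : L.Normal := hL ▸ inferInstance
  have hdich : ∀ a ∈ D, ∀ g : G, g ∈ L ∨ g * a ∈ L := by
    intro a ha g
    have hg : g ∈ Subgroup.closure D := hD.2.2.symm ▸ Subgroup.mem_top g
    have haa := mul_self hs ha
    induction hg using Subgroup.closure_induction with
    | mem y hy => exact Or.inr (hsame y hy a ha)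
    | one => exact Or.inl (one_mem _)
    | mul p q _ _ hp hq =>
      rcases hp with hp | hp <;> rcases hq with hq | hq
      · exact Or.inl (mul_mem hp hq)
      · exact Or.inr (by rw [mul_assoc]; exact mul_mem hp hq)
      · refine Or.inr ?_
        have := mul_mem hp (hnorm.conj_mem q hq a)
        rwa [inv_eq hs ha, show p * a * (a * q * a) = p * (a * a) * q * a by simp [mul_assoc], haa, mul_one] at this
      · refine Or.inl ?_
        have := mul_mem hp (hnorm.conj_mem (q * a) hq a)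
        rwa [inv_eq hs ha, show p * a * (a * (q * a) * a) = p * (a * a) * q * (a * a) by simp [mul_assoc], haa,
          mul_one, mul_one] at this
    | inv p _ hp =>
      rcases hp with hp | hp
      · exact Or.inl (inv_mem hp)
      · refine Or.inr ?_
        have := hnorm.conj_mem _ (inv_mem hp) a
        rwa [mul_inv_rev, inv_eq hs ha, show a * (a * p⁻¹) * a = (a * a) * p⁻¹ * a by simp [mul_assoc], haa, one_mul]
          at this
  have hd₂ : d₂ ∈ Dd D d₁ := ⟨h₂, Ne.symm hne, hc⟩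
  set C₂ := Subgroup.centralizer ({d₁, d₂} : Set G) with hC₂
  set V := Subgroup.closure ({d₁, d₂} : Set G) with hV
  set P := Dd D d₁ ∩ Dd D d₂ with hP
  obtain ⟨Y, _, _, E, hE, hEp, hE22, ρ, hρ, hρker, hρinj, htrans⟩ := exists_pair_map hD hprim h24 h₁ hd₂
  haveI hsimp : IsSimpleGroup Y := (main22 hE hEp hE22).1
  have hYc : Subgroup.center Y = ⊥ := hE22.1
  obtain ⟨d₃, hd₃⟩ := exists_third24 hD hprim h24 h₁ hd₂
  obtain ⟨F, _, _, -, -, -, -, -, -, l₁, hl₁, hl₁P, hl₁prod⟩ := exists_triple_map hD hprim h24 h₁ hd₂ hd₃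
  set j := d₁ * d₂ with hj
  have hl₁P' : ∀ y ∈ l₁, y ∈ P := fun y hy => ⟨(hl₁P y hy).1, (hl₁P y hy).2.1⟩
  have m1 : d₁ ∈ C₂ := mem_centralizer_two.2 ⟨Commute.refl _, hc⟩
  have m2 : d₂ ∈ C₂ := mem_centralizer_two.2 ⟨hc.symm, Commute.refl _⟩
  have hPC : ∀ y ∈ P, y ∈ C₂ := fun y hy => mem_centralizer_two.2 ⟨hy.1.2.2.symm, hy.2.2.2.symm⟩
  have hz1 : ρ ⟨d₁, m1⟩ = 1 := (hρker ⟨d₁, m1⟩).2 (Subgroup.subset_closure (by simp : d₁ ∈ ({d₁, d₂} : Set G)))
  set Z := Subgroup.zpowers j with hZ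
  have hjL : j ∈ L := hsame _ h₁ _ h₂
  have hZL : Z ≤ L := by rw [hZ, Subgroup.zpowers_le]; exact hjL
  have hZV : Z ≤ V := by
    rw [hZ, Subgroup.zpowers_le]
    exact mul_mem (Subgroup.subset_closure (by simp)) (Subgroup.subset_closure (by simp))
  have hVC : V ≤ C₂ := by rw [hV, Subgroup.closure_le]; rintro x (rfl | rfl); exacts [m1, m2]
  have hVsplit : ∀ v ∈ V, v ∈ Z ∨ v * d₁ ∈ Z := by
    have h11 : d₁ * d₁ = 1 := mul_self hs h₁
    intro v hv
    induction hv using Subgroup.closure_induction with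
    | mem y hy =>
      rcases hy with rfl | rfl
      · exact Or.inr (h11.symm ▸ one_mem Z)
      · exact Or.inr (by rw [← hc.eq]; exact Subgroup.mem_zpowers j)
    | one => exact Or.inl (one_mem _)
    | mul p q hp' hq' hp hq =>
      have hq1 : Commute q d₁ := (mem_centralizer_two.1 (hVC hq')).1
      rcases hp with hp | hp <;> rcases hq with hq | hq
      · exact Or.inl (mul_mem hp hq)
      · exact Or.inr (by rw [mul_assoc]; exact mul_mem hp hq)
      · refine Or.inr ?_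
        rw [mul_assoc, hq1.eq, ← mul_assoc]
        exact mul_mem hp hq
      · refine Or.inl ?_
        have := mul_mem hp hq
        rwa [mul_assoc, ← mul_assoc d₁ q, ← hq1.eq, mul_assoc q, h11, mul_one] at this
    | inv p hp' hp =>
      rcases hp with hp | hp
      · exact Or.inl (inv_mem hp)
      · refine Or.inr ?_
        have := inv_mem hp
        rwa [mul_inv_rev, inv_eq hs h₁, ← (mem_centralizer_two.1 (hVC hp')).1.inv_left.eq] at this
  have hZeq : ∀ v ∈ V, v ∈ L → v ∈ Z := fun v hv hvL => (hVsplit v hv).resolve_right fun h =>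
    hnL d₁ h₁ (by
      have := mul_mem (inv_mem hvL) (hZL h)
      rwa [inv_mul_cancel_left] at this)
  set K₀ := L ⊓ C₂ with hK₀
  have hZK₀ : Z ≤ K₀ := le_inf hZL (hZV.trans hVC)
  let ρ₀ : K₀ →* Y := ρ.comp (Subgroup.inclusion inf_le_right)
  have hρ₀ : Function.Surjective ρ₀ := fun t => by
    obtain ⟨g, rfl⟩ := hρ t
    rcases hdich d₁ h₁ g with h | h
    · exact ⟨⟨g, h, g.2⟩, rfl⟩
    · refine ⟨⟨g * d₁, h, mul_mem g.2 m1⟩, ?_⟩
      show ρ (g * ⟨d₁, m1⟩) = ρ g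
      rw [map_mul, hz1, mul_one]
  have hker₀ : ∀ x : K₀, ρ₀ x = 1 ↔ (x : G) ∈ Z := fun x =>
    ⟨fun h => hZeq _ ((hρker _).1 h) x.2.1, fun h => (hρker _).2 (hZV h)⟩
  have hcen₀ : ∀ x : K₀, x ∈ Subgroup.center K₀ ↔ (x : G) ∈ Z := by
    intro x
    constructor
    · intro hx
      refine (hker₀ x).1 ?_
      have : ρ₀ x ∈ Subgroup.center Y := Subgroup.mem_center_iff.2 fun t => by
        obtain ⟨k, rfl⟩ := hρ₀ t
        rw [← map_mul, ← map_mul, Subgroup.mem_center_iff.1 hx k]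
      rwa [hYc, Subgroup.mem_bot] at this
    · intro hx
      refine Subgroup.mem_center_iff.2 fun k => Subtype.ext ?_
      show Commute (k : G) x
      obtain ⟨n, hn'⟩ := Subgroup.mem_zpowers_iff.1 hx
      rw [← hn']
      obtain ⟨k1, k2⟩ := mem_centralizer_two.1 k.2.2
      exact (k1.mul_right k2).zpow_right n
  have hkereq : ρ₀.ker = Subgroup.center K₀ := by
    ext x; rw [MonoidHom.mem_ker, hker₀, hcen₀]
  let iso₀ : K₀ ⧸ Subgroup.center K₀ ≃* Y :=
    (QuotientGroup.quotientMulEquivOfEq hkereq.symm).trans (QuotientGroup.quotientKerEquivOfSurjective ρ₀ hρ₀)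
  have hpair : ∀ y ∈ P, ∀ y' ∈ P, ∃ hm : y * y' ∈ K₀, (⟨y * y', hm⟩ : K₀) ∈ commutator K₀ := by
    intro y hy y' hy'
    refine ⟨⟨hsame _ hy.1.1 _ hy'.1.1, mul_mem (hPC y hy) (hPC y' hy')⟩, ?_⟩
    obtain ⟨k, hk, hky⟩ := htrans y hy y' hy'
    obtain ⟨k₀, hk₀, hky₀⟩ : ∃ k₀ ∈ K₀, k₀ * y * k₀⁻¹ = y' := by
      rcases hdich d₁ h₁ k with h | h
      · exact ⟨k, ⟨h, hk⟩, hky⟩
      · exact ⟨k * d₁, ⟨h, mul_mem hk m1⟩, by rw [cj_comp, cj_fix hy.1.2.2, hky]⟩
    let u : K₀ := ⟨y * d₁, hsame _ hy.1.1 _ h₁, mul_mem (hPC y hy) m1⟩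
    let w : K₀ := ⟨k₀, hk₀⟩
    have hmem : ⁅u, w⁆ ∈ commutator K₀ := Subgroup.commutator_mem_commutator (Subgroup.mem_top u) (Subgroup.mem_top w)
    convert hmem using 1
    refine Subtype.ext ?_
    show y * y' = ((⁅u, w⁆ : K₀) : G)
    rw [commutatorElement_def]
    show y * y' = y * d₁ * k₀ * (y * d₁)⁻¹ * k₀⁻¹
    have hkd : Commute k₀ d₁ := (mem_centralizer_two.1 hk₀.2).1
    rw [mul_inv_rev, inv_eq hs h₁, inv_eq hs hy.1.1, ← hky₀,
      show y * d₁ * k₀ * (d₁ * y) * k₀⁻¹ = y * (d₁ * k₀ * d₁) * y * k₀⁻¹ by simp [mul_assoc], ← hkd.eq,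
      mul_assoc k₀ d₁ d₁, mul_self hs h₁, mul_one]
    simp [mul_assoc]
  have hperf : commutator K₀ = ⊤ := by
    obtain ⟨hjK, hjc⟩ := pair_factor hpair l₁ (by rw [hl₁]; exact ⟨3, rfl⟩) hl₁P'
    have hcenN : ρ₀.ker ≤ commutator K₀ := fun x hx => by
      obtain ⟨n, hn'⟩ := Subgroup.mem_zpowers_iff.1 ((hker₀ x).1 hx)
      have := zpow_mem hjc n
      convert this using 1
      refine Subtype.ext ?_
      simp only [SubgroupClass.coe_zpow]
      rw [hl₁prod]
      exact hn'.symm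
    have hmap : (commutator K₀).map ρ₀ = ⊤ := by
      rw [commutator_def, Subgroup.map_commutator, Subgroup.map_top_of_surjective ρ₀ hρ₀, ← commutator_def]
      rcases (Subgroup.commutator_normal (⊤ : Subgroup Y) ⊤).eq_bot_or_eq_top with h | h
      · exfalso
        obtain ⟨t, ht⟩ := exists_ne (1 : Y)
        refine ht (Subgroup.mem_bot.1 (hYc ▸ Subgroup.mem_center_iff.2 fun s => ?_))
        exact commutatorElement_eq_one_iff_mul_comm.1 (Subgroup.mem_bot.1
          (h ▸ Subgroup.commutator_mem_commutator (Subgroup.mem_top s) (Subgroup.mem_top t)))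
      · exact h
    rw [← Subgroup.comap_map_eq_self hcenN, hmap, Subgroup.comap_top]
  have hqs : Cfsg.IsQuasisimple K₀ := ⟨⟨hperf⟩, iso₀.isSimpleGroup⟩
  -- the centraliser of the product
  have hCL' : ∀ g, g ∈ CL ↔ g ∈ L ∧ Commute g j := fun g => by
    rw [hCL, Subgroup.mem_inf, Subgroup.mem_centralizer_singleton_iff]; rfl
  have hK₀CL : K₀ ≤ CL := fun g hg => (hCL' g).2 ⟨hg.1,
    (mem_centralizer_two.1 hg.2).1.mul_right (mem_centralizer_two.1 hg.2).2⟩
  have hZCL : Z ≤ CL := hZK₀.trans hK₀CL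
  have hrel := noRel24 hD hprim h24
  have hperm : ∀ g : G, Commute g j → (g * d₁ * g⁻¹ = d₁ ∧ g * d₂ * g⁻¹ = d₂) ∨
      (g * d₁ * g⁻¹ = d₂ ∧ g * d₂ * g⁻¹ = d₁) := fun g hg =>
    CfsgLib.ThreeTrans.pair_unique hs (hrel 4 (by norm_num) (by norm_num)) h₁ h₂
      (hclosed.conj g _ h₁) (hclosed.conj g _ h₂) hne (fun e => hne (mul_left_cancel (mul_right_cancel e)))
      hc ((commute_conj_iff _ _ _).2 hc) (by
        rw [show g * d₁ * g⁻¹ * (g * d₂ * g⁻¹) = g * (d₁ * d₂) * g⁻¹ by group]; exact (cj_fix hg).symm)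
  have hfix : ∀ g, g ∈ CL → g * d₁ * g⁻¹ = d₁ → g ∈ K₀ := fun g hg hg1 => by
    obtain ⟨hgL, hgj⟩ := (hCL' g).1 hg
    refine ⟨hgL, mem_centralizer_two.2 ⟨mul_inv_eq_iff_eq_mul.1 hg1, ?_⟩⟩
    rcases hperm g hgj with ⟨-, e⟩ | ⟨e, -⟩
    · exact mul_inv_eq_iff_eq_mul.1 e
    · exact absurd (hg1.symm.trans e) hne
  -- the swap
  obtain ⟨s, hsCL, hs1, hs2⟩ : ∃ s : G, s ∈ CL ∧ s * d₁ * s⁻¹ = d₂ ∧ s * d₂ * s⁻¹ = d₁ := by
    obtain ⟨g, g1, g2⟩ := exists_swap24 hD hprim h24 h₁ hd₂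
    have hgj : Commute g j := mul_inv_eq_iff_eq_mul.1 (by
      rw [hj, show g * (d₁ * d₂) * g⁻¹ = g * d₁ * g⁻¹ * (g * d₂ * g⁻¹) by group, g1, g2, hc.eq])
    rcases hdich d₁ h₁ g with h | h
    · exact ⟨g, (hCL' g).2 ⟨h, hgj⟩, g1, g2⟩
    · refine ⟨g * d₁, (hCL' _).2 ⟨h, hgj.mul_left ((Commute.refl d₁).mul_right hc)⟩, ?_, ?_⟩
      · rw [cj_comp, cj_fix (Commute.refl d₁), g1]
      · rw [cj_comp, cj_fix hc, g2]
  have hidx : (K₀.subgroupOf CL).index = 2 := by
    rw [Subgroup.index_eq_two_iff]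
    refine ⟨⟨s, hsCL⟩, fun b => ?_⟩
    simp only [Subgroup.mem_subgroupOf, Subgroup.coe_mul]
    obtain ⟨-, hbj⟩ := (hCL' b).1 b.2
    rcases hperm b hbj with ⟨e1, e2⟩ | ⟨e1, e2⟩
    · refine Or.inr ⟨hfix b b.2 e1, fun h => hne ?_⟩
      have := cj_fix (mem_centralizer_two.1 h.2).1
      rw [cj_comp, hs1, e2] at this
      exact this.symm
    · refine Or.inl ⟨hfix _ (mul_mem b.2 hsCL) (by rw [cj_comp, hs1, e2]), fun h => hne ?_⟩
      exact ((cj_fix (mem_centralizer_two.1 h.2).1).symm.trans e1)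
  -- the action on the group of type M(22)
  have hnK₀ : ∀ c : CL, ∀ k ∈ K₀, (c : G) * k * (c : G)⁻¹ ∈ K₀ := fun c k hk =>
    ((Subgroup.normal_of_index_eq_two hidx).conj_mem ⟨k, hK₀CL hk⟩ hk c : _)
  let κ : CL → K₀ →* K₀ := fun c => ((MulAut.conj (c : G)).toMonoidHom.comp K₀.subtype).codRestrict K₀
    fun k => hnK₀ c k k.2
  have hκ : ∀ (c : CL) (k : K₀), (κ c k : G) = c * k * (c : G)⁻¹ := fun _ _ => rfl
  have hκmul : ∀ (c c' : CL) (k : K₀), κ (c * c') k = κ c (κ c' k) := fun c c' k => Subtype.ext (by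
    rw [hκ, hκ, hκ, Subgroup.coe_mul, cj_comp])
  have hκone : ∀ k : K₀, κ 1 k = k := fun k => Subtype.ext (by rw [hκ]; simp)
  have hZfix : ∀ c : CL, ∀ x ∈ Z, (c : G) * x * (c : G)⁻¹ = x := by
    intro c x hx
    obtain ⟨n, rfl⟩ := Subgroup.mem_zpowers_iff.1 hx
    exact cj_fix (((hCL' c).1 c.2).2.zpow_right n)
  have hkerle : ∀ c : CL, ρ₀.ker ≤ (ρ₀.comp (κ c)).ker := fun c x hx =>
    (hker₀ (κ c x)).2 (by rw [hκ, hZfix c _ ((hker₀ x).1 hx)]; exact (hker₀ x).1 hx)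
  let α : CL → Y →* Y := fun c => ρ₀.liftOfSurjective hρ₀ ⟨ρ₀.comp (κ c), hkerle c⟩
  have hα : ∀ (c : CL) (k : K₀), α c (ρ₀ k) = ρ₀ (κ c k) := fun c k =>
    MonoidHom.liftOfRightInverse_comp_apply _ _ _ _ k
  have hαinv : ∀ (c : CL) p, α c (α c⁻¹ p) = p := fun c p => by
    obtain ⟨k, rfl⟩ := hρ₀ p
    rw [hα, hα, ← hκmul, mul_inv_cancel, hκone]
  let A : CL → MulAut Y := fun c =>
    MonoidHom.toMulEquiv (α c) (α c⁻¹)
      (MonoidHom.ext fun p => by
        rw [MonoidHom.comp_apply, MonoidHom.id_apply]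
        conv_lhs => arg 2; arg 1; rw [← inv_inv c]
        exact hαinv c⁻¹ p)
      (MonoidHom.ext fun p => hαinv c p)
  let Φ : CL →* MulAut Y := MonoidHom.mk' A fun c c' => MulEquiv.ext fun p => by
    obtain ⟨k, rfl⟩ := hρ₀ p
    show α (c * c') (ρ₀ k) = α c (α c' (ρ₀ k))
    rw [hα, hα, hα, hκmul]
  have hΦker : Φ.ker = Z.subgroupOf CL := by
    ext c
    rw [MonoidHom.mem_ker, Subgroup.mem_subgroupOf]
    constructor
    · intro hc1
      have hck : ∀ k : K₀, ρ₀ (κ c k) = ρ₀ k := fun k => (hα c k).symm.trans (DFunLike.congr_fun hc1 (ρ₀ k))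
      obtain ⟨hcL, hcj⟩ := (hCL' c).1 c.2
      have hfixP : ∀ y ∈ P, (c : G) * y * (c : G)⁻¹ = y := by
        intro y hy
        let k : K₀ := ⟨y * d₁, hsame _ hy.1.1 _ h₁, mul_mem (hPC y hy) m1⟩
        have himg : ∀ i, y ∈ Dd D i → (c : G) * y * (c : G)⁻¹ ∈ Dd D ((c : G) * i * (c : G)⁻¹) := fun i hi =>
          conj_mem_Dd_conj hclosed _ hi
        obtain ⟨hy', hcd⟩ : (c : G) * y * (c : G)⁻¹ ∈ P ∧ (c : G) * d₁ * (c : G)⁻¹ ∈ ({d₁, d₂} : Set G) := by
          have i1 := himg d₁ hy.1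
          have i2 := himg d₂ hy.2
          rcases hperm c hcj with ⟨e1, e2⟩ | ⟨e1, e2⟩
          · rw [e1] at i1; rw [e2] at i2
            exact ⟨⟨i1, i2⟩, Or.inl e1⟩
          · rw [e1] at i1; rw [e2] at i2
            exact ⟨⟨i2, i1⟩, Or.inr e1⟩
        have hcdC : (c : G) * d₁ * (c : G)⁻¹ ∈ C₂ := hVC (Subgroup.subset_closure hcd)
        have hcd1 : ρ ⟨_, hcdC⟩ = 1 := (hρker _).2 (Subgroup.subset_closure hcd)
        refine hρinj ⟨_, hPC _ hy'⟩ ⟨y, hPC y hy⟩ hy' hy ?_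
        have h := hck k
        rw [show ρ₀ (κ c k) = ρ (⟨_, hPC _ hy'⟩ * ⟨_, hcdC⟩) from congrArg ρ (Subtype.ext (by
            show (c : G) * (y * d₁) * (c : G)⁻¹ = (c : G) * y * (c : G)⁻¹ * ((c : G) * d₁ * (c : G)⁻¹)
            group)),
          show ρ₀ k = ρ (⟨y, hPC y hy⟩ * ⟨d₁, m1⟩) from rfl, map_mul, map_mul, hcd1, hz1, mul_one, mul_one] at h
        exact h
      obtain ⟨F', _, _, -, -, -, -, -, -, l₂, -, hl₂P, hl₂prod⟩ :=
        exists_triple_map (d₂ := d₃) (d₃ := d₂) hD hprim h24 h₁ hd₃.1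
          ⟨hd₂, h₂, Ne.symm hd₃.2.2.1, hd₃.2.2.2.symm⟩
      have f13 : (c : G) * (d₁ * d₃) * (c : G)⁻¹ = d₁ * d₃ := by
        rw [← hl₂prod]
        exact cj_list _ _ fun y hy => hfixP y ⟨(hl₂P y hy).1, (hl₂P y hy).2.2⟩
      have hc13 : (c : G) * d₁ * (c : G)⁻¹ = d₁ := by
        rw [show (c : G) * (d₁ * d₃) * (c : G)⁻¹ = (c : G) * d₁ * (c : G)⁻¹ * ((c : G) * d₃ * (c : G)⁻¹) by group,
          hfixP d₃ hd₃] at f13
        exact mul_right_cancel f13
      have hcK : (c : G) ∈ K₀ := hfix c c.2 hc13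
      refine (hker₀ ⟨c, hcK⟩).1 ?_
      have : ρ₀ ⟨c, hcK⟩ ∈ Subgroup.center Y := Subgroup.mem_center_iff.2 fun t => by
        obtain ⟨k, rfl⟩ := hρ₀ t
        have h := hck k
        rw [show κ c k = ⟨c, hcK⟩ * k * ⟨c, hcK⟩⁻¹ from rfl, map_mul, map_mul, map_inv, mul_inv_eq_iff_eq_mul] at h
        exact h.symm
      rwa [hYc, Subgroup.mem_bot] at this
    · intro hcZ
      refine MulEquiv.ext fun p => ?_
      obtain ⟨k, rfl⟩ := hρ₀ p
      refine (hα c k).trans ?_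
      rw [show κ c k = ⟨c, hZK₀ hcZ⟩ * k * ⟨c, hZK₀ hcZ⟩⁻¹ from rfl, map_mul, map_mul, map_inv,
        (hker₀ ⟨c, hZK₀ hcZ⟩).2 hcZ]
      simp
  -- the generalized Fitting subgroup
  have hFit : K₀ = (Cfsg.generalizedFittingSubgroup ↥CL).map CL.subtype := by
    set K' := K₀.subgroupOf CL with hK'
    have hK'n : K'.Normal := ⟨fun n hn g => hnK₀ g (n : G) hn⟩
    have hcomp : Cfsg.IsComponent K' :=
      ⟨hK'n.isSubnormal, CfsgLib.Components.isQuasisimple_of_mulEquiv hqs (Subgroup.subgroupOfEquivOfLe hK₀CL).symm⟩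
    have hcent : Subgroup.centralizer (K' : Set CL) ≤ Z.subgroupOf CL := by
      intro c hc'
      rw [← hΦker, MonoidHom.mem_ker]
      refine MulEquiv.ext fun p => ?_
      obtain ⟨k, rfl⟩ := hρ₀ p
      refine (hα c k).trans (congrArg ρ₀ (Subtype.ext ?_))
      exact cj_fix (show Commute (c : G) k from
        (congrArg Subtype.val (Subgroup.mem_centralizer_iff.1 hc' ⟨k, hK₀CL k.2⟩ k.2)).symm)
    have hZK' : Z.subgroupOf CL ≤ K' := fun x hx => hZK₀ hx
    have hF' : Cfsg.generalizedFittingSubgroup CL = K' := by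
      refine le_antisymm (sup_le (sSup_le fun M hM => ?_) ?_)
        ((CfsgLib.Components.component_le_layer hcomp).trans le_sup_left)
      · by_cases e : M = K'
        · exact e.le
        refine ((?_ : M ≤ Subgroup.centralizer (K' : Set CL)).trans hcent).trans hZK'
        exact CfsgLib.Components.le_centralizer_of_commutator_eq_bot
          (CfsgLib.Components.commutator_components_eq_bot hM hcomp e)
      · refine ((?_ : Cfsg.fittingSubgroup CL ≤ Subgroup.centralizer (K' : Set CL)).trans hcent).trans hZK'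
        intro x hx
        rw [Subgroup.mem_centralizer_iff]
        intro k hk
        exact (Subgroup.mem_centralizer_iff.1
          (CfsgLib.Components.layer_le_centralizer_fitting (CfsgLib.Components.component_le_layer hcomp hk)) x hx).symm
    rw [hF', hK', Subgroup.subgroupOf_map_subtype, inf_eq_left.2 hK₀CL]
  haveI := CfsgLib.ThreeTrans.Inst.FiTwentyTwo.finite_fi22
  obtain ⟨e, -⟩ := CfsgLib.ThreeTrans.Inst.FiTwentyTwo.exists_equiv hE hEp hE22
  have hΦsurj : Function.Surjective Φ := by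
    obtain ⟨hA, -⟩ := CfsgLib.ThreeTrans.Uniq.card_mulAut22 hE hEp hE22
    have h1 : Nat.card CL = 2 * Nat.card K₀ := by
      have h := (K₀.subgroupOf CL).card_mul_index
      rw [hidx, Nat.card_congr (Subgroup.subgroupOfEquivOfLe hK₀CL).toEquiv] at h
      rw [← h]; ring
    have h2 : Nat.card K₀ = Nat.card Z * Nat.card Y := by
      have h := ρ₀.ker.card_mul_index
      rw [Subgroup.index_ker, MonoidHom.range_eq_top.2 hρ₀, Subgroup.card_top,
        show ρ₀.ker = Z.subgroupOf K₀ from Subgroup.ext fun g => hker₀ g,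
        Nat.card_congr (Subgroup.subgroupOfEquivOfLe hZK₀).toEquiv] at h
      exact h.symm
    have h3 := Φ.ker.card_mul_index
    rw [Subgroup.index_ker, hΦker, Nat.card_congr (Subgroup.subgroupOfEquivOfLe hZCL).toEquiv, h1, h2] at h3
    have hpos : 0 < Nat.card Z := Nat.card_pos
    have hr : Nat.card Φ.range = Nat.card (MulAut Y) := by
      rw [hA]; exact Nat.eq_of_mul_eq_mul_left hpos (by rw [h3]; ring)
    haveI : Finite (MulAut Y) := Nat.finite_of_card_ne_zero (by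
      rw [hA]; exact mul_ne_zero (by norm_num) Nat.card_pos.ne')
    rw [← MonoidHom.range_eq_top]
    exact Subgroup.eq_top_of_card_eq _ hr
  subst hK
  exact ⟨hqs, hFit, hK₀CL, hidx, hZK₀ (Subgroup.mem_zpowers j),
    ⟨((QuotientGroup.quotientMulEquivOfEq hΦker.symm).trans
      (QuotientGroup.quotientKerEquivOfSurjective Φ hΦsurj)).trans (MulAut.congr e.symm)⟩⟩

end Cfsg.Agent.S5465
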