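import Cfsg.Statements.S5466
import Cfsg.Agent.Lib.ThreeTrans.TypeTop.TripleTop
import Cfsg.Agent.Lib.Components.FStar
import Cfsg.Agent.Lib.AutPSU.Card
import Cfsg.Agent.Lib.AutPSL.FieldGalois
import Cfsg.Agent.Lib.ClassicalGroups.UnitarySimple
-- import your own Cfsg.Agent.* helpers here

set_option autoImplicit false
open Cfsg

namespace Cfsg.Agent.S5466
open CfsgLib.ThreeTrans CfsgLib.ThreeTrans.Tower CfsgLib.ThreeTrans.TypeTop
open scoped commutatorElement

variable {G : Type*} [Group G]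

theorem cj_comp (a b x : G) : a * b * x * (a * b)⁻¹ = a * (b * x * b⁻¹) * a⁻¹ := by group

theorem cj_fix {g x : G} (h : Commute g x) : g * x * g⁻¹ = x := by rw [h.eq, mul_inv_cancel_right]

theorem cj_list (g : G) (l : List G) (h : ∀ y ∈ l, g * y * g⁻¹ = y) : g * l.prod * g⁻¹ = l.prod := by
  induction l with
  | nil => simp
  | cons a t ih =>
    rw [List.prod_cons, show g * (a * t.prod) * g⁻¹ = g * a * g⁻¹ * (g * t.prod * g⁻¹) by group,
      h a (by simp), ih fun y hy => h y (by simp [hy])]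

theorem pair_factor {P : Set G} {K₀ : Subgroup G} (h : ∀ y ∈ P, ∀ y' ∈ P, ∃ hm : y * y' ∈ K₀, (⟨y * y', hm⟩ : K₀) ∈ commutator K₀) :
    ∀ (l : List G), Even l.length → (∀ y ∈ l, y ∈ P) → ∃ hm : l.prod ∈ K₀, (⟨l.prod, hm⟩ : K₀) ∈ commutator K₀
  | [], _, _ => ⟨one_mem _, one_mem _⟩
  | [a], he, _ => absurd he (by simp)
  | a :: b :: t, he, hl => by
    obtain ⟨h1, h1'⟩ := h a (hl a (by simp)) b (hl b (by simp))
    obtain ⟨h2, h2'⟩ := pair_factor h t (by
      rw [List.length_cons, List.length_cons] at he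
      simpa [Nat.even_add_one] using he) fun y hy => hl y (by simp [hy])
    have e : (a :: b :: t).prod = a * b * t.prod := by simp [mul_assoc]
    refine ⟨e ▸ mul_mem h1 h2, ?_⟩
    convert mul_mem h1' h2' using 1
    exact Subtype.ext e


theorem perm_three {a b c : G} (hab : Commute a b) (hac : Commute a c) (hbc : Commute b c) (x : G)
    (hx : x = a * b * c ∨ x = a * c * b ∨ x = b * a * c ∨ x = b * c * a ∨ x = c * a * b ∨ x = c * b * a) :
    x = a * b * c := by
  have e1 : c * b = b * c := hbc.eq.symm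
  have e2 : c * a = a * c := hac.eq.symm
  have e3 : b * a = a * b := hab.eq.symm
  rcases hx with rfl | rfl | rfl | rfl | rfl | rfl
  · rfl
  · rw [mul_assoc, e1, ← mul_assoc]
  · rw [e3]
  · rw [mul_assoc, e2, ← mul_assoc, e3]
  · rw [e2, mul_assoc, e1, ← mul_assoc]
  · rw [e1, mul_assoc, e2, ← mul_assoc, e3]

/-- Let G be a finite group with trivial centre generated by a conjugation-invariant set D of 3-transpositions on which it acts primitively, such that for some d in D the subgroup generated by the members of D other than d commuting with d has central largest normal 2- and 3-subgroups, and suppose G with D is of type M(24), and let L be the commutator subgroup of G. Let d₁, d₂, d₃ be distinct pairwise commuting members of D, j their product, E the subgroup generated by d₁ d₂ and d₁ d₃ (a four-group lying in L), CL the centralizer of j in L and K its generalized Fitting subgroup. Then K is quasisimple with centre E, K is the centralizer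 of E in L, K modulo E is isomorphic to the projective special unitary group of dimension 6 over the field with four elements, CL/K is isomorphic to the symmetric group of degree 3, and CL modulo E is isomorphic to the full automorphism group of that unitary group. -/
theorem result {G : Type*} [Group G] [Finite G] {D : Set G} (hD : Cfsg.IsThreeTranspositionGroup D) (hprim : Cfsg.IsPrimitiveUnderConj D) (d₀ : G) (hd₀ : d₀ ∈ D) (h3 : Cfsg.pCore 3 ↥(Subgroup.closure {y : G | y ∈ D ∧ y ≠ d₀ ∧ Commute d₀ y}) ≤ Subgroup.center ↥(Subgroup.closure {y : G | y ∈ D ∧ y ≠ d₀ ∧ Commute d₀ y})) (h2 : Cfsg.pCore 2 ↥(Subgroup.closure {y : G | y ∈ D ∧ y ≠ d₀ ∧ Commute d₀ y}) ≤ Subgroup.center ↥(Subgroup.closure {y : G | y ∈ D ∧ y ≠ d₀ ∧ Commute d₀ y})) (h24 : Cfsg.IsOfTypeM24 G D) (L : Subgroup G) (hL : L = commutator G) (d₁ d₂ d₃ : G) (h₁ : d₁ ∈ D) (h₂ : d₂ ∈ D) (h₃ : d₃ ∈ D) (h12 : d₁ ≠ d₂) (h13 : d₁ ≠ d₃) (h23 : d₂ ≠ d₃) (c12 : Commute d₁ d₂) (c13 : Commute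 d₁ d₃) (c23 : Commute d₂ d₃) (E CL K : Subgroup G) (hE : E = Subgroup.closure ({d₁ * d₂, d₁ * d₃} : Set G)) (hCL : CL = L ⊓ Subgroup.centralizer ({d₁ * d₂ * d₃} : Set G)) (hK : K = (Cfsg.generalizedFittingSubgroup ↥CL).map CL.subtype) : Cfsg.IsQuasisimple ↥K ∧ (Subgroup.center ↥K).map K.subtype = E ∧ K = L ⊓ Subgroup.centralizer (E : Set G) ∧ (∃ (_ : (E.subgroupOf K).Normal) (F : Type) (_ : Field F) (_ : Fintype F), Fintype.card F = 4 ∧ Nonempty (↥K ⧸ E.subgroupOf K ≃* Cfsg.PSU 6 F 2)) ∧ ∃ _ : (K.subgroupOf CL).Normal, Nonempty (↥CL ⧸ K.subgroupOf CL ≃* Equiv.Perm (Fin 3)) ∧ E ≤ CL ∧ ∃ (_ : (E.subgroupOf CL).Normal) (F : Type) (_ : Field F) (_ : Fintype F), Fintype.card F = 4 ∧ Nonempty (↥CL ⧸ E.subgroupOf CL ≃* MulAut (Cfsg.PSU 6 F 2)) := by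
  classical
  have hs : Cfsg.IsThreeTranspositionSet D := hD.1
  have hclosed := conjClosed_of_group hD
  obtain ⟨χ, hχ⟩ := exists_parityHom24 hD hprim h24
  have hnL : ∀ a ∈ D, a ∉ L := fun a ha => hL ▸ notMem_commutator24 hD hprim h24 ha
  have hsame : ∀ a ∈ D, ∀ b ∈ D, a * b ∈ L := fun a ha b hb => by
    obtain ⟨g, rfl⟩ := hprim.1 a ha b hb
    have h := Subgroup.commutator_mem_commutator (Subgroup.mem_top a) (Subgroup.mem_top g)
    rw [← commutator_def, ← hL, commutatorElement_def, inv_eq hs ha] at h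
    have e : a * (g * a * g⁻¹) = a * g * a * g⁻¹ := by group
    rwa [e]
  have hdich : ∀ a ∈ D, ∀ g : G, g ∈ L ∨ g * a ∈ L := by
    intro a ha g
    haveI hnorm : L.Normal := hL ▸ inferInstance
    have hg : g ∈ Subgroup.closure D := hD.2.2.symm ▸ Subgroup.mem_top g
    have haa := mul_self hs ha
    induction hg using Subgroup.closure_induction with
    | mem y hy => exact Or.inr (hsame y hy a ha)
    | one => exact Or.inl (one_mem _)
    | mul p q _ _ hp hq =>
      rcases hp with hp | hp <;> rcases hq with hq | hq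
      · exact Or.inl (mul_mem hp hq)
      · exact Or.inr (by rw [mul_assoc]; exact mul_mem hp hq)
      · refine Or.inr ?_
        have := mul_mem hp (hnorm.conj_mem q hq a)
        rwa [inv_eq hs ha, show p * a * (a * q * a) = p * (a * a) * q * a by simp [mul_assoc], haa, mul_one] at this
      · refine Or.inl ?_
        have := mul_mem hp (hnorm.conj_mem (q * a) hq a)
        rwa [inv_eq hs ha, show p * a * (a * (q * a) * a) = p * (a * a) * q * (a * a) by simp [mul_assoc], haa,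
          mul_one, mul_one] at this
    | inv p _ hp =>
      rcases hp with hp | hp
      · exact Or.inl (inv_mem hp)
      · refine Or.inr ?_
        have := hnorm.conj_mem _ (inv_mem hp) a
        rwa [mul_inv_rev, inv_eq hs ha, show a * (a * p⁻¹) * a = (a * a) * p⁻¹ * a by simp [mul_assoc], haa, one_mul]
          at this
  have hd₂ : d₂ ∈ Dd D d₁ := ⟨h₂, Ne.symm h12, c12⟩
  have hd₃ : d₃ ∈ Dd D d₁ ∩ Dd D d₂ := ⟨⟨h₃, Ne.symm h13, c13⟩, h₃, Ne.symm h23, c23⟩
  set C₃ := Subgroup.centralizer ({d₁, d₂, d₃} : Set G) with hC₃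
  set V := Subgroup.closure ({d₁, d₂, d₃} : Set G) with hV
  set P := Dd D d₁ ∩ (Dd D d₂ ∩ Dd D d₃) with hP
  obtain ⟨F, _, _, hF, ρ, hρ, hρker, hρinj, htrans, l₁, hl₁, hl₁P, hl₁prod⟩ :=
    exists_triple_map hD hprim h24 h₁ hd₂ hd₃
  obtain ⟨F', _, _, -, -, -, -, -, -, l₂, hl₂, hl₂P, hl₂prod⟩ :=
    exists_triple_map (d₂ := d₃) (d₃ := d₂) hD hprim h24 h₁ hd₃.1 ⟨hd₂, h₂, h23, c23.symm⟩
  have hl₂P' : ∀ y ∈ l₂, y ∈ P := fun y hy => ⟨(hl₂P y hy).1, (hl₂P y hy).2.2, (hl₂P y hy).2.1⟩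
  have m1 : d₁ ∈ C₃ := mem_centralizer_triple.2 ⟨Commute.refl _, c12, c13⟩
  have m2 : d₂ ∈ C₃ := mem_centralizer_triple.2 ⟨c12.symm, Commute.refl _, c23⟩
  have m3 : d₃ ∈ C₃ := mem_centralizer_triple.2 ⟨c13.symm, c23.symm, Commute.refl _⟩
  have hPC : ∀ y ∈ P, y ∈ C₃ := fun y hy =>
    mem_centralizer_triple.2 ⟨hy.1.2.2.symm, hy.2.1.2.2.symm, hy.2.2.2.2.symm⟩
  have hz1 : ρ ⟨d₁, m1⟩ = 1 := (hρker ⟨d₁, m1⟩).2 (Subgroup.subset_closure (by simp : d₁ ∈ ({d₁, d₂, d₃} : Set G)))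
  -- the even part of the three
  have hE1 : d₁ * d₂ ∈ E := hE ▸ Subgroup.subset_closure (by simp)
  have hE2 : d₁ * d₃ ∈ E := hE ▸ Subgroup.subset_closure (by simp)
  have hEL : E ≤ L := by
    rw [hE, Subgroup.closure_le]; rintro x (rfl | rfl); exacts [hsame _ h₁ _ h₂, hsame _ h₁ _ h₃]
  have hEV : E ≤ V := by
    rw [hE, Subgroup.closure_le]
    rintro x (rfl | rfl) <;> exact mul_mem (Subgroup.subset_closure (by simp)) (Subgroup.subset_closure (by simp))
  have hVC : V ≤ C₃ := by rw [hV, Subgroup.closure_le]; rintro x (rfl | rfl | rfl); exacts [m1, m2, m3]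
  have hVd : ∀ v ∈ V, Commute v d₁ := fun v hv => (mem_centralizer_triple.1 (hVC hv)).1
  have hVsplit : ∀ v ∈ V, v ∈ E ∨ v * d₁ ∈ E := by
    have h11 : d₁ * d₁ = 1 := mul_self hs h₁
    intro v hv
    induction hv using Subgroup.closure_induction with
    | mem y hy =>
      rcases hy with rfl | rfl | rfl
      · exact Or.inr (h11.symm ▸ one_mem E)
      · exact Or.inr (by rw [c12.eq.symm]; exact hE1)
      · exact Or.inr (by rw [c13.eq.symm]; exact hE2)
    | one => exact Or.inl (one_mem _)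
    | mul p q hp' hq' hp hq =>
      rcases hp with hp | hp <;> rcases hq with hq | hq
      · exact Or.inl (mul_mem hp hq)
      · exact Or.inr (by rw [mul_assoc]; exact mul_mem hp hq)
      · refine Or.inr ?_
        rw [mul_assoc, (hVd q hq').eq, ← mul_assoc]
        exact mul_mem hp hq
      · refine Or.inl ?_
        have := mul_mem hp hq
        rwa [mul_assoc, ← mul_assoc d₁ q, ← (hVd q hq').eq, mul_assoc q, h11, mul_one] at this
    | inv p hp' hp =>
      rcases hp with hp | hp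
      · exact Or.inl (inv_mem hp)
      · refine Or.inr ?_
        have := inv_mem hp
        rwa [mul_inv_rev, inv_eq hs h₁, ← ((hVd p hp').inv_left).eq] at this
  have hEeq : ∀ v ∈ V, v ∈ L → v ∈ E := fun v hv hvL => (hVsplit v hv).resolve_right fun h =>
    hnL d₁ h₁ (by
      have := mul_mem (inv_mem hvL) (hEL h)
      rwa [inv_mul_cancel_left] at this)
  set K₀ := L ⊓ C₃ with hK₀
  have hEK₀ : E ≤ K₀ := le_inf hEL (hEV.trans hVC)
  let ρ₀ : K₀ →* Cfsg.PSU 6 F 2 := ρ.comp (Subgroup.inclusion inf_le_right)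
  have hρ₀ : Function.Surjective ρ₀ := fun t => by
    obtain ⟨g, rfl⟩ := hρ t
    rcases hdich d₁ h₁ g with h | h
    · exact ⟨⟨g, h, g.2⟩, rfl⟩
    · refine ⟨⟨g * d₁, h, mul_mem g.2 m1⟩, ?_⟩
      show ρ (g * ⟨d₁, m1⟩) = ρ g
      rw [map_mul, hz1, mul_one]
  have hker₀ : ∀ x : K₀, ρ₀ x = 1 ↔ (x : G) ∈ E := fun x =>
    ⟨fun h => hEeq _ ((hρker _).1 h) x.2.1, fun h => (hρker _).2 (hEV h)⟩
  have hcen₀ : ∀ x : K₀, x ∈ Subgroup.center K₀ ↔ (x : G) ∈ E := by
    intro x
    constructor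
    · intro hx
      refine (hker₀ x).1 ?_
      have : ρ₀ x ∈ Subgroup.center (Cfsg.PSU 6 F 2) := Subgroup.mem_center_iff.2 fun t => by
        obtain ⟨k, rfl⟩ := hρ₀ t
        rw [← map_mul, ← map_mul, Subgroup.mem_center_iff.1 hx k]
      rwa [psu_six_center hF, Subgroup.mem_bot] at this
    · intro hx
      refine Subgroup.mem_center_iff.2 fun k => Subtype.ext ?_
      show Commute (k : G) x
      obtain ⟨k1, k2, k3⟩ := mem_centralizer_triple.1 k.2.2
      have hxV := hEV hx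
      generalize (x : G) = v at hxV ⊢
      induction hxV using Subgroup.closure_induction with
      | mem z hz => rcases hz with rfl | rfl | rfl; exacts [k1, k2, k3]
      | one => exact Commute.one_right _
      | mul p q _ _ hp hq => exact hp.mul_right hq
      | inv p _ hp => exact hp.inv_right
  haveI hsimp : IsSimpleGroup (Cfsg.PSU 6 F 2) :=
    CfsgLib.ClassicalGroups.psu_isSimpleGroup hF (by norm_num) (by norm_num)
  have hkereq : ρ₀.ker = Subgroup.center K₀ := by
    ext x; rw [MonoidHom.mem_ker, hker₀, hcen₀]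
  let iso₀ : K₀ ⧸ Subgroup.center K₀ ≃* Cfsg.PSU 6 F 2 :=
    (QuotientGroup.quotientMulEquivOfEq hkereq.symm).trans (QuotientGroup.quotientKerEquivOfSurjective ρ₀ hρ₀)
  have hpair : ∀ y ∈ P, ∀ y' ∈ P, ∃ hm : y * y' ∈ K₀, (⟨y * y', hm⟩ : K₀) ∈ commutator K₀ := by
    intro y hy y' hy'
    refine ⟨⟨hsame _ hy.1.1 _ hy'.1.1, mul_mem (hPC y hy) (hPC y' hy')⟩, ?_⟩
    obtain ⟨k, hk, hky⟩ := htrans y hy y' hy'
    obtain ⟨k₀, hk₀, hky₀⟩ : ∃ k₀ ∈ K₀, k₀ * y * k₀⁻¹ = y' := by
      rcases hdich d₁ h₁ k with h | h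
      · exact ⟨k, ⟨h, hk⟩, hky⟩
      · exact ⟨k * d₁, ⟨h, mul_mem hk m1⟩, by rw [cj_comp, cj_fix hy.1.2.2, hky]⟩
    let u : K₀ := ⟨y * d₁, hsame _ hy.1.1 _ h₁, mul_mem (hPC y hy) m1⟩
    let w : K₀ := ⟨k₀, hk₀⟩
    have hmem : ⁅u, w⁆ ∈ commutator K₀ := Subgroup.commutator_mem_commutator (Subgroup.mem_top u) (Subgroup.mem_top w)
    convert hmem using 1
    refine Subtype.ext ?_
    show y * y' = ((⁅u, w⁆ : K₀) : G)
    rw [commutatorElement_def]
    show y * y' = y * d₁ * k₀ * (y * d₁)⁻¹ * k₀⁻¹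
    have hkd : Commute k₀ d₁ := (mem_centralizer_triple.1 hk₀.2).1
    rw [mul_inv_rev, inv_eq hs h₁, inv_eq hs hy.1.1, ← hky₀,
      show y * d₁ * k₀ * (d₁ * y) * k₀⁻¹ = y * (d₁ * k₀ * d₁) * y * k₀⁻¹ by simp [mul_assoc], ← hkd.eq,
      mul_assoc k₀ d₁ d₁, mul_self hs h₁, mul_one]
    simp [mul_assoc]
  have hperf : commutator K₀ = ⊤ := by
    have hEc : ∀ v ∈ E, ∃ hm : v ∈ K₀, (⟨v, hm⟩ : K₀) ∈ commutator K₀ := by
      intro v hv
      rw [hE] at hv
      induction hv using Subgroup.closure_induction with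
      | mem z hz =>
        rcases hz with rfl | rfl
        · rw [← hl₁prod]; exact pair_factor hpair l₁ (by rw [hl₁]; exact ⟨3, rfl⟩) hl₁P
        · rw [← hl₂prod]; exact pair_factor hpair l₂ (by rw [hl₂]; exact ⟨3, rfl⟩) hl₂P'
      | one => exact ⟨one_mem _, one_mem _⟩
      | mul p q _ _ hp hq => exact ⟨mul_mem hp.1 hq.1, mul_mem hp.2 hq.2⟩
      | inv p _ hp => exact ⟨inv_mem hp.1, inv_mem hp.2⟩
    have hcenN : ρ₀.ker ≤ commutator K₀ := fun x hx => (hEc _ ((hker₀ x).1 hx)).2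
    have hmap : (commutator K₀).map ρ₀ = ⊤ := by
      rw [commutator_def, Subgroup.map_commutator, Subgroup.map_top_of_surjective ρ₀ hρ₀, ← commutator_def]
      rcases (Subgroup.commutator_normal (⊤ : Subgroup (Cfsg.PSU 6 F 2)) ⊤).eq_bot_or_eq_top with h | h
      · obtain ⟨a, b, hab⟩ := psu_six_noncomm hF
        exact absurd (commutatorElement_eq_one_iff_mul_comm.1 (Subgroup.mem_bot.1
          (h ▸ Subgroup.commutator_mem_commutator (Subgroup.mem_top a) (Subgroup.mem_top b)))) hab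
      · exact h
    rw [← Subgroup.comap_map_eq_self hcenN, hmap, Subgroup.comap_top]
  have hqs : Cfsg.IsQuasisimple K₀ := ⟨⟨hperf⟩, iso₀.isSimpleGroup⟩
  -- the centraliser of the product
  have hCL' : ∀ g, g ∈ CL ↔ g ∈ L ∧ Commute g (d₁ * d₂ * d₃) := fun g => by
    rw [hCL, Subgroup.mem_inf, Subgroup.mem_centralizer_singleton_iff]; rfl
  have hK₀CL : K₀ ≤ CL := fun g hg => (hCL' g).2 ⟨hg.1,
    (((mem_centralizer_triple.1 hg.2).1.mul_right (mem_centralizer_triple.1 hg.2).2.1).mul_right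
      (mem_centralizer_triple.1 hg.2).2.2)⟩
  have hrel := noRel24 hD hprim h24
  have hperm : ∀ g : G, Commute g (d₁ * d₂ * d₃) → ∀ i ∈ [d₁, d₂, d₃], g * i * g⁻¹ ∈ [d₁, d₂, d₃] := by
    intro g hg i hi
    have e : d₁ * d₂ * d₃ = g * d₁ * g⁻¹ * (g * d₂ * g⁻¹) * (g * d₃ * g⁻¹) := by
      rw [show g * d₁ * g⁻¹ * (g * d₂ * g⁻¹) * (g * d₃ * g⁻¹) = g * (d₁ * d₂ * d₃) * g⁻¹ by group]
      exact (cj_fix hg).symm
    have hne : ∀ {a b : G}, a ≠ b → g * a * g⁻¹ ≠ g * b * g⁻¹ := fun h k => h (mul_left_cancel (mul_right_cancel k))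
    rcases CfsgLib.ThreeTrans.triple_cases hs (hrel 4 (by norm_num) (by norm_num)) h₁ h₂ h₃
      (hclosed.conj g _ h₁) (hclosed.conj g _ h₂) (hclosed.conj g _ h₃) h12 h13 h23 (hne h12) (hne h13) (hne h23)
      c12 c13 c23 ((commute_conj_iff g _ _).2 c12) ((commute_conj_iff g _ _).2 c13) ((commute_conj_iff g _ _).2 c23) e
      with h | ⟨hnd, hcm, hpr⟩
    · refine (h _).1 ?_
      simp only [List.mem_cons, List.not_mem_nil, or_false] at hi ⊢
      rcases hi with rfl | rfl | rfl <;> simp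
    · exfalso
      refine hrel 6 (by norm_num) (by norm_num) _ hnd rfl (fun x hx => ?_) hcm hpr
      simp only [List.mem_cons, List.not_mem_nil, or_false] at hx
      rcases hx with rfl | rfl | rfl | rfl | rfl | rfl
      exacts [h₁, h₂, h₃, hclosed.conj g _ h₁, hclosed.conj g _ h₂, hclosed.conj g _ h₃]
  let f : Fin 3 → G := ![d₁, d₂, d₃]
  have hf : Function.Injective f := by
    intro i j h
    fin_cases i <;> fin_cases j <;> simp [f] at h <;>
      first | rfl | exact absurd h h12 | exact absurd h h13 | exact absurd h h23 | exact absurd h.symm h12 |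
        exact absurd h.symm h13 | exact absurd h.symm h23
  have hfmem : ∀ g : CL, ∀ i, ∃ j, f j = (g : G) * f i * (g : G)⁻¹ := by
    intro g i
    have := hperm g ((hCL' g).1 g.2).2 (f i) (by fin_cases i <;> simp [f])
    simp only [List.mem_cons, List.not_mem_nil, or_false] at this
    rcases this with h | h | h
    exacts [⟨0, h.symm⟩, ⟨1, h.symm⟩, ⟨2, h.symm⟩]
  choose σ hσ using hfmem
  let Ψ₀ : CL → Equiv.Perm (Fin 3) := fun g => Equiv.ofBijective (σ g) (by
    refine Finite.injective_iff_bijective.1 fun i j h => hf ?_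
    have := congrArg f h
    rw [hσ, hσ] at this
    exact mul_left_cancel (mul_right_cancel this))
  let Ψ : CL →* Equiv.Perm (Fin 3) := MonoidHom.mk' Ψ₀ fun g h => Equiv.ext fun i => hf (by
    show f (σ (g * h) i) = f (σ g (σ h i))
    rw [hσ, hσ, hσ, Subgroup.coe_mul, cj_comp])
  have hΨker : ∀ g : CL, Ψ g = 1 ↔ (g : G) ∈ K₀ := by
    intro g
    constructor
    · intro h
      have hfix : ∀ i, (g : G) * f i * (g : G)⁻¹ = f i := fun i => by
        rw [← hσ g i, show σ g i = i from DFunLike.congr_fun h i]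
      exact ⟨((hCL' g).1 g.2).1, mem_centralizer_triple.2
        ⟨mul_inv_eq_iff_eq_mul.1 (hfix 0), mul_inv_eq_iff_eq_mul.1 (hfix 1), mul_inv_eq_iff_eq_mul.1 (hfix 2)⟩⟩
    · intro h
      obtain ⟨k1, k2, k3⟩ := mem_centralizer_triple.1 h.2
      refine Equiv.ext fun i => hf ?_
      show f (σ g i) = f i
      rw [hσ]
      fin_cases i
      exacts [cj_fix k1, cj_fix k2, cj_fix k3]
  obtain ⟨Y₁, _, E₁, N₁, k₁, l₁', m₁', S⟩ : ∃ (Y : Type _) (_ : Group Y) (E : Set Y) (N k l m : ℕ), Stage D E N k l m := by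
    obtain ⟨d, c, -, -, hB, h23'⟩ := bottom24 hD hprim h24
    exact ⟨_, _, _, _, _, _, _, stage_of_base hD hprim h24.1
      (local23 hB.img_group (prim23 hD hprim hB h23') h23') hB rfl⟩
  have hLoc := local24 hD hprim h24
  have hdd : ∀ i j, i ≠ j → f j ∈ Dd D (f i) := by
    have q1 := hd₂
    have q2 := hd₃.1
    have q3 := hd₃.2
    have q4 := Dd_symm h₁ hd₂
    have q5 := Dd_symm h₁ hd₃.1
    have q6 := Dd_symm h₂ hd₃.2
    intro i j hij
    fin_cases i <;> fin_cases j <;> first | exact absurd rfl hij | assumption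
  have hfD : ∀ i, f i ∈ D := fun i => by fin_cases i <;> assumption
  have hΨsurj : Function.Surjective Ψ := by
    intro τ
    have hne' : ∀ {i j : Fin 3}, i ≠ j → τ i ≠ τ j := fun h e => h (τ.injective e)
    obtain ⟨g, g1, g2, g3⟩ := triple_transitive S hLoc (a := f 0) (b := f 1) (c := f 2) (hfD 0) (hdd 0 1 (by decide))
      ⟨hdd 0 2 (by decide), hdd 1 2 (by decide)⟩ (hfD (τ 0)) (hdd _ _ (hne' (by decide : (0 : Fin 3) ≠ 1)))
      ⟨hdd _ _ (hne' (by decide : (0 : Fin 3) ≠ 2)), hdd _ _ (hne' (by decide : (1 : Fin 3) ≠ 2))⟩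
    have hj : Commute g (d₁ * d₂ * d₃) := by
      refine mul_inv_eq_iff_eq_mul.1 ?_
      rw [show g * (d₁ * d₂ * d₃) * g⁻¹ = g * f 0 * g⁻¹ * (g * f 1 * g⁻¹) * (g * f 2 * g⁻¹) by
        simp only [f, Matrix.cons_val_zero, Matrix.cons_val_one, Matrix.cons_val_two, Matrix.head_cons, Matrix.tail_cons]
        group, g1, g2, g3]
      have hc : ∀ i j, Commute (f i) (f j) := fun i j => by
        by_cases e : i = j
        · exact e ▸ Commute.refl _
        · exact (hdd i j e).2.2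
      show f (τ 0) * f (τ 1) * f (τ 2) = f 0 * f 1 * f 2
      have hn01 := hne' (by decide : (0 : Fin 3) ≠ 1)
      have hn02 := hne' (by decide : (0 : Fin 3) ≠ 2)
      have hn12 := hne' (by decide : (1 : Fin 3) ≠ 2)
      generalize τ 0 = i at *
      generalize τ 1 = j at *
      generalize τ 2 = k at *
      fin_cases i <;> fin_cases j <;> first | exact absurd rfl hn01 | fin_cases k <;>
        first
        | exact absurd rfl hn02
        | exact absurd rfl hn12
        | exact perm_three (hc 0 1) (hc 0 2) (hc 1 2) _ (by simp)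
    have hadj : ∃ g' : G, g' ∈ L ∧ Commute g' (d₁ * d₂ * d₃) ∧ g' * f 0 * g'⁻¹ = f (τ 0) ∧
        g' * f 1 * g'⁻¹ = f (τ 1) ∧ g' * f 2 * g'⁻¹ = f (τ 2) := by
      rcases hdich d₁ h₁ g with h | h
      · exact ⟨g, h, hj, g1, g2, g3⟩
      · refine ⟨g * d₁, h, hj.mul_left (((Commute.refl d₁).mul_right c12).mul_right c13), ?_, ?_, ?_⟩ <;> rw [cj_comp]
        · rw [show d₁ * f 0 * d₁⁻¹ = f 0 from cj_fix (Commute.refl d₁), g1]
        · rw [show d₁ * f 1 * d₁⁻¹ = f 1 from cj_fix c12, g2]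
        · rw [show d₁ * f 2 * d₁⁻¹ = f 2 from cj_fix c13, g3]
    obtain ⟨g', hgL, hgj, e0, e1, e2⟩ := hadj
    refine ⟨⟨g', (hCL' g').2 ⟨hgL, hgj⟩⟩, Equiv.ext fun i => hf ?_⟩
    show f (σ _ i) = f (τ i)
    rw [hσ]
    fin_cases i
    exacts [e0, e1, e2]
  -- the action on the unitary group
  have hnK₀ : ∀ c : CL, ∀ k ∈ K₀, (c : G) * k * (c : G)⁻¹ ∈ K₀ := fun c k hk => by
    have hkc : (⟨k, hK₀CL hk⟩ : CL) ∈ Ψ.ker := (hΨker _).2 hk
    exact (hΨker (c * ⟨k, hK₀CL hk⟩ * c⁻¹)).1 (MonoidHom.mem_ker.1 ((MonoidHom.normal_ker Ψ).conj_mem _ hkc c))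
  let κ : CL → K₀ →* K₀ := fun c => ((MulAut.conj (c : G)).toMonoidHom.comp K₀.subtype).codRestrict K₀
    fun k => hnK₀ c k k.2
  have hκ : ∀ (c : CL) (k : K₀), (κ c k : G) = c * k * (c : G)⁻¹ := fun _ _ => rfl
  have hκmul : ∀ (c c' : CL) (k : K₀), κ (c * c') k = κ c (κ c' k) := fun c c' k => Subtype.ext (by
    rw [hκ, hκ, hκ, Subgroup.coe_mul, cj_comp])
  have hκone : ∀ k : K₀, κ 1 k = k := fun k => Subtype.ext (by rw [hκ]; simp)
  have hEperm : ∀ c : CL, ∀ x ∈ E, (c : G) * x * (c : G)⁻¹ ∈ E := by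
    intro c x hx
    refine hEeq _ ?_ ?_
    · have hVn : V.map (MulAut.conj (c : G)).toMonoidHom ≤ V := by
        rw [hV, MonoidHom.map_closure, Subgroup.closure_le]
        rintro _ ⟨y, hy, rfl⟩
        refine Subgroup.subset_closure ?_
        have := hperm c ((hCL' c).1 c.2).2 y (by simpa using hy)
        simp only [List.mem_cons, List.not_mem_nil, or_false] at this
        show (c : G) * y * (c : G)⁻¹ ∈ ({d₁, d₂, d₃} : Set G)
        simpa using this
      exact hVn ⟨x, hEV hx, rfl⟩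
    · exact mul_mem (mul_mem ((hCL' c).1 c.2).1 (hEL hx)) (inv_mem ((hCL' c).1 c.2).1)
  have hkerle : ∀ c : CL, ρ₀.ker ≤ (ρ₀.comp (κ c)).ker := fun c x hx =>
    (hker₀ (κ c x)).2 (hEperm c _ ((hker₀ x).1 hx))
  let α : CL → Cfsg.PSU 6 F 2 →* Cfsg.PSU 6 F 2 := fun c => ρ₀.liftOfSurjective hρ₀ ⟨ρ₀.comp (κ c), hkerle c⟩
  have hα : ∀ (c : CL) (k : K₀), α c (ρ₀ k) = ρ₀ (κ c k) := fun c k =>
    MonoidHom.liftOfRightInverse_comp_apply _ _ _ _ k
  have hαinv : ∀ (c : CL) p, α c (α c⁻¹ p) = p := fun c p => by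
    obtain ⟨k, rfl⟩ := hρ₀ p
    rw [hα, hα, ← hκmul, mul_inv_cancel, hκone]
  let A : CL → MulAut (Cfsg.PSU 6 F 2) := fun c =>
    MonoidHom.toMulEquiv (α c) (α c⁻¹)
      (MonoidHom.ext fun p => by
        rw [MonoidHom.comp_apply, MonoidHom.id_apply]
        conv_lhs => arg 2; arg 1; rw [← inv_inv c]
        exact hαinv c⁻¹ p)
      (MonoidHom.ext fun p => hαinv c p)
  let Φ : CL →* MulAut (Cfsg.PSU 6 F 2) := MonoidHom.mk' A fun c c' => MulEquiv.ext fun p => by
    obtain ⟨k, rfl⟩ := hρ₀ p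
    show α (c * c') (ρ₀ k) = α c (α c' (ρ₀ k))
    rw [hα, hα, hα, hκmul]
  have hECL : E ≤ CL := hEK₀.trans hK₀CL
  have hΦker : Φ.ker = E.subgroupOf CL := by
    ext c
    rw [MonoidHom.mem_ker, Subgroup.mem_subgroupOf]
    constructor
    · intro hc1
      have hc : ∀ k : K₀, ρ₀ (κ c k) = ρ₀ k := fun k => (hα c k).symm.trans (DFunLike.congr_fun hc1 (ρ₀ k))
      obtain ⟨hcL, hcj⟩ := (hCL' c).1 c.2
      have hfixP : ∀ y ∈ P, (c : G) * y * (c : G)⁻¹ = y := by
        intro y hy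
        let k : K₀ := ⟨y * d₁, hsame _ hy.1.1 _ h₁, mul_mem (hPC y hy) m1⟩
        have himgD : ∀ i ∈ [d₁, d₂, d₃], (c : G) * y * (c : G)⁻¹ ∈ Dd D ((c : G) * i * (c : G)⁻¹) := fun i hi => by
          refine conj_mem_Dd_conj hclosed _ ?_
          simp only [List.mem_cons, List.not_mem_nil, or_false] at hi
          rcases hi with rfl | rfl | rfl
          exacts [hy.1, hy.2.1, hy.2.2]
        have hy' : (c : G) * y * (c : G)⁻¹ ∈ P := by
          have back : ∀ a ∈ [d₁, d₂, d₃], ∃ i ∈ [d₁, d₂, d₃], (c : G) * i * (c : G)⁻¹ = a := by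
            intro a ha
            have hinv := hperm (c : G)⁻¹ hcj.inv_left a ha
            exact ⟨_, hinv, by group⟩
          obtain ⟨i1, hi1, e1⟩ := back d₁ (by simp)
          obtain ⟨i2, hi2, e2⟩ := back d₂ (by simp)
          obtain ⟨i3, hi3, e3⟩ := back d₃ (by simp)
          exact ⟨e1 ▸ himgD i1 hi1, e2 ▸ himgD i2 hi2, e3 ▸ himgD i3 hi3⟩
        have hcd : (c : G) * d₁ * (c : G)⁻¹ ∈ C₃ := by
          have := hperm c hcj d₁ (by simp)
          simp only [List.mem_cons, List.not_mem_nil, or_false] at this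
          rcases this with h | h | h <;> rw [h]
          exacts [m1, m2, m3]
        have hcd1 : ρ ⟨_, hcd⟩ = 1 := (hρker _).2 (by
          have := hperm c hcj d₁ (by simp)
          exact Subgroup.subset_closure (by simpa using this))
        refine hρinj ⟨_, hPC _ hy'⟩ ⟨y, hPC y hy⟩ hy' hy ?_
        have h := hc k
        rw [show ρ₀ (κ c k) = ρ (⟨_, hPC _ hy'⟩ * ⟨_, hcd⟩) from congrArg ρ (Subtype.ext (by
            show (c : G) * (y * d₁) * (c : G)⁻¹ = (c : G) * y * (c : G)⁻¹ * ((c : G) * d₁ * (c : G)⁻¹)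
            group)),
          show ρ₀ k = ρ (⟨y, hPC y hy⟩ * ⟨d₁, m1⟩) from rfl, map_mul, map_mul, hcd1, hz1, mul_one, mul_one] at h
        exact h
      have f12 : (c : G) * (d₁ * d₂) * (c : G)⁻¹ = d₁ * d₂ := by
        rw [← hl₁prod]; exact cj_list _ _ fun y hy => hfixP y (hl₁P y hy)
      have f13 : (c : G) * (d₁ * d₃) * (c : G)⁻¹ = d₁ * d₃ := by
        rw [← hl₂prod]; exact cj_list _ _ fun y hy => hfixP y (hl₂P' y hy)
      have hcK : (c : G) ∈ K₀ := by
        have p12 := CfsgLib.ThreeTrans.pair_unique hs (hrel 4 (by norm_num) (by norm_num)) h₁ h₂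
          (hclosed.conj (c : G) _ h₁) (hclosed.conj (c : G) _ h₂) h12 (fun e => h12 (mul_left_cancel (mul_right_cancel e)))
          c12 ((commute_conj_iff _ _ _).2 c12) (by rw [← f12]; group)
        have p13 := CfsgLib.ThreeTrans.pair_unique hs (hrel 4 (by norm_num) (by norm_num)) h₁ h₃
          (hclosed.conj (c : G) _ h₁) (hclosed.conj (c : G) _ h₃) h13 (fun e => h13 (mul_left_cancel (mul_right_cancel e)))
          c13 ((commute_conj_iff _ _ _).2 c13) (by rw [← f13]; group)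
        refine ⟨hcL, ?_⟩
        rcases p12 with ⟨u1, u2⟩ | ⟨u1, u2⟩ <;> rcases p13 with ⟨v1, v3⟩ | ⟨v1, v3⟩
        · exact mem_centralizer_triple.2 ⟨mul_inv_eq_iff_eq_mul.1 u1, mul_inv_eq_iff_eq_mul.1 u2,
            mul_inv_eq_iff_eq_mul.1 v3⟩
        · exact absurd (u1.symm.trans v1) h13
        · exact absurd (v1.symm.trans u1) h12
        · exact absurd (u1.symm.trans v1) h23
      refine (hker₀ ⟨c, hcK⟩).1 ?_
      have : ρ₀ ⟨c, hcK⟩ ∈ Subgroup.center (Cfsg.PSU 6 F 2) := Subgroup.mem_center_iff.2 fun t => by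
        obtain ⟨k, rfl⟩ := hρ₀ t
        have h := hc k
        rw [show κ c k = ⟨c, hcK⟩ * k * ⟨c, hcK⟩⁻¹ from rfl, map_mul, map_mul, map_inv, mul_inv_eq_iff_eq_mul] at h
        exact h.symm
      rwa [psu_six_center hF, Subgroup.mem_bot] at this
    · intro hcE
      refine MulEquiv.ext fun p => ?_
      obtain ⟨k, rfl⟩ := hρ₀ p
      refine (hα c k).trans ?_
      rw [show κ c k = ⟨c, hEK₀ hcE⟩ * k * ⟨c, hEK₀ hcE⟩⁻¹ from rfl, map_mul, map_mul, map_inv,
        (hker₀ ⟨c, hEK₀ hcE⟩).2 hcE]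
      simp
  -- the generalized Fitting subgroup
  have hKeq : K = K₀ := by
    set K' := K₀.subgroupOf CL with hK'
    have hK'n : K'.Normal := ⟨fun n hn g => hnK₀ g (n : G) hn⟩
    have hcomp : Cfsg.IsComponent K' :=
      ⟨hK'n.isSubnormal, CfsgLib.Components.isQuasisimple_of_mulEquiv hqs (Subgroup.subgroupOfEquivOfLe hK₀CL).symm⟩
    have hcent : Subgroup.centralizer (K' : Set CL) ≤ E.subgroupOf CL := by
      intro c hc
      rw [← hΦker, MonoidHom.mem_ker]
      refine MulEquiv.ext fun p => ?_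
      obtain ⟨k, rfl⟩ := hρ₀ p
      refine (hα c k).trans (congrArg ρ₀ (Subtype.ext ?_))
      exact cj_fix (show Commute (c : G) k from
        (congrArg Subtype.val (Subgroup.mem_centralizer_iff.1 hc ⟨k, hK₀CL k.2⟩ k.2)).symm)
    have hEK' : E.subgroupOf CL ≤ K' := fun x hx => hEK₀ hx
    have hF' : Cfsg.generalizedFittingSubgroup CL = K' := by
      refine le_antisymm (sup_le (sSup_le fun M hM => ?_) ?_)
        ((CfsgLib.Components.component_le_layer hcomp).trans le_sup_left)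
      · by_cases e : M = K'
        · exact e.le
        refine ((?_ : M ≤ Subgroup.centralizer (K' : Set CL)).trans hcent).trans hEK'
        exact CfsgLib.Components.le_centralizer_of_commutator_eq_bot
          (CfsgLib.Components.commutator_components_eq_bot hM hcomp e)
      · refine ((?_ : Cfsg.fittingSubgroup CL ≤ Subgroup.centralizer (K' : Set CL)).trans hcent).trans hEK'
        intro x hx
        rw [Subgroup.mem_centralizer_iff]
        intro k hk
        exact (Subgroup.mem_centralizer_iff.1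
          (CfsgLib.Components.layer_le_centralizer_fitting (CfsgLib.Components.component_le_layer hcomp hk)) x hx).symm
    rw [hK, hF', hK', Subgroup.subgroupOf_map_subtype, inf_eq_left]
    exact hK₀CL
  subst hKeq
  have hEn : (E.subgroupOf CL).Normal := hΦker ▸ MonoidHom.normal_ker Φ
  have hEn₀ : (E.subgroupOf (L ⊓ C₃)).Normal := ⟨fun n hn g => hEperm ⟨g, hK₀CL g.2⟩ _ hn⟩
  have hKn : (K₀.subgroupOf CL).Normal := ⟨fun n hn g => hnK₀ g (n : G) hn⟩
  have hΦsurj : Function.Surjective Φ := by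
    have hA : Nat.card (MulAut (Cfsg.PSU 6 F 2)) = 6 * Nat.card (Cfsg.PSU 6 F 2) := by
      haveI : Fact (Nat.Prime 2) := ⟨Nat.prime_two⟩
      have h2' := CfsgLib.FieldGalois.card_ringAut (F := F) (p := 2) (f := 2) hF
      have h' := CfsgLib.AutPSU.card_mulAut (F := F) (q := 2) (m := 4) hF (by norm_num) (by norm_num)
      change Nat.card (MulAut (Cfsg.PSU 6 F 2)) = _ at h'
      rw [h', h2']
      show Nat.gcd (4 + 2) (2 + 1) * Nat.card (Cfsg.PSU 6 F 2) * 2 = _
      rw [show Nat.gcd (4 + 2) (2 + 1) = 3 from rfl]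
      ring
    have h1 : Nat.card CL = 6 * Nat.card K₀ := by
      have h := Ψ.ker.card_mul_index
      rw [Subgroup.index_ker, MonoidHom.range_eq_top.2 hΨsurj, Subgroup.card_top, Nat.card_perm, Nat.card_fin,
        show Ψ.ker = K₀.subgroupOf CL from Subgroup.ext fun g => hΨker g,
        Nat.card_congr (Subgroup.subgroupOfEquivOfLe hK₀CL).toEquiv] at h
      rw [← h]; simp [Nat.factorial]; ring
    have h2 : Nat.card K₀ = Nat.card E * Nat.card (Cfsg.PSU 6 F 2) := by
      have h := ρ₀.ker.card_mul_index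
      rw [Subgroup.index_ker, MonoidHom.range_eq_top.2 hρ₀, Subgroup.card_top,
        show ρ₀.ker = E.subgroupOf K₀ from Subgroup.ext fun g => hker₀ g,
        Nat.card_congr (Subgroup.subgroupOfEquivOfLe hEK₀).toEquiv] at h
      exact h.symm
    have h3 := Φ.ker.card_mul_index
    rw [Subgroup.index_ker, hΦker, Nat.card_congr (Subgroup.subgroupOfEquivOfLe hECL).toEquiv, h1, h2] at h3
    have hpos : 0 < Nat.card E := Nat.card_pos
    have hr : Nat.card Φ.range = Nat.card (MulAut (Cfsg.PSU 6 F 2)) := by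
      rw [hA]; exact Nat.eq_of_mul_eq_mul_left hpos (by rw [h3]; ring)
    haveI : Finite (MulAut (Cfsg.PSU 6 F 2)) := Nat.finite_of_card_ne_zero (by
      rw [hA]; exact mul_ne_zero (by norm_num) Nat.card_pos.ne')
    rw [← MonoidHom.range_eq_top]
    exact Subgroup.eq_top_of_card_eq _ hr
  have hkerE : ρ₀.ker = E.subgroupOf K₀ := Subgroup.ext fun g => hker₀ g
  refine ⟨hqs, ?_, ?_, ⟨hEn₀, F, inferInstance, inferInstance, by rw [hF]; norm_num,
      ⟨(QuotientGroup.quotientMulEquivOfEq hkerE.symm).trans (QuotientGroup.quotientKerEquivOfSurjective ρ₀ hρ₀)⟩⟩,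
    hKn, ⟨(QuotientGroup.quotientMulEquivOfEq (show Ψ.ker = K₀.subgroupOf CL from Subgroup.ext fun g => hΨker g).symm).trans
      (QuotientGroup.quotientKerEquivOfSurjective Ψ hΨsurj)⟩, hECL, hEn, F, inferInstance, inferInstance,
    by rw [hF]; norm_num, ⟨(QuotientGroup.quotientMulEquivOfEq hΦker.symm).trans
      (QuotientGroup.quotientKerEquivOfSurjective Φ hΦsurj)⟩⟩
  · ext x
    constructor
    · rintro ⟨y, hy, rfl⟩; exact (hcen₀ y).1 hy
    · intro hx; exact ⟨⟨x, hEK₀ hx⟩, (hcen₀ _).2 hx, rfl⟩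
  · ext g
    constructor
    · intro hg
      refine ⟨hg.1, Subgroup.mem_centralizer_iff.2 fun v hv => ?_⟩
      obtain ⟨k1, k2, k3⟩ := mem_centralizer_triple.1 hg.2
      have hvV := hEV hv
      clear hv
      refine (show Commute g v from ?_).eq.symm
      induction hvV using Subgroup.closure_induction with
      | mem z hz => rcases hz with rfl | rfl | rfl; exacts [k1, k2, k3]
      | one => exact Commute.one_right _
      | mul p q _ _ hp hq => exact hp.mul_right hq
      | inv p _ hp => exact hp.inv_right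
    · rintro ⟨hgL, hg⟩
      refine ⟨hgL, ?_⟩
      have f12 := cj_fix (show Commute g (d₁ * d₂) from (Subgroup.mem_centralizer_iff.1 hg _ hE1).symm)
      have f13 := cj_fix (show Commute g (d₁ * d₃) from (Subgroup.mem_centralizer_iff.1 hg _ hE2).symm)
      have p12 := CfsgLib.ThreeTrans.pair_unique hs (hrel 4 (by norm_num) (by norm_num)) h₁ h₂
        (hclosed.conj g _ h₁) (hclosed.conj g _ h₂) h12 (fun e => h12 (mul_left_cancel (mul_right_cancel e)))
        c12 ((commute_conj_iff _ _ _).2 c12) (by rw [← f12]; group)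
      have p13 := CfsgLib.ThreeTrans.pair_unique hs (hrel 4 (by norm_num) (by norm_num)) h₁ h₃
        (hclosed.conj g _ h₁) (hclosed.conj g _ h₃) h13 (fun e => h13 (mul_left_cancel (mul_right_cancel e)))
        c13 ((commute_conj_iff _ _ _).2 c13) (by rw [← f13]; group)
      rcases p12 with ⟨u1, u2⟩ | ⟨u1, u2⟩ <;> rcases p13 with ⟨v1, v3⟩ | ⟨v1, v3⟩
      · exact mem_centralizer_triple.2 ⟨mul_inv_eq_iff_eq_mul.1 u1, mul_inv_eq_iff_eq_mul.1 u2,
          mul_inv_eq_iff_eq_mul.1 v3⟩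
      · exact absurd (u1.symm.trans v1) h13
      · exact absurd (v1.symm.trans u1) h12
      · exact absurd (u1.symm.trans v1) h23

end Cfsg.Agent.S5466
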