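import Cfsg.Statements.S5467
import Cfsg.Agent.Lib.ThreeTrans.QuadFrame.Core
import Cfsg.Agent.Lib.Components.FStar
import Cfsg.Agent.Lib.PCore.Basic
import Cfsg.Agent.Lib.Icosian.Extraspecial

set_option autoImplicit false
open Cfsg
open CfsgLib.ThreeTrans CfsgLib.ThreeTrans.TypeTop CfsgLib.ThreeTrans.QuadFrame

namespace Cfsg.Agent.S5467

/-- Let G be a finite group with trivial centre generated by a conjugation-invariant set D of 3-transpositions on which it acts primitively, such that for some d in D the subgroup generated by the members of D other than d commuting with d has central largest normal 2- and 3-subgroups, and suppose G with D is of type M(24), and let L be the commutator subgroup of G. Let z be the product of four distinct pairwise commuting members of D (an involution of L) and C its centralizer in L. Then the generalized Fitting subgroup Q of C is extraspecial of order 2^13, and C has normal subgroups Q ≤ N ≤ M with N/Q of order 3, M/N isomorphic to the projective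 special unitary group of dimension 4 over the field with nine elements, and M of index 2 in C. -/
theorem result {G : Type*} [Group G] [Finite G] {D : Set G} (hD : Cfsg.IsThreeTranspositionGroup D) (hprim : Cfsg.IsPrimitiveUnderConj D) (d₀ : G) (hd₀ : d₀ ∈ D) (h3 : Cfsg.pCore 3 ↥(Subgroup.closure {y : G | y ∈ D ∧ y ≠ d₀ ∧ Commute d₀ y}) ≤ Subgroup.center ↥(Subgroup.closure {y : G | y ∈ D ∧ y ≠ d₀ ∧ Commute d₀ y})) (h2 : Cfsg.pCore 2 ↥(Subgroup.closure {y : G | y ∈ D ∧ y ≠ d₀ ∧ Commute d₀ y}) ≤ Subgroup.center ↥(Subgroup.closure {y : G | y ∈ D ∧ y ≠ d₀ ∧ Commute d₀ y})) (h24 : Cfsg.IsOfTypeM24 G D) (L : Subgroup G) (hL : L = commutator G) (z : G) (l : List G) (hl : (l.Nodup ∧ l.length = 4 ∧ (∀ a ∈ l, a ∈ D) ∧ (∀ a ∈ l, ∀ b ∈ l, Commute a b) ∧ l.prod = z)) (C : Subgroup G) (hC : C = L ⊓ Subgroup.centralizer ({z} : Set G)) : ∃ (Q : Subgroup ↥C) (_ : Q.Normal), Cfsg.generalizedFittingSubgroup ↥C = Q ∧ Cfsg.IsExtraspecial 2 ↥Q ∧ Nat.card Q = 2 ^ 13 ∧ ∃ (N M : Subgroup ↥C) (_ : N.Normal)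 (_ : M.Normal), Q ≤ N ∧ N ≤ M ∧ Nat.card N = 3 * Nat.card Q ∧ (∃ (K : Type) (_ : Field K) (_ : Fintype K), Fintype.card K = 9 ∧ Nonempty (↥M ⧸ N.subgroupOf M ≃* Cfsg.PSU 4 K 3)) ∧ M.index = 2 := by
  classical
  have H : CfsgLib.ThreeTrans.QuadFrame.Hyp D := ⟨hD, hprim, h24⟩
  have hs : Cfsg.IsThreeTranspositionSet D := hD.1
  obtain ⟨hnd, hlen, hmem, hcm, hprod⟩ := hl
  subst hL hC
  obtain ⟨a, ha, b, hb, c, hc, e, he, hz⟩ := isProd_four (D := D) (x := z) ⟨l, hnd, hlen, hmem, hcm, hprod⟩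
  have q : Quad D z a b c e := ⟨ha, hb, hc, he, hz.symm⟩
  obtain ⟨χ, hχ⟩ := exists_parityHom24 hD hprim h24
  obtain ⟨hCz, hKc, heven, Q, hQcard, hQmem, -⟩ := kernel_facts H q χ hχ
  let Cz := Subgroup.centralizer ({z} : Set G)
  -- commutators and squares fix all members
  have hallfix : ∀ g ∈ Q, ∀ h ∈ Q, ∀ F : Fr D z, ∀ y ∈ F.1,
      Commute ((g * h * g⁻¹ * h⁻¹ : Cz) : G) y ∧ Commute ((g * g : Cz) : G) y := by
    intro g hg h hh F y hy
    obtain ⟨a', b', c', e', q', hF⟩ := F.2
    obtain ⟨-, -, -, Q', -, hQ'mem, hfix⟩ := kernel_facts H q' χ hχ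
    exact hfix g ((hQ'mem g).2 ((hQmem g).1 hg)) h ((hQ'mem h).2 ((hQmem h).1 hh)) y
      (show y ∈ ({a', b', c', e'} : Set G) from hF ▸ hy)
  have hsmall : ∀ u : Cz, act H.closed u = 1 → (∀ F : Fr D z, ∀ y ∈ F.1, Commute (u : G) y) →
      (u : G) = 1 ∨ (u : G) = z := by
    intro u hu hall
    obtain ⟨-, -, -, -, h5⟩ := four_facts H q χ hχ
    have hfr : ∀ y ∈ ({a, b, c, e} : Set G), Commute (u : G) y := fun y hy => hall q.frame y hy
    exact h5 ⟨u, mem_C4.2 ⟨hfr a (by simp), hfr b (by simp), hfr c (by simp), hfr e (by simp)⟩⟩ hu hall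
  have hpairQ : ∀ (F : Fr D z) (y f : G) (hy : y ∈ F.1) (hf : f ∈ F.1), elt hy * elt hf ∈ Q := by
    intro F y f hy hf
    refine (hQmem _).2 ⟨act_pair H hy hf, 1, ?_⟩
    refine Subtype.ext ?_
    show ((elt hy * elt hf : Cz) ^ (2 ^ 1) : Cz).1 = 1
    rw [pow_one, pow_two]
    show y * f * (y * f) = 1
    rw [mul_assoc, ← mul_assoc f, ← (comm_same hy hf).eq, mul_assoc, mul_self hs (mem_D hf), mul_one,
      mul_self hs (mem_D hy)]
  have hzQ : ∀ u : Cz, (u : G) = z → u ∈ Q := by
    intro u hu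
    have ma : a ∈ q.frame.1 := q.mem_frame
    have mb : b ∈ q.frame.1 := Set.mem_insert_of_mem _ (Set.mem_insert _ _)
    have mc : c ∈ q.frame.1 := Set.mem_insert_of_mem _ (Set.mem_insert_of_mem _ (Set.mem_insert _ _))
    have me : e ∈ q.frame.1 := Set.mem_insert_of_mem _ (Set.mem_insert_of_mem _ (Set.mem_insert_of_mem _ rfl))
    have e1 : u = elt ma * elt mb * (elt mc * elt me) := Subtype.ext (by
      show (u : G) = a * b * (c * e)
      rw [hu, ← q.prod, mul_assoc])
    rw [e1]
    exact mul_mem (hpairQ _ a b ma mb) (hpairQ _ c e mc me)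
  have hcentQ : ∀ u : Cz, (∀ x ∈ Q, u * x = x * u) → (u : G) = 1 ∨ (u : G) = z := by
    intro u hu
    have hfixall : ∀ F : Fr D z, ∀ y ∈ F.1, Commute (u : G) y := by
      intro F y hy
      obtain ⟨p, r, t, q', hF⟩ := quad_of_mem hy
      have hp : p ∈ F.1 := by rw [hF]; simp
      have hr : r ∈ F.1 := by rw [hF]; simp
      have key : ∀ f ∈ F.1, y ≠ f → (u : G) * y * (u : G)⁻¹ = y ∨ (u : G) * y * (u : G)⁻¹ = f := by
        intro f hf hne
        have h1 : (u : G) * (y * f) = y * f * (u : G) := congrArg Subtype.val (hu _ (hpairQ F y f hy hf))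
        have h2 : ((u : G) * y * (u : G)⁻¹) * ((u : G) * f * (u : G)⁻¹) = y * f := by
          rw [show ((u : G) * y * (u : G)⁻¹) * ((u : G) * f * (u : G)⁻¹) = (u : G) * (y * f) * (u : G)⁻¹ by group,
            h1, mul_inv_cancel_right]
        exact (CfsgLib.ThreeTrans.Tower.pair_unique hs (H.rel 4 (by norm_num) (by norm_num)) (mem_D hy) (mem_D hf)
          hne (comm_same hy hf) (H.closed.conj _ y (mem_D hy)) (H.closed.conj _ f (mem_D hf))
          ((commute_conj_iff _ _ _).2 (comm_same hy hf)) h2).imp And.left And.left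
      rcases key p hp q'.nab with k | k
      · exact mul_inv_eq_iff_eq_mul.1 k
      rcases key r hr q'.nac with k' | k'
      · exact mul_inv_eq_iff_eq_mul.1 k'
      · exact absurd (k.symm.trans k') q'.nbc
    refine hsmall u (Equiv.ext fun F => ?_) hfixall
    obtain ⟨y, hy⟩ := nonempty F
    refine frame_eq H (mem_act H.closed hy) ?_
    show (u : G) * y * (u : G)⁻¹ ∈ F.1
    rw [(hfixall F y hy).eq, mul_inv_cancel_right]
    exact hy
  have hQnormal : Q.Normal := ⟨fun x hx g => by
    obtain ⟨h1, k, hk⟩ := (hQmem x).1 hx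
    exact (hQmem _).2 ⟨by rw [map_mul, map_mul, map_inv, h1, mul_one, mul_inv_cancel],
      k, by rw [conj_pow, hk, mul_one, mul_inv_cancel]⟩⟩
  -- the even elements
  have hker : ∀ x ∈ commutator G, χ x = 1 := fun x hx => Abelianization.commutator_subset_ker χ hx
  have hone : (Multiplicative.ofAdd 1 : Multiplicative (ZMod 2)) ≠ 1 := by decide
  have hLmem : ∀ x : G, χ x = 1 → x ∈ commutator G := by
    have hsame : ∀ x ∈ D, ∀ y ∈ D, x * y ∈ commutator G := by
      intro x hx y hy
      obtain ⟨g, rfl⟩ := hprim.1 x hx y hy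
      have h := Subgroup.commutator_mem_commutator (Subgroup.mem_top x) (Subgroup.mem_top g)
      rw [← commutator_def, commutatorElement_def, inv_eq hs hx] at h
      rwa [show x * (g * x * g⁻¹) = x * g * x * g⁻¹ by group]
    have hdich : ∀ g : G, g ∈ commutator G ∨ g * a ∈ commutator G := by
      intro g
      have hnorm : (commutator G).Normal := inferInstance
      have hg : g ∈ Subgroup.closure D := hD.2.2.symm ▸ Subgroup.mem_top g
      have haa := mul_self hs ha
      induction hg using Subgroup.closure_induction with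
      | mem y hy => exact Or.inr (hsame y hy a ha)
      | one => exact Or.inl (one_mem _)
      | mul p r _ _ hp hr =>
        rcases hp with hp | hp <;> rcases hr with hr | hr
        · exact Or.inl (mul_mem hp hr)
        · exact Or.inr (by rw [mul_assoc]; exact mul_mem hp hr)
        · refine Or.inr ?_
          have := mul_mem hp (hnorm.conj_mem r hr a)
          rwa [inv_eq hs ha, show p * a * (a * r * a) = p * (a * a) * r * a by simp [mul_assoc], haa,
            mul_one] at this
        · refine Or.inl ?_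
          have := mul_mem hp (hnorm.conj_mem (r * a) hr a)
          rwa [inv_eq hs ha, show p * a * (a * (r * a) * a) = p * (a * a) * r * (a * a) by simp [mul_assoc], haa,
            mul_one, mul_one] at this
      | inv p _ hp =>
        rcases hp with hp | hp
        · exact Or.inl (inv_mem hp)
        · refine Or.inr ?_
          have := hnorm.conj_mem _ (inv_mem hp) a
          rwa [mul_inv_rev, inv_eq hs ha, show a * (a * p⁻¹) * a = (a * a) * p⁻¹ * a by simp [mul_assoc], haa,
            one_mul] at this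
    intro x hx
    refine (hdich x).resolve_right fun h => hone ?_
    have h1 := hker _ h
    rwa [map_mul, hx, one_mul, hχ a ha] at h1
  set C := commutator G ⊓ Subgroup.centralizer ({z} : Set G) with hCdef
  let ι : ↥C →* ↥Cz := Subgroup.inclusion inf_le_right
  have hιinj : Function.Injective ι := Subgroup.inclusion_injective _
  let f : ↥C →* Equiv.Perm (Fr D z) := (act H.closed).comp ι
  have hin : ∀ u : Cz, χ (u : G) = 1 → u ∈ ι.range := fun u hu =>
    ⟨⟨u, hLmem _ hu, u.2⟩, rfl⟩
  have hQr : Q ≤ ι.range := fun u hu => hin u (heven u ((hQmem u).1 hu).1)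
  have hKr : (act H.closed (z := z)).ker ≤ ι.range := fun u hu => hin u (heven u hu)
  have hcomap : ∀ S : Subgroup Cz, S ≤ ι.range → Nat.card ↥(S.comap ι) = Nat.card S := fun S hS => by
    rw [← Subgroup.card_map_of_injective hιinj, Subgroup.map_comap_eq_self hS]
  set Q' := Q.comap ι with hQ'def
  set N := f.ker with hNdef
  set M := (Yd H.closed z).comap f with hMdef
  have hQ'card : Nat.card ↥Q' = 2 ^ 13 := (hcomap Q hQr).trans hQcard
  have hNcard : Nat.card ↥N = 3 * 2 ^ 13 := by
    rw [show N = (act H.closed (z := z)).ker.comap ι from rfl, hcomap _ hKr, hKc]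
  have hQN : Q' ≤ N := fun x hx => ((hQmem _).1 hx).1
  have hNM : N ≤ M := fun x hx => by
    show f x ∈ Yd H.closed z
    rw [show f x = 1 from hx]
    exact one_mem _
  -- the image
  have hYr : ∀ y ∈ Yd H.closed z, ∃ x : ↥C, f x = y := by
    intro y hy
    obtain ⟨u, hu, rfl⟩ := Yd_le_act H.closed hy
    obtain ⟨x, hx⟩ := hin u (Abelianization.commutator_subset_ker (χ.comp Cz.subtype) hu)
    exact ⟨x, congrArg (act H.closed) hx⟩
  let g : ↥M →* ↥(Yd H.closed z) := (f.comp M.subtype).codRestrict _ fun x => x.2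
  have hgsurj : Function.Surjective g := fun ⟨y, hy⟩ => by
    obtain ⟨x, rfl⟩ := hYr y hy
    exact ⟨⟨x, hy⟩, rfl⟩
  have hgker : g.ker = N.subgroupOf M := by
    ext x
    exact ⟨fun h => (congrArg Subtype.val h : f x = 1), fun h => Subtype.ext h⟩
  have hYcard := card_Yd H q.frame
  have hMcard : Nat.card ↥M = 3 * 2 ^ 13 * 3265920 := by
    rw [← card_ker_mul_range g, MonoidHom.range_eq_top.2 hgsurj, Subgroup.card_top, hgker,
      Nat.card_congr (Subgroup.subgroupOfEquivOfLe hNM).toEquiv, hNcard, hYcard]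
  have hCcard : Nat.card ↥C * 2 = 126 * (24 * (2 ^ 12 * 25920)) := by
    let χc : ↥Cz →* Multiplicative (ZMod 2) := χ.comp Cz.subtype
    have hr : χc.range = ⊤ := MonoidHom.range_eq_top.2 fun t => by
      have : t = 1 ∨ t = Multiplicative.ofAdd 1 := by revert t; decide
      rcases this with rfl | rfl
      · exact ⟨1, map_one _⟩
      · exact ⟨elt q.mem_frame, hχ a ha⟩
    have hk : χc.ker = ι.range := by
      refine le_antisymm (fun u hu => hin u hu) ?_
      rintro _ ⟨x, rfl⟩
      exact hker _ x.2.1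
    have h1 := card_ker_mul_range χc
    rw [hr, hk, Subgroup.card_top, hCz, ← Nat.card_congr (MonoidHom.ofInjective hιinj).toEquiv,
      show Nat.card (Multiplicative (ZMod 2)) = 2 from Nat.card_zmod 2] at h1
    exact h1
  have hindex : M.index = 2 := by
    have h1 := M.card_mul_index
    rw [hMcard] at h1
    norm_num at h1 hCcard
    omega
  -- the two-core
  haveI : Fact (Nat.Prime 2) := ⟨Nat.prime_two⟩
  have hQ'n : Q'.Normal := hQnormal.comap ι
  have hQ'p : IsPGroup 2 ↥Q' := IsPGroup.of_card hQ'card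
  have hcore : Cfsg.pCore 2 ↥C = Q' := by
    refine le_antisymm ?_ (CfsgLib.PCore.le_pCore hQ'n hQ'p)
    set P := Cfsg.pCore 2 ↥C with hP
    have hPn : P.Normal := Cfsg.pCore_normal 2 ↥C
    have hPp : IsPGroup 2 ↥P := CfsgLib.PCore.pCore_isPGroup
    haveI := simple_Yd H q.frame
    set T := ((P.map f) ⊓ Yd H.closed z).subgroupOf (Yd H.closed z) with hT
    haveI : T.Normal := ⟨fun n hn w => by
      obtain ⟨⟨p, hp, hpn⟩, hn2⟩ := hn
      obtain ⟨cw, hcw⟩ := hYr w w.2
      refine ⟨⟨cw * p * cw⁻¹, hPn.conj_mem p hp cw, ?_⟩, (w * n * w⁻¹).2⟩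
      rw [map_mul, map_mul, map_inv, hcw, hpn]
      rfl⟩
    have hT0 : T = ⊥ := (inferInstance : T.Normal).eq_bot_or_eq_top.resolve_right fun k => by
      have hle : Yd H.closed z ≤ P.map f := fun y hy =>
        (show (⟨y, hy⟩ : ↥(Yd H.closed z)) ∈ T from k ▸ Subgroup.mem_top _).1
      obtain ⟨i, hi⟩ := ((hPp.map f).to_le hle).exists_card_eq
      have h3 : 3 ∣ 2 ^ i := hi ▸ hYcard ▸ (by norm_num : 3 ∣ 3265920)
      exact absurd (Nat.prime_three.dvd_of_dvd_pow h3) (by norm_num)
    intro x hx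
    have h1 : f x = 1 := eq_one_of_commute H q.frame ⟨ι x, rfl⟩ fun y hy => by
      obtain ⟨cy, hcy⟩ := hYr y hy
      have hd : f x * y * (f x)⁻¹ * y⁻¹ ∈ Yd H.closed z :=
        mul_mem (Yd_conj H ⟨ι x, rfl⟩ hy) (inv_mem hy)
      have hd' : f x * y * (f x)⁻¹ * y⁻¹ ∈ P.map f := by
        refine ⟨x * (cy * x⁻¹ * cy⁻¹), mul_mem hx (hPn.conj_mem _ (inv_mem hx) cy), ?_⟩
        rw [map_mul, map_mul, map_mul, map_inv, map_inv, hcy]
        group
      have h2 : (⟨_, hd⟩ : ↥(Yd H.closed z)) ∈ T := ⟨hd', hd⟩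
      rw [hT0, Subgroup.mem_bot] at h2
      have h3 : f x * y * (f x)⁻¹ * y⁻¹ = 1 := congrArg Subtype.val h2
      rw [mul_inv_eq_one, mul_inv_eq_iff_eq_mul] at h3
      exact h3
    obtain ⟨k, hk⟩ := hPp ⟨x, hx⟩
    exact (hQmem _).2 ⟨h1, k, by rw [← map_pow, show x ^ (2 ^ k) = 1 from congrArg Subtype.val hk, map_one]⟩
  have hF : Cfsg.generalizedFittingSubgroup ↥C = Q' := by
    rw [CfsgLib.Components.generalizedFitting_eq_pCore_of_centralizer_le 2 ?_, hcore]
    rw [hcore]
    intro x hx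
    show ι x ∈ Q
    rcases hcentQ (ι x) fun u hu => by
        obtain ⟨u', rfl⟩ := hQr hu
        rw [← map_mul, ← map_mul, Subgroup.mem_centralizer_iff.1 hx u' hu] with k | k
    · rw [show ι x = 1 from Subtype.ext k]; exact one_mem Q
    · exact hzQ _ k
  -- extraspecial
  have hzz : z * z = 1 := IsProd.sq (n := 4) hs ⟨l, hnd, hlen, hmem, hcm, hprod⟩
  let zc : Cz := ⟨z, Subgroup.mem_centralizer_singleton_iff.2 rfl⟩
  obtain ⟨zC, hzC⟩ := hQr (hzQ zc rfl)
  have hzC' : (zC : G) = z := congrArg Subtype.val hzC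
  have hzC'' : zC ∈ Q' := by show ι zC ∈ Q; rw [hzC]; exact hzQ zc rfl
  set zQ : ↥Q' := ⟨zC, hzC''⟩ with hzQdef
  have hext : ∀ {x y : ↥Q'}, ((x : ↥C) : G) = ((y : ↥C) : G) → x = y := fun h => Subtype.ext (Subtype.ext h)
  have hact : ∀ x : ↥Q', act H.closed (ι x) = 1 := fun x => ((hQmem _).1 x.2).1
  have hex : Cfsg.IsExtraspecial 2 ↥Q' := by
    refine CfsgLib.Icosian.isExtraspecial_of_table hQ'p (z := zQ) ?_ ?_ ?_ ?_ ?_ ?_ ?_
    · intro h
      have h' : z = 1 := hzC'.symm.trans (congrArg (fun t : ↥Q' => ((t : ↥C) : G)) h)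
      exact H.rel 4 (by norm_num) (by norm_num) l hnd hlen hmem hcm (hprod.trans h')
    · exact hext (by show (zC : G) * zC = 1; rw [hzC', hzz])
    · exact fun x => hext (by
        show (zC : G) * _ = _ * (zC : G)
        rw [hzC']; exact (Subgroup.mem_centralizer_singleton_iff.1 x.1.2.2).symm)
    · intro x
      rcases hsmall (ι x * ι x) (by rw [map_mul, hact, one_mul])
        (fun F y hy => (hallfix _ x.2 _ x.2 F y hy).2) with k | k
      · exact Or.inl (hext k)
      · exact Or.inr (hext (k.trans hzC'.symm))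
    · intro x y
      rcases hsmall (ι x * ι y * (ι x)⁻¹ * (ι y)⁻¹) (by rw [map_mul, map_mul, map_mul, map_inv, map_inv, hact, hact]; simp)
        (fun F w hw => (hallfix _ x.2 _ y.2 F w hw).1) with k | k <;>
        change ((x : ↥C) : G) * (y : ↥C) * ((x : ↥C) : G)⁻¹ * ((y : ↥C) : G)⁻¹ = _ at k
      · refine Or.inl (hext ?_)
        rw [mul_inv_eq_one, mul_inv_eq_iff_eq_mul] at k
        exact k
      · refine Or.inr (hext ?_)
        show ((x : ↥C) : G) * (y : ↥C) = (zC : G) * (((y : ↥C) : G) * (x : ↥C))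
        rw [hzC', ← k]
        group
    · intro x hx
      rcases hcentQ (ι x) fun u hu => by
          obtain ⟨u', rfl⟩ := hQr hu
          rw [← map_mul, ← map_mul, show (x : ↥C) * u' = u' * x from congrArg Subtype.val (hx ⟨u', hu⟩)] with k | k
      · exact Or.inl (hext k)
      · exact Or.inr (hext (k.trans hzC'.symm))
    · by_contra! hall
      have hle : (Set.univ : Set ↥Q') ⊆ {1, zQ} := fun x _ => by
        rcases hcentQ (ι x) fun u hu => by
            obtain ⟨u', rfl⟩ := hQr hu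
            rw [← map_mul, ← map_mul, show (x : ↥C) * u' = u' * x from congrArg Subtype.val (hall x ⟨u', hu⟩)]
          with k | k
        · exact Or.inl (hext k)
        · exact Or.inr (hext (k.trans hzC'.symm))
      have h := (Set.ncard_le_ncard hle (Set.toFinite _)).trans (Set.ncard_insert_le _ _)
      rw [Set.ncard_univ, hQ'card, Set.ncard_singleton] at h
      norm_num at h
  obtain ⟨K, _, _, hK9, ⟨eY⟩⟩ := exists_equiv H q.frame
  refine ⟨Q', hQ'n, hF, hex, hQ'card, N, M, inferInstance, ⟨fun x hx w => ?_⟩, hQN, hNM,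
    by rw [hNcard, hQ'card], ⟨K, inferInstance, inferInstance, hK9, ⟨?_⟩⟩, hindex⟩
  · show f (w * x * w⁻¹) ∈ Yd H.closed z
    rw [map_mul, map_mul, map_inv]
    exact Yd_conj H ⟨ι w, rfl⟩ hx
  · exact ((QuotientGroup.quotientMulEquivOfEq hgker.symm).trans
      (QuotientGroup.quotientKerEquivOfSurjective g hgsurj)).trans eY

end Cfsg.Agent.S5467
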