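import Cfsg.Statements.S5468
import Cfsg.Agent.Lib.ThreeTrans.Tower.Hexad
import Cfsg.Agent.Lib.ClassicalGroups.UnitarySimple

set_option autoImplicit false
open Cfsg

namespace Cfsg.Agent.S5468
open CfsgLib.ThreeTrans CfsgLib.ThreeTrans.Tower

/-- Let G be a finite group with trivial centre generated by a conjugation-invariant set D of 3-transpositions on which it acts primitively, such that for some d in D the subgroup generated by the members of D other than d commuting with d has central largest normal 2- and 3-subgroups, and suppose G with D is of type M(23). Let d₁, d₂ be distinct commuting members of D, j = d₁ d₂, K the joint centralizer of d₁ and d₂ and C the centralizer of j. Then K has index 2 in C, the centre of K is the subgroup generated by d₁ and d₂, K is quasisimple with K modulo its centre isomorphic to the projective special unitary group of dimension 6 over the field with four elements, and C modulo the subgroup generated by d₁ and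 d₂ has trivial centre (so it is that unitary group extended by an outer involution). -/
theorem result {G : Type*} [Group G] [Finite G] {D : Set G} (hD : Cfsg.IsThreeTranspositionGroup D) (hprim : Cfsg.IsPrimitiveUnderConj D) (d₀ : G) (hd₀ : d₀ ∈ D) (h3 : Cfsg.pCore 3 ↥(Subgroup.closure {y : G | y ∈ D ∧ y ≠ d₀ ∧ Commute d₀ y}) ≤ Subgroup.center ↥(Subgroup.closure {y : G | y ∈ D ∧ y ≠ d₀ ∧ Commute d₀ y})) (h2 : Cfsg.pCore 2 ↥(Subgroup.closure {y : G | y ∈ D ∧ y ≠ d₀ ∧ Commute d₀ y}) ≤ Subgroup.center ↥(Subgroup.closure {y : G | y ∈ D ∧ y ≠ d₀ ∧ Commute d₀ y})) (h23 : Cfsg.IsOfTypeM23 G D) (d₁ d₂ : G) (h₁ : d₁ ∈ D) (h₂ : d₂ ∈ D) (hne : d₁ ≠ d₂) (hc : Commute d₁ d₂) (K C V : Subgroup G) (hK : K = Subgroup.centralizer ({d₁, d₂} : Set G)) (hC : C = Subgroup.centralizer ({d₁ * d₂} : Set G)) (hV : V = Subgroup.closure ({d₁, d₂} : Set G)) [hn : (V.subgroupOf C).Normal] : K ≤ C ∧ (K.subgroupOf C).index = 2 ∧ (Subgroup.center ↥K).map K.subtype = V ∧ Cfsg.IsQuasisimple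 ↥K ∧ (∃ (F : Type) (_ : Field F) (_ : Fintype F), Fintype.card F = 4 ∧ Nonempty (↥K ⧸ Subgroup.center ↥K ≃* Cfsg.PSU 6 F 2)) ∧ Subgroup.center (↥C ⧸ V.subgroupOf C) = ⊥ := by
  classical
  -- the tower
  have L := local23 hD hprim h23
  have good := good23 hD h23
  obtain ⟨d, -, -, -, hBd, hY22, -⟩ := bottom23 hD h23
  have hpY := prim22 hD hprim hBd hY22
  have LY := local22 hBd.img_group hpY hY22
  have S := stage_of_base hD hprim h23.1 LY hBd rfl
  obtain ⟨e₀, -, F, _, _, π₀, hB₀, -, -, hloc, -, hF⟩ := bottom22 hBd.img_group hY22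
  have SY := stage_of_base hBd.img_group hpY hY22.1 hloc hB₀ rfl
  have hline : LineClass (imgSet _ e₀ π₀) :=
    USix.lineClass hF hB₀.img_isThreeTranspositionSet hB₀.img_conj (hB₀.exists_img_ne (psu_six_noncomm hF))
  set E := imgSet D d (QuotientGroup.mk' (Subgroup.center (Hd D d)))
  have hs : Cfsg.IsThreeTranspositionSet D := hD.1
  have hd₂ : d₂ ∈ Dd D d₁ := ⟨h₂, Ne.symm hne, hc⟩
  have hd₁ : d₁ ∈ Dd D d₂ := Dd_symm h₁ hd₂
  obtain ⟨π, M⟩ := S.base d₁ h₁
  set e := phi π d₂ with he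
  have heE : e ∈ E := M.mem hd₂
  obtain ⟨π', M'⟩ := SY.base e heE
  let j : G := d₁ * d₂
  set P := Dd D d₁ ∩ Dd D d₂ with hP
  have hPK : ∀ g ∈ Subgroup.closure P, Commute g d₁ ∧ Commute g d₂ := by
    intro g hg
    induction hg using Subgroup.closure_induction with
    | mem y hy => exact ⟨hy.1.2.2.symm, hy.2.2.2.symm⟩
    | one => exact ⟨Commute.one_left _, Commute.one_left _⟩
    | mul p q _ _ hp hq => exact ⟨hp.1.mul_left hq.1, hp.2.mul_left hq.2⟩
    | inv p _ hp => exact ⟨hp.1.inv_left, hp.2.inv_left⟩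
  have hK' : ∀ g, g ∈ K ↔ Commute g d₁ ∧ Commute g d₂ := fun g => by
    rw [hK, Subgroup.mem_centralizer_iff]
    exact ⟨fun h => ⟨(h d₁ (by simp)).symm, (h d₂ (by simp)).symm⟩, fun h x hx => by
      rcases hx with rfl | rfl
      exacts [h.1.eq.symm, h.2.eq.symm]⟩
  have hphi : ∀ {y : G} (hy : y ∈ P), phi π y ∈ Dd E e := fun hy => (M.mem_Dd hd₂ hy.1).2 hy.2
  -- six members with product d₁
  have key1 : d₁ ∈ Subgroup.closure P ∧ ∃ l : List G, l.length = 6 ∧ (∀ x ∈ l, x ∈ P) ∧ l.prod = d₁ := by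
    obtain ⟨l, hlen, hnd, hmem, hcomm, hprod⟩ :=
      exists_six_perp SY (by norm_num) (by norm_num) hB₀ hline heE
    choose! f hf hfe using fun x (hx : x ∈ l) => M.onto (hmem x hx).1
    have hfP : ∀ x ∈ l, f x ∈ P := fun x hx => ⟨hf x hx, (M.mem_Dd hd₂ (hf x hx)).1 (by rw [hfe x hx]; exact hmem x hx)⟩
    obtain ⟨l', hl'⟩ := exists_lift_list (D := D) (a := d₁) (l.map f) (by
      intro x hx; obtain ⟨y, hy, rfl⟩ := List.mem_map.1 hx; exact hf y hy)
    have hmapπ : l'.map π = l := by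
      have h1 : l'.map π = (l.map f).map (phi π) := by
        rw [← hl', List.map_map]
        refine List.map_congr_left fun x hx => ?_
        obtain ⟨y, hy, hyx⟩ := List.mem_map.1 (hl' ▸ List.mem_map_of_mem (f := (Hd D d₁).subtype) hx)
        exact (phi_of_mem π (by rw [show (x : G) = f y from hyx.symm]; exact hf y hy)).symm
      rw [h1, List.map_map]
      exact (List.map_congr_left fun x hx => hfe x hx).trans (List.map_id _)
    have h1 : π l'.prod = 1 := by rw [map_list_prod, hmapπ, hprod]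
    have hval : ((l'.prod : Hd D d₁) : G) = (l.map f).prod := by rw [← hl', ← map_list_prod]; rfl
    have hprodf : (l.map f).prod = d₁ := by
      rcases S.kernel h₁ (commute_of_mem_Hd l'.prod.2) ((M.base.map_eq_one_iff' _).1 h1) with h | h
      · exfalso
        refine good.rel 6 le_rfl (by norm_num) (l.map f) (hnd.map_on fun x hx y hy hxy => by
          rw [← hfe x hx, ← hfe y hy, hxy]) (by simpa using hlen) ?_ ?_ (hval ▸ h)
        · intro x hx; obtain ⟨y, hy, rfl⟩ := List.mem_map.1 hx; exact (hfP y hy).1.1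
        · intro x hx y hy
          obtain ⟨u, hu, rfl⟩ := List.mem_map.1 hx
          obtain ⟨v, hv, rfl⟩ := List.mem_map.1 hy
          exact (M.comm (hf u hu) (hf v hv)).1 (by rw [hfe u hu, hfe v hv]; exact hcomm u hu v hv)
      · exact hval ▸ h
    refine ⟨hprodf ▸ list_prod_mem fun x hx => ?_, l.map f, by simpa using hlen, ?_, hprodf⟩
    · obtain ⟨y, hy, rfl⟩ := List.mem_map.1 hx; exact Subgroup.subset_closure (hfP y hy)
    · intro x hx; obtain ⟨y, hy, rfl⟩ := List.mem_map.1 hx; exact hfP y hy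
  obtain ⟨hd₁P, l₁, hl₁, hl₁P, hl₁prod⟩ := key1
  -- the swap
  obtain ⟨sw, hsw₁, hsw₂⟩ : ∃ g : G, g * d₁ * g⁻¹ = d₂ ∧ g * d₂ * g⁻¹ = d₁ := by
    obtain ⟨g, hg⟩ := hprim.1 d₁ h₁ d₂ h₂
    have hgd := conj_mem_Dd_conj S.closed g hd₂
    rw [hg] at hgd
    obtain ⟨h, hh, hhe⟩ := L.perp d₂ h₂ (g * d₂ * g⁻¹) hgd d₁ hd₁
    refine ⟨h * g, ?_, by rw [← hhe]; group⟩
    calc h * g * d₁ * (h * g)⁻¹ = h * (g * d₁ * g⁻¹) * h⁻¹ := by group
      _ = d₂ := by rw [hg, hh.eq, mul_inv_cancel_right]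
  have hswP : ∀ y ∈ P, sw * y * sw⁻¹ ∈ P := fun y hy =>
    ⟨hsw₂ ▸ conj_mem_Dd_conj S.closed sw hy.2, hsw₁ ▸ conj_mem_Dd_conj S.closed sw hy.1⟩
  have hd₂P : d₂ ∈ Subgroup.closure P := by
    rw [← hsw₁, ← hl₁prod, ← MulAut.conj_apply, map_list_prod]
    refine list_prod_mem fun x hx => ?_
    obtain ⟨y, hy, rfl⟩ := List.mem_map.1 hx
    exact Subgroup.subset_closure (hswP y (hl₁P y hy))
  have hKP : K = Subgroup.closure P := by
    refine le_antisymm (fun g hg => ?_) fun g hg => (hK' g).2 (hPK g hg)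
    obtain ⟨hg1, hg2⟩ := (hK' g).1 hg
    have h := S.stab₂ h₁ hd₂ (L.stab d₁ h₁ g hg1) hg2
    refine (Subgroup.closure_le _).2 ?_ h
    rintro y ⟨⟨hy, c1⟩, -, c2⟩
    by_cases e1 : y = d₁
    · exact e1 ▸ hd₁P
    by_cases e2 : y = d₂
    · exact e2 ▸ hd₂P
    exact Subgroup.subset_closure ⟨⟨hy, e1, c1⟩, hy, e2, c2⟩
  subst hKP
  set H := Subgroup.closure P with hH
  have hVK : V ≤ H := by
    rw [hV, Subgroup.closure_le]; rintro x (rfl | rfl); exacts [hd₁P, hd₂P]
  have hHd : H ≤ Hd D d₁ := Subgroup.closure_mono Set.inter_subset_left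
  have hin : ∀ x : H, π (Subgroup.inclusion hHd x) ∈ Hd E e := by
    rintro ⟨x, hx⟩
    induction hx using Subgroup.closure_induction with
    | mem y hy =>
      refine Subgroup.subset_closure ?_
      rw [← phi_of_mem π (x := Subgroup.inclusion hHd ⟨y, Subgroup.subset_closure hy⟩) hy.1]
      exact hphi hy
    | one => exact (map_one π) ▸ one_mem _
    | mul p q hp' hq' hp hq =>
      have := mul_mem hp hq
      rwa [← map_mul, ← map_mul] at this
    | inv p hp' hp =>
      have := inv_mem hp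
      rwa [← map_inv, ← map_inv] at this
  let ψ : H →* Cfsg.PSU 6 F 2 := π'.comp ((π.comp (Subgroup.inclusion hHd)).codRestrict _ hin)
  have hψ : Function.Surjective ψ := by
    intro t
    obtain ⟨⟨u, hu⟩, rfl⟩ := M'.base.surj t
    suffices ∃ x : H, π (Subgroup.inclusion hHd x) = u by
      obtain ⟨x, hx⟩ := this
      exact ⟨x, congrArg π' (Subtype.ext hx)⟩
    induction hu using Subgroup.closure_induction with
    | mem z hz =>
      obtain ⟨y, hy, rfl⟩ := M.onto hz.1
      have hyP : y ∈ P := ⟨hy, (M.mem_Dd hd₂ hy).1 hz⟩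
      exact ⟨⟨y, Subgroup.subset_closure hyP⟩, (phi_of_mem π (x := Subgroup.inclusion hHd ⟨y, Subgroup.subset_closure hyP⟩) hy).symm⟩
    | one => exact ⟨1, by simp⟩
    | mul p q _ _ hp hq =>
      obtain ⟨x, rfl⟩ := hp
      obtain ⟨y, rfl⟩ := hq
      exact ⟨x * y, by rw [map_mul, map_mul]⟩
    | inv p _ hp =>
      obtain ⟨x, rfl⟩ := hp
      exact ⟨x⁻¹, by rw [map_inv, map_inv]⟩
  have hV1 : d₁ ∈ V := hV ▸ Subgroup.subset_closure (by simp)
  have hV2 : d₂ ∈ V := hV ▸ Subgroup.subset_closure (by simp)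
  have hVcen : ∀ x : H, (x : G) ∈ V → x ∈ Subgroup.center H := by
    intro x hx
    rw [Subgroup.mem_center_iff]
    intro y
    refine Subtype.ext ?_
    show Commute (y : G) x
    obtain ⟨c1, c2⟩ := hPK _ y.2
    rw [hV] at hx
    generalize (x : G) = z at hx ⊢
    induction hx using Subgroup.closure_induction with
    | mem z hz => rcases hz with rfl | rfl; exacts [c1, c2]
    | one => exact Commute.one_right _
    | mul p q _ _ hp hq => exact hp.mul_right hq
    | inv p _ hp => exact hp.inv_right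
  have hkerψ : ∀ x : H, ψ x = 1 → (x : G) ∈ V := by
    intro x hx
    have hd1 := commute_of_mem_Hd (hHd x.2)
    have h2 := (M'.base.map_eq_one_iff' _).1 hx
    have hec : Commute (π (Subgroup.inclusion hHd x)) e := by
      rw [he, phi_of_mem π (x := ⟨d₂, Subgroup.subset_closure hd₂⟩) hd₂]
      exact Commute.map (show Commute (Subgroup.inclusion hHd x) ⟨d₂, _⟩ from Subtype.ext (hPK _ x.2).2) π
    rcases SY.kernel heE hec h2 with h3 | h3
    · rcases S.kernel h₁ hd1 ((M.base.map_eq_one_iff' _).1 h3) with h4 | h4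
      · exact h4 ▸ one_mem _
      · exact h4 ▸ hV1
    · have h4 : π (Subgroup.inclusion hHd x * ⟨d₂, Subgroup.subset_closure hd₂⟩) = 1 := by
        rw [map_mul, h3, ← phi_of_mem π (x := ⟨d₂, Subgroup.subset_closure hd₂⟩) hd₂, ← he,
          mul_self SY.threeSet heE]
      have e2 : (x : G) = ((Subgroup.inclusion hHd x * ⟨d₂, Subgroup.subset_closure hd₂⟩ : Hd D d₁) : G) * d₂ := by
        simp [mul_assoc, mul_self hs h₂]
      rw [e2]
      rcases S.kernel h₁ (commute_of_mem_Hd (Subgroup.inclusion hHd x * ⟨d₂, _⟩ : Hd D d₁).2)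
        ((M.base.map_eq_one_iff' _).1 h4) with h5 | h5 <;> rw [h5]
      exacts [(one_mul d₂).symm ▸ hV2, mul_mem hV1 hV2]
  have hcenK : ∀ x : H, x ∈ Subgroup.center H ↔ (x : G) ∈ V := by
    refine fun x => ⟨fun hx => hkerψ x ?_, hVcen x⟩
    have : ψ x ∈ Subgroup.center (Cfsg.PSU 6 F 2) := Subgroup.mem_center_iff.2 fun t => by
      obtain ⟨y, rfl⟩ := hψ t
      rw [← map_mul, ← map_mul, Subgroup.mem_center_iff.1 hx y]
    rwa [psu_six_center hF, Subgroup.mem_bot] at this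
  have hker : ψ.ker = Subgroup.center H := by
    ext x
    refine ⟨fun hx => hVcen x (hkerψ x hx), fun hx => ?_⟩
    have : ψ x ∈ Subgroup.center (Cfsg.PSU 6 F 2) := Subgroup.mem_center_iff.2 fun t => by
      obtain ⟨y, rfl⟩ := hψ t
      rw [← map_mul, ← map_mul, Subgroup.mem_center_iff.1 hx y]
    rwa [psu_six_center hF, Subgroup.mem_bot] at this
  let iso : H ⧸ Subgroup.center H ≃* Cfsg.PSU 6 F 2 :=
    (QuotientGroup.quotientMulEquivOfEq hker.symm).trans (QuotientGroup.quotientKerEquivOfSurjective ψ hψ)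
  haveI hsimp : IsSimpleGroup (Cfsg.PSU 6 F 2) :=
    CfsgLib.ClassicalGroups.psu_isSimpleGroup hF (by norm_num) (by norm_num)
  -- membership in C
  have hCmem : ∀ g, g ∈ C ↔ Commute g (d₁ * d₂) := fun g => by
    rw [hC, Subgroup.mem_centralizer_singleton_iff]; rfl
  have hKC : H ≤ C := fun g hg => (hCmem g).2 ((hPK g hg).1.mul_right (hPK g hg).2)
  have hswC : sw ∈ C := (hCmem sw).2 (mul_inv_eq_iff_eq_mul.1 (by
    calc sw * (d₁ * d₂) * sw⁻¹ = sw * d₁ * sw⁻¹ * (sw * d₂ * sw⁻¹) := by group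
      _ = d₁ * d₂ := by rw [hsw₁, hsw₂, hc.eq]))
  have hcases : ∀ g ∈ C, g ∈ H ∨ (g * d₁ * g⁻¹ = d₂ ∧ g * d₂ * g⁻¹ = d₁) := by
    intro g hg
    have e1 : g * d₁ * g⁻¹ * (g * d₂ * g⁻¹) = d₁ * d₂ := by
      calc g * d₁ * g⁻¹ * (g * d₂ * g⁻¹) = g * (d₁ * d₂) * g⁻¹ := by group
        _ = d₁ * d₂ := by rw [((hCmem g).1 hg).eq, mul_inv_cancel_right]
    rcases pair_unique hs (good.rel 4 (by norm_num) (by norm_num)) h₁ h₂ hne hc (hD.2.1 g d₁ h₁)
      (hD.2.1 g d₂ h₂) ((commute_conj_iff g d₁ d₂).2 hc) e1 with ⟨u, v⟩ | h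
    · exact Or.inl ((hK' g).2 ⟨mul_inv_eq_iff_eq_mul.1 u, mul_inv_eq_iff_eq_mul.1 v⟩)
    · exact Or.inr h
  have hswH : sw ∉ H := fun h => hne (by
    rw [← hsw₁, (hPK sw h).1.eq, mul_inv_cancel_right])
  refine ⟨hKC, ?_, ?_, ⟨?_, iso.isSimpleGroup⟩, ⟨F, inferInstance, inferInstance,
    by rw [hF]; norm_num, ⟨iso⟩⟩, ?_⟩
  · rw [Subgroup.index_eq_two_iff_exists_notMem_and]
    refine ⟨⟨sw, hswC⟩, hswH, fun ⟨g, hg⟩ => ?_⟩
    show g * sw ∈ H ∨ g ∈ H
    rcases hcases g hg with h | ⟨u, v⟩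
    · exact Or.inr h
    · refine Or.inl ((hK' _).2 ⟨mul_inv_eq_iff_eq_mul.1 ?_, mul_inv_eq_iff_eq_mul.1 ?_⟩)
      · calc g * sw * d₁ * (g * sw)⁻¹ = g * (sw * d₁ * sw⁻¹) * g⁻¹ := by group
          _ = d₁ := by rw [hsw₁, v]
      · calc g * sw * d₂ * (g * sw)⁻¹ = g * (sw * d₂ * sw⁻¹) * g⁻¹ := by group
          _ = d₂ := by rw [hsw₂, u]
  · ext x
    constructor
    · rintro ⟨y, hy, rfl⟩; exact (hcenK y).1 hy
    · intro hx; exact ⟨⟨x, hVK hx⟩, (hcenK _).2 hx, rfl⟩
  · rw [Group.isPerfect_def]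
    set N := commutator H
    -- all generators have one image in the abelian quotient
    have hconj : ∀ y ∈ P, ∀ y' ∈ P, ∃ x : H, (x : G) * y * (x : G)⁻¹ = y' := by
      intro y hy y' hy'
      obtain ⟨z, hz, hz', -, -, -⟩ : ∃ z, Commute z e ∧ z * phi π y * z⁻¹ = phi π y' ∧ True ∧ True ∧ True := by
        obtain ⟨z, hz, hz'⟩ := LY.perp e heE _ (hphi hy) _ (hphi hy')
        exact ⟨z, hz, hz', trivial, trivial, trivial⟩
      obtain ⟨u, hu⟩ := Model.Kc_decomp SY.threeSet heE (LY.stab e heE z hz)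
      obtain ⟨x, hx⟩ := hψ (π' u)
      refine ⟨x, M.inj (M.conj_mem (Subgroup.inclusion hHd x) hy.1) hy'.1 ?_⟩
      rw [show (x : G) = ((Subgroup.inclusion hHd x : Hd D d₁) : G) from rfl, M.phi_conj _ hy.1]
      have hconjx : π (Subgroup.inclusion hHd x) * phi π y * (π (Subgroup.inclusion hHd x))⁻¹ =
          u.1 * phi π y * u.1⁻¹ := by
        refine M'.inj (M'.conj_mem ⟨_, hin x⟩ (hphi hy)) (M'.conj_mem u (hphi hy)) ?_
        rw [M'.phi_conj ⟨_, hin x⟩ (hphi hy), M'.phi_conj u (hphi hy)]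
        exact congrArg (fun t => t * phi π' (phi π y) * t⁻¹) hx
      rw [hconjx, ← hz']
      rcases hu with e1 | e1 <;> rw [e1]
      have hec : Commute e (u.1 * phi π y * u.1⁻¹) := (M'.conj_mem u (hphi hy)).2.2
      calc _ = e * (u.1 * phi π y * u.1⁻¹) * e⁻¹ := by rw [hec.eq, mul_inv_cancel_right]
        _ = _ := by group
    have hsq : ∀ y : H, (y : G) ∈ D → Abelianization.of y * Abelianization.of y = 1 := fun y hy => by
      rw [← map_mul, show y * y = 1 from Subtype.ext (mul_self hs hy), map_one]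
    have hsame : ∀ y y' : H, (y : G) ∈ P → (y' : G) ∈ P → Abelianization.of y = Abelianization.of y' := by
      intro y y' hy hy'
      obtain ⟨x, hx⟩ := hconj _ hy _ hy'
      rw [show y' = x * y * x⁻¹ from Subtype.ext hx.symm, map_mul, map_mul, map_inv, mul_comm (Abelianization.of x),
        mul_inv_cancel_right]
    have hsix : ∀ (x : H) (l : List G), l.length = 6 → (∀ y ∈ l, y ∈ P) → l.prod = (x : G) → x ∈ N := by
      intro x l hlen hl hprod
      obtain ⟨l', hl'⟩ : ∃ l' : List H, l'.map H.subtype = l :=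
        ⟨l.attach.map fun y => ⟨y.1, Subgroup.subset_closure (hl y.1 y.2)⟩, by
          rw [List.map_map]; exact l.attach_map_subtype_val⟩
      have hx : x = l'.prod := Subtype.ext (by rw [← hprod, ← hl', ← map_list_prod]; rfl)
      have hlen' : l'.length = 6 := by rw [← hlen, ← hl', List.length_map]
      have hl'' : ∀ y ∈ l', (y : G) ∈ P := fun y hy => hl _ (hl' ▸ List.mem_map_of_mem (f := H.subtype) hy)
      rw [show N = (Abelianization.of (G := H)).ker from (Abelianization.ker_of H).symm, MonoidHom.mem_ker, hx,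
        map_list_prod]
      match l', hlen', hl'' with
      | a :: r, hr, hr' =>
        rw [List.prod_eq_pow_card _ (Abelianization.of a) (fun t ht => by
          obtain ⟨y, hy, rfl⟩ := List.mem_map.1 ht
          exact hsame y a (hr' y hy) (hr' a List.mem_cons_self)), List.length_map, hr,
          show (6 : ℕ) = 2 * 3 from rfl, pow_mul, sq, hsq a (hr' a List.mem_cons_self).1.1, one_pow]
    have hN1 : (⟨d₁, hd₁P⟩ : H) ∈ N := hsix _ l₁ hl₁ hl₁P hl₁prod
    have hN2 : (⟨d₂, hd₂P⟩ : H) ∈ N := hsix _ (l₁.map fun y => sw * y * sw⁻¹) (by simpa using hl₁)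
      (fun y hy => by obtain ⟨z, hz, rfl⟩ := List.mem_map.1 hy; exact hswP z (hl₁P z hz))
      (by show _ = d₂; rw [← hsw₁, ← hl₁prod, ← MulAut.conj_apply, map_list_prod]; rfl)
    have hcenN : Subgroup.center H ≤ N := by
      intro x hx
      have hxV := (hcenK x).1 hx
      obtain ⟨xv, hxH⟩ := x
      change xv ∈ V at hxV
      have : ∀ z ∈ V, ∃ hz : z ∈ H, (⟨z, hz⟩ : H) ∈ N := by
        intro z hz
        rw [hV] at hz
        induction hz using Subgroup.closure_induction with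
        | mem w hw => rcases hw with rfl | rfl; exacts [⟨hd₁P, hN1⟩, ⟨hd₂P, hN2⟩]
        | one => exact ⟨one_mem _, one_mem N⟩
        | mul p q _ _ hp hq => exact ⟨mul_mem hp.1 hq.1, mul_mem hp.2 hq.2⟩
        | inv p _ hp => exact ⟨inv_mem hp.1, inv_mem hp.2⟩
      exact (this _ hxV).2
    have hmap : N.map ψ = ⊤ := by
      rw [show N = commutator H from rfl, commutator_def, Subgroup.map_commutator,
        Subgroup.map_top_of_surjective ψ hψ, ← commutator_def]
      rcases (Subgroup.commutator_normal (⊤ : Subgroup (Cfsg.PSU 6 F 2)) ⊤).eq_bot_or_eq_top with h | h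
      · obtain ⟨a, b, hab⟩ := psu_six_noncomm hF
        exact absurd (commutatorElement_eq_one_iff_mul_comm.1 (Subgroup.mem_bot.1
          (h ▸ Subgroup.commutator_mem_commutator (Subgroup.mem_top a) (Subgroup.mem_top b)))) hab
      · exact h
    rw [← Subgroup.comap_map_eq_self (f := ψ) (H := N) (hker ▸ hcenN), hmap, Subgroup.comap_top]
  · rw [eq_bot_iff]
    intro q hq
    obtain ⟨⟨z, hzC⟩, rfl⟩ := QuotientGroup.mk_surjective q
    rw [Subgroup.mem_bot, QuotientGroup.eq_one_iff]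
    show z ∈ V
    have hcom : ∀ k : G, k ∈ H → (k * z)⁻¹ * (z * k) ∈ V := fun k hk => by
      have h := Subgroup.mem_center_iff.1 hq (QuotientGroup.mk ⟨k, hKC hk⟩)
      rw [← QuotientGroup.mk_mul, ← QuotientGroup.mk_mul, QuotientGroup.eq] at h
      exact h
    have hfix : ∀ y ∈ P, z * y * z⁻¹ = y := by
      intro y hy
      have hv := hcom y (Subgroup.subset_closure hy)
      set v := (y * z)⁻¹ * (z * y) with hvdef
      have hzH : z * y * z⁻¹ ∈ P := by
        rcases hcases z hzC with h | ⟨u, w⟩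
        · have c := hPK z h
          exact ⟨(show z * d₁ * z⁻¹ = d₁ by rw [c.1.eq, mul_inv_cancel_right]) ▸ conj_mem_Dd_conj S.closed z hy.1,
            (show z * d₂ * z⁻¹ = d₂ by rw [c.2.eq, mul_inv_cancel_right]) ▸ conj_mem_Dd_conj S.closed z hy.2⟩
        · exact ⟨w ▸ conj_mem_Dd_conj S.closed z hy.2, u ▸ conj_mem_Dd_conj S.closed z hy.1⟩
      have e1 : z * y * z⁻¹ = y * (z * v * z⁻¹) := by rw [hvdef]; group
      have hv' : z * v * z⁻¹ ∈ V := hn.conj_mem ⟨v, hKC (hVK hv)⟩ hv ⟨z, hzC⟩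
      have hψe : ψ ⟨_, Subgroup.subset_closure hzH⟩ = ψ ⟨y, Subgroup.subset_closure hy⟩ := by
        rw [show (⟨z * y * z⁻¹, Subgroup.subset_closure hzH⟩ : H) =
          ⟨y, Subgroup.subset_closure hy⟩ * ⟨z * v * z⁻¹, hVK hv'⟩ from Subtype.ext e1, map_mul,
          MonoidHom.mem_ker.1 (hker.symm ▸ hVcen ⟨_, hVK hv'⟩ hv' : (⟨z * v * z⁻¹, hVK hv'⟩ : H) ∈ ψ.ker), mul_one]
      have hψy : ∀ {w : G} (hw : w ∈ P), ψ ⟨w, Subgroup.subset_closure hw⟩ = phi π' (phi π w) := fun {w} hw => by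
        have h' := hphi hw
        rw [phi_of_mem π (x := ⟨w, hHd (Subgroup.subset_closure hw)⟩) hw.1] at h'
        rw [phi_of_mem π (x := ⟨w, hHd (Subgroup.subset_closure hw)⟩) hw.1]
        exact (phi_of_mem π' (x := ⟨_, hin ⟨w, Subgroup.subset_closure hw⟩⟩) h').symm
      rw [hψy hzH, hψy hy] at hψe
      exact M.inj hzH.1 hy.1 (M'.inj (hphi hzH) (hphi hy) hψe)
    rcases hcases z hzC with hzH | ⟨hz1, -⟩
    · refine hkerψ ⟨z, hzH⟩ (MonoidHom.mem_ker.1 (hker.symm ▸ ?_))
      refine Subgroup.mem_center_iff.2 fun w => Subtype.ext ?_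
      show Commute (w : G) z
      obtain ⟨w, hw⟩ := w
      induction hw using Subgroup.closure_induction with
      | mem y hy => exact (mul_inv_eq_iff_eq_mul.1 (hfix y hy)).symm
      | one => exact Commute.one_left _
      | mul p q _ _ hp hq => exact hp.mul_left hq
      | inv p _ hp => exact hp.inv_left
    · exfalso
      refine hne ?_
      rw [← hz1, ← hl₁prod, ← MulAut.conj_apply, map_list_prod]
      congr 1
      exact (List.map_congr_left fun y hy => hfix y (hl₁P y hy)).trans (List.map_id _) |>.symm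

end Cfsg.Agent.S5468
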