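import Cfsg.Statements.S5470
import Cfsg.Agent.S5463
import Cfsg.Agent.Lib.ThreeTrans.Tower.Orders
-- import your own Cfsg.Agent.* helpers here

set_option autoImplicit false
open Cfsg

namespace Cfsg.Agent.S5470

open CfsgLib.ThreeTrans CfsgLib.ThreeTrans.Tower in
theorem three_centralizer {G : Type*} [Group G] [Finite G] {D : Set G} (hD : Cfsg.IsThreeTranspositionGroup D)
    (hprim : Cfsg.IsPrimitiveUnderConj D) (h22 : Cfsg.IsOfTypeM22 G D)
    (h5463 : ∀ (j : G) (l₀ : List G), (l₀.Nodup ∧ l₀.length = 3 ∧ (∀ a ∈ l₀, a ∈ D) ∧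
        (∀ a ∈ l₀, ∀ b ∈ l₀, Commute a b) ∧ l₀.prod = j) → ∃ l₁ l₂ : List G,
      (l₁.Nodup ∧ l₁.length = 3 ∧ (∀ a ∈ l₁, a ∈ D) ∧ (∀ a ∈ l₁, ∀ b ∈ l₁, Commute a b) ∧ l₁.prod = j) ∧
      (l₂.Nodup ∧ l₂.length = 3 ∧ (∀ a ∈ l₂, a ∈ D) ∧ (∀ a ∈ l₂, ∀ b ∈ l₂, Commute a b) ∧ l₂.prod = j) ∧
      ¬ (∀ x : G, x ∈ l₁ ↔ x ∈ l₂) ∧ ∀ l : List G, (l.Nodup ∧ l.length = 3 ∧ (∀ a ∈ l, a ∈ D) ∧
        (∀ a ∈ l, ∀ b ∈ l, Commute a b) ∧ l.prod = j) → ((∀ x : G, x ∈ l ↔ x ∈ l₁) ∨ (∀ x : G, x ∈ l ↔ x ∈ l₂)))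
    {d₁ d₂ d₃ : G} (hd : d₁ ∈ D ∧ d₂ ∈ Dd D d₁ ∧ d₃ ∈ Dd D d₁ ∧ d₃ ∈ Dd D d₂) :
    Nat.card ↥(Subgroup.centralizer ({d₁ * d₂ * d₃} : Set G)) = 2 ^ 16 * 3 ^ 3 := by
  classical
  obtain ⟨hC, hG⟩ := orders22 hD hprim h22
  obtain ⟨d, c, F, _, _, π, hB, hc, hdc, hloc, -, hF⟩ := bottom22 hD h22
  have S := stage_of_base hD hprim h22.1 hloc hB rfl
  have L := local22 hD hprim h22
  haveI := Fintype.ofFinite G
  set T : Finset (G × G × G) :=
    {p : G × G × G | p.1 ∈ D ∧ p.2.1 ∈ Dd D p.1 ∧ p.2.2 ∈ Dd D p.1 ∩ Dd D p.2.1}.toFinset with hT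
  have hTc : T.card = 3510 * 693 * 180 := by
    rw [hT, ← Set.ncard_eq_toFinset_card', ncard_triples L]
  let f : G × G × G → G := fun p => p.1 * p.2.1 * p.2.2
  set x := d₁ * d₂ * d₃
  set P : Finset G := (MulAction.orbit (ConjAct G) x).toFinset with hP
  have hlist : ∀ p ∈ T, [p.1, p.2.1, p.2.2].Nodup ∧ [p.1, p.2.1, p.2.2].length = 3 ∧
      (∀ a ∈ [p.1, p.2.1, p.2.2], a ∈ D) ∧
      (∀ a ∈ [p.1, p.2.1, p.2.2], ∀ b ∈ [p.1, p.2.1, p.2.2], Commute a b) ∧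
      [p.1, p.2.1, p.2.2].prod = f p := by
    intro p hp
    rw [hT, Set.mem_toFinset] at hp
    obtain ⟨ha, hb, hc1, hc2⟩ := hp
    refine ⟨by simp [Ne.symm hb.2.1, Ne.symm hc1.2.1, Ne.symm hc2.2.1], rfl, ?_, ?_, by simp [f, mul_assoc]⟩
    · simp only [List.mem_cons, List.not_mem_nil, or_false]
      rintro a (rfl | rfl | rfl)
      exacts [ha, hb.1, hc1.1]
    · simp only [List.mem_cons, List.not_mem_nil, or_false]
      rintro a (rfl | rfl | rfl) b (rfl | rfl | rfl) <;>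
        first | exact Commute.refl _ | exact hb.2.2 | exact hb.2.2.symm | exact hc1.2.2 | exact hc1.2.2.symm |
          exact hc2.2.2 | exact hc2.2.2.symm
  have hmaps : ∀ p ∈ T, f p ∈ P := by
    intro p hp
    rw [hT, Set.mem_toFinset] at hp
    obtain ⟨g, e1, e2, e3⟩ := triple_transitive S L hd.1 hd.2.1 ⟨hd.2.2.1, hd.2.2.2⟩ hp.1 hp.2.1 hp.2.2
    rw [hP, Set.mem_toFinset]
    refine ⟨ConjAct.toConjAct g, ?_⟩
    show ConjAct.toConjAct g • x = f p
    rw [ConjAct.smul_def, ConjAct.ofConjAct_toConjAct]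
    show g * (d₁ * d₂ * d₃) * g⁻¹ = p.1 * p.2.1 * p.2.2
    rw [← e1, ← e2, ← e3]
    group
  have hfib : ∀ j ∈ P, (T.filter fun p => f p = j).card = 12 := by
    intro j hj
    rw [hP, Set.mem_toFinset] at hj
    obtain ⟨g, hg⟩ := hj
    have hj' : j = ConjAct.ofConjAct g * x * (ConjAct.ofConjAct g)⁻¹ := hg.symm.trans (ConjAct.smul_def g x)
    set h := ConjAct.ofConjAct g
    have hp₀ : (h * d₁ * h⁻¹, h * d₂ * h⁻¹, h * d₃ * h⁻¹) ∈ T := by
      rw [hT, Set.mem_toFinset]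
      exact ⟨hD.2.1 _ _ hd.1, conj_mem_Dd_conj S.closed h hd.2.1, conj_mem_Dd_conj S.closed h hd.2.2.1,
        conj_mem_Dd_conj S.closed h hd.2.2.2⟩
    obtain ⟨n₀, l₀, m₀, c₀, q₀⟩ := hlist _ hp₀
    obtain ⟨l₁, l₂, hl₁, hl₂, hne, hall⟩ := h5463 j _
      ⟨n₀, l₀, m₀, c₀, q₀.trans (by rw [hj']; simp [f, x, mul_assoc])⟩
    have six : ∀ l : List G, (l.Nodup ∧ l.length = 3 ∧ (∀ a ∈ l, a ∈ D) ∧ (∀ a ∈ l, ∀ b ∈ l, Commute a b) ∧
        l.prod = j) → ∃ A : Finset (G × G × G), A.card = 6 ∧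
          ∀ p, p ∈ A ↔ p ∈ T ∧ f p = j ∧ ∀ y, y ∈ [p.1, p.2.1, p.2.2] ↔ y ∈ l := by
      rintro l ⟨hnd, hlen, hmem, hcomm, hprod⟩
      let v : Fin 3 → G := fun i => l.get (i.cast hlen.symm)
      have hv : Function.Injective v := fun i i' h =>
        Fin.cast_injective _ (hnd.injective_get h)
      have hvmem : ∀ i, v i ∈ l := fun i => List.get_mem l _
      let F : Equiv.Perm (Fin 3) → G × G × G := fun σ => (v (σ 0), v (σ 1), v (σ 2))
      have hFinj : Function.Injective F := fun σ τ h => by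
        simp only [F, Prod.mk.injEq] at h
        refine Equiv.ext fun i => ?_
        fin_cases i
        exacts [hv h.1, hv h.2.1, hv h.2.2]
      refine ⟨Finset.univ.image F, by rw [Finset.card_image_of_injective _ hFinj]; rfl, fun p => ?_⟩
      constructor
      · intro hp
        obtain ⟨σ, -, rfl⟩ := Finset.mem_image.1 hp
        have hsub : ∀ y, y ∈ [v (σ 0), v (σ 1), v (σ 2)] ↔ y ∈ l := by
          intro y
          constructor
          · simp only [List.mem_cons, List.not_mem_nil, or_false]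
            rintro (rfl | rfl | rfl) <;> exact hvmem _
          · intro hy
            obtain ⟨i, rfl⟩ := List.mem_iff_get.1 hy
            obtain ⟨k, hk⟩ := σ.surjective (i.cast hlen)
            have : v (σ k) = l.get i := by rw [hk]; rfl
            rw [← this]
            fin_cases k <;> simp
        have hmem' : ∀ i, v i ∈ D := fun i => hmem _ (hvmem i)
        have hne' : ∀ {i i' : Fin 3}, i ≠ i' → v (σ i) ≠ v (σ i') := fun h e => h (σ.injective (hv e))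
        have hT' : F σ ∈ T := by
          rw [hT, Set.mem_toFinset]
          exact ⟨hmem' _, ⟨hmem' _, hne' (by decide), hcomm _ (hvmem _) _ (hvmem _)⟩,
            ⟨hmem' _, hne' (by decide), hcomm _ (hvmem _) _ (hvmem _)⟩,
            hmem' _, hne' (by decide), hcomm _ (hvmem _) _ (hvmem _)⟩
        refine ⟨hT', ?_, hsub⟩
        obtain ⟨hn, -, -, hc', hp'⟩ := hlist _ hT'
        rw [← hp', ← hprod]
        exact ((List.perm_ext_iff_of_nodup hn hnd).2 hsub).prod_eq'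
          (List.pairwise_iff_getElem.2 fun i k hi hk _ => hc' _ (List.getElem_mem hi) _ (List.getElem_mem hk))
      · rintro ⟨hp, -, hiff⟩
        have hi : ∀ y ∈ [p.1, p.2.1, p.2.2], ∃ i, v i = y := fun y hy => by
          obtain ⟨i, rfl⟩ := List.mem_iff_get.1 ((hiff y).1 hy)
          exact ⟨i.cast hlen, rfl⟩
        obtain ⟨i₀, e₀⟩ := hi p.1 (by simp)
        obtain ⟨i₁, e₁⟩ := hi p.2.1 (by simp)
        obtain ⟨i₂, e₂⟩ := hi p.2.2 (by simp)
        have hn := (hlist _ hp).1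
        rw [← e₀, ← e₁, ← e₂] at hn
        simp [hv.eq_iff] at hn
        have hinj : Function.Injective ![i₀, i₁, i₂] := by
          intro a b
          obtain ⟨⟨n01, n02⟩, n12⟩ := hn
          fin_cases a <;> fin_cases b <;> simp [n01, n02, n12, Ne.symm n01, Ne.symm n02, Ne.symm n12]
        refine Finset.mem_image.2 ⟨Equiv.ofBijective _ (Finite.injective_iff_bijective.1 hinj), Finset.mem_univ _, ?_⟩
        show (v i₀, v i₁, v i₂) = p
        rw [e₀, e₁, e₂]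
    obtain ⟨A₁, hA₁, hm₁⟩ := six l₁ hl₁
    obtain ⟨A₂, hA₂, hm₂⟩ := six l₂ hl₂
    have e : T.filter (fun p => f p = j) = A₁ ∪ A₂ := by
      ext p
      rw [Finset.mem_filter, Finset.mem_union, hm₁, hm₂]
      constructor
      · rintro ⟨hp, hpj⟩
        obtain ⟨hn, hl, hm, hc', hp'⟩ := hlist p hp
        exact (hall _ ⟨hn, hl, hm, hc', hp'.trans hpj⟩).imp (fun h => ⟨hp, hpj, h⟩) fun h => ⟨hp, hpj, h⟩
      · rintro (⟨hp, hpj, -⟩ | ⟨hp, hpj, -⟩) <;> exact ⟨hp, hpj⟩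
    have hdis : Disjoint A₁ A₂ := Finset.disjoint_left.2 fun p hp hp' =>
      hne fun y => (((hm₁ p).1 hp).2.2 y).symm.trans (((hm₂ p).1 hp').2.2 y)
    rw [e, Finset.card_union_of_disjoint hdis, hA₁, hA₂]
  have hcount := Finset.card_eq_sum_card_fiberwise (f := f) (s := T) (t := P) fun p hp => hmaps p hp
  rw [Finset.sum_congr rfl hfib, Finset.sum_const, smul_eq_mul, hTc] at hcount
  have hPc : P.card = (MulAction.stabilizer (ConjAct G) x).index := by
    rw [MulAction.index_stabilizer, hP, Set.ncard_eq_toFinset_card']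
  have hst : Nat.card (Subgroup.centralizer ({x} : Set G)) = Nat.card (MulAction.stabilizer (ConjAct G) x) := by
    refine Nat.card_congr ((ConjAct.toConjAct (G := G)).toEquiv.subtypeEquiv fun g => ?_)
    rw [Subgroup.mem_centralizer_singleton_iff]
    show _ ↔ ConjAct.toConjAct g • x = x
    rw [ConjAct.smul_def, ConjAct.ofConjAct_toConjAct, mul_inv_eq_iff_eq_mul]
  have hm := (MulAction.stabilizer (ConjAct G) x).card_mul_index
  rw [← hst, ← hPc, Nat.card_congr (ConjAct.ofConjAct (G := G)).toEquiv, hG] at hm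
  have hP' : P.card = 36486450 := by omega
  rw [hP'] at hm
  omega


/-- Let G be a finite group with trivial centre generated by a conjugation-invariant set D of 3-transpositions on which it acts primitively, such that for some d in D the subgroup generated by the members of D other than d commuting with d has central largest normal 2- and 3-subgroups, and suppose G with D is of type M(22). Then the centralizer of a product of three distinct pairwise commuting members of D has order 2^16 · 3^3. -/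
theorem result {G : Type*} [Group G] [Finite G] {D : Set G} (hD : Cfsg.IsThreeTranspositionGroup D) (hprim : Cfsg.IsPrimitiveUnderConj D) (d₀ : G) (hd₀ : d₀ ∈ D) (h3 : Cfsg.pCore 3 ↥(Subgroup.closure {y : G | y ∈ D ∧ y ≠ d₀ ∧ Commute d₀ y}) ≤ Subgroup.center ↥(Subgroup.closure {y : G | y ∈ D ∧ y ≠ d₀ ∧ Commute d₀ y})) (h2 : Cfsg.pCore 2 ↥(Subgroup.closure {y : G | y ∈ D ∧ y ≠ d₀ ∧ Commute d₀ y}) ≤ Subgroup.center ↥(Subgroup.closure {y : G | y ∈ D ∧ y ≠ d₀ ∧ Commute d₀ y})) (h22 : Cfsg.IsOfTypeM22 G D) (d₁ d₂ d₃ : G) (h₁ : d₁ ∈ D) (h₂ : d₂ ∈ D) (h₃ : d₃ ∈ D) (h12 : d₁ ≠ d₂) (h13 : d₁ ≠ d₃) (h23 : d₂ ≠ d₃) (c12 : Commute d₁ d₂) (c13 : Commute d₁ d₃) (c23 : Commute d₂ d₃) : Nat.card ↥(Subgroup.centralizer ({d₁ * d₂ * d₃} : Set G)) = 2 ^ 16 * 3 ^ 3 := by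
  exact three_centralizer hD hprim h22 (Cfsg.Agent.S5463.result hD hprim d₀ hd₀ h3 h2 h22).2
    ⟨h₁, ⟨h₂, Ne.symm h12, c12⟩, ⟨h₃, Ne.symm h13, c13⟩, h₃, Ne.symm h23, c23⟩

end Cfsg.Agent.S5470
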