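import Cfsg.Statements.S5471
import Cfsg.Agent.Lib.ThreeTrans.PairSwap
import Cfsg.Agent.S5464

set_option autoImplicit false
open Cfsg

namespace Cfsg.Agent.S5471

/-- Let G be a finite group with trivial centre generated by a conjugation-invariant set D of 3-transpositions on which it acts primitively, such that for some d in D the subgroup generated by the members of D other than d commuting with d has central largest normal 2- and 3-subgroups, and suppose G with D is of type M(23). Let d₁, d₂, d₃ be distinct pairwise commuting members of D and j their product. Then the joint centralizer of d₁, d₂, d₃ is normal in the centralizer of j with quotient isomorphic to the symmetric group of degree 3. -/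
theorem result {G : Type*} [Group G] [Finite G] {D : Set G} (hD : Cfsg.IsThreeTranspositionGroup D) (hprim : Cfsg.IsPrimitiveUnderConj D) (d₀ : G) (hd₀ : d₀ ∈ D) (h3 : Cfsg.pCore 3 ↥(Subgroup.closure {y : G | y ∈ D ∧ y ≠ d₀ ∧ Commute d₀ y}) ≤ Subgroup.center ↥(Subgroup.closure {y : G | y ∈ D ∧ y ≠ d₀ ∧ Commute d₀ y})) (h2 : Cfsg.pCore 2 ↥(Subgroup.closure {y : G | y ∈ D ∧ y ≠ d₀ ∧ Commute d₀ y}) ≤ Subgroup.center ↥(Subgroup.closure {y : G | y ∈ D ∧ y ≠ d₀ ∧ Commute d₀ y})) (h23 : Cfsg.IsOfTypeM23 G D) (d₁ d₂ d₃ : G) (h₁ : d₁ ∈ D) (h₂ : d₂ ∈ D) (h₃ : d₃ ∈ D) (h12 : d₁ ≠ d₂) (h13 : d₁ ≠ d₃) (h23 : d₂ ≠ d₃) (c12 : Commute d₁ d₂) (c13 : Commute d₁ d₃) (c23 : Commute d₂ d₃) (K C : Subgroup G) (hK : K = Subgroup.centralizer ({d₁, d₂, d₃} : Set G)) (hC : C = Subgroup.centralizer ({d₁ * d₂ * d₃} : Set G)) : K ≤ C ∧ ∃ _ : (K.subgroupOf C).Normal, Nonempty (↥C ⧸ K.subgroupOf C ≃* Equiv.Perm (Fin 3)) := by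
  subst hK hC
  let v : Fin 3 → G := ![d₁, d₂, d₃]
  have hv : Function.Injective v := by
    intro i j h
    fin_cases i <;> fin_cases j <;> simp_all [v]
  have hvD : ∀ i, v i ∈ D := by
    intro i
    fin_cases i <;> assumption
  have hvc : ∀ i j, Commute (v i) (v j) := by
    intro i j
    fin_cases i <;> fin_cases j <;> first | exact Commute.refl _ | assumption | exact Commute.symm (by assumption)
  have hvprod : d₁ * d₂ * d₃ = (List.ofFn v).prod := by simp [v, List.ofFn_succ, mul_assoc]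
  have hperm : ∀ g ∈ Subgroup.centralizer ({d₁ * d₂ * d₃} : Set G), ∀ i, ∃ i', g * v i * g⁻¹ = v i' := by
    intro g hg i
    let φ : G →* G := (MulAut.conj g).toMonoidHom
    have hfix : φ (List.ofFn v).prod = (List.ofFn v).prod := by
      rw [← hvprod]
      show g * (d₁ * d₂ * d₃) * g⁻¹ = _
      rw [← (Subgroup.mem_centralizer_iff.1 hg _ rfl), mul_inv_cancel_right]
    have hcomm : ∀ a ∈ List.ofFn v, ∀ b ∈ List.ofFn v, Commute a b := by
      intro a ha b hb
      obtain ⟨i, rfl⟩ := List.mem_ofFn.1 ha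
      obtain ⟨j, rfl⟩ := List.mem_ofFn.1 hb
      exact hvc i j
    have hmem : ∀ a ∈ List.ofFn v, a ∈ D := by
      intro a ha
      obtain ⟨i, rfl⟩ := List.mem_ofFn.1 ha
      exact hvD i
    have h := Cfsg.Agent.S5464.result hD hprim d₀ hd₀ h3 h2 (Or.inl ‹Cfsg.IsOfTypeM23 G D›) 3 le_rfl (List.ofFn v).prod
      (List.ofFn v) ((List.ofFn v).map φ) ⟨List.nodup_ofFn.2 hv, List.length_ofFn, hmem, hcomm, rfl⟩
      ⟨(List.nodup_ofFn.2 hv).map (MulAut.conj g).injective, by simp, by
        intro a ha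
        obtain ⟨b, hb, rfl⟩ := List.mem_map.1 ha
        exact hD.2.1 g b (hmem b hb), by
        intro a ha b hb
        obtain ⟨a', ha', rfl⟩ := List.mem_map.1 ha
        obtain ⟨b', hb', rfl⟩ := List.mem_map.1 hb
        exact (hcomm a' ha' b' hb').map φ, by rw [← map_list_prod, hfix]⟩ (φ (v i))
    obtain ⟨i', hi'⟩ := List.mem_ofFn.1 (h.2 (List.mem_map_of_mem (List.mem_ofFn.2 ⟨i, rfl⟩)))
    exact ⟨i', hi'.symm⟩
  let C := Subgroup.centralizer ({d₁ * d₂ * d₃} : Set G)
  choose σ hσ using fun g : C => hperm (g : G) g.2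
  have hσinj : ∀ g, Function.Injective (σ g) := fun g i j h => hv (by
    have := (hσ g i).trans ((congrArg v h).trans (hσ g j).symm)
    exact mul_left_cancel (mul_right_cancel this))
  let φ : C →* Equiv.Perm (Fin 3) :=
    MonoidHom.mk' (fun g => Equiv.ofBijective (σ g) (Finite.injective_iff_bijective.1 (hσinj g))) fun g h => by
      ext1 i
      refine hv ?_
      show v (σ (g * h) i) = v (σ g (σ h i))
      rw [← hσ, ← hσ, ← hσ, Subgroup.coe_mul]
      group
  have hφ : ∀ (g : C) (i : Fin 3), v (φ g i) = (g : G) * v i * (g : G)⁻¹ := fun g i => (hσ g i).symm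
  have hle : Subgroup.centralizer ({d₁, d₂, d₃} : Set G) ≤ C := by
    intro g hg
    rw [Subgroup.mem_centralizer_iff] at hg
    rw [Subgroup.mem_centralizer_singleton_iff]
    have e1 : Commute d₁ g := hg d₁ (by simp)
    have e2 : Commute d₂ g := hg d₂ (by simp)
    have e3 : Commute d₃ g := hg d₃ (by simp)
    exact ((e1.mul_left e2).mul_left e3).eq.symm
  have hker : (Subgroup.centralizer ({d₁, d₂, d₃} : Set G)).subgroupOf C = φ.ker := by
    ext g
    rw [Subgroup.mem_subgroupOf, MonoidHom.mem_ker, Subgroup.mem_centralizer_iff]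
    constructor
    · intro h
      ext1 i
      refine hv ?_
      rw [hφ, Equiv.Perm.one_apply, ← h (v i) (by fin_cases i <;> simp [v]), mul_inv_cancel_right]
    · intro h x hx
      obtain ⟨i, rfl⟩ : ∃ i, v i = x := by
        simp only [Set.mem_insert_iff, Set.mem_singleton_iff] at hx
        rcases hx with rfl | rfl | rfl
        exacts [⟨0, rfl⟩, ⟨1, rfl⟩, ⟨2, rfl⟩]
      have := hφ g i
      rw [h, Equiv.Perm.one_apply, eq_mul_inv_iff_mul_eq] at this
      exact this
  have hsurj : Function.Surjective φ := by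
    rw [← MonoidHom.range_eq_top, eq_top_iff, ← Equiv.Perm.closure_isSwap, Subgroup.closure_le]
    rintro _ ⟨i, j, hij, rfl⟩
    obtain ⟨k, hki, hkj⟩ : ∃ k, k ≠ i ∧ k ≠ j := by revert hij; revert i j; decide
    have hmem : ∀ {x y : Fin 3}, x ≠ y → v x ∈ CfsgLib.ThreeTrans.Dd D (v y) := fun {x y} hxy =>
      ⟨hvD x, fun e => hxy (hv e), hvc y x⟩
    obtain ⟨g, g1, g2, g3⟩ := CfsgLib.ThreeTrans.swap23 hD ‹Cfsg.IsOfTypeM23 G D› (hmem (Ne.symm hki)) (hmem (Ne.symm hkj)) (hvD k)
      (fun e => hij (hv e)) (hvc i j)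
    have hall : ∀ x, g * v x * g⁻¹ = v (Equiv.swap i j x) := by
      intro x
      by_cases hxi : x = i
      · rw [hxi, Equiv.swap_apply_left, g1]
      by_cases hxj : x = j
      · rw [hxj, Equiv.swap_apply_right, g2]
      have : x = k := by clear g1 g2 g3 hmem; omega
      rw [Equiv.swap_apply_of_ne_of_ne hxi hxj, this, g3]
    have hgC : g ∈ C := by
      rw [Subgroup.mem_centralizer_singleton_iff, ← mul_inv_eq_iff_eq_mul, hvprod]
      show MulAut.conj g (List.ofFn v).prod = _
      rw [map_list_prod, List.map_ofFn, show (⇑(MulAut.conj g) ∘ v) = v ∘ Equiv.swap i j from funext hall]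
      refine List.Perm.prod_eq' ?_ ?_
      · exact Equiv.Perm.ofFn_comp_perm _ _
      · exact List.pairwise_ofFn.2 fun a b _ => hvc _ _
    refine ⟨⟨g, hgC⟩, ?_⟩
    ext1 x
    exact hv ((hφ _ x).trans (hall x))
  haveI hn : ((Subgroup.centralizer ({d₁, d₂, d₃} : Set G)).subgroupOf C).Normal := hker ▸ φ.normal_ker
  exact ⟨hle, hn, ⟨(QuotientGroup.quotientMulEquivOfEq hker).trans (QuotientGroup.quotientKerEquivOfSurjective φ hsurj)⟩⟩

end Cfsg.Agent.S5471
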