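import Cfsg.Statements.S5472
import Cfsg.Agent.Lib.Presented.Fi22Outer.Model
import Cfsg.Agent.Lib.Solvable.Fitting
-- import your own Cfsg.Agent.* helpers here

set_option autoImplicit false
open Cfsg

namespace Cfsg.Agent.S5472

open CfsgLib.ThreeTrans.Inst.FiTwentyTwo (P)

theorem mem_map_equiv' {A B : Type*} [Group A] [Group B] (e : A ≃* B) (H : Subgroup A) (g : B) :
    g ∈ H.map e.toMonoidHom ↔ e.symm g ∈ H := Subgroup.mem_map_equiv

theorem congr_conj {A B : Type*} [Group A] [Group B] (e : A ≃* B) (x : A) :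
    MulAut.congr e (MulAut.conj x) = MulAut.conj (e x) := by
  ext y
  show e (x * e.symm y * x⁻¹) = e x * y * (e x)⁻¹
  rw [map_mul, map_mul, map_inv, e.apply_symm_apply]

theorem congr_fix {A B : Type*} [Group A] [Group B] (e : A ≃* B) (f : MulAut A) (g : B) :
    (MulAut.congr e f) g = g ↔ f (e.symm g) = e.symm g := by
  show e (f (e.symm g)) = g ↔ _
  exact ⟨fun h => (e.symm_apply_eq.2 h.symm).symm, fun h => by rw [h, e.apply_symm_apply]⟩

theorem map_core {A B : Type*} [Group A] [Group B] (e : A ≃* B) (C : Subgroup A) :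
    ((Cfsg.pCore 2 C).map C.subtype).map e.toMonoidHom =
      (Cfsg.pCore 2 (C.map e.toMonoidHom : Subgroup B)).map (C.map e.toMonoidHom).subtype := by
  rw [Subgroup.map_map, ← CfsgLib.Fitting.pCore_map_mulEquiv 2 (C.equivMapOfInjective e.toMonoidHom e.injective),
    Subgroup.map_map]
  rfl

/-- Let G be a finite group with trivial centre generated by a conjugation-invariant set D of 3-transpositions on which it acts primitively, such that for some d in D the subgroup generated by the members of D other than d commuting with d has central largest normal 2- and 3-subgroups, and suppose G with D is of type M(22). Then G has a non-inner automorphism s of order 2 whose fixed-point subgroup is isomorphic to the full automorphism group of Ω⁺(8, 2) (the commutator subgroup of the isometry group of the hyperbolic quadratic form in dimension 8 over the field with two elements), together with distinct commuting members a, b of D fixed by s such that: s, s composed with conjugation by a, and s composed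 with conjugation by a b represent the three classes (under the automorphism group) of non-inner automorphisms of order 2; the elements fixed by the automorphism s composed with conjugation by a are exactly those fixed by s and commuting with a, and they form a group isomorphic to the direct product of a group of order 2 and the symplectic group of dimension 6 over the field with two elements; and the elements fixed by the automorphism s composed with conjugation by a b form a group whose largest normal 2-subgroup is elementary abelian of order 64 with quotient isomorphic to the full isometry group of the elliptic quadratic form in dimension 6 over the field with two elements. -/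
theorem result {G : Type*} [Group G] [Finite G] {D : Set G} (hD : Cfsg.IsThreeTranspositionGroup D) (hprim : Cfsg.IsPrimitiveUnderConj D) (d₀ : G) (hd₀ : d₀ ∈ D) (h3 : Cfsg.pCore 3 ↥(Subgroup.closure {y : G | y ∈ D ∧ y ≠ d₀ ∧ Commute d₀ y}) ≤ Subgroup.center ↥(Subgroup.closure {y : G | y ∈ D ∧ y ≠ d₀ ∧ Commute d₀ y})) (h2 : Cfsg.pCore 2 ↥(Subgroup.closure {y : G | y ∈ D ∧ y ≠ d₀ ∧ Commute d₀ y}) ≤ Subgroup.center ↥(Subgroup.closure {y : G | y ∈ D ∧ y ≠ d₀ ∧ Commute d₀ y})) (h22 : Cfsg.IsOfTypeM22 G D) : ∃ (s : MulAut G) (a b : G) (Cs : Subgroup G), orderOf s = 2 ∧ s ∉ (MulAut.conj : G →* MulAut G).range ∧ (∀ g : G, g ∈ Cs ↔ s g = g) ∧ Nonempty (↥Cs ≃* MulAut (Cfsg.Omega (ZMod 2) (Cfsg.quadFormPlus 4 (ZMod 2)))) ∧ a ∈ D ∧ b ∈ D ∧ a ≠ b ∧ Commute a b ∧ s a = a ∧ s b = b ∧ (∀ t : MulAut G, orderOf t = 2 → t ∉ (MulAut.conj : G →* MulAut G).range → (IsConj t s ∨ IsConj t (s * MulAut.conj a) ∨ IsConj t (s * MulAut.conj (a * b)))) ∧ ¬ IsConj s (s * MulAut.conj a) ∧ ¬ IsConj s (s * MulAut.conj (a * b))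 ∧ ¬ IsConj (s * MulAut.conj a) (s * MulAut.conj (a * b)) ∧ (∀ g : G, (s * MulAut.conj a) g = g ↔ g ∈ Cs ⊓ Subgroup.centralizer ({a} : Set G)) ∧ Nonempty (↥(Cs ⊓ Subgroup.centralizer ({a} : Set G)) ≃* Multiplicative (ZMod 2) × Cfsg.PSp 3 (ZMod 2)) ∧ ∃ Csab O : Subgroup G, (∀ g : G, g ∈ Csab ↔ (s * MulAut.conj (a * b)) g = g) ∧ O = (Cfsg.pCore 2 ↥Csab).map Csab.subtype ∧ Cfsg.IsElementaryAbelian 2 O ∧ Nat.card O = 64 ∧ ∃ _ : (O.subgroupOf Csab).Normal, Nonempty (↥Csab ⧸ O.subgroupOf Csab ≃* Cfsg.isometryGroup (ZMod 2) (Cfsg.quadFormMinus 2 (ZMod 2) 1 1)) := by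
  obtain ⟨e, he⟩ := CfsgLib.ThreeTrans.Inst.FiTwentyTwo.exists_equiv hD hprim h22
  obtain ⟨s, a, b, C, hs, hout, hC, ⟨iC⟩, ha, hb, hab, hcomm, hsa, hsb, hcls, h01, h02, h12, hA, ⟨iA⟩, Cab, O, hCab,
    hO, hEl, hcard, hn, ⟨iq⟩⟩ := CfsgLib.Presented.Fi22Outer.model
  set E : MulAut Cfsg.Spor.Fi22 ≃* MulAut G := MulAut.congr e with hE
  set f : Cfsg.Spor.Fi22 →* G := e.toMonoidHom with hf
  have hc : ∀ x, E (s * MulAut.conj x) = E s * MulAut.conj (e x) := fun x => by rw [map_mul, hE, congr_conj]
  have hinner : ∀ t : MulAut Cfsg.Spor.Fi22, t ∈ (MulAut.conj : Cfsg.Spor.Fi22 →* MulAut _).range →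
      E t ∈ (MulAut.conj : G →* MulAut G).range := by
    rintro _ ⟨x, rfl⟩
    exact ⟨e x, (congr_conj e x).symm⟩
  have hinner' : ∀ t : MulAut G, t ∈ (MulAut.conj : G →* MulAut G).range →
      E.symm t ∈ (MulAut.conj : Cfsg.Spor.Fi22 →* MulAut _).range := by
    rintro _ ⟨x, rfl⟩
    exact ⟨e.symm x, by rw [eq_comm, MulEquiv.symm_apply_eq, hE, congr_conj, e.apply_symm_apply]⟩
  have hconj : ∀ {t u : MulAut Cfsg.Spor.Fi22}, IsConj (E t) (E u) → IsConj t u := fun h => by
    simpa using E.symm.toMonoidHom.map_isConj h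
  have hinf : C.map f ⊓ Subgroup.centralizer ({e a} : Set G) =
      (C ⊓ Subgroup.centralizer ({a} : Set Cfsg.Spor.Fi22)).map f := by
    ext g
    rw [Subgroup.mem_inf, mem_map_equiv', mem_map_equiv', Subgroup.mem_inf, Subgroup.mem_centralizer_singleton_iff,
      Subgroup.mem_centralizer_singleton_iff]
    refine and_congr_right fun _ => ⟨fun h => e.injective (by simpa using h), fun h => by simpa using congrArg e h⟩
  have hmapO : O.map f = (Cfsg.pCore 2 (Cab.map f : Subgroup G)).map (Cab.map f).subtype := by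
    rw [hO]; exact map_core e Cab
  haveI := hn
  refine ⟨E s, e a, e b, C.map f, (MulEquiv.orderOf_eq E s).trans hs, fun h => hout ?_, fun g => ?_,
    ⟨(C.equivMapOfInjective f e.injective).symm.trans iC⟩, he ▸ Set.mem_image_of_mem e ha,
    he ▸ Set.mem_image_of_mem e hb, fun h => hab (e.injective h), hcomm.map f, ?_, ?_, fun t ht htout => ?_,
    fun h => h01 (hconj (by rwa [hc])), fun h => h02 (hconj (by rwa [hc, map_mul])),
    fun h => h12 (hconj (by rwa [hc, hc, map_mul])), fun g => ?_, ?_, Cab.map f, O.map f, fun g => ?_, hmapO,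
    ⟨⟨⟨?_⟩⟩, ?_⟩, ?_, ?_⟩
  · simpa using hinner' _ h
  · rw [mem_map_equiv', hC, hE, congr_fix]
  · rw [hE, congr_fix, e.symm_apply_apply, hsa]
  · rw [hE, congr_fix, e.symm_apply_apply, hsb]
  · have h := hcls (E.symm t) ((MulEquiv.orderOf_eq E.symm t).trans ht)
      (fun h => htout (by simpa using hinner _ h))
    have key : ∀ u, IsConj (E.symm t) u → IsConj t (E u) := fun u hu => by
      simpa using E.toMonoidHom.map_isConj hu
    rcases h with h | h | h
    · exact Or.inl (key _ h)
    · exact Or.inr (Or.inl (hc a ▸ key _ h))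
    · exact Or.inr (Or.inr (map_mul e a b ▸ hc (a * b) ▸ key _ h))
  · rw [← hc, hE, congr_fix, hA, hinf, mem_map_equiv']
  · rw [hinf]
    exact ⟨(Subgroup.equivMapOfInjective _ f e.injective).symm.trans iA⟩
  · rw [← map_mul, ← hc, hE, congr_fix, ← hCab, mem_map_equiv']
  · rintro ⟨_, x, hx, rfl⟩ ⟨_, y, hy, rfl⟩
    refine Subtype.ext ?_
    show f x * f y = f y * f x
    rw [← map_mul, ← map_mul, show x * y = y * x from congrArg Subtype.val (hEl.1.1.1 ⟨x, hx⟩ ⟨y, hy⟩)]
  · rintro _ ⟨x, hx, rfl⟩
    rw [← map_pow, hEl.2 x hx, map_one]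
  · rw [Subgroup.card_map_of_injective e.injective, hcard]
  · set j := Cab.equivMapOfInjective f e.injective with hj
    have hsub : (O.map f).subgroupOf (Cab.map f) = (O.subgroupOf Cab).map j.toMonoidHom := by
      ext ⟨g, hg⟩
      rw [Subgroup.mem_subgroupOf]
      constructor
      · rintro ⟨x, hx, rfl⟩
        obtain ⟨y, hy, hyx⟩ := hg
        obtain rfl : y = x := e.injective hyx
        exact ⟨⟨y, hy⟩, hx, Subtype.ext hyx⟩
      · rintro ⟨⟨y, hy⟩, hyO, he'⟩
        exact ⟨y, hyO, congrArg Subtype.val he'⟩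
    haveI hn' : ((O.map f).subgroupOf (Cab.map f)).Normal := hsub ▸ hn.map _ j.surjective
    exact ⟨hn', ⟨(QuotientGroup.congr _ _ j hsub.symm).symm.trans iq⟩⟩

end Cfsg.Agent.S5472
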