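import Cfsg.Statements.S5473
import Cfsg.Agent.Lib.ThreeTrans.Tower.PairCore
import Cfsg.Agent.Lib.LargeExtra.Basic
import Cfsg.Agent.Lib.LargeExtra.Decomp
import Cfsg.Agent.Lib.Icosian.Extraspecial
import Cfsg.Agent.Lib.Components.FStar

set_option autoImplicit false
open Cfsg

namespace Cfsg.Agent.S5473
open CfsgLib.ThreeTrans CfsgLib.ThreeTrans.Tower CfsgLib.ThreeTrans.TypeTop CfsgLib.ThreeTrans.PairCore

/-- A three-cycle shows that a power of two fixing a point fixes the other two. -/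
theorem pow_cycle {α : Type*} (g : α → α) {z₁ z₂ z₃ : α} (h12 : g z₁ = z₂) (h23 : g z₂ = z₃) (h31 : g z₃ = z₁) :
    g^[2 ^ 11] z₁ = z₃ := by
  have h : ∀ m, g^[3 * m] z₁ = z₁ := by
    intro m
    induction m with
    | zero => rfl
    | succ m ih => rw [show 3 * (m + 1) = 3 * m + 3 from by ring, Function.iterate_add_apply]; simp [h12, h23, h31, ih]
  rw [show (2 : ℕ) ^ 11 = 2 + 3 * 682 by norm_num, Function.iterate_add_apply, h]
  simp [h12, h23]

/-- A group of exponent dividing `2 ^ 11` normalised by a cycle of three points which it permutes fixes them. -/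
theorem fix_three {G : Type*} [Group G] (W : Subgroup (MulAut G)) {S : Set G} {z₁ z₂ z₃ : G}
    (hS : S = {z₁, z₂, z₃}) (n12 : z₁ ≠ z₂) (n23 : z₂ ≠ z₃) (n13 : z₁ ≠ z₃) (t : MulAut G) (c12 : t z₁ = z₂)
    (c23 : t z₂ = z₃) (c31 : t z₃ = z₁) (hexp : ∀ p ∈ W, p ^ (2 ^ 11) = 1) (hst : ∀ p ∈ W, ∀ w ∈ S, p w ∈ S)
    (hn : ∀ p ∈ W, t * p * t⁻¹ ∈ W) : ∀ p ∈ W, ∀ w ∈ S, p w = w := by
  subst hS
  have hco : ∀ (g : MulAut G) (n : ℕ) (z : G), (g : G → G)^[n] z = (g ^ n) z := by
    intro g n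
    induction n with
    | zero => intro z; rfl
    | succ n ih => intro z; rw [Function.iterate_succ_apply, ih, pow_succ, MulAut.mul_apply]
  have nocyc : ∀ g ∈ W, ∀ {a b c : G}, g a = b → g b = c → g c = a → a ≠ c → False := fun g hg {a b c} ga gb gc h => by
    have hit := pow_cycle (g : G → G) ga gb gc
    rw [hco, hexp g hg, MulAut.one_apply] at hit
    exact h hit
  have mem : ∀ {p : MulAut G}, p ∈ W → ∀ {w : G}, (w = z₁ ∨ w = z₂ ∨ w = z₃) → p w = z₁ ∨ p w = z₂ ∨ p w = z₃ :=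
    fun {p} hp {w} hw => hst p hp w (by simpa using hw)
  have sym : ∀ {a b : G}, t a = b → t⁻¹ b = a := fun h => by
    rw [MulAut.inv_apply, MulEquiv.symm_apply_eq, h]
  -- a transposition with its conjugate gives a cycle
  have notrans : ∀ p ∈ W, ∀ {a b c : G}, t a = b → t b = c → t c = a → a ≠ c →
      p a = a → p b = c → p c = b → False := by
    intro p hp a b c tab tbc tca hac pa pb pc
    refine nocyc (p * (t * p * t⁻¹)) (mul_mem hp (hn p hp)) (a := a) (b := b) (c := c) ?_ ?_ ?_ hac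
    · simp only [MulAut.mul_apply]; rw [sym tca, pc, tbc, pc]
    · simp only [MulAut.mul_apply]; rw [sym tab, pa, tab, pb]
    · simp only [MulAut.mul_apply]; rw [sym tbc, pb, tca, pa]
  intro p hp
  have u := mem hp (Or.inl rfl : z₁ = z₁ ∨ _)
  have v := mem hp (Or.inr (Or.inl rfl) : z₂ = z₁ ∨ z₂ = z₂ ∨ _)
  have w' := mem hp (Or.inr (Or.inr rfl) : z₃ = z₁ ∨ z₃ = z₂ ∨ z₃ = z₃)
  intro w hw
  rcases u with u | u | u <;> rcases v with v | v | v <;> rcases w' with x | x | x <;>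
    first
    | exact absurd (p.injective (u.trans v.symm)) n12
    | exact absurd (p.injective (v.trans x.symm)) n23
    | exact absurd (p.injective (u.trans x.symm)) n13
    | exact (notrans p hp c12 c23 c31 n13 u v x).elim
    | exact (notrans p hp c23 c31 c12 (Ne.symm n12) v x u).elim
    | exact (notrans p hp c31 c12 c23 (Ne.symm n23) x u v).elim
    | exact (nocyc p hp u v x n13).elim
    | exact (nocyc p hp u x v n12).elim
    | (rcases hw with rfl | rfl | rfl <;> assumption)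

/-- Let G be a finite group with trivial centre generated by a conjugation-invariant set D of 3-transpositions on which it acts primitively, such that for some d in D the subgroup generated by the members of D other than d commuting with d has central largest normal 2- and 3-subgroups, and suppose G with D is of type M(22), and let A be the automorphism group of G. Let d₁, d₂ be distinct commuting members of D and j the inner automorphism of their product. Then the generalized Fitting subgroup Q of the centralizer of j in A is a large extraspecial 2-subgroup of A of order 2^11 (extraspecial; centralizer equal to its centre; normal in the centralizer of its centre; normalizing no non-trivial odd-order subgroup), and the centralizer of j modulo Q is isomorphic to the full automorphism group of the projective special unitary group of dimension 4 over the field with four elements. -/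
theorem result {G : Type*} [Group G] [Finite G] {D : Set G} (hD : Cfsg.IsThreeTranspositionGroup D) (hprim : Cfsg.IsPrimitiveUnderConj D) (d₀ : G) (hd₀ : d₀ ∈ D) (h3 : Cfsg.pCore 3 ↥(Subgroup.closure {y : G | y ∈ D ∧ y ≠ d₀ ∧ Commute d₀ y}) ≤ Subgroup.center ↥(Subgroup.closure {y : G | y ∈ D ∧ y ≠ d₀ ∧ Commute d₀ y})) (h2 : Cfsg.pCore 2 ↥(Subgroup.closure {y : G | y ∈ D ∧ y ≠ d₀ ∧ Commute d₀ y}) ≤ Subgroup.center ↥(Subgroup.closure {y : G | y ∈ D ∧ y ≠ d₀ ∧ Commute d₀ y})) (h22 : Cfsg.IsOfTypeM22 G D) (d₁ d₂ : G) (h₁ : d₁ ∈ D) (h₂ : d₂ ∈ D) (hne : d₁ ≠ d₂) (hc : Commute d₁ d₂) (j : MulAut G) (hj : j = MulAut.conj (d₁ * d₂)) (Q : Subgroup (MulAut G)) (hQ : Q = (Cfsg.generalizedFittingSubgroup ↥(Subgroup.centralizer ({j} : Set (MulAut G)))).map (Subgroup.centralizer ({j} : Set (MulAut G))).subtype) : Cfsg.IsLargeExtraspecial Q ∧ Nat.card Q = 2 ^ 11 ∧ Q ≤ Subgroup.centralizer ({j} : Set (MulAut G)) ∧ ∃ (_ : (Q.subgroupOf (Subgroup.centralizer ({j}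 : Set (MulAut G)))).Normal) (F : Type) (_ : Field F) (_ : Fintype F), Fintype.card F = 4 ∧ Nonempty (↥(Subgroup.centralizer ({j} : Set (MulAut G))) ⧸ Q.subgroupOf (Subgroup.centralizer ({j} : Set (MulAut G))) ≃* MulAut (Cfsg.PSU 4 F 2)) := by
  classical
  have hs : Cfsg.IsThreeTranspositionSet D := hD.1
  haveI hp2 : Fact (Nat.Prime 2) := ⟨Nat.prime_two⟩
  set E := hexGen D d₁ d₂ with hE
  set K := Subgroup.centralizer ({d₁, d₂} : Set G) with hK
  set P := Dd D d₁ ∩ Dd D d₂ with hP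
  have r4 := (good22 hD h22).rel 4 (by norm_num) (by norm_num)
  obtain ⟨F, _, _, ρ, Pc⟩ := exists_pairCore hD hprim d₀ hd₀ h3 h2 h22 d₁ d₂ h₁ h₂ hne hc
  have hF := Pc.four
  have h4 := CfsgLib.ThreeTrans.USix.card_psu_four hF
  haveI hsimple : IsSimpleGroup (Cfsg.PSU 4 F 2) :=
    CfsgLib.ClassicalGroups.psu_isSimpleGroup hF (by norm_num) (by norm_num)
  have hz4 : Subgroup.center (Cfsg.PSU 4 F 2) = ⊥ := by
    refine (Subgroup.Normal.eq_bot_or_eq_top inferInstance).resolve_right fun h => ?_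
    letI : CommGroup (Cfsg.PSU 4 F 2) := Group.commGroupOfCenterEqTop h
    have := IsSimpleGroup.prime_card (α := Cfsg.PSU 4 F 2)
    rw [h4] at this
    norm_num at this
  have hA4 := MinusSix.card_mulAut_psu_four hF
  have hK' : ∀ g, g ∈ K ↔ Commute g d₁ ∧ Commute g d₂ := fun g => by
    rw [hK, Subgroup.mem_centralizer_iff]
    exact ⟨fun h => ⟨(h d₁ (by simp)).symm, (h d₂ (by simp)).symm⟩, fun h x hx => by
      rcases hx with rfl | rfl
      exacts [h.1.eq.symm, h.2.eq.symm]⟩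
  have e1 : d₁ ∈ E := Subgroup.subset_closure (Or.inl (by simp))
  have e2 : d₂ ∈ E := Subgroup.subset_closure (Or.inl (by simp))
  have hjE : d₁ * d₂ ∈ E := mul_mem e1 e2
  have d11 := mul_self hs h₁
  have d22 := mul_self hs h₂
  have hjj : d₁ * d₂ * (d₁ * d₂) = 1 := by
    rw [mul_assoc, ← mul_assoc d₂ d₁, ← hc.eq, mul_assoc, d22, mul_one, d11]
  have hjne : d₁ * d₂ ≠ 1 := fun h => hne ((eq_inv_of_mul_eq_one_left h).trans (inv_eq hs h₂))
  -- automorphisms
  have hAD : ∀ (α : MulAut G) x, α x ∈ D ↔ x ∈ D := fun α x =>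
    ⟨fun h => by simpa using Uniq.mapsTo22 hD hprim h22 α⁻¹ h, Uniq.mapsTo22 hD hprim h22 α⟩
  haveI : Finite (MulAut G) := Finite.of_injective (fun f => (f : G → G)) DFunLike.coe_injective
  have hinjc : Function.Injective (MulAut.conj : G →* MulAut G) := by
    refine (injective_iff_map_eq_one _).2 fun g hg => ?_
    have : g ∈ Subgroup.center G := Subgroup.mem_center_iff.2 fun x => by
      have := DFunLike.congr_fun hg x
      simp only [MulAut.conj_apply, MulAut.one_apply] at this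
      exact (mul_inv_eq_iff_eq_mul.1 this).symm
    rwa [h22.1, Subgroup.mem_bot] at this
  have hconj : ∀ (α : MulAut G) g, α * MulAut.conj g * α⁻¹ = MulAut.conj (α g) := fun α g =>
    MulEquiv.ext fun x => by simp [MulAut.conj_apply]
  set CA := Subgroup.centralizer ({j} : Set (MulAut G)) with hCA
  have hCAj : ∀ α : MulAut G, α ∈ CA ↔ α (d₁ * d₂) = d₁ * d₂ := fun α => by
    rw [hCA, Subgroup.mem_centralizer_singleton_iff, hj]
    constructor
    · intro h
      refine hinjc ?_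
      rw [← hconj, h, mul_inv_cancel_right]
    · intro h
      rw [← mul_inv_eq_iff_eq_mul, hconj, h]
  have hpair : ∀ α ∈ CA, (α d₁ = d₁ ∧ α d₂ = d₂) ∨ (α d₁ = d₂ ∧ α d₂ = d₁) := fun α hα =>
    CfsgLib.ThreeTrans.pair_unique hs r4 h₁ h₂ ((hAD α _).2 h₁) ((hAD α _).2 h₂) hne
      (fun e => hne (α.injective e)) hc (hc.map α) (by rw [← map_mul, (hCAj α).1 hα])
  have hCAE : ∀ α ∈ CA, ∀ x ∈ E, α x ∈ E := fun α hα x hx => by
    have h := map_hexGen α (hAD α) d₁ d₂
    have hm : α x ∈ (hexGen D d₁ d₂).map α.toMonoidHom := Subgroup.mem_map_of_mem _ hx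
    rw [h] at hm
    rcases hpair α hα with ⟨a1, a2⟩ | ⟨a1, a2⟩ <;> rw [a1, a2] at hm
    · exact hm
    · rwa [hexGen_comm] at hm
  have hCAK : ∀ α ∈ CA, ∀ x ∈ K, α x ∈ K := fun α hα x hx => by
    obtain ⟨c1, c2⟩ := (hK' x).1 hx
    rcases hpair α hα with ⟨a1, a2⟩ | ⟨a1, a2⟩
    · exact (hK' _).2 ⟨a1 ▸ c1.map α, a2 ▸ c2.map α⟩
    · exact (hK' _).2 ⟨a2 ▸ c2.map α, a1 ▸ c1.map α⟩
  -- the action on the quotient
  let res : CA → K →* K := fun α => ((α : MulAut G).toMonoidHom.comp K.subtype).codRestrict K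
    fun k => hCAK α α.2 k k.2
  have hkerle : ∀ α : CA, ρ.ker ≤ (ρ.comp (res α)).ker := fun α x hx =>
    MonoidHom.mem_ker.2 ((Pc.ker (res α x)).2 (hCAE α α.2 _ ((Pc.ker x).1 (MonoidHom.mem_ker.1 hx))))
  obtain ⟨Φ, hΦ⟩ : ∃ Φ : CA →* MulAut (Cfsg.PSU 4 F 2), ∀ α : CA, Φ α = 1 ↔ ∀ k : K, ρ (res α k) = ρ k := by
    let r : CA → Cfsg.PSU 4 F 2 →* Cfsg.PSU 4 F 2 := fun α =>
      ρ.liftOfSurjective Pc.surj ⟨ρ.comp (res α), hkerle α⟩
    have hr : ∀ α (k : K), r α (ρ k) = ρ (res α k) := fun α k =>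
      MonoidHom.liftOfRightInverse_comp_apply _ _ _ ⟨ρ.comp (res α), hkerle α⟩ k
    have hmul : ∀ α β p, r (α * β) p = r α (r β p) := fun α β p => by
      obtain ⟨k, rfl⟩ := Pc.surj p
      rw [hr, hr, hr]
      exact congrArg ρ (Subtype.ext rfl)
    have hone : ∀ p, r 1 p = p := fun p => by
      obtain ⟨k, rfl⟩ := Pc.surj p
      rw [hr]
      exact congrArg ρ (Subtype.ext rfl)
    let Φ₀ : CA →* MulAut (Cfsg.PSU 4 F 2) :=
      { toFun := fun α =>
          { toFun := r α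
            invFun := r α⁻¹
            left_inv := fun p => by rw [← hmul, inv_mul_cancel, hone]
            right_inv := fun p => by rw [← hmul, mul_inv_cancel, hone]
            map_mul' := map_mul (r α) }
        map_one' := MulEquiv.ext hone
        map_mul' := fun α β => MulEquiv.ext (hmul α β) }
    have hΦ₀ : ∀ α : CA, Φ₀ α = 1 ↔ ∀ k : K, ρ (res α k) = ρ k := fun α =>
      ⟨fun h k => (hr α k).symm.trans (DFunLike.congr_fun h (ρ k)), fun h => MulEquiv.ext fun p => by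
        obtain ⟨k, rfl⟩ := Pc.surj p
        exact (hr α k).trans (h k)⟩
    exact ⟨Φ₀, hΦ₀⟩
  set C := Subgroup.centralizer ({d₁ * d₂} : Set G) with hC
  have hCmem : ∀ g, g ∈ C ↔ MulAut.conj g ∈ CA := fun g => by
    rw [hC, hCAj, Subgroup.mem_centralizer_singleton_iff, MulAut.conj_apply, mul_inv_eq_iff_eq_mul]
  let inC : C →* CA := ((MulAut.conj : G →* MulAut G).comp C.subtype).codRestrict CA fun g => (hCmem g).1 g.2
  have hinC : Function.Injective inC := fun a b h => Subtype.ext (hinjc (congrArg Subtype.val h))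
  -- the kernel on inner automorphisms
  have hinE : ∀ g : G, ∀ hg : MulAut.conj g ∈ CA, (Φ ⟨_, hg⟩ = 1 ↔ g ∈ E) := by
    intro g hg
    rw [hΦ]
    constructor
    · intro h
      refine Pc.faithful g (Subgroup.mem_centralizer_singleton_iff.1 ((hCmem g).2 hg)) fun k hk => ?_
      exact (congrArg ρ (Subtype.ext rfl)).trans (h k)
    · intro h k
      have hgK : g ∈ K := Pc.le h
      rw [show res ⟨_, hg⟩ k = ⟨g, hgK⟩ * k * ⟨g, hgK⟩⁻¹ from rfl, map_mul, map_mul, map_inv,
        (Pc.ker ⟨g, hgK⟩).2 h, one_mul, inv_one, mul_one]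
  have hEC : ∀ g ∈ E, MulAut.conj g ∈ CA := fun g hg => (hCmem g).1 (Subgroup.mem_centralizer_singleton_iff.2
    (((hK' g).1 (Pc.le hg)).1.mul_right ((hK' g).1 (Pc.le hg)).2).eq)
  -- orders
  have hcardCA : Nat.card CA = 2 * (2 ^ 10 * 51840) ∧ ∃ α ∈ CA, α ∉ (MulAut.conj : G →* MulAut G).range := by
    have hidx := Uniq.card_out22 hD hprim h22
    obtain ⟨-, α, hα⟩ := Uniq.card_mulAut22 hD hprim h22
    have L := local22 hD hprim h22
    obtain ⟨g₁, hg₁⟩ := hprim.1 (α d₁) ((hAD α _).2 h₁) d₁ h₁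
    set β := MulAut.conj g₁ * α with hβ
    have hb1 : β d₁ = d₁ := by rw [hβ, MulAut.mul_apply, MulAut.conj_apply, hg₁]
    have hb2 : β d₂ ∈ Dd D d₁ := Uniq.mapsTo_Dd hD hprim h22 β hb1 ⟨h₂, Ne.symm hne, hc⟩
    obtain ⟨g₂, hg₂, hg₂'⟩ := L.perp d₁ h₁ (β d₂) hb2 d₂ ⟨h₂, Ne.symm hne, hc⟩
    set γ := MulAut.conj g₂ * β with hγ
    have hγA : γ ∈ CA := by
      have c1 : γ d₁ = d₁ := by
        show g₂ * β d₁ * g₂⁻¹ = d₁
        rw [hb1, hg₂.eq, mul_inv_cancel_right]
      have c2 : γ d₂ = d₂ := hg₂'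
      rw [hCAj, map_mul, c1, c2]
    have hγn : γ ∉ (MulAut.conj : G →* MulAut G).range := fun h => hα (by
      have := mul_mem (inv_mem (⟨g₂ * g₁, rfl⟩ : MulAut.conj (g₂ * g₁) ∈ (MulAut.conj : G →* MulAut G).range)) h
      rwa [hγ, hβ, map_mul, ← mul_assoc (MulAut.conj g₂), inv_mul_cancel_left] at this)
    refine ⟨?_, γ, hγA, hγn⟩
    have hi : inC.range.index = 2 := by
      rw [Subgroup.index_eq_two_iff_exists_notMem_and]
      refine ⟨⟨γ, hγA⟩, fun ⟨g, hg⟩ => hγn ⟨g, congrArg Subtype.val hg⟩, fun a => ?_⟩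
      by_cases ha : (a : MulAut G) ∈ (MulAut.conj : G →* MulAut G).range
      · obtain ⟨g, hg⟩ := ha
        exact Or.inr ⟨⟨g, (hCmem g).2 (hg ▸ a.2)⟩, Subtype.ext hg⟩
      · have h := (Subgroup.mul_mem_iff_of_index_two hidx).2 (iff_of_false ha hγn)
        obtain ⟨g, hg⟩ := h
        refine Or.inl ⟨⟨g, (hCmem g).2 (hg ▸ mul_mem a.2 hγA)⟩, Subtype.ext hg⟩
    rw [← inC.range.card_mul_index, hi, ← Nat.card_congr (MonoidHom.ofInjective hinC).toEquiv, hC, Pc.cardC]
    ring
  have hΦs : Function.Surjective Φ := by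
    let f := Φ.comp inC
    have hk : f.ker = E.subgroupOf C := Subgroup.ext fun g => hinE g _
    have h := f.ker.card_mul_index
    rw [Subgroup.index_ker, hk, Nat.card_congr (Subgroup.subgroupOfEquivOfLe (fun g hg => (hCmem g).2 (hEC g hg))).toEquiv,
      Pc.card, show Nat.card C = 2 ^ 10 * 51840 from Pc.cardC] at h
    haveI : Finite (MulAut (Cfsg.PSU 4 F 2)) := Nat.finite_of_card_ne_zero (by rw [hA4]; norm_num)
    have hs' : f.range = ⊤ := Subgroup.eq_top_of_card_eq _ (by rw [hA4]; omega)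
    intro p
    obtain ⟨g, hg⟩ := MonoidHom.range_eq_top.1 hs' p
    exact ⟨inC g, hg⟩
  set N := Φ.ker with hN
  have hNcard : Nat.card N = 2 ^ 11 := by
    have h := Φ.ker.card_mul_index
    rw [Subgroup.index_ker, MonoidHom.range_eq_top.2 hΦs, Subgroup.card_top, hA4, hcardCA.1] at h
    refine Nat.eq_of_mul_eq_mul_right (show 0 < 51840 by norm_num) (h.trans ?_)
    norm_num
  have hN2 : IsPGroup 2 N := IsPGroup.of_card hNcard
  set Q₀ := N.map CA.subtype with hQ₀
  have hQ₀card : Nat.card Q₀ = 2 ^ 11 := by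
    rw [hQ₀, Subgroup.card_map_of_injective CA.subtype_injective, hNcard]
  have hQmem : ∀ α, α ∈ Q₀ ↔ ∃ h : α ∈ CA, Φ ⟨α, h⟩ = 1 := fun α => by
    constructor
    · rintro ⟨x, hx, rfl⟩; exact ⟨x.2, hx⟩
    · rintro ⟨h, h'⟩; exact ⟨⟨α, h⟩, h', rfl⟩
  have hQE : ∀ g, MulAut.conj g ∈ Q₀ ↔ g ∈ E := fun g => by
    rw [hQmem]
    exact ⟨fun ⟨h, h'⟩ => (hinE g h).1 h', fun h => ⟨hEC g h, (hinE g _).2 h⟩⟩
  have hQn : ∀ α ∈ CA, ∀ q ∈ Q₀, α * q * α⁻¹ ∈ Q₀ := by
    rintro α hα _ ⟨x, hx, rfl⟩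
    exact ⟨⟨α, hα⟩ * x * (⟨α, hα⟩ : CA)⁻¹, (MonoidHom.normal_ker Φ).conj_mem x hx _, rfl⟩
  have hQCA : Q₀ ≤ CA := Subgroup.map_subtype_le _
  have hpow : ∀ q ∈ Q₀, q ^ (2 ^ 11) = 1 := fun q hq => by
    have h := orderOf_dvd_natCard (⟨q, hq⟩ : Q₀)
    rw [hQ₀card] at h
    rw [Subgroup.orderOf_mk] at h
    exact orderOf_dvd_iff_pow_eq_one.1 h
  -- congruent members
  have hPst : ∀ α ∈ CA, ∀ z ∈ P, α z ∈ P := fun α hα z hz => by
    have m : ∀ {a b : G}, α a = b → z ∈ Dd D a → α z ∈ Dd D b := fun {a b} e hz =>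
      ⟨(hAD α z).2 hz.1, fun k => hz.2.1 (α.injective (k.trans e.symm)), e ▸ hz.2.2.map α⟩
    rcases hpair α hα with ⟨a1, a2⟩ | ⟨a1, a2⟩
    exacts [⟨m a1 hz.1, m a2 hz.2⟩, ⟨m a2 hz.2, m a1 hz.1⟩]
  have hcl : ∀ q ∈ Q₀, ∀ y ∈ P, ∃ x ∈ E, q y = x * y * x⁻¹ ∧ ∀ w ∈ restHex D d₁ d₂ y, q w = x * w * x⁻¹ := by
    intro q hq y hy
    have hqC := hQCA hq
    have hqy : q y ∈ P := hPst q hqC y hy
    obtain ⟨h', hq1⟩ := (hQmem q).1 hq
    have hyK : y ∈ K := (hK' y).2 ⟨hy.1.2.2.symm, hy.2.2.2.symm⟩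
    have hsame : y * q y ∈ E := by
      refine (Pc.ker ⟨y * q y, mul_mem hyK (hCAK q hqC y hyK)⟩).1 ?_
      rw [show (⟨y * q y, mul_mem hyK (hCAK q hqC y hyK)⟩ : K) = ⟨y, hyK⟩ * res ⟨q, h'⟩ ⟨y, hyK⟩ from rfl,
        map_mul, (hΦ _).1 hq1, ← map_mul]
      rw [show (⟨y, hyK⟩ * ⟨y, hyK⟩ : K) = 1 from Subtype.ext (mul_self hs hy.1.1), map_one]
    obtain ⟨x, hx, hxy⟩ : ∃ x ∈ E, x * y * x⁻¹ = q y := by
      rcases Pc.back y hy _ hqy hsame with h | h
      · exact ⟨1, one_mem _, by rw [h]; group⟩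
      · exact (Pc.orbit y hy _ h).2.2.2
    refine ⟨x, hx, hxy.symm, ?_⟩
    obtain ⟨τ, z₁, z₂, z₃, τ1, τ2, τy, n12, n23, n13, hR, c12, c23, c31⟩ := Pc.cycle y hy
    have hτ : MulAut.conj τ ∈ CA := (hCAj _).2 (by
      rw [MulAut.conj_apply, (τ1.mul_right τ2).eq, mul_inv_cancel_right])
    -- elements fixing the member fix the rest
    have hfix : ∀ p ∈ Q₀, p y = y → ∀ w ∈ restHex D d₁ d₂ y, p w = w := by
      have stable : ∀ {p : MulAut G}, p ∈ Q₀ → p y = y → ∀ w ∈ restHex D d₁ d₂ y, p w ∈ restHex D d₁ d₂ y := by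
        intro p hp hpy w hw
        have hw' := (Pc.orbit y hy w hw)
        have hyw : y * w ∈ E := Subgroup.subset_closure (Or.inr ⟨y, hy, w, hw, rfl⟩)
        have hm := hCAE p (hQCA hp) _ hyw
        rw [map_mul, hpy] at hm
        exact (Pc.back y hy _ (hPst p (hQCA hp) w hw'.1) hm).resolve_left fun k =>
          hw'.2.1 (p.injective (k.trans hpy.symm)).symm
      refine fix_three (Q₀ ⊓ MulAction.stabilizer (MulAut G) y) hR n12 n23 n13 (MulAut.conj τ)
        c12 c23 c31 (fun p hp => hpow p hp.1) (fun p hp => stable hp.1 (MulAction.mem_stabilizer_iff.1 hp.2))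
        (fun p hp => ⟨hQn _ hτ p hp.1, MulAction.mem_stabilizer_iff.2 ?_⟩) |> fun k p hp hpy => k p
          ⟨hp, MulAction.mem_stabilizer_iff.2 hpy⟩
      show τ * p (τ⁻¹ * y * τ) * τ⁻¹ = y
      rw [show τ⁻¹ * y * τ = y by rw [mul_assoc, ← τy.eq, inv_mul_cancel_left],
        show p y = y from MulAction.mem_stabilizer_iff.1 hp.2, τy.eq, mul_inv_cancel_right]
    intro w hw
    have hp := hfix (MulAut.conj x⁻¹ * q) (mul_mem ((hQE _).2 (inv_mem hx)) hq)
      (by rw [MulAut.mul_apply, ← hxy, MulAut.conj_apply]; group) w hw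
    rw [MulAut.mul_apply, MulAut.conj_apply] at hp
    calc q w = x * (x⁻¹ * q w * x⁻¹⁻¹) * x⁻¹ := by group
      _ = x * w * x⁻¹ := by rw [hp]
  -- the action on the subgroup
  have jc : ∀ x ∈ E, Commute x (d₁ * d₂) := fun x hx =>
    ((hK' x).1 (Pc.le hx)).1.mul_right ((hK' x).1 (Pc.le hx)).2
  have hact : ∀ q ∈ Q₀, ∀ x ∈ E, q x = x ∨ q x = d₁ * d₂ * x := by
    intro q hq x hx
    induction hx using Subgroup.closure_induction with
    | mem t ht =>
      rcases ht with h | ⟨y, hy, w, hw, rfl⟩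
      · rcases hpair q (hQCA hq) with ⟨a1, a2⟩ | ⟨a1, a2⟩ <;> rcases h with rfl | rfl
        · exact Or.inl a1
        · exact Or.inl a2
        · exact Or.inr (by rw [a1, hc.eq, mul_assoc, d11, mul_one])
        · exact Or.inr (by rw [a2, mul_assoc, d22, mul_one])
      · obtain ⟨z, hz, zy, zw⟩ := hcl q hq y hy
        have e : q (y * w) = z * (y * w) * z⁻¹ := by rw [map_mul, zy, zw w hw]; group
        have hyw : y * w ∈ E := Subgroup.subset_closure (Or.inr ⟨y, hy, w, hw, rfl⟩)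
        rcases Pc.table z hz _ hyw with h | h
        · exact Or.inl (by rw [e, h, mul_inv_cancel_right])
        · exact Or.inr (by rw [e, h, ← mul_assoc, mul_inv_cancel_right])
    | one => exact Or.inl (map_one q)
    | mul a b ha hb iha ihb =>
      rcases iha with u | u <;> rcases ihb with v | v <;> rw [map_mul, u, v]
      · exact Or.inl rfl
      · exact Or.inr (by rw [← mul_assoc, (jc a ha).eq, mul_assoc])
      · exact Or.inr (mul_assoc _ _ _)
      · refine Or.inl ?_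
        calc d₁ * d₂ * a * (d₁ * d₂ * b) = d₁ * d₂ * (a * (d₁ * d₂)) * b := by group
          _ = a * b := by rw [(jc a ha).eq, ← mul_assoc (d₁ * d₂) (d₁ * d₂) a, hjj, one_mul]
    | inv a ha iha =>
      rcases iha with u | u <;> rw [map_inv, u]
      · exact Or.inl rfl
      · refine Or.inr ?_
        rw [mul_inv_rev, inv_eq_of_mul_eq_one_right hjj]
        exact (jc a ha).inv_left.eq
  -- automorphisms fixing the subgroup
  have hfixE : ∀ q : MulAut G, (∀ x ∈ E, q x = x) → ∃ v ∈ E, (v = 1 ∨ v = d₁ ∨ v = d₂ ∨ v = d₁ * d₂) ∧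
      q = MulAut.conj v := by
    intro q hq
    have hqP : ∀ y ∈ P, q y = y := by
      intro y hy
      obtain ⟨τ, z₁, z₂, z₃, -, -, -, n12, -, -, hR, -, -, -⟩ := Pc.cycle y hy
      have one : ∀ w ∈ restHex D d₁ d₂ y, q y = y ∨ q y = w := fun w hw => by
        obtain ⟨hwP, hyw, hcw, -⟩ := Pc.orbit y hy w hw
        rcases CfsgLib.ThreeTrans.pair_unique hs r4 hy.1.1 hwP.1.1 ((hAD q _).2 hy.1.1) ((hAD q _).2 hwP.1.1) hyw
          (fun e => hyw (q.injective e)) hcw (hcw.map q)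
          (by rw [← map_mul, hq _ (Subgroup.subset_closure (Or.inr ⟨y, hy, w, hw, rfl⟩))]) with ⟨u, -⟩ | ⟨u, -⟩
        exacts [Or.inl u, Or.inr u]
      rcases one z₁ (hR ▸ Or.inl rfl) with h | h
      · exact h
      rcases one z₂ (hR ▸ Or.inr (Or.inl rfl)) with h' | h'
      · exact h'
      exact absurd (h.symm.trans h') n12
    obtain ⟨v, hv, e⟩ := Pc.fix q (hq _ e1) (hq _ e2) hqP
    exact ⟨v, by rcases hv with rfl | rfl | rfl | rfl; exacts [one_mem _, e1, e2, hjE], hv, e⟩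
  -- those fixing the two members are inner
  have hW : ∀ q ∈ Q₀, q d₁ = d₁ → ∃ g ∈ E, q = MulAut.conj g := by
    intro q hq hq1
    by_cases hall : ∀ x ∈ E, q x = x
    · obtain ⟨v, hv, -, e⟩ := hfixE q hall
      exact ⟨v, hv, e⟩
    push Not at hall
    obtain ⟨x₀, hx₀, hqx₀⟩ := hall
    have hq2 : q d₂ = d₂ := by
      rcases hpair q (hQCA hq) with ⟨-, h⟩ | ⟨h, -⟩
      · exact h
      · exact absurd (hq1.symm.trans h) hne
    -- the fixed elements
    let Nf : Subgroup E :=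
      { carrier := {x | q x = x}
        one_mem' := map_one q
        mul_mem' := fun {a b} ha hb => by
          show q ((a : G) * b) = _
          rw [map_mul, show q a = a from ha, show q b = b from hb]
          rfl
        inv_mem' := fun {a} ha => by
          show q (a : G)⁻¹ = _
          rw [map_inv, show q a = a from ha]
          rfl }
    have hcenE : ∀ x : E, x ∈ Subgroup.center E → q x = x := fun x hx => by
      rcases Pc.central x x.2 (fun y hy => (congrArg Subtype.val (Subgroup.mem_center_iff.1 hx ⟨y, hy⟩)).symm) with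
        h | h | h | h <;> rw [h]
      exacts [map_one q, hq1, hq2, by rw [map_mul, hq1, hq2]]
    set jE : E := ⟨d₁ * d₂, hjE⟩
    obtain ⟨f, hfN, hfc⟩ : ∃ f : E, (∀ n ∈ Nf, Commute n f) ∧ f ∉ Subgroup.center E := by
      by_contra hno
      push Not at hno
      have htop := DualExtra.closure_eq_top (j := jE) (S := (Nf : Set E)) (Subtype.ext hjj)
        (fun s hs' x => by
          rcases Pc.table s s.2 x x.2 with h | h
          · exact Or.inl (Subtype.ext (by show (s : G) * x * (s : G)⁻¹ * (x : G)⁻¹ = 1; rw [h]; group))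
          · exact Or.inr (Subtype.ext (by show (s : G) * x * (s : G)⁻¹ * (x : G)⁻¹ = d₁ * d₂; rw [h]; group)))
        fun x hx => hno x hx
      have hle : Subgroup.closure ((Subgroup.center E : Set E) ∪ Nf) ≤ Nf :=
        (Subgroup.closure_le _).2 (Set.union_subset (fun x hx => hcenE x hx) subset_rfl)
      exact hqx₀ (hle (htop ▸ Subgroup.mem_top (⟨x₀, hx₀⟩ : E)))
    have hout : ∀ x : E, x ∉ Nf → q x = d₁ * d₂ * x := fun x hx => (hact q hq x x.2).resolve_left hx
    have hqj : q (d₁ * d₂) = d₁ * d₂ := by rw [map_mul, hq1, hq2]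
    have hfout : ∀ x : E, x ∉ Nf → (f : G) * x * (f : G)⁻¹ = d₁ * d₂ * x := by
      intro x hx
      rcases Pc.table f f.2 x x.2 with h | h
      · refine absurd (Subgroup.mem_center_iff.2 fun g => ?_) hfc
        by_cases hg : g ∈ Nf
        · exact (hfN g hg).eq
        · have hm : g * x ∈ Nf := by
            show q ((g : G) * x) = _
            rw [map_mul, hout g hg, hout x hx]
            calc d₁ * d₂ * (g : G) * (d₁ * d₂ * x) = d₁ * d₂ * ((g : G) * (d₁ * d₂)) * x := by group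
              _ = (g : G) * x := by rw [(jc g g.2).eq, ← mul_assoc (d₁ * d₂) (d₁ * d₂) (g : G), hjj, one_mul]
          have hx' : Commute x f := Subtype.ext h.symm
          have := (hfN _ hm).mul_left hx'.inv_left
          rwa [mul_inv_cancel_right] at this
      · rw [h, mul_assoc, mul_inv_cancel_right]
    obtain ⟨v, hv, -, e⟩ := hfixE (MulAut.conj (f : G)⁻¹ * q) fun x hx => by
      rw [MulAut.mul_apply, MulAut.conj_apply]
      by_cases hxN : (⟨x, hx⟩ : E) ∈ Nf
      · have := congrArg Subtype.val (hfN _ hxN).eq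
        simp only [Subgroup.coe_mul] at this
        rw [show q x = x from hxN, mul_assoc, inv_inv, this, inv_mul_cancel_left]
      · rw [hout _ hxN, ← hfout _ hxN]
        group
    refine ⟨f * v, mul_mem f.2 hv, ?_⟩
    rw [map_mul, ← e, map_inv, mul_inv_cancel_left]
  -- an outer element
  obtain ⟨q₀, hq₀, hq₀s, hq₀o⟩ : ∃ q₀ ∈ Q₀, q₀ d₁ = d₂ ∧ ∀ q ∈ Q₀, (∃ g ∈ E, q = MulAut.conj g) ∨
      ∃ g ∈ E, q = q₀ * MulAut.conj g := by
    obtain ⟨q₀, hq₀, hno⟩ : ∃ q₀ ∈ Q₀, ∀ g ∈ E, q₀ ≠ MulAut.conj g := by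
      by_contra! hall
      have hle : Q₀ ≤ E.map (MulAut.conj : G →* MulAut G) := fun q hq => by
        obtain ⟨g, hg, e⟩ := hall q hq; exact ⟨g, hg, e.symm⟩
      have := Subgroup.card_le_of_le hle
      rw [hQ₀card, Subgroup.card_map_of_injective hinjc, Pc.card] at this
      norm_num at this
    have hsw : q₀ d₁ = d₂ := by
      rcases hpair q₀ (hQCA hq₀) with ⟨h, -⟩ | ⟨h, -⟩
      · obtain ⟨g, hg, e⟩ := hW q₀ hq₀ h
        exact absurd e (hno g hg)
      · exact h
    refine ⟨q₀, hq₀, hsw, fun q hq => ?_⟩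
    rcases hpair q (hQCA hq) with ⟨h, -⟩ | ⟨h, -⟩
    · exact Or.inl (hW q hq h)
    · obtain ⟨g, hg, e⟩ := hW (q₀⁻¹ * q) (mul_mem (inv_mem hq₀) hq) (by
        rw [MulAut.mul_apply, h, MulAut.inv_apply, MulEquiv.symm_apply_eq, hsw])
      exact Or.inr ⟨g, hg, by rw [← e, mul_inv_cancel_left]⟩
  have hswap : q₀ d₂ = d₁ := by
    rcases hpair q₀ (hQCA hq₀) with ⟨h, -⟩ | ⟨-, h⟩
    · exact absurd (h.symm.trans hq₀s) hne
    · exact h
  have hjQ : j ∈ Q₀ := hj ▸ (hQE _).2 hjE
  set jq : Q₀ := ⟨j, hjQ⟩ with hjq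
  have hjqc : ∀ x : Q₀, Commute jq x := fun x =>
    Subtype.ext (Subgroup.mem_centralizer_singleton_iff.1 (hQCA x.2)).symm
  have hE_comm : ∀ a ∈ E, ∀ b ∈ E, MulAut.conj a * MulAut.conj b = MulAut.conj b * MulAut.conj a ∨
      MulAut.conj a * MulAut.conj b = j * (MulAut.conj b * MulAut.conj a) := by
    intro a ha b hb
    rcases Pc.table a ha b hb with h | h
    · exact Or.inl (by rw [← map_mul, h, map_mul])
    · exact Or.inr (by rw [← map_mul, h, hj]; simp only [map_mul])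
  have hq_comm : ∀ q ∈ Q₀, ∀ g ∈ E, q * MulAut.conj g = MulAut.conj g * q ∨
      q * MulAut.conj g = j * (MulAut.conj g * q) := by
    intro q hq g hg
    rcases hact q hq g hg with h | h
    · exact Or.inl (by rw [← mul_inv_eq_iff_eq_mul, hconj, h])
    · refine Or.inr ?_
      rw [← mul_assoc, ← mul_inv_eq_iff_eq_mul, hconj, h, map_mul, hj]
  have hjsq : j * j = 1 := by rw [hj, ← map_mul, hjj, map_one]
  have hsq₀ : q₀ * q₀ = 1 ∨ q₀ * q₀ = j := by
    obtain ⟨f, hf, e⟩ := hW (q₀ * q₀) (mul_mem hq₀ hq₀) (by rw [MulAut.mul_apply, hq₀s, hswap])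
    have htriv : ∀ x ∈ E, f * x * f⁻¹ = x := fun x hx => by
      show MulAut.conj f x = x
      rw [← e, MulAut.mul_apply]
      rcases hact q₀ hq₀ x hx with h | h
      · rw [h, h]
      · rw [h, map_mul, map_mul, hq₀s, hswap, hc.symm.eq, h, ← mul_assoc, hjj, one_mul]
    have hqf : q₀ f = f := hinjc (by rw [← hconj, ← e]; group)
    rcases Pc.central f hf (fun y hy => mul_inv_eq_iff_eq_mul.1 (htriv y hy)) with h | h | h | h <;> rw [h] at e hqf
    · exact Or.inl (e.trans (map_one _))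
    · exact absurd (hqf.symm.trans hq₀s) hne
    · exact absurd (hswap.symm.trans hqf) hne
    · exact Or.inr (e.trans hj.symm)
  have jcA : ∀ x ∈ Q₀, j * x = x * j := fun x hx => congrArg Subtype.val (hjqc ⟨x, hx⟩).eq
  have hcomm : ∀ a ∈ Q₀, ∀ b ∈ Q₀, a * b = b * a ∨ a * b = j * (b * a) := by
    have conv : ∀ {a b : MulAut G}, a * b = j * (b * a) → b * a = j * (a * b) := fun h => by
      rw [h, ← mul_assoc, hjsq, one_mul]
    have cmul : ∀ {x y z : MulAut G}, y ∈ Q₀ → (x * y = y * x ∨ x * y = j * (y * x)) →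
        (x * z = z * x ∨ x * z = j * (z * x)) → x * (y * z) = y * z * x ∨ x * (y * z) = j * (y * z * x) := by
      intro x y z hy u v
      rcases u with u | u <;> rcases v with v | v
      · exact Or.inl (by rw [← mul_assoc, u, mul_assoc, v, mul_assoc])
      · exact Or.inr (by rw [← mul_assoc, u, mul_assoc, v, ← mul_assoc y, ← jcA y hy]; simp only [mul_assoc])
      · exact Or.inr (by rw [← mul_assoc, u, mul_assoc j, mul_assoc y, v, mul_assoc y])
      · exact Or.inl (by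
          rw [← mul_assoc, u, mul_assoc j, mul_assoc y, v, ← mul_assoc y j, ← jcA y hy]
          simp only [← mul_assoc, hjsq, one_mul])
    intro a ha b hb
    rcases hq₀o a ha with ⟨g, hg, rfl⟩ | ⟨g, hg, rfl⟩
    · rcases hq_comm b hb g hg with h | h
      exacts [Or.inl h.symm, Or.inr (conv h)]
    rcases hq₀o b hb with ⟨g', hg', rfl⟩ | ⟨g', hg', rfl⟩
    · exact hq_comm _ ha g' hg'
    have h0 : (q₀ * MulAut.conj g) * q₀ = q₀ * (q₀ * MulAut.conj g) ∨
        (q₀ * MulAut.conj g) * q₀ = j * (q₀ * (q₀ * MulAut.conj g)) := by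
      rcases cmul hq₀ (Or.inl (rfl : q₀ * q₀ = q₀ * q₀)) (hq_comm q₀ hq₀ g hg) with h | h
      exacts [Or.inl h.symm, Or.inr (conv h)]
    exact cmul hq₀ h0 (hq_comm _ ha g' hg')
  -- extraspecial
  have hcen : ∀ x : Q₀, (∀ y, x * y = y * x) → x = 1 ∨ x = jq := by
    rintro ⟨x, hx⟩ hxc
    have hcE : ∀ y ∈ E, x y = y := fun y hy => hinjc (by
      rw [← hconj, show x * MulAut.conj y = MulAut.conj y * x from
        congrArg Subtype.val (hxc ⟨_, (hQE y).2 hy⟩), mul_inv_cancel_right])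
    obtain ⟨v, -, hv, rfl⟩ := hfixE x hcE
    have hqv : q₀ v = v := hinjc (by
      rw [← hconj, show q₀ * MulAut.conj v = MulAut.conj v * q₀ from
        (congrArg Subtype.val (hxc ⟨q₀, hq₀⟩)).symm, mul_inv_cancel_right])
    rcases hv with rfl | rfl | rfl | rfl
    · exact Or.inl (Subtype.ext (map_one _))
    · exact absurd (hqv.symm.trans hq₀s) hne
    · exact absurd (hswap.symm.trans hqv) hne
    · exact Or.inr (Subtype.ext hj.symm)
  have hjne' : j ≠ 1 := fun h => hjne (hinjc (by rw [map_one, ← hj, h]))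
  have hsq : ∀ x : Q₀, x * x = 1 ∨ x * x = jq := by
    have hE_sq : ∀ g ∈ E, MulAut.conj g * MulAut.conj g = 1 ∨ MulAut.conj g * MulAut.conj g = j := fun g hg => by
      rw [← map_mul]
      rcases Pc.square g hg with h | h <;> rw [h]
      exacts [Or.inl (map_one _), Or.inr hj.symm]
    rintro ⟨x, hx⟩
    rcases hq₀o x hx with ⟨g, hg, rfl⟩ | ⟨g, hg, rfl⟩
    · exact (hE_sq g hg).imp (fun h => Subtype.ext h) fun h => Subtype.ext h
    have mem : ∀ {u v : MulAut G}, (u = 1 ∨ u = j) → (v = 1 ∨ v = j) → (u * v = 1 ∨ u * v = j) := by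
      rintro u v (rfl | rfl) (rfl | rfl) <;> simp [hjsq]
    have : q₀ * MulAut.conj g * (q₀ * MulAut.conj g) = 1 ∨ q₀ * MulAut.conj g * (q₀ * MulAut.conj g) = j := by
      rcases hq_comm q₀ hq₀ g hg with u | u
      · rw [show q₀ * MulAut.conj g * (q₀ * MulAut.conj g) = q₀ * (MulAut.conj g * q₀) * MulAut.conj g by group,
          ← u, show q₀ * (q₀ * MulAut.conj g) * MulAut.conj g = (q₀ * q₀) * (MulAut.conj g * MulAut.conj g) by group]
        exact mem hsq₀ (hE_sq g hg)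
      · rw [show q₀ * MulAut.conj g * (q₀ * MulAut.conj g) = (q₀ * MulAut.conj g) * q₀ * MulAut.conj g by group, u,
          show j * (MulAut.conj g * q₀) * q₀ * MulAut.conj g = j * (MulAut.conj g * (q₀ * q₀) * MulAut.conj g) by group]
        refine mem (Or.inr rfl) ?_
        rcases hsq₀ with k | k <;> rw [k]
        · rw [mul_one]; exact hE_sq g hg
        · rw [← jcA _ ((hQE g).2 hg), mul_assoc]; exact mem (Or.inr rfl) (hE_sq g hg)
    exact this.imp (fun h => Subtype.ext h) fun h => Subtype.ext h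
  have hnab : ∃ a b : Q₀, a * b ≠ b * a := by
    by_contra! hab
    have hle : (Set.univ : Set Q₀) ⊆ {1, jq} := fun x _ => hcen x (hab x)
    have h := Set.ncard_le_ncard hle (Set.toFinite _)
    rw [Set.ncard_univ, hQ₀card, Set.ncard_pair (fun h => hjne' (congrArg Subtype.val h).symm)] at h
    norm_num at h
  have hex : Cfsg.IsExtraspecial 2 Q₀ := by
    refine CfsgLib.Icosian.isExtraspecial_of_table (IsPGroup.of_card hQ₀card) (z := jq)
      (fun h => hjne' (congrArg Subtype.val h)) (Subtype.ext hjsq) (fun x => (hjqc x).eq) hsq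
      (fun x y => (hcomm x x.2 y y.2).imp (fun h => Subtype.ext h) fun h => Subtype.ext h) hcen hnab
  have hjc : jq ∈ Subgroup.center Q₀ := Subgroup.mem_center_iff.2 fun x => (hjqc x).eq.symm
  have hZ : (Subgroup.center Q₀).map Q₀.subtype = Subgroup.zpowers j := by
    refine le_antisymm ?_ (Subgroup.zpowers_le.2 ⟨jq, hjc, rfl⟩)
    rintro _ ⟨x, hx, rfl⟩
    rcases hcen x (fun y => (Subgroup.mem_center_iff.1 hx y).symm) with rfl | rfl
    exacts [one_mem _, Subgroup.mem_zpowers j]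
  have hcentQ : Subgroup.centralizer (Q₀ : Set (MulAut G)) = (Subgroup.center Q₀).map Q₀.subtype := by
    refine le_antisymm (fun a ha => ?_) ?_
    · have haE : ∀ y ∈ E, a y = y := fun y hy => hinjc (by
        rw [← hconj, ← Subgroup.mem_centralizer_iff.1 ha _ ((hQE y).2 hy), mul_inv_cancel_right])
      obtain ⟨v, hvE, -, rfl⟩ := hfixE a haE
      exact ⟨⟨_, (hQE v).2 hvE⟩, Subgroup.mem_center_iff.2 fun y =>
        Subtype.ext (Subgroup.mem_centralizer_iff.1 ha y y.2), rfl⟩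
    · rintro _ ⟨x, hx, rfl⟩
      exact Subgroup.mem_centralizer_iff.2 fun y hy => congrArg Subtype.val (Subgroup.mem_center_iff.1 hx ⟨y, hy⟩)
  have hCAn : CA ≤ Subgroup.normalizer (Q₀ : Set (MulAut G)) := fun α hα => by
    rw [Subgroup.mem_normalizer_iff]
    intro x
    refine ⟨hQn α hα x, fun h => ?_⟩
    have := hQn α⁻¹ (inv_mem hα) _ h
    simpa [mul_assoc] using this
  have hCZ : Subgroup.centralizer (((Subgroup.center Q₀).map Q₀.subtype : Subgroup (MulAut G)) : Set (MulAut G)) ≤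
      Subgroup.normalizer (Q₀ : Set (MulAut G)) := by
    intro α hα
    refine hCAn (Subgroup.mem_centralizer_singleton_iff.2 ?_)
    exact (Subgroup.mem_centralizer_iff.1 hα j (hZ ▸ Subgroup.mem_zpowers j)).symm
  have hodd : ∀ R : Subgroup (MulAut G), Odd (Nat.card R) → Q₀ ≤ Subgroup.normalizer (R : Set (MulAut G)) →
      R = ⊥ := by
    intro R hR hQR
    have hfz : ∀ k ∈ R, j * k = k * j → k = 1 := fun k hk hjk => by
      refine CfsgLib.LargeExtra.odd_trivial_of_centralizes_centre hex hcentQ hCZ hR hQR hk fun z hz => ?_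
      rw [hZ] at hz
      obtain ⟨i, rfl⟩ := Subgroup.mem_zpowers_iff.1 hz
      exact (Commute.zpow_left hjk i).eq
    -- two congruent members
    obtain ⟨y, hy⟩ : P.Nonempty := by
      have L := local22 hD hprim h22
      refine Set.nonempty_of_ncard_ne_zero ?_
      rw [L.lam d₁ h₁ d₂ ⟨h₂, Ne.symm hne, hc⟩]; norm_num
    obtain ⟨τ, z₁, z₂, z₃, -, -, -, -, -, -, hRy, -, -, -⟩ := Pc.cycle y hy
    have hw : z₁ ∈ restHex D d₁ d₂ y := hRy ▸ Or.inl rfl
    obtain ⟨hwP, hyw, hcyw, -⟩ := Pc.orbit y hy z₁ hw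
    have hsE : y * z₁ ∈ E := Subgroup.subset_closure (Or.inr ⟨y, hy, z₁, hw, rfl⟩)
    set s := MulAut.conj (y * z₁) with hsdef
    have hsQ : s ∈ Q₀ := (hQE _).2 hsE
    have hss : (y * z₁) * (y * z₁) = 1 := by
      rw [mul_assoc, ← mul_assoc z₁ y, ← hcyw.eq, mul_assoc, mul_self hs hwP.1.1, mul_one, mul_self hs hy.1.1]
    obtain ⟨x, hx, hxs⟩ : ∃ x ∈ E, x * (y * z₁) * x⁻¹ = d₁ * d₂ * (y * z₁) := by
      by_contra! hno
      have hall : ∀ x ∈ E, Commute (y * z₁) x := fun x hx => by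
        rcases Pc.table x hx _ hsE with h | h
        · exact h.symm
        · exact absurd (by rw [h, mul_assoc, mul_inv_cancel_right]) (hno x hx)
      rcases Pc.central _ hsE hall with h | h | h | h
      · exact hyw ((eq_inv_of_mul_eq_one_left h).trans (inv_eq hs hwP.1.1))
      · refine (good22 hD h22).rel 3 (by norm_num) (by norm_num) [y, z₁, d₁] ?_ rfl ?_ ?_ ?_
        · simp [hyw, hy.1.2.1, hwP.1.2.1]
        · simp [hy.1.1, hwP.1.1, h₁]
        · simp [hcyw, hcyw.symm, hy.1.2.2, hy.1.2.2.symm, hwP.1.2.2, hwP.1.2.2.symm, Commute.refl]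
        · simp only [List.prod_cons, List.prod_nil, mul_one]
          rw [← mul_assoc, h, d11]
      · refine (good22 hD h22).rel 3 (by norm_num) (by norm_num) [y, z₁, d₂] ?_ rfl ?_ ?_ ?_
        · simp [hyw, hy.2.2.1, hwP.2.2.1]
        · simp [hy.1.1, hwP.1.1, h₂]
        · simp [hcyw, hcyw.symm, hy.2.2.2, hy.2.2.2.symm, hwP.2.2.2, hwP.2.2.2.symm, Commute.refl]
        · simp only [List.prod_cons, List.prod_nil, mul_one]
          rw [← mul_assoc, h, d22]
      · rcases CfsgLib.ThreeTrans.pair_unique hs r4 h₁ h₂ hy.1.1 hwP.1.1 hne hyw hc hcyw h.symm with ⟨u, -⟩ | ⟨u, -⟩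
        exacts [hy.1.2.1 u, hy.2.2.1 u]
    have hfs : ∀ k ∈ R, s * k = k * s → k = 1 := by
      intro k hk hsk
      refine hfz k hk ?_
      -- the pair at the two congruent members
      have hks : k (z₁ * y) = z₁ * y := by
        rw [← hcyw.eq]
        refine hinjc ?_
        rw [← hconj, ← hsdef, ← hsk, mul_inv_cancel_right]
      have hkpair : (k z₁ = z₁ ∧ k y = y) ∨ (k z₁ = y ∧ k y = z₁) :=
        CfsgLib.ThreeTrans.pair_unique hs r4 hwP.1.1 hy.1.1 ((hAD k _).2 hwP.1.1) ((hAD k _).2 hy.1.1) (Ne.symm hyw)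
          (fun e => hyw (k.injective e).symm) hcyw.symm (hcyw.symm.map k) (by rw [← map_mul, hks])
      obtain ⟨F', _, _, ρ', Pc'⟩ := exists_pairCore hD hprim d₀ hd₀ h3 h2 h22 z₁ y hwP.1.1 hy.1.1 (Ne.symm hyw)
        hcyw.symm
      set E' := hexGen D z₁ y with hE'
      have hjE' : d₁ * d₂ ∈ E' := by
        have hd1 : d₁ ∈ Dd D z₁ ∩ Dd D y := ⟨Dd_symm h₁ hwP.1, Dd_symm h₁ hy.1⟩
        refine Subgroup.subset_closure (Or.inr ⟨d₁, hd1, d₂, ?_, rfl⟩)
        obtain ⟨F₂, _, _, D22⟩ := exists_data22 hD hprim h22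
        obtain ⟨Ecls, S, T⟩ := D22.stage
        obtain ⟨π, M⟩ := S.base d₁ h₁
        have hd₂ : d₂ ∈ Dd D d₁ := ⟨h₂, Ne.symm hne, hc⟩
        obtain ⟨hwd, hwl⟩ := restHex_fwd M hd₂ hy.1 hw
        have hsym : phi π d₂ ∈ USix.TClass.restLine Ecls (phi π z₁) (phi π y) := by
          have he := M.mem hd₂
          have hpy := (M.mem_Dd hd₂ hy.1).2 hy.2
          obtain ⟨e₁, e₂, e₃, hnd, hmem, hcm, hpr, hall⟩ :=
            (T.lineClass' D22.four).line _ he _ hpy.1 (Ne.symm hpy.2.1) hpy.2.2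
          have hz : phi π z₁ ∈ [phi π d₂, phi π y, e₁, e₂, e₃] := by
            exact hall _ hwl.1 (hwl.2.2.2 _ he (Commute.refl _) hpy.2.2)
              (hwl.2.2.2 _ hpy.1 hpy.2.2.symm (Commute.refl _)) fun u hu u1 u2 => hwl.2.2.2 u hu u1 u2
          refine ⟨he, fun e => hwl.2.1 e.symm, Ne.symm hpy.2.1, fun u hu u1 u2 => ?_⟩
          exact ((T.lineClass' D22.four).five _ hnd rfl hmem hcm hpr _ hz (phi π y) (by simp) hwl.2.2.1
            (phi π d₂) (by simp) u hu u1 u2).symm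
        obtain ⟨z, hz, hzd, hze⟩ := restHex_bwd M hwd hy.1 hsym
        have := M.inj hzd hd₂ hze
        subst this
        rw [restHex_rot, restHex_rot] at hz
        exact hz
      have hkE' : ∀ t ∈ E', k t ∈ E' := fun t ht => by
        have hm : k t ∈ (hexGen D z₁ y).map k.toMonoidHom := Subgroup.mem_map_of_mem _ ht
        rw [map_hexGen k (hAD k) z₁ y] at hm
        rcases hkpair with ⟨a1, a2⟩ | ⟨a1, a2⟩ <;> rw [a1, a2] at hm
        · exact hm
        · rwa [hexGen_comm] at hm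
      have hu : k * j * k⁻¹ * j⁻¹ ∈ E'.map (MulAut.conj : G →* MulAut G) := by
        refine ⟨k (d₁ * d₂) * (d₁ * d₂)⁻¹, mul_mem (hkE' _ hjE') (inv_mem hjE'), ?_⟩
        rw [map_mul, map_inv, ← hconj, ← hj]
      have huR : k * j * k⁻¹ * j⁻¹ ∈ R := by
        have h := (Subgroup.mem_normalizer_iff.1 (hQR hjQ) k⁻¹).1 (inv_mem hk)
        have := mul_mem hk h
        simpa [mul_assoc] using this
      have h1 := CfsgLib.LargeExtra.odd_inf_two hR (IsPGroup.of_card
        (n := 10) (by rw [Subgroup.card_map_of_injective hinjc, Pc'.card])) huR hu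
      rw [mul_inv_eq_one, mul_inv_eq_iff_eq_mul] at h1
      exact h1.symm
    exact CfsgLib.LargeExtra.odd_trivial_of_four hR (hQR hjQ) (hQR hsQ) (hQR ((hQE x).2 hx))
      (by rw [hsdef, ← map_mul, hss, map_one])
      (by rw [hj, hsdef, ← map_inv, ← map_mul, ← map_mul, ← map_mul, hxs]) hfz hfs
  -- the generalized Fitting subgroup
  haveI hNn : N.Normal := MonoidHom.normal_ker Φ
  haveI : Finite (MulAut (Cfsg.PSU 4 F 2)) := Nat.finite_of_card_ne_zero (by rw [hA4]; norm_num)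
  have hInnInj : Function.Injective (MulAut.conj : Cfsg.PSU 4 F 2 →* MulAut (Cfsg.PSU 4 F 2)) := by
    refine (injective_iff_map_eq_one _).2 fun g hg => ?_
    have : g ∈ Subgroup.center (Cfsg.PSU 4 F 2) := Subgroup.mem_center_iff.2 fun x => by
      have := DFunLike.congr_fun hg x
      simp only [MulAut.conj_apply, MulAut.one_apply] at this
      exact (mul_inv_eq_iff_eq_mul.1 this).symm
    rwa [hz4, Subgroup.mem_bot] at this
  have hCN : Subgroup.centralizer (N : Set CA) ≤ N := by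
    intro x hx
    have hxQ : (x : MulAut G) ∈ Subgroup.centralizer (Q₀ : Set (MulAut G)) := by
      refine Subgroup.mem_centralizer_iff.2 ?_
      rintro _ ⟨n, hn, rfl⟩
      exact congrArg Subtype.val (Subgroup.mem_centralizer_iff.1 hx n hn)
    rw [hcentQ, hZ] at hxQ
    obtain ⟨h', hh⟩ := (hQmem _).1 (Subgroup.zpowers_le.2 hjQ hxQ)
    exact hh
  have hFit : Cfsg.fittingSubgroup CA = N := by
    refine le_antisymm (sSup_le fun M hM => ?_) (le_sSup ⟨hNn, hN2.isNilpotent⟩)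
    haveI := hM.1
    haveI := hM.2
    haveI hn := Subgroup.Normal.map (inferInstance : M.Normal) Φ hΦs
    rcases inn_le_or_bot hz4 _ (fun t m hm => hn.conj_mem m hm _) with h | h
    · intro c hc'
      show Φ c = 1
      rw [← Subgroup.mem_bot, ← h]; exact ⟨c, hc', rfl⟩
    exfalso
    haveI : Group.IsNilpotent (M.map Φ) :=
      Group.nilpotent_of_surjective (Φ.subgroupMap M) (MonoidHom.subgroupMap_surjective Φ M)
    haveI : Group.IsNilpotent (Cfsg.PSU 4 F 2) := by
      let g : Cfsg.PSU 4 F 2 →* M.map Φ := (MulAut.conj).codRestrict _ fun t => h ⟨t, rfl⟩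
      have hg : Function.Injective g := fun a b hab => hInnInj (congrArg Subtype.val hab)
      exact Group.nilpotent_of_mulEquiv (MonoidHom.ofInjective hg).symm
    exact Group.IsNilpotent.center_ne_bot (G := Cfsg.PSU 4 F 2) hz4
  have hFstar : Cfsg.generalizedFittingSubgroup CA = N := by
    refine le_antisymm (sup_le (sSup_le fun M hM => ?_) hFit.le) (hFit.ge.trans le_sup_right)
    exfalso
    have hle : M ≤ N := by
      refine ((CfsgLib.Components.component_le_layer hM).trans ?_).trans hCN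
      rw [← hFit]
      exact CfsgLib.Components.layer_le_centralizer_fitting
    haveI : Group.IsNilpotent N := hN2.isNilpotent
    exact CfsgLib.Components.component_not_isSolvable hM
      (solvable_of_solvable_injective (Subgroup.inclusion_injective hle))
  have hQeq : Q = Q₀ := by rw [hQ, hFstar]
  subst hQeq
  have hsub : Q₀.subgroupOf CA = N := by
    rw [hQ₀, Subgroup.subgroupOf, Subgroup.comap_map_eq_self_of_injective CA.subtype_injective]
  have hn' : (Q₀.subgroupOf CA).Normal := hsub ▸ hNn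
  exact ⟨⟨hex, hcentQ, hCZ, hodd⟩, hQ₀card, hQCA, hn', F, inferInstance, inferInstance, by rw [hF]; norm_num,
    ⟨(QuotientGroup.quotientMulEquivOfEq hsub).trans (QuotientGroup.quotientKerEquivOfSurjective Φ hΦs)⟩⟩

end Cfsg.Agent.S5473
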