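import Cfsg.Statements.S5517
import Cfsg.Agent.Lib.ThreeTrans.Inst.FiTwentyTwoModel
import Cfsg.Agent.Lib.Presented.Fi22O7.Iso

set_option autoImplicit false
open Cfsg

namespace Cfsg.Agent.S5517

open CfsgLib.Presented CfsgLib.ThreeTrans.Inst.FiTwentyTwo in
theorem gens_mem : ∀ x ∈ [1, 2, 3, 4, 5, 6, 7, 8],
    evW Fi22UCosets.ev [x] ∈ CfsgLib.ThreeTrans.Inst.FiTwentyTwo.D := by
  have key : ∀ p ∈ [(1, [0, 1]), (2, [1, 2, 0, 1]), (3, [2, 3, 1, 2, 0, 1]), (4, [3, 4, 2, 3, 1, 2, 0, 1]),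
      (5, [4, 5, 3, 4, 2, 3, 1, 2, 0, 1]), (6, [5, 6, 4, 5, 3, 4, 2, 3, 1, 2, 0, 1]),
      (7, [3, 7, 2, 3, 1, 2, 0, 1]), (8, [7, 8, 3, 7, 2, 3, 1, 2, 0, 1])],
      Fi22UCert.rep.relsOK [(p.2 ++ [0] ++ p.2.reverse) ++ [p.1]] = true ∧
      Fi22UCert.rep.relsOK [p.2 ++ p.2.reverse] = true ∧ Fi22UCert.rep.relsOK [[p.1] ++ [p.1]] = true := by
    decide +kernel
  intro x hx
  obtain ⟨p, hp, rfl⟩ : ∃ p ∈ [(1, [0, 1]), (2, [1, 2, 0, 1]), (3, [2, 3, 1, 2, 0, 1]), (4, [3, 4, 2, 3, 1, 2, 0, 1]),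
      (5, [4, 5, 3, 4, 2, 3, 1, 2, 0, 1]), (6, [5, 6, 4, 5, 3, 4, 2, 3, 1, 2, 0, 1]),
      (7, [3, 7, 2, 3, 1, 2, 0, 1]), (8, [7, 8, 3, 7, 2, 3, 1, 2, 0, 1])], p.1 = x := by
    simp only [List.mem_cons, List.not_mem_nil, or_false] at hx
    rcases hx with rfl | rfl | rfl | rfl | rfl | rfl | rfl | rfl <;> simp
  obtain ⟨h1, h2, h3⟩ := key p hp
  refine P.mem_D.2 ⟨evW Fi22UCosets.ev p.2, ?_⟩
  have e2 := evW_eq_one h2
  rw [evW_cat] at e2
  have e1 := evW_eq_one h1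
  rw [evW_cat, evW_cat, evW_cat, eq_inv_of_mul_eq_one_right e2] at e1
  have e3 := evW_eq_one h3
  rw [evW_cat] at e3
  exact mul_right_cancel (e1.trans e3.symm)

/-- Let G be a finite group with trivial centre generated by a conjugation-invariant set D of 3-transpositions on which it acts primitively, such that for some d in D the subgroup generated by the members of D other than d commuting with d has central largest normal 2- and 3-subgroups, and suppose G with D is of type M(22). Then G has a subgroup L generated by the members of D it contains and isomorphic to Ω(7, 3) (the commutator subgroup of the isometry group of a non-degenerate 7-dimensional quadratic form over the field with three elements, modulo its centre), and every Sylow 3-subgroup of L is a Sylow 3-subgroup of G. -/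
theorem result {G : Type*} [Group G] [Finite G] {D : Set G} (hD : Cfsg.IsThreeTranspositionGroup D) (hprim : Cfsg.IsPrimitiveUnderConj D) (d₀ : G) (hd₀ : d₀ ∈ D) (h3 : Cfsg.pCore 3 ↥(Subgroup.closure {y : G | y ∈ D ∧ y ≠ d₀ ∧ Commute d₀ y}) ≤ Subgroup.center ↥(Subgroup.closure {y : G | y ∈ D ∧ y ≠ d₀ ∧ Commute d₀ y})) (h2 : Cfsg.pCore 2 ↥(Subgroup.closure {y : G | y ∈ D ∧ y ≠ d₀ ∧ Commute d₀ y}) ≤ Subgroup.center ↥(Subgroup.closure {y : G | y ∈ D ∧ y ≠ d₀ ∧ Commute d₀ y})) (h22 : Cfsg.IsOfTypeM22 G D) : ∃ L : Subgroup G, Cfsg.IsDSubgroup D L ∧ Nonempty (↥L ≃* Cfsg.POmega (ZMod 3) (Cfsg.quadFormOdd 3 (ZMod 3))) ∧ ∀ P : Sylow 3 ↥L, ∃ P' : Sylow 3 G, (P : Subgroup ↥L).map L.subtype = (P' : Subgroup G) := by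
  open CfsgLib.Presented CfsgLib.ThreeTrans.Inst.FiTwentyTwo in
  haveI : Finite Cfsg.Spor.Fi22 := CfsgLib.ThreeTrans.Inst.FiTwentyTwo.finite_fi22
  obtain ⟨e, he⟩ := CfsgLib.ThreeTrans.Inst.FiTwentyTwo.exists_equiv hD hprim h22
  obtain ⟨f⟩ := CfsgLib.Presented.Fi22O7.nonempty_equiv
  set H := CfsgLib.Presented.Fi22OCosets.H with hH
  set L := H.map e.toMonoidHom with hL
  let eL : ↥H ≃* ↥L := Subgroup.equivMapOfInjective H e.toMonoidHom e.injective
  refine ⟨L, ?_, ⟨eL.symm.trans f⟩, fun P => ?_⟩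
  · refine le_antisymm (Subgroup.closure_le _ |>.2 fun x hx => hx.2) ?_
    rw [hL, hH, CfsgLib.Presented.Fi22OCosets.H_eq, MonoidHom.map_closure]
    refine Subgroup.closure_mono ?_
    rintro _ ⟨_, ⟨w, hw, rfl⟩, rfl⟩
    refine ⟨?_, Subgroup.subset_closure ⟨_, ⟨w, hw, rfl⟩, rfl⟩⟩
    rw [← he]
    refine ⟨_, ?_, rfl⟩
    obtain ⟨x, hx, rfl⟩ : ∃ x ∈ [1, 2, 3, 4, 5, 6, 7, 8], [x] = w := by
      have hw' : w ∈ CfsgLib.Presented.Fi22OCosets.hWords := hw
      simp only [CfsgLib.Presented.Fi22OCosets.hWords, List.mem_cons, List.not_mem_nil, or_false] at hw'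
      rcases hw' with rfl | rfl | rfl | rfl | rfl | rfl | rfl | rfl <;> simp
    exact gens_mem x hx
  · haveI : Fact (Nat.Prime 3) := ⟨Nat.prime_three⟩
    have hidx : L.index = 14080 := by
      rw [hL, Subgroup.index_map_of_bijective e.bijective, hH, CfsgLib.Presented.Fi22OCosets.index_eq]
    have hp : IsPGroup 3 ↥((P : Subgroup ↥L).map L.subtype) := P.isPGroup'.map _
    obtain ⟨P', hP'⟩ := hp.exists_le_sylow
    refine ⟨P', Subgroup.eq_of_le_of_card_ge hP' ?_⟩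
    rw [P'.card_eq_multiplicity, Subgroup.card_map_of_injective L.subtype_injective, P.card_eq_multiplicity,
      ← Subgroup.card_mul_index L, Nat.factorization_mul Nat.card_pos.ne' (by rw [hidx]; norm_num), hidx,
      Finsupp.add_apply, Nat.factorization_eq_zero_of_not_dvd (n := 14080) (p := 3) (by norm_num), add_zero]

end Cfsg.Agent.S5517
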