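import Cfsg.Statements.S5518
import Cfsg.Agent.Lib.M24Pair4.Thirteen

set_option autoImplicit false
open Cfsg

namespace Cfsg.Agent.S5518

open CfsgLib.ThreeTrans CfsgLib.ThreeTrans.Tower CfsgLib.M24Pair4

theorem stab_map {G : Type*} [Group G] {L : Subgroup G} {g x y x' y' : G} (hg : g ∈ L) (hx : g * x * g⁻¹ = x')
    (hy : g * y * g⁻¹ = y') :
    (L ⊓ Subgroup.centralizer ({x} : Set G) ⊓ Subgroup.centralizer ({y} : Set G)).map (MulAut.conj g).toMonoidHom =
      L ⊓ Subgroup.centralizer ({x'} : Set G) ⊓ Subgroup.centralizer ({y'} : Set G) := by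
  ext z
  rw [CfsgLib.ThreeTrans.Torsion.mem_map_conj]
  simp only [Subgroup.mem_inf, Subgroup.mem_centralizer_singleton_iff]
  refine and_congr (and_congr ⟨fun h => ?_, fun h => L.mul_mem (L.mul_mem (L.inv_mem hg) h) hg⟩ ?_) ?_
  · have := L.mul_mem (L.mul_mem hg h) (L.inv_mem hg)
    simpa [mul_assoc] using this
  · exact (CfsgLib.ThreeTrans.Torsion.commute_conj_fix (g := g) (x := z) hx)
  · exact (CfsgLib.ThreeTrans.Torsion.commute_conj_fix (g := g) (x := z) hy)

/-- Moving a stabiliser. -/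
noncomputable def stab_equiv {G : Type*} [Group G] {L : Subgroup G} {g x y x' y' : G} (hg : g ∈ L)
    (hx : g * x * g⁻¹ = x') (hy : g * y * g⁻¹ = y') :
    ↥(L ⊓ Subgroup.centralizer ({x} : Set G) ⊓ Subgroup.centralizer ({y} : Set G)) ≃*
      ↥(L ⊓ Subgroup.centralizer ({x'} : Set G) ⊓ Subgroup.centralizer ({y'} : Set G)) :=
  (Subgroup.equivMapOfInjective _ _ (MulAut.conj g).injective).trans (MulEquiv.subgroupCongr (stab_map hg hx hy))

theorem stab_card {G : Type*} [Group G] {L : Subgroup G} {g x y x' y' : G} (hg : g ∈ L)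
    (hx : g * x * g⁻¹ = x') (hy : g * y * g⁻¹ = y') :
    Nat.card (L ⊓ Subgroup.centralizer ({x} : Set G) ⊓ Subgroup.centralizer ({y} : Set G) : Subgroup G) =
      Nat.card (L ⊓ Subgroup.centralizer ({x'} : Set G) ⊓ Subgroup.centralizer ({y'} : Set G) : Subgroup G) :=
  Nat.card_congr (stab_equiv hg hx hy).toEquiv

/-- Let G be a finite group with trivial centre generated by a conjugation-invariant set D of 3-transpositions on which it acts primitively, such that for some d in D the subgroup generated by the members of D other than d commuting with d has central largest normal 2- and 3-subgroups, and suppose G with D is of type M(24). Then any two subgroups of order 13 are conjugate; and there are members a, b, c, d of D generating the direct product T of two symmetric groups of degree 3 (a, d non-commuting; b, c non-commuting; b and c commuting with a and d) whose centralizer K is isomorphic to the Chevalley group G₂(3), such that for every subgroup B of K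 of order 13: the normalizer of B lies in the normalizer of K, the normalizer F of B in K is a Frobenius group of order 78 with kernel B (order 78, centralizer of B in it equal to B), and the subgroup generated by F and T has index 2 in the normalizer of B. -/
theorem result {G : Type*} [Group G] [Finite G] {D : Set G} (hD : Cfsg.IsThreeTranspositionGroup D) (hprim : Cfsg.IsPrimitiveUnderConj D) (d₀ : G) (hd₀ : d₀ ∈ D) (h3 : Cfsg.pCore 3 ↥(Subgroup.closure {y : G | y ∈ D ∧ y ≠ d₀ ∧ Commute d₀ y}) ≤ Subgroup.center ↥(Subgroup.closure {y : G | y ∈ D ∧ y ≠ d₀ ∧ Commute d₀ y})) (h2 : Cfsg.pCore 2 ↥(Subgroup.closure {y : G | y ∈ D ∧ y ≠ d₀ ∧ Commute d₀ y}) ≤ Subgroup.center ↥(Subgroup.closure {y : G | y ∈ D ∧ y ≠ d₀ ∧ Commute d₀ y})) (h24 : Cfsg.IsOfTypeM24 G D) : (∀ X Y : Subgroup G, Nat.card X = 13 → Nat.card Y = 13 → ∃ g : G, X.map (MulAut.conj g).toMonoidHom = Y) ∧ ∃ (a b c d : G) (T K : Subgroup G), (∀ x ∈ [a, b, c, d], x ∈ D) ∧ ¬ Commute a d ∧ ¬ Commute b c ∧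 Commute a b ∧ Commute a c ∧ Commute d b ∧ Commute d c ∧ T = Subgroup.closure ({a, b, c, d} : Set G) ∧ K = Subgroup.centralizer (T : Set G) ∧ Nonempty (↥K ≃* ↥(Cfsg.Lie.chevG2.group (ZMod 3))) ∧ ∀ B : Subgroup G, B ≤ K → Nat.card B = 13 → Subgroup.normalizer ((B : Subgroup G) : Set G) ≤ Subgroup.normalizer ((K : Subgroup G) : Set G) ∧ Nat.card ↥(K ⊓ Subgroup.normalizer ((B : Subgroup G) : Set G)) = 78 ∧ K ⊓ Subgroup.centralizer ((B : Subgroup G) : Set G) = B ∧ (((K ⊓ Subgroup.normalizer ((B : Subgroup G) : Set G)) ⊔ T).subgroupOf (Subgroup.normalizer ((B : Subgroup G) : Set G))).index = 2 := by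
  haveI : Fact (Nat.Prime 13) := ⟨by norm_num⟩
  have L := local24 hD hprim h24
  obtain ⟨-, hG⟩ := CfsgLib.ThreeTrans.Torsion.orders24 hD hprim h24
  refine ⟨fun X Y hX hY => CfsgLib.ThreeTrans.Torsion.conj24 hD hprim h24 (by norm_num) hX hY, ?_⟩
  obtain ⟨x, hx⟩ := exists_prime_orderOf_dvd_card' (G := G) 13 (by rw [hG]; norm_num)
  have hX : Nat.card (Subgroup.zpowers x) = 13 := by rw [Nat.card_zpowers, hx]
  obtain ⟨a, b, c, d, ha, hb, hc, hd, had, hbc, hab, hac, hdb, hdc⟩ := (exists_six hD hprim h24 hX).exists_four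
  set T := Subgroup.closure ({a, b, c, d} : Set G) with hTdef
  set K := Subgroup.centralizer (T : Set G) with hKdef
  have hK4 : K = Subgroup.centralizer ({a, d, b, c} : Set G) := by
    rw [hKdef, hTdef, Subgroup.centralizer_closure]
    congr 1
    ext y
    simp only [Set.mem_insert_iff, Set.mem_singleton_iff]
    tauto
  -- the orbit with G₂(3)
  obtain ⟨P, hL, hE⟩ := exists_setup hD hprim d₀ hd₀ h3 h2 h24 ha.1 hd.1 had
  obtain ⟨R⟩ := P.nonempty_reps
  have hbE : b ∈ P.E := hE ▸ ⟨⟨hb.1, fun e => hbc (e ▸ hac), hab⟩, hb.1, fun e => hbc (e ▸ hdc), hdb⟩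
  have hcE : c ∈ P.E := hE ▸ ⟨⟨hc.1, fun e => hbc (e ▸ hab.symm), hac⟩, hc.1, fun e => hbc (e ▸ hdb.symm), hdc⟩
  have hKP : K = P.L ⊓ Subgroup.centralizer ({b} : Set G) ⊓ Subgroup.centralizer ({c} : Set G) := by
    ext z
    rw [hK4, mem_cent4, Subgroup.mem_inf, Subgroup.mem_inf, hL, mem_cent2, Subgroup.mem_centralizer_singleton_iff,
      Subgroup.mem_centralizer_singleton_iff]
    exact ⟨fun ⟨p, q, r, s⟩ => ⟨⟨⟨p, q⟩, r⟩, s⟩, fun ⟨⟨⟨p, q⟩, r⟩, s⟩ => ⟨p, q, r, s⟩⟩
  have h13 : 13 ∣ Nat.card K := by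
    rw [← hX]
    refine Subgroup.card_dvd_of_le (Subgroup.zpowers_le.2 ?_)
    rw [hK4, mem_cent4]
    exact ⟨(CfsgLib.ThreeTrans.Torsion.mem_fixD.1 ha).2 x (Subgroup.mem_zpowers x),
      (CfsgLib.ThreeTrans.Torsion.mem_fixD.1 hd).2 x (Subgroup.mem_zpowers x),
      (CfsgLib.ThreeTrans.Torsion.mem_fixD.1 hb).2 x (Subgroup.mem_zpowers x),
      (CfsgLib.ThreeTrans.Torsion.mem_fixD.1 hc).2 x (Subgroup.mem_zpowers x)⟩
  obtain ⟨i⟩ : Nonempty (↥K ≃* ↥(Cfsg.Lie.chevG2.group (ZMod 3))) := by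
    obtain ⟨g, hg, eb, hor⟩ := P.two_orbits R hbE hcE hbc
    rw [hKP] at h13 ⊢
    rcases hor with ec | ec
    · exfalso
      rw [stab_card hg eb ec, P.card_one R] at h13
      norm_num at h13
    · obtain ⟨e⟩ := (P.orbit_two R).1
      exact ⟨(stab_equiv hg eb ec).trans e⟩
  obtain ⟨hT36, hTK⟩ := square hD ha.1 hb.1 hc.1 hd.1 had hbc hab hac hdb hdc
  refine ⟨a, b, c, d, T, K, ?_, had, hbc, hab, hac, hdb, hdc, rfl, rfl, ⟨i⟩, ?_⟩
  · intro y hy
    simp only [List.mem_cons, List.not_mem_nil, or_false] at hy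
    rcases hy with rfl | rfl | rfl | rfl
    exacts [ha.1, hb.1, hc.1, hd.1]
  intro B hBK hB
  have hBfix : ∀ y ∈ ({a, b, c, d} : Set G), y ∈ D → y ∈ CfsgLib.ThreeTrans.Torsion.fixD D B := fun y hy hyD =>
    CfsgLib.ThreeTrans.Torsion.mem_fixD.2 ⟨hyD, fun z hz =>
      (Subgroup.mem_centralizer_iff.1 (hBK hz) y (Subgroup.subset_closure hy)).symm⟩
  have S := exists_six hD hprim h24 hB
  have hle := S.fix_le hD (hBfix a (by simp) ha.1) (hBfix b (by simp) hb.1) (hBfix c (by simp) hc.1)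
    (hBfix d (by simp) hd.1) had hbc hab hac hdb
  have hclo : T = Subgroup.closure (CfsgLib.ThreeTrans.Torsion.fixD D B) := by
    refine le_antisymm (Subgroup.closure_mono ?_) ((Subgroup.closure_le _).2 hle)
    rintro y (rfl | rfl | rfl | rfl)
    exacts [hBfix _ (by simp) ha.1, hBfix _ (by simp) hb.1, hBfix _ (by simp) hc.1, hBfix _ (by simp) hd.1]
  have hNT : ∀ g ∈ Subgroup.normalizer (B : Set G), ∀ t ∈ T, g * t * g⁻¹ ∈ T := by
    intro g hg t ht
    have h1 : T.map (MulAut.conj g).toMonoidHom ≤ T := by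
      rw [hclo, MonoidHom.map_closure, Subgroup.closure_le]
      rintro _ ⟨y, hy, rfl⟩
      exact Subgroup.subset_closure (CfsgLib.ThreeTrans.Torsion.conj_fixD (conjClosed_of_group hD) hg hy)
    exact h1 ⟨t, ht, rfl⟩
  have hNN : Subgroup.normalizer (B : Set G) ≤ Subgroup.normalizer (K : Set G) := by
    intro g hg
    refine Subgroup.mem_normalizer_fintype fun k hk => Subgroup.mem_centralizer_iff.2 fun t ht => ?_
    have h1 := Subgroup.mem_centralizer_iff.1 hk _ (hNT g⁻¹ (inv_mem hg) t ht)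
    rw [inv_inv] at h1
    calc t * (g * k * g⁻¹) = g * (g⁻¹ * t * g * k) * g⁻¹ := by group
      _ = g * (k * (g⁻¹ * t * g)) * g⁻¹ := by rw [h1]
      _ = g * k * g⁻¹ * t := by group
  have hCB : K ⊓ Subgroup.centralizer (B : Set G) = B := by
    refine le_antisymm (fun g hg => ?_) fun g hg => ⟨hBK hg, ?_⟩
    · obtain ⟨hgK, hgB⟩ := hg
      have h1 : i ⟨g, hgK⟩ ∈ (B.subgroupOf K).map i.toMonoidHom := by
        refine g23_self ?_ ?_
        · exact ((Nat.card_congr ((B.subgroupOf K).equivMapOfInjective i.toMonoidHom i.injective).toEquiv).symm.trans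
            (Nat.card_congr (Subgroup.subgroupOfEquivOfLe hBK).toEquiv)).trans hB
        · rintro _ ⟨z, hz, rfl⟩
          exact (show Commute (⟨g, hgK⟩ : K) z from
            Subtype.ext (Subgroup.mem_centralizer_iff.1 hgB _ hz).symm).map i.toMonoidHom
      obtain ⟨z, hz, e⟩ := h1
      rw [i.injective e] at hz
      exact hz
    · haveI : IsCyclic B := isCyclic_of_prime_card hB
      letI := IsCyclic.commGroup (α := B)
      exact Subgroup.mem_centralizer_iff.2 fun z hz =>
        congrArg Subtype.val (mul_comm (⟨z, hz⟩ : B) ⟨g, hg⟩)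
  have hKcard : Nat.card K = 4245696 := by
    rw [Nat.card_congr i.toEquiv]; exact CfsgLib.KnownSimple.GTwoThree.card_G23
  have hF : Nat.card (K ⊓ Subgroup.normalizer (B : Set G) : Subgroup G) = 78 := by
    obtain ⟨e, he, hN⟩ := CfsgLib.ThreeTrans.Torsion.card_normalizer K hB
    rw [inf_comm (Subgroup.centralizer _), hCB, hB, inf_comm (Subgroup.normalizer _)] at hN
    obtain ⟨k, hk, hk1⟩ := CfsgLib.ThreeTrans.Torsion.card_normalizer_modEq hB hBK
      (by rw [hKcard]; norm_num)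
    rw [inf_comm (Subgroup.normalizer _), hN, hKcard] at hk
    rw [hN]
    have := Nat.le_of_dvd (by norm_num) he
    interval_cases e <;> omega
  refine ⟨hNN, hF, hCB, ?_⟩
  set F := K ⊓ Subgroup.normalizer (B : Set G)
  have hcomm : ∀ (f : F) (t : T), Commute (F.subtype f) (T.subtype t) := fun f t =>
    (Subgroup.mem_centralizer_iff.1 f.2.1 _ t.2).symm
  have hinj : Function.Injective (F.subtype.noncommCoprod T.subtype hcomm) := by
    rw [injective_iff_map_eq_one]
    rintro ⟨f, t⟩ e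
    rw [MonoidHom.noncommCoprod_apply] at e
    have e' : (t : G) = (f : G)⁻¹ := (eq_inv_of_mul_eq_one_right e)
    have h1 : (t : G) ∈ T ⊓ K := ⟨t.2, e' ▸ K.inv_mem f.2.1⟩
    rw [hKdef, hTK, Subgroup.mem_bot] at h1
    rw [e', inv_eq_one] at h1
    exact Prod.ext (Subtype.ext h1) (Subtype.ext (e'.trans (by rw [h1, inv_one]; rfl)))
  have hsup : Nat.card (F ⊔ T : Subgroup G) = 2808 := by
    have h1 := Nat.card_congr (MonoidHom.ofInjective hinj).toEquiv
    rw [Nat.card_prod, hF, hT36, MonoidHom.noncommCoprod_range, Subgroup.range_subtype,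
      Subgroup.range_subtype] at h1
    exact h1.symm
  have hsle : F ⊔ T ≤ Subgroup.normalizer (B : Set G) := by
    refine sup_le inf_le_right ((le_trans ?_ (Subgroup.centralizer_le_normalizer (B : Set G))))
    intro t ht
    exact Subgroup.mem_centralizer_iff.2 fun z hz => (Subgroup.mem_centralizer_iff.1 (hBK hz) t ht).symm
  have h1 := ((F ⊔ T).subgroupOf (Subgroup.normalizer (B : Set G))).card_mul_index
  rw [Nat.card_congr (Subgroup.subgroupOfEquivOfLe hsle).toEquiv, hsup, S.norm] at h1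
  omega

end Cfsg.Agent.S5518
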