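import Cfsg.Statements.S5519
import Cfsg.Agent.S5469
import Cfsg.Agent.Lib.ThreeTrans.MinusSix
import Cfsg.Agent.Lib.ThreeTrans.Tower.DualExtra
import Cfsg.Agent.Lib.Components.FStar
import Cfsg.Agent.Lib.LargeExtra.Transport

set_option autoImplicit false
open Cfsg

namespace Cfsg.Agent.S5519
open CfsgLib.ThreeTrans CfsgLib.ThreeTrans.Tower CfsgLib.ThreeTrans.TypeTop

theorem cj_fix {G : Type*} [Group G] {g x : G} (h : Commute g x) : g * x * g⁻¹ = x := by
  rw [h.eq, mul_inv_cancel_right]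

theorem five_ne {G : Type*} [Group G] {D : Set G} (hs : Cfsg.IsThreeTranspositionSet D) (r5 : NoRel D 5)
    {P : Set G} {d : G} (hdD : d ∈ D) {p q p' q' : G} (hp : p ∈ P) (hq : q ∈ P) (hp' : p' ∈ P) (hq' : q' ∈ P)
    (hpq : p ≠ q) (hpq' : p' ≠ q') (cpq : Commute p q) (cpq'' : Commute p' q') (cpp : Commute p p')
    (cqq : Commute q q') (cpq' : Commute p q') (cqp : Commute q p')
    (hPd : ∀ z ∈ P, z ∈ Dd D d) {V : Subgroup G}
    (hnoV : ∀ a b, a ∈ P → b ∈ P → a ≠ b → Commute a b → a * b ∉ V)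
    (hv : p * q * (p' * q') ∈ V) : p * q * (p' * q') ≠ d := by
  intro h
  have pp := mul_self hs (hPd p hp).1
  have qq := mul_self hs (hPd q hq).1
  by_cases a1 : p = p'
  · subst a1
    rw [show p * q * (p * q') = q * q' by
      rw [← mul_assoc, mul_assoc p q p, ← cpq.eq, ← mul_assoc, pp, one_mul]] at h hv
    by_cases b : q = q'
    · rw [← b, qq] at h; exact CfsgLib.ThreeTrans.ne_one hs hdD h.symm
    · exact hnoV q q' hq hq' b cqq hv
  by_cases a2 : p = q'
  · subst a2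
    rw [show p * q * (p' * p) = q * p' by
      rw [cpq.eq, mul_assoc, ← mul_assoc p, cpp.eq, mul_assoc, pp, mul_one]] at h hv
    by_cases b : q = p'
    · rw [← b, qq] at h; exact CfsgLib.ThreeTrans.ne_one hs hdD h.symm
    · exact hnoV q p' hq hp' b cqp hv
  by_cases a3 : q = p'
  · subst a3
    rw [show p * q * (q * q') = p * q' by rw [mul_assoc, ← mul_assoc q, qq, one_mul]] at h hv
    exact hnoV p q' hp hq' a2 cpq' hv
  by_cases a4 : q = q'
  · subst a4
    rw [show p * q * (p' * q) = p * p' by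
      rw [mul_assoc, ← mul_assoc q, cqp.eq, mul_assoc, qq, mul_one]] at h hv
    exact hnoV p p' hp hp' a1 cpp hv
  refine r5 [p, q, p', q', d] ?_ rfl ?_ ?_ ?_
  · simp [hpq, hpq', a1, a2, a3, a4, (hPd p hp).2.1, (hPd q hq).2.1, (hPd p' hp').2.1, (hPd q' hq').2.1]
  · simp [(hPd p hp).1, (hPd q hq).1, (hPd p' hp').1, (hPd q' hq').1, hdD]
  · simp [cpq, cpq.symm, cpq'', cpq''.symm, cpp, cpp.symm, cqq, cqq.symm, cpq', cpq'.symm, cqp, cqp.symm,
      (hPd p hp).2.2, (hPd p hp).2.2.symm, (hPd q hq).2.2, (hPd q hq).2.2.symm, (hPd p' hp').2.2,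
      (hPd p' hp').2.2.symm, (hPd q' hq').2.2, (hPd q' hq').2.2.symm, Commute.refl]
  · simp only [List.prod_cons, List.prod_nil, mul_one]
    rw [show p * (q * (p' * (q' * d))) = p * q * (p' * q') * d by group, h, mul_self hs hdD]

theorem cj_commute {G : Type*} [Group G] {g x : G} (h : g * x * g⁻¹ = x) : Commute g x :=
  mul_inv_eq_iff_eq_mul.1 h

/-- A subgroup of automorphisms normalised by the inner ones of a simple group is trivial or contains them. -/
theorem inn_le_or_bot {S : Type*} [Group S] [IsSimpleGroup S] (hz : Subgroup.center S = ⊥)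
    (M : Subgroup (MulAut S)) (hM : ∀ s : S, ∀ m ∈ M, MulAut.conj s * m * (MulAut.conj s)⁻¹ ∈ M) :
    M = ⊥ ∨ (MulAut.conj : S →* MulAut S).range ≤ M := by
  haveI hn : (M.comap (MulAut.conj : S →* MulAut S)).Normal := ⟨fun n hn g => by
    rw [Subgroup.mem_comap, map_mul, map_mul, map_inv]; exact hM g _ hn⟩
  rcases hn.eq_bot_or_eq_top with h | h
  · left
    rw [eq_bot_iff]
    intro m hm
    refine MulEquiv.ext fun s => ?_
    have e : m * MulAut.conj s * m⁻¹ = MulAut.conj (m s) := MulEquiv.ext fun x => by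
      simp [MulAut.conj_apply]
    have h1 : m s * s⁻¹ ∈ M.comap (MulAut.conj : S →* MulAut S) := by
      rw [Subgroup.mem_comap, map_mul, map_inv, ← e, show m * MulAut.conj s * m⁻¹ * (MulAut.conj s)⁻¹ =
        m * (MulAut.conj s * m⁻¹ * (MulAut.conj s)⁻¹) by group]
      exact mul_mem hm (hM s _ (inv_mem hm))
    rw [h, Subgroup.mem_bot, mul_inv_eq_one] at h1
    simpa using h1
  · right
    rintro _ ⟨s, rfl⟩
    exact (h ▸ Subgroup.mem_top s : s ∈ M.comap (MulAut.conj : S →* MulAut S))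

/-- Let G be a finite group with trivial centre generated by a conjugation-invariant set D of 3-transpositions on which it acts primitively, such that for some d in D the subgroup generated by the members of D other than d commuting with d has central largest normal 2- and 3-subgroups, and suppose G with D is of type M(22). Let d₁, d₂ be distinct commuting members of D and C the centralizer of their product. Then the generalized Fitting subgroup of C is the direct product of a group of order 2 and an extraspecial 2-group of order 2^9, and C modulo it is isomorphic to the full isometry group of the elliptic quadratic form in dimension 6 over the field with two elements. -/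
theorem result {G : Type*} [Group G] [Finite G] {D : Set G} (hD : Cfsg.IsThreeTranspositionGroup D) (hprim : Cfsg.IsPrimitiveUnderConj D) (d₀ : G) (hd₀ : d₀ ∈ D) (h3 : Cfsg.pCore 3 ↥(Subgroup.closure {y : G | y ∈ D ∧ y ≠ d₀ ∧ Commute d₀ y}) ≤ Subgroup.center ↥(Subgroup.closure {y : G | y ∈ D ∧ y ≠ d₀ ∧ Commute d₀ y})) (h2 : Cfsg.pCore 2 ↥(Subgroup.closure {y : G | y ∈ D ∧ y ≠ d₀ ∧ Commute d₀ y}) ≤ Subgroup.center ↥(Subgroup.closure {y : G | y ∈ D ∧ y ≠ d₀ ∧ Commute d₀ y})) (h22 : Cfsg.IsOfTypeM22 G D) (d₁ d₂ : G) (h₁ : d₁ ∈ D) (h₂ : d₂ ∈ D) (hne : d₁ ≠ d₂) (hc : Commute d₁ d₂) (C : Subgroup G) (hC : C = Subgroup.centralizer ({d₁ * d₂} : Set G)) [hn : (Cfsg.generalizedFittingSubgroup ↥C).Normal] : (∃ (E : Type) (_ : Group E) (_ : Finite E), Cfsg.IsExtraspecial 2 E ∧ Nat.card E = 2 ^ 9 ∧ Nonempty (↥(Cfsg.generalizedFittingSubgroup ↥C) ≃* Multiplicative (ZMod 2) × E)) ∧ Nonempty (↥C ⧸ Cfsg.generalizedFittingSubgroup ↥C ≃* Cfsg.isometryGroup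 (ZMod 2) (Cfsg.quadFormMinus 2 (ZMod 2) 1 1)) := by
  classical
  have hs : Cfsg.IsThreeTranspositionSet D := hD.1
  haveI hp2 : Fact (Nat.Prime 2) := ⟨Nat.prime_two⟩
  obtain ⟨-, hmain⟩ := main22 hD hprim h22
  obtain ⟨F, _, _, D22⟩ := exists_data22 hD hprim h22
  have hF := D22.four
  obtain ⟨Ecls, S, T⟩ := D22.stage
  have L := D22.loc
  have r3 := (good22 hD h22).rel 3 (by norm_num) (by norm_num)
  have r5 := (good22 hD h22).rel 5 (by norm_num) (by norm_num)
  have hCd : ∀ a ∈ D, ∀ g : G, Commute g a → g ∈ Hd D a := fun a ha g hg => by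
    obtain ⟨u, hu⟩ := Model.Kc_decomp hs ha (L.stab a ha g hg)
    rcases hu with rfl | rfl
    exacts [u.2, mul_mem (hmain a ha).1 u.2]
  have hd₂ : d₂ ∈ Dd D d₁ := ⟨h₂, Ne.symm hne, hc⟩
  have hd₁ : d₁ ∈ Dd D d₂ := Dd_symm h₁ hd₂
  obtain ⟨π, M⟩ := S.base d₁ h₁
  set e := phi π d₂ with he
  have heE : e ∈ Ecls := M.mem hd₂
  have hed : π ⟨d₂, Subgroup.subset_closure hd₂⟩ = e := (phi_of_mem π hd₂).symm
  set P := Dd D d₁ ∩ Dd D d₂ with hP
  set K := Subgroup.centralizer ({d₁, d₂} : Set G) with hK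
  have hK' : ∀ g, g ∈ K ↔ Commute g d₁ ∧ Commute g d₂ := fun g => by
    rw [hK, Subgroup.mem_centralizer_iff]
    exact ⟨fun h => ⟨(h d₁ (by simp)).symm, (h d₂ (by simp)).symm⟩, fun h x hx => by
      rcases hx with rfl | rfl
      exacts [h.1.eq.symm, h.2.eq.symm]⟩
  have hd₁K : d₁ ∈ K := (hK' _).2 ⟨Commute.refl _, hc⟩
  have hd₂K : d₂ ∈ K := (hK' _).2 ⟨hc.symm, Commute.refl _⟩
  have hPK : ∀ z ∈ P, z ∈ K := fun z hz => (hK' z).2 ⟨hz.1.2.2.symm, hz.2.2.2.symm⟩
  -- the four group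
  set V := Subgroup.closure ({d₁, d₂} : Set G) with hV
  have hVcases : ∀ v, v ∈ V ↔ (v = 1 ∨ v = d₁) ∨ v = d₂ ∨ v = d₁ * d₂ := by
    intro v
    constructor
    · intro hv
      have d11 := mul_self hs h₁
      have d22 := mul_self hs h₂
      have c21 : d₂ * d₁ = d₁ * d₂ := hc.eq.symm
      induction hv using Subgroup.closure_induction with
      | mem z hz => rcases hz with rfl | rfl <;> simp
      | one => simp
      | mul p q _ _ hp hq =>
        have md1 := fun z : G => mul_self_mul hs h₁ (x := z)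
        have md2 := fun z : G => mul_self_mul hs h₂ (x := z)
        have c21' : ∀ z, d₂ * (d₁ * z) = d₁ * (d₂ * z) := fun z => by rw [← mul_assoc, c21, mul_assoc]
        rcases hp with (a | a) | a | a <;> rcases hq with (b | b) | b | b <;> rw [a, b] <;>
          simp [mul_assoc, md1, md2, d11, d22, c21, c21']
      | inv p _ hp =>
        rcases hp with (a | a) | a | a <;> rw [a] <;>
          simp [mul_inv_rev, inv_eq hs h₁, inv_eq hs h₂, c21]
    · have v1 : d₁ ∈ V := Subgroup.subset_closure (by simp)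
      have v2 : d₂ ∈ V := Subgroup.subset_closure (by simp)
      rintro ((rfl | rfl) | rfl | rfl)
      exacts [one_mem _, v1, v2, mul_mem v1 v2]
  -- no member is a product from the four group
  have hnoV : ∀ p q, p ∈ P → q ∈ P → p ≠ q → Commute p q → p * q ∉ V := by
    intro p q hp hq hpq cpq hv
    rcases (hVcases _).1 hv with (h | h) | h | h
    · exact hpq (inv_eq hs hq.1.1 ▸ eq_inv_of_mul_eq_one_left h)
    · refine r3 [p, q, d₁] ?_ rfl ?_ ?_ ?_
      · simp [hpq, hp.1.2.1, hq.1.2.1]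
      · simp [hp.1.1, hq.1.1, h₁]
      · simp [cpq, cpq.symm, hp.1.2.2, hp.1.2.2.symm, hq.1.2.2, hq.1.2.2.symm, Commute.refl]
      · simp only [List.prod_cons, List.prod_nil, mul_one]
        rw [← mul_assoc, h, mul_self hs h₁]
    · refine r3 [p, q, d₂] ?_ rfl ?_ ?_ ?_
      · simp [hpq, hp.2.2.1, hq.2.2.1]
      · simp [hp.1.1, hq.1.1, h₂]
      · simp [cpq, cpq.symm, hp.2.2.2, hp.2.2.2.symm, hq.2.2.2, hq.2.2.2.symm, Commute.refl]
      · simp only [List.prod_cons, List.prod_nil, mul_one]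
        rw [← mul_assoc, h, mul_self hs h₂]
    · rcases Tower.pair_unique hs D22.rel h₁ h₂ hne hc hp.1.1 hq.1.1 cpq h with ⟨u, -⟩ | ⟨u, -⟩
      exacts [hp.1.2.1 u, hp.2.2.1 u]
  have hKH : K ≤ Hd D d₁ := fun g hg => hCd d₁ h₁ g ((hK' g).1 hg).1
  let ι : K →* Hd D d₁ := Subgroup.inclusion hKH
  let π₁ : K →* Subgroup.centralizer ({e} : Set (Cfsg.PSU 6 F 2)) :=
    (π.comp ι).codRestrict _ fun x => by
      rw [Subgroup.mem_centralizer_singleton_iff, ← hed]
      exact (Commute.map (show Commute (ι x) ⟨d₂, Subgroup.subset_closure hd₂⟩ from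
        Subtype.ext ((hK' x).1 x.2).2.eq) π).eq
  have hπ₁ : Function.Surjective π₁ := fun t => by
    obtain ⟨x, hx⟩ := M.base.surj t.1
    have hte : Commute t.1 e := Subgroup.mem_centralizer_singleton_iff.1 t.2
    have hfix : (x : G) * d₂ * (x : G)⁻¹ = d₂ := M.inj (M.conj_mem x hd₂) hd₂ (by
      rw [M.phi_conj x hd₂, hx]; exact cj_fix hte)
    exact ⟨⟨x, (hK' _).2 ⟨commute_of_mem_Hd x.2, cj_commute hfix⟩⟩, Subtype.ext hx⟩
  have hker₁ : ∀ x : K, (π₁ x : Cfsg.PSU 6 F 2) = 1 → (x : G) = 1 ∨ (x : G) = d₁ := fun x hx =>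
    S.kernel h₁ ((hK' x).1 x.2).1 ((M.base.map_eq_one_iff' _).1 hx)
  have hπd₂ : (π₁ ⟨d₂, hd₂K⟩ : Cfsg.PSU 6 F 2) = e := hed
  have hVmem : ∀ x : K, ((π₁ x : Cfsg.PSU 6 F 2) = 1 ∨ (π₁ x : Cfsg.PSU 6 F 2) = e) → (x : G) ∈ V := by
    rintro x (hx | hx)
    · rcases hker₁ x hx with h | h <;> rw [h, hVcases] <;> simp
    · have h := hker₁ (x * ⟨d₂, hd₂K⟩) (by rw [map_mul, Subgroup.coe_mul, hx, hπd₂, mul_self T.set heE])
      rw [show (x : G) = (x : G) * d₂ * d₂ by rw [mul_assoc, mul_self hs h₂, mul_one], hVcases]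
      rcases h with h | h <;> rw [Subgroup.coe_mul] at h <;> rw [h] <;> simp
  obtain ⟨θ, hθ, hθcard, -, -, hfib, hcen⟩ := T.exists_perp_quot hF heE
  let θ' : K →* Cfsg.PSU 4 F 2 := θ.comp π₁
  have hθ' : Function.Surjective θ' := hθ.comp hπ₁
  have h4 := CfsgLib.ThreeTrans.USix.card_psu_four hF
  have hker2 : Nat.card θ'.ker ≤ 2 ^ 10 := by
    have h1 : θ'.ker.map π₁ = θ.ker := by
      rw [show θ'.ker = θ.ker.comap π₁ from rfl, Subgroup.map_comap_eq_self_of_surjective hπ₁]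
    have hk : Nat.card π₁.ker ≤ 2 := by
      refine (Nat.card_le_card_of_injective (fun x : π₁.ker => if (x : G) = 1 then true else false)
        fun x y hxy => ?_).trans (by simp)
      rcases hker₁ x (congrArg Subtype.val x.2) with a | a <;>
        rcases hker₁ y (congrArg Subtype.val y.2) with b | b
      all_goals first
        | exact Subtype.ext (Subtype.ext (a.trans b.symm))
        | (simp [a, b, CfsgLib.ThreeTrans.ne_one hs h₁] at hxy)
    let f := (π₁.comp θ'.ker.subtype)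
    have h := f.ker.card_mul_index
    rw [Subgroup.index_ker, show f.range = θ.ker by rw [← h1, MonoidHom.range_comp, Subgroup.range_subtype],
      hθcard] at h
    have hfk : Nat.card f.ker ≤ Nat.card π₁.ker :=
      Nat.card_le_card_of_injective (fun x => (⟨x.1.1, x.2⟩ : π₁.ker)) fun x y hxy => by
        have := congrArg Subtype.val hxy
        exact Subtype.ext (Subtype.ext this)
    rw [← h, show (2 : ℕ) ^ 10 = 2 * 2 ^ 9 by norm_num]
    exact Nat.mul_le_mul (hfk.trans hk) le_rfl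
  -- the normal subgroup
  obtain ⟨hKC, -, -, E, hVE, hEC, hEn, hcardE, hcomm, hEnorm, F', _, _, hF', ⟨eC⟩⟩ :=
    Cfsg.Agent.S5469.result hD hprim d₀ hd₀ h3 h2 h22 d₁ d₂ h₁ h₂ hne hc K C V rfl hC rfl
  have hF'2 : Fintype.card F' = 2 ^ 2 := by rw [hF']; norm_num
  have h4' := CfsgLib.ThreeTrans.USix.card_psu_four hF'2
  haveI hsimple : IsSimpleGroup (Cfsg.PSU 4 F' 2) :=
    CfsgLib.ClassicalGroups.psu_isSimpleGroup hF'2 (by norm_num) (by norm_num)
  have hz4 : Subgroup.center (Cfsg.PSU 4 F' 2) = ⊥ := by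
    refine (Subgroup.Normal.eq_bot_or_eq_top inferInstance).resolve_right fun h => ?_
    letI : CommGroup (Cfsg.PSU 4 F' 2) := Group.commGroupOfCenterEqTop h
    have := IsSimpleGroup.prime_card (α := Cfsg.PSU 4 F' 2)
    rw [h4'] at this
    norm_num at this
  haveI : Finite (MulAut (Cfsg.PSU 4 F' 2)) :=
    Finite.of_injective (fun f => (f : Cfsg.PSU 4 F' 2 → Cfsg.PSU 4 F' 2)) DFunLike.coe_injective
  let Inn := (MulAut.conj : Cfsg.PSU 4 F' 2 →* MulAut (Cfsg.PSU 4 F' 2)).range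
  have hInnInj : Function.Injective (MulAut.conj : Cfsg.PSU 4 F' 2 →* MulAut (Cfsg.PSU 4 F' 2)) := by
    refine (injective_iff_map_eq_one _).2 fun g hg => ?_
    have : g ∈ Subgroup.center (Cfsg.PSU 4 F' 2) := Subgroup.mem_center_iff.2 fun x => by
      have := DFunLike.congr_fun hg x
      simp only [MulAut.conj_apply, MulAut.one_apply] at this
      exact (mul_inv_eq_iff_eq_mul.1 this).symm
    rwa [hz4, Subgroup.mem_bot] at this
  have hInn : Nat.card Inn = 25920 := by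
    rw [Nat.card_congr (MonoidHom.ofInjective hInnInj).symm.toEquiv, h4']
  let ψ : C →* MulAut (Cfsg.PSU 4 F' 2) := eC.toMonoidHom.comp (QuotientGroup.mk' (E.subgroupOf C))
  have hψs : Function.Surjective ψ := eC.surjective.comp (QuotientGroup.mk'_surjective _)
  have hψk : ∀ c : C, ψ c = 1 ↔ (c : G) ∈ E := fun c => by
    show eC (QuotientGroup.mk c) = 1 ↔ _
    rw [MulEquiv.map_eq_one_iff, QuotientGroup.eq_one_iff]; rfl
  have hE2 : IsPGroup 2 E := IsPGroup.of_card hcardE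
  -- the image of the joint centraliser
  set KC := K.subgroupOf C with hKCdef
  set N₂ := (θ'.ker.map K.subtype).subgroupOf C with hN₂
  have hKn : KC.Normal := Subgroup.normal_of_index_eq_two
    (Cfsg.Agent.S5469.result hD hprim d₀ hd₀ h3 h2 h22 d₁ d₂ h₁ h₂ hne hc K C V rfl hC rfl).2.1
  have hIK : Inn ≤ KC.map ψ := by
    haveI := hKn.map ψ hψs
    refine (inn_le_or_bot hz4 _ fun s m hm => this.conj_mem m hm _).resolve_left fun h => ?_
    have hsub : K ≤ E := fun k hk => (hψk ⟨k, hKC hk⟩).1 (by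
      rw [← Subgroup.mem_bot, ← h]; exact ⟨_, hk, rfl⟩)
    have h' := Subgroup.card_dvd_of_surjective θ' hθ'
    have h'' := Subgroup.card_dvd_of_le hsub
    rw [h4] at h'
    rw [hcardE] at h''
    have := Nat.le_of_dvd (by norm_num) (h'.trans h'')
    norm_num at this
  have hE2' : ∀ x : K, θ' x = 1 → (x : G) ∈ E := by
    have hM : ∀ s, ∀ m ∈ N₂.map ψ, MulAut.conj s * m * (MulAut.conj s)⁻¹ ∈ N₂.map ψ := by
      rintro s _ ⟨n, ⟨n₀, hn₀, hn⟩, rfl⟩
      obtain ⟨k, hk, e⟩ := hIK ⟨s, rfl⟩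
      refine ⟨k * n * k⁻¹, ⟨⟨k, hk⟩ * n₀ * ⟨k, hk⟩⁻¹, (MonoidHom.normal_ker θ').conj_mem _ hn₀ _, ?_⟩, ?_⟩
      · simp only [Subgroup.coe_subtype, Subgroup.coe_mul, Subgroup.coe_inv] at hn ⊢
        rw [hn]
      · rw [map_mul, map_mul, map_inv, e]
    have hbot : N₂.map ψ = ⊥ := (inn_le_or_bot hz4 _ hM).resolve_right fun h => by
      have e1 := Subgroup.card_le_of_le h
      have e2 : Nat.card (N₂.map ψ) ≤ Nat.card θ'.ker := by
        refine (Nat.le_of_dvd Nat.card_pos (Subgroup.card_map_dvd (H := N₂) ψ)).trans ?_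
        rw [hN₂, Nat.card_congr (Subgroup.subgroupOfEquivOfLe ((Subgroup.map_subtype_le _).trans hKC)).toEquiv,
          Subgroup.card_map_of_injective Subtype.val_injective]
      rw [hInn] at e1
      have := e1.trans (e2.trans hker2)
      norm_num at this
    intro x hx
    refine (hψk ⟨x, hKC x.2⟩).1 ?_
    rw [← Subgroup.mem_bot, ← hbot]
    exact ⟨_, ⟨x, hx, rfl⟩, rfl⟩
  have hθE : ∀ x : K, (x : G) ∈ E → θ' x = 1 := by
    intro x hx
    haveI : (E.subgroupOf K).Normal := ⟨fun n hn g => hEn g (hKC g.2) _ hn⟩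
    haveI hn := Subgroup.Normal.map (inferInstance : (E.subgroupOf K).Normal) θ' hθ'
    haveI : IsSimpleGroup (Cfsg.PSU 4 F 2) :=
      CfsgLib.ClassicalGroups.psu_isSimpleGroup hF (by norm_num) (by norm_num)
    rcases hn.eq_bot_or_eq_top with h | h
    · rw [← Subgroup.mem_bot, ← h]; exact ⟨x, hx, rfl⟩
    · have h' := Subgroup.card_map_dvd (H := E.subgroupOf K) θ'
      rw [h, Subgroup.card_top, h4] at h'
      have h'' : Nat.card (E.subgroupOf K) ∣ Nat.card E := by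
        rw [← Subgroup.card_map_of_injective (K := E.subgroupOf K) K.subtype_injective,
          Subgroup.subgroupOf_map_subtype]
        exact Subgroup.card_dvd_of_le inf_le_left
      have := Nat.le_of_dvd Nat.card_pos (h'.trans h'')
      rw [hcardE] at this
      norm_num at this
  have hEK : E ≤ K := by
    have h1 : θ'.ker.map K.subtype ≤ E := fun x ⟨y, hy, e⟩ => e ▸ hE2' y hy
    have h2' : Nat.card θ'.ker = 2 ^ 10 := by
      refine le_antisymm hker2 ?_
      let f := (π₁.comp θ'.ker.subtype)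
      have hr : f.range = θ.ker := by
        rw [MonoidHom.range_comp, Subgroup.range_subtype, show θ'.ker = θ.ker.comap π₁ from rfl,
          Subgroup.map_comap_eq_self_of_surjective hπ₁]
      have h := f.ker.card_mul_index
      rw [Subgroup.index_ker, hr, hθcard] at h
      have hd : ⟨d₁, hd₁K⟩ ∈ θ'.ker := by
        show θ (π₁ _) = 1
        rw [show π₁ ⟨d₁, hd₁K⟩ = 1 from Subtype.ext (by
          have : π (ι ⟨d₁, hd₁K⟩) ∈ Subgroup.center (Cfsg.PSU 6 F 2) := Subgroup.mem_center_iff.2 fun t => by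
            obtain ⟨y, rfl⟩ := M.base.surj t
            exact (Commute.map (show Commute y (ι ⟨d₁, hd₁K⟩) from Subtype.ext (commute_of_mem_Hd y.2)) π).eq
          rwa [psu_six_center hF, Subgroup.mem_bot] at this), map_one]
      have hk : 2 ≤ Nat.card f.ker := by
        have hfd : (⟨_, hd⟩ : θ'.ker) ∈ f.ker := Subtype.ext (by
          have : π (ι ⟨d₁, hd₁K⟩) ∈ Subgroup.center (Cfsg.PSU 6 F 2) := Subgroup.mem_center_iff.2 fun t => by
            obtain ⟨y, rfl⟩ := M.base.surj t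
            exact (Commute.map (show Commute y (ι ⟨d₁, hd₁K⟩) from Subtype.ext (commute_of_mem_Hd y.2)) π).eq
          rwa [psu_six_center hF, Subgroup.mem_bot] at this)
        have : Nontrivial f.ker := ⟨⟨⟨_, hfd⟩, 1, fun h => CfsgLib.ThreeTrans.ne_one hs h₁
          (congrArg (fun z : f.ker => ((z : θ'.ker) : G)) h)⟩⟩
        exact Finite.one_lt_card
      rw [← h, show (2 : ℕ) ^ 10 = 2 * 2 ^ 9 by norm_num]
      exact Nat.mul_le_mul hk le_rfl
    have := Subgroup.eq_of_le_of_card_ge h1 (by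
      rw [hcardE, Subgroup.card_map_of_injective Subtype.val_injective, h2'])
    exact this ▸ Subgroup.map_subtype_le _
  -- orbits of the normal subgroup
  have hEconj : ∀ x ∈ E, ∀ z ∈ P, x * z * x⁻¹ ∈ P := fun x hx z hz => by
    obtain ⟨x1, x2⟩ := (hK' x).1 (hEK hx)
    have m1 := conj_mem_Dd_conj D22.closed x hz.1
    have m2 := conj_mem_Dd_conj D22.closed x hz.2
    rw [cj_fix x1] at m1; rw [cj_fix x2] at m2
    exact ⟨m1, m2⟩
  have hcongr : ∀ x ∈ E, ∀ z ∈ P, z * (x * z * x⁻¹) ∈ E := fun x hx z hz => by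
    rw [show z * (x * z * x⁻¹) = z * x * z⁻¹ * (z * z) * x⁻¹ by group, mul_self hs hz.1.1, mul_one]
    exact mul_mem (hEn z (hKC (hPK z hz)) x hx) (inv_mem hx)
  have hclique : ∀ p q, p ∈ P → q ∈ P → p * q ∈ E → Commute p q := by
    intro p q hp hq hpq
    by_contra hn
    have h3' := pow_three_of_not_commute hs hp.1.1 hq.1.1 hn
    have h1 : orderOf (p * q) ∣ Nat.gcd 3 (2 ^ 10) := by
      refine Nat.dvd_gcd (orderOf_dvd_of_pow_eq_one h3') ?_
      rw [← hcardE, show orderOf (p * q) = orderOf (⟨p * q, hpq⟩ : E) from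
        (Subgroup.orderOf_coe (⟨p * q, hpq⟩ : E))]
      exact orderOf_dvd_natCard _
    rw [show Nat.gcd 3 (2 ^ 10) = 1 by norm_num, Nat.dvd_one, orderOf_eq_one_iff] at h1
    exact hn (by rw [eq_inv_of_mul_eq_one_left h1, inv_eq hs hq.1.1])
  have hKgen : ∀ x : K, (∀ y ∈ P, Commute (x : G) y) → (x : G) ∈ V := by
    intro x hx
    refine hVmem x (hcen (π₁ x) fun w => ?_)
    have hL := CfsgLib.ThreeTrans.USix.local_of_class hF T.set T.conj T.nonempty
    have hxe : Commute (π₁ x : Cfsg.PSU 6 F 2) e := Subgroup.mem_centralizer_singleton_iff.1 (π₁ x).2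
    have hw := hL.stab e heE (w : Cfsg.PSU 6 F 2) (Subgroup.mem_centralizer_singleton_iff.1 w.2)
    refine Subtype.ext (show Commute (π₁ x : Cfsg.PSU 6 F 2) w from ?_).eq
    generalize (w : Cfsg.PSU 6 F 2) = w' at hw ⊢
    induction hw using Subgroup.closure_induction with
    | mem z hz =>
      by_cases hze : z = e
      · rw [hze]; exact hxe
      obtain ⟨y, hy, rfl⟩ := M.onto hz.1
      have hyP : y ∈ P := ⟨hy, (M.mem_Dd hd₂ hy).1 ⟨hz.1, hze, hz.2⟩⟩
      rw [show phi π y = π (ι ⟨y, hPK y hyP⟩) from phi_of_mem π (x := ι ⟨y, hPK y hyP⟩) hy]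
      exact Commute.map (show Commute (ι x) (ι ⟨y, hPK y hyP⟩) from Subtype.ext (hx y hyP).eq) π
    | one => exact Commute.one_right _
    | mul p q _ _ hp hq => exact hp.mul_right hq
    | inv p _ hp => exact hp.inv_right
  have htrans : ∀ y ∈ P, ∀ y' ∈ P, ∃ g ∈ K, g * y * g⁻¹ = y' := by
    intro y hy y' hy'
    have hL := CfsgLib.ThreeTrans.USix.local_of_class hF T.set T.conj T.nonempty
    obtain ⟨t, hte, hty⟩ := hL.perp e heE _ ((M.mem_Dd hd₂ hy.1).2 hy.2) _ ((M.mem_Dd hd₂ hy'.1).2 hy'.2)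
    obtain ⟨g, hg⟩ := hπ₁ ⟨t, Subgroup.mem_centralizer_singleton_iff.2 hte.eq⟩
    refine ⟨g, g.2, M.inj (M.conj_mem (ι g) hy.1) hy'.1 ?_⟩
    have hgt : π (ι g) = t := congrArg Subtype.val hg
    exact (M.phi_conj (ι g) hy.1).trans (hgt ▸ hty)
  have hmove : ∀ y ∈ P, ∃ x ∈ E, x * y * x⁻¹ ≠ y := by
    intro y hy
    by_contra hno
    push Not at hno
    have hsub : E ≤ V := fun x hx => hKgen ⟨x, hEK hx⟩ fun y' hy' => by
      obtain ⟨g, hg, rfl⟩ := htrans y hy y' hy'
      have := hno _ (hEn g⁻¹ (inv_mem (hKC hg)) x hx)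
      refine cj_commute ?_
      calc x * (g * y * g⁻¹) * x⁻¹ = g * (g⁻¹ * x * g⁻¹⁻¹ * y * (g⁻¹ * x * g⁻¹⁻¹)⁻¹) * g⁻¹ := by group
        _ = g * y * g⁻¹ := by rw [this]
    have h' := Subgroup.card_le_of_le hsub
    have hV4 : Nat.card V ≤ 4 := by
      have : (V : Set G) ⊆ {1, d₁, d₂, d₁ * d₂} := fun v hv => by
        rcases (hVcases v).1 hv with (h | h) | h | h <;> simp [h]
      refine (Set.ncard_le_ncard this (Set.toFinite _)).trans ?_
      refine (Set.ncard_insert_le _ _).trans (Nat.succ_le_succ ((Set.ncard_insert_le _ _).trans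
        (Nat.succ_le_succ ((Set.ncard_insert_le _ _).trans (by simp)))))
    rw [hcardE] at h'
    norm_num at h'
    omega
  -- every member has two further members congruent to it
  have htwo : ∀ y ∈ P, ∃ y₁ ∈ P, ∃ y₂ ∈ P, y₁ ≠ y₂ ∧ y₁ ≠ y ∧ y₂ ≠ y ∧ y * y₁ ∈ E ∧ y * y₂ ∈ E := by
    intro y hy
    have hy₁ := hy.1
    have hye : phi π y ∈ Dd Ecls e := (M.mem_Dd hd₂ hy.1).2 hy.2
    have hθy : ∀ x ∈ E, ∀ (h : x * y * x⁻¹ ∈ K),
        θ' ⟨x * y * x⁻¹, h⟩ = θ' ⟨y, hPK y hy⟩ := fun x hx h => by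
      rw [show (⟨x * y * x⁻¹, h⟩ : K) = ⟨x, hEK hx⟩ * ⟨y, hPK y hy⟩ * ⟨x, hEK hx⟩⁻¹ from rfl, map_mul, map_mul,
        map_inv, hθE ⟨x, hEK hx⟩ hx, one_mul, inv_one, mul_one]
    obtain ⟨x, hx, hxy⟩ := hmove y hy
    obtain ⟨t, r₁, r₂, r₃, ht1, ht2, n12, n23, n13, hR, c12, c23, c31⟩ := T.exists_cycle hF heE hye
    obtain ⟨τ, hτ⟩ := hπ₁ ⟨t, Subgroup.mem_centralizer_singleton_iff.2 ht1.eq⟩
    have hτπ : π (ι τ) = t := congrArg Subtype.val hτ
    obtain ⟨z₁, hz₁R, hz₁, rfl⟩ := restHex_bwd M hd₂ hy₁ (hR ▸ Set.mem_insert _ _ : r₁ ∈ _)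
    obtain ⟨z₂, hz₂R, hz₂, rfl⟩ := restHex_bwd M hd₂ hy₁
      (hR ▸ Set.mem_insert_of_mem _ (Set.mem_insert _ _) : r₂ ∈ _)
    obtain ⟨z₃, hz₃R, hz₃, rfl⟩ := restHex_bwd M hd₂ hy₁
      (hR ▸ Set.mem_insert_of_mem _ (Set.mem_insert_of_mem _ rfl) : r₃ ∈ _)
    have hτz : ∀ {u v : G}, u ∈ Dd D d₁ → v ∈ Dd D d₁ → t * phi π u * t⁻¹ = phi π v →
        (τ : G) * u * (τ : G)⁻¹ = v := fun {u v} hu hv h =>
      M.inj (M.conj_mem (ι τ) hu) hv ((M.phi_conj (ι τ) hu).trans (hτπ ▸ h))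
    have t12 := hτz hz₁ hz₂ c12
    have t23 := hτz hz₂ hz₃ c23
    have t31 := hτz hz₃ hz₁ c31
    have ty := hτz hy₁ hy₁ (cj_fix ht2)
    set w := x * y * x⁻¹ with hw
    have hwP : w ∈ P := hEconj x hx y hy
    have hwR : w ∈ restHex D d₁ d₂ y := by
      refine ⟨hwP.1.1, hwP.1.2.1, hwP.2.2.1, hxy, fun u hu w1 w2 wy => ?_⟩
      by_cases e1 : u = d₁
      · exact e1 ▸ hwP.1.2.2.symm
      have hud : u ∈ Dd D d₁ := ⟨hu, e1, w1.symm⟩
      have hpk : (π₁ ⟨w, hPK w hwP⟩ : Cfsg.PSU 6 F 2) = phi π w :=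
        (phi_of_mem π (x := ι ⟨w, hPK w hwP⟩) hwP.1).symm
      have hpy : (π₁ ⟨y, hPK y hy⟩ : Cfsg.PSU 6 F 2) = phi π y :=
        (phi_of_mem π (x := ι ⟨y, hPK y hy⟩) hy₁).symm
      have h := hfib (π₁ ⟨y, hPK y hy⟩) (π₁ ⟨w, hPK w hwP⟩) (hpy ▸ hye) (hpk ▸ (M.mem_Dd hd₂ hwP.1).2 hwP.2)
        (hθy x hx (hPK w hwP)).symm (phi π u) (M.mem hud) ((M.comm hud hd₂).2 w2) (hpy ▸ (M.comm hud hy₁).2 wy)
      rw [hpk] at h
      exact ((M.comm hud hwP.1).1 h).symm
    obtain ⟨hwd, hwl⟩ := restHex_fwd M hd₂ hy₁ hwR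
    -- the conjugate by the cycle
    set w' := (τ : G) * w * (τ : G)⁻¹ with hw'
    have hyw : y * w ∈ E := hcongr x hx y hy
    have hyw' : y * w' ∈ E := by
      have := hEn τ (hKC τ.2) _ hyw
      rwa [show (τ : G) * (y * w) * (τ : G)⁻¹ = (τ : G) * y * (τ : G)⁻¹ * w' by rw [hw']; group, ty] at this
    obtain ⟨τ1, τ2⟩ := (hK' _).1 τ.2
    have hw'P : w' ∈ P := by
      have m1 := conj_mem_Dd_conj D22.closed (τ : G) hwP.1
      have m2 := conj_mem_Dd_conj D22.closed (τ : G) hwP.2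
      rw [cj_fix τ1] at m1; rw [cj_fix τ2] at m2
      exact ⟨m1, m2⟩
    refine ⟨w, hwP, w', hw'P, fun h => ?_, hxy, fun h => hxy ?_, hyw, hyw'⟩
    · rw [hR] at hwl
      rcases hwl with k | k | k
      · have e := M.inj hwd hz₁ k
        rw [hw', e, t12] at h
        exact n12 (congrArg (phi π) h)
      · have e := M.inj hwd hz₂ k
        rw [hw', e, t23] at h
        exact n23 (congrArg (phi π) h)
      · have e := M.inj hwd hz₃ k
        rw [hw', e, t31] at h
        exact n13 (congrArg (phi π) h).symm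
    · exact mul_left_cancel (mul_right_cancel ((h.trans ty.symm) : (τ : G) * w * (τ : G)⁻¹ = _))
  -- the products of congruent members
  let Sg : Set E := {s | ∃ p ∈ P, ∃ q ∈ P, p ≠ q ∧ (s : G) = p * q}
  set j : E := ⟨d₁ * d₂, hVE ((hVcases _).2 (by simp))⟩ with hjdef
  have hSg : ∀ s ∈ Sg, s * s = 1 ∧ ∀ x : E, s * x * s⁻¹ * x⁻¹ = 1 ∨ s * x * s⁻¹ * x⁻¹ = j := by
    rintro ⟨s, hsE⟩ ⟨p, hp, q, hq, hpq, hspq : s = p * q⟩
    subst hspq
    have cpq := hclique p q hp hq hsE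
    refine ⟨Subtype.ext ?_, fun x => ?_⟩
    · show p * q * (p * q) = 1
      rw [mul_assoc, ← mul_assoc q p, ← cpq.eq, mul_assoc, mul_self hs hq.1.1, mul_one, mul_self hs hp.1.1]
    obtain ⟨x, hx⟩ := x
    set p' := x * p * x⁻¹ with hp'def
    set q' := x * q * x⁻¹ with hq'def
    have hp' := hEconj x hx p hp
    have hq' := hEconj x hx q hq
    have c1 : p * p' ∈ E := hcongr x hx p hp
    have c2 : q * q' ∈ E := hcongr x hx q hq
    have hsw : ∀ {a b : G}, a ∈ P → b ∈ P → a * b ∈ E → b * a ∈ E := fun {a b} ha hb h => by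
      have := inv_mem h
      rwa [mul_inv_rev, inv_eq hs ha.1.1, inv_eq hs hb.1.1] at this
    have htr : ∀ {a b c : G}, b ∈ P → a * b ∈ E → b * c ∈ E → a * c ∈ E := fun {a b c} hb h h' => by
      have := mul_mem h h'
      rwa [mul_assoc a b, ← mul_assoc b b, mul_self hs hb.1.1, one_mul] at this
    have cpp : Commute p p' := hclique p p' hp hp' c1
    have cqq : Commute q q' := hclique q q' hq hq' c2
    have c4 : p * q' ∈ E := htr hq hsE c2
    have cpq' : Commute p q' := hclique p q' hp hq' c4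
    have c5 : q * p' ∈ E := htr hp (hsw hp hq hsE) c1
    have cqp : Commute q p' := hclique q p' hq hp' c5
    have cpq'' : Commute p' q' := (commute_conj_iff x p q).2 cpq
    have hpq' : p' ≠ q' := fun h => hpq (mul_left_cancel (mul_right_cancel h))
    have hval : ((⟨p * q, hsE⟩ : E) * ⟨x, hx⟩ * (⟨p * q, hsE⟩ : E)⁻¹ * (⟨x, hx⟩ : E)⁻¹ : E).1 =
        p * q * (p' * q') := by
      show p * q * x * (p * q)⁻¹ * x⁻¹ = _
      rw [mul_inv_rev, inv_eq hs hp.1.1, inv_eq hs hq.1.1, ← cpq.eq, hp'def, hq'def]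
      group
    have hv : p * q * (p' * q') ∈ V := by
      rw [← hval]
      exact (hcomm _ hsE _ hx).1
    rcases (hVcases _).1 hv with (h | h) | h | h
    · exact Or.inl (Subtype.ext (hval.trans h))
    · exact Or.inl (Subtype.ext (absurd h (five_ne hs r5 h₁ hp hq hp' hq' hpq hpq' cpq cpq'' cpp cqq cpq' cqp
        (fun z hz => hz.1) hnoV hv)))
    · exact Or.inl (Subtype.ext (absurd h (five_ne hs r5 h₂ hp hq hp' hq' hpq hpq' cpq cpq'' cpp cqq cpq' cqp
        (fun z hz => hz.2) hnoV hv)))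
    · exact Or.inr (Subtype.ext (hval.trans h))
  have hVc : ∀ v : E, (v : G) ∈ V → v ∈ Subgroup.center E := fun v hv => Subgroup.mem_center_iff.2 fun g => by
    refine Subtype.ext ?_
    obtain ⟨g1, g2⟩ := (hK' g).1 (hEK g.2)
    show (g : G) * v = v * g
    rcases (hVcases _).1 hv with (h | h) | h | h <;> rw [h]
    exacts [(Commute.one_right _).eq, g1.eq, g2.eq, (g1.mul_right g2).eq]
  have hdual : ∀ x : E, (∀ s ∈ Sg, Commute s x) → (x : G) ∈ V := by
    intro x hx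
    refine hKgen ⟨x, hEK x.2⟩ fun y hy => ?_
    obtain ⟨y₁, hy₁, y₂, hy₂, n12, n1, n2, e1, e2⟩ := htwo y hy
    have hc1 := hclique y y₁ hy hy₁ e1
    have hc2 := hclique y y₂ hy hy₂ e2
    refine cj_commute ?_
    have step : ∀ z ∈ P, z ≠ y → y * z ∈ E → Commute y z →
        (x : G) * y * (x : G)⁻¹ = y ∨ (x : G) * y * (x : G)⁻¹ = z := fun z hz nz ez cz => by
      have h := congrArg Subtype.val (hx ⟨y * z, ez⟩ ⟨y, hy, z, hz, Ne.symm nz, rfl⟩).eq
      simp only [Subgroup.coe_mul] at h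
      have e : (x : G) * y * (x : G)⁻¹ * ((x : G) * z * (x : G)⁻¹) = y * z := by
        rw [show (x : G) * y * (x : G)⁻¹ * ((x : G) * z * (x : G)⁻¹) = (x : G) * (y * z) * (x : G)⁻¹ by group, ← h,
          mul_inv_cancel_right]
      rcases Tower.pair_unique hs D22.rel hy.1.1 hz.1.1 (Ne.symm nz) cz (hEconj _ x.2 y hy).1.1
        (hEconj _ x.2 z hz).1.1 ((commute_conj_iff _ _ _).2 cz) e with ⟨u, -⟩ | ⟨u, -⟩
      exacts [Or.inl u, Or.inr u]
    rcases step y₁ hy₁ n1 e1 hc1 with h | h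
    · exact h
    rcases step y₂ hy₂ n2 e2 hc2 with h' | h'
    · exact h'
    exact absurd (h.symm.trans h') n12
  have hcenE : ∀ v : E, v ∈ Subgroup.center E ↔ (v = 1 ∨ v = ⟨d₁, hVE ((hVcases _).2 (by simp))⟩) ∨
      v = j ∨ v = ⟨d₁, hVE ((hVcases _).2 (by simp))⟩ * j := by
    intro v
    have ev : d₁ * (d₁ * d₂) = d₂ := by rw [← mul_assoc, mul_self hs h₁, one_mul]
    constructor
    · intro hv
      rcases (hVcases _).1 (hdual v fun s _ => (Subgroup.mem_center_iff.1 hv s)) with (h | h) | h | h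
      · exact Or.inl (Or.inl (Subtype.ext h))
      · exact Or.inl (Or.inr (Subtype.ext h))
      · exact Or.inr (Or.inr (Subtype.ext (h.trans ev.symm)))
      · exact Or.inr (Or.inl (Subtype.ext h))
    · intro hv
      refine hVc v ((hVcases _).2 ?_)
      rcases hv with (rfl | rfl) | rfl | rfl <;> simp [hjdef, ev]
  have d11 := mul_self hs h₁
  obtain ⟨Q, hQ, hQcard, ⟨eQ⟩⟩ := DualExtra.split_extraspecial (j := j) (S := Sg)
    (d := (⟨d₁, hVE ((hVcases _).2 (by simp))⟩ : E)) (n := 10)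
    (Subtype.ext (show d₁ * d₂ * (d₁ * d₂) = 1 by
      rw [mul_assoc, ← mul_assoc d₂ d₁, ← hc.eq, mul_assoc, mul_self hs h₂, mul_one, d11]))
    (Subtype.ext d11) (fun h => CfsgLib.ThreeTrans.ne_one hs h₁ (congrArg Subtype.val h))
    (fun h => CfsgLib.ThreeTrans.ne_one hs h₂ (by
      have := congrArg Subtype.val h
      exact (mul_eq_left.1 (this.symm : d₁ * d₂ = d₁))))
    (fun h => hne ((eq_inv_of_mul_eq_one_left (show d₁ * d₂ = 1 from congrArg Subtype.val h)).trans (inv_eq hs h₂))) hcenE (by norm_num) hcardE hSg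
    (fun x hx => hVc x (hdual x hx))
  -- the centraliser
  have hEnC : (E.subgroupOf C).Normal := hEnorm
  have hCE : Subgroup.centralizer ((E.subgroupOf C : Subgroup C) : Set C) ≤ E.subgroupOf C := by
    set N := Subgroup.centralizer ((E.subgroupOf C : Subgroup C) : Set C) with hN
    haveI : N.Normal := inferInstanceAs (Subgroup.centralizer ((E.subgroupOf C : Subgroup C) : Set C)).Normal
    haveI hn := Subgroup.Normal.map (inferInstance : N.Normal) ψ hψs
    rcases inn_le_or_bot hz4 _ (fun s m hm => hn.conj_mem m hm _) with h | h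
    · intro c hc'
      refine (hψk c).1 ?_
      rw [← Subgroup.mem_bot, ← h]; exact ⟨c, hc', rfl⟩
    exfalso
    have hKI : ∀ k : K, ψ ⟨k, hKC k.2⟩ ∈ Inn := by
      intro k
      haveI : (Inn.comap ψ).Normal := Subgroup.Normal.comap ⟨fun m hm t => by
        obtain ⟨s, rfl⟩ := hm
        exact ⟨t s, MulEquiv.ext fun u => by simp [MulAut.conj_apply]⟩⟩ ψ
      have hle : Inn.comap ψ ≤ K.subgroupOf C := by
        intro c hc'
        obtain ⟨m, hm, hmc⟩ := hIK hc'
        have hmem : c * m⁻¹ ∈ E.subgroupOf C := (hψk (c * m⁻¹)).1 (by rw [map_mul, map_inv, hmc, mul_inv_cancel])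
        have := mul_mem (show c * m⁻¹ ∈ K.subgroupOf C from hEK hmem) hm
        rwa [inv_mul_cancel_right] at this
      have hi : (Inn.comap ψ).index = 2 := by
        rw [Subgroup.index_comap_of_surjective _ hψs]
        have hA := MinusSix.card_mulAut_psu_four hF'2
        have := Inn.card_mul_index
        rw [hInn, hA] at this
        omega
      have heq : Inn.comap ψ = K.subgroupOf C := by
        refine le_antisymm hle ?_
        have hKi := (Cfsg.Agent.S5469.result hD hprim d₀ hd₀ h3 h2 h22 d₁ d₂ h₁ h₂ hne hc K C V rfl hC rfl).2.1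
        have c1 := (Inn.comap ψ).card_mul_index
        have c2 := (K.subgroupOf C).card_mul_index
        rw [hi] at c1
        rw [hKi] at c2
        exact (Subgroup.eq_of_le_of_card_ge hle (by omega)).ge
      have : (⟨k, hKC k.2⟩ : C) ∈ K.subgroupOf C := k.2
      rwa [← heq] at this
    obtain ⟨y, hy⟩ : P.Nonempty := by
      refine Set.nonempty_of_ncard_ne_zero ?_
      rw [S.lam h₁ hd₂]; norm_num
    obtain ⟨x₀, hx₀, hmv⟩ := hmove y hy
    obtain ⟨m, hm, hmy⟩ := h (hKI ⟨y, hPK y hy⟩)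
    let yC : C := ⟨y, hKC (hPK y hy)⟩
    have hxE : (m : C)⁻¹ * yC ∈ E.subgroupOf C :=
      (hψk ((m : C)⁻¹ * yC)).1 (by rw [map_mul, map_inv, hmy]; exact inv_mul_cancel _)
    have hmE : ∀ w ∈ E, (m : G) * w = w * m := fun w hw =>
      (congrArg Subtype.val (Subgroup.mem_centralizer_iff.1 hm ⟨w, hEC hw⟩ hw)).symm
    set r : G := (m : G)⁻¹ * y with hr
    have hrE : r ∈ E := hxE
    have hv : y * x₀ * y⁻¹ * x₀⁻¹ ∈ V := by
      have e : y * x₀ * y⁻¹ * x₀⁻¹ = r * x₀ * r⁻¹ * x₀⁻¹ := by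
        have hmid : (m : G) * (r * x₀ * r⁻¹) * (m : G)⁻¹ = r * x₀ * r⁻¹ :=
          cj_fix (hmE _ (mul_mem (mul_mem hrE hx₀) (inv_mem hrE)))
        calc y * x₀ * y⁻¹ * x₀⁻¹ = (m : G) * (r * x₀ * r⁻¹) * (m : G)⁻¹ * x₀⁻¹ := by rw [hr]; group
          _ = r * x₀ * r⁻¹ * x₀⁻¹ := by rw [hmid]
      rw [e]
      exact (hcomm r hrE x₀ hx₀).1
    refine hnoV y (x₀ * y * x₀⁻¹) hy (hEconj _ hx₀ y hy) (Ne.symm hmv)
      (hclique _ _ hy (hEconj _ hx₀ y hy) (hcongr _ hx₀ y hy)) ?_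
    rwa [show y * (x₀ * y * x₀⁻¹) = y * x₀ * y⁻¹ * x₀⁻¹ by rw [inv_eq hs hy.1.1]; group]
  have hE2C : IsPGroup 2 (E.subgroupOf C) := hE2.of_equiv (Subgroup.subgroupOfEquivOfLe hEC).symm
  have hFit : Cfsg.fittingSubgroup C = E.subgroupOf C := by
    refine le_antisymm (sSup_le fun N hN => ?_) (le_sSup ⟨hEnC, hE2C.isNilpotent⟩)
    haveI := hN.1
    haveI := hN.2
    haveI hn := Subgroup.Normal.map (inferInstance : N.Normal) ψ hψs
    rcases inn_le_or_bot hz4 _ (fun s m hm => hn.conj_mem m hm _) with h | h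
    · intro c hc'
      refine (hψk c).1 ?_
      rw [← Subgroup.mem_bot, ← h]; exact ⟨c, hc', rfl⟩
    exfalso
    haveI : Group.IsNilpotent (N.map ψ) :=
      Group.nilpotent_of_surjective (ψ.subgroupMap N) (MonoidHom.subgroupMap_surjective ψ N)
    haveI : Group.IsNilpotent (Cfsg.PSU 4 F' 2) := by
      let g : Cfsg.PSU 4 F' 2 →* N.map ψ := (MulAut.conj).codRestrict _ fun s => h ⟨s, rfl⟩
      have hg : Function.Injective g := fun a b hab => hInnInj (congrArg Subtype.val hab)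
      exact Group.nilpotent_of_mulEquiv (MonoidHom.ofInjective hg).symm
    exact Group.IsNilpotent.center_ne_bot (G := Cfsg.PSU 4 F' 2) hz4
  have hFstar : Cfsg.generalizedFittingSubgroup C = E.subgroupOf C := by
    refine le_antisymm (sup_le (sSup_le fun M hM => ?_) hFit.le) (hFit.ge.trans le_sup_right)
    exfalso
    have hle : M ≤ E.subgroupOf C := by
      refine ((CfsgLib.Components.component_le_layer hM).trans ?_).trans hCE
      rw [← hFit]
      exact CfsgLib.Components.layer_le_centralizer_fitting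
    haveI : Group.IsNilpotent (E.subgroupOf C) := hE2C.isNilpotent
    exact CfsgLib.Components.component_not_isSolvable hM
      (solvable_of_solvable_injective (Subgroup.inclusion_injective hle))
  haveI : Small.{0} Q := Countable.toSmall _
  let mQ : Shrink.{0} Q ≃* Q := Shrink.mulEquiv
  haveI : Finite (Shrink.{0} Q) := Finite.of_equiv Q mQ.symm.toEquiv
  refine ⟨⟨Shrink.{0} Q, inferInstance, inferInstance, CfsgLib.LargeExtra.isExtraspecial_of_equiv mQ.symm hQ,
    (Nat.card_congr mQ.toEquiv).trans hQcard,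
    ⟨(((MulEquiv.subgroupCongr hFstar).trans (Subgroup.subgroupOfEquivOfLe hEC)).trans eQ).trans
      (MulEquiv.prodCongr (MulEquiv.refl _) mQ.symm)⟩⟩, ?_⟩
  obtain ⟨eM⟩ := MinusSix.minusSix_equiv_mulAut hF'2
  exact ⟨((QuotientGroup.quotientMulEquivOfEq hFstar).trans eC).trans eM.symm⟩

end Cfsg.Agent.S5519
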