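import Cfsg.Statements.S5521
import Cfsg.Agent.Lib.Golay.M24Group

set_option autoImplicit false
open Cfsg CfsgLib.Golay

namespace Cfsg.Agent.S5521

/-- The Mathieu group M₂₄ in its natural action on the 24 coordinate positions of the binary Golay code has minimal base size exactly 7: every set of at most 6 positions is fixed pointwise by some non-identity element of M₂₄, while some set of 7 positions is fixed pointwise only by the identity. -/
theorem result :
    (∀ B : Finset Cfsg.GolayPt, B.card ≤ 6 → ∃ g ∈ Cfsg.M24, g ≠ 1 ∧ ∀ b ∈ B, g b = b) ∧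
    (∃ B : Finset Cfsg.GolayPt, B.card = 7 ∧ ∀ g ∈ Cfsg.M24, (∀ b ∈ B, g b = b) → g = 1) := by
  refine ⟨fun B hB => ?_, ⟨basePts.toFinset, by decide +kernel, fun g hg h =>
    eq_one_of_fix_base hg fun b hb => h b (List.mem_toFinset.mpr hb)⟩⟩
  classical
  obtain ⟨L, q, hL, h5, hcov⟩ : ∃ (L : List GolayPt) (q : GolayPt), L.Nodup ∧ L.length ≤ 5 ∧
      ∀ b ∈ B, b ∈ L ∨ b = q := by
    rcases Nat.lt_or_ge B.card 6 with hlt | hge
    · exact ⟨B.toList, none, B.nodup_toList, by simp; omega, fun b hb => Or.inl (Finset.mem_toList.mpr hb)⟩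
    · obtain ⟨q, hq⟩ := Finset.card_pos.mp (by omega : 0 < B.card)
      refine ⟨(B.erase q).toList, q, Finset.nodup_toList _, ?_, fun b hb => ?_⟩
      · rw [Finset.length_toList, Finset.card_erase_of_mem hq]; omega
      · by_cases h : b = q
        · exact Or.inr h
        · exact Or.inl (Finset.mem_toList.mpr (Finset.mem_erase.mpr ⟨h, hb⟩))
  have hcard : 48 ≤ Nat.card (CfsgLib.Golay.fixPts L) := by
    rw [CfsgLib.Golay.natCard_fixPts hL h5]
    have := CfsgLib.Golay.natCard_stdStab ⟨L.length, by omega⟩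
    rw [this]
    clear this
    simp only
    generalize L.length = n at h5 ⊢
    interval_cases n <;> norm_num
  have : ¬ Function.Injective fun σ : ↥(CfsgLib.Golay.fixPts L) => (σ : Equiv.Perm GolayPt) q := by
    intro hinj
    have := Nat.card_le_card_of_injective _ hinj
    rw [Nat.card_eq_fintype_card (α := GolayPt), CfsgLib.Golay.card_golayPt] at this
    omega
  rw [Function.not_injective_iff] at this
  obtain ⟨σ, τ, heq, hne⟩ := this
  obtain ⟨h1, h2⟩ := CfsgLib.Golay.mem_fixPts.mp (mul_mem (inv_mem τ.2) σ.2)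
  refine ⟨_, h1, fun h => hne (Subtype.ext (inv_mul_eq_one.mp h).symm), fun b hb => ?_⟩
  rcases hcov b hb with h | rfl
  · exact h2 b h
  · simp [heq]

end Cfsg.Agent.S5521
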