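import Cfsg.Statements.S5522
import Cfsg.Agent.Lib.Golay.Mathieu
import Cfsg.Agent.Lib.GolayModule.Perms

set_option autoImplicit false
open Cfsg

namespace Cfsg.Agent.S5522

open CfsgLib.Golay CfsgLib.GolayModule
open scoped Pointwise

/-- The element fixing the first base point and swapping the next four in pairs, and itself. -/
def twoData : List ℕ × List ℕ :=
  ([1, 0, 3, 2, 4, 5, 9, 7, 15, 6, 10, 22, 12, 20, 14, 8, 19, 17, 21, 16, 13, 18, 11, 23],
   [1, 0, 3, 2, 4, 5, 9, 7, 15, 6, 10, 22, 12, 20, 14, 8, 19, 17, 21, 16, 13, 18, 11, 23])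

/-- The element fixing two base points and rotating the next three, and its inverse. -/
def threeData : List ℕ × List ℕ :=
  ([0, 2, 3, 1, 19, 5, 9, 8, 20, 11, 15, 6, 16, 10, 14, 13, 18, 17, 12, 21, 7, 4, 22, 23],
   [0, 3, 1, 2, 21, 5, 11, 20, 7, 6, 13, 9, 18, 15, 14, 10, 12, 17, 16, 4, 8, 19, 22, 23])

theorem twoData_ok : StabData 11472927 twoData := by unfold StabData; decide +kernel

theorem threeData_ok : StabData 11472927 threeData := by unfold StabData; decide +kernel

/-- An element agreeing on five points with a conjugate of a given one fixes a point outside. -/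
theorem fixes_outside {d : Finset GolayPt} (hd : d ∈ dodecads) {g : Equiv.Perm GolayPt} (hg : g ∈ M24)
    (hgd : g • d = d) {L : List GolayPt} (hL : L.Nodup) (h5 : L.length = 5) (hLd : ∀ p ∈ L, p ∈ d)
    {x : List ℕ × List ℕ} (hx : StabData 11472927 x) (idxs : List ℕ)
    (hidx : (basePos.take 5).map (fun b => x.1.getD b 0) = idxs.map (fun i => basePos.getD i 0))
    (hi : ∀ i ∈ idxs, i < 5)
    (hLg : L.map g = idxs.map (fun i => L.getD i none))
    (hq : x.1.getD 5 0 = 5) :
    ∃ p, p ∉ d ∧ g p = p := by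
  obtain ⟨τ, hτ, hτl, hτu⟩ := hx.exists_perm
  have hτd : τ • baseDodecad = baseDodecad := by
    apply encS_injective
    rw [encS_smul, baseDodecad, encS_decS (by norm_num), hτl, hτu]
  obtain ⟨a, ha, haL, had⟩ := exists_std hd L hL h5 hLd
  have hLi : ∀ i < 5, L.getD i none = a (basePts.getD i none) := by
    intro i hi
    have hlen : basePts.length = 7 := rfl
    rw [← haL, List.getD_eq_getElem _ _ (by rw [List.length_map, List.length_take, hlen]; omega),
      List.getElem_map, List.getElem_take, List.getD_eq_getElem _ _ (by rw [hlen]; omega)]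
  obtain ⟨σ, -, huniq⟩ := existsUnique_dodecad hd hL
    (L' := L.map g) (hL.map g.injective) h5 (by simp [h5]) hLd (fun p hp => by
      obtain ⟨r, hr, rfl⟩ := List.mem_map.mp hp
      rw [← hgd]; exact Finset.smul_mem_smul_finset (hLd r hr))
  have e1 : g = σ := huniq g ⟨hg, hgd, rfl⟩
  have e2 : a * τ * a⁻¹ = σ := by
    refine huniq _ ⟨mul_mem (mul_mem ha hτ) (inv_mem ha), ?_, ?_⟩
    · conv_lhs => rw [← had, mul_smul, mul_smul, inv_smul_smul, hτd, had]
    · rw [hLg]
      conv_lhs => rw [← haL, List.map_map]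
      have hcomp : ((a * τ * a⁻¹ : Equiv.Perm GolayPt) : GolayPt → GolayPt) ∘ a = fun p => a (τ p) := by
        funext p; simp
      rw [hcomp]
      have hval : (basePts.take 5).map (fun p => τ p) = idxs.map (fun i => basePts.getD i none) := by
        have hinj : Function.Injective fun p : GolayPt => (idx p).val := Fin.val_injective.comp idx_injective
        apply List.map_injective_iff.mpr hinj
        rw [List.map_map, List.map_map]
        calc (basePts.take 5).map ((fun p => (idx p).val) ∘ fun p => τ p)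
            = (basePts.take 5).map ((fun b => x.1.getD b 0) ∘ fun p => (idx p).val) := by
              refine List.map_congr_left fun p _ => ?_
              simp only [Function.comp_apply, ← hτl, toList_getD]
          _ = idxs.map (fun i => basePos.getD i 0) := by
              rw [← List.map_map, List.map_take, basePts_spec, hidx]
          _ = _ := List.map_congr_left fun i hii => by
              show _ = (idx (basePts.getD i none)).val
              rw [show basePts.getD i none = basePt i from rfl, idx_basePt (by linarith [hi i hii])]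
      rw [show (fun p => a (τ p)) = a ∘ (fun p => τ p) from rfl, ← List.map_map, hval, List.map_map]
      exact List.map_congr_left fun i hii => (hLi i (hi i hii)).symm
  have hq' : τ (pt 5) = pt 5 := by
    have h := toList_getD τ (pt 5)
    rw [hτl, idx_pt] at h
    exact idx_injective (Fin.ext (by rw [idx_pt]; exact h.symm.trans hq))
  refine ⟨a (pt 5), fun h => ?_, by rw [e1, ← e2]; simp [hq']⟩
  rw [← had, ← Equiv.Perm.smul_def, Finset.smul_mem_smul_finset_iff] at h
  revert h; unfold baseDodecad; decide +kernel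

theorem core {d : Finset GolayPt} (hd : d ∈ dodecads) {g : Equiv.Perm GolayPt} (hg : g ∈ M24)
    (hgd : g • d = d) {p0 : GolayPt} (hp0 : p0 ∈ d) (hg0 : g p0 = p0) (hord : (orderOf g).Prime) :
    ∃ x, x ∉ d ∧ g x = x := by
  classical
  by_contra hcon
  push Not at hcon
  have : Fact (orderOf g).Prime := ⟨hord⟩
  have hg1 : g ≠ 1 := fun h => Nat.not_prime_one (by rwa [h, orderOf_one] at hord)
  have hin : ∀ p, g p ∈ d ↔ p ∈ d := fun p => by
    conv_lhs => rw [← hgd, ← Equiv.Perm.smul_def]
    exact Finset.smul_mem_smul_finset_iff g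
  let go : Equiv.Perm {p // p ∉ d} := g.subtypePerm fun p => (hin p).not
  let gi : Equiv.Perm {p // p ∈ d} := g.subtypePerm hin
  have hgo : go ^ (orderOf g) ^ 1 = 1 := by
    rw [pow_one]; ext p
    simp only [go, Equiv.Perm.subtypePerm_pow, pow_orderOf_eq_one]; rfl
  have hgi : gi ^ (orderOf g) ^ 1 = 1 := by
    rw [pow_one]; ext p
    simp only [gi, Equiv.Perm.subtypePerm_pow, pow_orderOf_eq_one]; rfl
  have hmo := Equiv.Perm.card_compl_support_modEq hgo
  have hmi := Equiv.Perm.card_compl_support_modEq hgi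
  have hfo : go.supportᶜ.card = 0 := by
    rw [Finset.card_eq_zero, Finset.eq_empty_iff_forall_notMem]
    intro ⟨p, hp⟩ hpf
    rw [Finset.mem_compl, Equiv.Perm.notMem_support] at hpf
    exact hcon p hp (congrArg Subtype.val hpf)
  have hco : Fintype.card {p : GolayPt // p ∉ d} = 12 := by
    rw [Fintype.card_subtype_compl, Fintype.card_coe, card_golayPt, card_of_mem_dodecads hd]
  have hci : Fintype.card {p : GolayPt // p ∈ d} = 12 := by
    rw [Fintype.card_coe, card_of_mem_dodecads hd]
  set F := d.filter fun p => g p = p with hF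
  have hfi : gi.supportᶜ.card = F.card := by
    refine Finset.card_bij (fun p _ => p.1) ?_ (fun _ _ _ _ h => Subtype.ext h) ?_
    · intro p hp
      rw [Finset.mem_compl, Equiv.Perm.notMem_support] at hp
      exact Finset.mem_filter.mpr ⟨p.2, congrArg Subtype.val hp⟩
    · intro p hp
      refine ⟨⟨p, (Finset.mem_filter.mp hp).1⟩, ?_, rfl⟩
      rw [Finset.mem_compl, Equiv.Perm.notMem_support]
      exact Subtype.ext (Finset.mem_filter.mp hp).2
  rw [hfo, hco] at hmo
  rw [hfi, hci] at hmi
  have hdvd : orderOf g ∣ 12 := Nat.modEq_zero_iff_dvd.mp hmo.symm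
  have hFle : F.card ≤ 4 := by
    by_contra h
    obtain ⟨L, h1, h2, h3⟩ := exists_list_subset (n := 5) (s := F) (by omega)
    have hLd : ∀ p ∈ L, p ∈ d := fun p hp => (Finset.mem_filter.mp (h3 p hp)).1
    exact hg1 ((existsUnique_dodecad hd h1 h1 h2 h2 hLd hLd).unique
      ⟨hg, hgd, (List.map_congr_left fun p hp => (Finset.mem_filter.mp (h3 p hp)).2).trans (List.map_id L)⟩
      ⟨one_mem _, one_smul _ _, by simp⟩)
  have hF0 : p0 ∈ F := Finset.mem_filter.mpr ⟨hp0, hg0⟩
  have hcard : 8 ≤ (d \ F).card := by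
    have hsub : F ⊆ d := Finset.filter_subset _ _
    rw [Finset.card_sdiff_of_subset hsub, card_of_mem_dodecads hd]; omega
  have hmv : ∀ p ∈ d \ F, g p ≠ p ∧ g p ∈ d ∧ g (g p) ≠ g p := by
    intro p hp
    rw [Finset.mem_sdiff, hF, Finset.mem_filter] at hp
    have h1 : g p ≠ p := fun h => hp.2 ⟨hp.1, h⟩
    exact ⟨h1, (hin p).mpr hp.1, fun h => h1 (g.injective h)⟩
  obtain ⟨a, ha⟩ := Finset.card_pos.mp (by omega : 0 < (d \ F).card)
  obtain ⟨ha1, ha2, ha3⟩ := hmv a ha
  have had : a ∈ d := (Finset.mem_sdiff.mp ha).1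
  have h23 : orderOf g = 2 ∨ orderOf g = 3 := by
    rcases hord.dvd_mul.mp (show orderOf g ∣ 2 ^ 2 * 3 from hdvd) with h | h
    · exact Or.inl ((Nat.prime_dvd_prime_iff_eq hord Nat.prime_two).mp (hord.dvd_of_dvd_pow h))
    · exact Or.inr ((Nat.prime_dvd_prime_iff_eq hord Nat.prime_three).mp h)
  rcases h23 with h | h <;> rw [h] at hmi
  · have hgg : ∀ p, g (g p) = p := fun p => by
      have := pow_orderOf_eq_one g; rw [h, pow_two] at this
      exact Equiv.Perm.ext_iff.mp this p
    obtain ⟨c, hc, hca⟩ : ∃ c ∈ d \ F, c ∉ ({a, g a} : Finset GolayPt) := Finset.exists_mem_notMem_of_card_lt_card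
      (lt_of_le_of_lt Finset.card_le_two (by omega))
    obtain ⟨hc1, hc2, -⟩ := hmv c hc
    simp only [Finset.mem_insert, Finset.mem_singleton, not_or] at hca
    have hne0 : ∀ q, q ∈ d \ F → p0 ≠ q ∧ p0 ≠ g q := by
      intro q hq
      refine ⟨fun e => (Finset.mem_sdiff.mp hq).2 (e ▸ hF0), fun e => ?_⟩
      exact (hmv q hq).2.2 (by rw [← e, hg0])
    obtain ⟨x, hx, hxf⟩ := fixes_outside hd hg hgd (L := [p0, a, g a, c, g c])
      (by
        have h1 : g a ≠ g c := fun e => hca.1 (g.injective e).symm
        have h2 : a ≠ g c := fun e => hca.2 (by rw [e, hgg])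
        simp [hne0 a ha, hne0 c hc, Ne.symm ha1, Ne.symm hca.1, h1, h2, Ne.symm hca.2, Ne.symm hc1])
      rfl (by simp [hp0, had, ha2, (Finset.mem_sdiff.mp hc).1, hc2]) twoData_ok [0, 2, 1, 4, 3]
      (by decide) (by decide) (by simp [hg0, hgg]) (by decide)
    exact hcon x hx hxf
  · have hg3 : ∀ p, g (g (g p)) = p := fun p => by
      have := pow_orderOf_eq_one g; rw [h, pow_three] at this
      exact Equiv.Perm.ext_iff.mp this p
    have hF3 : F.card = 3 := by
      have := Finset.card_pos.mpr ⟨p0, hF0⟩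
      unfold Nat.ModEq at hmi; omega
    obtain ⟨q, hq, hq0⟩ := Finset.exists_mem_notMem_of_card_lt_card
      (s := ({p0} : Finset GolayPt)) (t := F) (by simp [hF3])
    rw [Finset.mem_singleton] at hq0
    have hqf : g q = q := (Finset.mem_filter.mp hq).2
    have hne : ∀ r, g r = r → r ≠ a ∧ r ≠ g a ∧ r ≠ g (g a) := by
      intro r hr
      refine ⟨fun e => ha1 (e ▸ hr), fun e => ?_, fun e => ?_⟩
      · exact ha3 (e ▸ hr)
      · have e2 : r = a := by rw [← hr, e, hg3]
        exact ha1 (e2 ▸ hr)
    have h13 : a ≠ g (g a) := fun e => ha1 (by conv_rhs => rw [← hg3 a, ← e])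
    obtain ⟨x, hx, hxf⟩ := fixes_outside hd hg hgd (L := [p0, q, a, g a, g (g a)])
      (by simp [hne p0 hg0, hne q hqf, Ne.symm hq0, Ne.symm ha1, h13, Ne.symm ha3])
      rfl (by simp [hp0, (Finset.mem_filter.mp hq).1, had, ha2, (hin _).mpr ha2]) threeData_ok [0, 1, 3, 4, 2]
      (by decide) (by decide) (by simp [hg0, hqf, hg3]) (by decide)
    exact hcon x hx hxf

/-- The Mathieu group M₁₁, realised as the stabiliser of one point of the dodecad of squares inside the stabiliser M₁₂ of that dodecad in M₂₄, acts on the twelve coordinate positions outside the dodecad of squares (its 3-transitive action of degree 12); in this action every element of prime order fixes a point, i.e. the action is elusive. -/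
theorem result (g : Equiv.Perm Cfsg.GolayPt) (hg : g ∈ Cfsg.Spor.M11) (hord : (orderOf g).Prime) :
    ∃ x : Cfsg.GolayPt, x ∉ Cfsg.Spor.squareDodecad ∧ g x = x := by
  obtain ⟨⟨h24, hd⟩, h0⟩ := hg
  exact core CfsgLib.Golay.squareDodecad_mem h24 hd CfsgLib.Golay.some_zero_mem_squareDodecad h0 hord

end Cfsg.Agent.S5522
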