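import Cfsg.Statements.S5529
import Cfsg.Agent.Lib.M23Triples.Check
import Cfsg.Agent.Lib.M23Triples.Cycles

set_option autoImplicit false
open Cfsg

namespace Cfsg.Agent.S5529

open CfsgLib.M23Triples

theorem primes_of_dvd {p : ℕ} (hp : p.Prime) (h : p ∣ 10200960) : p ∈ [2, 3, 5, 7, 11, 23] := by
  have h' : p ∣ 2 ^ 7 * 3 ^ 2 * 5 * 7 * 11 * 23 := h
  rcases hp.dvd_mul.mp h' with h1 | h1
  rcases hp.dvd_mul.mp h1 with h2 | h2
  rcases hp.dvd_mul.mp h2 with h3 | h3
  rcases hp.dvd_mul.mp h3 with h4 | h4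
  rcases hp.dvd_mul.mp h4 with h5 | h5
  · have := (Nat.prime_dvd_prime_iff_eq hp Nat.prime_two).mp (hp.dvd_of_dvd_pow h5); simp [this]
  · have := (Nat.prime_dvd_prime_iff_eq hp Nat.prime_three).mp (hp.dvd_of_dvd_pow h5); simp [this]
  · have := (Nat.prime_dvd_prime_iff_eq hp (by norm_num)).mp h4; simp [this]
  · have := (Nat.prime_dvd_prime_iff_eq hp (by norm_num)).mp h3; simp [this]
  · have := (Nat.prime_dvd_prime_iff_eq hp (by norm_num)).mp h2; simp [this]
  · have := (Nat.prime_dvd_prime_iff_eq hp (by norm_num)).mp h1; simp [this]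

/-- Generation of the Mathieu group M₂₃ (the stabiliser of a point in the Mathieu group M₂₄ acting on 24 points) by triples of prime orders. Let p ≤ q ≤ r be primes dividing |M₂₃| = 10200960 = 2⁷·3²·5·7·11·23, not both p and q equal to 2. Then M₂₃ contains elements x, y, z of orders p, q, r with xyz = 1 and ⟨x, y⟩ = M₂₃ if and only if (p, q, r) is none of: (2, 3, r) for any r, (2, 5, 5), (2, 5, 7), (3, 3, 3), (3, 3, 5), (3, 3, 7). -/
theorem result (p q r : ℕ) (hp : p.Prime) (hq : q.Prime)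
    (hr : r.Prime) (hpq : p ≤ q) (hqr : q ≤ r) (hp2 : ¬ (p = 2 ∧ q = 2))
    (hdvd : p ∣ 10200960 ∧ q ∣ 10200960 ∧ r ∣ 10200960) :
    (∃ x y z : Cfsg.Spor.M23, orderOf x = p ∧ orderOf y = q ∧ orderOf z = r ∧ x * y * z = 1 ∧
        Subgroup.closure {x, y} = ⊤) ↔
      ¬ ((p = 2 ∧ q = 3) ∨ (p = 2 ∧ q = 5 ∧ r = 5) ∨ (p = 2 ∧ q = 5 ∧ r = 7) ∨ (p = 3 ∧ q = 3 ∧ r ≤ 7)) := by
  have mp := primes_of_dvd hp hdvd.1
  have mq := primes_of_dvd hq hdvd.2.1
  have mr := primes_of_dvd hr hdvd.2.2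
  constructor
  · rintro ⟨x, y, z, hx, hy, hz, hxyz, hgen⟩ hex
    have htr : ∀ a b, ∃ g ∈ Subgroup.closure ({act23 x, act23 y} : Set (Equiv.Perm Pt23)), g a = b := by
      intro a b
      obtain ⟨σ, hσ⟩ := act23_transitive a b
      refine ⟨act23 σ, ?_, hσ⟩
      rw [← Set.image_pair, ← MonoidHom.map_closure, hgen]
      exact Subgroup.mem_map_of_mem _ (Subgroup.mem_top σ)
    have h := scott (act23 x) (act23 y) (act23 z) (by rw [← map_mul, ← map_mul, hxyz, map_one]) htr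
    rw [card_pt23] at h
    obtain ⟨x1, x2, x3, -, -⟩ := norb_bound x hp hx
    obtain ⟨y1, y2, y3, y5, -⟩ := norb_bound y hq hy
    obtain ⟨z1, z2, z3, z5, z7⟩ := norb_bound z hr hz
    rcases hex with ⟨rfl, rfl⟩ | ⟨rfl, rfl, rfl⟩ | ⟨rfl, rfl, rfl⟩ | ⟨rfl, rfl, h7⟩
    · have := x2 rfl; have := y3 rfl; omega
    · have := x2 rfl; have := y5 rfl; have := z5 rfl; omega
    · have := x2 rfl; have := y5 rfl; have := z7 rfl; omega
    · have := x3 rfl; have := y3 rfl
      simp only [List.mem_cons, List.not_mem_nil, or_false] at mr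
      rcases mr with rfl | rfl | rfl | rfl | rfl | rfl <;> first
        | omega
        | (have := z3 rfl; omega)
        | (have := z5 rfl; omega)
        | (have := z7 rfl; omega)
  · intro hex
    obtain ⟨c, hc, hpqr⟩ := covered p mp q mq r mr hpq hqr hp2 hex
    obtain ⟨hm, hok⟩ := cert_facts hc
    have h := of_cert hm hok (by rw [hpqr]; exact hp) (by rw [hpqr]; exact hq) (by rw [hpqr]; exact hr)
    rw [hpqr] at h
    exact h

end Cfsg.Agent.S5529
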