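import Cfsg.Statements.S5541
-- import your own Cfsg.Agent.* helpers here

set_option autoImplicit false
open Cfsg

namespace Cfsg.Agent.S5541

/-- Let ρ be a representation of a group H on a finite-dimensional real vector space U whose only ρ-invariant subspaces are the zero subspace and U, and suppose U carries a non-zero ρ-invariant symmetric bilinear form. Then the following are equivalent: (1) there is a non-zero ρ-equivariant commutative bilinear product on U of which every ρ-equivariant bilinear product is a scalar multiple; (2) there is a non-zero ρ-invariant trilinear form on U that is symmetric under all permutations of its arguments and of which every ρ-invariant trilinear form is a scalar multiple. -/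
theorem result {H : Type*} [Group H] {U : Type*} [AddCommGroup U] [Module ℝ U] [FiniteDimensional ℝ U] (ρ : Representation ℝ H U) (hirr : ∀ W : Submodule ℝ U, (∀ g : H, W.map (ρ g) ≤ W) → W = ⊥ ∨ W = ⊤) (B : LinearMap.BilinForm ℝ U) (hB0 : B ≠ 0) (hBs : ∀ u v, B u v = B v u) (hBi : ∀ (g : H) (u v : U), B (ρ g u) (ρ g v) = B u v) : (∃ m : U →ₗ[ℝ] U →ₗ[ℝ] U, m ≠ 0 ∧ (∀ u v, m u v = m v u) ∧ (∀ (g : H) (u v : U), m (ρ g u) (ρ g v) = ρ g (m u v)) ∧ ∀ m' : U →ₗ[ℝ] U →ₗ[ℝ] U, (∀ (g : H) (u v : U), m' (ρ g u) (ρ g v) = ρ g (m' u v)) → ∃ c : ℝ, m' = c • m) ↔ (∃ t : U →ₗ[ℝ] U →ₗ[ℝ] U →ₗ[ℝ] ℝ, t ≠ 0 ∧ (∀ u v w, t u v w = t v u w ∧ t u v w = t u w v) ∧ (∀ (g : H) (u v w : U), t (ρ g u) (ρ g v) (ρ g w) = t u v w) ∧ ∀ t' : U →ₗ[ℝ] U →ₗ[ℝ] U →ₗ[ℝ] ℝ, (∀ (g : H) (u v w : U), t' (ρ g u) (ρ g v) (ρ g w) = t' u v w) → ∃ c : ℝ, t' = c • t) := by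
  have hker : LinearMap.ker B = ⊥ := by
    rcases hirr (LinearMap.ker B) (by
      rintro g _ ⟨u, hu, rfl⟩
      rw [LinearMap.mem_ker]
      ext v
      have h := hBi g u (ρ g⁻¹ v)
      rw [LinearMap.mem_ker.mp hu] at h
      simpa using h) with h | h
    · exact h
    · exact absurd (LinearMap.ker_eq_top.mp h) hB0
  have hinj : Function.Injective B := LinearMap.ker_eq_bot.mp hker
  let Φ : U ≃ₗ[ℝ] Module.Dual ℝ U :=
    B.linearEquivOfInjective hinj (Subspace.dual_finrank_eq).symm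
  have hΦ : ∀ u v, Φ u v = B u v := fun u v => rfl
  -- from products to forms
  let toT : (U →ₗ[ℝ] U →ₗ[ℝ] U) → (U →ₗ[ℝ] U →ₗ[ℝ] U →ₗ[ℝ] ℝ) := fun m => m.compr₂ Φ.toLinearMap
  let toM : (U →ₗ[ℝ] U →ₗ[ℝ] U →ₗ[ℝ] ℝ) → (U →ₗ[ℝ] U →ₗ[ℝ] U) := fun t => t.compr₂ Φ.symm.toLinearMap
  have hT : ∀ m u v w, toT m u v w = B (m u v) w := fun m u v w => rfl
  have hM : ∀ t u v w, B (toM t u v) w = t u v w := by
    intro t u v w
    show B (Φ.symm (t u v)) w = _
    rw [← hΦ, LinearEquiv.apply_symm_apply]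
  have hinvT : ∀ m : U →ₗ[ℝ] U →ₗ[ℝ] U,
      (∀ (g : H) (u v : U), m (ρ g u) (ρ g v) = ρ g (m u v)) →
      ∀ (g : H) (u v w : U), toT m (ρ g u) (ρ g v) (ρ g w) = toT m u v w := by
    intro m hm g u v w; rw [hT, hT, hm, hBi]
  have hρ : ∀ (g : H) (w : U), ρ g (ρ g⁻¹ w) = w := by intro g w; simp
  have hinvM : ∀ t : U →ₗ[ℝ] U →ₗ[ℝ] U →ₗ[ℝ] ℝ,
      (∀ (g : H) (u v w : U), t (ρ g u) (ρ g v) (ρ g w) = t u v w) →
      ∀ (g : H) (u v : U), toM t (ρ g u) (ρ g v) = ρ g (toM t u v) := by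
    intro t ht g u v
    apply hinj
    ext w
    calc B (toM t (ρ g u) (ρ g v)) w = t (ρ g u) (ρ g v) (ρ g (ρ g⁻¹ w)) := by rw [hM, hρ]
      _ = B (toM t u v) (ρ g⁻¹ w) := by rw [ht, hM]
      _ = B (ρ g (toM t u v)) (ρ g (ρ g⁻¹ w)) := by rw [hBi]
      _ = B (ρ g (toM t u v)) w := by rw [hρ]
  constructor
  · rintro ⟨m, hm0, hms, hmi, hmu⟩
    have hti := hinvT m hmi
    obtain ⟨u₀, v₀, w₀, h0⟩ : ∃ u v w, toT m u v w ≠ 0 := by
      by_contra hcon
      push_neg at hcon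
      apply hm0
      ext u v
      apply hinj
      ext w
      simpa [hT] using hcon u v w
    have h12 : ∀ u v w, toT m u v w = toT m v u w := by intro u v w; rw [hT, hT, hms]
    let m' : U →ₗ[ℝ] U →ₗ[ℝ] U :=
      toM (LinearMap.mk₂ ℝ (fun u v => ((toT m u).flip v))
        (fun a b v => by ext w; simp) (fun c a v => by ext w; simp)
        (fun u a b => by ext w; simp) (fun c u a => by ext w; simp))
    have hm' : ∀ u v w, B (m' u v) w = toT m u w v := by
      intro u v w; show B (toM _ u v) w = _; rw [hM]; rfl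
    obtain ⟨c, hc⟩ := hmu m' (by
      intro g u v
      apply hinj
      ext w
      calc B (m' (ρ g u) (ρ g v)) w = toT m (ρ g u) (ρ g (ρ g⁻¹ w)) (ρ g v) := by rw [hm', hρ]
        _ = B (m' u v) (ρ g⁻¹ w) := by rw [hti, hm']
        _ = B (ρ g (m' u v)) (ρ g (ρ g⁻¹ w)) := by rw [hBi]
        _ = B (ρ g (m' u v)) w := by rw [hρ])
    have hc' : ∀ u v w, toT m u w v = c * toT m u v w := by
      intro u v w
      rw [← hm', hc, hT]; simp
    have hc1 : c = 1 := by
      have hcc : c * c = 1 := by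
        have := hc' u₀ w₀ v₀
        rw [hc' u₀ v₀ w₀] at this
        have h2 : (c * c - 1) * toT m u₀ v₀ w₀ = 0 := by linarith
        rcases mul_eq_zero.mp h2 with h | h
        · linarith
        · exact absurd h h0
      rcases mul_self_eq_one_iff.mp hcc with h | h
      · exact h
      · exfalso; apply h0
        have a1 := hc' u₀ v₀ w₀
        have a2 := h12 u₀ w₀ v₀
        have a3 := hc' w₀ v₀ u₀
        have a4 := h12 v₀ w₀ u₀
        have a5 := hc' v₀ u₀ w₀
        have a6 := h12 u₀ v₀ w₀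
        subst h
        linarith
    refine ⟨toT m, fun h => h0 (by rw [h]; rfl), fun u v w => ⟨h12 u v w, ?_⟩, hti, ?_⟩
    · rw [hc' u v w, hc1, one_mul]
    · intro t' ht'
      obtain ⟨c', hc''⟩ := hmu (toM t') (hinvM t' ht')
      refine ⟨c', ?_⟩
      ext u v w
      rw [← hM t' u v w, hc'']; simp [hT]
  · rintro ⟨t, ht0, hts, hti, htu⟩
    refine ⟨toM t, ?_, ?_, hinvM t hti, ?_⟩
    · intro h; apply ht0
      ext u v w
      rw [← hM t u v w, h]; simp
    · intro u v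
      apply hinj
      ext w
      rw [hM, hM, (hts u v w).1]
    · intro m' hm'
      obtain ⟨c, hc⟩ := htu (toT m') (hinvT m' hm')
      refine ⟨c, ?_⟩
      ext u v
      apply hinj
      ext w
      rw [← hT, hc]
      simp [hM]

end Cfsg.Agent.S5541
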