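import Cfsg.Statements.S5543
import Cfsg.Agent.Lib.Majorana.Basic

set_option autoImplicit false
open Cfsg

namespace Cfsg.Agent.S5543

/-- Let V be a finite-dimensional real vector space with a commutative bilinear product and a positive-definite symmetric bilinear form that associates with the product and satisfies the Norton inequality (the Majorana setting of the definitions). Let X be a group of linear automorphisms of V in which every element squares to the identity, and suppose every non-identity element x of X is a Majorana involution with an axial vector a(x) of squared length 1, such that for any two distinct non-identity x, y the product a(x) ∘ a(y) equals (1/8)(a(x) + a(y) − a(xy)) (the dihedral subalgebra of type 2A whose third axis belongs to the involution xy). Then X has order at most 4. -/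
theorem result {V : Type*} [AddCommGroup V] [Module ℝ V] [FiniteDimensional ℝ V] (mul : V →ₗ[ℝ] V →ₗ[ℝ] V) (B : LinearMap.BilinForm ℝ V) (hV : Cfsg.Axial.IsMajoranaAmbient mul B) (X : Subgroup (V ≃ₗ[ℝ] V)) (hX : ∀ x ∈ X, x * x = 1) (ax : (V ≃ₗ[ℝ] V) → V) (hax : ∀ x ∈ X, x ≠ 1 → Cfsg.Axial.IsMajoranaPair mul B x (ax x)) (h1 : ∀ x ∈ X, x ≠ 1 → B (ax x) (ax x) = 1) (h2A : ∀ x ∈ X, ∀ y ∈ X, x ≠ 1 → y ≠ 1 → x ≠ y → mul (ax x) (ax y) = (1 / 8 : ℝ) • (ax x + ax y - ax (x * y))) : Nat.card ↥X ≤ 4 := by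
  by_contra hcard
  push Not at hcard
  haveI : Finite ↥X := Nat.finite_of_card_ne_zero (by omega)
  haveI := Fintype.ofFinite ↥X
  classical
  have hcomm : ∀ u ∈ X, ∀ v ∈ X, u * v = v * u := by
    intro u hu v hv
    have hi : ∀ w ∈ X, w⁻¹ = w := fun w hw => inv_eq_of_mul_eq_one_right (hX w hw)
    have h3 := hi (u * v) (X.mul_mem hu hv)
    rw [mul_inv_rev, hi u hu, hi v hv] at h3
    exact h3.symm
  have hsq : ∀ u ∈ X, ∀ w, u * (u * w) = w := by
    intro u hu w; rw [← mul_assoc, hX u hu, one_mul]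
  obtain ⟨x, hx, hx1⟩ : ∃ x ∈ X, x ≠ 1 := by
    by_contra hc; push Not at hc
    have : (Finset.univ : Finset ↥X) ⊆ {1} := fun a _ =>
      Finset.mem_singleton.mpr (Subtype.ext (hc a a.2))
    have := Finset.card_le_card this
    rw [Finset.card_univ, Finset.card_singleton, ← Nat.card_eq_fintype_card] at this
    omega
  obtain ⟨y, hy, hy1, hyx⟩ : ∃ y ∈ X, y ≠ 1 ∧ y ≠ x := by
    by_contra hc; push Not at hc
    have : (Finset.univ : Finset ↥X) ⊆ {1, ⟨x, hx⟩} := by
      intro a _
      by_cases h : (a : V ≃ₗ[ℝ] V) = 1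
      · simp [Subtype.ext_iff, h]
      · simp [Subtype.ext_iff, hc a a.2 h]
    have := Finset.card_le_card this
    rw [Finset.card_univ, ← Nat.card_eq_fintype_card] at this
    have := this.trans Finset.card_le_two
    omega
  obtain ⟨z, hz, hz1, hzx, hzy, hzxy⟩ : ∃ z ∈ X, z ≠ 1 ∧ z ≠ x ∧ z ≠ y ∧ z ≠ x * y := by
    by_contra hc; push Not at hc
    have : (Finset.univ : Finset ↥X) ⊆ {1, ⟨x, hx⟩, ⟨y, hy⟩, ⟨x * y, X.mul_mem hx hy⟩} := by
      intro a _
      by_cases h : (a : V ≃ₗ[ℝ] V) = 1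
      · simp [Subtype.ext_iff, h]
      by_cases h2 : (a : V ≃ₗ[ℝ] V) = x
      · simp [Subtype.ext_iff, h2]
      by_cases h3 : (a : V ≃ₗ[ℝ] V) = y
      · simp [Subtype.ext_iff, h3]
      · simp [Subtype.ext_iff, hc a a.2 h h2 h3]
    have := Finset.card_le_card this
    rw [Finset.card_univ, ← Nat.card_eq_fintype_card] at this
    have := this.trans Finset.card_le_four
    omega
  -- membership and distinctness
  have hxy := X.mul_mem hx hy
  have hxz := X.mul_mem hx hz
  have hyz := X.mul_mem hy hz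
  have hxyz := X.mul_mem hx hyz
  have cancel : ∀ u ∈ X, ∀ v w, u * v = w → v = u * w := by
    intro u hu v w h; rw [← h, hsq u hu]
  have xy1 : x * y ≠ 1 := fun h => hyx (by rw [cancel x hx _ _ h, mul_one])
  have xz1 : x * z ≠ 1 := fun h => hzx (by rw [cancel x hx _ _ h, mul_one])
  have yz1 : y * z ≠ 1 := fun h => hzy (by rw [cancel y hy _ _ h, mul_one])
  have xyz1 : x * (y * z) ≠ 1 := by
    intro h
    have h2 := cancel x hx _ _ h
    rw [mul_one] at h2
    exact hzxy (by rw [cancel y hy _ _ h2, hcomm y hy x hx])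
  have y_xz : y ≠ x * z := fun h => hzxy (cancel x hx _ _ h.symm)
  have xy_z : x * y ≠ z := fun h => hzxy h.symm
  have xy_xz : x * y ≠ x * z := fun h => hzy (mul_left_cancel h).symm
  have x_xy : x ≠ x * y := fun h => hy1 (mul_left_cancel (h.symm.trans (mul_one x).symm))
  have x_xz : x ≠ x * z := fun h => hz1 (mul_left_cancel (h.symm.trans (mul_one x).symm))
  have p1 : y * (x * z) = x * (y * z) := by rw [← mul_assoc, hcomm y hy x hx, mul_assoc]
  have p2 : x * y * z = x * (y * z) := mul_assoc _ _ _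
  have p3 : x * y * (x * z) = y * z := by
    rw [mul_assoc, p1, hsq x hx]
  have p4 : x * (x * y) = y := hsq x hx y
  have p5 : x * (x * z) = z := hsq x hx z
  have hP := hax x hx hx1
  set A := ax x with hA
  -- the two 1/4-eigenvectors
  have qy : mul A (ax y - ax (x * y)) = (1 / 4 : ℝ) • (ax y - ax (x * y)) := by
    rw [map_sub, h2A x hx y hy hx1 hy1 (Ne.symm hyx), h2A x hx _ hxy hx1 xy1 x_xy, p4]
    module
  have qz : mul A (ax z - ax (x * z)) = (1 / 4 : ℝ) • (ax z - ax (x * z)) := by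
    rw [map_sub, h2A x hx z hz hx1 hz1 (Ne.symm hzx), h2A x hx _ hxz hx1 xz1 x_xz, p5]
    module
  have hw := CfsgLib.Majorana.mul_quarter_quarter hP qy qz
  have key : mul (ax y - ax (x * y)) (ax z - ax (x * z))
      = (1 / 4 : ℝ) • (ax (x * (y * z)) - ax (y * z)) := by
    simp only [map_sub, LinearMap.sub_apply]
    rw [h2A y hy z hz hy1 hz1 (Ne.symm hzy), h2A y hy _ hxz hy1 xz1 y_xz,
      h2A _ hxy z hz xy1 hz1 xy_z, h2A _ hxy _ hxz xy1 xz1 xy_xz, p1, p2, p3]
    module
  have x_yz : x ≠ y * z := fun h => hzxy (by rw [cancel y hy _ _ h.symm, hcomm y hy x hx])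
  have x_xyz : x ≠ x * (y * z) := fun h => yz1 (mul_left_cancel (h.symm.trans (mul_one x).symm))
  have q3 : mul A (ax (x * (y * z)) - ax (y * z))
      = (1 / 4 : ℝ) • (ax (x * (y * z)) - ax (y * z)) := by
    rw [map_sub, h2A x hx _ hxyz hx1 xyz1 x_xyz, h2A x hx _ hyz hx1 yz1 x_yz, hsq x hx (y * z)]
    module
  rw [key, map_smul, q3, map_smul, map_smul, q3, smul_smul, smul_smul, smul_smul] at hw
  have heq : ax (x * (y * z)) = ax (y * z) := by
    have h0 : ((1 / 4 * (1 / 4) * (1 / 4) - 1 / 4 * (1 / 4)) : ℝ) •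
        (ax (x * (y * z)) - ax (y * z)) = 0 := by rw [sub_smul, sub_eq_zero]; exact hw
    rcases smul_eq_zero.mp h0 with h | h
    · norm_num at h
    · exact sub_eq_zero.mp h
  have hne : x * (y * z) ≠ y * z := fun h => hx1 (mul_right_cancel (h.trans (one_mul _).symm))
  have hP' := hax _ hyz yz1
  have h4 := h2A _ hxyz _ hyz xyz1 yz1 hne
  have hm : x * (y * z) * (y * z) = x := by rw [mul_assoc, hX _ hyz, mul_one]
  rw [heq, CfsgLib.Majorana.axis_idem hP', hm] at h4
  have h5 : A = (-6 : ℝ) • ax (y * z) := by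
    rw [show (-6 : ℝ) • ax (y * z) = (2 : ℝ) • ax (y * z) - (8 : ℝ) • ax (y * z) by module]
    nth_rewrite 2 [h4]
    module
  have h6 := CfsgLib.Majorana.axis_idem hP
  rw [h5] at h6
  simp only [map_smul, LinearMap.smul_apply, CfsgLib.Majorana.axis_idem hP', smul_smul] at h6
  have h7 : ((-6 : ℝ) * (-6) - (-6)) • ax (y * z) = 0 := by rw [sub_smul, sub_eq_zero]; exact h6
  rcases smul_eq_zero.mp h7 with h | h
  · norm_num at h
  · exact CfsgLib.Majorana.axis_ne_zero hP' h

end Cfsg.Agent.S5543
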