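import Cfsg.Statements.S5544
import Cfsg.Agent.Lib.Majorana.Basic
import Cfsg.Agent.Lib.Majorana.Dihedral
import Cfsg.Agent.Lib.Majorana.SakumaValues

set_option autoImplicit false
open Cfsg

namespace Cfsg.Agent.S5544

/-- Let V be a finite-dimensional real vector space with a commutative bilinear product and a positive-definite symmetric bilinear form that associates with the product and satisfies the Norton inequality (the Majorana setting of the definitions). Let μ₀ and μ₁ be Majorana involutions with axial vectors a₀ and a₁ of squared length 1, each involution having no other axial vector. Then the product μ₀μ₁ has order at most 6: some power (μ₀μ₁)^n with 1 ≤ n ≤ 6 is the identity (so the two involutions generate a dihedral group of order at most 12). This is the 6-transposition property of Majorana involutions. -/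
theorem result {V : Type*} [AddCommGroup V] [Module ℝ V] [FiniteDimensional ℝ V] (mul : V →ₗ[ℝ] V →ₗ[ℝ] V) (B : LinearMap.BilinForm ℝ V) (hV : Cfsg.Axial.IsMajoranaAmbient mul B) (μ₀ μ₁ : V ≃ₗ[ℝ] V) (a₀ a₁ : V) (h₀ : Cfsg.Axial.IsMajoranaPair mul B μ₀ a₀) (h₁ : Cfsg.Axial.IsMajoranaPair mul B μ₁ a₁) (hu₀ : ∀ a : V, Cfsg.Axial.IsMajoranaPair mul B μ₀ a → a = a₀) (hu₁ : ∀ a : V, Cfsg.Axial.IsMajoranaPair mul B μ₁ a → a = a₁) (hn₀ : B a₀ a₀ = 1) (hn₁ : B a₁ a₁ = 1) : ∃ n : ℕ, 1 ≤ n ∧ n ≤ 6 ∧ (μ₀ * μ₁) ^ n = 1 := by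
  have i0 : μ₀⁻¹ = μ₀ := inv_eq_of_mul_eq_one_right (LinearEquiv.ext fun v =>
    CfsgLib.Majorana.invol_apply h₀ v)
  have i1 : μ₁⁻¹ = μ₁ := inv_eq_of_mul_eq_one_right (LinearEquiv.ext fun v =>
    CfsgLib.Majorana.invol_apply h₁ v)
  set r : V ≃ₗ[ℝ] V := μ₁ * μ₀ with hr
  have hm : μ₀ * r = r⁻¹ * μ₀ := by
    rw [hr, mul_inv_rev, i0, i1, ← mul_assoc]
  have hpow : ∀ k : ℤ, μ₀ * r ^ k = r ^ (-k) * μ₀ := by
    intro k
    have hsc : SemiconjBy μ₀ (r ^ k) (r⁻¹ ^ k) := SemiconjBy.zpow_right hm k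
    rw [zpow_neg, ← inv_zpow]; exact hsc
  have hauto : ∀ k : ℤ, (∀ u v : V, (r ^ k) (mul u v) = mul ((r ^ k) u) ((r ^ k) v)) ∧
      ∀ u v : V, B ((r ^ k) u) ((r ^ k) v) = B u v := by
    let A : Subgroup (V ≃ₗ[ℝ] V) :=
      { carrier := {f | (∀ u v : V, f (mul u v) = mul (f u) (f v)) ∧ ∀ u v : V, B (f u) (f v) = B u v}
        one_mem' := ⟨fun _ _ => rfl, fun _ _ => rfl⟩
        mul_mem' := fun {f g} hf hg => ⟨fun u v => by
            show f (g (mul u v)) = mul (f (g u)) (f (g v))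
            rw [hg.1, hf.1], fun u v => by
            show B (f (g u)) (f (g v)) = B u v
            rw [hf.2, hg.2]⟩
        inv_mem' := fun {f} hf => ⟨fun u v => by
            apply f.injective
            rw [hf.1]
            show f (f.symm (mul u v)) = mul (f (f.symm u)) (f (f.symm v))
            simp, fun u v => by
            rw [← hf.2]
            show B (f (f.symm u)) (f (f.symm v)) = B u v
            simp⟩ }
    intro k
    exact A.zpow_mem (A.mul_mem (x := μ₁) (y := μ₀) ⟨h₁.1, h₁.2.1⟩ ⟨h₀.1, h₀.2.1⟩) k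
  let ax : ℤ → V := fun n => if Even n then (r ^ (n / 2)) a₀ else (r ^ (n / 2)) a₁
  have haxe : ∀ k : ℤ, ax (2 * k) = (r ^ k) a₀ := fun k => by
    simp only [ax, if_pos (even_two_mul k)]
    rw [Int.mul_ediv_cancel_left _ two_ne_zero]
  have haxo : ∀ k : ℤ, ax (2 * k + 1) = (r ^ k) a₁ := fun k => by
    have hne : ¬ Even (2 * k + 1) := by simp [parity_simps]
    simp only [ax, if_neg hne]
    rw [show (2 * k + 1) / 2 = k by omega]
  have hshift : ∀ j k : ℤ, (r ^ k) (ax j) = ax (j + 2 * k) := by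
    intro j k
    rcases Int.even_or_odd' j with ⟨i, rfl | rfl⟩
    · rw [haxe, show 2 * i + 2 * k = 2 * (i + k) by ring, haxe, add_comm i k, zpow_add]; rfl
    · rw [haxo, show 2 * i + 1 + 2 * k = 2 * (i + k) + 1 by ring, haxo, add_comm i k, zpow_add]
      rfl
  have hflip : ∀ j : ℤ, μ₀ (ax j) = ax (-j) := by
    intro j
    rcases Int.even_or_odd' j with ⟨i, rfl | rfl⟩
    · rw [haxe, show -(2 * i) = 2 * (-i) by ring, haxe]
      show (μ₀ * r ^ i) a₀ = _
      rw [hpow]
      show (r ^ (-i)) (μ₀ a₀) = _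
      rw [CfsgLib.Majorana.axis_fixed h₀]
    · rw [haxo, show -(2 * i + 1) = 2 * (-i - 1) + 1 by ring, haxo]
      show (μ₀ * r ^ i) a₁ = _
      rw [hpow, show -i - 1 = -i + -1 by ring, zpow_add, zpow_neg_one]
      show (r ^ (-i)) (μ₀ a₁) = (r ^ (-i)) (r⁻¹ a₁)
      congr 1
      rw [hr, mul_inv_rev, i0, i1]
      show μ₀ a₁ = μ₀ (μ₁ a₁)
      rw [CfsgLib.Majorana.axis_fixed h₁]
  let D : CfsgLib.Majorana.Dihedral mul B :=
    { a := ax
      τ := fun n => r ^ n * μ₀
      pair := by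
        intro n
        rcases Int.even_or_odd' n with ⟨k, rfl | rfl⟩
        · have h := CfsgLib.Majorana.conj_pair (r ^ k) (hauto k).1 (hauto k).2 h₀
          rw [← haxe, mul_assoc, ← zpow_neg, hpow, neg_neg, ← mul_assoc, ← zpow_add,
            ← two_mul] at h
          exact h
        · have h := CfsgLib.Majorana.conj_pair (r ^ k) (hauto k).1 (hauto k).2 h₁
          have e : μ₁ = r * μ₀ := by
            rw [hr, mul_assoc]
            nth_rewrite 2 [← i0]
            rw [mul_inv_cancel, mul_one]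
          rw [← haxo, e, ← mul_assoc, ← zpow_add_one, mul_assoc, ← zpow_neg, hpow, neg_neg,
            ← mul_assoc, ← zpow_add, show k + 1 + k = 2 * k + 1 by ring] at h
          exact h
      norm_one := by
        intro n
        rcases Int.even_or_odd' n with ⟨k, rfl | rfl⟩
        · rw [haxe, (hauto k).2, hn₀]
        · rw [haxo, (hauto k).2, hn₁]
      refl := by
        intro n j
        show (r ^ n) (μ₀ (ax j)) = ax (2 * n - j)
        rw [hflip, hshift]; congr 1; ring }
  obtain ⟨n, hn1, hn6, hper⟩ := D.periodic hV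
  refine ⟨n, hn1, hn6, ?_⟩
  have e := CfsgLib.Majorana.involution_unique (D.pair 0) (hper ▸ D.pair (n : ℤ))
  have hr1 : r ^ n = 1 := by
    have e' : r ^ (n : ℤ) * μ₀ = r ^ (0 : ℤ) * μ₀ := e
    rw [zpow_zero, zpow_natCast] at e'
    exact mul_right_cancel e'
  have hinv : μ₀ * μ₁ = r⁻¹ := by rw [hr, mul_inv_rev, i0, i1]
  rw [hinv, inv_pow, hr1, inv_one]

end Cfsg.Agent.S5544
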