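import Cfsg.Statements.S5545
import Cfsg.Agent.Lib.Majorana.Basic

set_option autoImplicit false
open Cfsg

namespace Cfsg.Agent.S5545

open Cfsg.Axial CfsgLib.Majorana

theorem core {V : Type*} [AddCommGroup V] [Module ℝ V] (mul : V →ₗ[ℝ] V →ₗ[ℝ] V)
    (B : LinearMap.BilinForm ℝ V) (hV : IsMajoranaAmbient mul B) (μ₀ μ₁ : V ≃ₗ[ℝ] V) (a b : V)
    (h₀ : IsMajoranaPair mul B μ₀ a) (h₁ : IsMajoranaPair mul B μ₁ b) (hn₀ : B a a = 1)
    (hn₁ : B b b = 1) (hb : μ₀ b = b) (ha : μ₁ a = a) :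
    let α := B a b; let w := mul a b
    (α = 1 / 8 ∨ w = α • a) ∧ mul a w = (1 / 4 : ℝ) • w + (3 * α / 4) • a ∧
      mul w w = (3 * α / 4 - 1 / 8) • w + (3 * α / 16) • (a + b) := by
  intro α w
  have hcomm : ∀ u v : V, mul u v = mul v u := hV.1
  obtain ⟨p₀, q₀, hp₀, hq₀, hdec₀⟩ := fixed_decomp hV h₀ hn₀ hb
  obtain ⟨p₁, q₁, hp₁, hq₁, hdec₁⟩ := fixed_decomp hV h₁ hn₁ ha
  have hba : B b a = α := hV.2.1 b a
  rw [hba] at hdec₁
  change b = α • a + p₀ + q₀ at hdec₀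
  have hw₀ : w = α • a + (1 / 4 : ℝ) • q₀ := by
    show mul a b = _
    rw [hdec₀, map_add, map_add, map_smul, axis_idem h₀, hp₀, hq₀]; module
  have hw₁ : w = α • b + (1 / 4 : ℝ) • q₁ := by
    show mul a b = _
    rw [hcomm a b, hdec₁, map_add, map_add, map_smul, axis_idem h₁, hp₁, hq₁]; module
  have haw : mul a w = (1 / 4 : ℝ) • w + (3 * α / 4) • a := by
    rw [hw₀, map_add, map_smul, map_smul, axis_idem h₀, hq₀]; module
  have hbw : mul b w = (1 / 4 : ℝ) • w + (3 * α / 4) • b := by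
    rw [hw₁, map_add, map_smul, map_smul, axis_idem h₁, hq₁]; module
  have hqe : q₀ = (4 : ℝ) • w - (4 * α) • a := by rw [hw₀]; module
  have hpe : p₀ = b - (4 : ℝ) • w + (3 * α) • a := by rw [hw₀, hdec₀]; module
  have hwa : mul w a = mul a w := hcomm _ _
  have hwb : mul w b = mul b w := hcomm _ _
  have hbb : mul b b = b := axis_idem h₁
  have haa : mul a a = a := axis_idem h₀
  have hab : mul a b = w := rfl
  have hba' : mul b a = w := by rw [hcomm]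
  have pp : mul p₀ p₀ = (1 - 6 * α) • b + (16 : ℝ) • mul w w - (9 * α ^ 2) • a - (2 : ℝ) • w := by
    rw [hpe]
    simp only [map_add, map_sub, map_smul, LinearMap.add_apply, LinearMap.sub_apply,
      LinearMap.smul_apply, haa, hbb, hab, hba', hwa, hwb, haw, hbw]
    module
  have pq : mul p₀ q₀ = (4 : ℝ) • ((-4 : ℝ) • mul w w + ((1 + 3 * α) / 4) • w + (3 * α / 4) • b
      + (9 * α ^ 2 / 4) • a) := by
    rw [hpe, hqe]
    simp only [map_add, map_sub, map_smul, LinearMap.add_apply, LinearMap.sub_apply,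
      LinearMap.smul_apply, haa, hbb, hab, hba', hwa, hwb, haw, hbw]
    module
  have qq : mul q₀ q₀ = (16 : ℝ) • (mul w w - (α / 2) • w - (α ^ 2 / 2) • a) := by
    rw [hqe]
    simp only [map_add, map_sub, map_smul, LinearMap.add_apply, LinearMap.sub_apply,
      LinearMap.smul_apply, haa, hbb, hab, hba', hwa, hwb, haw, hbw]
    module
  have e1 := mul_zero_zero h₀ hp₀ hp₀
  rw [pp] at e1
  simp only [map_add, map_sub, map_smul, haa, hab, haw] at e1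
  have e2 := mul_zero_quarter h₀ hp₀ hq₀
  rw [pq] at e2
  simp only [map_add, map_smul, haa, hab, haw] at e2
  have hT : mul a (mul w w) = (3 * α / 8 - 1 / 32) • w + (9 * α ^ 2 / 16 + 3 * α / 32) • a := by
    linear_combination (norm := module) (1 / 16 : ℝ) • e1
  have hww : mul w w = (3 * α / 4 - 1 / 8) • w + (3 * α / 16) • (a + b) := by
    rw [hT] at e2
    linear_combination (norm := module) (1 / 4 : ℝ) • e2
  refine ⟨?_, haw, hww⟩
  have e3 := mul_quarter_quarter h₀ hq₀ hq₀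
  rw [qq] at e3
  simp only [map_add, map_sub, map_smul, haa, hab, haw, hT] at e3
  have h8 : (α / 4 - 1 / 32) • (w - α • a) = 0 := by
    linear_combination (norm := module) (-1 / 12 : ℝ) • e3
  rcases smul_eq_zero.mp h8 with h | h
  · left; linarith
  · right; exact sub_eq_zero.mp h

/-- Let V be a finite-dimensional real vector space with a commutative bilinear product and a positive-definite symmetric bilinear form that associates with the product and satisfies the Norton inequality (the Majorana setting of the definitions). Let μ₀, μ₁ be commuting Majorana involutions with distinct axial vectors a₀ ≠ a₁ of squared length 1, each involution having no other axial vector. Then either a₀ and a₁ are orthogonal with a₀ ∘ a₁ = 0 (type 2B), or their inner product is 1/8 and, with a₂ = a₀ + a₁ − 8 a₀ ∘ a₁, the vector a₂ is an idempotent and a₀ ∘ a₂ = (1/8)(a₀ + a₂ − a₁), a₁ ∘ a₂ = (1/8)(a₁ + a₂ − a₀)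 (type 2A: the three idempotents span a subalgebra with aᵢ ∘ aⱼ = (1/8)(aᵢ + aⱼ − aₖ)). -/
theorem result {V : Type*} [AddCommGroup V] [Module ℝ V] [FiniteDimensional ℝ V] (mul : V →ₗ[ℝ] V →ₗ[ℝ] V) (B : LinearMap.BilinForm ℝ V) (hV : Cfsg.Axial.IsMajoranaAmbient mul B) (μ₀ μ₁ : V ≃ₗ[ℝ] V) (a₀ a₁ : V) (h₀ : Cfsg.Axial.IsMajoranaPair mul B μ₀ a₀) (h₁ : Cfsg.Axial.IsMajoranaPair mul B μ₁ a₁) (hu₀ : ∀ a : V, Cfsg.Axial.IsMajoranaPair mul B μ₀ a → a = a₀) (hu₁ : ∀ a : V, Cfsg.Axial.IsMajoranaPair mul B μ₁ a → a = a₁) (hn₀ : B a₀ a₀ = 1) (hn₁ : B a₁ a₁ = 1) (hc : μ₀ * μ₁ = μ₁ * μ₀) (hne : a₀ ≠ a₁) : (B a₀ a₁ = 0 ∧ mul a₀ a₁ = 0) ∨ (B a₀ a₁ = 1 / 8 ∧ mul (a₀ + a₁ - (8 : ℝ) • mul a₀ a₁) (a₀ + a₁ - (8 : ℝ) • mul a₀ a₁) = a₀ + a₁ - (8 : ℝ) • mul a₀ a₁ ∧ mul a₀ (a₀ + a₁ - (8 : ℝ) • mul a₀ a₁) = (1 / 8 : ℝ) • (a₀ + (a₀ + a₁ - (8 : ℝ) • mul a₀ a₁) - a₁) ∧ mul a₁ (a₀ + a₁ - (8 : ℝ) • mul a₀ a₁) = (1 / 8 : ℝ)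 • (a₁ + (a₀ + a₁ - (8 : ℝ) • mul a₀ a₁) - a₀)) := by
  have ha : μ₁ a₀ = a₀ := by
    apply hu₀
    have h := CfsgLib.Majorana.conj_pair μ₁ h₁.1 h₁.2.1 h₀
    rwa [show μ₁ * μ₀ * μ₁⁻¹ = μ₀ by rw [← hc, mul_inv_cancel_right]] at h
  have hb : μ₀ a₁ = a₁ := by
    apply hu₁
    have h := CfsgLib.Majorana.conj_pair μ₀ h₀.1 h₀.2.1 h₁
    rwa [show μ₀ * μ₁ * μ₀⁻¹ = μ₁ by rw [hc, mul_inv_cancel_right]] at h
  obtain ⟨c0, haw, hww⟩ := core mul B hV μ₀ μ₁ a₀ a₁ h₀ h₁ hn₀ hn₁ hb ha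
  obtain ⟨c1, hbw, -⟩ := core mul B hV μ₁ μ₀ a₁ a₀ h₁ h₀ hn₁ hn₀ ha hb
  rw [hV.1 a₁ a₀, hV.2.1 a₁ a₀] at c1 hbw
  by_cases hα : B a₀ a₁ = 1 / 8
  · right
    rw [hα] at haw hbw hww
    have hwa : mul (mul a₀ a₁) a₀ = mul a₀ (mul a₀ a₁) := hV.1 _ _
    have hwb : mul (mul a₀ a₁) a₁ = mul a₁ (mul a₀ a₁) := hV.1 _ _
    have haa : mul a₀ a₀ = a₀ := CfsgLib.Majorana.axis_idem h₀
    have hbb : mul a₁ a₁ = a₁ := CfsgLib.Majorana.axis_idem h₁
    have hba : mul a₁ a₀ = mul a₀ a₁ := hV.1 _ _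
    refine ⟨hα, ?_, ?_, ?_⟩
    · simp only [map_add, map_sub, map_smul, LinearMap.add_apply, LinearMap.sub_apply,
        LinearMap.smul_apply, haa, hbb, hba, hwa, hwb, haw, hbw, hww]
      module
    · simp only [map_add, map_sub, map_smul, haa, haw]
      module
    · simp only [map_add, map_sub, map_smul, hbb, hba, hbw]
      module
  · left
    have d0 := c0.resolve_left hα
    have d1 := c1.resolve_left hα
    have hz : B a₀ a₁ = 0 := by
      by_contra hz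
      exact hne (smul_right_injective V hz (d0.symm.trans d1))
    exact ⟨hz, by rw [d0, hz, zero_smul]⟩

end Cfsg.Agent.S5545
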