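import Cfsg.Statements.S5546
import Cfsg.Agent.Lib.LeechEight.Basic

set_option autoImplicit false
open Cfsg

namespace Cfsg.Agent.S5546

open CfsgLib.LeechEight

/-- The sum of the coordinates at the extra point and at `0`: one quarter of the product with `u`. -/
def funU : (GolayPt → ZMod 13) →ₗ[ZMod 13] ZMod 13 :=
  LinearMap.proj (R := ZMod 13) (φ := fun _ : GolayPt => ZMod 13) none +
    LinearMap.proj (R := ZMod 13) (φ := fun _ : GolayPt => ZMod 13) (some 0)

/-- Inclusion of `Co2` in `Co0`. -/
def incl : ↥Spor.Co2 →* ↥Co0 := Subgroup.inclusion inf_le_left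

theorem fix_u (g : ↥Spor.Co2) : addHom (incl g) Spor.leechU = Spor.leechU := g.2.2

theorem dot_vecU (x : GolayPt → ℤ) : dotInt x Spor.vecU = 4 * (x none + x (some 0)) := by
  unfold dotInt Spor.vecU
  rw [Fintype.sum_option]
  simp [Finset.sum_ite_eq', mul_comm, mul_add]

theorem funU_rep (g : ↥Spor.Co2) (x : GolayPt → ZMod 13) : funU (rep (incl g) x) = funU x := by
  have h : funU ∘ₗ rep (incl g) = funU := by
    apply (Pi.basisFun (ZMod 13) GolayPt).ext
    intro j
    have h1 := dotInt_addHom (incl g) (latE j) Spor.leechU
    rw [fix_u] at h1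
    change dotInt _ Spor.vecU = dotInt (vecE j) Spor.vecU at h1
    rw [dot_vecU, dot_vecU] at h1
    have h2 : ((addHom (incl g) (latE j) : leechLattice) : GolayPt → ℤ) none
        + ((addHom (incl g) (latE j) : leechLattice) : GolayPt → ℤ) (some 0)
        = vecE j none + vecE j (some 0) := by linarith
    have h3 := congrArg (fun z : ℤ => (5 : ZMod 13) * (z : ZMod 13)) h2
    push_cast at h3
    rw [mul_add, mul_add] at h3
    simp only [LinearMap.comp_apply, rep_apply, Pi.basisFun_apply, Matrix.mulVec_single_one]
    show mat (incl g) none j + mat (incl g) (some 0) j = _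
    refine h3.trans ?_
    have h58 : (5 : ZMod 13) * 8 = 1 := by decide
    have h4 : ∀ i, (5 : ZMod 13) * ((vecE j i : ℤ) : ZMod 13) = Pi.single (M := fun _ => ZMod 13) j 1 i := by
      intro i
      by_cases hi : i = j
      · subst hi; simp [vecE, h58]
      · simp [vecE, hi]
    rw [h4, h4]; rfl
  exact LinearMap.congr_fun h x

/-- The action on the hyperplane orthogonal to `u` modulo 13. -/
noncomputable def repW : ↥Spor.Co2 →* ((LinearMap.ker funU) →ₗ[ZMod 13] (LinearMap.ker funU)) where
  toFun g := (rep (incl g)).restrict (p := LinearMap.ker funU) (q := LinearMap.ker funU)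
    (fun x hx => by rw [LinearMap.mem_ker] at hx ⊢; rw [funU_rep, hx])
  map_one' := by ext x; simp
  map_mul' g h := by ext x; simp

/-- The second Conway group (the stabilizer in the Leech lattice automorphism group of the short vector fixed in the definitions) is isomorphic to a subgroup of the general linear group of degree 23 over the field with 13 elements: there is an injective homomorphism into it. -/
theorem result : ∃ f : ↥Cfsg.Spor.Co2 →* GL (Fin 23) (ZMod 13), Function.Injective f := by
  have h58 : (5 : ZMod 13) * 8 = 1 := by decide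
  haveI : Fact (Nat.Prime 13) := ⟨by norm_num⟩
  have hsurj : Function.Surjective funU := fun c => ⟨Pi.single none c, by simp [funU]⟩
  have hdim : Module.finrank (ZMod 13) (LinearMap.ker funU) = 23 := by
    have h := LinearMap.finrank_range_add_finrank_ker funU
    rw [LinearMap.range_eq_top.mpr hsurj, finrank_top, Module.finrank_self,
      Module.finrank_fintype_fun_eq_card] at h
    simp at h
    omega
  let b := Module.finBasisOfFinrankEq (ZMod 13) (LinearMap.ker funU) hdim
  let f : ↥Cfsg.Spor.Co2 →* Matrix (Fin 23) (Fin 23) (ZMod 13) :=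
    (LinearMap.toMatrixAlgEquiv b).toAlgHom.toRingHom.toMonoidHom.comp repW
  refine ⟨f.toHomUnits, (injective_iff_map_eq_one _).mpr fun g hg => ?_⟩
  have hf : f g = 1 := congrArg Units.val hg
  have hW : repW g = 1 := (LinearMap.toMatrixAlgEquiv b).injective (by rw [map_one]; exact hf)
  have hU : rep (incl g) (red Spor.leechU) = red Spor.leechU := by
    rw [rep_apply, mat_mulVec, fix_u]
  have hu8 : funU (red Spor.leechU) = 8 := by
    simp [funU, red, Spor.leechU, Spor.vecU]; norm_num
  have h1 : incl g = 1 := by
    apply eq_one_of_mat_eq_one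
    have hall : ∀ x, rep (incl g) x = x := by
      intro x
      set c : ZMod 13 := funU x * 5 with hc
      have hy : x - c • red Spor.leechU ∈ LinearMap.ker funU := by
        rw [LinearMap.mem_ker, map_sub, map_smul, hu8, hc, smul_eq_mul, mul_assoc,
          show (5 : ZMod 13) * 8 = 1 from h58, mul_one, sub_self]
      have h2 := congrArg Subtype.val (LinearMap.congr_fun hW ⟨_, hy⟩)
      have h3 : rep (incl g) (x - c • red Spor.leechU) = x - c • red Spor.leechU := h2
      rwa [map_sub, map_smul, hU, sub_left_inj] at h3
    ext i j
    have := congrFun (hall (Pi.single j 1)) i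
    rw [rep_apply, Matrix.mulVec_single_one] at this
    rw [Matrix.one_apply]
    simpa [Pi.single_apply] using this
  exact Subgroup.inclusion_injective inf_le_left (h1.trans (map_one _).symm)

end Cfsg.Agent.S5546
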