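import Cfsg.Statements.S5549
import Cfsg.Agent.Lib.GolayModule.Basic

set_option autoImplicit false
open Cfsg

namespace Cfsg.Agent.S5549

open CfsgLib.Golay CfsgLib.GolayModule
open scoped Pointwise symmDiff

/-- The octads as a finite set. -/
noncomputable def octFin : Finset (Finset GolayPt) := octads_finite.toFinset

theorem mem_octFin {o : Finset GolayPt} : o ∈ octFin ↔ o ∈ octads := Set.Finite.mem_toFinset _

/-- The number of octads on which a functional is non-zero. -/
noncomputable def cnt (u : Word) : ℕ := (octFin.filter fun o => dot u (indic o) ≠ 0).card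

theorem cnt_act {g : Equiv.Perm GolayPt} (hg : g ∈ M24) (u : Word) : cnt (act g u) = cnt u := by
  refine (Finset.card_bij (fun o _ => g • o) ?_ ?_ ?_).symm
  · intro o ho
    rw [Finset.mem_filter, mem_octFin] at ho ⊢
    exact ⟨smul_mem_octads hg ho.1, by rw [← act_indic, dot_act]; exact ho.2⟩
  · intro a _ b _ h; exact smul_left_cancel g h
  · intro o ho
    rw [Finset.mem_filter, mem_octFin] at ho
    refine ⟨g⁻¹ • o, ?_, smul_inv_smul g o⟩
    rw [Finset.mem_filter, mem_octFin]
    refine ⟨smul_mem_octads (inv_mem hg) ho.1, ?_⟩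
    rw [← dot_act g, act_indic, smul_inv_smul]
    exact ho.2

theorem cnt_indic (s : Finset GolayPt) : cnt (indic s) =
    ((Finset.range 4096).filter fun k =>
      popc (codeWord k) = 8 ∧ popc (encS s &&& codeWord k) % 2 = 1).card := by
  have key : ∀ o : Finset GolayPt, dot (indic s) (indic o) ≠ 0 ↔ popc (encS s &&& encS o) % 2 = 1 := by
    intro o
    rw [dot_eq_card, support₂_indic, support₂_indic, ← popc_encS, encS_inter, ne_eq,
      ZMod.natCast_eq_zero_iff_even, Nat.not_even_iff]
  refine (Finset.card_bij (fun k _ => decS (codeWord k)) ?_ ?_ ?_).symm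
  · intro k hk
    rw [Finset.mem_filter] at hk ⊢
    rw [mem_octFin, mem_octads, key, encS_decS (codeWord_lt k)]
    exact ⟨⟨isCode_codeWord k, hk.2.1⟩, hk.2.2⟩
  · intro a ha b hb h
    rw [Finset.mem_filter, Finset.mem_range] at ha hb
    have := congrArg encS h
    rw [encS_decS (codeWord_lt a), encS_decS (codeWord_lt b)] at this
    exact codeWord_injOn ha.1 hb.1 this
  · intro o ho
    rw [Finset.mem_filter, mem_octFin, mem_octads, key] at ho
    obtain ⟨k, hk, hko⟩ := exists_codeWord ho.1.1
    refine ⟨k, ?_, by rw [hko, decS_encS]⟩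
    rw [Finset.mem_filter, Finset.mem_range, hko]
    exact ⟨hk, ho.1.2, ho.2⟩

theorem cnt_two {s : Finset GolayPt} (hs : s.card = 2) : cnt (indic s) = 352 := by
  obtain ⟨g, hg, hgs⟩ := exists_map_eq (L := [none, some 0]) (L' := s.toList) (by decide) s.nodup_toList
    (by simp [hs]) (by simp)
  have e : s = g • decS 8388609 := by
    rw [show decS 8388609 = ([none, some 0] : List GolayPt).toFinset by decide +kernel,
      ← s.toList_toFinset, ← hgs]
    ext p; simp [Finset.mem_smul_finset]; tauto
  rw [e, ← act_indic, cnt_act hg, cnt_indic, encS_decS (by norm_num)]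
  decide +kernel

theorem cnt_four {s : Finset GolayPt} (hs : s.card = 4) : cnt (indic s) = 384 := by
  obtain ⟨g, hg, hgs⟩ := exists_map_eq (L := [none, some 0, some 1, some 2]) (L' := s.toList) (by decide)
    s.nodup_toList (by simp [hs]) (by simp)
  have e : s = g • decS 8388615 := by
    rw [show decS 8388615 = ([none, some 0, some 1, some 2] : List GolayPt).toFinset by decide +kernel,
      ← s.toList_toFinset, ← hgs]
    ext p; simp [Finset.mem_smul_finset]; tauto
  rw [e, ← act_indic, cnt_act hg, cnt_indic, encS_decS (by norm_num)]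
  decide +kernel

theorem dot_pair {a b : GolayPt} (h : a ≠ b) (c : Word) : dot (indic {a, b}) c = c a + c b := by
  simp only [dot, indic, ite_mul, one_mul, zero_mul]
  rw [Finset.sum_ite_mem, Finset.univ_inter, Finset.sum_pair h]

theorem indic_symmDiff (s t : Finset GolayPt) : indic (s ∆ t) = indic s + indic t := by
  funext p
  by_cases hs : p ∈ s <;> by_cases ht : p ∈ t <;>
    simp [indic, Finset.mem_symmDiff, hs, ht, CharTwo.add_self_eq_zero]

/-- Two small sets defining the same functional on the code are equal. -/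
theorem small_eq {s t : Finset GolayPt} (h : s.card + t.card < 8)
    (he : ∀ c ∈ golayCode, dot (indic s) c = dot (indic t) c) : s = t := by
  by_contra hne
  have hm : indic (s ∆ t) ∈ golayCode := by
    refine mem_of_dot fun c hc => ?_
    rw [indic_symmDiff, dot_add_left, he c hc, CharTwo.add_self_eq_zero]
  have h8 := eight_le_card_support (b := s ∆ t) ⟨_, hm, support₂_indic _⟩
    (Finset.symmDiff_nonempty.mpr hne)
  have := card_symmDiff_add s t
  omega

/-- A pairwise once meeting injective family of pairs, indexed by more than three indices, is a star. -/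
theorem exists_centre {ι α : Type*} [DecidableEq α] (T : ι → Finset α) (hT : ∀ i, (T i).card = 2)
    (hinj : Function.Injective T) (hmeet : ∀ i j, i ≠ j → (T i ∩ T j).card = 1)
    (h4 : ∀ a b c : ι, ∃ d, d ≠ a ∧ d ≠ b ∧ d ≠ c) (i₀ : ι) : ∃ z, ∀ i, z ∈ T i := by
  obtain ⟨j₀, hj, -, -⟩ := h4 i₀ i₀ i₀
  obtain ⟨z, hz⟩ := Finset.card_eq_one.mp (hmeet i₀ j₀ hj.symm)
  have hzi : z ∈ T i₀ := Finset.mem_of_mem_inter_left (hz ▸ Finset.mem_singleton_self z)
  have hzj : z ∈ T j₀ := Finset.mem_of_mem_inter_right (hz ▸ Finset.mem_singleton_self z)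
  have other : ∀ i, z ∈ T i → ∃ y, y ≠ z ∧ T i = {z, y} := by
    intro i hi
    obtain ⟨y, hy⟩ := Finset.card_eq_one.mp
      (by rw [Finset.card_erase_of_mem hi, hT] : ((T i).erase z).card = 1)
    exact ⟨y, Finset.ne_of_mem_erase (hy ▸ Finset.mem_singleton_self y),
      by rw [← Finset.insert_erase hi, hy]⟩
  obtain ⟨y₁, hy₁, hT₁⟩ := other i₀ hzi
  obtain ⟨y₂, hy₂, hT₂⟩ := other j₀ hzj
  have hy12 : y₁ ≠ y₂ := fun h => hj (hinj (by rw [hT₁, hT₂, h]))
  have meets : ∀ i, z ∉ T i → T i = {y₁, y₂} := by
    intro i hi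
    have m1 : y₁ ∈ T i := by
      have hne : i₀ ≠ i := fun h => hi (h ▸ hzi)
      obtain ⟨w, hw⟩ := Finset.card_eq_one.mp (hmeet i₀ i hne)
      have hw1 := Finset.mem_inter.mp (hw ▸ Finset.mem_singleton_self w)
      rw [hT₁, Finset.mem_insert, Finset.mem_singleton] at hw1
      rcases hw1.1 with rfl | rfl
      · exact absurd hw1.2 hi
      · exact hw1.2
    have m2 : y₂ ∈ T i := by
      have hne : j₀ ≠ i := fun h => hi (h ▸ hzj)
      obtain ⟨w, hw⟩ := Finset.card_eq_one.mp (hmeet j₀ i hne)
      have hw1 := Finset.mem_inter.mp (hw ▸ Finset.mem_singleton_self w)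
      rw [hT₂, Finset.mem_insert, Finset.mem_singleton] at hw1
      rcases hw1.1 with rfl | rfl
      · exact absurd hw1.2 hi
      · exact hw1.2
    refine (Finset.eq_of_subset_of_card_le (Finset.insert_subset m1 (Finset.singleton_subset_iff.mpr m2)) ?_).symm
    rw [hT, Finset.card_pair hy12]
  refine ⟨z, fun i => ?_⟩
  by_contra hi
  obtain ⟨f, hf0, hf1, hf2⟩ := h4 i₀ j₀ i
  by_cases hf : z ∈ T f
  · obtain ⟨y, hy, hTf⟩ := other f hf
    obtain ⟨w, hw⟩ := Finset.card_eq_one.mp (hmeet f i hf2)
    have hw1 := Finset.mem_inter.mp (hw ▸ Finset.mem_singleton_self w)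
    rw [hTf, meets i hi, Finset.mem_insert, Finset.mem_singleton, Finset.mem_insert,
      Finset.mem_singleton] at hw1
    rcases hw1.1 with rfl | rfl
    · rcases hw1.2 with h | h
      · exact hy₁ h.symm
      · exact hy₂ h.symm
    · rcases hw1.2 with h | h
      · exact hf0 (hinj (by rw [hTf, hT₁, h]))
      · exact hf1 (hinj (by rw [hTf, hT₂, h]))
  · exact hf2 (hinj ((meets f hf).trans (meets i hi).symm))

theorem core (e : ↥golayCode ≃ₗ[ZMod 2] ↥golayCode) (h1 : ((e ⟨1, CfsgLib.GolayModule.one_mem⟩ : ↥golayCode) : Word) = 1)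
    (ho : ∀ c : ↥golayCode, ∃ σ ∈ M24, ((e c : ↥golayCode) : Word) = act σ (c : Word) ∨
      ((e c : ↥golayCode) : Word) = act σ (c : Word) + 1) :
    ∃ σ ∈ M24, ∀ c : ↥golayCode, ((e c : ↥golayCode) : Word) = act σ (c : Word) ∨
      ((e c : ↥golayCode) : Word) = act σ (c : Word) + 1 := by
  classical
  let X : ↥golayCode → Word := fun c => ((e c : ↥golayCode) : Word)
  have hz2 : ∀ a : ZMod 2, a = 0 ∨ a = 1 := by decide
  -- the pull back of a pair
  have hP : ∀ a b : GolayPt, a ≠ b → ∃ s : Finset GolayPt, s.card = 2 ∧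
      ∀ c : ↥golayCode, dot (indic s) (c : Word) = X c a + X c b := by
    intro a b hab
    let f : ↥golayCode →ₗ[ZMod 2] ZMod 2 :=
      ((LinearMap.proj (R := ZMod 2) (φ := fun _ : GolayPt => ZMod 2) a +
        LinearMap.proj (R := ZMod 2) (φ := fun _ : GolayPt => ZMod 2) b).domRestrict golayCode) ∘ₗ e.toLinearMap
    obtain ⟨f', hf'⟩ := f.exists_extend
    obtain ⟨u₁, rfl⟩ := (dotProductEquiv (ZMod 2) GolayPt).surjective f'
    have hu₁ : ∀ c : ↥golayCode, dot u₁ (c : Word) = X c a + X c b := fun c => LinearMap.congr_fun hf' c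
    obtain ⟨u, hu, hu4⟩ : ∃ u : Word, u - u₁ ∈ golayCode ∧ hammingNorm u ≤ 4 := by
      rcases CfsgLib.Combin.AbstractGolay.coset_leaders isGolay u₁ with ⟨u, hu, -⟩ | ⟨h, -⟩
      · exact ⟨u, (hu.symm ▸ Set.mem_singleton u : u ∈ {u : Word | u - u₁ ∈ golayCode ∧ hammingNorm u ≤ 4})⟩
      · obtain ⟨u, hu⟩ := Set.nonempty_of_ncard_ne_zero (fun h0 =>
          absurd (h.symm.trans h0) (by norm_num) :
          {u : Word | u - u₁ ∈ golayCode ∧ hammingNorm u ≤ 4}.ncard ≠ 0)
        exact ⟨u, hu⟩
    have hdot : ∀ c : ↥golayCode, dot u (c : Word) = X c a + X c b := by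
      intro c
      have := dot_code hu c.2
      rw [dot_sub_left, sub_eq_zero] at this
      rw [this, hu₁]
    refine ⟨support₂ u, ?_, by rw [indic_support₂]; exact hdot⟩
    -- permutation of the octads
    have hψ : ∀ o, o ∈ octFin → ∃ o', o' ∈ octFin ∧ ∀ ho' : indic o ∈ golayCode,
        X ⟨indic o, ho'⟩ = indic o' ∨ X ⟨indic o, ho'⟩ = indic o' + 1 := by
      intro o hoct
      obtain ⟨σ, hσ, hX⟩ := ho ⟨indic o, indic_mem (mem_octFin.mp hoct)⟩
      refine ⟨σ • o, mem_octFin.mpr (smul_mem_octads hσ (mem_octFin.mp hoct)), fun _ => ?_⟩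
      rwa [← act_indic]
    choose ψ hψ1 hψ2 using hψ
    let ψ' : Finset GolayPt → Finset GolayPt := fun o => if h : o ∈ octFin then ψ o h else o
    have hinj : Set.InjOn ψ' octFin := by
      intro o ho o' ho' heq
      rw [Finset.mem_coe] at ho ho'
      simp only [ψ', dif_pos ho, dif_pos ho'] at heq
      have m := indic_mem (mem_octFin.mp ho)
      have m' := indic_mem (mem_octFin.mp ho')
      have ediff : X ⟨indic o, m⟩ = X ⟨indic o', m'⟩ ∨ X ⟨indic o, m⟩ = X ⟨indic o', m'⟩ + 1 := by
        have hneg : ∀ v : Word, v + 1 + 1 = v := fun v => by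
          funext p; simp [add_assoc, CharTwo.add_self_eq_zero]
        rcases hψ2 o ho m with h | h <;> rcases hψ2 o' ho' m' with h' | h' <;>
          rw [h, h', heq] <;> simp [hneg]
      rcases ediff with h | h
      · have := congrArg Subtype.val (e.injective (Subtype.ext h))
        have := congrArg support₂ this
        rwa [support₂_indic, support₂_indic] at this
      · exfalso
        have h' : e ⟨indic o, m⟩ = e (⟨indic o', m'⟩ + ⟨1, CfsgLib.GolayModule.one_mem⟩) := by
          apply Subtype.ext
          rw [map_add, Submodule.coe_add, h1]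
          exact h
        have h2 := congrArg (fun c : ↥golayCode => support₂ (c : Word)) (e.injective h')
        have h3 : support₂ (indic o' + 1) = o'ᶜ := by
          rw [← support₂_indic o'ᶜ]
          congr 1
          funext p; by_cases hp : p ∈ o' <;> simp [indic, hp, CharTwo.add_self_eq_zero]
        simp only [Submodule.coe_add, support₂_indic, h3] at h2
        have h4 := card_of_mem_octads (mem_octFin.mp ho)
        rw [h2, Finset.card_compl, card_of_mem_octads (mem_octFin.mp ho'), card_golayPt] at h4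
        omega
    have hmaps : ∀ o ∈ octFin, ψ' o ∈ octFin := fun o ho => by
      simp only [ψ', dif_pos ho]; exact hψ1 o ho
    have himage : octFin.image ψ' = octFin :=
      Finset.eq_of_subset_of_card_le (Finset.image_subset_iff.mpr hmaps)
        (le_of_eq (Finset.card_image_of_injOn hinj).symm)
    have hval : ∀ o ∈ octFin, dot u (indic o) = dot (indic {a, b}) (indic (ψ' o)) := by
      intro o ho
      have m := indic_mem (mem_octFin.mp ho)
      simp only [ψ', dif_pos ho, dot_pair hab]
      rw [hdot ⟨indic o, m⟩]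
      rcases hψ2 o ho m with h | h <;> rw [h]
      simp only [Pi.add_apply, Pi.one_apply]
      rw [add_add_add_comm, CharTwo.add_self_eq_zero (1 : ZMod 2), add_zero]
    have hcnt : cnt u = 352 := by
      rw [← cnt_two (s := {a, b}) (Finset.card_pair hab)]
      unfold cnt
      conv_rhs => rw [← himage, Finset.filter_image]
      rw [Finset.card_image_of_injOn (hinj.mono fun o ho => (Finset.mem_filter.mp ho).1)]
      exact congrArg Finset.card (Finset.filter_congr fun o ho => by rw [hval o ho])
    have heven : Even (support₂ u).card := by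
      have := hdot ⟨1, CfsgLib.GolayModule.one_mem⟩
      simp only [X, h1, Pi.one_apply, CharTwo.add_self_eq_zero] at this
      rw [dot_eq_card, ZMod.natCast_eq_zero_iff_even] at this
      rwa [show support₂ (1 : Word) = Finset.univ by ext p; simp [support₂], Finset.inter_univ] at this
    rw [hammingNorm_eq_card_support₂] at hu4
    obtain ⟨m, hm⟩ := heven
    rcases (show m = 0 ∨ m = 1 ∨ m = 2 by omega) with rfl | rfl | rfl
    · exfalso
      rw [Finset.card_eq_zero] at hm
      rw [← indic_support₂ u, hm] at hcnt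
      simp [cnt, indic, dot] at hcnt
    · exact hm
    · exfalso
      rw [← indic_support₂ u, cnt_four hm] at hcnt
      omega
  choose P hPc hPd using hP
  let T : ZMod 23 → Finset GolayPt := fun b => P none (some b) (by simp)
  have hTd : ∀ b (c : ↥golayCode), dot (indic (T b)) (c : Word) = X c none + X c (some b) :=
    fun b c => hPd none (some b) (by simp) c
  have hTc : ∀ b, (T b).card = 2 := fun b => hPc _ _ _
  have hTinj : Function.Injective T := by
    intro b b' h
    by_contra hne
    have hs : ({some b} : Finset GolayPt) = {some b'} := by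
      refine small_eq (by simp) fun c hc => ?_
      have h1 := hTd b (e.symm ⟨c, hc⟩)
      have h2 := hTd b' (e.symm ⟨c, hc⟩)
      rw [h] at h1
      simp only [X, LinearEquiv.apply_symm_apply] at h1 h2
      simp only [dot, indic, Finset.mem_singleton, ite_mul, one_mul, zero_mul, Finset.sum_ite_eq',
        Finset.mem_univ, if_true]
      exact add_left_cancel (h1.symm.trans h2)
    simp [hne] at hs
  have hmeet : ∀ b b', b ≠ b' → (T b ∩ T b').card = 1 := by
    intro b b' hne
    have hb : (some b : GolayPt) ≠ some b' := by simpa using hne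
    have hle : (T b ∆ T b').card + (P (some b) (some b') hb).card < 8 := by
      have := card_symmDiff_add (T b) (T b')
      rw [hTc, hTc] at this
      rw [hPc]; omega
    have he := small_eq hle fun c hc => by
      rw [indic_symmDiff, dot_add_left, hTd b ⟨c, hc⟩, hTd b' ⟨c, hc⟩, hPd _ _ hb ⟨c, hc⟩,
        add_add_add_comm, CharTwo.add_self_eq_zero (X ⟨c, hc⟩ none), zero_add]
    have := card_symmDiff_add (T b) (T b')
    rw [he, hPc, hTc, hTc] at this
    omega
  obtain ⟨z, hz⟩ := exists_centre T hTc hTinj hmeet (fun a b c => by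
    have : ¬ (Finset.univ : Finset (ZMod 23)) ⊆ {a, b, c} := fun h => by
      have := (Finset.card_le_card h).trans Finset.card_le_three
      simp [Finset.card_univ, ZMod.card] at this
    obtain ⟨d, -, hd⟩ := Finset.not_subset.mp this
    simp only [Finset.mem_insert, Finset.mem_singleton, not_or] at hd
    exact ⟨d, hd⟩) 0
  have hy : ∀ b, ∃ y, y ≠ z ∧ T b = {z, y} := by
    intro b
    obtain ⟨y, hy⟩ := Finset.card_eq_one.mp
      (by rw [Finset.card_erase_of_mem (hz b), hTc] : ((T b).erase z).card = 1)
    exact ⟨y, Finset.ne_of_mem_erase (hy ▸ Finset.mem_singleton_self y),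
      by rw [← Finset.insert_erase (hz b), hy]⟩
  choose y hy1 hy2 using hy
  let π : GolayPt → GolayPt := fun p => p.elim z y
  have hπ : Function.Injective π := by
    rintro (_ | b) (_ | b') h
    · rfl
    · exact absurd (show z = y b' from h) (hy1 b').symm
    · exact absurd (show y b = z from h) (hy1 b)
    · have h : y b = y b' := h
      exact congrArg some (hTinj (by rw [hy2, hy2, h]))
  let σ : Equiv.Perm GolayPt := (Equiv.ofBijective π (Finite.injective_iff_bijective.mp hπ)).symm
  have hX : ∀ c : ↥golayCode, X c = act σ (c : Word) + fun _ => X c none + (c : Word) z := by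
    intro c; funext p
    show X c p = (c : Word) (π p) + (X c none + (c : Word) z)
    cases p with
    | none =>
      show X c none = (c : Word) z + (X c none + (c : Word) z)
      rw [add_left_comm, CharTwo.add_self_eq_zero, add_zero]
    | some b =>
      have h := hTd b c
      rw [hy2 b, dot_pair (hy1 b).symm] at h
      show X c (some b) = (c : Word) (y b) + (X c none + (c : Word) z)
      generalize X c (some b) = p at h ⊢
      generalize X c none = q at h ⊢
      generalize (c : Word) z = r at h ⊢
      generalize (c : Word) (y b) = s at h ⊢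
      revert p q r s; decide
  have hcases : ∀ c : ↥golayCode, X c = act σ (c : Word) ∨ X c = act σ (c : Word) + 1 := by
    intro c
    rcases hz2 (X c none + (c : Word) z) with h | h <;> have h2 := hX c <;> rw [h] at h2
    · left; rw [h2]; exact add_zero _
    · right; exact h2
  refine ⟨σ, ?_, hcases⟩
  rw [mem_M24_iff]
  rintro _ ⟨c, hc, rfl⟩
  refine ⟨act σ c, ?_, support₂_act σ c⟩
  rcases hcases ⟨c, hc⟩ with h | h
  · exact h ▸ (e ⟨c, hc⟩).2
  · have hmem := add_mem (h ▸ (e ⟨c, hc⟩).2 : act σ c + 1 ∈ golayCode) CfsgLib.GolayModule.one_mem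
    have e2 : act σ c + 1 + 1 = act σ c := by
      funext p; simp [add_assoc, CharTwo.add_self_eq_zero]
    rwa [e2] at hmem

/-- Let X be a group of linear automorphisms of the length-24 binary Golay code of the definitions that fix the all-ones word, containing the coordinate-permutation action of every element of the code's automorphism group (the Mathieu group of degree 24), and such that every element of X sends each codeword into its orbit under that Mathieu group up to adding the all-ones word (X has the same orbits as the Mathieu group on the code modulo the all-ones word). Then every element of X agrees, modulo the all-ones word, with the action of a single element of the Mathieu group: X induces exactly the Mathieu group on the code modulo the all-ones word. -/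
theorem result (X : Subgroup (↥Cfsg.golayCode ≃ₗ[ZMod 2] ↥Cfsg.golayCode)) (h1 : ∀ x ∈ X, ∀ e : ↥Cfsg.golayCode, (e : (Cfsg.GolayPt → ZMod 2)) = (fun _ => (1 : ZMod 2)) → x e = e) (hM : ∀ σ ∈ Cfsg.M24, ∃ x ∈ X, ∀ c : ↥Cfsg.golayCode, ((x c : ↥Cfsg.golayCode) : (Cfsg.GolayPt → ZMod 2)) = fun p => (c : (Cfsg.GolayPt → ZMod 2)) (σ.symm p)) (horb : ∀ x ∈ X, ∀ c : ↥Cfsg.golayCode, ∃ σ ∈ Cfsg.M24, ((x c : ↥Cfsg.golayCode) : (Cfsg.GolayPt → ZMod 2)) = (fun p => (c : (Cfsg.GolayPt → ZMod 2)) (σ.symm p)) ∨ ((x c : ↥Cfsg.golayCode) : (Cfsg.GolayPt → ZMod 2)) = (fun p => (c : (Cfsg.GolayPt → ZMod 2)) (σ.symm p)) + fun _ => (1 : ZMod 2)) (x : ↥Cfsg.golayCode ≃ₗ[ZMod 2] ↥Cfsg.golayCode) (hx : x ∈ X) : ∃ σ ∈ Cfsg.M24, ∀ c : ↥Cfsg.golayCode, ((x c : ↥Cfsg.golayCode) : (Cfsg.GolayPt → ZMod 2)) = (fun p => (c : (Cfsg.GolayPt → ZMod 2)) (σ.symm p)) ∨ ((x c : ↥Cfsg.golayCode) : (Cfsg.GolayPt → ZMod 2)) = (fun p => (c : (Cfsg.GolayPt → ZMod 2)) (σ.symm p)) + fun _ => (1 : ZMod 2) := by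
  exact core x (by rw [h1 x hx ⟨1, CfsgLib.GolayModule.one_mem⟩ rfl]) (horb x hx)

end Cfsg.Agent.S5549
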