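import Cfsg.Statements.S5550
import Cfsg.Agent.Lib.GolayModule.Perms
import Cfsg.Agent.Lib.Golay.Dodecad

set_option autoImplicit false
open Cfsg

namespace Cfsg.Agent.S5550

open CfsgLib.Golay CfsgLib.GolayModule
open scoped Pointwise

/-- Two stabilising elements with their inverses. -/
def listZ : List (List ℕ × List ℕ) :=
  [([1, 2, 3, 4, 5, 6, 7, 8, 9, 10, 11, 12, 13, 14, 15, 16, 17, 18, 19, 20, 21, 22, 0, 23],
     [22, 0, 1, 2, 3, 4, 5, 6, 7, 8, 9, 10, 11, 12, 13, 14, 15, 16, 17, 18, 19, 20, 21, 23]),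
    ([23, 22, 11, 15, 17, 9, 19, 13, 20, 5, 16, 2, 21, 7, 18, 3, 10, 4, 14, 6, 8, 12, 1, 0],
     [23, 22, 11, 15, 17, 9, 19, 13, 20, 5, 16, 2, 21, 7, 18, 3, 10, 4, 14, 6, 8, 12, 1, 0])]

theorem listZ_data : ∀ x ∈ listZ, StabData 0 x := by unfold StabData; decide +kernel

theorem listZ_span : ([18298, 1, 18297, 7, 18293, 18277, 18245, 127, 255, 511, 17541, 16517] : List ℕ).map (spanWord (diffs listZ)) = gens := by
  decide +kernel

/-- Two stabilising elements with their inverses. -/
def listO : List (List ℕ × List ℕ) :=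
  [([0, 17, 1, 2, 12, 23, 13, 22, 16, 9, 20, 7, 19, 15, 3, 18, 10, 5, 4, 6, 11, 21, 8, 14],
     [0, 2, 3, 14, 18, 17, 19, 11, 22, 9, 16, 20, 4, 6, 23, 13, 8, 1, 15, 12, 10, 21, 7, 5]),
    ([23, 17, 2, 3, 18, 5, 15, 8, 10, 19, 16, 21, 13, 4, 14, 9, 7, 1, 12, 6, 11, 22, 20, 0],
     [23, 17, 2, 3, 13, 5, 19, 16, 7, 15, 8, 20, 18, 12, 14, 6, 10, 1, 4, 9, 22, 11, 21, 0])]

theorem listO_data : ∀ x ∈ listO, StabData 8536111 x := by unfold StabData; decide +kernel

theorem listO_span : ([24797, 269, 1353, 34140, 1039, 32771, 34050, 1422, 33043, 42382, 32834, 33116] : List ℕ).map (spanWord (diffs listO)) = gens := by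
  decide +kernel

/-- Two stabilising elements with their inverses. -/
def listD : List (List ℕ × List ℕ) :=
  [([4, 2, 18, 1, 19, 8, 10, 5, 6, 20, 9, 22, 0, 13, 7, 15, 23, 16, 12, 3, 14, 17, 11, 21],
     [12, 3, 1, 19, 0, 7, 8, 14, 5, 10, 6, 22, 18, 13, 20, 15, 17, 21, 2, 4, 9, 23, 11, 16]),
    ([0, 18, 2, 4, 12, 11, 10, 6, 5, 8, 22, 15, 21, 7, 14, 9, 19, 3, 23, 1, 20, 17, 13, 16],
     [0, 19, 2, 17, 3, 8, 7, 13, 9, 15, 6, 5, 4, 22, 14, 11, 23, 21, 1, 16, 20, 12, 10, 18])]

theorem listD_data : ∀ x ∈ listD, StabData 11472927 x := by unfold StabData; decide +kernel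

theorem listD_span : ([32777, 45569, 45581, 4096, 36870, 37001, 9134, 41479, 12974, 33287, 41961, 12800] : List ℕ).map (spanWord (diffs listD)) = gens := by
  decide +kernel

theorem act_one_add (σ : Equiv.Perm GolayPt) {v : Word} (h : act σ v = v) : act σ (1 + v) = 1 + v := by
  rw [act_add, act_const, h]

/-- The standard representatives. -/
theorem standard {v : Word} (hv : v = 0 ∨ v = 1 ∨ v = indic baseOctad ∨ v = 1 + indic baseOctad ∨
    v = indic baseDodecad) {w : Word} (hw : w ∉ golayCode) :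
    ∃ σ ∈ M24, act σ v = v ∧ act σ w - w ∉ golayCode := by
  have eO : enc (indic baseOctad) = 8536111 := by
    rw [enc_eq_encS, support₂_indic, baseOctad, encS_decS (by norm_num)]
  have eD : enc (indic baseDodecad) = 11472927 := by
    rw [enc_eq_encS, support₂_indic, baseDodecad, encS_decS (by norm_num)]
  rcases hv with rfl | rfl | rfl | rfl | rfl
  · exact exists_moves_coset listZ_data listZ_span enc_zero hw
  · obtain ⟨σ, h1, -, h3⟩ := exists_moves_coset listZ_data listZ_span enc_zero hw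
    exact ⟨σ, h1, rfl, h3⟩
  · exact exists_moves_coset listO_data listO_span eO hw
  · obtain ⟨σ, h1, h2, h3⟩ := exists_moves_coset listO_data listO_span eO hw
    exact ⟨σ, h1, act_one_add σ h2, h3⟩
  · exact exists_moves_coset listD_data listD_span eD hw

theorem support_one_add (u : Word) : support₂ (1 + u) = (support₂ u)ᶜ := by
  ext p
  rcases (show ∀ a : ZMod 2, a = 0 ∨ a = 1 by decide) (u p) with h | h <;>
    simp [support₂, h, CharTwo.add_self_eq_zero]

theorem two_add (u : Word) : (1 : Word) + (1 + u) = u := by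
  funext p
  simp only [Pi.add_apply, Pi.one_apply, ← add_assoc, CharTwo.add_self_eq_zero, zero_add]

/-- Every code word is carried to a standard one. -/
theorem to_standard {u : Word} (hu : u ∈ golayCode) :
    ∃ g ∈ M24, act g u = 0 ∨ act g u = 1 ∨ act g u = indic baseOctad ∨
      act g u = 1 + indic baseOctad ∨ act g u = indic baseDodecad := by
  have hs : support₂ u ∈ supports (golayCode : Set Word) := ⟨u, hu, rfl⟩
  rcases card_support hs with h | h | h | h | h
  · refine ⟨1, one_mem _, Or.inl ?_⟩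
    rw [Finset.card_eq_zero] at h
    rw [act_one, ← indic_support₂ u, h]; rfl
  · obtain ⟨g, hg, hgs⟩ := exists_smul_octad_eq (o := support₂ u) ⟨hs, h⟩ baseOctad_mem
    exact ⟨g, hg, Or.inr (Or.inr (Or.inl (by rw [← indic_support₂ u, act_indic, hgs])))⟩
  · obtain ⟨g, hg, hgs⟩ := exists_smul_dodecad_eq (d := support₂ u) ⟨hs, h⟩ baseDodecad_mem
    exact ⟨g, hg, Or.inr (Or.inr (Or.inr (Or.inr (by rw [← indic_support₂ u, act_indic, hgs]))))⟩
  · have h8 : (support₂ (1 + u)).card = 8 := by
      rw [support_one_add, Finset.card_compl, h, card_golayPt]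
    obtain ⟨g, hg, hgs⟩ := exists_smul_octad_eq (o := support₂ (1 + u))
      ⟨⟨_, add_mem CfsgLib.GolayModule.one_mem hu, rfl⟩, h8⟩ baseOctad_mem
    refine ⟨g, hg, Or.inr (Or.inr (Or.inr (Or.inl ?_)))⟩
    have e : act g (1 + u) = indic baseOctad := by
      rw [← indic_support₂ (1 + u), act_indic, hgs]
    rw [act_add, act_const] at e
    rw [← e, two_add]
  · refine ⟨1, Subgroup.one_mem _, Or.inr (Or.inl ?_)⟩
    rw [← card_golayPt, Finset.card_eq_iff_eq_univ] at h
    rw [act_one, ← indic_support₂ u, h]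
    funext p; simp [indic]

/-- Let u be a word of the length-24 binary Golay code of the definitions (possibly zero or all-ones) and w any binary word of length 24 outside the code. Then some automorphism of the code (a coordinate permutation preserving it) fixes u but moves w to a word not congruent to w modulo the code: the stabilizer of a codeword fixes no non-zero element of the quotient of the space of all words by the code. -/
theorem result (u : (Cfsg.GolayPt → ZMod 2)) (hu : u ∈ Cfsg.golayCode) (w : (Cfsg.GolayPt → ZMod 2)) (hw : w ∉ Cfsg.golayCode) : ∃ σ ∈ Cfsg.M24, (fun p => u (σ.symm p)) = u ∧ (fun p => w (σ.symm p)) - w ∉ Cfsg.golayCode := by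
  show ∃ σ ∈ Cfsg.M24, act σ u = u ∧ act σ w - w ∉ Cfsg.golayCode
  obtain ⟨g, hg, hgu⟩ := to_standard hu
  have back : ∀ v, act g⁻¹ (act g v) = v := fun v => by rw [← act_mul, inv_mul_cancel, act_one]
  have hgw : act g w ∉ golayCode := fun h => hw (back w ▸ act_mem_code (inv_mem hg) h)
  obtain ⟨σ, hσ, hfix, hmove⟩ := standard hgu hgw
  refine ⟨g⁻¹ * σ * g, mul_mem (mul_mem (inv_mem hg) hσ) hg, ?_, fun h => hmove ?_⟩
  · rw [act_mul, act_mul, hfix, back]
  · have := act_mem_code hg h
    rwa [act_sub, ← act_mul, mul_assoc, mul_inv_cancel_left, act_mul] at this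

end Cfsg.Agent.S5550
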