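import Cfsg.Statements.S5552
import Cfsg.Agent.Lib.Golay.Co0

set_option autoImplicit false
open Cfsg

namespace Cfsg.Agent.S5552

open CfsgLib.Golay

/-- A first minimal vector. -/
def u0 : GolayPt → ℤ := Pi.single (some 4) 4 + Pi.single (some 0) 4
/-- A second minimal vector, at inner product `-16` with the first. -/
def v0 : GolayPt → ℤ := Pi.single (some 4) (-4) + Pi.single (some 1) 4
/-- A third minimal vector, at inner product `8` with both. -/
def x0 : GolayPt → ℤ := twoInd baseOctad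
/-- Orthogonal minimal vectors. -/
def a0 : GolayPt → ℤ := Pi.single (some 0) 4 + Pi.single (some 1) 4
def b0 : GolayPt → ℤ := Pi.single (some 0) 4 + Pi.single (some 1) (-4)
def c0 : GolayPt → ℤ := Pi.single (some 2) 4 + Pi.single (some 3) 4
/-- Correction vector. -/
def d0 : GolayPt → ℤ := Pi.single (some 0) 4 + Pi.single (some 2) 4

theorem norms : sqNorm u0 = 32 ∧ sqNorm v0 = 32 ∧ sqNorm x0 = 32 ∧ sqNorm a0 = 32 ∧ sqNorm b0 = 32 ∧
    sqNorm c0 = 32 ∧ sqNorm (x0 + u0 + v0 - ((u0 + v0) + (u0 + v0))) = 32 ∧ sqNorm (u0 + v0) = 32 ∧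
    sqNorm (x0 - u0) = 48 ∧ sqNorm (x0 - v0) = 48 ∧ sqNorm (a0 + b0) = 64 ∧ sqNorm (a0 + c0) = 64 ∧
    sqNorm (b0 + c0) = 64 ∧ sqNorm (a0 + b0 + c0 - (d0 + d0)) = 32 := by
  unfold sqNorm u0 v0 x0 a0 b0 c0 d0 twoInd baseOctad
  decide +kernel

/-- On the Leech lattice of the definitions, let Q be a function to the field with two elements that is constant on cosets of twice the lattice, is a quadratic form there (Q(u+v+w) + Q(u) + Q(v) + Q(w) = Q(u+v) + Q(u+w) + Q(v+w) for all u, v, w), is invariant under every lattice automorphism, and is not identically zero. Then Q(v) is the squared length of v divided by 16, reduced modulo 2, for every lattice vector v (squared lengths of lattice vectors are multiples of 16). -/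
theorem result (Q : ↥Cfsg.leechLattice → ZMod 2) (hcoset : ∀ v w : ↥Cfsg.leechLattice, Q (v + (w + w)) = Q v) (hquad : ∀ u v w : ↥Cfsg.leechLattice, Q (u + v + w) + Q u + Q v + Q w = Q (u + v) + Q (u + w) + Q (v + w)) (hinv : ∀ (g : ↥Cfsg.Co0) (v : ↥Cfsg.leechLattice), Q (g • v) = Q v) (hne : ∃ v : ↥Cfsg.leechLattice, Q v ≠ 0) (v : ↥Cfsg.leechLattice) : Q v = ((Cfsg.sqNorm (v : Cfsg.GolayPt → ℤ) / 16 : ℤ) : ZMod 2) := by
  obtain ⟨nu, nv, nx, na, nb, nc, nxuv, nuv, nxu, nxv, nab, nac, nbc, nabc⟩ := norms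
  have pm : ∀ (i j : GolayPt) (s t : ℤ), (s = 4 ∨ s = -4) → (t = 4 ∨ t = -4) →
      Pi.single i s + Pi.single j t ∈ leechLattice := pair_four_mem
  let u : leechLattice := ⟨u0, pm _ _ _ _ (Or.inl rfl) (Or.inl rfl)⟩
  let w : leechLattice := ⟨v0, pm _ _ _ _ (Or.inr rfl) (Or.inl rfl)⟩
  let x : leechLattice := ⟨x0, twoInd_mem (mem_octads.mp baseOctad_mem).1⟩
  let a : leechLattice := ⟨a0, pm _ _ _ _ (Or.inl rfl) (Or.inl rfl)⟩
  let b : leechLattice := ⟨b0, pm _ _ _ _ (Or.inl rfl) (Or.inr rfl)⟩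
  let c : leechLattice := ⟨c0, pm _ _ _ _ (Or.inl rfl) (Or.inl rfl)⟩
  let d : leechLattice := ⟨d0, pm _ _ _ _ (Or.inl rfl) (Or.inl rfl)⟩
  have hQ0 : Q 0 = 0 := by
    have h := hquad 0 0 0
    simp only [add_zero] at h
    have e : ∀ q : ZMod 2, q + q + q + q = q + q + q → q = 0 := by decide
    exact e _ h
  have shift : ∀ p r z : leechLattice, p = r + (z + z) → Q p = Q r := fun p r z h => h ▸ hcoset r z
  have eq32 : ∀ p r : leechLattice, sqNorm (p : GolayPt → ℤ) = 32 → sqNorm (r : GolayPt → ℤ) = 32 →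
      Q p = Q r := fun p r hp hr => by
    obtain ⟨g, hg⟩ := exists_smul_eq_norm32 hp hr
    rw [← hg, hinv]
  have eq48 : ∀ p r : leechLattice, sqNorm (p : GolayPt → ℤ) = 48 → sqNorm (r : GolayPt → ℤ) = 48 →
      Q p = Q r := fun p r hp hr => by
    obtain ⟨g, hg⟩ := exists_smul_eq_norm48 hp hr
    rw [← hg, hinv]
  have eq64 : ∀ p r : leechLattice, sqNorm (p : GolayPt → ℤ) = 64 → sqNorm (r : GolayPt → ℤ) = 64 →
      Q p = Q r := fun p r hp hr => by
    obtain ⟨g, hg⟩ := exists_smul_eq_norm64 hp hr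
    rw [← hg, hinv]
  have z3 : ∀ q r : ZMod 2, q + q + q + q = r + r + r → r = 0 := by decide
  have h32 : ∀ p : leechLattice, sqNorm (p : GolayPt → ℤ) = 32 → Q p = 0 := by
    intro p hp
    have h := hquad x u w
    have e1 : Q (x + u + w) = Q p :=
      (shift (x + u + w) (x + u + w - ((u + w) + (u + w))) (u + w) (by abel)).trans (eq32 _ p nxuv hp)
    have e2 : Q (x + u) = Q (x - u) := shift _ _ u (by abel)
    have e3 : Q (x + w) = Q (x - u) :=
      (shift _ (x - w) w (by abel)).trans (eq48 _ _ nxv nxu)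
    have e4 : Q (u + w) = Q p := eq32 _ _ nuv hp
    rw [e1, e2, e3, e4, eq32 x p nx hp, eq32 u p nu hp, eq32 w p nv hp] at h
    have e : ∀ q r : ZMod 2, q + q + q + q = r + r + q → q = 0 := by decide
    exact e _ _ h
  have h64 : ∀ p : leechLattice, sqNorm (p : GolayPt → ℤ) = 64 → Q p = 0 := by
    intro p hp
    have h := hquad a b c
    have e1 : Q (a + b + c) = 0 :=
      (shift _ (a + b + c - (d + d)) d (by abel)).trans (h32 _ nabc)
    rw [e1, eq64 (a + b) p nab hp, eq64 (a + c) p nac hp, eq64 (b + c) p nbc hp, h32 a na, h32 b nb,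
      h32 c nc] at h
    exact z3 0 _ h
  -- representatives
  have hrep : ∀ p : leechLattice, ∃ r z : leechLattice, p = r + (z + z) ∧
      ((sqNorm (r : GolayPt → ℤ) = 0 ∧ r = 0) ∨ sqNorm (r : GolayPt → ℤ) = 32 ∨
        sqNorm (r : GolayPt → ℤ) = 48 ∨ sqNorm (r : GolayPt → ℤ) = 64) := by
    intro p
    obtain ⟨y, hy, hyn, z, hz, e⟩ := exists_short_congTwo p.2
    refine ⟨⟨y, hy⟩, ⟨z, hz⟩, Subtype.ext ?_, ?_⟩
    · show (p : GolayPt → ℤ) = y + (z + z)
      rw [← two_nsmul, ← e, add_sub_cancel]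
    rcases eq_or_ne y 0 with rfl | h0
    · exact Or.inl ⟨by simp [sqNorm], rfl⟩
    · have h1 := thirtytwo_le_sqNorm hy h0
      have h2 := sixteen_dvd_sqNorm hy
      right; simp only; omega
  have h48 : ∀ p : leechLattice, sqNorm (p : GolayPt → ℤ) = 48 → Q p = 1 := by
    intro p hp
    obtain ⟨q, hq⟩ := hne
    obtain ⟨r, z, e, ⟨-, hr⟩ | hr | hr | hr⟩ := hrep q
    · rw [shift q r z e, hr] at hq; exact absurd hQ0 hq
    · rw [shift q r z e] at hq; exact absurd (h32 r hr) hq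
    · rw [shift q r z e, eq48 r p hr hp] at hq
      exact (by decide : ∀ q : ZMod 2, q ≠ 0 → q = 1) _ hq
    · rw [shift q r z e] at hq; exact absurd (h64 r hr) hq
  obtain ⟨r, z, e, hcases⟩ := hrep v
  have hpar : ((sqNorm (v : GolayPt → ℤ) / 16 : ℤ) : ZMod 2) = ((sqNorm (r : GolayPt → ℤ) / 16 : ℤ) : ZMod 2) := by
    have e' : (v : GolayPt → ℤ) = (r : GolayPt → ℤ) + ((z : GolayPt → ℤ) + z) := congrArg Subtype.val e
    have h1 := eight_dvd_dot r.2 z.2
    have h2 := sixteen_dvd_sqNorm z.2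
    have h3 := sixteen_dvd_sqNorm r.2
    rw [e', sqNorm_add_eq, dot_add_right, sqNorm_add_eq, dot_self,
      ZMod.intCast_eq_intCast_iff']
    push_cast
    omega
  rw [shift v r z e, hpar]
  rcases hcases with ⟨h, hr⟩ | h | h | h
  · rw [h, hr, hQ0]; rfl
  · rw [h, h32 r h]; rfl
  · rw [h, h48 r h]; rfl
  · rw [h, h64 r h]; rfl

end Cfsg.Agent.S5552
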