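import Cfsg.Statements.S5553
import Cfsg.Agent.Lib.Golay.Code
import Cfsg.Prelude.Def_Spor_Conway
-- import your own Cfsg.Agent.* helpers here

set_option autoImplicit false
open Cfsg

namespace Cfsg.Agent.S5553

open scoped Classical in
/-- Invariants of lattice vectors that are preserved by addition. -/
theorem lattice_facts (x : GolayPt → ℤ) (hx : x ∈ leechLattice) :
    (∀ i, (2 : ℤ) ∣ x i - x none) ∧ (8 : ℤ) ∣ (∑ i, x i) - 4 * x none ∧
      (fun i => (((x i - x none) / 2 : ℤ) : ZMod 2)) ∈ golayCode := by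
  induction hx using AddSubgroup.closure_induction with
  | mem x hx =>
    obtain ⟨m, h2, h8, hk⟩ := hx
    unfold Int.ModEq at h2 h8
    have hd : ∀ i, (2 : ℤ) ∣ x i - x none := fun i => by have := h2 i; have := h2 none; omega
    refine ⟨hd, by have := h2 none; omega, ?_⟩
    obtain ⟨c, hc, hcs⟩ := hk (x none + 2)
    suffices he : (fun i => (((x i - x none) / 2 : ℤ) : ZMod 2)) = c by rw [he]; exact hc
    funext i
    have hi : c i ≠ 0 ↔ x i ≡ x none + 2 [ZMOD 4] := by
      have := Finset.ext_iff.mp hcs i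
      simpa [support₂] using this
    unfold Int.ModEq at hi
    have hz : ∀ a : ZMod 2, a ≠ 0 → a = 1 := by decide
    obtain ⟨u, hu⟩ := hd i
    rw [hu, Int.mul_ediv_cancel_left _ (by norm_num : (2 : ℤ) ≠ 0)]
    rcases Int.emod_two_eq_zero_or_one u with h | h
    · have h0 : c i = 0 := by by_contra h0; have := hi.mp h0; omega
      rw [h0, ZMod.intCast_zmod_eq_zero_iff_dvd]; omega
    · have h1 : c i = 1 := hz _ (hi.mpr (by omega))
      rw [h1, ← Int.cast_one, ZMod.intCast_eq_intCast_iff_dvd_sub]; omega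
  | zero => exact ⟨fun i => by simp, by simp, by simp only [Pi.zero_apply, sub_self, Int.zero_ediv, Int.cast_zero]; exact zero_mem golayCode⟩
  | add x y _ _ hx hy =>
    refine ⟨fun i => by have := hx.1 i; have := hy.1 i; simp only [Pi.add_apply]; omega,
      by have := hx.2.1; have := hy.2.1; simp only [Pi.add_apply, Finset.sum_add_distrib]; omega, ?_⟩
    convert add_mem hx.2.2 hy.2.2 using 1
    funext i
    simp only [Pi.add_apply]
    rw [add_sub_add_comm, Int.add_ediv_of_dvd_left (hx.1 i), Int.cast_add]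
  | neg x _ hx =>
    refine ⟨fun i => by have := hx.1 i; simp only [Pi.neg_apply]; omega,
      by have := hx.2.1; simp only [Pi.neg_apply, Finset.sum_neg_distrib]; omega, ?_⟩
    convert neg_mem hx.2.2 using 1
    funext i
    simp only [Pi.neg_apply]
    rw [show -x i - -x none = -(x i - x none) by ring, Int.neg_ediv_of_dvd (hx.1 i), Int.cast_neg]

/-- The code words vanishing at the extra point. -/
def code0 : Submodule (ZMod 2) (GolayPt → ZMod 2) :=
  golayCode ⊓ LinearMap.ker (LinearMap.proj (R := ZMod 2) (φ := fun _ : GolayPt => ZMod 2) none)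

theorem natCard_code0 : Nat.card ↥code0 = 2 ^ 11 := by
  let f : ↥golayCode →ₗ[ZMod 2] ZMod 2 :=
    (LinearMap.proj (R := ZMod 2) (φ := fun _ : GolayPt => ZMod 2) none).domRestrict golayCode
  have h1 : (1 : GolayPt → ZMod 2) ∈ golayCode :=
    Submodule.subset_span (Set.mem_union_right _ rfl)
  have hf : Function.Surjective f := fun c => ⟨c • ⟨1, h1⟩, by simp [f]⟩
  have hq := AddSubgroup.card_eq_card_quotient_mul_card_addSubgroup f.toAddMonoidHom.ker
  rw [Nat.card_congr (QuotientAddGroup.quotientKerEquivOfSurjective f.toAddMonoidHom hf).toEquiv,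
    Nat.card_zmod] at hq
  rw [show Nat.card ↥golayCode = 4096 from CfsgLib.Golay.natCard_golayCode] at hq
  have he : Nat.card ↥code0 = Nat.card f.toAddMonoidHom.ker := Nat.card_congr
    { toFun := fun w => ⟨⟨w.1, (Submodule.mem_inf.mp w.2).1⟩, (Submodule.mem_inf.mp w.2).2⟩
      invFun := fun w => ⟨w.1.1, Submodule.mem_inf.mpr ⟨w.1.2, w.2⟩⟩
      left_inv := fun _ => rfl
      right_inv := fun _ => rfl }
  omega

/-- The classifying map of the lattice modulo the totally singular subgroup. -/
def classMap : ↥leechLattice →+ ZMod 2 × ↥code0 where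
  toFun x := ((((x : GolayPt → ℤ) none : ℤ) : ZMod 2),
    ⟨fun i => ((((x : GolayPt → ℤ) i - (x : GolayPt → ℤ) none) / 2 : ℤ) : ZMod 2),
      Submodule.mem_inf.mpr ⟨(lattice_facts _ x.2).2.2, by simp⟩⟩)
  map_zero' := by
    refine Prod.ext (by simp) (Subtype.ext (funext fun i => by simp))
  map_add' x y := by
    refine Prod.ext (by simp) (Subtype.ext (funext fun i => ?_))
    simp only [AddSubgroup.coe_add, Prod.snd_add, Submodule.coe_add, Pi.add_apply]
    rw [add_sub_add_comm, Int.add_ediv_of_dvd_left ((lattice_facts _ x.2).1 i), Int.cast_add]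

theorem classMap_surjective : Function.Surjective classMap := by
  rintro ⟨e, c, hc⟩
  obtain ⟨hcC, hc0⟩ := Submodule.mem_inf.mp hc
  change c none = 0 at hc0
  have h1 : (1 : GolayPt → ZMod 2) ∈ golayCode :=
    Submodule.subset_span (Set.mem_union_right _ rfl)
  have hz : ∀ a : ZMod 2, a = 0 ∨ a = 1 := by decide
  classical
  let x : GolayPt → ℤ := fun i => if c i = 0 then 0 else 2
  have hxs : x ∈ leechSet := by
    refine ⟨0, fun i => by simp only [x, Int.ModEq]; split <;> norm_num, ?_, fun k => ?_⟩
    · have hsum : ∑ i, x i = 2 * ((support₂ c).card : ℤ) := by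
        simp only [x, support₂, Finset.card_filter, Nat.cast_sum, Finset.mul_sum]
        exact Finset.sum_congr rfl fun i _ => by split <;> simp_all
      obtain ⟨q, hq⟩ := CfsgLib.Golay.four_dvd_card_support (b := support₂ c) ⟨c, hcC, rfl⟩
      simp only [Int.ModEq, hsum, hq]
      omega
    · by_cases k0 : k % 4 = 0
      · refine ⟨c + 1, add_mem hcC h1, ?_⟩
        ext i
        rcases hz (c i) with h | h <;> simp [support₂, x, h, Int.ModEq, k0] <;> decide
      by_cases k2 : k % 4 = 2
      · refine ⟨c, hcC, ?_⟩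
        ext i
        rcases hz (c i) with h | h <;> simp [support₂, x, h, Int.ModEq, k2]
      · refine ⟨0, zero_mem _, ?_⟩
        ext i
        simp only [support₂, Finset.mem_filter, Finset.mem_univ, true_and, Pi.zero_apply, ne_eq,
          not_true_eq_false, false_iff]
        intro hk
        rcases hz (c i) with h | h <;> (simp [x, h, Int.ModEq] at hk; omega)
  have hx : classMap ⟨x, AddSubgroup.subset_closure hxs⟩ = (0, ⟨c, hc⟩) := by
    refine Prod.ext ?_ (Subtype.ext (funext fun i => ?_))
    · show (((x none : ℤ)) : ZMod 2) = 0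
      simp [x, hc0]
    · show ((((x i - x none) / 2 : ℤ)) : ZMod 2) = c i
      rcases hz (c i) with h | h <;> simp [x, hc0, h]
  have hv : classMap Spor.leechV = (1, 0) := by
    refine Prod.ext ?_ (Subtype.ext (funext fun i => ?_))
    · decide
    · show ((((Spor.vecV i - Spor.vecV none) / 2 : ℤ)) : ZMod 2) = 0
      revert i; decide
  rcases hz e with rfl | rfl
  · exact ⟨_, hx⟩
  · exact ⟨Spor.leechV + ⟨x, AddSubgroup.subset_closure hxs⟩, by rw [map_add, hv, hx]; simp⟩

/-- The Leech lattice of the definitions has an additive subgroup A containing twice the lattice, of index 2^12 in the lattice, all of whose vectors have squared length divisible by 32: the invariant quadratic form 'squared length over 16 modulo 2' on the lattice modulo twice the lattice (a 24-dimensional space over the field with two elements) vanishes on a 12-dimensional subspace, so it is of plus type. -/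
theorem result : ∃ A : AddSubgroup (Cfsg.GolayPt → ℤ), A ≤ Cfsg.leechLattice ∧ (∀ v ∈ Cfsg.leechLattice, (2 : ℤ) • v ∈ A) ∧ (A.addSubgroupOf Cfsg.leechLattice).index = 2 ^ 12 ∧ ∀ v ∈ A, (32 : ℤ) ∣ Cfsg.sqNorm v := by
  refine ⟨classMap.ker.map leechLattice.subtype, AddSubgroup.map_subtype_le _, ?_, ?_, ?_⟩
  · intro v hv
    refine ⟨(⟨v, hv⟩ : ↥leechLattice) + ⟨v, hv⟩, ?_, ?_⟩
    · rw [SetLike.mem_coe, AddMonoidHom.mem_ker, map_add]
      have hh : ∀ a : ZMod 2, a + a = 0 := by decide
      exact Prod.ext (hh _) (Subtype.ext (funext fun i => hh _))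
    · funext i; simp [two_mul]
  · rw [show (classMap.ker.map leechLattice.subtype).addSubgroupOf leechLattice = classMap.ker from
      AddSubgroup.comap_map_eq_self_of_injective leechLattice.subtype_injective _,
      AddSubgroup.index_ker, AddMonoidHom.range_eq_top.mpr classMap_surjective,
      AddSubgroup.card_top, Nat.card_prod, Nat.card_zmod, natCard_code0]
    norm_num
  · rintro v ⟨x, hx, rfl⟩
    obtain ⟨hd, h8, -⟩ := lattice_facts _ x.2
    rw [SetLike.mem_coe, AddMonoidHom.mem_ker, Prod.ext_iff] at hx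
    obtain ⟨h1, h2⟩ := hx
    change ((((x : GolayPt → ℤ) none : ℤ)) : ZMod 2) = 0 at h1
    rw [ZMod.intCast_zmod_eq_zero_iff_dvd] at h1
    set X : GolayPt → ℤ := (x : GolayPt → ℤ) with hX
    have h4 : ∀ i, ∃ y, X i = X none + 4 * y := by
      intro i
      have h3 : ((((X i - X none) / 2 : ℤ)) : ZMod 2) = 0 := congrFun (congrArg Subtype.val h2) i
      rw [ZMod.intCast_zmod_eq_zero_iff_dvd] at h3
      exact ⟨(X i - X none) / 4, by have := hd i; omega⟩
    choose y hy using h4
    have hsum : ∑ i, X i = 24 * X none + 4 * ∑ i, y i := by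
      rw [Finset.sum_congr rfl fun i _ => hy i, Finset.sum_add_distrib, ← Finset.mul_sum]
      simp
    have hY : (2 : ℤ) ∣ ∑ i, y i := by omega
    have hY2 : (2 : ℤ) ∣ ∑ i, y i ^ 2 := by
      have hd2 : (2 : ℤ) ∣ ∑ i, (y i ^ 2 - y i) := Finset.dvd_sum fun i _ => by
        have := Int.even_mul_succ_self (y i - 1)
        rw [even_iff_two_dvd] at this
        obtain ⟨q, hq⟩ := this
        exact ⟨q, by linarith⟩
      rw [Finset.sum_sub_distrib] at hd2
      omega
    obtain ⟨r, hr⟩ := h1
    obtain ⟨s, hs⟩ := hY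
    obtain ⟨w, hw⟩ := hY2
    show (32 : ℤ) ∣ sqNorm X
    refine ⟨3 * r ^ 2 + r * s + w, ?_⟩
    have e : sqNorm X = 24 * X none ^ 2 + 8 * X none * (∑ i, y i) + 16 * ∑ i, y i ^ 2 := by
      simp only [sqNorm]
      rw [Finset.sum_congr rfl fun i _ => show X i ^ 2 = X none ^ 2 + 8 * X none * y i + 16 * y i ^ 2
        by rw [hy i]; ring]
      rw [Finset.sum_add_distrib, Finset.sum_add_distrib, ← Finset.mul_sum, ← Finset.mul_sum]
      simp
    rw [e, hs, hw, hr]; ring

end Cfsg.Agent.S5553
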