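import Cfsg.Statements.S5554
import Cfsg.Agent.Lib.TwoRadGen.Assemble
import Cfsg.Agent.Lib.TwoRadGen.BinaryCases
import Cfsg.Agent.Lib.TwoRadGen.UnitaryCases
import Cfsg.Agent.Lib.TwoRadGen.ReflSix
import Cfsg.Agent.Lib.TwoRadGen.FischerFive
-- import your own Cfsg.Agent.* helpers here

set_option autoImplicit false
open Cfsg

namespace Cfsg.Agent.S5554

/-- Let G be a finite group generated by a conjugacy class D of 3-transpositions, with trivial centre and with generalized Fitting subgroup F*(G) = O₂(G) (so the Fitting subgroup is O₂(G) too). Then either O₂(G) is elementary abelian and has a complement in G, or G/O₂(G) is isomorphic to one of three unitary groups over the field with four elements: the derived group of SU₃(2) (of order 54), SU₅(2) or SU₇(2). -/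
theorem result {G : Type*} [Group G] [Finite G] {D : Set G} (hD : Cfsg.IsThreeTranspositionClass D)
    (hZ : Subgroup.center G = ⊥) (hF : Cfsg.generalizedFittingSubgroup G = Cfsg.pCore 2 G) :
    (Cfsg.IsElementaryAbelian 2 (Cfsg.pCore 2 G) ∧ ∃ K : Subgroup G, (Cfsg.pCore 2 G).IsComplement' K) ∨
      ∃ (F : Type) (_ : Field F) (_ : Fintype F), Fintype.card F = 4 ∧
        (Nonempty (G ⧸ Cfsg.pCore 2 G ≃* ↥(commutator ↥(Cfsg.SU 3 F 2))) ∨
          Nonempty (G ⧸ Cfsg.pCore 2 G ≃* ↥(Cfsg.SU 5 F 2)) ∨ Nonempty (G ⧸ Cfsg.pCore 2 G ≃* ↥(Cfsg.SU 7 F 2))) := by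
  refine CfsgLib.TwoRadGen.dichotomy_of hD hZ hF ?_
  intro V _ _ W X _ _ E I hE hp hk
  rcases hk with ⟨n, hn, h⟩ | ⟨m, hm, h⟩ | ⟨n, hn, h⟩ | (⟨m, hm, h⟩ | ⟨m, hm, h⟩) |
    ⟨n, hn, Q, hQ, c, hc, h⟩ | h
  · exact Or.inl (CfsgLib.TwoRadGen.goal_sym W I hn h)
  · exact Or.inl (CfsgLib.TwoRadGen.goal_sp W I hm h)
  · exact CfsgLib.TwoRadGen.goal_psu W I hn h
  · exact Or.inl (CfsgLib.TwoRadGen.goal_oPlus W I hm h)
  · exact Or.inl (CfsgLib.TwoRadGen.goal_oMinus W I hm h)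
  · rcases eq_or_lt_of_le hn with h6 | h7
    · subst h6
      exact Or.inl (CfsgLib.TwoRadGen.goal_refl_six W I hE hQ hc h)
    · exact (CfsgLib.TwoRadGen.refl_big_false W I ⟨hE.1, hE.2.1⟩ h7 hQ hc h).elim
  · exact (CfsgLib.TwoRadGen.fischer_kill W I hE hp h).elim

end Cfsg.Agent.S5554
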