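import Cfsg.Statements.S5555
import Cfsg.Agent.Lib.TwoRadical.Frattini

set_option autoImplicit false
open Cfsg

namespace Cfsg.Agent.S5555

/-- Let G be a finite group generated by a conjugacy class D of 3-transpositions, with trivial centre and with generalized Fitting subgroup F*(G) = O₂(G) (so the Fitting subgroup is O₂(G) too). If G/O₂(G) is isomorphic to the derived group of SU₃(2) (the group of order 54 generated by nine 3-transpositions), then O₂(G) has a complement in G. -/
theorem result {G : Type*} [Group G] [Finite G] {D : Set G} (hD : Cfsg.IsThreeTranspositionClass D)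
    (hZ : Subgroup.center G = ⊥) (hF : Cfsg.generalizedFittingSubgroup G = Cfsg.pCore 2 G)
    (hq : ∃ (F : Type) (_ : Field F) (_ : Fintype F), Fintype.card F = 4 ∧ Nonempty (G ⧸ Cfsg.pCore 2 G ≃* ↥(commutator ↥(Cfsg.SU 3 F 2)))) :
    ∃ K : Subgroup G, (Cfsg.pCore 2 G).IsComplement' K := by
  obtain ⟨F, instF, instFt, hFc, ⟨e⟩⟩ := hq
  obtain ⟨e'⟩ := CfsgLib.TwoRadical.derived_equiv_of_card (F := F) hFc
  have h2 : ∃ a ∈ D, ∃ b ∈ D, a ≠ b := by
    by_contra h
    push Not at h
    obtain ⟨d, hd, -⟩ := hD.2.1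
    have hc := CfsgLib.ThreeTrans.mem_center_of_commute hD.2.2 (x := d) (fun x hx => by rw [h d hd x hx])
    rw [hZ, Subgroup.mem_bot] at hc
    exact CfsgLib.ThreeTrans.ne_one hD.1 hd hc
  exact CfsgLib.TwoRadical.complement_of_quotient_t54 hD h2 (e'.trans e.symm)

end Cfsg.Agent.S5555
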