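import Cfsg.Statements.S5556
import Cfsg.Agent.Lib.TwoRadicalSU.Transfer
import Cfsg.Agent.Lib.TwoRadicalSU.Complement

set_option autoImplicit false
open Cfsg

namespace Cfsg.Agent.S5556

/-- Let G be a finite group generated by a conjugacy class D of 3-transpositions, with trivial centre and with generalized Fitting subgroup F*(G) = O₂(G) (so the Fitting subgroup is O₂(G) too). If G/O₂(G) is isomorphic to SU₅(2), then O₂(G) is elementary abelian and has a complement in G. -/
theorem result {G : Type*} [Group G] [Finite G] {D : Set G} (hD : Cfsg.IsThreeTranspositionClass D)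
    (hZ : Subgroup.center G = ⊥) (hF : Cfsg.generalizedFittingSubgroup G = Cfsg.pCore 2 G)
    (hq : ∃ (F : Type) (_ : Field F) (_ : Fintype F), Fintype.card F = 4 ∧ Nonempty (G ⧸ Cfsg.pCore 2 G ≃* ↥(Cfsg.SU 5 F 2))) :
    Cfsg.IsElementaryAbelian 2 (Cfsg.pCore 2 G) ∧ ∃ K : Subgroup G, (Cfsg.pCore 2 G).IsComplement' K := by
  obtain ⟨S⟩ := CfsgLib.TwoRadicalSU.exists_setup le_rfl hD hZ hq
  exact ⟨S.elementary (CfsgLib.TwoRadicalSU.Frame.std le_rfl (by decide)), S.complement_five⟩

end Cfsg.Agent.S5556
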