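import Cfsg.Statements.S5562
-- import your own Cfsg.Agent.* helpers here

set_option autoImplicit false
open Cfsg

namespace Cfsg.Agent.S5562

theorem eq_of_conj_eq {G : Type*} [Group G] [Finite G] {e a b : G} (he : e * e = 1)
    (ha : Odd (orderOf (e * a))) (hb : Odd (orderOf (e * b)))
    (h : a * e * a = b * e * b) : a = b := by
  have key : (e * a) ^ 2 = (e * b) ^ 2 := by
    simp only [pow_two, mul_assoc] at *
    rw [h]
  obtain ⟨k, hk⟩ := ha
  obtain ⟨l, hl⟩ := hb
  have h1 : ((e * a) ^ 2) ^ (k + 1) = e * a := by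
    rw [← pow_mul, show 2 * (k + 1) = orderOf (e * a) + 1 by omega, pow_succ, pow_orderOf_eq_one,
      one_mul]
  have h2 : ((e * b) ^ 2) ^ (l + 1) = e * b := by
    rw [← pow_mul, show 2 * (l + 1) = orderOf (e * b) + 1 by omega, pow_succ, pow_orderOf_eq_one,
      one_mul]
  have h3 : orderOf ((e * a) ^ 2) = orderOf (e * a) :=
    Nat.Coprime.orderOf_pow (by rw [hk]; simp)
  have h4 : orderOf ((e * b) ^ 2) = orderOf (e * b) :=
    Nat.Coprime.orderOf_pow (by rw [hl]; simp)
  have hkl : k = l := by
    have h5 := h3.symm.trans ((congrArg orderOf key).trans h4)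
    omega
  subst hkl
  rw [key, h2] at h1
  exact (mul_left_cancel h1).symm

/-- Let G be a finite group, d an involution of G whose conjugates pairwise have products of odd order, and x any involution of G. Then the conjugacy class of d is the disjoint union, over the conjugates a of d commuting with x, of the sets of conjugates of d commuting with ax: every conjugate of d commutes with ax for exactly one conjugate a of d that commutes with x. -/
theorem result {G : Type*} [Group G] [Finite G] (d : G) (hd : orderOf d = 2)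
    (hodd : ∀ a ∈ conjugatesOf d, ∀ b ∈ conjugatesOf d, Odd (orderOf (a * b)))
    (x : G) (hx : orderOf x = 2) :
    ∀ e ∈ conjugatesOf d,
      ∃! a : G, a ∈ conjugatesOf d ∧ Commute a x ∧ Commute e (a * x) := by
  intro e he
  have hd2 : d * d = 1 := by rw [← pow_two, ← hd]; exact pow_orderOf_eq_one d
  have hsq : ∀ {c : G}, c ∈ conjugatesOf d → c * c = 1 := by
    intro c hc
    obtain ⟨g, hg⟩ := isConj_iff.mp hc
    rw [← hg]
    calc g * d * g⁻¹ * (g * d * g⁻¹) = g * (d * d) * g⁻¹ := by group
      _ = 1 := by rw [hd2]; group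
  have hconj : ∀ {c : G} (g : G), c ∈ conjugatesOf d → g * c * g⁻¹ ∈ conjugatesOf d := by
    intro c g hc
    exact IsConj.trans hc (isConj_iff.mpr ⟨g, rfl⟩)
  have hx2 : x * x = 1 := by rw [← pow_two, ← hx]; exact pow_orderOf_eq_one x
  have hxi : x⁻¹ = x := inv_eq_of_mul_eq_one_right hx2
  have he2 := hsq he
  have hei : e⁻¹ = e := inv_eq_of_mul_eq_one_right he2
  set f := x * e * x with hf
  have hfD : f ∈ conjugatesOf d := by
    have := hconj x he; rwa [hxi] at this
  obtain ⟨n, hn⟩ := hodd e he f hfD
  set u := e * f with hu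
  set w := u ^ (n + 1) with hw
  have hw2 : w * w = u := by
    rw [hw, ← pow_add, show n + 1 + (n + 1) = orderOf u + 1 by omega, pow_succ,
      pow_orderOf_eq_one, one_mul]
  have hfi : f⁻¹ = f := inv_eq_of_mul_eq_one_right (hsq hfD)
  have hue : e * u * e⁻¹ = u⁻¹ := by
    rw [hu, mul_inv_rev, hfi, ← mul_assoc e e f, he2, one_mul]
  have hux : x * u * x⁻¹ = u⁻¹ := by
    rw [hu, mul_inv_rev, hfi, hf, hei, hxi]
    calc x * (e * (x * e * x)) * x = x * e * x * e * (x * x) := by group
      _ = x * e * x * e := by rw [hx2, mul_one]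
  have hwe : e * w * e⁻¹ = w⁻¹ := by rw [hw, ← conj_pow, hue, inv_pow]
  have hwx : x * w * x⁻¹ = w⁻¹ := by rw [hw, ← conj_pow, hux, inv_pow]
  -- `v` is a square root of `w`
  set v := w ^ (n + 1) with hv
  have hwn : w ^ (orderOf u) = 1 := by
    rw [hw, ← pow_mul, mul_comm, pow_mul, pow_orderOf_eq_one, one_pow]
  have hv2 : v * v = w := by
    rw [hv, ← pow_add, show n + 1 + (n + 1) = orderOf u + 1 by omega, pow_succ, hwn, one_mul]
  have hve : e * v * e⁻¹ = v⁻¹ := by rw [hv, ← conj_pow, hwe, inv_pow]
  have haD : e * w ∈ conjugatesOf d := by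
    have h1 : e * w = v⁻¹ * e * (v⁻¹)⁻¹ := by
      calc e * w = (e * v * e⁻¹) * (e * v) := by rw [← hv2]; group
        _ = v⁻¹ * (e * v) := by rw [hve]
        _ = v⁻¹ * e * (v⁻¹)⁻¹ := by group
    rw [h1]; exact hconj _ he
  have hax : x * (e * w) * x⁻¹ = e * w := by
    calc x * (e * w) * x⁻¹ = (x * e * x⁻¹) * (x * w * x⁻¹) := by group
      _ = f * w⁻¹ := by rw [hwx, hxi, hf]
      _ = (e * e) * f * w⁻¹ := by rw [he2, one_mul]
      _ = e * (w * w) * w⁻¹ := by rw [hw2, hu]; group
      _ = e * w := by group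
  have haea : (e * w) * e * (e * w) = x * e * x := by
    calc (e * w) * e * (e * w) = e * w * (e * e) * w := by group
      _ = e * (w * w) := by rw [he2, mul_one]; group
      _ = (e * e) * f := by rw [hw2, hu]; group
      _ = x * e * x := by rw [he2, one_mul, hf]
  -- translation between the two forms of the condition
  have hiff : ∀ {a : G}, a ∈ conjugatesOf d → Commute a x →
      (Commute e (a * x) ↔ a * e * a = x * e * x) := by
    intro a ha hc
    have ha2 := hsq ha
    constructor
    · intro hce
      calc a * e * a = a * e * (a * x) * x := by rw [mul_assoc _ (a * x) x, mul_assoc a x x, hx2, mul_one]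
        _ = a * (e * (a * x)) * x := by group
        _ = a * ((a * x) * e) * x := by rw [hce.eq]
        _ = (a * a) * (x * e * x) := by group
        _ = x * e * x := by rw [ha2, one_mul]
    · intro h
      show e * (a * x) = a * x * e
      calc e * (a * x) = (a * a) * e * (a * x) := by rw [ha2, one_mul]
        _ = a * (a * e * a) * x := by group
        _ = a * x * e * (x * x) := by rw [h]; group
        _ = a * x * e := by rw [hx2, mul_one]
  have hc0 : Commute (e * w) x := (mul_inv_eq_iff_eq_mul.mp hax).symm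
  refine ⟨e * w, ⟨haD, hc0, (hiff haD hc0).mpr haea⟩, ?_⟩
  rintro b ⟨hb, hbx, hbe⟩
  exact eq_of_conj_eq he2 (hodd e he b hb) (hodd e he (e * w) haD)
    (((hiff hb hbx).mp hbe).trans haea.symm)

end Cfsg.Agent.S5562
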