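import Cfsg.Statements.S5567
import Cfsg.Agent.Lib.J4Type.Assemble
import Cfsg.Agent.Lib.J4Type.Moved

set_option autoImplicit false
open Cfsg

namespace Cfsg.Agent.S5567

theorem result {G : Type*} [Group G] [Finite G] [IsSimpleGroup G] (hG : ¬ IsMulCommutative G) (hJ : Cfsg.IsOfJankoFourType G) (V : Subgroup G) (hV : Cfsg.IsElementaryAbelian 2 V) (hcard : Nat.card ↥V = 2 ^ 11) :
    Subgroup.centralizer (V : Set G) ≤ V ∧ ∃ K : Subgroup G, K ≤ Subgroup.normalizer (V : Set G) ∧ K ⊓ V = ⊥ ∧ K ⊔ V = Subgroup.normalizer (V : Set G) ∧ Cfsg.Spor.IsoM24 ↥K := by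
  obtain ⟨z, P, hP⟩ := hJ
  obtain ⟨X⟩ := CfsgLib.J4Type.exists_ctx hP
  exact X.split_normalizer (X.exists_moved hG) V hV hcard

end Cfsg.Agent.S5567
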