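import Cfsg.Statements.S5594
import Cfsg.Agent.Lib.MonsterType.Monomial
import Cfsg.Agent.Lib.Golay.Mathieu

set_option autoImplicit false
open Cfsg

namespace Cfsg.Agent.S5594

open CfsgLib CfsgLib.MonsterType Cfsg

/-- The automorphism group of the Leech lattice contains the negation map, and the subgroup of order 2 it generates has no complement: the automorphism group is a non-split extension of its quotient by that subgroup (it is not the direct product of a group of order 2 with the first Conway group). -/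
theorem result :
    ∃ n : ↥Cfsg.Co0, (∀ v : ↥Cfsg.leechLattice, ((n • v : ↥Cfsg.leechLattice) : Cfsg.GolayPt → ℤ) = -(v : Cfsg.GolayPt → ℤ)) ∧
    ∀ K : Subgroup ↥Cfsg.Co0, ¬ (Subgroup.zpowers n).IsComplement' K := by
  set n : ↥Cfsg.Co0 := sgnW ⟨1, one_mem_golay⟩ with hn
  have hneg : ∀ v : ↥Cfsg.leechLattice, n • v = -v := fun v => by
    apply Subtype.ext; funext i; rw [hn, sgnW_apply]; simp
  refine ⟨n, fun v => by rw [hneg]; rfl, fun K hK => ?_⟩
  set w : Cfsg.GolayPt → ZMod 2 := fun p => if p ∈ Cfsg.Spor.squareDodecad then 1 else 0 with hw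
  have hwc : w ∈ Cfsg.golayCode := by
    rw [CfsgLib.Golay.mem_golayCode, hw]; decide +kernel
  have hws : ∀ j, (w j = 0 ↔ ¬ w (Cfsg.projInv j) = 0) ∧ Cfsg.projInv (Cfsg.projInv j) = j := by
    rw [hw]; decide +kernel
  set g : ↥Cfsg.Co0 := permW ⟨Cfsg.projInv, CfsgLib.Golay.projInv_mem_M24⟩ * sgnW ⟨w, hwc⟩ with hg
  have hgE : ∀ j, g • LeechEight.latE j =
      if w j = 0 then LeechEight.latE (Cfsg.projInv j) else -LeechEight.latE (Cfsg.projInv j) := fun j => by
    rw [hg, mul_smul, sgnW_latE]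
    split_ifs <;> simp [smul_neg', permW_latE]
  have hgg : g * g = n := by
    refine ext_latE fun j => ?_
    obtain ⟨h1, h2⟩ := hws j
    rw [mul_smul, hgE, hneg]
    by_cases h : w j = 0
    · rw [if_pos h, hgE, if_neg (h1.mp h), h2]
    · rw [if_neg h, smul_neg', hgE, if_pos (not_not.mp (mt h1.mpr h)), h2]
  have hnn : n * n = 1 := ext_latE fun j => by rw [mul_smul, hneg, hneg, neg_neg, one_smul]
  have hne : n ≠ 1 := by
    intro e
    have := congrArg (fun v : ↥Cfsg.leechLattice => (v : Cfsg.GolayPt → ℤ) none)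
      ((hneg (LeechEight.latE none)).symm.trans (by rw [e, one_smul]))
    simp [latE_apply] at this
  obtain ⟨⟨a, k⟩, hak, -⟩ := hK.existsUnique g
  have hak' : (a : ↥Cfsg.Co0) * k = g := hak
  have ha : (a : ↥Cfsg.Co0) * a = 1 := by
    obtain ⟨z, hz⟩ := Subgroup.mem_zpowers_iff.mp a.2
    rw [← hz, ← zpow_add, ← two_mul, zpow_mul, zpow_two, hnn, one_zpow]
  have hcen : (a : ↥Cfsg.Co0) ∈ Subgroup.center ↥Cfsg.Co0 :=
    (Subgroup.zpowers_le.mpr neg_mem_center) a.2
  have hk2 : (k : ↥Cfsg.Co0) * k = n := by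
    rw [← hgg, ← hak', mul_assoc, ← mul_assoc (k : ↥Cfsg.Co0) a k, Subgroup.mem_center_iff.mp hcen,
      ← mul_assoc, ← mul_assoc, ha, one_mul]
  refine hne (Subgroup.disjoint_def.mp hK.disjoint (Subgroup.mem_zpowers n) ?_)
  rw [← hk2]
  exact K.mul_mem k.2 k.2

end Cfsg.Agent.S5594
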