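import Cfsg.Statements.S5596
import Cfsg.Agent.Lib.LargeExtra.Singular

set_option autoImplicit false
open Cfsg
open scoped commutatorElement Pointwise

namespace Cfsg.Agent.S5596

/-- Setting: `z` is an involution of the finite group `G`; for each element `x`, `Q x` is the largest normal 2-subgroup of the centralizer of `x`; `Q z` is extraspecial and contains its own centralizer in `G`. A subgroup `U` is singular when it is elementary abelian, every non-identity element of `U` is conjugate to `z`, and any two non-identity elements `u`, `v` of `U` are orthogonal (`v ∈ Q u`). Write `QU` for the intersection of the `Q u` and `LU` for the join of the `Q u` over the non-identity `u` in `U`. If `U` is singular of order `2 ^ n` with `n ≥ 2`, then `U ≤ QU ≤ LU`, `LU` normalizes `U`, and `LU` induces on `U` its full automorphism group (the general linear group of dimension `n` over the field with two elements): every automorphism of `U` is conjugation by some element of `LU`. -/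
theorem result {G : Type*} [Group G] [Finite G]
    (Q : G → Subgroup G)
    (hQ : ∀ x : G, Q x = (Cfsg.pCore 2 ↥(Subgroup.centralizer ({x} : Set G))).map (Subgroup.centralizer ({x} : Set G)).subtype)
    (z : G) (hz : orderOf z = 2) (hE : Cfsg.IsExtraspecial 2 ↥(Q z))
    (hC : Subgroup.centralizer ((Q z : Subgroup G) : Set G) ≤ Q z)
    (U : Subgroup G) (hU2 : ∀ u ∈ U, u * u = 1)
    (hS : ∀ u ∈ U, u ≠ 1 → ∃ g : G, g * z * g⁻¹ = u)
    (hO : ∀ u ∈ U, ∀ v ∈ U, u ≠ 1 → v ≠ 1 → v ∈ Q u)
    (QU LU : Subgroup G) (hQU : QU = ⨅ u ∈ ((U : Set G) \ {1}), Q u) (hLU : LU = ⨆ u ∈ ((U : Set G) \ {1}), Q u)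
    (n : ℕ) (hn : 2 ≤ n) (hcard : Nat.card ↥U = 2 ^ n) :
    U ≤ QU ∧ QU ≤ LU ∧ LU ≤ Subgroup.normalizer (U : Set G) ∧
      ∀ φ : ↥U ≃* ↥U, ∃ g ∈ LU, ∀ u : ↥U, g * (u : G) * g⁻¹ = ((φ u : ↥U) : G) := by
  have h := CfsgLib.Singular39.Sing.of_setting hQ hz hE hC hU2 hS hO
  subst hQU hLU
  simp only [hQ]
  set LU := ⨆ u ∈ ((U : Set G) \ {1}), CfsgLib.Singular39.qOf u with hLU
  have hqL : ∀ u ∈ U, u ≠ 1 → CfsgLib.Singular39.qOf u ≤ LU := fun u hu h1 =>
    le_iSup₂ (f := fun u (_ : u ∈ ((U : Set G) \ {1})) => CfsgLib.Singular39.qOf u) u ⟨hu, h1⟩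
  obtain ⟨u₀, hu₀, hu₀1⟩ : ∃ u ∈ U, u ≠ 1 := by
    by_contra hall
    push Not at hall
    rw [(Subgroup.eq_bot_iff_forall _).mpr hall, Subgroup.card_bot] at hcard
    exact absurd hcard (ne_of_lt (Nat.one_lt_pow (by omega) one_lt_two))
  have hLN : LU ≤ Subgroup.normalizer (U : Set G) :=
    iSup₂_le fun u hu => h.qOf_le_normalizer hu.1 hu.2
  refine ⟨le_iInf₂ fun u hu => h.le_qOf hu.1 hu.2,
    (iInf₂_le u₀ ⟨hu₀, hu₀1⟩).trans (hqL u₀ hu₀ hu₀1), hLN, fun φ => ?_⟩
  -- enlarge the subgroup on which a realisation agrees with `φ`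
  classical
  have key : ∀ l : List G, (∀ w ∈ l, w ∈ U) →
      ∃ g ∈ LU, ∀ w (hw : w ∈ U), w ∈ l → g * w * g⁻¹ = ((φ ⟨w, hw⟩ : ↥U) : G) := by
    intro l
    induction l with
    | nil => exact fun _ => ⟨1, one_mem _, fun w _ hw => absurd hw List.not_mem_nil⟩
    | cons a l ih =>
      intro hl
      obtain ⟨g, hg, hgl⟩ := ih fun w hw => hl w (List.mem_cons_of_mem _ hw)
      have ha : a ∈ U := hl a List.mem_cons_self
      have hgn := hLN hg
      have hga : g * a * g⁻¹ ∈ U := (Subgroup.mem_normalizer_iff.mp hgn a).mp ha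
      set t := ((φ ⟨a, ha⟩ : ↥U) : G) with ht
      by_cases hta : g * a * g⁻¹ = t
      · refine ⟨g, hg, fun w hw hwl => ?_⟩
        rcases List.mem_cons.mp hwl with rfl | hwl
        exacts [hta, hgl w hw hwl]
      set v := g * a * g⁻¹ with hv
      set W : Subgroup G := Subgroup.closure {x | ∃ w, ∃ hw : w ∈ U, w ∈ l ∧ x = ((φ ⟨w, hw⟩ : ↥U) : G)}
      have htU : t ∈ U := (φ ⟨a, ha⟩).2
      have hWU : W ≤ U := by
        rw [Subgroup.closure_le]
        rintro x ⟨w, hw, -, rfl⟩
        exact (φ ⟨w, hw⟩).2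
      -- both `g * · * g⁻¹` and `φ` send the span of `l` to `W`
      have hWpre : ∀ y ∈ W, ∃ w, ∃ hw : w ∈ U, g * w * g⁻¹ = y ∧ ((φ ⟨w, hw⟩ : ↥U) : G) = y := by
        intro y hy
        induction hy using Subgroup.closure_induction with
        | mem x hx =>
          obtain ⟨w, hw, hwl, rfl⟩ := hx
          exact ⟨w, hw, hgl w hw hwl, rfl⟩
        | one => exact ⟨1, one_mem _, by simp, congrArg Subtype.val (map_one φ)⟩
        | mul x y _ _ ihx ihy =>
          obtain ⟨w, hw, h1, h2⟩ := ihx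
          obtain ⟨w', hw', h1', h2'⟩ := ihy
          refine ⟨w * w', mul_mem hw hw', by rw [← h1, ← h1']; group, ?_⟩
          rw [← h2, ← h2']
          exact congrArg Subtype.val (map_mul φ ⟨w, hw⟩ ⟨w', hw'⟩)
        | inv x _ ihx =>
          obtain ⟨w, hw, h1, h2⟩ := ihx
          refine ⟨w⁻¹, inv_mem hw, by rw [← h1]; group, ?_⟩
          rw [← h2]
          exact congrArg Subtype.val (map_inv φ ⟨w, hw⟩)
      have hvW : v ∉ W := fun hvW => hta (by
        obtain ⟨w, hw, h1, h2⟩ := hWpre v hvW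
        obtain rfl : w = a := mul_left_cancel (mul_right_cancel (h1.trans hv))
        exact h2.symm)
      have htW : t ∉ W := fun htW => hta (by
        obtain ⟨w, hw, h1, h2⟩ := hWpre t htW
        obtain rfl : w = a := congrArg Subtype.val (φ.injective (Subtype.ext (h2.trans ht) : φ ⟨w, hw⟩ = φ ⟨a, ha⟩))
        exact h1)
      set u := t * v with hudef
      have huU : u ∈ U := mul_mem htU hga
      have hu1 : u ≠ 1 := fun e => hta (by
        rw [hudef, mul_eq_one_iff_eq_inv] at e
        rw [e, inv_eq_of_mul_eq_one_right (h.sq v hga)])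
      have hvWu : v ∉ W ⊔ Subgroup.zpowers u := by
        intro hmem
        have hn : W ⊔ Subgroup.zpowers u ≤ U := sup_le hWU (Subgroup.zpowers_le.mpr huU)
        have hcase : ∀ y ∈ W ⊔ Subgroup.zpowers u, y ∈ W ∨ y * u ∈ W := by
          let K : Subgroup G :=
            { carrier := {y | y ∈ U ∧ (y ∈ W ∨ y * u ∈ W)}
              one_mem' := ⟨one_mem _, Or.inl (one_mem _)⟩
              mul_mem' := fun {x y} hx hy => by
                refine ⟨mul_mem hx.1 hy.1, ?_⟩
                rcases hx.2 with h1 | h1 <;> rcases hy.2 with h2 | h2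
                · exact Or.inl (mul_mem h1 h2)
                · exact Or.inr (by rw [mul_assoc]; exact mul_mem h1 h2)
                · exact Or.inr (by rw [mul_assoc, h.comm hy.1 huU, ← mul_assoc]; exact mul_mem h1 h2)
                · refine Or.inl ?_
                  have := mul_mem h1 h2
                  rwa [mul_assoc, h.comm hy.1 huU, ← mul_assoc u, h.sq u huU, one_mul] at this
              inv_mem' := fun {x} hx => by
                rw [Set.mem_setOf_eq, inv_eq_of_mul_eq_one_right (h.sq x hx.1)]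
                exact hx }
          have hle : W ⊔ Subgroup.zpowers u ≤ K := sup_le (fun y hy => ⟨hWU hy, Or.inl hy⟩)
            (Subgroup.zpowers_le.mpr ⟨huU, Or.inr (by rw [h.sq u huU]; exact one_mem _)⟩)
          exact fun y hy => (hle hy).2
        rcases hcase v hmem with h1 | h1
        · exact hvW h1
        · rw [hudef, ← mul_assoc, h.comm hga htU, mul_assoc, h.sq v hga, mul_one] at h1
          exact htW h1
      obtain ⟨q, hq, hqW, hqv⟩ := h.exists_move huU hu1 hWU (h.le_qOf huU hu1 hga) hvWu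
      refine ⟨q * g, mul_mem (hqL u huU hu1 hq) hg, fun w hw hwl => ?_⟩
      have e : q * g * w * (q * g)⁻¹ = q * (g * w * g⁻¹) * q⁻¹ := by group
      rw [e]
      rcases List.mem_cons.mp hwl with rfl | hwl
      · rw [← hv, hqv, hudef, mul_assoc, h.sq v hga, mul_one]
      · rw [hgl w hw hwl]
        exact mul_inv_eq_iff_eq_mul.mpr (hqW _ (Subgroup.subset_closure ⟨w, hw, hwl, rfl⟩))
  haveI : Fintype ↥U := Fintype.ofFinite _
  obtain ⟨g, hg, hgw⟩ := key ((Finset.univ : Finset ↥U).toList.map Subtype.val) (fun w hw => by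
    obtain ⟨w, -, rfl⟩ := List.mem_map.mp hw
    exact w.2)
  exact ⟨g, hg, fun u => hgw u u.2 (List.mem_map.mpr ⟨u, by simp, rfl⟩)⟩

end Cfsg.Agent.S5596
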