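import Cfsg.Statements.S5597
import Cfsg.Agent.Lib.LargeExtra.Singular

set_option autoImplicit false
open Cfsg
open scoped commutatorElement Pointwise

namespace Cfsg.Agent.S5597

/-- Setting: `z` is an involution of the finite group `G`; for each element `x`, `Q x` is the largest normal 2-subgroup of the centralizer of `x`; `Q z` is extraspecial and contains its own centralizer in `G`. A subgroup `U` is singular when it is elementary abelian, every non-identity element of `U` is conjugate to `z`, and any two non-identity elements `u`, `v` of `U` are orthogonal (`v ∈ Q u`). Write `QU` for the intersection of the `Q u` and `LU` for the join of the `Q u` over the non-identity `u` in `U`. If `U` is a non-trivial singular subgroup, then `LU` acts trivially on `QU / U` (every commutator of an element of `LU` with an element of `QU` lies in `U`), and for every `x` in `QU` outside `U` the centralizer of `U` in `LU` permutes the coset `x U` transitively: each `x u` with `u ∈ U` is a conjugate of `x` by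 an element of `LU` centralizing `U`. -/
theorem result {G : Type*} [Group G] [Finite G]
    (Q : G → Subgroup G)
    (hQ : ∀ x : G, Q x = (Cfsg.pCore 2 ↥(Subgroup.centralizer ({x} : Set G))).map (Subgroup.centralizer ({x} : Set G)).subtype)
    (z : G) (hz : orderOf z = 2) (hE : Cfsg.IsExtraspecial 2 ↥(Q z))
    (hC : Subgroup.centralizer ((Q z : Subgroup G) : Set G) ≤ Q z)
    (U : Subgroup G) (hU2 : ∀ u ∈ U, u * u = 1)
    (hS : ∀ u ∈ U, u ≠ 1 → ∃ g : G, g * z * g⁻¹ = u)
    (hO : ∀ u ∈ U, ∀ v ∈ U, u ≠ 1 → v ≠ 1 → v ∈ Q u)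
    (QU LU : Subgroup G) (hQU : QU = ⨅ u ∈ ((U : Set G) \ {1}), Q u) (hLU : LU = ⨆ u ∈ ((U : Set G) \ {1}), Q u)
    (hU : U ≠ ⊥) :
    (∀ g ∈ LU, ∀ x ∈ QU, g * x * g⁻¹ * x⁻¹ ∈ U) ∧
      ∀ x ∈ QU, x ∉ U → ∀ u ∈ U, ∃ g ∈ LU ⊓ Subgroup.centralizer (U : Set G), g * x * g⁻¹ = x * u := by
  have h := CfsgLib.Singular39.Sing.of_setting hQ hz hE hC hU2 hS hO
  subst hQU hLU
  simp only [hQ]
  set QU := ⨅ u ∈ ((U : Set G) \ {1}), CfsgLib.Singular39.qOf u with hQU
  have hmemQ : ∀ {x : G}, x ∈ QU → ∀ u ∈ U, u ≠ 1 → x ∈ CfsgLib.Singular39.qOf u := fun {x} hx u hu h1 =>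
    (Subgroup.mem_iInf.mp (Subgroup.mem_iInf.mp hx u) ⟨hu, h1⟩)
  have hUQ : U ≤ QU := le_iInf₂ fun u hu => h.le_qOf hu.1 hu.2
  refine ⟨fun g hg => ?_, ?_⟩
  · -- the set of elements acting trivially on `QU / U`
    let S : Subgroup G :=
      { carrier := {g | g ∈ Subgroup.normalizer (U : Set G) ∧ ∀ x ∈ QU, g * x * g⁻¹ * x⁻¹ ∈ U}
        one_mem' := ⟨one_mem _, fun x _ => by simp⟩
        mul_mem' := fun {a b} ha hb => ⟨mul_mem ha.1 hb.1, fun x hx => by
          have h1 := hb.2 x hx
          have h2 : b * x * b⁻¹ ∈ QU := by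
            have := mul_mem (hUQ h1) hx
            simpa using this
          have := mul_mem (ha.2 _ h2) h1
          convert this using 1
          group⟩
        inv_mem' := fun {a} ha => by
          refine ⟨inv_mem ha.1, fun x hx => ?_⟩
          -- conjugate by `a⁻¹` the membership for `a`
          have h1 := ha.2 x hx
          have h2 := (Subgroup.mem_normalizer_iff.mp (inv_mem ha.1) _).mp h1
          have h3 := inv_mem h2
          convert h3 using 1
          group }
    have hle : (⨆ u ∈ ((U : Set G) \ {1}), CfsgLib.Singular39.qOf u) ≤ S := by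
      refine iSup₂_le fun u hu q hq => ⟨h.qOf_le_normalizer hu.1 hu.2 hq, fun x hx => ?_⟩
      rcases (h.point u hu.1 hu.2).conj_cases hq (hmemQ hx u hu.1 hu.2) with e | e
      · rw [e, mul_inv_cancel]; exact one_mem _
      · rw [e, mul_inv_cancel_right]; exact hu.1
    exact (hle hg).2
  · intro x hx hxU u hu
    set LU := ⨆ u ∈ ((U : Set G) \ {1}), CfsgLib.Singular39.qOf u with hLU
    by_cases hu1 : u = 1
    · exact ⟨1, one_mem _, by simp [hu1]⟩
    obtain ⟨q, hq, hqc, hqx⟩ := h.exists_move hu hu1 le_rfl (hmemQ hx u hu hu1)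
      (fun e => hxU ((sup_le le_rfl (Subgroup.zpowers_le.mpr hu)) e))
    refine ⟨q, ⟨(le_iSup₂ (f := fun u (_ : u ∈ ((U : Set G) \ {1})) => CfsgLib.Singular39.qOf u) u ⟨hu, hu1⟩) hq,
      Subgroup.mem_centralizer_iff.mpr fun w hw => (hqc w hw).symm⟩, ?_⟩
    rw [hqx]
    exact ((h.point u hu hu1).comm_z (hmemQ hx u hu hu1)).symm

end Cfsg.Agent.S5597
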