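import Cfsg.Statements.S5599
import Cfsg.Agent.Lib.Golay.M24Group

set_option autoImplicit false
open scoped Pointwise
open Cfsg

namespace Cfsg.Agent.S5599

open CfsgLib.Golay

/-- An element that moves only two points, one inside an octad and one outside, does not preserve the code. -/
theorem key (c : Equiv.Perm Cfsg.GolayPt) (hc : c ∈ Cfsg.M24) (h0 : c none = some 0)
    (hfix : ∀ a, a ≠ none → a ≠ some 0 → c a = a) (o : Finset Cfsg.GolayPt) (ho : o ∈ Cfsg.octads)
    (hn : none ∈ o) (h0o : (some 0 : Cfsg.GolayPt) ∉ o) : False := by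
  have heq : c • o = o := smul_octad_eq hc ho (s := o.erase none)
    (by rw [Finset.card_erase_of_mem hn, card_of_mem_octads ho]; norm_num) (Finset.erase_subset _ _)
    (fun p hp => hfix p (Finset.mem_erase.mp hp).1 (fun e => h0o (e ▸ (Finset.mem_erase.mp hp).2)))
  refine h0o ?_
  rw [← h0, ← heq]
  exact Finset.smul_mem_smul_finset hn

/-- In the automorphism group of the length-24 code, the two-point Mathieu group (permutations of the code's group fixing the extra point and the residue 0) has index 2 in the setwise stabiliser of that pair of points, and an element of the code's group interchanging the two points normalises the two-point group and induces on it, by conjugation, an automorphism that is not inner. -/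
theorem result (g : Equiv.Perm Cfsg.GolayPt) (hg : g ∈ Cfsg.M24) (h₁ : g none = some 0) (h₂ : g (some 0) = none) : Cfsg.Spor.M22.relIndex (Cfsg.M24 ⊓ MulAction.stabilizer (Equiv.Perm Cfsg.GolayPt) ({none, some 0} : Finset Cfsg.GolayPt)) = 2 ∧ (∀ x ∈ Cfsg.Spor.M22, g * x * g⁻¹ ∈ Cfsg.Spor.M22) ∧ ¬ ∃ h ∈ Cfsg.Spor.M22, ∀ x ∈ Cfsg.Spor.M22, g * x * g⁻¹ = h * x * h⁻¹ := by
  obtain ⟨hM, hfix⟩ : (∀ x, x ∈ Cfsg.Spor.M22 ↔ x ∈ fixPts [none, some 0]) ∧ True := by
    refine ⟨fun x => ?_, trivial⟩
    rw [mem_fixPts, Cfsg.Spor.M22, Cfsg.Spor.M23, Subgroup.mem_inf, Subgroup.mem_inf,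
      MulAction.mem_stabilizer_iff, MulAction.mem_stabilizer_iff]
    simp [and_assoc]
  set P := Cfsg.M24 ⊓ MulAction.stabilizer (Equiv.Perm Cfsg.GolayPt) ({none, some 0} : Finset Cfsg.GolayPt) with hP
  have hPmem : ∀ x, x ∈ P ↔ x ∈ Cfsg.M24 ∧
      ((x none = none ∧ x (some 0) = some 0) ∨ (x none = some 0 ∧ x (some 0) = none)) := by
    intro x
    rw [hP, Subgroup.mem_inf]
    refine and_congr_right fun _ => ⟨fun h => ?_, fun h => ?_⟩
    · have h' : x • ({none, some 0} : Finset Cfsg.GolayPt) = {none, some 0} := h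
      have a : x none ∈ ({none, some 0} : Finset Cfsg.GolayPt) :=
        h' ▸ (Finset.smul_mem_smul_finset (by simp) : x • (none : Cfsg.GolayPt) ∈ x • ({none, some 0} : Finset Cfsg.GolayPt))
      have b : x (some 0) ∈ ({none, some 0} : Finset Cfsg.GolayPt) :=
        h' ▸ (Finset.smul_mem_smul_finset (by simp) : x • (some 0 : Cfsg.GolayPt) ∈ x • ({none, some 0} : Finset Cfsg.GolayPt))
      simp only [Finset.mem_insert, Finset.mem_singleton] at a b
      have hne : x none ≠ x (some 0) := fun e => by simpa using x.injective e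
      rcases a with a | a <;> rcases b with b | b <;> simp_all
    · show x • ({none, some 0} : Finset Cfsg.GolayPt) = {none, some 0}
      rw [Finset.smul_finset_insert, Finset.smul_finset_singleton, Equiv.Perm.smul_def, Equiv.Perm.smul_def]
      rcases h with ⟨a, b⟩ | ⟨a, b⟩ <;> rw [a, b]
      exact Finset.pair_comm _ _
  have hle : Cfsg.Spor.M22 ≤ P := fun x hx => by
    have hx' := mem_fixPts.mp ((hM x).mp hx)
    exact (hPmem x).mpr ⟨hx'.1, Or.inl ⟨hx'.2 none (by simp), hx'.2 (some 0) (by simp)⟩⟩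
  refine ⟨?_, ?_, ?_⟩
  · have hgP : g ∈ P := (hPmem g).mpr ⟨hg, Or.inr ⟨h₁, h₂⟩⟩
    rw [Subgroup.relIndex, Subgroup.index_eq_two_iff]
    refine ⟨⟨g, hgP⟩, fun b => ?_⟩
    obtain ⟨hb, hb'⟩ := (hPmem b).mp b.2
    have k1 : (b : Equiv.Perm Cfsg.GolayPt) ∈ Cfsg.Spor.M22 ↔
        ((b : Equiv.Perm Cfsg.GolayPt) none = none ∧ (b : Equiv.Perm Cfsg.GolayPt) (some 0) = some 0) := by
      rw [hM, mem_fixPts]
      simp [hb]
    have k2 : (b : Equiv.Perm Cfsg.GolayPt) * g ∈ Cfsg.Spor.M22 ↔
        ((b : Equiv.Perm Cfsg.GolayPt) none = some 0 ∧ (b : Equiv.Perm Cfsg.GolayPt) (some 0) = none) := by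
      rw [hM, mem_fixPts]
      simp [mul_mem hb hg, h₁, h₂, and_comm]
    rw [Subgroup.mem_subgroupOf, Subgroup.mem_subgroupOf, Subgroup.coe_mul, k1, k2]
    rcases hb' with ⟨a, c⟩ | ⟨a, c⟩ <;> simp [Xor', a, c]
  · intro x hx
    have hx' := mem_fixPts.mp ((hM x).mp hx)
    refine (hM _).mpr (mem_fixPts.mpr ⟨mul_mem (mul_mem hg hx'.1) (inv_mem hg), fun p hp => ?_⟩)
    have e1 : g⁻¹ none = some 0 := by rw [Equiv.Perm.inv_eq_iff_eq, h₂]
    have e2 : g⁻¹ (some 0) = none := by rw [Equiv.Perm.inv_eq_iff_eq, h₁]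
    simp only [List.mem_cons, List.not_mem_nil, or_false] at hp
    rcases hp with rfl | rfl
    · rw [Equiv.Perm.mul_apply, Equiv.Perm.mul_apply, e1, hx'.2 (some 0) (by simp), h₂]
    · rw [Equiv.Perm.mul_apply, Equiv.Perm.mul_apply, e2, hx'.2 none (by simp), h₁]
  · rintro ⟨h, hh, hconj⟩
    have hh' := mem_fixPts.mp ((hM h).mp hh)
    set c := h⁻¹ * g with hc
    have hcM : c ∈ Cfsg.M24 := mul_mem (inv_mem hh'.1) hg
    have hcc : ∀ x ∈ Cfsg.Spor.M22, c * x = x * c := fun x hx => by
      have := hconj x hx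
      rw [hc, mul_assoc, inv_mul_eq_iff_eq_mul, ← mul_assoc h, ← mul_assoc (h * x),
        ← mul_inv_eq_iff_eq_mul]
      exact (this.symm.trans rfl).symm ▸ rfl
    have hinv : ∀ p ∈ [(none : Cfsg.GolayPt), some 0], h⁻¹ p = p := fun p hp => by
      rw [Equiv.Perm.inv_eq_iff_eq, hh'.2 p hp]
    have hc0 : c none = some 0 := by rw [hc, Equiv.Perm.mul_apply, h₁, hinv _ (by simp)]
    have hc1 : c (some 0) = none := by rw [hc, Equiv.Perm.mul_apply, h₂, hinv _ (by simp)]
    have hfixc : ∀ a, a ≠ none → a ≠ some 0 → c a = a := by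
      intro a ha ha'
      by_contra hne
      have hb1 : c a ≠ none := fun e => ha' (c.injective (e.trans hc1.symm))
      have hb2 : c a ≠ some 0 := fun e => ha (c.injective (e.trans hc0.symm))
      obtain ⟨d, hd⟩ := Finset.card_pos.mp (show 0 < (({none, some 0, a, c a} : Finset Cfsg.GolayPt)ᶜ).card by
        rw [Finset.card_compl, card_golayPt]
        have := Finset.card_le_four (a := (none : Cfsg.GolayPt)) (b := some 0) (c := a) (d := c a)
        omega)
      simp only [Finset.mem_compl, Finset.mem_insert, Finset.mem_singleton, not_or] at hd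
      obtain ⟨d0, d1, d2, d3⟩ := hd
      obtain ⟨x, hx, hxL⟩ := exists_map_eq (L := [none, some 0, a, c a]) (L' := [none, some 0, a, d])
        (by simp [ha.symm, ha'.symm, hb1.symm, hb2.symm, Ne.symm hne])
        (by simp [ha.symm, ha'.symm, Ne.symm d0, Ne.symm d1, Ne.symm d2]) rfl (by simp)
      simp only [List.map_cons, List.map_nil, List.cons.injEq, and_true] at hxL
      have := Equiv.ext_iff.mp (hcc x ((hM x).mpr (mem_fixPts.mpr ⟨hx, by
        intro p hp
        simp only [List.mem_cons, List.not_mem_nil, or_false] at hp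
        rcases hp with rfl | rfl
        exacts [hxL.1, hxL.2.1]⟩))) a
      have this2 : c (x a) = x (c a) := this
      rw [hxL.2.2.1, hxL.2.2.2] at this2
      exact d3 this2.symm
    obtain ⟨o, ⟨ho, hso⟩, -⟩ := isSteinerSystem_octads.2 {none, some 1, some 2, some 3, some 4} (by decide +kernel)
    by_cases h0 : (some 0 : Cfsg.GolayPt) ∈ o
    · obtain ⟨q, hq, hq0⟩ : ∃ q ∈ octads, none ∈ q ∧ (some 0 : Cfsg.GolayPt) ∉ q := by
        obtain ⟨u, hu⟩ := Finset.card_pos.mp (show 0 < oᶜ.card by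
          rw [Finset.card_compl, card_golayPt, card_of_mem_octads ho]; norm_num)
        rw [Finset.mem_compl] at hu
        have hun : u ≠ none := fun e => hu (e ▸ hso (by simp))
        have hu0 : u ≠ some 0 := fun e => hu (e ▸ h0)
        obtain ⟨y, hy, hyL⟩ := exists_map_eq (L := [none, u]) (L' := [none, some 0])
          (by simp [Ne.symm hun]) (by simp) rfl (by simp)
        simp only [List.map_cons, List.map_nil, List.cons.injEq, and_true] at hyL
        refine ⟨y • o, smul_mem_octads hy ho, ?_, ?_⟩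
        · rw [← hyL.1, ← Equiv.Perm.smul_def, Finset.smul_mem_smul_finset_iff]; exact hso (by simp)
        · rw [← hyL.2, ← Equiv.Perm.smul_def, Finset.smul_mem_smul_finset_iff]; exact hu
      exact key c hcM hc0 hfixc q hq hq0.1 hq0.2
    · exact key c hcM hc0 hfixc o ho (hso (by simp)) h0

end Cfsg.Agent.S5599
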