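import Cfsg.Statements.S5600
import Cfsg.Agent.Lib.Golay.SixPoints

set_option autoImplicit false
open scoped Pointwise
open Cfsg

namespace Cfsg.Agent.S5600

open CfsgLib.Golay

/-- Although the group of the length-24 code is only 5-transitive on the 24 points, it induces the full symmetric group on every 6-element subset: every permutation of a 6-set E is the restriction of an element of the group mapping E to itself. The pointwise stabiliser of E has order 16 when E lies in an octad and order 3 otherwise; in the latter case the setwise stabiliser of E has order 2160. -/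
theorem result (E : Finset Cfsg.GolayPt) (hE : E.card = 6) : (∀ σ : Equiv.Perm ↥E, ∃ g ∈ Cfsg.M24, ∀ p : ↥E, g p = σ p) ∧ ((∃ o ∈ Cfsg.octads, E ⊆ o) → Nat.card {g : Equiv.Perm Cfsg.GolayPt // g ∈ Cfsg.M24 ∧ ∀ p ∈ E, g p = p} = 16) ∧ ((¬ ∃ o ∈ Cfsg.octads, E ⊆ o) → Nat.card {g : Equiv.Perm Cfsg.GolayPt // g ∈ Cfsg.M24 ∧ ∀ p ∈ E, g p = p} = 3 ∧ Nat.card ↥(MulAction.stabilizer Cfsg.M24 E) = 2160) := by
  have hnd : E.toList.Nodup := E.nodup_toList
  have hlen : E.toList.length = 6 := by simp [hE]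
  have hin : InOctad E.toList ↔ ∃ o ∈ Cfsg.octads, E ⊆ o := by
    simp [InOctad, Finset.subset_iff]
  have hfix : {g : Equiv.Perm Cfsg.GolayPt | g ∈ Cfsg.M24 ∧ ∀ p ∈ E, g p = p} =
      {g | g ∈ fixPts E.toList} := by
    ext g; simp [mem_fixPts]
  have hcard : Nat.card {g : Equiv.Perm Cfsg.GolayPt // g ∈ Cfsg.M24 ∧ ∀ p ∈ E, g p = p} =
      Nat.card (fixPts E.toList) :=
    Nat.card_congr (Equiv.subtypeEquivRight fun g => by simp [mem_fixPts])
  have hsym : ∀ σ : Equiv.Perm ↥E, ∃ g ∈ Cfsg.M24, ∀ p : ↥E, g p = σ p := by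
    intro σ
    let L : List Cfsg.GolayPt := E.toList.attach.map fun p => ((σ ⟨p.1, Finset.mem_toList.mp p.2⟩ : ↥E) : Cfsg.GolayPt)
    have hL : L.Nodup := by
      refine (List.nodup_attach.mpr hnd).map ?_
      intro a b hab
      exact Subtype.ext (congrArg Subtype.val (σ.injective (Subtype.ext hab)) :)
    have hLlen : L.length = 6 := by simp [L, hE]
    have hmem : ∀ x, x ∈ L ↔ x ∈ E := by
      intro x
      constructor
      · intro hx
        obtain ⟨p, -, rfl⟩ := List.mem_map.mp hx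
        exact (σ _).2
      · intro hx
        refine List.mem_map.mpr ⟨⟨(σ.symm ⟨x, hx⟩ : ↥E), Finset.mem_toList.mpr (σ.symm ⟨x, hx⟩).2⟩,
          List.mem_attach _ _, by simp⟩
    obtain ⟨g, hg, hgL⟩ := exists_map_six hnd hL hlen hLlen
      (by simp [InOctad, hmem])
    refine ⟨g, hg, fun p => ?_⟩
    obtain ⟨i, hi, hip⟩ := List.getElem_of_mem (Finset.mem_toList.mpr p.2)
    have h1 : (E.toList.map g)[i]'(by simpa using hi) = L[i]'(by rw [hLlen, ← hlen]; exact hi) :=
      List.getElem_of_eq hgL _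
    simp only [L, List.getElem_map, List.getElem_attach, hip] at h1
    exact h1
  refine ⟨hsym, fun h => hcard.trans ((natCard_fixPts_six hnd hlen).1 (hin.mpr h)), fun h => ?_⟩
  have h3 : Nat.card (fixPts E.toList) = 3 := (natCard_fixPts_six hnd hlen).2 (fun h' => h (hin.mp h'))
  refine ⟨hcard.trans h3, ?_⟩
  let res : ↥(MulAction.stabilizer Cfsg.M24 E) →* Equiv.Perm ↥E :=
    { toFun := fun g => (((g : Cfsg.M24) : Equiv.Perm Cfsg.GolayPt)).subtypePerm (fun x => by
        have hg : ((g : Cfsg.M24) : Equiv.Perm Cfsg.GolayPt) • E = E := g.2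
        have h2 := Finset.smul_mem_smul_finset_iff ((g : Cfsg.M24) : Equiv.Perm Cfsg.GolayPt) (b := x) (s := E)
        rw [hg] at h2
        exact h2)
      map_one' := rfl
      map_mul' := fun a b => rfl }
  have hsurj : Function.Surjective res := by
    intro σ
    obtain ⟨g, hg, hgσ⟩ := hsym σ
    have hgE : g • E = E := by
      ext x
      rw [Finset.mem_smul_finset]
      constructor
      · rintro ⟨p, hp, rfl⟩
        rw [Equiv.Perm.smul_def, hgσ ⟨p, hp⟩]
        exact (σ _).2
      · intro hx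
        refine ⟨(σ.symm ⟨x, hx⟩ : ↥E), (σ.symm ⟨x, hx⟩).2, ?_⟩
        rw [Equiv.Perm.smul_def, hgσ, Equiv.apply_symm_apply]
    exact ⟨⟨⟨g, hg⟩, hgE⟩, Equiv.ext fun p => Subtype.ext (hgσ p)⟩
  have hker : Nat.card res.ker = 3 := by
    rw [← h3]
    refine Nat.card_congr
      { toFun := fun k => ⟨((k : ↥(MulAction.stabilizer Cfsg.M24 E)) : Cfsg.M24), mem_fixPts.mpr
          ⟨((k : ↥(MulAction.stabilizer Cfsg.M24 E)) : Cfsg.M24).2, fun p hp => ?_⟩⟩
        invFun := fun g => ⟨⟨⟨g, (mem_fixPts.mp g.2).1⟩, ?_⟩, ?_⟩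
        left_inv := fun k => rfl
        right_inv := fun g => rfl }
    · have := Equiv.ext_iff.mp (MonoidHom.mem_ker.mp k.2) ⟨p, Finset.mem_toList.mp hp⟩
      exact congrArg Subtype.val this
    · rw [MulAction.mem_stabilizer_iff]
      show (g : Equiv.Perm Cfsg.GolayPt) • E = E
      ext x
      rw [Finset.mem_smul_finset]
      constructor
      · rintro ⟨p, hp, rfl⟩
        rw [Equiv.Perm.smul_def, (mem_fixPts.mp g.2).2 p (Finset.mem_toList.mpr hp)]
        exact hp
      · exact fun hx => ⟨x, hx, (mem_fixPts.mp g.2).2 x (Finset.mem_toList.mpr hx)⟩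
    · rw [MonoidHom.mem_ker]
      exact Equiv.ext fun p => Subtype.ext ((mem_fixPts.mp g.2).2 p (Finset.mem_toList.mpr p.2))
  rw [← Subgroup.card_mul_index res.ker, Subgroup.index_ker, MonoidHom.range_eq_top.mpr hsurj, hker]
  rw [Subgroup.card_top, Nat.card_eq_fintype_card, Fintype.card_perm, Fintype.card_coe, hE]
  rfl

end Cfsg.Agent.S5600
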