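import Cfsg.Statements.S5601
import Cfsg.Agent.Lib.Golay.Classes

set_option autoImplicit false
open scoped Pointwise
open Cfsg
open scoped commutatorElement Pointwise

namespace Cfsg.Agent.S5601

open CfsgLib.Golay

/-- The fixed set of a cyclic subgroup of `M24` is the fixed set of its generator. -/
private theorem ncard_fix_zpowers (x : ↥Cfsg.M24) :
    {p : Cfsg.GolayPt | ∀ y ∈ Subgroup.zpowers x, ((y : ↥Cfsg.M24) : Equiv.Perm Cfsg.GolayPt) p = p}.ncard =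
      (Finset.univ.filter fun p => (x : Equiv.Perm Cfsg.GolayPt) p = p).card := by
  rw [← Set.ncard_coe_finset]
  congr 1
  ext p
  simp only [Set.mem_setOf_eq, Finset.coe_filter, Finset.mem_univ, true_and]
  constructor
  · exact fun h => h x (Subgroup.mem_zpowers x)
  · intro h y hy
    have hle : Subgroup.zpowers x ≤ (MulAction.stabilizer (Equiv.Perm Cfsg.GolayPt) p).comap
        Cfsg.M24.subtype := Subgroup.zpowers_le.mpr h
    exact hle hy

/-- A subgroup of order 3 is generated by an element of order 3. -/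
private theorem exists_gen_three (X : Subgroup ↥Cfsg.M24) (hX : Nat.card X = 3) :
    ∃ x : ↥Cfsg.M24, orderOf (x : Equiv.Perm Cfsg.GolayPt) = 3 ∧ X = Subgroup.zpowers x := by
  haveI : Fact (Nat.Prime 3) := ⟨Nat.prime_three⟩
  obtain ⟨y, hy⟩ := isCyclic_iff_exists_orderOf_eq_natCard.mp (isCyclic_of_prime_card hX)
  refine ⟨y, by rw [Subgroup.orderOf_coe, Subgroup.orderOf_coe, hy, hX], ?_⟩
  refine (Subgroup.eq_of_le_of_card_ge (Subgroup.zpowers_le.mpr y.2) ?_).symm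
  rw [hX, Nat.card_zpowers, Subgroup.orderOf_coe, hy, hX]

private theorem exists_three (r : List ℕ) (hr : genOK r = true)
    (h : Classes.cube r = List.range 24) (h' : r ≠ List.range 24) :
    ∃ X : Subgroup ↥Cfsg.M24, Nat.card X = 3 ∧
      {p : Cfsg.GolayPt | ∀ y ∈ X, ((y : ↥Cfsg.M24) : Equiv.Perm Cfsg.GolayPt) p = p}.ncard =
        Classes.fixCount r := by
  haveI : Fact (Nat.Prime 3) := ⟨Nat.prime_three⟩
  obtain ⟨σ, hσ, rfl⟩ := exists_perm hr
  have hord : orderOf σ = 3 := by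
    refine orderOf_eq_prime ?_ fun e => h' (by rw [e, toList_one])
    apply toList_injective
    rw [pow_three, toList_mul, toList_mul, toList_one]
    exact h
  refine ⟨Subgroup.zpowers ⟨σ, hσ⟩, ?_, ?_⟩
  · rw [Nat.card_zpowers, ← Subgroup.orderOf_coe]; exact hord
  · rw [ncard_fix_zpowers, Classes.card_fixed]

/-- The group of the length-24 code has exactly two conjugacy classes of subgroups of order 3: a subgroup of order 3 fixes either exactly 6 of the 24 points or none of them, both cases occur, and two subgroups of order 3 with the same number of fixed points are conjugate. -/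
theorem result : (∀ X : Subgroup ↥Cfsg.M24, Nat.card X = 3 → {p : Cfsg.GolayPt | ∀ x ∈ X, ((x : ↥Cfsg.M24) : Equiv.Perm Cfsg.GolayPt) p = p}.ncard = 6 ∨ {p : Cfsg.GolayPt | ∀ x ∈ X, ((x : ↥Cfsg.M24) : Equiv.Perm Cfsg.GolayPt) p = p}.ncard = 0) ∧ (∃ X : Subgroup ↥Cfsg.M24, Nat.card X = 3 ∧ {p : Cfsg.GolayPt | ∀ x ∈ X, ((x : ↥Cfsg.M24) : Equiv.Perm Cfsg.GolayPt) p = p}.ncard = 6) ∧ (∃ X : Subgroup ↥Cfsg.M24, Nat.card X = 3 ∧ {p : Cfsg.GolayPt | ∀ x ∈ X, ((x : ↥Cfsg.M24) : Equiv.Perm Cfsg.GolayPt) p = p}.ncard = 0) ∧ ∀ X Y : Subgroup ↥Cfsg.M24, Nat.card X = 3 → Nat.card Y = 3 → {p : Cfsg.GolayPt | ∀ x ∈ X, ((x : ↥Cfsg.M24) : Equiv.Perm Cfsg.GolayPt) p = p}.ncard = {p : Cfsg.GolayPt | ∀ x ∈ Y, ((x : ↥Cfsg.M24) : Equiv.Perm Cfsg.GolayPt) p = p}.ncard → ∃ k : ↥Cfsg.M24, MulAut.conj k • X = Y := by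
  open CfsgLib.Golay in
  refine ⟨fun X hX => ?_, ?_, ?_, fun X Y hX hY he => ?_⟩
  · obtain ⟨x, hx, rfl⟩ := exists_gen_three X hX
    rw [ncard_fix_zpowers]
    rcases Classes.three_cases x.2 hx with ⟨h, -⟩ | ⟨h, -⟩
    · exact Or.inl h
    · exact Or.inr h
  · obtain ⟨X, h1, h2⟩ := exists_three Classes.thrSix Classes.genOK_reps.2.2.1 (by decide +kernel)
      (by decide +kernel)
    exact ⟨X, h1, h2.trans Classes.fixCount_reps.2.2.1⟩
  · obtain ⟨X, h1, h2⟩ := exists_three Classes.thrFree Classes.genOK_reps.2.2.2.1 (by decide +kernel)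
      (by decide +kernel)
    exact ⟨X, h1, h2.trans Classes.fixCount_reps.2.2.2⟩
  · obtain ⟨x, hx, rfl⟩ := exists_gen_three X hX
    obtain ⟨y, hy, rfl⟩ := exists_gen_three Y hY
    rw [ncard_fix_zpowers, ncard_fix_zpowers] at he
    have hr : ∃ (g g' : Equiv.Perm Cfsg.GolayPt) (hg : g ∈ Cfsg.M24) (hg' : g' ∈ Cfsg.M24),
        g * (x : Equiv.Perm Cfsg.GolayPt) * g⁻¹ = g' * (y : Equiv.Perm Cfsg.GolayPt) * g'⁻¹ := by
      rcases Classes.three_cases x.2 hx with ⟨h1, g, hg, hl⟩ | ⟨h1, g, hg, hl⟩ <;>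
        rcases Classes.three_cases y.2 hy with ⟨h2, g', hg', hl'⟩ | ⟨h2, g', hg', hl'⟩
      · exact ⟨g, g', hg, hg', toList_injective (hl.trans hl'.symm)⟩
      · omega
      · omega
      · exact ⟨g, g', hg, hg', toList_injective (hl.trans hl'.symm)⟩
    obtain ⟨g, g', hg, hg', hgg⟩ := hr
    refine ⟨⟨g', hg'⟩⁻¹ * ⟨g, hg⟩, ?_⟩
    show (Subgroup.zpowers x).map (MulAut.conj (⟨g', hg'⟩⁻¹ * ⟨g, hg⟩ : ↥Cfsg.M24)).toMonoidHom = _
    rw [MonoidHom.map_zpowers]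
    congr 1
    apply Subtype.ext
    show g'⁻¹ * g * (x : Equiv.Perm Cfsg.GolayPt) * (g'⁻¹ * g)⁻¹ = _
    rw [show g'⁻¹ * g * (x : Equiv.Perm Cfsg.GolayPt) * (g'⁻¹ * g)⁻¹ =
      g'⁻¹ * (g * x * g⁻¹) * g' by group, hgg]
    group

end Cfsg.Agent.S5601
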