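import Cfsg.Statements.S5607
import Cfsg.Agent.Lib.Golay.FixedConfigs

set_option autoImplicit false
open scoped Pointwise
open Cfsg
open scoped commutatorElement Pointwise

namespace Cfsg.Agent.S5607

open CfsgLib.Golay CfsgLib.Golay.Classes

set_option maxRecDepth 20000


/-- The six points of the chain. -/
def sixPos : List ℕ := [23,0,14,17,1,2]

/-- The octad through them. -/
def sixOctad : ℕ := 47

/-- Commuting elements carrying the extra point to each point. -/
def tr1 : List (List ℕ) :=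
  [
    [23,1,2,3,4,5,10,15,8,21,6,11,18,13,17,7,22,14,12,20,19,9,16,0],
    [2,0,23,14,6,17,11,18,10,22,13,20,9,19,5,16,7,3,15,8,4,12,21,1],
    [1,0,23,14,6,17,13,16,10,12,11,20,15,19,3,18,21,5,9,4,8,22,7,2],
    [5,0,23,14,6,17,4,12,10,16,8,20,21,19,2,22,15,1,7,13,11,18,9,3],
    [8,0,23,14,6,17,3,21,10,15,5,20,12,19,13,7,16,11,22,2,1,9,18,4],
    [3,0,23,14,6,17,8,22,10,18,4,20,7,19,1,12,9,2,21,11,13,16,15,5],
    [10,0,23,14,1,17,15,18,2,22,21,5,4,3,20,16,8,19,11,7,9,12,13,6],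
    [9,0,23,14,1,17,20,8,2,4,19,5,22,3,15,13,18,21,12,6,10,11,16,7],
    [4,0,23,14,6,17,5,7,10,9,3,20,22,19,11,21,18,13,12,1,2,15,16,8],
    [7,0,23,14,1,17,19,13,2,11,20,5,12,3,21,8,16,15,22,10,6,4,18,9],
    [6,0,23,14,1,17,21,16,2,12,15,5,11,3,19,18,13,20,4,9,7,22,8,10],
    [13,0,23,14,6,17,1,9,10,7,2,20,18,19,8,15,22,4,16,5,3,21,12,11],
    [16,0,23,14,4,17,19,5,8,3,20,13,9,11,18,2,7,22,15,10,6,1,21,12],
    [11,0,23,14,6,17,2,15,10,21,1,20,16,19,4,9,12,8,18,3,5,7,22,13],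
    [17,1,2,3,4,5,19,9,8,7,20,11,16,13,23,21,12,0,22,6,10,15,18,14],
    [21,0,23,14,1,17,6,4,2,8,10,5,18,3,7,11,22,9,16,20,19,13,12,15],
    [12,0,23,14,4,17,20,2,8,1,19,13,15,11,22,5,21,18,9,6,10,3,7,16],
    [14,1,2,3,4,5,20,21,8,15,19,11,22,13,0,9,18,23,16,10,6,7,12,17],
    [22,0,23,14,4,17,10,3,8,5,6,13,7,11,12,1,9,16,21,19,20,2,15,18],
    [20,0,23,14,1,17,9,12,2,16,7,5,13,3,10,22,11,6,8,21,15,18,4,19],
    [19,0,23,14,1,17,7,22,2,18,9,5,8,3,6,12,4,10,13,15,21,16,11,20],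
    [15,0,23,14,1,17,10,11,2,13,6,5,16,3,9,4,12,7,18,19,20,8,22,21],
    [18,0,23,14,4,17,6,1,8,2,10,13,21,11,16,3,15,12,7,20,19,5,9,22],
    [0,1,2,3,4,5,6,7,8,9,10,11,12,13,14,15,16,17,18,19,20,21,22,23]]

/-- Second level. -/
def tr2 : List (List ℕ) :=
  [
    [0,1,2,3,4,5,6,7,8,9,10,11,12,13,14,15,16,17,18,19,20,21,22,23],
    [0,1,2,5,6,3,16,13,10,11,12,20,15,19,17,8,21,14,9,22,18,4,7,23]]

/-- Third level. -/
def tr3 : List (List ℕ) :=
  [
    [0,1,2,3,4,5,6,7,8,9,10,11,12,13,14,15,16,17,18,19,20,21,22,23],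
    [0,2,1,5,4,3,20,9,8,7,19,11,18,13,14,21,22,17,12,10,6,15,16,23],
    [0,3,5,1,4,2,10,21,8,15,6,11,16,13,14,9,12,17,22,20,19,7,18,23],
    [0,4,8,11,1,13,6,16,2,12,10,3,9,5,14,22,7,17,21,19,20,18,15,23],
    [0,5,3,2,4,1,19,15,8,21,20,11,22,13,14,7,18,17,16,6,10,9,12,23],
    [0,6,10,19,7,20,5,11,9,13,3,21,16,15,14,8,12,17,22,2,1,4,18,23],
    [0,7,9,21,4,15,18,1,8,2,22,11,20,13,14,5,19,17,6,16,12,3,10,23],
    [0,8,4,13,1,11,20,12,2,16,19,3,21,5,14,18,15,17,9,10,6,22,7,23],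
    [0,9,7,15,4,21,12,2,8,1,16,11,6,13,14,3,10,17,20,22,18,5,19,23],
    [0,10,6,20,7,19,1,13,9,11,2,21,22,15,14,4,18,17,16,3,5,8,12,23],
    [0,11,13,4,1,8,10,18,2,22,6,3,7,5,14,12,9,17,15,20,19,16,21,23],
    [0,12,16,22,1,18,9,8,2,4,7,3,6,5,14,11,10,17,20,15,21,13,19,23],
    [0,13,11,8,1,4,19,22,2,18,20,3,15,5,14,16,21,17,7,6,10,12,9,23],
    [0,15,21,9,4,7,16,5,8,3,12,11,10,13,14,1,6,17,19,18,22,2,20,23],
    [0,16,12,18,1,22,21,4,2,8,15,3,20,5,14,13,19,17,6,7,9,11,10,23],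
    [0,18,22,16,1,12,15,11,2,13,21,3,19,5,14,8,20,17,10,9,7,4,6,23],
    [0,19,20,6,7,10,3,4,9,8,5,21,12,15,14,13,16,17,18,1,2,11,22,23],
    [0,20,19,10,7,6,2,8,9,4,1,21,18,15,14,11,22,17,12,5,3,13,16,23],
    [0,21,15,7,4,9,22,3,8,5,18,11,19,13,14,2,20,17,10,12,16,1,6,23],
    [0,22,18,12,1,16,7,13,2,11,9,3,10,5,14,4,6,17,19,21,15,8,20,23]]

/-- Pointwise stabiliser of the six points. -/
def fixSixList : List (List ℕ) :=
  [
    [0,1,2,3,4,5,6,7,8,9,10,11,12,13,14,15,16,17,18,19,20,21,22,23],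
    [0,1,2,3,6,5,4,22,20,12,11,10,9,19,14,18,21,17,15,13,8,16,7,23],
    [0,1,2,3,7,5,22,4,15,11,12,9,10,21,14,8,19,17,20,16,18,13,6,23],
    [0,1,2,3,8,5,20,15,4,21,19,13,16,11,14,7,12,17,22,10,6,9,18,23],
    [0,1,2,3,9,5,12,11,21,4,22,7,6,15,14,13,20,17,19,18,16,8,10,23],
    [0,1,2,3,10,5,11,12,19,22,4,6,7,20,14,16,15,17,21,8,13,18,9,23],
    [0,1,2,3,11,5,10,9,13,7,6,4,22,8,14,21,18,17,16,20,19,15,12,23],
    [0,1,2,3,12,5,9,10,16,6,7,22,4,18,14,19,8,17,13,15,21,20,11,23],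
    [0,1,2,3,13,5,19,21,11,15,20,8,18,4,14,9,22,17,12,6,10,7,16,23],
    [0,1,2,3,15,5,18,8,7,13,16,21,19,9,14,4,10,17,6,12,22,11,20,23],
    [0,1,2,3,16,5,21,19,12,20,15,18,8,22,14,10,4,17,11,7,9,6,13,23],
    [0,1,2,3,18,5,15,20,22,19,21,16,13,12,14,6,11,17,4,9,7,10,8,23],
    [0,1,2,3,19,5,13,16,10,18,8,20,15,6,14,12,7,17,9,4,11,22,21,23],
    [0,1,2,3,20,5,8,18,6,16,13,19,21,10,14,22,9,17,7,11,4,12,15,23],
    [0,1,2,3,21,5,16,13,9,8,18,15,20,7,14,11,6,17,10,22,12,4,19,23],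
    [0,1,2,3,22,5,7,6,18,10,9,12,11,16,14,20,13,17,8,21,15,19,4,23]]



/-- Listed commuting elements reach the listed targets and fix the earlier points. -/
def levelOK (fix : List ℕ) (p : ℕ) (tg : List ℕ) (ls : List (List ℕ)) : Bool :=
  (ls.all fun l => genOK l && comp l invFree == comp invFree l && fix.all fun b => l.getD b 0 == b) &&
    ls.map (fun l => l.getD p 0) == tg

theorem level1_ok : levelOK [] 23 (List.range 24) tr1 = true := by decide +kernel

theorem level2_ok : levelOK [23] 14 [14, 17] tr2 = true := by decide +kernel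

theorem level3_ok : levelOK [23, 14] 1
    [1, 2, 3, 4, 5, 6, 7, 8, 9, 10, 11, 12, 13, 15, 16, 18, 19, 20, 21, 22] tr3 = true := by
  decide +kernel

/-- Elements commuting with a given permutation, inside `M24`. -/
def cent (t : Equiv.Perm Cfsg.GolayPt) : Subgroup (Equiv.Perm Cfsg.GolayPt) :=
  Cfsg.M24 ⊓ Subgroup.centralizer {t}

theorem mem_cent {t σ : Equiv.Perm Cfsg.GolayPt} : σ ∈ cent t ↔ σ ∈ Cfsg.M24 ∧ σ * t = t * σ := by
  rw [cent, Subgroup.mem_inf, Subgroup.mem_centralizer_singleton_iff]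

theorem exists_of_levelOK {t : Equiv.Perm Cfsg.GolayPt} (ht : toList t = invFree)
    {fix : List Cfsg.GolayPt} {p : Cfsg.GolayPt} {tg : List ℕ} {ls : List (List ℕ)}
    (h : levelOK (fix.map fun q => (idx q).val) (idx p).val tg ls = true) {q : Cfsg.GolayPt}
    (hq : (idx q).val ∈ tg) :
    ∃ σ ∈ cent t, (∀ b ∈ fix, σ b = b) ∧ σ p = q := by
  simp only [levelOK, Bool.and_eq_true, List.all_eq_true, beq_iff_eq] at h
  obtain ⟨h1, h2⟩ := h
  rw [← h2, List.mem_map] at hq
  obtain ⟨l, hl, hlq⟩ := hq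
  obtain ⟨⟨hg, hc⟩, hfix⟩ := h1 l hl
  obtain ⟨σ, hσ, rfl⟩ := exists_perm hg
  refine ⟨σ, mem_cent.mpr ⟨hσ, toList_injective ?_⟩, fun b hb => ?_, ?_⟩
  · rw [toList_mul, toList_mul, ht]; exact hc
  · have h' := hfix _ (List.mem_map.mpr ⟨b, hb, rfl⟩)
    rw [toList_getD] at h'
    exact idx_injective (Fin.ext h')
  · rw [toList_getD] at hlq
    exact idx_injective (Fin.ext hlq)

theorem key_mem : 1105 ∈ sextetKeys := by decide +kernel

/-- The sextet all of whose tetrads are invariant is unique. -/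
theorem special_unique : (sextetTab.all fun e =>
    !((tets e).all fun m => Nat.beq (pmap invFree m) m) || Nat.beq (sextetKey e) 1105) = true := by
  decide +kernel

theorem special_fixed : (sextetTab.all fun e => !(Nat.beq (sextetKey e) 1105) ||
    (tets e).all fun m => Nat.beq (pmap invFree m) m) = true := by
  decide +kernel

/-- The special sextet. -/
noncomputable def S0 : Finset (Finset Cfsg.GolayPt) := sextetOfKey 1105

theorem fixed_tetrads {t : Equiv.Perm Cfsg.GolayPt} (ht : toList t = invFree) :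
    ∀ m ∈ S0, t • m = m := by
  obtain ⟨e, he, hk⟩ := exists_tab_of_mem_keys key_mem
  intro m hm
  rw [S0, ← hk, ← tets_toFinset he, List.mem_toFinset, List.mem_map] at hm
  obtain ⟨n, hn, rfl⟩ := hm
  have h := List.all_eq_true.mp special_fixed e he
  rw [Bool.or_eq_true, hk] at h
  rcases h with h | h
  · simp at h
  · rw [smul_decS t (tets_lt hn), ht, Nat.eq_of_beq_eq_true (List.all_eq_true.mp h n hn)]

theorem smul_S0 {t σ : Equiv.Perm Cfsg.GolayPt} (ht : toList t = invFree) (hσ : σ ∈ cent t) :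
    σ • S0 = S0 := by
  obtain ⟨hσ, hc⟩ := mem_cent.mp hσ
  have hS := smul_mem_sextets hσ (sextetOfKey_mem key_mem)
  obtain ⟨k, hk, hks⟩ := sextets_eq.le hS
  obtain ⟨e, he, rfl⟩ := exists_tab_of_mem_keys hk
  have h := List.all_eq_true.mp special_unique e he
  rw [Bool.or_eq_true] at h
  rcases h with h | h
  · exfalso
    rw [Bool.not_eq_true', ← Bool.not_eq_true] at h
    apply h
    rw [List.all_eq_true]
    intro n hn
    have hn' : decS n ∈ σ • S0 := by
      rw [S0, ← hks, ← tets_toFinset he, List.mem_toFinset]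
      exact List.mem_map.mpr ⟨n, hn, rfl⟩
    obtain ⟨m, hm, hmn⟩ := Finset.mem_smul_finset.mp hn'
    have h2 : t • decS n = decS n := by
      rw [← hmn, smul_smul, ← hc, ← smul_smul, fixed_tetrads ht m hm]
    have h3 := congrArg encS h2
    rw [encS_smul, ht, encS_decS (tets_lt hn)] at h3
    rw [h3]
    exact Nat.beq_refl _
  · rw [S0, ← hks, Nat.eq_of_beq_eq_true h]

/-- The tetrad at the extra point. -/
def tet0 : Finset Cfsg.GolayPt := {none, some 0, some 14, some 17}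

theorem tet0_mem : tet0 ∈ S0 := by
  rw [S0, mem_sextetOfKey]
  exact ⟨by decide +kernel, by decide +kernel⟩

theorem smul_tet0 {t σ : Equiv.Perm Cfsg.GolayPt} (ht : toList t = invFree) (hσ : σ ∈ cent t)
    (h : σ none = none) : σ • tet0 = tet0 := by
  have hS0 : S0 ∈ Cfsg.sextets := sextetOfKey_mem key_mem
  have h1 : σ • tet0 ∈ S0 := by
    have h' := Finset.smul_mem_smul_finset (a := σ) tet0_mem
    rwa [smul_S0 ht hσ] at h'
  by_contra hne
  have ho := hS0.2.2 _ h1 _ tet0_mem hne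
  have hcard := Finset.card_union_add_card_inter (σ • tet0) tet0
  rw [card_of_mem_octads ho, hS0.2.1 _ h1, hS0.2.1 _ tet0_mem] at hcard
  have h2 : (none : Cfsg.GolayPt) ∈ σ • tet0 ∩ tet0 :=
    Finset.mem_inter.mpr ⟨Finset.mem_smul_finset.mpr ⟨none, by simp [tet0], h⟩, by simp [tet0]⟩
  have := Finset.card_pos.mpr ⟨_, h2⟩
  omega

theorem apply_comm {t σ : Equiv.Perm Cfsg.GolayPt} (hσ : σ ∈ cent t) (p : Cfsg.GolayPt) :
    σ (t p) = t (σ p) :=
  congrArg (fun e : Equiv.Perm Cfsg.GolayPt => e p) (mem_cent.mp hσ).2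

theorem apply_of_rep {t : Equiv.Perm Cfsg.GolayPt} (ht : toList t = invFree) (p q : Cfsg.GolayPt)
    (h : invFree.getD (idx p).val 0 = (idx q).val) : t p = q := by
  rw [← ht, toList_getD] at h
  exact idx_injective (Fin.ext h)

theorem natCard_cent {t : Equiv.Perm Cfsg.GolayPt} (ht : toList t = invFree) :
    Nat.card (cent t) = 7680 := by
  have t0 : t none = some 0 := apply_of_rep ht _ _ (by decide +kernel)
  have t14 : t (some 14) = some 17 := apply_of_rep ht _ _ (by decide +kernel)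
  have t1 : t (some 1) = some 2 := apply_of_rep ht _ _ (by decide +kernel)
  let H1 : Subgroup (Equiv.Perm Cfsg.GolayPt) :=
    cent t ⊓ MulAction.stabilizer (Equiv.Perm Cfsg.GolayPt) (none : Cfsg.GolayPt)
  let H2 : Subgroup (Equiv.Perm Cfsg.GolayPt) :=
    H1 ⊓ MulAction.stabilizer (Equiv.Perm Cfsg.GolayPt) (some 14 : Cfsg.GolayPt)
  let H3 : Subgroup (Equiv.Perm Cfsg.GolayPt) :=
    H2 ⊓ MulAction.stabilizer (Equiv.Perm Cfsg.GolayPt) (some 1 : Cfsg.GolayPt)
  have e1 : Nat.card (cent t) = 24 * Nat.card H1 := by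
    rw [← card_golayPt, ← Finset.card_univ]
    refine natCard_eq_ncard_mul_natCard _ _ Finset.univ (fun _ _ => Finset.mem_univ _) fun q _ => ?_
    obtain ⟨σ, hσ, -, hq⟩ := exists_of_levelOK ht (fix := []) (p := none) level1_ok
      (q := q) (List.mem_range.mpr (idx q).isLt)
    exact ⟨σ, hσ, hq⟩
  have e2 : Nat.card H1 = 2 * Nat.card H2 := by
    rw [show (2 : ℕ) = ({some 14, some 17} : Finset Cfsg.GolayPt).card by decide +kernel]
    refine natCard_eq_ncard_mul_natCard _ _ _ (fun σ hσ => ?_) fun q hq => ?_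
    · obtain ⟨hc, h0 : σ none = none⟩ := hσ
      have hm : σ (some 14) ∈ σ • tet0 := Finset.mem_smul_finset.mpr ⟨_, by simp [tet0], rfl⟩
      rw [smul_tet0 ht hc h0] at hm
      simp only [tet0, Finset.mem_insert, Finset.mem_singleton] at hm
      rcases hm with hm | hm | hm | hm
      · exact absurd (σ.injective (hm.trans h0.symm)) (by decide)
      · have h00 : σ (some 0) = some 0 := by rw [← t0, apply_comm hc, h0]
        exact absurd (σ.injective (hm.trans h00.symm)) (by decide +kernel)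
      · simp [hm]
      · simp [hm]
    · obtain ⟨σ, hσ, hf, hq'⟩ := exists_of_levelOK ht (fix := [none]) (p := some 14) level2_ok
        (q := q) (by
          simp only [Finset.mem_insert, Finset.mem_singleton] at hq
          rcases hq with rfl | rfl <;> decide +kernel)
      exact ⟨σ, ⟨hσ, hf none (by simp)⟩, hq'⟩
  have e3 : Nat.card H2 = 20 * Nat.card H3 := by
    rw [show (20 : ℕ) = (Finset.univ \ tet0).card by decide +kernel]
    refine natCard_eq_ncard_mul_natCard _ _ _ (fun σ hσ => ?_) fun q hq => ?_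
    · obtain ⟨⟨hc, h0 : σ none = none⟩, -⟩ := hσ
      rw [Finset.mem_sdiff]
      refine ⟨Finset.mem_univ _, fun hm => ?_⟩
      rw [← smul_tet0 ht hc h0, ← Equiv.Perm.smul_def, Finset.smul_mem_smul_finset_iff] at hm
      revert hm
      decide +kernel
    · obtain ⟨σ, hσ, hf, hq'⟩ := exists_of_levelOK ht (fix := [none, some 14]) (p := some 1) level3_ok
        (q := q) (by revert q; decide +kernel)
      exact ⟨σ, ⟨⟨hσ, hf none (by simp)⟩, hf (some 14) (by simp)⟩, hq'⟩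
  have e4 : Nat.card H3 = 8 := by
    let Z := (fixSixList.filter fun l => comp l invFree == comp invFree l).toFinset
    have hset : (H3 : Set (Equiv.Perm Cfsg.GolayPt)).toFinite.toFinset.image toList = Z := by
      ext l
      simp only [Finset.mem_image, Set.Finite.mem_toFinset, SetLike.mem_coe, Z, List.mem_toFinset,
        List.mem_filter, beq_iff_eq]
      constructor
      · rintro ⟨σ, ⟨⟨⟨hc, h0 : σ none = none⟩, h14 : σ (some 14) = some 14⟩, h1 : σ (some 1) = some 1⟩, rfl⟩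
        refine ⟨mem_fixList (P := [none, some 0, some 14, some 17, some 1, some 2]) (ps := sixPos)
          (by decide +kernel) ?_ (by decide +kernel) ?_, ?_⟩
        · rw [(natCard_fixPts_six (by decide +kernel) rfl).1
            ⟨codeSet sixOctad, codeSet_mem_octads (by decide +kernel), by decide +kernel⟩]
          decide +kernel
        · refine mem_fixPts.mpr ⟨(mem_cent.mp hc).1, fun p hp => ?_⟩
          simp only [List.mem_cons, List.not_mem_nil, or_false] at hp
          rcases hp with rfl | rfl | rfl | rfl | rfl | rfl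
          · exact h0
          · rw [← t0, apply_comm hc, h0]
          · exact h14
          · rw [← t14, apply_comm hc, h14]
          · exact h1
          · rw [← t1, apply_comm hc, h1]
        · rw [← ht, ← toList_mul, ← toList_mul, (mem_cent.mp hc).2]
      · rintro ⟨hl, hc⟩
        have hall : fixListOK sixPos fixSixList = true := by decide +kernel
        rw [fixListOK, Bool.and_eq_true] at hall
        have h := List.all_eq_true.mp hall.2 l hl
        rw [Bool.and_eq_true] at h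
        obtain ⟨σ, hσ, rfl⟩ := exists_perm h.1
        have hf : ∀ p : Cfsg.GolayPt, (idx p).val ∈ sixPos → σ p = p := fun p hp => by
          have h' := Nat.eq_of_beq_eq_true (List.all_eq_true.mp h.2 _ hp)
          rw [toList_getD] at h'
          exact idx_injective (Fin.ext h')
        exact ⟨σ, ⟨⟨⟨mem_cent.mpr ⟨hσ, toList_injective (by rw [toList_mul, toList_mul, ht]; exact hc)⟩,
          hf _ (by decide +kernel)⟩, hf _ (by decide +kernel)⟩, hf _ (by decide +kernel)⟩, rfl⟩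
    have hcard := congrArg Finset.card hset
    rw [Finset.card_image_of_injective _ toList_injective, ← Set.ncard_eq_toFinset_card] at hcard
    exact hcard.trans (by decide +kernel)
  rw [e1, e2, e3, e4]

/-- The centraliser of any fixed-point-free involution. -/
theorem main {t g : Equiv.Perm Cfsg.GolayPt} (hg : g ∈ Cfsg.M24)
    (h : toList (g * t * g⁻¹) = invFree) :
    Nat.card {c : Equiv.Perm Cfsg.GolayPt // c ∈ Cfsg.M24 ∧ c * t = t * c} = 7680 ∧
    (∀ p q : Cfsg.GolayPt, ∃ c ∈ Cfsg.M24, c * t = t * c ∧ c p = q) ∧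
    ∃ S ∈ Cfsg.sextets, t • S = S ∧ ∀ c ∈ Cfsg.M24, c * t = t * c → c • S = S := by
  set u := g * t * g⁻¹ with hu
  have hiff : ∀ c, (c ∈ Cfsg.M24 ∧ c * t = t * c) ↔ g * c * g⁻¹ ∈ cent u := by
    intro c
    rw [mem_cent, Subgroup.mul_mem_cancel_right _ (inv_mem hg), Subgroup.mul_mem_cancel_left _ hg, hu,
      show g * c * g⁻¹ * (g * t * g⁻¹) = g * (c * t) * g⁻¹ by group,
      show g * t * g⁻¹ * (g * c * g⁻¹) = g * (t * c) * g⁻¹ by group]
    simp
  refine ⟨?_, fun p q => ?_, g⁻¹ • S0, smul_mem_sextets (inv_mem hg) (sextetOfKey_mem key_mem), ?_, ?_⟩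
  · rw [← natCard_cent h]
    exact Nat.card_congr ((MulAut.conj g).toEquiv.subtypeEquiv hiff)
  · obtain ⟨σ, hσ, -, hp⟩ := exists_of_levelOK h (fix := []) (p := none) level1_ok (q := g p)
      (List.mem_range.mpr (idx _).isLt)
    obtain ⟨τ, hτ, -, hq⟩ := exists_of_levelOK h (fix := []) (p := none) level1_ok (q := g q)
      (List.mem_range.mpr (idx _).isLt)
    have hm := mul_mem hτ (inv_mem hσ)
    obtain ⟨h1, h2⟩ := (hiff (g⁻¹ * (τ * σ⁻¹) * g)).mpr (by convert hm using 1; group)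
    refine ⟨_, h1, h2, ?_⟩
    have hs : (Equiv.symm σ) (g p) = none := by rw [← hp]; simp
    simp [hs, hq]
  · have hu' : u • S0 = S0 := by
      refine smul_S0 h (mem_cent.mpr ⟨?_, rfl⟩)
      rw [mem_M24_iff_isPres, h]
      decide +kernel
    conv_rhs => rw [← hu', hu, mul_smul, mul_smul, inv_smul_smul]
  · intro c hc hct
    have hu' := smul_S0 h ((hiff c).mp ⟨hc, hct⟩)
    conv_rhs => rw [← hu', mul_smul, mul_smul, inv_smul_smul]

/-- For a fixed-point-free involution t of the group of the length-24 code: its centraliser in that group has order 7680, is transitive on the 24 points, and is contained, together with t, in the stabiliser of some sextet. -/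
theorem result (t : Equiv.Perm Cfsg.GolayPt) (ht : t ∈ Cfsg.M24) (h₂ : orderOf t = 2) (h₀ : ∀ p, t p ≠ p) : Nat.card {c : Equiv.Perm Cfsg.GolayPt // c ∈ Cfsg.M24 ∧ c * t = t * c} = 7680 ∧ (∀ p q : Cfsg.GolayPt, ∃ c ∈ Cfsg.M24, c * t = t * c ∧ c p = q) ∧ ∃ S ∈ Cfsg.sextets, t • S = S ∧ ∀ c ∈ Cfsg.M24, c * t = t * c → c • S = S := by
  rcases CfsgLib.Golay.Classes.involution_cases ht h₂ with ⟨h, -⟩ | ⟨-, g, hg, hl⟩
  · have h0 : (Finset.univ.filter fun p => t p = p).card = 0 := by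
      simp [Finset.card_eq_zero, Finset.filter_eq_empty_iff, h₀]
    omega
  · exact main hg hl

end Cfsg.Agent.S5607
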