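import Cfsg.Statements.S5608
import Cfsg.Agent.Lib.Golay.Classes

set_option autoImplicit false
open scoped Pointwise
open Cfsg
open scoped commutatorElement Pointwise

namespace Cfsg.Agent.S5608

open CfsgLib.Golay

/-- No involution with a pairing pattern on six generic points commutes with an element fixing them. -/
private theorem cand_not_comm : ((Classes.fixGenList.map (comp Classes.invGenBase)).all fun l =>
    Classes.fixGenList.all fun f => f == List.range 24 || !(comp l f == comp f l)) = true := by
  decide +kernel

/-- If an element of order 3 and an involution of the group of the length-24 code commute, then either the element of order 3 has exactly 6 fixed points and the involution exactly 8, or both are fixed-point-free. -/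
theorem result (x s : Equiv.Perm Cfsg.GolayPt) (hx : x ∈ Cfsg.M24) (hs : s ∈ Cfsg.M24) (h₃ : orderOf x = 3) (h₂ : orderOf s = 2) (hc : Commute x s) : ((Finset.univ.filter fun p => x p = p).card = 6 ∧ (Finset.univ.filter fun p => s p = p).card = 8) ∨ ((Finset.univ.filter fun p => x p = p).card = 0 ∧ (Finset.univ.filter fun p => s p = p).card = 0) := by
  open CfsgLib.Golay in
  haveI : Fact (Nat.Prime 3) := ⟨Nat.prime_three⟩
  have hxs : ∀ p, x (s p) = s (x p) := fun p => congrArg (fun e : Equiv.Perm Cfsg.GolayPt => e p) hc.eq
  rcases Classes.three_cases hx h₃ with ⟨hx6, -⟩ | ⟨hx0, -⟩ <;>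
    rcases Classes.involution_cases hs h₂ with ⟨hs8, -⟩ | ⟨hs0, -⟩
  · exact Or.inl ⟨hx6, hs8⟩
  · exfalso
    have hss : ∀ p, s (s p) = p := fun p => by
      have h2 := pow_orderOf_eq_one s
      rw [h₂, pow_two] at h2
      simpa using congrArg (fun e : Equiv.Perm Cfsg.GolayPt => e p) h2
    have hfree : ∀ p, s p ≠ p := by
      simpa [Finset.card_eq_zero, Finset.filter_eq_empty_iff] using hs0
    set F := Finset.univ.filter fun p => x p = p with hF
    have hsF : ∀ p ∈ F, s p ∈ F := fun p hp => by
      rw [hF, Finset.mem_filter] at hp ⊢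
      exact ⟨Finset.mem_univ _, by rw [hxs, hp.2]⟩
    obtain ⟨a, ha⟩ := Finset.card_pos.mp (by omega : 0 < F.card)
    obtain ⟨b, hb, hb'⟩ := Classes.exists_mem_notMem (t := {a, s a})
      (lt_of_le_of_lt Finset.card_le_two (by omega : 2 < F.card))
    obtain ⟨c, hcF, hc'⟩ := Classes.exists_mem_notMem (t := {a, s a, b, s b})
      (lt_of_le_of_lt Finset.card_le_four (by omega : 4 < F.card))
    simp only [Finset.mem_insert, Finset.mem_singleton, not_or] at hb' hc'
    have hL : [a, s a, b, s b, c, s c].Nodup := by
      have hinj : ∀ u v, s u = s v ↔ u = v := fun u v => s.injective.eq_iff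
      have hflip : ∀ u v, u = s v ↔ s u = v := fun u v =>
        ⟨fun e => by rw [e, hss], fun e => by rw [← e, hss]⟩
      simp only [List.nodup_cons, List.mem_cons, List.not_mem_nil, List.nodup_nil, or_false, not_or,
        not_false_iff, and_true]
      grind
    have hxL : x ∈ fixPts [a, s a, b, s b, c, s c] := mem_fixPts.mpr ⟨hx, fun p hp => by
      have hpF : p ∈ F := by
        simp only [List.mem_cons, List.not_mem_nil, or_false] at hp
        rcases hp with rfl | rfl | rfl | rfl | rfl | rfl
        exacts [ha, hsF _ ha, hb, hsF _ hb, hcF, hsF _ hcF]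
      exact (Finset.mem_filter.mp hpF).2⟩
    have hgen : ¬ InOctad [a, s a, b, s b, c, s c] := fun hin => by
      have h16 := (natCard_fixPts_six hL rfl).1 hin
      have hdvd : orderOf (⟨x, hxL⟩ : fixPts [a, s a, b, s b, c, s c]) ∣ 16 := h16 ▸ orderOf_dvd_natCard _
      rw [← Subgroup.orderOf_coe, h₃] at hdvd
      norm_num at hdvd
    obtain ⟨g, hg, hgL⟩ := exists_map_six (L' := genericSix) hL (by decide +kernel) rfl rfl
      (iff_of_false hgen not_inOctad_genericSix)
    have hmap : Subgroup.map (MulAut.conj g).toMonoidHom (fixPts [a, s a, b, s b, c, s c]) =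
        fixPts genericSix := by
      rw [← hgL]
      exact map_conj_fixPts hg _
    have hxg : toList (g * x * g⁻¹) ∈ Classes.fixGenList :=
      Classes.toList_mem_fixGen (hmap ▸ Subgroup.mem_map.mpr ⟨x, hxL, rfl⟩)
    rw [show genericSix = [none, some 0, some 1, some 2, some 3, some 4] from rfl] at hgL
    simp only [List.map_cons, List.map_nil, List.cons.injEq, and_true] at hgL
    obtain ⟨e1, e2, e3, e4, e5, e6⟩ := hgL
    have hconj : ∀ u, (g * s * g⁻¹) (g u) = g (s u) := fun u => by simp
    have hsg : toList (g * s * g⁻¹) ∈ Classes.fixGenList.map (comp Classes.invGenBase) := by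
      refine Classes.mem_coset_list (fun τ hτ => Classes.toList_mem_fixGen hτ)
        Classes.genOK_reps.2.2.2.2.2.1 (mul_mem (mul_mem hg hs) (inv_mem hg)) fun p hp => ?_
      rw [show genericSix = [none, some 0, some 1, some 2, some 3, some 4] from rfl] at hp
      simp only [List.mem_cons, List.not_mem_nil, or_false] at hp
      rcases hp with rfl | rfl | rfl | rfl | rfl | rfl
      · rw [← e1, hconj, e1, e2]; decide +kernel
      · rw [← e2, hconj, hss, e1, e2]; decide +kernel
      · rw [← e3, hconj, e3, e4]; decide +kernel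
      · rw [← e4, hconj, hss, e3, e4]; decide +kernel
      · rw [← e5, hconj, e5, e6]; decide +kernel
      · rw [← e6, hconj, hss, e5, e6]; decide +kernel
    have hcheck := List.all_eq_true.mp (List.all_eq_true.mp cand_not_comm _ hsg) _ hxg
    rw [Bool.or_eq_true, Bool.not_eq_true', beq_iff_eq, beq_eq_false_iff_ne] at hcheck
    rcases hcheck with hcheck | hcheck
    · have h1 : g * x * g⁻¹ = 1 := toList_injective (by rw [hcheck, toList_one])
      have hx1 : x = 1 := by simpa using h1
      simp [hx1] at h₃
    · apply hcheck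
      rw [← toList_mul, ← toList_mul]
      congr 1
      rw [show g * s * g⁻¹ * (g * x * g⁻¹) = g * (s * x) * g⁻¹ by group,
        show g * x * g⁻¹ * (g * s * g⁻¹) = g * (x * s) * g⁻¹ by group, hc.eq]
  · exfalso
    have hx3 : x ^ 3 = 1 := h₃ ▸ pow_orderOf_eq_one x
    have hperm : ∀ p, p ∈ (Finset.univ.filter fun p => s p = p) ↔
        x p ∈ (Finset.univ.filter fun p => s p = p) := fun p => by
      simp only [Finset.mem_filter, Finset.mem_univ, true_and]
      rw [← hxs]
      exact x.injective.eq_iff.symm
    let y : Function.End {p // p ∈ Finset.univ.filter fun p => s p = p} :=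
      fun q => ⟨x q.1, (hperm q.1).mp q.2⟩
    have hy : y ^ 3 ^ 1 = 1 := by
      rw [pow_one, pow_three]
      funext q
      apply Subtype.ext
      show x (x (x q.1)) = q.1
      rw [pow_three] at hx3
      simpa using congrArg (fun e : Equiv.Perm Cfsg.GolayPt => e q.1) hx3
    have hmod := Equiv.Perm.card_fixedPoints_modEq (p := 3) (n := 1) hy
    rw [Fintype.card_coe, hs8] at hmod
    have hfix : Fintype.card (Function.fixedPoints y) = 0 := by
      rw [Fintype.card_eq_zero_iff]
      refine ⟨fun ⟨q, hq⟩ => ?_⟩
      have hmem : q.1 ∈ (Finset.univ.filter fun p => x p = p) :=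
        Finset.mem_filter.mpr ⟨Finset.mem_univ _, congrArg Subtype.val hq⟩
      rw [Finset.card_eq_zero.mp hx0] at hmem
      simp at hmem
    rw [hfix] at hmod
    exact absurd hmod (by decide)
  · exact Or.inr ⟨hx0, hs0⟩

end Cfsg.Agent.S5608
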