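import Cfsg.Statements.S5609
import Cfsg.Agent.Lib.Golay.Trios

set_option autoImplicit false
open scoped Pointwise
open Cfsg

namespace Cfsg.Agent.S5609

open CfsgLib.Golay
open scoped Pointwise

set_option maxRecDepth 20000

/-- Disjoint means no common bit. -/
theorem disjoint_codeSet_iff (a b : ℕ) :
    Disjoint (codeSet a) (codeSet b) ↔ Nat.beq (Nat.land (codeWord a) (codeWord b)) 0 = true := by
  rw [Finset.disjoint_iff_inter_eq_empty, ← encS_injective.eq_iff, encS_inter, encS_codeSet, encS_codeSet,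
    encS_empty]
  exact ⟨fun h => by show Nat.beq (codeWord a &&& codeWord b) 0 = true; rw [h]; rfl, Nat.eq_of_beq_eq_true⟩

/-- Number of common points from the masks. -/
theorem card_inter_codeSet (a b : ℕ) :
    (codeSet a ∩ codeSet b).card = popc (Nat.land (codeWord a) (codeWord b)) := by
  rw [← popc_encS, encS_inter, encS_codeSet, encS_codeSet]
  rfl

theorem base_check : (octKeys.all fun k =>
    (!(Nat.beq (popc (Nat.land (codeWord baseKey) (codeWord k))) 4) ||
      baseDisj.any fun c => Nat.beq (Nat.land (codeWord c) (codeWord k)) 0) &&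
    (!(Nat.beq (popc (Nat.land (codeWord baseKey) (codeWord k))) 2) ||
      ((baseDisj.all fun c => !(Nat.beq (Nat.land (codeWord c) (codeWord k)) 0)) &&
        baseDisj.any fun c => Nat.beq (popc (Nat.land (codeWord c) (codeWord k))) 4))) = true := by
  decide +kernel

/-- The neighbourhood facts at every pair of octads. -/
theorem middle {o o' : Finset Cfsg.GolayPt} (ho : o ∈ Cfsg.octads) (ho' : o' ∈ Cfsg.octads) :
    ((o ∩ o').card = 4 → ∃ c ∈ Cfsg.octads, Disjoint o c ∧ Disjoint c o') ∧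
    ((o ∩ o').card = 2 → (∀ c ∈ Cfsg.octads, Disjoint o c → ¬ Disjoint c o') ∧
      ∃ c ∈ Cfsg.octads, Disjoint o c ∧ (c ∩ o').card = 4) := by
  obtain ⟨g, hg, hgo⟩ := exists_smul_octad_eq ho baseOctad_mem
  obtain ⟨k, hk, hgk⟩ := octads_eq.le (smul_mem_octads hg ho')
  obtain ⟨b4, b2⟩ := Bool.and_eq_true _ _ |>.mp (List.all_eq_true.mp base_check k hk)
  have hback : ∀ c, c ∈ baseDisj → g⁻¹ • codeSet c ∈ Cfsg.octads ∧ Disjoint o (g⁻¹ • codeSet c) := by
    intro c hc
    obtain ⟨hc1, hc2⟩ := List.mem_filter.mp hc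
    refine ⟨smul_mem_octads (inv_mem hg) (codeSet_mem_octads hc1), ?_⟩
    rw [show o = g⁻¹ • baseOctad by rw [← hgo, inv_smul_smul], Finset.disjoint_iff_inter_eq_empty,
      ← Finset.smul_finset_inter, Finset.smul_finset_eq_empty, ← Finset.disjoint_iff_inter_eq_empty,
      ← codeSet_baseKey, disjoint_codeSet_iff]
    exact hc2
  have hcard : (o ∩ o').card = popc (Nat.land (codeWord baseKey) (codeWord k)) := by
    rw [← Finset.card_smul_finset g (o ∩ o'), Finset.smul_finset_inter, hgo, ← hgk, ← codeSet_baseKey,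
      card_inter_codeSet]
  have hinter : ∀ c, ((g⁻¹ • codeSet c) ∩ o').card = popc (Nat.land (codeWord c) (codeWord k)) := fun c => by
    rw [← Finset.card_smul_finset g, Finset.smul_finset_inter, smul_inv_smul, ← hgk, card_inter_codeSet]
  constructor
  · intro h
    rw [hcard] at h
    rw [h] at b4
    simp only [Bool.or_eq_true, List.any_eq_true] at b4
    obtain h4 | ⟨c, hc, hck⟩ := b4
    · simp at h4
    refine ⟨_, (hback c hc).1, (hback c hc).2, ?_⟩
    rw [Finset.disjoint_iff_inter_eq_empty, ← Finset.card_eq_zero, hinter, Nat.eq_of_beq_eq_true hck]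
    rfl
  · intro h
    rw [hcard] at h
    rw [h] at b2
    simp only [Bool.or_eq_true, Bool.and_eq_true, List.all_eq_true, List.any_eq_true] at b2
    obtain h2 | ⟨h1, c, hc, hck⟩ := b2
    · simp at h2
    refine ⟨fun d hd hod hdo => ?_, _, (hback c hc).1, (hback c hc).2, ?_⟩
    · obtain ⟨j, hj, hgd⟩ := octads_eq.le (smul_mem_octads hg hd)
      have hjb : j ∈ baseDisj := by
        refine List.mem_filter.mpr ⟨hj, (disjoint_codeSet_iff _ _).mp ?_⟩
        rw [codeSet_baseKey, hgd, ← hgo, Finset.disjoint_iff_inter_eq_empty, ← Finset.smul_finset_inter,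
          Finset.smul_finset_eq_empty, ← Finset.disjoint_iff_inter_eq_empty]
        exact hod
      have : Disjoint (codeSet j) (codeSet k) := by
        rw [hgd, hgk, Finset.disjoint_iff_inter_eq_empty, ← Finset.smul_finset_inter,
          Finset.smul_finset_eq_empty, ← Finset.disjoint_iff_inter_eq_empty]
        exact hdo
      rw [disjoint_codeSet_iff] at this
      have h1j := h1 j hjb
      rw [this] at h1j
      exact absurd h1j (by decide)
    · rw [hinter]; exact Nat.eq_of_beq_eq_true hck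

theorem adj_iff {x y : ↥Cfsg.octads} :
    (Cfsg.blockGraph Cfsg.octads).Adj x y ↔ Disjoint (x : Finset Cfsg.GolayPt) y := by
  rw [Cfsg.blockGraph, SimpleGraph.fromRel_adj]
  refine ⟨fun h => h.2.elim id fun d => d.symm, fun h => ⟨fun e => ?_, Or.inl h⟩⟩
  subst e
  have h8 := card_of_mem_octads x.2
  rw [disjoint_self.mp h] at h8
  simp at h8

/-- The graph distance between two distinct octads. -/
theorem dist_cases (x y : ↥Cfsg.octads) (hne : x ≠ y) :
    (Cfsg.blockGraph Cfsg.octads).Reachable x y ∧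
    (((x : Finset Cfsg.GolayPt) ∩ y).card = 0 ∧ (Cfsg.blockGraph Cfsg.octads).dist x y = 1 ∨
    ((x : Finset Cfsg.GolayPt) ∩ y).card = 4 ∧ (Cfsg.blockGraph Cfsg.octads).dist x y = 2 ∨
    ((x : Finset Cfsg.GolayPt) ∩ y).card = 2 ∧ (Cfsg.blockGraph Cfsg.octads).dist x y = 3) := by
  obtain ⟨m4, m2⟩ := middle x.2 y.2
  have hadj0 : ∀ u v : ↥Cfsg.octads, ((u : Finset Cfsg.GolayPt) ∩ v).card = 0 →
      (Cfsg.blockGraph Cfsg.octads).Adj u v := fun u v h => by
    rw [adj_iff, Finset.disjoint_iff_inter_eq_empty, ← Finset.card_eq_zero]; exact h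
  have hnadj : ((x : Finset Cfsg.GolayPt) ∩ y).card ≠ 0 → ¬ (Cfsg.blockGraph Cfsg.octads).Adj x y := fun h ha => by
    rw [adj_iff, Finset.disjoint_iff_inter_eq_empty, ← Finset.card_eq_zero] at ha; exact h ha
  rcases card_inter_octads x.2 y.2 (fun e => hne (Subtype.ext e)) with h | h | h
  · exact ⟨(hadj0 x y h).reachable, Or.inl ⟨h, SimpleGraph.dist_eq_one_iff_adj.mpr (hadj0 x y h)⟩⟩
  · obtain ⟨hno, c, hc, hoc, hcc⟩ := m2 h
    obtain ⟨d, hd, hcd, hdy⟩ := (middle hc y.2).1 hcc
    let p : (Cfsg.blockGraph Cfsg.octads).Walk x y :=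
      .cons (v := ⟨c, hc⟩) (adj_iff.mpr hoc) (.cons (v := ⟨d, hd⟩) (adj_iff.mpr hcd)
        (.cons (adj_iff.mpr hdy) .nil))
    refine ⟨p.reachable, Or.inr (Or.inr ⟨h, ?_⟩)⟩
    have hle := SimpleGraph.dist_le p
    have h0 : (Cfsg.blockGraph Cfsg.octads).dist x y ≠ 0 := fun e =>
      hne ((p.reachable.dist_eq_zero_iff).mp e)
    have h1 : (Cfsg.blockGraph Cfsg.octads).dist x y ≠ 1 := fun e =>
      hnadj (by omega) (SimpleGraph.dist_eq_one_iff_adj.mp e)
    have h2 : (Cfsg.blockGraph Cfsg.octads).dist x y ≠ 2 := fun e => by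
      obtain ⟨q, hq⟩ := p.reachable.exists_walk_length_eq_dist
      rw [e] at hq
      match q, hq with
      | .cons (v := v) a (.cons b .nil), _ => exact hno v v.2 (adj_iff.mp a) (adj_iff.mp b)
    have h3 : p.length = 3 := rfl
    omega
  · obtain ⟨c, hc, hoc, hcy⟩ := m4 h
    let p : (Cfsg.blockGraph Cfsg.octads).Walk x y :=
      .cons (v := ⟨c, hc⟩) (adj_iff.mpr hoc) (.cons (adj_iff.mpr hcy) .nil)
    refine ⟨p.reachable, Or.inr (Or.inl ⟨h, ?_⟩)⟩
    have hle := SimpleGraph.dist_le p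
    have h0 : (Cfsg.blockGraph Cfsg.octads).dist x y ≠ 0 := fun e =>
      hne ((p.reachable.dist_eq_zero_iff).mp e)
    have h1 : (Cfsg.blockGraph Cfsg.octads).dist x y ≠ 1 := fun e =>
      hnadj (by omega) (SimpleGraph.dist_eq_one_iff_adj.mp e)
    have h3 : p.length = 2 := rfl
    omega

/-- In the graph on the 759 octads of the length-24 code in which two octads are adjacent when they are disjoint, the graph is connected (of diameter 3) and two distinct octads are at distance 1, 2 or 3 exactly when they meet in 0, 4 or 2 points respectively. -/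
theorem result (o o' : Finset Cfsg.GolayPt) (ho : o ∈ Cfsg.octads) (ho' : o' ∈ Cfsg.octads) (hne : o ≠ o') : (Cfsg.blockGraph Cfsg.octads).Connected ∧ ((Cfsg.blockGraph Cfsg.octads).dist ⟨o, ho⟩ ⟨o', ho'⟩ = 1 ↔ (o ∩ o').card = 0) ∧ ((Cfsg.blockGraph Cfsg.octads).dist ⟨o, ho⟩ ⟨o', ho'⟩ = 2 ↔ (o ∩ o').card = 4) ∧ ((Cfsg.blockGraph Cfsg.octads).dist ⟨o, ho⟩ ⟨o', ho'⟩ = 3 ↔ (o ∩ o').card = 2) := by
  refine ⟨?_, ?_⟩
  · have : Nonempty ↥Cfsg.octads := ⟨⟨o, ho⟩⟩
    refine ⟨fun x y => ?_⟩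
    rcases eq_or_ne x y with rfl | h
    · exact SimpleGraph.Reachable.refl _
    · exact (dist_cases x y h).1
  · obtain ⟨-, h⟩ := dist_cases ⟨o, ho⟩ ⟨o', ho'⟩ (fun e => hne (congrArg Subtype.val e))
    simp only at h
    omega

end Cfsg.Agent.S5609
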