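import Cfsg.Statements.S5615
import Cfsg.Agent.Lib.Golay.OrbitApps

set_option autoImplicit false
open scoped Pointwise
open Cfsg

namespace Cfsg.Agent.S5615

open CfsgLib.Golay
open scoped Pointwise

set_option maxRecDepth 20000

/-- Two generators of the joint stabiliser of the base octad and the reference trio. -/
def pairGens : List (List ℕ) :=
  [[17, 5, 14, 0, 13, 23, 6, 19, 10, 18, 12, 15, 9, 22, 2, 11, 16, 1, 20, 21, 8, 7, 4, 3],
   [17, 23, 3, 5, 11, 0, 12, 10, 22, 21, 13, 16, 19, 8, 2, 7, 15, 14, 6, 18, 4, 20, 9, 1]]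

/-- A search tree through the other fourteen trios of the base octad. -/
def pairCert : List ℕ := [543, 550, 542, 544, 549, 4642, 553, 548, 266792, 551, 4643, 545, 554]

/-- Fixes both the base octad and the reference trio. -/
def fixBoth (l : List ℕ) : Bool := fixOct l && fixTrio l

theorem pairGens_ok : gensOK fixBoth pairGens = true := by decide +kernel

theorem pairCert_ok : dfsOK trioStep pairGens (unpackCert pairCert) [541] = true ∧
    (basePosns.all fun p => Nat.beq p 540 || (reached 541 (unpackCert pairCert)).contains p) = true ∧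
    inTrio baseKey (trioAt baseTrioPos) = true := by
  decide +kernel

theorem fixed_trios : (stab6Lists.all fun l => basePosns.all fun p => trioStep l p p) = true := by
  decide +kernel

/-- The packed sextets with two tetrads inside the base octad. -/
def innerTab : List ℕ := sextetTab.filter fun e => Nat.beq (meetE 8536111 e) 2

/-- The values of a sextet against the trios of the base octad, packed. -/
def trioSig (e : ℕ) : ℕ := (basePosns.map fun p => meetTE (trioAt p) e).foldr (fun v a => Nat.add v (Nat.mul 64 a)) 0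

theorem trioSig_nodup : (innerTab.map trioSig).Nodup := by decide +kernel

theorem baseOctad_mem_baseTrio : baseOctad ∈ baseTrio := by
  rw [← codeSet_baseKey]; exact codeSet_mem_of_inTrio pairCert_ok.2.2

theorem disjCount_self {T : Finset (Finset Cfsg.GolayPt)} (hT : T ∈ Cfsg.trios) (hb : baseOctad ∈ T) :
    invOctTrio.φ T = 2 := by
  show disjCount baseOctad T = 2
  unfold disjCount
  have : T.filter (fun o' => Disjoint baseOctad o') = T.erase baseOctad := by
    ext x
    rw [Finset.mem_filter, Finset.mem_erase]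
    refine ⟨fun ⟨h1, h2⟩ => ⟨?_, h1⟩, fun ⟨h1, h2⟩ => ⟨h2, hT.2.2 _ hb _ h2 (Ne.symm h1)⟩⟩
    rintro rfl
    have h8 := card_of_mem_octads baseOctad_mem
    rw [disjoint_self.mp h2] at h8
    simp at h8
  rw [this, Finset.card_erase_of_mem hb, hT.1]

/-- An octad and one of its trios go to the reference pair. -/
theorem exists_to_base {o : Finset Cfsg.GolayPt} (ho : o ∈ Cfsg.octads) {T : Finset (Finset Cfsg.GolayPt)}
    (hT : T ∈ Cfsg.trios) (hoT : o ∈ T) : ∃ g : Cfsg.M24, g • o = baseOctad ∧ g • T = baseTrio := by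
  obtain ⟨g, hg⟩ := exists_m24_smul (exists_smul_octad_eq ho baseOctad_mem)
  have hb : baseOctad ∈ g • T := hg ▸ Finset.smul_mem_smul_finset hoT
  obtain ⟨u, hu1, hu2⟩ := (invOctTrio.class_facts gensOct_spec classesOctTrio_ok (c := 2) (n := 15)
    (by decide +kernel)).2 _ baseTrio (trios_smul_mem g T hT) (trioOf_mem baseTrioPos_lt)
    (disjCount_self (trios_smul_mem g T hT) hb) (disjCount_self (trioOf_mem baseTrioPos_lt) baseOctad_mem_baseTrio)
  exact ⟨u * g, by rw [mul_smul, hg, hu1], by rw [mul_smul, hu2]⟩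

/-- The other trios of the base octad are conjugate under the joint stabiliser. -/
theorem exists_other {T : Finset (Finset Cfsg.GolayPt)} (hT : T ∈ Cfsg.trios) (hb : baseOctad ∈ T)
    (hne : T ≠ baseTrio) :
    ∃ g : Cfsg.M24, g • baseOctad = baseOctad ∧ g • baseTrio = baseTrio ∧ g • trioOf 541 = T := by
  obtain ⟨p, hp, rfl⟩ := trios_through_base.le (show T ∈ {T | T ∈ Cfsg.trios ∧ baseOctad ∈ T} from ⟨hT, hb⟩)
  have h := List.all_eq_true.mp pairCert_ok.2.1 p hp
  rw [Bool.or_eq_true, List.contains_iff_mem] at h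
  obtain h | h := h
  · exact absurd (congrArg trioOf (Nat.eq_of_beq_eq_true h)) hne
  have hgens := exists_gen (base := ((baseOctad, baseTrio) : Finset Cfsg.GolayPt × Finset (Finset Cfsg.GolayPt)))
    (fixes := fixBoth) (fun g hg => by
      rw [fixBoth, Bool.and_eq_true] at hg
      exact Prod.ext (fixOct_spec g hg.1) (fixTrio_spec g hg.2)) pairGens_ok
  obtain ⟨u, hu⟩ := reached_mem_orbit trioOf trioK.step_spec hgens
    (List.mem_map.mpr ⟨541, List.mem_range.mpr (by norm_num), rfl⟩) pairCert_ok.1 h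
  have hu2 := MulAction.mem_stabilizer_iff.mp u.2
  rw [Prod.smul_mk, Prod.ext_iff] at hu2
  exact ⟨u, hu2.1, hu2.2, hu⟩

/-- Two ordered pairs of distinct trios of one octad are conjugate. -/
theorem exists_two {o : Finset Cfsg.GolayPt} (ho : o ∈ Cfsg.octads) {T₁ T₂ : Finset (Finset Cfsg.GolayPt)}
    (h₁ : T₁ ∈ Cfsg.trios) (h₂ : T₂ ∈ Cfsg.trios) (m₁ : o ∈ T₁) (m₂ : o ∈ T₂) (hne : T₁ ≠ T₂) :
    ∃ g : Cfsg.M24, g • o = baseOctad ∧ g • T₁ = baseTrio ∧ g • T₂ = trioOf 541 := by
  obtain ⟨g, hg1, hg2⟩ := exists_to_base ho h₁ m₁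
  obtain ⟨u, hu1, hu2, hu3⟩ := exists_other (trios_smul_mem g T₂ h₂) (hg1 ▸ Finset.smul_mem_smul_finset m₂)
    (fun e => hne (smul_left_cancel g (hg2.trans e.symm)))
  refine ⟨u⁻¹ * g, ?_, ?_, ?_⟩ <;> rw [mul_smul, inv_smul_eq_iff]
  · rw [hg1, hu1]
  · rw [hg2, hu2]
  · rw [hu3]

theorem sextet_disjoint {S : Finset (Finset Cfsg.GolayPt)} (hS : S ∈ Cfsg.sextets) {t u : Finset Cfsg.GolayPt}
    (ht : t ∈ S) (hu : u ∈ S) (hne : t ≠ u) : Disjoint t u := by
  rw [← Finset.card_union_eq_card_add_card, hS.2.1 t ht, hS.2.1 u hu]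
  exact card_of_mem_octads (hS.2.2 t ht u hu hne)

theorem meet_inner {s : Finset Cfsg.GolayPt} (hs : s ⊆ baseOctad) (h4 : s.card = 4) :
    sextetOfKey (syn (encS s)) ∈ Cfsg.sextets ∧ s ∈ sextetOfKey (syn (encS s)) ∧
      meetCount baseOctad (sextetOfKey (syn (encS s))) = 2 := by
  set s' := baseOctad \ s with hs'
  have h4' : s'.card = 4 := by
    rw [hs', Finset.card_sdiff_of_subset hs, card_of_mem_octads baseOctad_mem, h4]
  have hmem : s ∈ sextetOfKey (syn (encS s)) := mem_sextetOfKey.mpr ⟨h4, rfl⟩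
  have hx : encS s ^^^ encS s' = 8536111 := by
    rw [← encS_symmDiff, show symmDiff s s' = baseOctad from ?_, baseOctad, encS_decS (by norm_num)]
    ext x
    simp only [hs', Finset.mem_symmDiff, Finset.mem_sdiff]
    constructor
    · rintro (⟨h, -⟩ | ⟨⟨h, -⟩, -⟩)
      · exact hs h
      · exact h
    · intro h; by_cases hxs : x ∈ s <;> simp [h, hxs]
  have hsyn : syn (encS s') = syn (encS s) := by
    symm; rw [syn_eq_iff, hx]; decide +kernel
  have hmem' : s' ∈ sextetOfKey (syn (encS s)) := mem_sextetOfKey.mpr ⟨h4', hsyn⟩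
  have hS := sextetOfKey_mem (syn_mem_sextetKeys h4)
  refine ⟨hS, hmem, ?_⟩
  unfold meetCount
  rw [show (2 : ℕ) = ({s, s'} : Finset (Finset Cfsg.GolayPt)).card from ?_]
  · refine congrArg Finset.card ?_
    ext t
    simp only [Finset.mem_filter, Finset.mem_insert, Finset.mem_singleton]
    constructor
    · rintro ⟨ht, x, hx⟩
      rw [Finset.mem_inter] at hx
      by_contra hne
      push Not at hne
      by_cases hxs : x ∈ s
      · exact Finset.disjoint_left.mp (sextet_disjoint hS ht hmem hne.1) hx.1 hxs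
      · exact Finset.disjoint_left.mp (sextet_disjoint hS ht hmem' hne.2) hx.1 (Finset.mem_sdiff.mpr ⟨hx.2, hxs⟩)
    · rintro (rfl | rfl)
      · obtain ⟨x, hx⟩ := Finset.card_pos.mp (h4 ▸ (by norm_num : (0:ℕ) < 4))
        exact ⟨hmem, x, Finset.mem_inter.mpr ⟨hx, hs hx⟩⟩
      · obtain ⟨x, hx⟩ := Finset.card_pos.mp (h4' ▸ (by norm_num : (0:ℕ) < 4))
        exact ⟨hmem', x, Finset.mem_inter.mpr ⟨hx, (Finset.mem_sdiff.mp hx).1⟩⟩
  · rw [Finset.card_pair]
    intro e
    obtain ⟨x, hx⟩ := Finset.card_pos.mp (h4 ▸ (by norm_num : (0:ℕ) < 4))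
    have hxs : x ∈ s' := e ▸ hx
    exact (Finset.mem_sdiff.mp hxs).2 hx

/-- A permutation of eight points respecting every split into two fours is trivial. -/
theorem fix_of_splits {α : Type*} [DecidableEq α] (g : Equiv.Perm α) (b : Finset α) (hb : b.card = 8)
    (hgb : ∀ x ∈ b, g x ∈ b)
    (h : ∀ s ⊆ b, s.card = 4 → g • s = s ∨ Disjoint (g • s) s) : ∀ p ∈ b, g p = p := by
  intro p hp
  by_contra hq
  have hqb := hgb p hp
  have hfix : ∀ s ⊆ b, s.card = 4 → p ∈ s → g p ∈ s → g • s = s := fun s hs h4 h1 h2 =>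
    (h s hs h4).resolve_right fun hd =>
      Finset.disjoint_left.mp hd (Finset.smul_mem_smul_finset (a := g) h1) h2
  have hpick : ∀ (a : Finset α) (z : α), a ⊆ b → a.card ≤ 4 → z ∉ a →
      ∃ s, a ⊆ s ∧ s ⊆ b ∧ z ∉ s ∧ s.card = 4 := by
    intro a z ha hca hza
    obtain ⟨s, h1, h2, h3⟩ := Finset.exists_subsuperset_card_eq (n := 4)
      (show a ⊆ b.erase z from fun x hx => Finset.mem_erase.mpr ⟨fun e => hza (e ▸ hx), ha hx⟩) hca
      (by have := Finset.pred_card_le_card_erase (a := z) (s := b); omega)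
    exact ⟨s, h1, h2.trans (Finset.erase_subset _ _), fun e => (Finset.mem_erase.mp (h2 e)).1 rfl, h3⟩
  have hinside : ∀ s ⊆ b, s.card = 4 → p ∈ s → g p ∈ s → ∀ x ∈ s, g x ∈ s := by
    intro s hs h4 h1 h2 x hx
    have hm := Finset.smul_mem_smul_finset (a := g) hx
    rw [hfix s hs h4 h1 h2] at hm
    exact hm
  have hq2 : g (g p) = p := by
    by_contra hne
    have hz : g (g p) ∉ ({p, g p} : Finset α) := by
      simp only [Finset.mem_insert, Finset.mem_singleton, not_or]
      exact ⟨hne, fun e => hq (g.injective e)⟩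
    obtain ⟨s, h1, h2, h3, h4⟩ := hpick {p, g p} _ (by simp [Finset.insert_subset_iff, hp, hqb])
      (Finset.card_le_two.trans (by norm_num)) hz
    exact h3 (hinside s h2 h4 (h1 (by simp)) (h1 (by simp)) _ (h1 (by simp)))
  have hrest : ∀ x ∈ b, x ≠ p → x ≠ g p → g x = x := by
    intro x hx hxp hxq
    by_contra hne
    have hz : g x ∉ ({p, g p, x} : Finset α) := by
      simp only [Finset.mem_insert, Finset.mem_singleton, not_or]
      exact ⟨fun e => hxq (g.injective (e.trans hq2.symm)), fun e => hxp (g.injective e), hne⟩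
    obtain ⟨s, h1, h2, h3, h4⟩ := hpick {p, g p, x} _ (by simp [Finset.insert_subset_iff, hp, hqb, hx])
      (Finset.card_le_three.trans (by norm_num)) hz
    exact h3 (hinside s h2 h4 (h1 (by simp)) (h1 (by simp)) _ (h1 (by simp)))
  obtain ⟨s, h1, h2, h3, h4⟩ := hpick {p} (g p) (by simp [hp]) (by simp) (by simp [hq])
  have hps : p ∈ s := h1 (by simp)
  rcases h s h2 h4 with e | e
  · exact h3 (e ▸ Finset.smul_mem_smul_finset hps)
  · obtain ⟨x, hx, hxp⟩ := Finset.exists_mem_ne (by rw [h4]; norm_num : 1 < s.card) p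
    have hgx : g x = x := hrest x (h2 hx) hxp (fun e' => h3 (e' ▸ hx))
    exact Finset.disjoint_left.mp e (Finset.mem_smul_finset.mpr ⟨x, hx, hgx⟩) hx

/-- The action of the base octad's stabiliser on its trios has the pointwise stabiliser as kernel. -/
theorem kernel_iff {g : Equiv.Perm Cfsg.GolayPt} (hg : g ∈ Cfsg.M24) (hgo : g • baseOctad = baseOctad) :
    (∀ T ∈ Cfsg.trios, baseOctad ∈ T → g • T = T) ↔ ∀ p ∈ baseOctad, g p = p := by
  constructor
  · intro h
    have hgb : ∀ x ∈ baseOctad, g x ∈ baseOctad := fun x hx => by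
      rw [← hgo]; exact Finset.smul_mem_smul_finset hx
    refine fix_of_splits g baseOctad (card_of_mem_octads baseOctad_mem) hgb fun s hs h4 => ?_
    obtain ⟨hS, hsS, hmc⟩ := meet_inner hs h4
    set k := syn (encS s)
    obtain ⟨e, he, hek⟩ := exists_tab_of_mem_keys (syn_mem_sextetKeys h4)
    obtain ⟨j, hj, hgS⟩ := sextets_eq.le (smul_mem_sextets hg hS)
    obtain ⟨e', he', rfl⟩ := exists_tab_of_mem_keys hj
    have hin : ∀ f ∈ sextetTab, meetCount baseOctad (sextetOfKey (sextetKey f)) = 2 → f ∈ innerTab := by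
      intro f hf hc
      refine List.mem_filter.mpr ⟨hf, ?_⟩
      rw [meetCount_sextet hf, baseOctad, encS_decS (by norm_num)] at hc
      rw [hc]; rfl
    have h1 : e ∈ innerTab := hin e he (by rw [hek]; exact hmc)
    have h2 : e' ∈ innerTab := hin e' he' (by
      rw [hgS]; conv_lhs => rw [← hgo]
      exact (meetCount_smul g _ _).trans hmc)
    have heq : trioSig e = trioSig e' := by
      unfold trioSig
      refine congrArg (List.foldr (fun v a => Nat.add v (Nat.mul 64 a)) 0) (List.map_congr_left fun p hp => ?_)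
      obtain ⟨hp1, hp2⟩ := List.mem_filter.mp hp
      have hT := trioOf_mem (List.mem_range.mp hp1)
      have hfixT : g • trioOf p = trioOf p := h _ hT (by rw [← codeSet_baseKey]; exact mem_trioOf hp2)
      rw [← meetTrio_eq (List.mem_range.mp hp1) he, ← meetTrio_eq (List.mem_range.mp hp1) he', hek, hgS,
        ← meetTrio_smul g, hfixT]
    obtain rfl := List.inj_on_of_nodup_map trioSig_nodup h1 h2 heq
    rw [hek] at hgS
    by_contra hne
    push Not at hne
    have hm : g • s ∈ sextetOfKey k := by rw [hgS]; exact Finset.smul_mem_smul_finset hsS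
    exact hne.2 (sextet_disjoint hS hm hsS hne.1)
  · intro h T hT hb
    have hg6 : g ∈ stdStab 6 := by
      rw [← fixingSubgroup_baseOctad]
      exact ⟨hg, (mem_fixingSubgroup_iff _).mpr fun p hp => h p hp⟩
    obtain ⟨p, hp, rfl⟩ := trios_through_base.le (show T ∈ {T | T ∈ Cfsg.trios ∧ baseOctad ∈ T} from ⟨hT, hb⟩)
    have hst := List.all_eq_true.mp (List.all_eq_true.mp fixed_trios _ (toList_mem_stab6 hg6)) p hp
    exact (trioK.step_spec ⟨g, hg⟩ p p
      (List.mem_map.mpr ⟨p, (List.mem_filter.mp hp).1, rfl⟩) hst).1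


/-- An octad of the length-24 code lies in exactly 15 trios; the stabiliser of the octad in the code's group acts doubly transitively on these 15 trios, and the kernel of this action is the pointwise stabiliser of the octad. -/
theorem result (o : Finset Cfsg.GolayPt) (ho : o ∈ Cfsg.octads) : {T : Finset (Finset Cfsg.GolayPt) | T ∈ Cfsg.trios ∧ o ∈ T}.ncard = 15 ∧ (∀ T₁ T₂ T₁' T₂' : Finset (Finset Cfsg.GolayPt), T₁ ∈ Cfsg.trios → T₂ ∈ Cfsg.trios → T₁' ∈ Cfsg.trios → T₂' ∈ Cfsg.trios → o ∈ T₁ → o ∈ T₂ → o ∈ T₁' → o ∈ T₂' → T₁ ≠ T₂ → T₁' ≠ T₂' → ∃ g ∈ Cfsg.M24, g • o = o ∧ g • T₁ = T₁' ∧ g • T₂ = T₂') ∧ ∀ g ∈ Cfsg.M24, g • o = o → ((∀ T ∈ Cfsg.trios, o ∈ T → g • T = T) ↔ ∀ p ∈ o, g p = p) := by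
  refine ⟨ncard_trios_through ho, ?_, ?_⟩
  · intro T₁ T₂ T₁' T₂' h₁ h₂ h₁' h₂' m₁ m₂ m₁' m₂' hne hne'
    obtain ⟨g, g0, g1, g2⟩ := exists_two ho h₁ h₂ m₁ m₂ hne
    obtain ⟨u, u0, u1, u2⟩ := exists_two ho h₁' h₂' m₁' m₂' hne'
    refine ⟨((u⁻¹ * g : Cfsg.M24) : Equiv.Perm Cfsg.GolayPt), (u⁻¹ * g).2, ?_, ?_, ?_⟩
    · show (u⁻¹ * g) • o = o
      rw [mul_smul, g0, ← u0, inv_smul_smul]
    · show (u⁻¹ * g) • T₁ = T₁'
      rw [mul_smul, g1, ← u1, inv_smul_smul]
    · show (u⁻¹ * g) • T₂ = T₂'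
      rw [mul_smul, g2, ← u2, inv_smul_smul]
  · intro g hg hgo
    obtain ⟨c, hc, rfl⟩ := exists_smul_baseOctad_eq ho
    have hk := kernel_iff (g := c⁻¹ * g * c) (mul_mem (mul_mem (inv_mem hc) hg) hc)
      (by rw [mul_smul, mul_smul, hgo, inv_smul_smul])
    constructor
    · intro h
      have h' := hk.mp fun T hT hb => by
        rw [mul_smul, mul_smul, h _ (smul_mem_trios hc hT) (Finset.smul_mem_smul_finset hb), inv_smul_smul]
      intro p hp
      obtain ⟨x, hx, rfl⟩ := Finset.mem_smul_finset.mp hp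
      have := h' x hx
      rw [Equiv.Perm.mul_apply, Equiv.Perm.mul_apply, Equiv.Perm.inv_eq_iff_eq] at this
      exact this
    · intro h T hT hb
      have h' := hk.mpr (fun x hx => by
        rw [Equiv.Perm.mul_apply, Equiv.Perm.mul_apply, h (c x) (Finset.smul_mem_smul_finset (a := c) hx)]; simp)
        (c⁻¹ • T) (smul_mem_trios (inv_mem hc) hT) (Finset.mem_inv_smul_finset_iff.mpr hb)
      rw [mul_smul, mul_smul, smul_inv_smul] at h'
      exact smul_left_cancel c⁻¹ h'

end Cfsg.Agent.S5615
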