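import Cfsg.Statements.S5616
import Cfsg.Agent.Lib.Golay.OrbitApps

set_option autoImplicit false
open scoped Pointwise
open Cfsg

namespace Cfsg.Agent.S5616

open CfsgLib.Golay

/-- Let Y be a set of 3 of the 24 points. The sextets of the length-24 code whose tetrads meeting Y number 1, 2 or 3 are respectively 21, 630 and 1120 in number, and two sextets with the same number of tetrads meeting Y are conjugate under the setwise stabiliser of Y in the code's group. -/
theorem result (Y : Finset Cfsg.GolayPt) (hY : Y.card = 3) : {S : Finset (Finset Cfsg.GolayPt) | S ∈ Cfsg.sextets ∧ (S.filter fun t => (t ∩ Y).Nonempty).card = 1}.ncard = 21 ∧ {S : Finset (Finset Cfsg.GolayPt) | S ∈ Cfsg.sextets ∧ (S.filter fun t => (t ∩ Y).Nonempty).card = 2}.ncard = 630 ∧ {S : Finset (Finset Cfsg.GolayPt) | S ∈ Cfsg.sextets ∧ (S.filter fun t => (t ∩ Y).Nonempty).card = 3}.ncard = 1120 ∧ ∀ S S' : Finset (Finset Cfsg.GolayPt), S ∈ Cfsg.sextets → S' ∈ Cfsg.sextets → (S.filter fun t => (t ∩ Y).Nonempty).card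 = (S'.filter fun t => (t ∩ Y).Nonempty).card → ∃ g ∈ Cfsg.M24, g • Y = Y ∧ g • S = S' := by
  refine ⟨(triple_classes hY (c := 1) (n := 21) (by simp)).1, (triple_classes hY (c := 2) (n := 630) (by simp)).1,
    (triple_classes hY (c := 3) (n := 1120) (by simp)).1, fun S S' hS hS' h => ?_⟩
  have hc := meetCount_triple_values hY hS
  have h' : meetCount Y S = meetCount Y S' := h
  obtain ⟨n, hn⟩ : ∃ n, (meetCount Y S, n) ∈ [(1, 21), (2, 630), (3, 1120)] := by
    rcases hc with hc | hc | hc <;> simp [hc]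
  obtain ⟨g, hg1, hg2⟩ := (triple_classes hY hn).2 S S' hS hS' rfl h'.symm
  exact ⟨g, g.2, hg1, hg2⟩

end Cfsg.Agent.S5616
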