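import Cfsg.Statements.S5618
import Cfsg.Agent.Lib.Golay.OctadPair
import Cfsg.Agent.Lib.Golay.Mathieu

set_option autoImplicit false
open scoped Pointwise
open Cfsg
open scoped commutatorElement Pointwise

namespace Cfsg.Agent.S5618

/-- For a dodecad d of the length-24 code and a hexad C on it (a 6-point intersection of d with an octad): the joint stabiliser of d and C in the code's group is isomorphic to the symmetric group of degree 6, and it acts faithfully both on the six points of C and on the six points of d outside C. -/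
theorem result (d : Finset Cfsg.GolayPt) (hd : d ∈ Cfsg.dodecads) (C : Finset Cfsg.GolayPt) (hC : C ∈ Cfsg.hexadsOn d) : Nonempty (↥(MulAction.stabilizer Cfsg.M24 d ⊓ MulAction.stabilizer Cfsg.M24 C) ≃* Equiv.Perm (Fin 6)) ∧ (∀ g ∈ MulAction.stabilizer Cfsg.M24 d ⊓ MulAction.stabilizer Cfsg.M24 C, (∀ p ∈ C, ((g : ↥Cfsg.M24) : Equiv.Perm Cfsg.GolayPt) p = p) → g = 1) ∧ ∀ g ∈ MulAction.stabilizer Cfsg.M24 d ⊓ MulAction.stabilizer Cfsg.M24 C, (∀ p ∈ d \ C, ((g : ↥Cfsg.M24) : Equiv.Perm Cfsg.GolayPt) p = p) → g = 1 := by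
  open CfsgLib.Golay in
  open scoped symmDiff in
  obtain ⟨hC6, o, ho, rfl⟩ := hC
  have hsupp := symmDiff_mem_supports (mem_supports_of_mem_octads ho) (mem_supports_of_mem_dodecads hd)
  have h8 : (o ∆ d).card = 8 := by
    have := card_symmDiff_add o d
    rw [card_of_mem_octads ho, card_of_mem_dodecads hd, hC6] at this
    omega
  have ho' : o ∆ d ∈ Cfsg.octads := ⟨hsupp, h8⟩
  have h2 : (o ∩ (o ∆ d)).card = 2 := by
    have e : o ∩ (o ∆ d) = o \ d := by ext p; simp [Finset.mem_symmDiff]; tauto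
    rw [e]
    have := Finset.card_sdiff_add_card_inter o d
    rw [card_of_mem_octads ho] at this
    omega
  have h2' : ((o ∆ d) ∩ o).card = 2 := by rwa [Finset.inter_comm]
  have eC : o \ (o ∆ d) = o ∩ d := by ext p; simp [Finset.mem_symmDiff]
  have eC' : (o ∆ d) \ o = d \ (o ∩ d) := by ext p; simp [Finset.mem_symmDiff]
  have hstab : MulAction.stabilizer Cfsg.M24 d ⊓ MulAction.stabilizer Cfsg.M24 (o ∩ d) =
      MulAction.stabilizer Cfsg.M24 o ⊓ MulAction.stabilizer Cfsg.M24 (o ∆ d) := by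
    ext g
    simp only [Subgroup.mem_inf, MulAction.mem_stabilizer_iff]
    show ((g : Equiv.Perm Cfsg.GolayPt) • d = d ∧ (g : Equiv.Perm Cfsg.GolayPt) • (o ∩ d) = o ∩ d) ↔
      ((g : Equiv.Perm Cfsg.GolayPt) • o = o ∧ (g : Equiv.Perm Cfsg.GolayPt) • (o ∆ d) = o ∆ d)
    constructor
    · rintro ⟨hgd, hgC⟩
      have hgo : (g : Equiv.Perm Cfsg.GolayPt) • o = o := by
        refine octad_eq_of_five_le (smul_mem_octads g.2 ho) ho ?_
        calc 5 ≤ (o ∩ d).card := by omega
          _ ≤ _ := Finset.card_le_card (Finset.subset_inter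
              (hgC ▸ Finset.smul_finset_subset_smul_finset Finset.inter_subset_left)
              Finset.inter_subset_left)
      exact ⟨hgo, by rw [Finset.smul_finset_symmDiff, hgo, hgd]⟩
    · rintro ⟨hgo, hgo'⟩
      have hgd : (g : Equiv.Perm Cfsg.GolayPt) • d = d := by
        conv_lhs => rw [← symmDiff_symmDiff_cancel_left o d]
        rw [Finset.smul_finset_symmDiff, hgo, hgo', symmDiff_symmDiff_cancel_left]
      exact ⟨hgd, by rw [Finset.smul_finset_inter, hgo, hgd]⟩
  refine ⟨?_, fun g hg h => ?_, fun g hg h => ?_⟩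
  · rw [hstab]
    exact OctadPair.nonempty_mulEquiv ho ho' h2
  · rw [hstab] at hg
    exact Subtype.ext (OctadPair.eq_one_of_fix ho ho' h2 g.2 hg.2 (by rwa [eC]))
  · rw [hstab] at hg
    exact Subtype.ext (OctadPair.eq_one_of_fix ho' ho h2' g.2 hg.1 (by rwa [eC']))

end Cfsg.Agent.S5618
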