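import Cfsg.Statements.S5619
import Cfsg.Agent.Lib.Golay.Mathieu
import Cfsg.Agent.Lib.Golay.Orbits
import Mathlib.GroupTheory.SpecificGroups.Quaternion

set_option autoImplicit false
open scoped Pointwise
open Cfsg
open scoped commutatorElement Pointwise

namespace Cfsg.Agent.S5619

open CfsgLib.Golay

set_option maxRecDepth 20000

/-- The elements fixing the dodecad and three of its points. -/
def m9List : List (List ℕ) :=
  [
    [0,1,2,3,4,5,6,7,8,9,10,11,12,13,14,15,16,17,18,19,20,21,22,23],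
    [0,1,2,4,17,22,8,11,7,20,15,6,21,5,13,10,3,16,19,12,9,18,14,23],
    [0,1,2,12,19,8,13,22,14,15,20,5,17,7,11,9,21,18,3,16,10,4,6,23],
    [0,1,2,16,3,13,11,8,6,20,15,7,19,14,22,10,17,4,21,18,9,12,5,23],
    [0,1,2,17,16,14,7,6,11,9,10,8,18,22,5,15,4,3,12,21,20,19,13,23],
    [0,1,2,18,21,11,22,13,5,15,20,14,3,6,8,9,19,12,17,4,10,16,7,23],
    [0,1,2,19,18,6,14,5,22,10,9,13,4,8,7,20,12,21,16,17,15,3,11,23],
    [0,1,2,21,12,7,5,14,13,10,9,22,16,11,6,20,18,19,4,3,15,17,8,23],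
    [0,1,3,18,19,9,5,14,22,10,6,15,12,20,7,8,4,16,21,17,13,2,11,23],
    [0,1,3,19,16,11,22,15,14,13,8,5,2,9,20,6,18,4,17,12,10,21,7,23],
    [0,1,3,17,21,5,7,9,11,6,10,20,19,22,14,13,12,2,4,16,8,18,15,23],
    [0,1,3,2,12,14,9,7,20,6,10,11,4,15,5,13,21,17,19,18,8,16,22,23],
    [0,1,3,4,18,20,15,22,5,13,8,14,17,7,11,6,16,19,2,21,10,12,9,23],
    [0,1,3,16,4,7,14,5,15,10,6,22,21,11,9,8,19,18,12,2,13,17,20,23],
    [0,1,3,12,17,22,20,11,7,8,13,9,16,14,15,10,2,21,18,4,6,19,5,23],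
    [0,1,3,21,2,15,11,20,9,8,13,7,18,5,22,10,17,12,16,19,6,4,14,23],
    [0,1,4,16,18,22,11,20,6,8,15,9,12,14,13,5,21,2,17,3,7,19,10,23],
    [0,1,4,19,12,20,22,13,14,15,8,10,21,9,11,7,17,3,18,16,5,2,6,23],
    [0,1,4,12,3,6,14,10,13,5,7,22,2,20,9,8,19,17,16,21,15,18,11,23],
    [0,1,4,18,2,10,6,9,20,7,5,11,19,22,14,15,16,21,3,12,8,17,13,23],
    [0,1,4,3,17,11,13,22,10,15,8,14,18,6,20,7,12,19,21,2,5,16,9,23],
    [0,1,4,17,19,9,10,14,22,5,7,13,16,11,6,8,3,12,2,18,15,21,20,23],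
    [0,1,4,21,16,14,9,6,11,7,5,20,3,13,10,15,2,18,19,17,8,12,22,23],
    [0,1,4,2,21,13,20,11,9,8,15,6,17,10,22,5,18,16,12,19,7,3,14,23],
    [0,1,12,4,2,9,5,10,15,14,7,22,3,8,6,20,18,17,21,16,13,19,11,23],
    [0,1,12,21,19,22,11,8,9,20,13,6,4,5,15,14,16,3,17,2,7,18,10,23],
    [0,1,12,18,4,8,22,15,5,13,20,10,16,6,11,7,17,2,19,21,14,3,9,23],
    [0,1,12,19,3,10,9,6,8,7,14,11,18,22,5,13,21,16,2,4,20,17,15,23],
    [0,1,12,2,17,11,15,22,10,13,20,5,19,9,8,7,4,18,16,3,14,21,6,23],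
    [0,1,12,17,18,6,10,5,22,14,7,15,21,11,9,20,2,4,3,19,13,16,8,23],
    [0,1,12,16,21,5,6,9,11,7,14,8,2,15,10,13,3,19,18,17,20,4,22,23],
    [0,1,12,3,16,15,8,11,6,20,13,9,17,10,22,14,19,21,4,18,7,2,5,23],
    [0,1,16,12,2,10,7,9,20,6,14,8,21,13,5,15,4,19,17,18,11,3,22,23],
    [0,1,16,2,19,22,20,8,9,11,15,7,3,10,13,14,12,4,18,21,6,17,5,23],
    [0,1,16,19,4,5,9,7,8,6,14,20,17,22,10,15,2,12,21,3,11,18,13,23],
    [0,1,16,17,3,8,22,13,10,15,11,5,12,7,20,6,18,21,19,2,14,4,9,23],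
    [0,1,16,21,18,20,13,22,5,15,11,10,19,9,8,6,3,17,12,4,14,2,7,23],
    [0,1,16,3,21,9,10,5,13,14,6,22,4,8,7,11,17,18,2,12,15,19,20,23],
    [0,1,16,4,12,13,8,20,7,11,15,9,18,5,22,14,19,2,3,17,6,21,10,23],
    [0,1,16,18,17,7,5,10,22,14,6,13,2,20,9,11,21,3,4,19,15,12,8,23],
    [0,1,17,2,18,5,9,6,20,7,10,8,16,15,14,22,19,3,21,12,11,4,13,23],
    [0,1,17,3,19,14,6,9,8,7,10,20,21,13,5,22,18,2,16,4,11,12,15,23],
    [0,1,17,19,2,15,8,20,9,11,22,6,12,14,13,10,3,18,4,21,7,16,5,23],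
    [0,1,17,12,21,9,14,5,13,10,7,15,18,20,6,11,16,4,19,3,22,2,8,23],
    [0,1,17,21,4,8,13,15,5,22,11,14,2,9,20,7,12,16,3,18,10,19,6,23],
    [0,1,17,16,12,20,15,13,14,22,11,5,3,6,8,7,4,21,2,19,10,18,9,23],
    [0,1,17,4,16,6,5,14,15,10,7,13,19,8,9,11,21,12,18,2,22,3,20,23],
    [0,1,17,18,3,13,20,8,6,11,22,9,4,5,15,10,2,19,12,16,7,21,14,23],
    [0,1,18,2,3,8,15,13,10,22,20,14,21,9,11,6,16,12,4,17,5,19,7,23],
    [0,1,18,4,19,14,7,9,8,6,5,11,2,15,10,22,17,21,12,3,20,16,13,23],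
    [0,1,18,16,2,9,14,10,15,5,6,13,17,11,7,20,12,3,19,4,22,21,8,23],
    [0,1,18,19,21,13,8,11,9,20,22,7,16,14,15,5,4,17,3,2,6,12,10,23],
    [0,1,18,17,4,15,11,8,7,20,22,9,3,10,13,5,21,19,16,12,6,2,14,23],
    [0,1,18,3,12,7,10,14,13,5,6,15,19,8,9,20,2,16,17,21,22,4,11,23],
    [0,1,18,12,16,11,13,15,14,22,20,10,4,7,8,6,3,2,21,19,5,17,9,23],
    [0,1,18,21,17,10,9,7,11,6,5,8,12,13,14,22,19,4,2,16,20,3,15,23],
    [0,1,19,2,4,7,10,5,15,14,9,13,18,20,6,8,3,21,17,16,22,12,11,23],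
    [0,1,19,12,18,5,7,6,20,9,14,11,3,13,10,22,17,16,4,2,8,21,15,23],
    [0,1,19,21,3,6,5,10,13,14,9,15,17,11,7,8,4,2,18,12,22,16,20,23],
    [0,1,19,4,21,11,15,13,5,22,8,10,12,7,20,9,2,3,16,18,14,17,6,23],
    [0,1,19,18,16,15,20,11,6,8,22,7,21,5,13,14,12,17,2,3,9,4,10,23],
    [0,1,19,17,12,13,11,20,7,8,22,6,2,10,15,14,16,18,21,4,9,3,5,23],
    [0,1,19,3,2,20,13,15,10,22,8,5,16,6,11,9,21,4,12,17,14,18,7,23],
    [0,1,19,16,17,10,6,7,11,9,14,20,4,15,5,22,18,12,3,21,8,2,13,23],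
    [0,1,21,2,16,6,10,14,15,5,9,22,12,20,7,11,17,19,3,4,13,18,8,23],
    [0,1,21,19,17,7,14,10,22,5,9,15,3,8,6,11,16,2,12,18,13,4,20,23],
    [0,1,21,4,3,10,7,6,8,9,5,20,16,15,14,13,12,18,17,19,11,2,22,23],
    [0,1,21,17,2,20,22,15,10,13,11,14,4,7,8,9,19,16,18,3,5,12,6,23],
    [0,1,21,3,18,22,8,20,6,11,13,7,2,10,15,5,4,12,19,16,9,17,14,23],
    [0,1,21,16,19,8,15,22,14,13,11,10,18,6,20,9,2,17,4,12,5,3,7,23],
    [0,1,21,18,12,14,6,7,20,9,5,8,17,22,10,13,3,4,16,2,11,19,15,23],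
    [0,1,21,12,4,15,20,8,7,11,13,6,19,14,22,5,18,3,2,17,9,16,10,23]]

/-- Its elements of exponent 3. -/
def threeList : List (List ℕ) :=
  [
    [0,1,2,3,4,5,6,7,8,9,10,11,12,13,14,15,16,17,18,19,20,21,22,23],
    [0,1,3,17,21,5,7,9,11,6,10,20,19,22,14,13,12,2,4,16,8,18,15,23],
    [0,1,4,21,16,14,9,6,11,7,5,20,3,13,10,15,2,18,19,17,8,12,22,23],
    [0,1,12,19,3,10,9,6,8,7,14,11,18,22,5,13,21,16,2,4,20,17,15,23],
    [0,1,16,12,2,10,7,9,20,6,14,8,21,13,5,15,4,19,17,18,11,3,22,23],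
    [0,1,17,2,18,5,9,6,20,7,10,8,16,15,14,22,19,3,21,12,11,4,13,23],
    [0,1,18,4,19,14,7,9,8,6,5,11,2,15,10,22,17,21,12,3,20,16,13,23],
    [0,1,19,16,17,10,6,7,11,9,14,20,4,15,5,22,18,12,3,21,8,2,13,23],
    [0,1,21,18,12,14,6,7,20,9,5,8,17,22,10,13,3,4,16,2,11,19,15,23]]

/-- A quaternion subgroup. -/
def quatList : List (List ℕ) :=
  [
    [0,1,2,3,4,5,6,7,8,9,10,11,12,13,14,15,16,17,18,19,20,21,22,23],
    [0,1,2,4,17,22,8,11,7,20,15,6,21,5,13,10,3,16,19,12,9,18,14,23],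
    [0,1,2,17,16,14,7,6,11,9,10,8,18,22,5,15,4,3,12,21,20,19,13,23],
    [0,1,2,16,3,13,11,8,6,20,15,7,19,14,22,10,17,4,21,18,9,12,5,23],
    [0,1,2,12,19,8,13,22,14,15,20,5,17,7,11,9,21,18,3,16,10,4,6,23],
    [0,1,2,19,18,6,14,5,22,10,9,13,4,8,7,20,12,21,16,17,15,3,11,23],
    [0,1,2,18,21,11,22,13,5,15,20,14,3,6,8,9,19,12,17,4,10,16,7,23],
    [0,1,2,21,12,7,5,14,13,10,9,22,16,11,6,20,18,19,4,3,15,17,8,23]]



/-- Positions of the dodecad outside the three points. -/
def restPos : List ℕ := [2, 3, 4, 12, 16, 17, 18, 19, 21]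

/-- The three positions. -/
def threePos : List ℕ := [23, 0, 1]

theorem list_ok : (m9List.all fun l => genOK l && Nat.beq (pmap l 11472927) 11472927 &&
    threePos.all fun b => l.getD b 0 == b) = true := by decide +kernel

theorem list_cover : (restPos.all fun i => restPos.all fun j => i == j ||
    m9List.any fun l => l.getD 2 0 == i && l.getD 3 0 == j) = true := by decide +kernel

theorem restPos_spec : ∀ i : Fin 24, (Nat.testBit 11472927 i.val = true ∧ i.val ∉ threePos) →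
    i.val ∈ restPos := by decide +kernel

theorem three_sub : (threeList.all fun l => m9List.contains l) = true := by decide +kernel

theorem three_char : (m9List.all fun l =>
    !(comp l (comp l l) == List.range 24) || threeList.contains l) = true := by decide +kernel

theorem three_exp : (threeList.all fun l => comp l (comp l l) == List.range 24) = true := by
  decide +kernel

theorem three_mul : (threeList.all fun a => threeList.all fun b => threeList.contains (comp a b)) = true := by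
  decide +kernel

theorem list_counts : m9List.Nodup ∧ m9List.length = 72 ∧ threeList.Nodup ∧ threeList.length = 9 ∧
    List.range 24 ∈ threeList := by decide +kernel

/-- The map from the quaternion group. -/
def quatFun : QuaternionGroup 2 → List ℕ
  | .a i => quatList.getD i.val []
  | .xa i => quatList.getD (4 + i.val) []

theorem quatFun_spec : ∀ u, quatFun u ∈ m9List ∧ (quatFun u = List.range 24 → u = 1) ∧
    ∀ v, comp (quatFun u) (quatFun v) = quatFun (u * v) := by
  intro u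
  revert u
  decide +kernel

/-- A group of order 72 with a normal subgroup of order 9 and exponent 3 and a quaternion subgroup. -/
theorem structure_seventyTwo {G : Type*} [Group G] [Finite G] (hG : Nat.card G = 72)
    (N : Subgroup G) [N.Normal] (hN : Nat.card N = 9) (hexp : ∀ x ∈ N, x ^ 3 = 1)
    (f : QuaternionGroup 2 →* G) (hf : Function.Injective f) :
    (∀ Q : Sylow 3 G, (Q : Subgroup G).Normal ∧ Nat.card ↥Q = 9 ∧ ∀ x ∈ (Q : Subgroup G), x ^ 3 = 1) ∧
      ∀ P : Sylow 2 G, Nonempty (↥P ≃* QuaternionGroup 2) := by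
  haveI : Fact (Nat.Prime 3) := ⟨Nat.prime_three⟩
  haveI : Fact (Nat.Prime 2) := ⟨Nat.prime_two⟩
  have h3 : (Nat.card G).factorization 3 = 2 := by
    rw [hG, show (72 : ℕ) = 2 ^ 3 * 3 ^ 2 by norm_num, Nat.factorization_mul (by norm_num) (by norm_num),
      Nat.Prime.factorization_pow Nat.prime_two, Nat.Prime.factorization_pow Nat.prime_three]
    simp
  have h2 : (Nat.card G).factorization 2 = 3 := by
    rw [hG, show (72 : ℕ) = 2 ^ 3 * 3 ^ 2 by norm_num, Nat.factorization_mul (by norm_num) (by norm_num),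
      Nat.Prime.factorization_pow Nat.prime_two, Nat.Prime.factorization_pow Nat.prime_three]
    simp
  refine ⟨fun Q => ?_, fun P => ?_⟩
  · let R : Sylow 3 G := Sylow.ofCard N (by rw [hN, h3]; rfl)
    have hRn : (R : Subgroup G).Normal := (inferInstance : N.Normal)
    haveI := Sylow.unique_of_normal R hRn
    obtain rfl : Q = R := Subsingleton.elim _ _
    exact ⟨hRn, hN, hexp⟩
  · have hr : Nat.card f.range = 2 ^ 3 := by
      rw [← Nat.card_congr (MonoidHom.ofInjective hf).toEquiv, Nat.card_eq_fintype_card, QuaternionGroup.card]; rfl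
    let R : Sylow 2 G := Sylow.ofCard f.range (by rw [hr, h2])
    exact ⟨(Sylow.equiv P R).trans (MonoidHom.ofInjective hf).symm⟩

/-- The stabiliser of three points of the base dodecad. -/
def base9 : Subgroup (Equiv.Perm Cfsg.GolayPt) :=
  dodStab baseDodecad ⊓ MulAction.stabilizer (Equiv.Perm Cfsg.GolayPt) (none : Cfsg.GolayPt) ⊓
    MulAction.stabilizer (Equiv.Perm Cfsg.GolayPt) (some 0 : Cfsg.GolayPt) ⊓
    MulAction.stabilizer (Equiv.Perm Cfsg.GolayPt) (some 1 : Cfsg.GolayPt)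

theorem mem_base9 {σ : Equiv.Perm Cfsg.GolayPt} : σ ∈ base9 ↔ σ ∈ Cfsg.M24 ∧
    σ • baseDodecad = baseDodecad ∧ σ none = none ∧ σ (some 0) = some 0 ∧ σ (some 1) = some 1 := by
  simp [base9, mem_dodStab, MulAction.mem_stabilizer_iff, and_assoc]

theorem mem_base9_iff {σ : Equiv.Perm Cfsg.GolayPt} : σ ∈ base9 ↔ toList σ ∈ m9List := by
  constructor
  · intro h
    obtain ⟨hσ, hd, h0, h1, h2⟩ := mem_base9.mp h
    have hrest : ∀ p : Cfsg.GolayPt, p ∈ baseDodecad → p ≠ none → p ≠ some 0 → p ≠ some 1 →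
        (idx (σ p)).val ∈ restPos := by
      intro p hp e0 e1 e2
      refine restPos_spec _ ⟨?_, fun hin => ?_⟩
      · rw [← mem_decS (n := 11472927)]
        show σ p ∈ baseDodecad
        rw [← hd]
        exact Finset.mem_smul_finset.mpr ⟨p, hp, rfl⟩
      · have hcases : σ p = none ∨ σ p = some 0 ∨ σ p = some 1 := by
          have : ∀ q : Cfsg.GolayPt, (idx q).val ∈ threePos → q = none ∨ q = some 0 ∨ q = some 1 := by
            decide +kernel
          exact this _ hin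
        rcases hcases with e | e | e
        · exact e0 (σ.injective (e.trans h0.symm))
        · exact e1 (σ.injective (e.trans h1.symm))
        · exact e2 (σ.injective (e.trans h2.symm))
    have hi := hrest (some 2) (by decide +kernel) (by decide) (by decide +kernel) (by decide +kernel)
    have hj := hrest (some 3) (by decide +kernel) (by decide) (by decide +kernel) (by decide +kernel)
    have hc := List.all_eq_true.mp (List.all_eq_true.mp list_cover _ hi) _ hj
    rw [Bool.or_eq_true, beq_iff_eq, List.any_eq_true] at hc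
    rcases hc with hc | ⟨l, hl, hlij⟩
    · exact absurd (σ.injective (idx_injective (Fin.ext hc))) (by decide +kernel)
    · have hlok := List.all_eq_true.mp list_ok l hl
      simp only [Bool.and_eq_true, List.all_eq_true, beq_iff_eq] at hlok hlij
      obtain ⟨⟨hg, hpd⟩, hfix⟩ := hlok
      obtain ⟨τ, hτ, rfl⟩ := exists_perm hg
      have hτd : τ • baseDodecad = baseDodecad := by
        show τ • decS 11472927 = decS 11472927
        rw [smul_decS τ (by norm_num), Nat.eq_of_beq_eq_true hpd]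
      have hval : ∀ p : Cfsg.GolayPt, (toList τ).getD (idx p).val 0 = (idx (σ p)).val → σ p = τ p :=
        fun p h => by rw [toList_getD] at h; exact (idx_injective (Fin.ext h)).symm
      have hτ0 : ∀ p : Cfsg.GolayPt, (idx p).val ∈ threePos → τ p = p := fun p h => by
        have h' := hfix _ h
        rw [toList_getD] at h'
        exact idx_injective (Fin.ext h')
      have heq : σ = τ :=
        (existsUnique_dodecad baseDodecad_mem
          (L := [none, some 0, some 1, some 2, some 3])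
          (L' := [none, some 0, some 1, τ (some 2), τ (some 3)]) (by decide +kernel)
          (by
            have hn5 : ([none, some 0, some 1, some 2, some 3] : List Cfsg.GolayPt).Nodup := by decide +kernel
            have := hn5.map τ.injective
            simpa [hτ0 none (by decide +kernel), hτ0 (some 0) (by decide +kernel),
              hτ0 (some 1) (by decide +kernel)] using this)
          rfl rfl (by decide +kernel) (by
            intro p hp
            have hm : ∀ q ∈ baseDodecad, τ q ∈ baseDodecad := fun q hq =>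
              (apply_mem_iff_of_smul_eq hτd q).mpr hq
            simp only [List.mem_cons, List.not_mem_nil, or_false] at hp
            rcases hp with rfl | rfl | rfl | rfl | rfl
            · decide +kernel
            · decide +kernel
            · decide +kernel
            · exact hm _ (by decide +kernel)
            · exact hm _ (by decide +kernel))).unique
          ⟨hσ, hd, by simp [h0, h1, h2, hval (some 2) hlij.1, hval (some 3) hlij.2]⟩
          ⟨hτ, hτd, by simp [hτ0 none (by decide +kernel), hτ0 (some 0) (by decide +kernel),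
            hτ0 (some 1) (by decide +kernel)]⟩
      rw [heq]
      exact hl
  · intro hl
    have hlok := List.all_eq_true.mp list_ok _ hl
    simp only [Bool.and_eq_true, List.all_eq_true, beq_iff_eq] at hlok
    obtain ⟨⟨hg, hpd⟩, hfix⟩ := hlok
    have hf : ∀ p : Cfsg.GolayPt, (idx p).val ∈ threePos → σ p = p := fun p h => by
      have h' := hfix _ h
      rw [toList_getD] at h'
      exact idx_injective (Fin.ext h')
    refine mem_base9.mpr ⟨?_, ?_, hf _ (by decide +kernel), hf _ (by decide +kernel), hf _ (by decide +kernel)⟩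
    · obtain ⟨τ, hτ, hτl⟩ := exists_perm hg
      rwa [← toList_injective hτl]
    · show σ • decS 11472927 = decS 11472927
      rw [smul_decS σ (by norm_num), Nat.eq_of_beq_eq_true hpd]

/-- Image lists give bijections. -/
theorem natCard_of_lists {X : Subgroup (Equiv.Perm Cfsg.GolayPt)} {L : List (List ℕ)} (hnd : L.Nodup)
    (hgen : ∀ l ∈ L, genOK l = true) (hX : ∀ σ, σ ∈ X ↔ toList σ ∈ L) : Nat.card X = L.length := by
  rw [← List.toFinset_card_of_nodup hnd, ← Fintype.card_coe, ← Nat.card_eq_fintype_card]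
  refine Nat.card_congr (Equiv.ofBijective
    (fun σ => ⟨toList σ.1, List.mem_toFinset.mpr ((hX σ.1).mp σ.2)⟩) ⟨?_, ?_⟩)
  · intro a b h
    exact Subtype.ext (toList_injective (congrArg Subtype.val h))
  · rintro ⟨l, hl⟩
    rw [List.mem_toFinset] at hl
    obtain ⟨τ, -, hτ⟩ := exists_perm (hgen l hl)
    exact ⟨⟨τ, (hX τ).mpr (hτ ▸ hl)⟩, Subtype.ext hτ⟩

theorem genOK_of_mem {l : List ℕ} (hl : l ∈ m9List) : genOK l = true := by
  have h := List.all_eq_true.mp list_ok l hl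
  simp only [Bool.and_eq_true] at h
  exact h.1.1

theorem toList_pow_three (σ : Equiv.Perm Cfsg.GolayPt) :
    σ ^ 3 = 1 ↔ comp (toList σ) (comp (toList σ) (toList σ)) = List.range 24 := by
  rw [← toList_mul, ← toList_mul, ← toList_one, toList_injective.eq_iff, pow_three]

/-- The elements of exponent 3. -/
def threeGroup : Subgroup base9 where
  carrier := {σ | toList (σ : Equiv.Perm Cfsg.GolayPt) ∈ threeList}
  one_mem' := by
    show toList (1 : Equiv.Perm Cfsg.GolayPt) ∈ threeList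
    rw [toList_one]; exact list_counts.2.2.2.2
  mul_mem' {a b} ha hb := by
    show toList ((a : Equiv.Perm Cfsg.GolayPt) * b) ∈ threeList
    rw [toList_mul, ← List.contains_iff_mem]
    exact List.all_eq_true.mp (List.all_eq_true.mp three_mul _ ha) _ hb
  inv_mem' {a} ha := by
    have h3 : (a : Equiv.Perm Cfsg.GolayPt) ^ 3 = 1 :=
      (toList_pow_three _).mpr (beq_iff_eq.mp (List.all_eq_true.mp three_exp _ ha))
    have e : (a : Equiv.Perm Cfsg.GolayPt)⁻¹ = a * a := by
      rw [inv_eq_iff_mul_eq_one, ← h3, pow_three]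
    show toList ((a : Equiv.Perm Cfsg.GolayPt)⁻¹) ∈ threeList
    rw [e, toList_mul, ← List.contains_iff_mem]
    exact List.all_eq_true.mp (List.all_eq_true.mp three_mul _ ha) _ ha

theorem mem_threeGroup {σ : base9} : σ ∈ threeGroup ↔ σ ^ 3 = 1 := by
  rw [← Subtype.coe_inj, SubmonoidClass.coe_pow, OneMemClass.coe_one, toList_pow_three]
  constructor
  · intro h
    exact beq_iff_eq.mp (List.all_eq_true.mp three_exp _ h)
  · intro h
    have h' := List.all_eq_true.mp three_char _ (mem_base9_iff.mp σ.2)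
    rw [Bool.or_eq_true, h] at h'
    rcases h' with h' | h'
    · simp at h'
    · exact List.contains_iff_mem.mp h'

theorem base9_structure :
    (∀ Q : Sylow 3 base9, (Q : Subgroup base9).Normal ∧ Nat.card ↥Q = 9 ∧
      ∀ x ∈ (Q : Subgroup base9), x ^ 3 = 1) ∧
      ∀ P : Sylow 2 base9, Nonempty (↥P ≃* QuaternionGroup 2) := by
  haveI : threeGroup.Normal := ⟨fun n hn g => by
    rw [mem_threeGroup] at hn ⊢
    rw [conj_pow, hn, mul_one, mul_inv_cancel]⟩
  have hcard : Nat.card base9 = 72 := by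
    rw [natCard_of_lists list_counts.1 (fun l hl => genOK_of_mem hl) (fun σ => mem_base9_iff)]
    exact list_counts.2.1
  have hthree : Nat.card threeGroup = 9 := by
    rw [← Subgroup.card_map_of_injective base9.subtype_injective,
      natCard_of_lists list_counts.2.2.1 (fun l hl => genOK_of_mem
        (List.contains_iff_mem.mp (List.all_eq_true.mp three_sub l hl))) (fun σ => ?_)]
    · exact list_counts.2.2.2.1
    · constructor
      · rintro ⟨τ, hτ, rfl⟩; exact hτ
      · intro h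
        exact ⟨⟨σ, mem_base9_iff.mpr (List.contains_iff_mem.mp (List.all_eq_true.mp three_sub _ h))⟩, h, rfl⟩
  have hq : ∀ u, ∃ σ : base9, toList (σ : Equiv.Perm Cfsg.GolayPt) = quatFun u := by
    intro u
    obtain ⟨σ, -, hσ⟩ := exists_perm (genOK_of_mem (quatFun_spec u).1)
    exact ⟨⟨σ, mem_base9_iff.mpr (hσ ▸ (quatFun_spec u).1)⟩, hσ⟩
  choose f hf using hq
  have hmul : ∀ u v, f (u * v) = f u * f v := fun u v => Subtype.ext (toList_injective (by
    show toList (f (u * v) : Equiv.Perm Cfsg.GolayPt) =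
      toList ((f u : Equiv.Perm Cfsg.GolayPt) * (f v : Equiv.Perm Cfsg.GolayPt))
    rw [toList_mul, hf, hf, hf, (quatFun_spec u).2.2 v]))
  refine structure_seventyTwo hcard threeGroup hthree (fun x hx => mem_threeGroup.mp hx)
    (MonoidHom.mk' f hmul) ((injective_iff_map_eq_one _).mpr fun u hu => (quatFun_spec u).2.1 ?_)
  rw [← hf u, show f u = 1 from hu]
  exact toList_one

/-- Transport of the structure along an isomorphism. -/
theorem transport {G K : Type*} [Group G] [Group K] [Finite K] (e : G ≃* K)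
    (h : (∀ Q : Sylow 3 K, (Q : Subgroup K).Normal ∧ Nat.card ↥Q = 9 ∧ ∀ x ∈ (Q : Subgroup K), x ^ 3 = 1) ∧
      ∀ P : Sylow 2 K, Nonempty (↥P ≃* QuaternionGroup 2)) :
    (∀ Q : Sylow 3 G, (Q : Subgroup G).Normal ∧ Nat.card ↥Q = 9 ∧ ∀ x ∈ (Q : Subgroup G), x ^ 3 = 1) ∧
      ∀ P : Sylow 2 G, Nonempty (↥P ≃* QuaternionGroup 2) := by
  haveI : Finite G := Finite.of_equiv K e.symm.toEquiv
  refine ⟨fun Q => ?_, fun P => ?_⟩
  · let Q' : Sylow 3 K := Q.mapSurjective (f := e.toMonoidHom) e.surjective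
    obtain ⟨hn, hc, hx⟩ := h.1 Q'
    have hmap : (Q' : Subgroup K) = (Q : Subgroup G).map e.toMonoidHom := rfl
    refine ⟨?_, ?_, fun x hxQ => ?_⟩
    · have h' := hn.comap e.toMonoidHom
      rwa [hmap, Subgroup.comap_map_eq_self_of_injective e.injective] at h'
    · rw [← hc]
      exact Nat.card_congr ((Q : Subgroup G).equivMapOfInjective _ e.injective).toEquiv
    · apply e.injective
      rw [map_pow, map_one]
      exact hx _ (Subgroup.mem_map.mpr ⟨x, hxQ, rfl⟩)
  · let P' : Sylow 2 K := P.mapSurjective (f := e.toMonoidHom) e.surjective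
    exact ⟨((P : Subgroup G).equivMapOfInjective _ e.injective).trans (h.2 P').some⟩

theorem main {d : Finset Cfsg.GolayPt} (hd : d ∈ Cfsg.dodecads) {p q r : Cfsg.GolayPt}
    (hp : p ∈ d) (hq : q ∈ d) (hr : r ∈ d) (hpq : p ≠ q) (hpr : p ≠ r) (hqr : q ≠ r) :
    Nonempty (↥(MulAction.stabilizer Cfsg.M24 d ⊓ MulAction.stabilizer Cfsg.M24 p ⊓
      MulAction.stabilizer Cfsg.M24 q ⊓ MulAction.stabilizer Cfsg.M24 r) ≃* ↥base9) := by
  obtain ⟨a, ha, had⟩ := exists_smul_dodecad_eq baseDodecad_mem hd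
  have hin : ∀ x ∈ basePts.take 3, a x ∈ d := fun x hx => had ▸ Finset.mem_smul_finset.mpr
    ⟨x, basePts_subset_baseDodecad x (List.take_subset_take_left _ (by norm_num : 3 ≤ 5) hx), rfl⟩
  obtain ⟨b, hb, hbL⟩ := exists_dodStab_map (L := (basePts.take 3).map a) (L' := [p, q, r]) hd
    ((show (basePts.take 3).Nodup by decide +kernel).map a.injective) (by simp [hpq, hpr, hqr]) rfl
    (by simp) (by intro x hx; obtain ⟨y, hy, rfl⟩ := List.mem_map.mp hx; exact hin y hy)
    (by simp [hp, hq, hr])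
  obtain ⟨hbM, hbd⟩ := mem_dodStab.mp hb
  rw [show basePts.take 3 = [none, some 0, some 1] from rfl] at hbL
  simp only [List.map_cons, List.map_nil, List.cons.injEq, and_true] at hbL
  obtain ⟨e0, e1, e2⟩ := hbL
  set g := b * a with hg
  have hgM : g ∈ Cfsg.M24 := mul_mem hbM ha
  have hgd : g • baseDodecad = d := by rw [hg, mul_smul, had, hbd]
  have hmap : base9.map (MulAut.conj g).toMonoidHom =
      (MulAction.stabilizer Cfsg.M24 d ⊓ MulAction.stabilizer Cfsg.M24 p ⊓
      MulAction.stabilizer Cfsg.M24 q ⊓ MulAction.stabilizer Cfsg.M24 r).map Cfsg.M24.subtype := by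
    ext σ
    rw [Subgroup.mem_map_equiv, MulAut.conj_symm_apply, mem_base9]
    have hp' : ∀ x y, g x = y → ((g⁻¹ * σ * g) x = x ↔ σ y = y) := by
      rintro x y rfl
      simp only [Equiv.Perm.mul_apply]
      rw [Equiv.Perm.inv_def, Equiv.symm_apply_eq]
    rw [hp' none p e0, hp' (some 0) q e1, hp' (some 1) r e2, mul_smul, mul_smul, hgd,
      inv_smul_eq_iff, hgd]
    simp only [Subgroup.mem_map, Subgroup.mem_inf, MulAction.mem_stabilizer_iff]
    constructor
    · rintro ⟨hM, h1, h2, h3, h4⟩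
      have hσ : σ ∈ Cfsg.M24 := by
        have h' := mul_mem (mul_mem hgM hM) (inv_mem hgM)
        rwa [show g * (g⁻¹ * σ * g) * g⁻¹ = σ by group] at h'
      exact ⟨⟨σ, hσ⟩, ⟨⟨⟨h1, h2⟩, h3⟩, h4⟩, rfl⟩
    · rintro ⟨τ, ⟨⟨⟨h1, h2⟩, h3⟩, h4⟩, rfl⟩
      exact ⟨mul_mem (mul_mem (inv_mem hgM) τ.2) hgM, h1, h2, h3, h4⟩
  exact ⟨((Subgroup.equivMapOfInjective _ _ Cfsg.M24.subtype_injective).trans
    (MulEquiv.subgroupCongr hmap.symm)).trans
    (base9.equivMapOfInjective _ (MulAut.conj g).injective).symm⟩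

/-- In the group of the length-24 code, the subgroup fixing a dodecad setwise and three of its points individually (a group of order 72) has a normal Sylow 3-subgroup that is elementary abelian of order 9, and its Sylow 2-subgroups are quaternion of order 8. -/
theorem result (d : Finset Cfsg.GolayPt) (hd : d ∈ Cfsg.dodecads) (p q r : Cfsg.GolayPt) (hp : p ∈ d) (hq : q ∈ d) (hr : r ∈ d) (hpq : p ≠ q) (hpr : p ≠ r) (hqr : q ≠ r) : (∀ Q : Sylow 3 ↥(MulAction.stabilizer Cfsg.M24 d ⊓ MulAction.stabilizer Cfsg.M24 p ⊓ MulAction.stabilizer Cfsg.M24 q ⊓ MulAction.stabilizer Cfsg.M24 r), (Q : Subgroup ↥(MulAction.stabilizer Cfsg.M24 d ⊓ MulAction.stabilizer Cfsg.M24 p ⊓ MulAction.stabilizer Cfsg.M24 q ⊓ MulAction.stabilizer Cfsg.M24 r)).Normal ∧ Nat.card ↥Q = 9 ∧ ∀ x ∈ (Q : Subgroup ↥(MulAction.stabilizer Cfsg.M24 d ⊓ MulAction.stabilizer Cfsg.M24 p ⊓ MulAction.stabilizer Cfsg.M24 q ⊓ MulAction.stabilizer Cfsg.M24 r)), x ^ 3 = 1) ∧ ∀ P : Sylow 2 ↥(MulAction.stabilizer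 Cfsg.M24 d ⊓ MulAction.stabilizer Cfsg.M24 p ⊓ MulAction.stabilizer Cfsg.M24 q ⊓ MulAction.stabilizer Cfsg.M24 r), Nonempty (↥P ≃* QuaternionGroup 2) := by
  exact transport (main hd hp hq hr hpq hpr hqr).some base9_structure

end Cfsg.Agent.S5619
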