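import Cfsg.Statements.S5620
import Cfsg.Agent.Lib.Golay.Mathieu

set_option autoImplicit false
open scoped Pointwise
open Cfsg
open scoped commutatorElement Pointwise

namespace Cfsg.Agent.S5620

/-- Inside the stabiliser of the dodecad of squares (a Mathieu group of degree 12), the stabiliser of the residue 0 (a point of the dodecad) and the stabiliser of the extra point (a point outside the dodecad) are isomorphic but not conjugate; conjugation by a suitable element of the code's group that maps the dodecad of squares onto its complement carries the first onto the second. -/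
theorem result : Nonempty (↥(Cfsg.Spor.M12 ⊓ MulAction.stabilizer (Equiv.Perm Cfsg.GolayPt) (none : Cfsg.GolayPt)) ≃* ↥Cfsg.Spor.M11) ∧ (¬ ∃ k ∈ Cfsg.Spor.M12, MulAut.conj k • Cfsg.Spor.M11 = Cfsg.Spor.M12 ⊓ MulAction.stabilizer (Equiv.Perm Cfsg.GolayPt) (none : Cfsg.GolayPt)) ∧ ∃ g ∈ Cfsg.M24, g • Cfsg.Spor.squareDodecad = Finset.univ \ Cfsg.Spor.squareDodecad ∧ MulAut.conj g • Cfsg.Spor.M11 = Cfsg.Spor.M12 ⊓ MulAction.stabilizer (Equiv.Perm Cfsg.GolayPt) (none : Cfsg.GolayPt) := by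
  open CfsgLib.Golay in
  set d := Cfsg.Spor.squareDodecad with hd
  have hdm : d ∈ Cfsg.dodecads := squareDodecad_mem
  have hc := compl_mem_dodecads hdm
  have h0 : (some 0 : Cfsg.GolayPt) ∈ d := some_zero_mem_squareDodecad
  have hn : (none : Cfsg.GolayPt) ∉ d := by rw [hd]; decide +kernel
  have hn' : (none : Cfsg.GolayPt) ∈ dᶜ := Finset.mem_compl.mpr hn
  have hdc : dodStab dᶜ = dodStab d := by
    ext σ
    simp only [mem_dodStab, smul_compl, compl_inj_iff]
  have hM : Cfsg.Spor.M12 ⊓ MulAction.stabilizer (Equiv.Perm Cfsg.GolayPt) (none : Cfsg.GolayPt) =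
      dodPtStab dᶜ none := by
    rw [dodPtStab, hdc, ← sporM12_eq]
  rw [hM]
  refine ⟨⟨((sporM11_equiv_dodPtStab hc hn').some).symm⟩, ?_, ?_⟩
  · rintro ⟨k, hk, he⟩
    have hk' : k • d = d := (mem_dodStab.mp (sporM12_eq ▸ hk)).2
    have hkM : k ∈ Cfsg.M24 := (mem_dodStab.mp (sporM12_eq ▸ hk)).1
    have hkp : k (some 0) ∈ d := hk' ▸ Finset.mem_smul_finset.mpr ⟨_, h0, rfl⟩
    change (Cfsg.Spor.M11).map (MulAut.conj k).toMonoidHom = _ at he
    rw [sporM11_eq, map_conj_dodPtStab hkM, hk'] at he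
    obtain ⟨r, hr, hrn⟩ : ∃ r, r ∉ d ∧ r ≠ none := by
      rw [hd]; exact ⟨some 5, by decide +kernel⟩
    obtain ⟨a, ha, b, hb, c, hc', hab, hac, hbc, hne⟩ :
        ∃ a, a ∉ d ∧ ∃ b, b ∉ d ∧ ∃ c, c ∉ d ∧ a ≠ b ∧ a ≠ c ∧ b ≠ c ∧ a = none := by
      rw [hd]; exact ⟨none, by decide +kernel⟩
    obtain ⟨σ, hσ, hσL⟩ := exists_dodPtStab_map hdm hkp (L := [a, b, c]) (L' := [b, a, c])
      (by simp [hab, hac, hbc]) (by simp [hab.symm, hac, hbc]) rfl rfl
      (by simp [ha, hb, hc']) (by simp [ha, hb, hc'])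
    simp only [List.map_cons, List.map_nil, List.cons.injEq, and_true] at hσL
    rw [he] at hσ
    subst hne
    have hσn : σ none = none := hσ.2
    exact hab (hσn.symm.trans hσL.1)
  · obtain ⟨g, hg, hgd⟩ := exists_smul_dodecad_eq hdm hc
    have hgp : g (some 0) ∈ dᶜ := hgd ▸ Finset.mem_smul_finset.mpr ⟨_, h0, rfl⟩
    obtain ⟨h, hh, hhp⟩ := exists_dodStab_map (L := [g (some 0)]) (L' := [(none : Cfsg.GolayPt)]) hc
      (List.nodup_singleton _) (List.nodup_singleton _) rfl (by simp)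
      (by simpa using hgp) (by simpa using hn)
    simp only [List.map_cons, List.map_nil, List.cons.injEq, and_true] at hhp
    refine ⟨h * g, mul_mem hh.1 hg, ?_, ?_⟩
    · rw [← Finset.compl_eq_univ_sdiff, mul_smul, hgd]
      exact hh.2
    · show (Cfsg.Spor.M11).map (MulAut.conj (h * g)).toMonoidHom = _
      rw [sporM11_eq, map_conj_dodPtStab (mul_mem hh.1 hg), mul_smul, hgd, (mem_dodStab.mp hh).2,
        Equiv.Perm.mul_apply, hhp]

end Cfsg.Agent.S5620
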