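import Cfsg.Statements.S5625
import Cfsg.Agent.Lib.Combin.SteinerCount

set_option autoImplicit false
open Cfsg

namespace Cfsg.Agent.S5625

open CfsgLib.Combin.SteinerCount

/-- In any Steiner system S(5, 8, 24) and for any set Y of three points, the blocks meeting Y in exactly 3, 2, 1 and 0 points number 21, 168, 360 and 210 respectively (so there are 759 blocks in all). -/
theorem result (α : Type*) [Fintype α] [DecidableEq α] (hα : Fintype.card α = 24) (B : Set (Finset α)) (hB : Cfsg.IsSteinerSystem 5 8 B) (Y : Finset α) (hY : Y.card = 3) : {b : Finset α | b ∈ B ∧ (b ∩ Y).card = 3}.ncard = 21 ∧ {b : Finset α | b ∈ B ∧ (b ∩ Y).card = 2}.ncard = 168 ∧ {b : Finset α | b ∈ B ∧ (b ∩ Y).card = 1}.ncard = 360 ∧ {b : Finset α | b ∈ B ∧ (b ∩ Y).card = 0}.ncard = 210 := by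
  classical
  obtain ⟨x, y, z, hxy, hxz, hyz, rfl⟩ := Finset.card_eq_three.1 hY
  have N := fun T h => card_blocksThrough_five_eight hα hB T h
  set U := blocksThrough B (∅ : Finset α) with hU
  have hmem : ∀ b, b ∈ U ↔ b ∈ B := fun b => by simp [hU, mem_blocksThrough]
  have e : ∀ j : ℕ, {b : Finset α | b ∈ B ∧ (b ∩ {x, y, z}).card = j}.ncard =
      ∑ b ∈ U, if (b ∩ {x, y, z}).card = j then 1 else 0 := by
    intro j
    have h : {b : Finset α | b ∈ B ∧ (b ∩ {x, y, z}).card = j} =
        ↑(U.filter (fun b => (b ∩ {x, y, z}).card = j)) := by ext b; simp [hmem]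
    rw [h, Set.ncard_coe_finset, Finset.card_filter]
  have c : ∀ T : Finset α, (blocksThrough B T).card = ∑ b ∈ U, if T ⊆ b then 1 else 0 := by
    intro T
    rw [← Finset.card_filter]
    congr 1
    ext b; simp [mem_blocksThrough, hmem]
  have c0 : U.card = 759 := N ∅ (by simp)
  have p1 : ∀ a : α, (∑ b ∈ U, if a ∈ b then 1 else 0) = 253 := by
    intro a
    have := N {a} (by simp)
    rw [c] at this
    simpa using this
  have p2 : ∀ a a' : α, a ≠ a' → (∑ b ∈ U, if a ∈ b ∧ a' ∈ b then 1 else 0) = 77 := by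
    intro a a' h
    have := N {a, a'} (by rw [Finset.card_pair h]; omega)
    rw [c, Finset.card_pair h] at this
    simpa [Finset.insert_subset_iff] using this
  have p3 : (∑ b ∈ U, if x ∈ b ∧ y ∈ b ∧ z ∈ b then 1 else 0) = 21 := by
    have := N {x, y, z} (by rw [hY]; omega)
    rw [c, hY] at this
    simpa [Finset.insert_subset_iff] using this
  have cases : ∀ b : Finset α, (b ∩ {x, y, z}).card =
      (if x ∈ b then 1 else 0) + (if y ∈ b then 1 else 0) + (if z ∈ b then 1 else 0) := by
    intro b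
    rw [Finset.inter_comm]
    by_cases hx : x ∈ b <;> by_cases hy : y ∈ b <;> by_cases hz : z ∈ b <;>
      simp [Finset.insert_inter_of_mem, Finset.insert_inter_of_notMem, hx, hy, hz, hxy, hxz, hyz]
  have key : ∀ f : Finset α → ℕ, ∀ g : Finset α → ℕ, (∀ b, f b = g b) →
      ∑ b ∈ U, f b = ∑ b ∈ U, g b := fun f g h => Finset.sum_congr rfl fun b _ => h b
  rw [e, e, e, e]
  have a3 := key (fun b => if (b ∩ {x, y, z}).card = 3 then 1 else 0)
    (fun b => if x ∈ b ∧ y ∈ b ∧ z ∈ b then 1 else 0) (fun b => by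
      simp only [cases]; by_cases x ∈ b <;> by_cases y ∈ b <;> by_cases z ∈ b <;> simp [*])
  have a2 := key (fun b => (if (b ∩ {x, y, z}).card = 2 then 1 else 0) +
      3 * (if (b ∩ {x, y, z}).card = 3 then 1 else 0))
    (fun b => (if x ∈ b ∧ y ∈ b then 1 else 0) + (if x ∈ b ∧ z ∈ b then 1 else 0) +
      (if y ∈ b ∧ z ∈ b then 1 else 0)) (fun b => by
      simp only [cases]; by_cases x ∈ b <;> by_cases y ∈ b <;> by_cases z ∈ b <;> simp [*])
  have a1 := key (fun b => (if (b ∩ {x, y, z}).card = 1 then 1 else 0) +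
      2 * (if (b ∩ {x, y, z}).card = 2 then 1 else 0) +
      3 * (if (b ∩ {x, y, z}).card = 3 then 1 else 0))
    (fun b => (if x ∈ b then 1 else 0) + (if y ∈ b then 1 else 0) +
      (if z ∈ b then 1 else 0)) (fun b => by
      simp only [cases]; by_cases x ∈ b <;> by_cases y ∈ b <;> by_cases z ∈ b <;> simp [*])
  have a0 := key (fun b => (if (b ∩ {x, y, z}).card = 0 then 1 else 0) +
      (if (b ∩ {x, y, z}).card = 1 then 1 else 0) +
      (if (b ∩ {x, y, z}).card = 2 then 1 else 0) +
      (if (b ∩ {x, y, z}).card = 3 then 1 else 0))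
    (fun _ => 1) (fun b => by
      simp only [cases]; by_cases x ∈ b <;> by_cases y ∈ b <;> by_cases z ∈ b <;> simp [*])
  simp only [Finset.sum_add_distrib, ← Finset.mul_sum, Finset.sum_const, smul_eq_mul, mul_one,
    p1, p2 x y hxy, p2 x z hxz, p2 y z hyz, c0, p3] at a3 a2 a1 a0
  omega

end Cfsg.Agent.S5625
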