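import Cfsg.Statements.S5632
import Cfsg.Agent.Lib.GeomClasses.Basic

set_option autoImplicit false
open Cfsg

namespace Cfsg.Agent.S5632

open Matrix CfsgLib.GeomClasses

theorem result {F : Type*} [Field F] [Fintype F] (n : ℕ) (W U : Submodule F (Fin n → F)) (hW0 : W ≠ ⊥) (hWU : W < U) (hdim : Module.finrank F W + Module.finrank F U = n) : ∃ K : Subgroup (Matrix.GeneralLinearGroup (Fin n) F), Cfsg.Geo.subspaceStabilizer W ⊓ Cfsg.Geo.subspaceStabilizer U ⊓ Cfsg.Geo.specialLinear (Fin n) F < K ∧ K < Cfsg.Geo.specialLinear (Fin n) F := by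
  have hU : U ≠ ⊤ := by
    intro h
    have hW : Module.finrank F W = 0 := by
      rw [h, finrank_top, Module.finrank_fintype_fun_eq_card, Fintype.card_fin] at hdim
      omega
    exact hW0 (Submodule.finrank_eq_zero.1 hW)
  obtain ⟨w, hw, hw0⟩ := Submodule.exists_mem_ne_zero_of_ne_bot hW0
  obtain ⟨u, hu, huW⟩ := SetLike.exists_of_lt hWU
  obtain ⟨x, -, hxU⟩ := SetLike.exists_of_lt (lt_top_iff_ne_top.2 hU)
  -- functionals separating from W and from w
  obtain ⟨φ, hφ, hφW⟩ := exists_separating (F := F) huW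
  refine ⟨Cfsg.Geo.subspaceStabilizer W ⊓ Cfsg.Geo.specialLinear (Fin n) F, ?_, ?_⟩
  · refine lt_of_le_of_ne (le_inf (le_trans inf_le_left inf_le_left) inf_le_right) fun heq => ?_
    have hx' : ∃ a, φ ⬝ᵥ a = 0 ∧ a ∉ U := by
      refine ⟨x - (φ ⬝ᵥ x / φ ⬝ᵥ u) • u, ?_, fun h => hxU ?_⟩
      · simp [dotProduct_sub, dotProduct_smul, hφ]
      · simpa using U.add_mem h (U.smul_mem (φ ⬝ᵥ x / φ ⬝ᵥ u) hu)
    obtain ⟨a, ha, haU⟩ := hx'
    have hg : tv a φ ∈ Cfsg.Geo.subspaceStabilizer W ⊓ Cfsg.Geo.specialLinear (Fin n) F := by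
      refine ⟨mem_subspaceStabilizer.2 fun v hv => ?_, tv_mem_specialLinear _ _⟩
      rwa [tv_mulVec ha, hφW v hv, zero_smul, add_zero]
    rw [← heq] at hg
    have := mem_subspaceStabilizer.1 hg.1.2 u hu
    rw [tv_mulVec ha, add_comm] at this
    have h2 := U.smul_mem (φ ⬝ᵥ u)⁻¹ (U.sub_mem this hu)
    rw [add_sub_cancel_right, smul_smul, inv_mul_cancel₀ hφ, one_smul] at h2
    exact haU h2
  · refine lt_of_le_of_ne inf_le_right fun heq => ?_
    have hxW : x ∉ W := fun h => hxU (hWU.le h)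
    obtain ⟨ψ, hψ, hψx⟩ := exists_separating (F := F) (W := Submodule.span F {x}) (u := w) (by
      intro h
      obtain ⟨c, rfl⟩ := Submodule.mem_span_singleton.1 h
      have hc : c ≠ 0 := by rintro rfl; simp at hw0
      exact hxW ((W.smul_mem_iff hc).1 hw))
    have hd : ψ ⬝ᵥ x = 0 := hψx x (Submodule.mem_span_singleton_self x)
    have hg : tv x ψ ∈ Cfsg.Geo.specialLinear (Fin n) F := tv_mem_specialLinear _ _
    rw [← heq] at hg
    have := mem_subspaceStabilizer.1 hg.1 w hw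
    rw [tv_mulVec hd, add_comm] at this
    have h2 := W.sub_mem this hw
    rw [add_sub_cancel_right] at h2
    exact hxW ((W.smul_mem_iff hψ).1 h2)

end Cfsg.Agent.S5632
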