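import Cfsg.Statements.S5633
import Cfsg.Agent.Lib.GeomClasses.Basic

set_option autoImplicit false
open Cfsg

namespace Cfsg.Agent.S5633

open Matrix CfsgLib.GeomClasses

theorem result {F : Type*} [Field F] [Fintype F] (n : ℕ) (W U : Submodule F (Fin n → F)) (hW0 : W ≠ ⊥) (hWU : W ⊓ U = ⊥) (hWU' : W ⊔ U = ⊤) (hdim : Module.finrank F W < Module.finrank F U) : ∃ K : Subgroup (Matrix.GeneralLinearGroup (Fin n) F), Cfsg.Geo.subspaceStabilizer W ⊓ Cfsg.Geo.subspaceStabilizer U ⊓ Cfsg.Geo.specialLinear (Fin n) F < K ∧ K < Cfsg.Geo.specialLinear (Fin n) F := by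
  obtain ⟨w, hw, hw0⟩ := Submodule.exists_mem_ne_zero_of_ne_bot hW0
  have hU0 : U ≠ ⊥ := by
    intro h
    rw [h, finrank_bot] at hdim
    omega
  obtain ⟨u, hu, hu0⟩ := Submodule.exists_mem_ne_zero_of_ne_bot hU0
  have huW : u ∉ W := fun h => hu0 ((Submodule.eq_bot_iff _).1 hWU u ⟨h, hu⟩)
  have hwU : w ∉ U := fun h => hw0 ((Submodule.eq_bot_iff _).1 hWU w ⟨hw, h⟩)
  refine ⟨Cfsg.Geo.subspaceStabilizer W ⊓ Cfsg.Geo.specialLinear (Fin n) F, ?_, ?_⟩
  · refine lt_of_le_of_ne (le_inf (le_trans inf_le_left inf_le_left) inf_le_right) fun heq => ?_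
    obtain ⟨φ, hφ, hφW⟩ := exists_separating huW
    have hd : φ ⬝ᵥ w = 0 := hφW w hw
    have hg : tv w φ ∈ Cfsg.Geo.subspaceStabilizer W ⊓ Cfsg.Geo.specialLinear (Fin n) F :=
      ⟨mem_subspaceStabilizer.2 fun v hv => by
        rwa [tv_mulVec hd, hφW v hv, zero_smul, add_zero], tv_mem_specialLinear _ _⟩
    rw [← heq] at hg
    have := mem_subspaceStabilizer.1 hg.1.2 u hu
    rw [tv_mulVec hd, add_comm] at this
    have h2 := U.sub_mem this hu
    rw [add_sub_cancel_right] at h2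
    exact hwU ((U.smul_mem_iff hφ).1 h2)
  · refine lt_of_le_of_ne inf_le_right fun heq => ?_
    obtain ⟨ψ, hψ, hψU⟩ := exists_separating hwU
    have hd : ψ ⬝ᵥ u = 0 := hψU u hu
    have hg : tv u ψ ∈ Cfsg.Geo.specialLinear (Fin n) F := tv_mem_specialLinear _ _
    rw [← heq] at hg
    have := mem_subspaceStabilizer.1 hg.1 w hw
    rw [tv_mulVec hd, add_comm] at this
    have h2 := W.sub_mem this hw
    rw [add_sub_cancel_right] at h2
    exact huW ((W.smul_mem_iff hψ).1 h2)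

end Cfsg.Agent.S5633
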