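import Cfsg.Statements.S5635
import Cfsg.Agent.Lib.GeomClasses.Coords

set_option autoImplicit false
open Cfsg

namespace Cfsg.Agent.S5635

open Matrix CfsgLib.GeomClasses

variable {n : ℕ} {F : Type*} [Field F] {t : ℕ}

/-- An element of the stabiliser acts monomially in adapted coordinates. -/
theorem monomial {D : Fin t → Submodule F (Fin n → F)} (hD : Cfsg.Geo.IsMDecomposition 1 D)
    {e c : Fin t → Fin 1 → (Fin n → F)} (he : ∀ i k, e i k ∈ D i) (h1 : ∀ i k, c i k ⬝ᵥ e i k = 1)
    (hcomp : ∀ i x, Decomp.comp hD i x = ∑ k, (c i k ⬝ᵥ x) • e i k)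
    {g : Matrix.GeneralLinearGroup (Fin n) F} {σ : Equiv.Perm (Fin t)}
    (hg : ∀ i, (D i).map (Matrix.toLin' (g : Matrix (Fin n) (Fin n) F)) = D (σ i)) :
    ∃ μ : Fin t → F, (∀ i, μ i ≠ 0) ∧
      ∀ i x, c (σ i) 0 ⬝ᵥ ((g : Matrix (Fin n) (Fin n) F) *ᵥ x) = μ i * (c i 0 ⬝ᵥ x) := by
  refine ⟨fun i => c (σ i) 0 ⬝ᵥ ((g : Matrix (Fin n) (Fin n) F) *ᵥ e i 0), fun i h0 => ?_, fun i x => ?_⟩
  · have hmem : (g : Matrix (Fin n) (Fin n) F) *ᵥ e i 0 ∈ D (σ i) := by
      rw [← hg i]; exact ⟨_, he i 0, by simp⟩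
    have hz := hcomp (σ i) ((g : Matrix (Fin n) (Fin n) F) *ᵥ e i 0)
    simp only at h0
    rw [Decomp.comp_of_mem hD hmem, Fin.sum_univ_one, h0, zero_smul] at hz
    have he0 : e i 0 ≠ 0 := fun h => by simpa [h] using h1 i 0
    exact gl_mulVec_ne_zero g he0 hz
  · have hz := congrArg (c (σ i) 0 ⬝ᵥ ·) (Decomp.comp_mulVec hD hg i x)
    simp only [hcomp, Fin.sum_univ_one, mulVec_smul, dotProduct_smul, h1, smul_eq_mul, mul_one] at hz
    rw [hz, mul_comm]

theorem mem_specialLinear_of_mul {v φ v' φ' : Fin n → F} {g : Matrix.GeneralLinearGroup (Fin n) F}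
    (h : (g : Matrix (Fin n) (Fin n) F) = (1 + vecMulVec v φ) * (1 + vecMulVec v' φ'))
    (h' : (1 + φ ⬝ᵥ v) * (1 + φ' ⬝ᵥ v') = 1) : g ∈ Cfsg.Geo.specialLinear (Fin n) F := by
  rw [mem_specialLinear, h, det_mul, vecMulVec_eq Unit, det_one_add_replicateCol_mul_replicateRow,
    vecMulVec_eq Unit, det_one_add_replicateCol_mul_replicateRow, h']

theorem case_one [Fintype F] (hn : 13 ≤ n) (hq : Fintype.card F ≤ 4)
    (D : Fin t → Submodule F (Fin n → F)) (hD : Cfsg.Geo.IsMDecomposition 1 D) :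
    ∃ K : Subgroup (Matrix.GeneralLinearGroup (Fin n) F),
      Cfsg.Geo.decompositionStabilizer D ⊓ Cfsg.Geo.specialLinear (Fin n) F < K ∧
        K < Cfsg.Geo.specialLinear (Fin n) F := by
  classical
  obtain ⟨e, c, he, hc1, hc0, hcomp, hsum⟩ := Decomp.exists_coords hD
  have ht : 5 ≤ t := by
    have hs : ∀ s : Finset (Fin t), Module.finrank F ↥(s.sup D) ≤ s.card := by
      intro s
      induction s using Finset.induction_on with
      | empty => simp
      | insert a s ha ih =>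
        rw [Finset.sup_insert, Finset.card_insert_of_notMem ha]
        have h1 := Submodule.finrank_add_le_finrank_add_finrank (D a) (s.sup D)
        rw [hD.finrank_eq] at h1
        omega
    have h1 := hs Finset.univ
    rw [Finset.sup_univ_eq_iSup, hD.iSup_eq_top, finrank_top, Module.finrank_fintype_fun_eq_card,
      Fintype.card_fin, Finset.card_univ, Fintype.card_fin] at h1
    omega
  let a : Fin 5 → Fin t := fun k => ⟨k, by omega⟩
  have ha : Function.Injective a := fun i j h => by simpa [a, Fin.ext_iff] using h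
  have hce : ∀ i j, c i 0 ⬝ᵥ e j 0 = if i = j then 1 else 0 := by
    intro i j
    split_ifs with h
    · subst h; exact hc1 i 0
    · exact hc0 i 0 j 0 fun hh => h (congrArg Prod.fst hh)
  have hd : c (a 1) 0 ⬝ᵥ e (a 0) 0 = 0 := by rw [hce, if_neg (ha.ne (by decide))]
  set p := tv (e (a 0) 0) (c (a 1) 0) with hp
  have hpSL : p ∈ Cfsg.Geo.specialLinear (Fin n) F := tv_mem_specialLinear _ _
  have hpx : ∀ x, (p : Matrix (Fin n) (Fin n) F) *ᵥ x = x + (c (a 1) 0 ⬝ᵥ x) • e (a 0) 0 := tv_mulVec hd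
  -- two non-zero components rule out membership of the stabiliser
  have notStab : ∀ (g : Matrix.GeneralLinearGroup (Fin n) F) (i j l : Fin t), j ≠ l →
      c j 0 ⬝ᵥ ((g : Matrix (Fin n) (Fin n) F) *ᵥ e i 0) ≠ 0 →
      c l 0 ⬝ᵥ ((g : Matrix (Fin n) (Fin n) F) *ᵥ e i 0) ≠ 0 →
      g ∉ Cfsg.Geo.decompositionStabilizer D := by
    rintro g i j l hjl h1 h2 ⟨σ, hσ⟩
    obtain ⟨μ, -, hμ⟩ := monomial hD he hc1 hcomp hσ
    have key : ∀ j, c j 0 ⬝ᵥ ((g : Matrix (Fin n) (Fin n) F) *ᵥ e i 0) ≠ 0 → σ i = j := by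
      intro j hj
      by_contra hne
      apply hj
      have e2 := hμ (σ.symm j) (e i 0)
      rw [Equiv.apply_symm_apply, hce, if_neg fun h => hne (by rw [← h, Equiv.apply_symm_apply])] at e2
      rw [e2, mul_zero]
    exact hjl ((key j h1).symm.trans (key l h2))
  have hq' := Fintype.one_lt_card (α := F)
  rcases (show Fintype.card F = 2 ∨ Fintype.card F = 3 ∨ Fintype.card F = 4 by omega) with h2 | h3 | h4
  · -- two elements: the sum of the basis is fixed
    have hone : ∀ x : F, x ≠ 0 → x = 1 := fun x hx => by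
      simpa [h2] using FiniteField.pow_card_sub_one_eq_one x hx
    set s := ∑ i, e i 0 with hs
    have hcs : ∀ i, c i 0 ⬝ᵥ s = 1 := fun i => by
      simp [hs, dotProduct_sum, hce]
    refine ⟨Cfsg.Geo.subspaceStabilizer (Submodule.span F {s}) ⊓ Cfsg.Geo.specialLinear (Fin n) F, ?_, ?_⟩
    · refine lt_of_le_of_ne ?_ fun heq => ?_
      · rintro g ⟨⟨σ, hσ⟩, hgS⟩
        refine ⟨mem_subspaceStabilizer.2 fun v hv => ?_, hgS⟩
        obtain ⟨r, rfl⟩ := Submodule.mem_span_singleton.1 hv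
        obtain ⟨μ, hμ0, hμ⟩ := monomial hD he hc1 hcomp hσ
        have hgs : (g : Matrix (Fin n) (Fin n) F) *ᵥ s = s := by
          refine Decomp.eq_of_comp hD fun i => ?_
          rw [hcomp, hcomp, Fin.sum_univ_one, Fin.sum_univ_one]
          have e2 := hμ (σ.symm i) s
          rw [Equiv.apply_symm_apply, hone _ (hμ0 _), hcs, mul_one] at e2
          rw [e2, hcs]
        rw [mulVec_smul, hgs]
        exact hv
      · set φ := c (a 0) 0 + c (a 1) 0 with hφ
        have hd2 : φ ⬝ᵥ e (a 2) 0 = 0 := by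
          rw [hφ, add_dotProduct, hce, hce, if_neg (ha.ne (by decide)), if_neg (ha.ne (by decide)), add_zero]
        have hchar : (1 : F) + 1 = 0 := by
          by_contra hne
          have := hone _ hne
          simp at this
        have hg : tv (e (a 2) 0) φ ∈ Cfsg.Geo.subspaceStabilizer (Submodule.span F {s}) ⊓
            Cfsg.Geo.specialLinear (Fin n) F := by
          refine ⟨mem_subspaceStabilizer.2 fun v hv => ?_, tv_mem_specialLinear _ _⟩
          obtain ⟨r, rfl⟩ := Submodule.mem_span_singleton.1 hv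
          rw [tv_mulVec hd2, dotProduct_smul, hφ, add_dotProduct, hcs, hcs, hchar, smul_zero, zero_smul, add_zero]
          exact hv
        rw [← heq] at hg
        refine notStab _ (a 0) (a 0) (a 2) (ha.ne (by decide)) ?_ ?_ hg.1 <;>
          rw [tv_mulVec hd2] <;> simp [hφ, add_dotProduct, dotProduct_add, hce, ha.eq_iff]
    · refine lt_of_le_of_ne inf_le_right fun heq => ?_
      rw [← heq] at hpSL
      obtain ⟨r, hr⟩ := Submodule.mem_span_singleton.1
        (mem_subspaceStabilizer.1 hpSL.1 s (Submodule.mem_span_singleton_self s))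
      rw [hpx, hcs, one_smul] at hr
      have e0 := congrArg (c (a 0) 0 ⬝ᵥ ·) hr
      have e1 := congrArg (c (a 1) 0 ⬝ᵥ ·) hr
      simp [dotProduct_add, hce, hcs, ha.eq_iff] at e0 e1
      rw [e1] at e0
      simp at e0
  · -- three elements: an orthonormal frame
    have hsq : ∀ x : F, x ≠ 0 → x * x = 1 := fun x hx => by
      simpa [h3, pow_two] using FiniteField.pow_card_sub_one_eq_one x hx
    have h30 : (3 : F) = 0 := by
      have := FiniteField.cast_card_eq_zero F
      rw [h3] at this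
      exact_mod_cast this
    let Q : (Fin n → F) → F := fun x => ∑ i, (c i 0 ⬝ᵥ x) ^ 2
    set φ := c (a 0) 0 + c (a 1) 0 + c (a 2) 0 + c (a 3) 0 with hφ
    set u := e (a 0) 0 + e (a 1) 0 + e (a 2) 0 + e (a 3) 0 with hu
    have hcu : ∀ i, c i 0 ⬝ᵥ u = (if i = a 0 then 1 else 0) + (if i = a 1 then 1 else 0) +
        (if i = a 2 then 1 else 0) + (if i = a 3 then 1 else 0) := fun i => by
      simp [hu, dotProduct_add, hce]
    have hφu : φ ⬝ᵥ u = 1 := by
      simp [hφ, add_dotProduct, hcu, ha.eq_iff]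
      linear_combination h30
    refine ⟨Cfsg.Geo.quadSimilarityGroup Q ⊓ Cfsg.Geo.specialLinear (Fin n) F, ?_, ?_⟩
    · refine lt_of_le_of_ne ?_ fun heq => ?_
      · rintro g ⟨⟨σ, hσ⟩, hgS⟩
        obtain ⟨μ, hμ0, hμ⟩ := monomial hD he hc1 hcomp hσ
        refine ⟨⟨1, fun x => ?_⟩, hgS⟩
        rw [Units.val_one, one_mul]
        simp only [Q]
        rw [← Equiv.sum_comp σ]
        refine Finset.sum_congr rfl fun i _ => ?_
        rw [hμ, mul_pow, pow_two (μ i), hsq _ (hμ0 i), one_mul]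
      · have hd4 : c (a 4) 0 ⬝ᵥ e (a 4) 0 = 1 := hc1 _ _
        let A : Matrix (Fin n) (Fin n) F := (1 + vecMulVec u φ) * (1 + vecMulVec (e (a 4) 0) (c (a 4) 0))
        have hdet : (1 + φ ⬝ᵥ u) * (1 + c (a 4) 0 ⬝ᵥ e (a 4) 0) = 1 := by
          rw [hφu, hd4]
          linear_combination h30
        have hA : A.det = 1 := by
          rw [det_mul, vecMulVec_eq Unit, det_one_add_replicateCol_mul_replicateRow, vecMulVec_eq Unit,
            det_one_add_replicateCol_mul_replicateRow, hdet]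
        let g : Matrix.GeneralLinearGroup (Fin n) F :=
          Matrix.GeneralLinearGroup.mk'' A (by rw [hA]; exact isUnit_one)
        have hgA : (g : Matrix (Fin n) (Fin n) F) = A := rfl
        have happ : ∀ x, (g : Matrix (Fin n) (Fin n) F) *ᵥ x =
            (x + (c (a 4) 0 ⬝ᵥ x) • e (a 4) 0) +
              (φ ⬝ᵥ (x + (c (a 4) 0 ⬝ᵥ x) • e (a 4) 0)) • u := by
          intro x
          have hvm : ∀ (v w : Fin n → F) z, (1 + vecMulVec v w) *ᵥ z = z + (w ⬝ᵥ z) • v := fun v w z => by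
            rw [add_mulVec, one_mulVec, vecMulVec_mulVec]
            congr 1
            ext j
            simp [mul_comm]
          rw [hgA, ← mulVec_mulVec, hvm, hvm]
        have hg : g ∈ Cfsg.Geo.quadSimilarityGroup Q ⊓ Cfsg.Geo.specialLinear (Fin n) F := by
          refine ⟨⟨1, fun x => ?_⟩, mem_specialLinear_of_mul hgA hdet⟩
          rw [Units.val_one, one_mul, happ]
          set y := x + (c (a 4) 0 ⬝ᵥ x) • e (a 4) 0 with hy
          have hQy : Q y = Q x := by
            refine Finset.sum_congr rfl fun i _ => ?_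
            rw [hy, dotProduct_add, dotProduct_smul, hce]
            split_ifs with hi
            · subst hi
              simp
              linear_combination (c (a 4) 0 ⬝ᵥ x) ^ 2 * h30
            · simp
          rw [← hQy]
          have hSy : ∑ i, (c i 0 ⬝ᵥ y) * (c i 0 ⬝ᵥ u) = φ ⬝ᵥ y := by
            simp [hcu, mul_add, Finset.sum_add_distrib, hφ, add_dotProduct]
          have hSu : ∑ i, (c i 0 ⬝ᵥ u) * (c i 0 ⬝ᵥ u) = φ ⬝ᵥ u := by
            conv_lhs => enter [2, i, 2]; rw [hcu]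
            simp [mul_add, Finset.sum_add_distrib, hφ, add_dotProduct]
          simp only [Q, dotProduct_add, dotProduct_smul, smul_eq_mul]
          have : ∀ i, (c i 0 ⬝ᵥ y + φ ⬝ᵥ y * c i 0 ⬝ᵥ u) ^ 2 = (c i 0 ⬝ᵥ y) ^ 2 +
              2 * φ ⬝ᵥ y * ((c i 0 ⬝ᵥ y) * (c i 0 ⬝ᵥ u)) +
              (φ ⬝ᵥ y) ^ 2 * ((c i 0 ⬝ᵥ u) * (c i 0 ⬝ᵥ u)) := fun i => by ring
          simp only [this, Finset.sum_add_distrib, ← Finset.mul_sum, hSy, hSu, hφu]
          linear_combination (φ ⬝ᵥ y) ^ 2 * h30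
        rw [← heq] at hg
        refine notStab g (a 0) (a 1) (a 2) (ha.ne (by decide)) ?_ ?_ hg.1 <;>
          simp [happ, dotProduct_add, hce, hφ, add_dotProduct, hcu, ha.eq_iff]
    · refine lt_of_le_of_ne inf_le_right fun heq => ?_
      rw [← heq] at hpSL
      obtain ⟨r, hr⟩ := hpSL.1
      have e0 := hr (e (a 0) 0)
      have e1 := hr (e (a 1) 0)
      simp [Q, hpx, hce, ha.eq_iff, dotProduct_add, ite_pow, Finset.sum_ite_eq', add_sq, Finset.sum_add_distrib] at e0 e1
      rw [← e0] at e1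
      simp at e1
  · -- four elements: a unitary frame
    have hcube : ∀ x : F, x ≠ 0 → x * x ^ 2 = 1 := fun x hx => by
      rw [← pow_succ']
      simpa [h4] using FiniteField.pow_card_sub_one_eq_one x hx
    have h20 : (2 : F) = 0 := by
      have h' := FiniteField.cast_card_eq_zero F
      rw [h4] at h'
      have : (2 : F) * 2 = 0 := by
        norm_num
        exact_mod_cast h'
      exact mul_self_eq_zero.1 this
    have : CharP F 2 := CharTwo.of_one_ne_zero_of_two_eq_zero one_ne_zero h20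
    let τ : F →+* F := frobenius F 2
    have hτ : ∀ x, τ x = x ^ 2 := fun x => frobenius_def 2 x
    let f : (Fin n → F) → (Fin n → F) → F := fun x y => ∑ i, (c i 0 ⬝ᵥ x) * (c i 0 ⬝ᵥ y) ^ 2
    have hs : IsSesq τ f :=
      { add_left := fun x y v => by simp [f, dotProduct_add, add_mul, Finset.sum_add_distrib]
        smul_left := fun r x v => by simp [f, dotProduct_smul, Finset.mul_sum, mul_assoc]
        add_right := fun v x y => by
          simp only [f, dotProduct_add, CharTwo.add_sq, mul_add, Finset.sum_add_distrib]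
        smul_right := fun r v x => by
          simp only [f, dotProduct_smul, smul_eq_mul, mul_pow, hτ, Finset.mul_sum]
          exact Finset.sum_congr rfl fun i _ => by ring }
    refine ⟨Cfsg.Geo.similarityGroup f ⊓ Cfsg.Geo.specialLinear (Fin n) F, ?_, ?_⟩
    · refine lt_of_le_of_ne ?_ fun heq => ?_
      · rintro g ⟨⟨σ, hσ⟩, hgS⟩
        obtain ⟨μ, hμ0, hμ⟩ := monomial hD he hc1 hcomp hσ
        refine ⟨⟨1, fun x y => ?_⟩, hgS⟩
        rw [Units.val_one, one_mul]
        simp only [f]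
        rw [← Equiv.sum_comp σ]
        refine Finset.sum_congr rfl fun i _ => ?_
        rw [hμ, hμ, mul_pow, mul_mul_mul_comm, hcube _ (hμ0 i), one_mul]
      · set v := e (a 0) 0 + e (a 1) 0 + e (a 2) 0 + e (a 3) 0 with hv
        have hfxv : ∀ x, f x v = c (a 0) 0 ⬝ᵥ x + c (a 1) 0 ⬝ᵥ x + c (a 2) 0 ⬝ᵥ x + c (a 3) 0 ⬝ᵥ x := by
          intro x
          simp [f, hv, dotProduct_add, hce, CharTwo.add_sq, mul_add, Finset.sum_add_distrib, ite_pow]
        have hvv : f v v = 0 := by
          rw [hfxv]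
          simp [hv, dotProduct_add, hce, ha.eq_iff]
          linear_combination 2 * h20
        have hfvy : ∀ y, f v y = τ (f y v) := by
          intro y
          rw [hfxv, hτ]
          simp [f, hv, dotProduct_add, hce, CharTwo.add_sq, add_mul, Finset.sum_add_distrib]
        have hg : formTv f v 1 ∈ Cfsg.Geo.similarityGroup f ⊓ Cfsg.Geo.specialLinear (Fin n) F := by
          refine ⟨⟨1, fun x y => ?_⟩, formTv_mem_specialLinear _ _ _⟩
          rw [hs.formTv_form hvv, hfvy, Units.val_one, one_mul, one_mul, one_mul]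
          linear_combination (τ (f y v) * f x v) * h20
        rw [← heq] at hg
        refine notStab _ (a 0) (a 1) (a 2) (ha.ne (by decide)) ?_ ?_ hg.1 <;>
          rw [hs.formTv_mulVec hvv, hfxv] <;> simp [hv, dotProduct_add, hce, ha.eq_iff]
    · refine lt_of_le_of_ne inf_le_right fun heq => ?_
      rw [← heq] at hpSL
      obtain ⟨r, hr⟩ := hpSL.1
      have e0 := hr (e (a 0) 0) (e (a 0) 0)
      have e1 := hr (e (a 1) 0) (e (a 1) 0)
      simp [f, hpx, hce, ha.eq_iff, dotProduct_add, CharTwo.add_sq, add_mul, mul_add, Finset.sum_add_distrib] at e0 e1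
      rw [← e0] at e1
      simp at e1

theorem case_two [Fintype F] (hq : Fintype.card F = 2)
    (D : Fin t → Submodule F (Fin n → F)) (hD : Cfsg.Geo.IsMDecomposition 2 D) :
    ∃ K : Subgroup (Matrix.GeneralLinearGroup (Fin n) F),
      Cfsg.Geo.decompositionStabilizer D ⊓ Cfsg.Geo.specialLinear (Fin n) F < K ∧
        K < Cfsg.Geo.specialLinear (Fin n) F := by
  classical
  obtain ⟨e, c, he, hc1, hc0, hcomp, -⟩ := Decomp.exists_coords hD
  have hone : ∀ x : F, x ≠ 0 → x = 1 := fun x hx => by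
    simpa [hq] using FiniteField.pow_card_sub_one_eq_one x hx
  have h20 : (2 : F) = 0 := by
    have := FiniteField.cast_card_eq_zero F
    rw [hq] at this
    exact_mod_cast this
  have hce : ∀ i k j l, c i k ⬝ᵥ e j l = if i = j ∧ k = l then 1 else 0 := by
    intro i k j l
    split_ifs with h
    · obtain ⟨rfl, rfl⟩ := h; exact hc1 i k
    · exact hc0 i k j l fun hh => h ⟨congrArg Prod.fst hh, congrArg Prod.snd hh⟩
  let f : (Fin n → F) → (Fin n → F) → F := fun x y =>
    ∑ i, ((c i 0 ⬝ᵥ x) * (c i 1 ⬝ᵥ y) - (c i 1 ⬝ᵥ x) * (c i 0 ⬝ᵥ y))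
  have hs : IsSesq (RingHom.id F) f :=
    { add_left := fun x y v => by
        simp only [f, dotProduct_add, ← Finset.sum_add_distrib]
        exact Finset.sum_congr rfl fun i _ => by ring
      smul_left := fun r x v => by
        simp only [f, dotProduct_smul, smul_eq_mul, Finset.mul_sum]
        exact Finset.sum_congr rfl fun i _ => by ring
      add_right := fun v x y => by
        simp only [f, dotProduct_add, ← Finset.sum_add_distrib]
        exact Finset.sum_congr rfl fun i _ => by ring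
      smul_right := fun r v x => by
        simp only [f, dotProduct_smul, smul_eq_mul, Finset.mul_sum, RingHom.id_apply]
        exact Finset.sum_congr rfl fun i _ => by ring }
  have halt : ∀ v, f v v = 0 := fun v => Finset.sum_eq_zero fun i _ => by ring
  have hskew : ∀ v w, f v w = - f w v := fun v w => by
    simp only [f, ← Finset.sum_neg_distrib]
    exact Finset.sum_congr rfl fun i _ => by ring
  have ht := hD.two_le
  let i₀ : Fin t := ⟨0, by omega⟩
  let i₁ : Fin t := ⟨1, by omega⟩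
  have hi : i₀ ≠ i₁ := by simp [i₀, i₁]
  have hfe : ∀ i y, f (e i 0) y = c i 1 ⬝ᵥ y := fun i y => by
    simp [f, hce]
  have hfe1 : ∀ i y, f (e i 1) y = - (c i 0 ⬝ᵥ y) := fun i y => by
    simp [f, hce]
  refine ⟨Cfsg.Geo.similarityGroup f ⊓ Cfsg.Geo.specialLinear (Fin n) F, ?_, ?_⟩
  · refine lt_of_le_of_ne ?_ fun heq => ?_
    · rintro g ⟨⟨σ, hσ⟩, hgS⟩
      refine ⟨⟨1, fun x y => ?_⟩, hgS⟩
      rw [Units.val_one, one_mul]
      simp only [f]
      rw [← Equiv.sum_comp σ]
      refine Finset.sum_congr rfl fun i _ => ?_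
      have hexp : ∀ z k, c (σ i) k ⬝ᵥ ((g : Matrix (Fin n) (Fin n) F) *ᵥ z) =
          (c i 0 ⬝ᵥ z) * (c (σ i) k ⬝ᵥ ((g : Matrix (Fin n) (Fin n) F) *ᵥ e i 0)) +
          (c i 1 ⬝ᵥ z) * (c (σ i) k ⬝ᵥ ((g : Matrix (Fin n) (Fin n) F) *ᵥ e i 1)) := by
        intro z k
        have hz := congrArg (c (σ i) k ⬝ᵥ ·) (Decomp.comp_mulVec hD hσ i z)
        simp only [hcomp, Fin.sum_univ_two, mulVec_add, mulVec_smul, dotProduct_add, dotProduct_smul,
          smul_eq_mul] at hz
        rw [← hz]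
        fin_cases k <;> simp [hce]
      set α := fun k l => c (σ i) k ⬝ᵥ ((g : Matrix (Fin n) (Fin n) F) *ᵥ e i l) with hα
      have hdet : α 0 0 * α 1 1 - α 1 0 * α 0 1 ≠ 0 := by
        intro h0
        have hmem : ∀ l, (g : Matrix (Fin n) (Fin n) F) *ᵥ e i l = α 0 l • e (σ i) 0 + α 1 l • e (σ i) 1 := by
          intro l
          have hm : (g : Matrix (Fin n) (Fin n) F) *ᵥ e i l ∈ D (σ i) := by
            rw [← hσ i]; exact ⟨_, he i l, by simp⟩
          conv_lhs => rw [← Decomp.comp_of_mem hD hm, hcomp, Fin.sum_univ_two]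
        have key : ∀ p r : F, p * α 0 0 + r * α 0 1 = 0 → p * α 1 0 + r * α 1 1 = 0 → p = 0 ∧ r = 0 := by
          intro p r e1 e2
          have hz : p • e i 0 + r • e i 1 = 0 := gl_mulVec_injective g (by
            simp only [mulVec_add, mulVec_smul, mulVec_zero, hmem, smul_add, smul_smul]
            calc _ = (p * α 0 0 + r * α 0 1) • e (σ i) 0 + (p * α 1 0 + r * α 1 1) • e (σ i) 1 := by module
              _ = 0 := by rw [e1, e2, zero_smul, zero_smul, add_zero])
          have z0 := congrArg (c i 0 ⬝ᵥ ·) hz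
          have z1 := congrArg (c i 1 ⬝ᵥ ·) hz
          simp [dotProduct_add, hce] at z0 z1
          exact ⟨z0, z1⟩
        obtain ⟨-, h00⟩ := key (α 0 1) (-α 0 0) (by ring) (by linear_combination -h0)
        obtain ⟨-, h10⟩ := key (α 1 1) (-α 1 0) (by linear_combination h0) (by ring)
        exact one_ne_zero (key 1 0 (by linear_combination -h00) (by linear_combination -h10)).1
      have h1 := hone _ hdet
      simp only [hα] at h1
      rw [hexp x 0, hexp x 1, hexp y 0, hexp y 1]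
      linear_combination ((c i 0 ⬝ᵥ x) * (c i 1 ⬝ᵥ y) - (c i 1 ⬝ᵥ x) * (c i 0 ⬝ᵥ y)) * h1
    · set v := e i₀ 0 + e i₁ 0 with hv
      have hg : formTv f v 1 ∈ Cfsg.Geo.similarityGroup f ⊓ Cfsg.Geo.specialLinear (Fin n) F := by
        refine ⟨⟨1, fun x y => ?_⟩, formTv_mem_specialLinear _ _ _⟩
        rw [hs.formTv_form (halt v), hskew v y, Units.val_one, RingHom.id_apply]
        ring
      rw [← heq] at hg
      obtain ⟨σ, hσ⟩ := hg.1
      have himg : e i₀ 1 + (1 * f (e i₀ 1) v) • v ∈ D (σ i₀) := by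
        rw [← hσ i₀]
        exact ⟨_, he i₀ 1, by rw [Matrix.toLin'_apply, hs.formTv_mulVec (halt v)]⟩
      have hval : f (e i₀ 1) v = -1 := by
        rw [hfe1, hv, dotProduct_add, hce, hce]
        simp [hi]
      rw [hval] at himg
      by_cases hσ0 : σ i₀ = i₁
      · have := congrArg (c i₀ 1 ⬝ᵥ ·) (Decomp.comp_of_mem_ne hD (i := i₀) (by rw [hσ0]; exact hi.symm) himg)
        simp [hcomp, Fin.sum_univ_two, hv, dotProduct_add, hce, hi] at this
      · have := congrArg (c i₁ 0 ⬝ᵥ ·) (Decomp.comp_of_mem_ne hD (i := i₁) hσ0 himg)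
        simp [hcomp, Fin.sum_univ_two, hv, dotProduct_add, hce, hi, hi.symm] at this
  · refine lt_of_le_of_ne inf_le_right fun heq => ?_
    have hd : c i₁ 1 ⬝ᵥ e i₀ 0 = 0 := by rw [hce]; simp [hi.symm]
    have hg : tv (e i₀ 0) (c i₁ 1) ∈ Cfsg.Geo.specialLinear (Fin n) F := tv_mem_specialLinear _ _
    rw [← heq] at hg
    obtain ⟨r, hr⟩ := hg.1
    have e1 := hr (e i₁ 1) (e i₀ 1)
    rw [tv_mulVec hd, tv_mulVec hd, hce, hce, if_pos ⟨rfl, rfl⟩, if_neg (by simp [hi.symm]), one_smul,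
      zero_smul, add_zero, hs.add_left, hfe, hfe1, hce, hce] at e1
    simp [hi.symm] at e1

theorem result {F : Type*} [Field F] [Fintype F] (n : ℕ) (hn : 13 ≤ n) {t : ℕ} (m : ℕ) (D : Fin t → Submodule F (Fin n → F)) (hD : Cfsg.Geo.IsMDecomposition m D) (h : (m = 1 ∧ Fintype.card F ≤ 4) ∨ (m = 2 ∧ Fintype.card F = 2)) : ∃ K : Subgroup (Matrix.GeneralLinearGroup (Fin n) F), Cfsg.Geo.decompositionStabilizer D ⊓ Cfsg.Geo.specialLinear (Fin n) F < K ∧ K < Cfsg.Geo.specialLinear (Fin n) F := by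
  rcases h with ⟨rfl, hq⟩ | ⟨rfl, hq⟩
  · exact case_one hn hq D hD
  · exact case_two hq D hD

end Cfsg.Agent.S5635
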