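import Cfsg.Statements.S5638
import Cfsg.Prelude.Def_GeometricClasses

set_option autoImplicit false
open Cfsg

namespace Cfsg.Agent.S5638

open Matrix
open scoped Kronecker

variable {F : Type*} [Field F] [Fintype F] {m : ℕ}

theorem zero_or_one (hq : Fintype.card F = 2) (x : F) : x = 0 ∨ x = 1 := by
  rcases eq_or_ne x 0 with h | h
  · exact Or.inl h
  · exact Or.inr (by simpa [hq] using FiniteField.pow_card_sub_one_eq_one x h)

theorem one_add_one (hq : Fintype.card F = 2) : (1 : F) + 1 = 0 := by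
  rcases zero_or_one hq (1 + 1 : F) with h | h
  · exact h
  · exact absurd (by linear_combination h) (one_ne_zero (α := F))

/-- An element of order three of `GL₂(2)`. -/
def rot (hq : Fintype.card F = 2) : GL (Fin 2) F :=
  ⟨!![0, 1; 1, 1], !![1, 1; 1, 0],
    by ext i j; fin_cases i <;> fin_cases j <;> simp [Matrix.mul_apply, one_add_one hq],
    by ext i j; fin_cases i <;> fin_cases j <;> simp [Matrix.mul_apply, one_add_one hq]⟩

theorem rot_normal (hq : Fintype.card F = 2) (A : GL (Fin 2) F) :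
    (A : Matrix (Fin 2) (Fin 2) F) * !![0, 1; 1, 1] = !![0, 1; 1, 1] * (A : Matrix (Fin 2) (Fin 2) F) ∨
      (A : Matrix (Fin 2) (Fin 2) F) * !![0, 1; 1, 1] = !![1, 1; 1, 0] * (A : Matrix (Fin 2) (Fin 2) F) := by
  have hdet : (A : Matrix (Fin 2) (Fin 2) F).det ≠ 0 := (Matrix.GeneralLinearGroup.det A).ne_zero
  generalize (A : Matrix (Fin 2) (Fin 2) F) = M at hdet ⊢
  rw [Matrix.det_fin_two] at hdet
  have h11 := one_add_one hq
  rw [Matrix.eta_fin_two M]
  rcases zero_or_one hq (M 0 0) with a | a <;> rcases zero_or_one hq (M 0 1) with b | b <;>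
    rcases zero_or_one hq (M 1 0) with c | c <;> rcases zero_or_one hq (M 1 1) with d | d <;>
    simp [a, b, c, d, h11] at hdet ⊢

theorem result {F : Type*} [Field F] [Fintype F] (n : ℕ) (hn : 13 ≤ n) (hq : Fintype.card F = 2) (n₂ : ℕ) (e : Fin n ≃ Fin 2 × Fin n₂) (P : Matrix.GeneralLinearGroup (Fin n) F) : ∃ K : Subgroup (Matrix.GeneralLinearGroup (Fin n) F), Cfsg.Geo.tensorProductSubgroup 2 n₂ e P ⊓ Cfsg.Geo.specialLinear (Fin n) F < K ∧ K < Cfsg.Geo.specialLinear (Fin n) F := by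
  classical
  have hn₂ : 2 ≤ n₂ := by
    have := Fintype.card_congr e
    simp at this
    omega
  have h11 := one_add_one hq
  have hSL : Cfsg.Geo.specialLinear (Fin n) F = ⊤ := eq_top_iff.2 fun g _ => by
    refine MonoidHom.mem_ker.2 (Units.ext ?_)
    rcases zero_or_one hq ((Matrix.GeneralLinearGroup.det g : Fˣ) : F) with h | h
    · exact absurd h (Units.ne_zero _)
    · exact h
  rw [hSL, inf_top_eq]
  let Φ : GL (Fin 2 × Fin n₂) F ≃* GL (Fin n) F := (Cfsg.Geo.glReindex e.symm).trans (MulAut.conj P)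
  have hH : Cfsg.Geo.tensorProductSubgroup 2 n₂ e P = (Cfsg.Geo.kroneckerSubgroup 2 n₂ F).map Φ.toMonoidHom := by
    rw [Cfsg.Geo.tensorProductSubgroup, Subgroup.map_map]
    rfl
  let u : GL (Fin 2 × Fin n₂) F :=
    ⟨!![0, 1; 1, 1] ⊗ₖ 1, !![1, 1; 1, 0] ⊗ₖ 1,
      by
        rw [← Matrix.mul_kronecker_mul, one_mul,
          show (!![0, 1; 1, 1] : Matrix (Fin 2) (Fin 2) F) * !![1, 1; 1, 0] = 1 from (rot hq).val_inv,
          Matrix.one_kronecker_one],
      by
        rw [← Matrix.mul_kronecker_mul, one_mul,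
          show (!![1, 1; 1, 0] : Matrix (Fin 2) (Fin 2) F) * !![0, 1; 1, 1] = 1 from (rot hq).inv_val,
          Matrix.one_kronecker_one]⟩
  let K₀ : Subgroup (GL (Fin 2 × Fin n₂) F) :=
    { carrier := {g | g * u * g⁻¹ = u ∨ g * u * g⁻¹ = u⁻¹}
      mul_mem' := by
        intro g h hg hh
        simp only [Set.mem_ofPred_eq] at hg hh ⊢
        have key : g * h * u * (g * h)⁻¹ = g * (h * u * h⁻¹) * g⁻¹ := by group
        rcases hh with hh | hh <;> rw [key, hh]
        · exact hg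
        · have : g * u⁻¹ * g⁻¹ = (g * u * g⁻¹)⁻¹ := by group
          rcases hg with hg | hg <;> rw [this, hg]
          · exact Or.inr rfl
          · exact Or.inl (inv_inv u)
      one_mem' := Or.inl (by group)
      inv_mem' := by
        intro g hg
        simp only [Set.mem_ofPred_eq] at hg ⊢
        rcases hg with hg | hg
        · left
          conv_lhs => rw [← hg]
          group
        · right
          have : u⁻¹ = (g * u * g⁻¹) := hg.symm
          calc g⁻¹ * u * g⁻¹⁻¹ = g⁻¹ * (u⁻¹)⁻¹ * g := by group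
            _ = g⁻¹ * (g * u * g⁻¹)⁻¹ * g := by rw [← this]
            _ = u⁻¹ := by group }
  have hle : Cfsg.Geo.kroneckerSubgroup 2 n₂ F ≤ K₀ := by
    rintro g ⟨a, b, hab⟩
    show g * u * g⁻¹ = u ∨ g * u * g⁻¹ = u⁻¹
    rcases rot_normal hq a with h | h
    · exact Or.inl (mul_inv_eq_iff_eq_mul.2 (Units.ext (by
        rw [Units.val_mul, Units.val_mul, hab, ← Matrix.mul_kronecker_mul, h, mul_one,
          ← Matrix.mul_kronecker_mul, one_mul])))
    · exact Or.inr (mul_inv_eq_iff_eq_mul.2 (Units.ext (by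
        rw [Units.val_mul, Units.val_mul, hab, ← Matrix.mul_kronecker_mul, h, mul_one,
          show ((u⁻¹ : GL (Fin 2 × Fin n₂) F) : Matrix (Fin 2 × Fin n₂) (Fin 2 × Fin n₂) F) = !![1, 1; 1, 0] ⊗ₖ 1 from rfl,
          ← Matrix.mul_kronecker_mul, one_mul])))
  let i₀ : Fin n₂ := ⟨0, by omega⟩
  let i₁ : Fin n₂ := ⟨1, by omega⟩
  have hi : i₀ ≠ i₁ := by simp [i₀, i₁]
  let E : Matrix (Fin n₂) (Fin n₂) F := Matrix.single i₀ i₁ 1
  have hEE : E * E = 0 := Matrix.single_mul_single_of_ne _ _ _ _ hi.symm _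
  let X : Matrix (Fin 2 × Fin n₂) (Fin 2 × Fin n₂) F := !![0, 1; 1, 1] ⊗ₖ E
  have hX : (1 + X) * (1 + X) = 1 := by
    have : X * X = 0 := by rw [← Matrix.mul_kronecker_mul, hEE, Matrix.kronecker_zero]
    rw [add_mul, mul_add, mul_add, one_mul, mul_one, one_mul, this, add_zero, add_assoc]
    conv_rhs => rw [← add_zero (1 : Matrix (Fin 2 × Fin n₂) (Fin 2 × Fin n₂) F)]
    congr 1
    ext a b
    rw [Matrix.add_apply, Matrix.zero_apply, ← two_mul, show (2 : F) = 0 by linear_combination h11, zero_mul]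
  let g₁ : GL (Fin 2 × Fin n₂) F := ⟨1 + X, 1 + X, hX, hX⟩
  have hg₁ : g₁ ∈ K₀ := by
    refine Or.inl (mul_inv_eq_iff_eq_mul.2 (Units.ext ?_))
    show (1 + X) * (!![0, 1; 1, 1] ⊗ₖ 1) = (!![0, 1; 1, 1] ⊗ₖ 1) * (1 + X)
    rw [add_mul, mul_add, one_mul, mul_one, ← Matrix.mul_kronecker_mul, ← Matrix.mul_kronecker_mul, one_mul,
      mul_one]
  have hg₁' : g₁ ∉ Cfsg.Geo.kroneckerSubgroup 2 n₂ F := by
    rintro ⟨a, b, hab⟩
    have h := fun p q => congrFun (congrFun (show (1 + X) = _ from hab) p) q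
    have h1 := h (0, i₀) (0, i₀)
    have h2 := h (1, i₀) (0, i₁)
    have h3 := h (0, i₀) (0, i₁)
    simp [X, E, hi, hi.symm, Matrix.one_apply] at h1 h2 h3
    rcases zero_or_one hq ((a : Matrix (Fin 2) (Fin 2) F) 0 0) with h0 | h0
    · rw [h0, zero_mul] at h1
      exact one_ne_zero h1
    · rw [h0] at h3
      simp only [one_ne_zero, false_or] at h3
      rw [h3, mul_zero] at h2
      exact one_ne_zero h2
  let N : Matrix (Fin 2 × Fin n₂) (Fin 2 × Fin n₂) F := Matrix.single (0, i₀) (0, i₁) 1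
  have hN : (1 + N) * (1 + N) = 1 := by
    have : N * N = 0 := Matrix.single_mul_single_of_ne _ _ _ _ (by simp [hi.symm]) _
    rw [add_mul, mul_add, mul_add, one_mul, mul_one, one_mul, this, add_zero, add_assoc]
    conv_rhs => rw [← add_zero (1 : Matrix (Fin 2 × Fin n₂) (Fin 2 × Fin n₂) F)]
    congr 1
    ext a b
    rw [Matrix.add_apply, Matrix.zero_apply, ← two_mul, show (2 : F) = 0 by linear_combination h11, zero_mul]
  let g₂ : GL (Fin 2 × Fin n₂) F := ⟨1 + N, 1 + N, hN, hN⟩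
  have hg₂ : g₂ ∉ K₀ := by
    intro h
    have h' : ∀ k : Matrix (Fin 2 × Fin n₂) (Fin 2 × Fin n₂) F, (1 + N) * (!![0, 1; 1, 1] ⊗ₖ 1) = k * (1 + N) →
        ((1 + N) * (!![0, 1; 1, 1] ⊗ₖ 1) : Matrix (Fin 2 × Fin n₂) (Fin 2 × Fin n₂) F) (0, i₀) (1, i₁) =
          (k * (1 + N)) (0, i₀) (1, i₁) := fun k hk => by rw [hk]
    have hl : ((1 + N) * (!![0, 1; 1, 1] ⊗ₖ 1) : Matrix (Fin 2 × Fin n₂) (Fin 2 × Fin n₂) F) (0, i₀) (1, i₁) = 1 := by
      rw [Matrix.add_mul, Matrix.one_mul, Matrix.add_apply, Matrix.single_mul_apply_same]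
      simp [hi]
    have hr : ∀ M : Matrix (Fin 2) (Fin 2) F, ((M ⊗ₖ 1) * (1 + N) :
        Matrix (Fin 2 × Fin n₂) (Fin 2 × Fin n₂) F) (0, i₀) (1, i₁) = 0 := fun M => by
      rw [Matrix.mul_add, Matrix.mul_one, Matrix.add_apply, Matrix.mul_single_apply_of_ne _ _ _ _ _ (by simp)]
      simp [hi]
    rcases h with h | h
    · have := h' _ (congrArg Units.val (mul_inv_eq_iff_eq_mul.1 h))
      rw [hl] at this
      exact one_ne_zero (this.trans (hr _))
    · have := h' _ (congrArg Units.val (mul_inv_eq_iff_eq_mul.1 h))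
      rw [hl] at this
      exact one_ne_zero (this.trans (hr _))
  refine ⟨K₀.map Φ.toMonoidHom, ?_, ?_⟩
  · rw [hH, Subgroup.map_lt_map_iff_of_injective Φ.injective]
    exact lt_of_le_of_ne hle fun heq => hg₁' (heq ▸ hg₁)
  · rw [← Subgroup.map_top_of_surjective Φ.toMonoidHom Φ.surjective,
      Subgroup.map_lt_map_iff_of_injective Φ.injective]
    exact lt_top_iff_ne_top.2 fun heq => hg₂ (heq ▸ Subgroup.mem_top _)

end Cfsg.Agent.S5638
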