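import Cfsg.Statements.S5641
import Cfsg.Agent.Lib.TensorWreathMax.Apply
import Cfsg.Agent.Lib.Geo.AschWreath

set_option autoImplicit false
open Cfsg

namespace Cfsg.Agent.S5641

open CfsgLib in
/-- For a finite field F and n = m ^ t ≥ 13 with m ≥ 3 and t ≥ 2, the stabiliser in SL_n(F) of a tensor decomposition of F^n into t factors of dimension m (the conjugate by any P of the standard tensor-wreath subgroup transported along any bijection Fin n ≃ (Fin t → Fin m), intersected with SL_n(F)) is a maximal subgroup of SL_n(F). -/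
theorem result {F : Type*} [Field F] [Fintype F] (n : ℕ) (hn : 13 ≤ n) (m t : ℕ) (hm : 3 ≤ m) (ht : 2 ≤ t) (e : Fin n ≃ (Fin t → Fin m)) (P : Matrix.GeneralLinearGroup (Fin n) F) : Cfsg.Geo.IsMaximalIn (Cfsg.Geo.specialLinear (Fin n) F) (Cfsg.Geo.tensorWreathSubgroup m t e P ⊓ Cfsg.Geo.specialLinear (Fin n) F) := by
  classical
  refine ⟨lt_of_le_not_ge inf_le_right fun h => Geo.Asch.not_specialLinear_le_wreath (by omega) ht e P
    (h.trans inf_le_left), fun M hHM hMSL => ?_⟩
  let φ := (Cfsg.Geo.glReindex (F := F) e.symm).trans (MulAut.conj P)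
  have hdet : ∀ x, φ x ∈ Cfsg.Geo.specialLinear (Fin n) F ↔ x ∈ Cfsg.Geo.specialLinear (Fin t → Fin m) F := fun x => by
    rw [GeomClasses.mem_specialLinear, GeomClasses.mem_specialLinear]
    simp [φ, Cfsg.Geo.glReindex]
    rw [mul_right_comm, mul_inv_cancel₀ ((Matrix.isUnit_iff_isUnit_det _).1 ⟨P, rfl⟩).ne_zero, one_mul]
  have hwr : ∀ x, φ x ∈ Cfsg.Geo.tensorWreathSubgroup m t e P ↔ x ∈ Cfsg.Geo.tensorWreathStandard m t F := fun x => by
    constructor
    · rintro ⟨_, ⟨y, hy, rfl⟩, hyx⟩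
      have : φ y = φ x := hyx
      rwa [← φ.injective this]
    · exact fun hx => ⟨_, ⟨x, hx, rfl⟩, rfl⟩
  let M₀ := M.comap φ.toMonoidHom
  have hF : TensorWreathMax.Full M₀ := TensorWreathMax.full_of_le hm fun x hx =>
    hHM ⟨(hwr x).2 hx.1, (hdet x).2 hx.2⟩
  by_cases hSL : Cfsg.Geo.specialLinear (Fin t → Fin m) F ≤ M₀
  · refine Or.inr (le_antisymm hMSL fun y hy => ?_)
    have h1 := hSL ((hdet (φ.symm y)).1 (by rwa [MulEquiv.apply_symm_apply]))
    simpa [M₀] using h1
  · refine Or.inl (le_antisymm (fun y hy => ⟨?_, hMSL hy⟩) hHM)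
    show y ∈ Cfsg.Geo.tensorWreathSubgroup m t e P
    rw [← φ.apply_symm_apply y, hwr]
    refine TensorWreathMax.mem_standard (TensorWreathMax.rigidity hm t (by omega) M₀ hF hSL _
      (TensorWreathMax.ConjIn.of_mem hF ?_))
    simpa [M₀] using hy

end Cfsg.Agent.S5641
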