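import Cfsg.Statements.S5648
import Cfsg.Agent.Lib.GeomClasses.SympDecomp

set_option autoImplicit false
open Cfsg

namespace Cfsg.Agent.S5648

open Matrix CfsgLib.GeomClasses CfsgLib.GeomClasses.Symp

theorem eq_one_of_ne_zero {F : Type*} [Field F] [Fintype F] (hq : Fintype.card F = 2) {a : F}
    (ha : a ≠ 0) : a = 1 := by
  simpa [hq] using FiniteField.pow_card_sub_one_eq_one a ha

/-- The number of non-zero components, in F. -/
noncomputable def weight {F : Type*} [Field F] {ι : Type} [Fintype ι] [DecidableEq ι] {t k : ℕ}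
    {D : Fin t → Submodule F (ι → F)} (hD : Cfsg.Geo.IsMDecomposition k D) (x : ι → F) : F :=
  ((Decomp.supp hD x).card : F)

theorem result {F : Type*} [Field F] [Fintype F] (m : ℕ) (hm : 7 ≤ m) (hq : Fintype.card F = 2) {t : ℕ} (D : Fin t → Submodule F (Fin m ⊕ Fin m → F)) (hD : Cfsg.Geo.IsNondegenerateMDecomposition (Cfsg.sympForm m F) 2 D) : ∃ K : Subgroup (Matrix.GeneralLinearGroup (Fin m ⊕ Fin m) F), Cfsg.Geo.decompositionStabilizer D ⊓ Cfsg.spGL m F < K ∧ K < Cfsg.spGL m F := by
  classical
  have hf := isSymplecticForm_sympForm (F := F) m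
  have hd := hD.decomp
  have hchar : CharP F 2 := by
    have h2 : ((Fintype.card F : ℕ) : F) = 0 := FiniteField.cast_card_eq_zero F
    rw [hq] at h2
    exact CharTwo.of_one_ne_zero_of_two_eq_zero one_ne_zero (by exact_mod_cast h2)
  have h2 : (2 : F) = 0 := CharTwo.two_eq_zero
  have h01 : ∀ a : F, a ≠ 0 → a = 1 := fun a => eq_one_of_ne_zero hq
  let ind : (Fin m ⊕ Fin m → F) → F := fun a => if a = 0 then 0 else 1
  let q : (Fin m ⊕ Fin m → F) → F := fun x => ∑ l, ind (Decomp.comp hd l x)
  have hblock : ∀ l, ∀ a ∈ D l, ∀ b ∈ D l, ind (a + b) = ind a + ind b + sympForm m F a b := by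
    intro l a ha b hb
    simp only [ind]
    by_cases ha0 : a = 0
    · simp [ha0, Symp.zero_left hf]
    by_cases hb0 : b = 0
    · simp [hb0, Symp.zero_right hf]
    by_cases hab : a + b = 0
    · have : b = -a := eq_neg_of_add_eq_zero_right hab
      rw [this, Symp.neg_right hf, hf.alternating]
      simp [ha0]
      linear_combination -h2
    · -- two independent vectors of a non-degenerate plane pair to one
      have hne : sympForm m F a b ≠ 0 := by
        intro h0
        obtain ⟨x, hx, hxa⟩ := (hD.nondegenerate l a ha ha0).2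
        have hspan : D l = Submodule.span F {a, b} := by
          refine (Submodule.eq_of_le_of_finrank_le (Submodule.span_le.2 (Set.pair_subset ha hb)) ?_).symm
          rw [hd.finrank_eq]
          have hind : LinearIndependent F ![a, b] := by
            rw [LinearIndependent.pair_iff]
            intro s u hsu
            by_cases hs : s = 0
            · subst hs
              simp [hb0] at hsu
              exact ⟨rfl, hsu⟩
            · by_cases hu : u = 0
              · subst hu
                simp [ha0] at hsu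
                exact absurd hsu hs
              · rw [h01 s hs, h01 u hu, one_smul, one_smul] at hsu
                exact absurd hsu hab
          have := finrank_span_eq_card hind
          rw [Matrix.range_cons, Matrix.range_cons, Matrix.range_empty, Set.union_empty,
            Set.singleton_union, Fintype.card_fin] at this
          omega
        rw [hspan, Submodule.mem_span_pair] at hx
        obtain ⟨s, u, rfl⟩ := hx
        rw [Symp.add_right hf, Symp.smul_right hf, Symp.smul_right hf, hf.alternating, h0] at hxa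
        simp at hxa
      rw [if_neg hab, if_neg ha0, if_neg hb0, h01 _ hne]
      linear_combination -h2
  have qadd : ∀ x y, q (x + y) = q x + q y + sympForm m F x y := by
    intro x y
    rw [Decomp.form_eq_sum hd (sesq hf) hD.orthogonal x y]
    simp only [q, ← Finset.sum_add_distrib]
    refine Finset.sum_congr rfl fun l _ => ?_
    rw [map_add, hblock l _ (Decomp.comp_mem hd l x) _ (Decomp.comp_mem hd l y)]
  have q_mem : ∀ i, ∀ a ∈ D i, q a = ind a := fun i a ha => by
    simp only [q]
    rw [Finset.sum_eq_single i (fun l _ hl => by simp [Decomp.comp_of_mem_ne hd (Ne.symm hl) ha, ind])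
      (by simp), Decomp.comp_of_mem hd ha]
  let i₀ : Fin t := ⟨0, by have := hd.two_le; omega⟩
  let i₁ : Fin t := ⟨1, by have := hd.two_le; omega⟩
  have hi : i₀ ≠ i₁ := by simp [i₀, i₁]
  have ht : 3 ≤ t := by
    by_contra h
    have hs : ∀ s : Finset (Fin t), Module.finrank F ↥(s.sup D) ≤ s.card * 2 := by
      intro s
      induction s using Finset.induction_on with
      | empty => simp
      | insert a s ha ih =>
        rw [Finset.sup_insert, Finset.card_insert_of_notMem ha]
        have h1 := Submodule.finrank_add_le_finrank_add_finrank (D a) (s.sup D)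
        rw [hd.finrank_eq] at h1
        omega
    have h1 := hs Finset.univ
    rw [Finset.sup_univ_eq_iSup, hd.iSup_eq_top, finrank_top, Module.finrank_fintype_fun_eq_card,
      Fintype.card_sum, Fintype.card_fin, Finset.card_univ, Fintype.card_fin] at h1
    omega
  let i₂ : Fin t := ⟨2, by omega⟩
  have hi2 : i₀ ≠ i₂ := by simp [i₀, i₂]
  have hi12 : i₁ ≠ i₂ := by simp [i₁, i₂]
  obtain ⟨a, ha, ha0⟩ := Decomp.exists_ne_zero hd i₀
  obtain ⟨b, hb, hb0⟩ := Decomp.exists_ne_zero hd i₁
  obtain ⟨c, hc, hc0⟩ := Decomp.exists_ne_zero hd i₂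
  obtain ⟨x, hx, hxa⟩ := (hD.nondegenerate i₀ a ha ha0).1
  have hx0 : x ≠ 0 := fun h => hxa (by rw [h, Symp.zero_left hf])
  refine ⟨Cfsg.Geo.quadSimilarityGroup q ⊓ Cfsg.spGL m F, ?_, ?_⟩
  · refine lt_of_le_of_ne (le_inf ?_ inf_le_right) fun heq => ?_
    · rintro g ⟨⟨σ, hσ⟩, -⟩
      refine ⟨1, fun z => ?_⟩
      rw [Units.val_one, one_mul]
      simp only [q]
      rw [← Equiv.sum_comp σ]
      refine Finset.sum_congr rfl fun l _ => ?_
      rw [Decomp.comp_mulVec hd hσ]
      simp only [ind]
      by_cases h : Decomp.comp hd l z = 0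
      · simp [h]
      · rw [if_neg h, if_neg (gl_mulVec_ne_zero g h)]
    · set v := a + b + c with hv
      have hab : sympForm m F a b = 0 := hD.orthogonal i₀ i₁ hi a ha b hb
      have hqv : q v = 1 := by
        rw [hv, qadd, qadd, q_mem _ a ha, q_mem _ b hb, q_mem _ c hc, Symp.add_left hf, hab,
          hD.orthogonal i₀ i₂ hi2 a ha c hc, hD.orthogonal i₁ i₂ hi12 b hb c hc]
        simp [ind, ha0, hb0, hc0]
        linear_combination h2
      have hg : formTv (Cfsg.sympForm m F) v 1 ∈ Cfsg.Geo.quadSimilarityGroup q ⊓ Cfsg.spGL m F := by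
        refine ⟨⟨1, fun z => ?_⟩, formTv_mem_spGL m v 1⟩
        rw [formTv_mulVec hf, Units.val_one, one_mul, one_mul, qadd, Symp.smul_right hf]
        by_cases hz : sympForm m F z v = 0
        · simp [hz, q, ind]
        · rw [h01 _ hz, one_smul, hqv]
          linear_combination h2
      rw [← heq] at hg
      obtain ⟨σ, hσ⟩ := hg.1
      have himg : x + v ∈ D (σ i₀) := by
        rw [← hσ i₀]
        refine ⟨x, hx, ?_⟩
        rw [Matrix.toLin'_apply, formTv_mulVec hf, hv, Symp.add_right hf, Symp.add_right hf,
          hD.orthogonal i₀ i₁ hi x hx b hb, hD.orthogonal i₀ i₂ hi2 x hx c hc, h01 _ hxa]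
        simp
      by_cases hσ1 : σ i₀ = i₁
      · have := Decomp.comp_of_mem_ne hd (i := i₂) (by rw [hσ1]; exact hi12) himg
        simp [hv, Decomp.comp_of_mem_ne hd hi2 hx, Decomp.comp_of_mem_ne hd hi2 ha,
          Decomp.comp_of_mem_ne hd hi12 hb, Decomp.comp_of_mem hd hc] at this
        exact hc0 this
      · have := Decomp.comp_of_mem_ne hd (i := i₁) hσ1 himg
        simp [hv, Decomp.comp_of_mem_ne hd hi hx, Decomp.comp_of_mem_ne hd hi ha,
          Decomp.comp_of_mem hd hb, Decomp.comp_of_mem_ne hd hi12.symm hc] at this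
        exact hb0 this
  · refine lt_of_le_of_ne inf_le_right fun heq => ?_
    set w := a + b with hw
    have hqw : q w = 0 := by
      rw [hw, qadd, q_mem _ a ha, q_mem _ b hb, hD.orthogonal i₀ i₁ hi a ha b hb]
      simp [ind, ha0, hb0]
      linear_combination h2
    have hg := formTv_mem_spGL (F := F) m w 1
    rw [← heq] at hg
    obtain ⟨u, hu⟩ := hg.1
    have hxw : sympForm m F x w = 1 := by
      rw [hw, Symp.add_right hf, hD.orthogonal i₀ i₁ hi x hx b hb, add_zero, h01 _ hxa]
    have := hu x
    rw [formTv_mulVec hf, hxw, mul_one, one_smul, qadd, hqw, hxw, q_mem _ x hx, h01 _ u.ne_zero] at this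
    simp [ind, hx0] at this

end Cfsg.Agent.S5648
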