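import Cfsg.Statements.S5650
import Cfsg.Agent.Lib.GeomClasses.SympSubfield

set_option autoImplicit false
open Cfsg

namespace Cfsg.Agent.S5650

open Matrix CfsgLib.GeomClasses

/-- For a finite field F, a subfield F₀ with |F| = |F₀| ^ r for a prime r, and m ≥ 7, let P be an invertible matrix and ζ a non-zero scalar such that ζ times the standard alternating form takes values in F₀ on the F₀-span of the columns of P. Then the elements of Sp_2m(F) lying in the subfield group of P (the conjugate by P of the product of GL_2m(F₀) with the scalars) form a maximal subgroup of Sp_2m(F). -/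
theorem result {F : Type*} [Field F] [Fintype F] (m : ℕ) (hm : 7 ≤ m) (F₀ : Subfield F) (r : ℕ) (hr : r.Prime) (hcard : Fintype.card F = Nat.card F₀ ^ r) (P : Matrix.GeneralLinearGroup (Fin m ⊕ Fin m) F) (ζ : F) (hζ : ζ ≠ 0) (hP : Cfsg.Geo.IsFormRationalStructure (Cfsg.sympForm m F) F₀ ζ P) : Cfsg.Geo.IsMaximalIn (Cfsg.spGL m F) (Cfsg.Geo.subfieldSubgroup F₀ P ⊓ Cfsg.spGL m F) := by
  classical
  let f : (Fin m ⊕ Fin m → F) → (Fin m ⊕ Fin m → F) → F := fun u v =>
    ζ * Cfsg.sympForm m F ((P : Matrix (Fin m ⊕ Fin m) (Fin m ⊕ Fin m) F) *ᵥ u)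
      ((P : Matrix (Fin m ⊕ Fin m) (Fin m ⊕ Fin m) F) *ᵥ v)
  have h0 := Symp.isSymplecticForm_sympForm (F := F) m
  have hf : Cfsg.Geo.IsSymplecticForm f :=
    { bilinear :=
        { add_left := fun x y v => by simp only [f, mulVec_add, Symp.add_left h0, mul_add]
          smul_left := fun c x v => by simp only [f, mulVec_smul, Symp.smul_left h0]; ring
          add_right := fun v x y => by simp only [f, mulVec_add, Symp.add_right h0, mul_add]
          smul_right := fun c v x => by simp only [f, mulVec_smul, Symp.smul_right h0]; ring }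
      skew := fun v w => by simp only [f]; rw [h0.skew]; ring
      alternating := fun v => by simp only [f]; rw [h0.alternating, mul_zero]
      nondegenerate := fun v hv => by
        have hv' : (P : Matrix (Fin m ⊕ Fin m) (Fin m ⊕ Fin m) F) *ᵥ v ≠ 0 := fun h => hv
          (gl_mulVec_injective P (show (P : Matrix (Fin m ⊕ Fin m) (Fin m ⊕ Fin m) F) *ᵥ v = (P : Matrix (Fin m ⊕ Fin m) (Fin m ⊕ Fin m) F) *ᵥ 0 by rw [h, mulVec_zero]))
        obtain ⟨⟨x, hx⟩, ⟨y, hy⟩⟩ := h0.nondegenerate _ hv'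
        refine ⟨⟨((P⁻¹ : GL (Fin m ⊕ Fin m) F) : Matrix (Fin m ⊕ Fin m) (Fin m ⊕ Fin m) F) *ᵥ x, ?_⟩,
          ⟨((P⁻¹ : GL (Fin m ⊕ Fin m) F) : Matrix (Fin m ⊕ Fin m) (Fin m ⊕ Fin m) F) *ᵥ y, ?_⟩⟩
        · simp only [f, gl_mulVec_inv_mulVec]; exact mul_ne_zero hζ hx
        · simp only [f, gl_mulVec_inv_mulVec]; exact mul_ne_zero hζ hy }
  have hK : ∀ g, g ∈ (Cfsg.spGL m F).comap (MulAut.conj P).toMonoidHom ↔ Symp.IsIsometry f g := by
    intro g
    rw [Subgroup.mem_comap, Symp.mem_spGL]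
    change Symp.IsIsometry _ (P * g * P⁻¹) ↔ _
    constructor
    · intro h u v
      have := h ((P : Matrix (Fin m ⊕ Fin m) (Fin m ⊕ Fin m) F) *ᵥ u) ((P : Matrix (Fin m ⊕ Fin m) (Fin m ⊕ Fin m) F) *ᵥ v)
      simp only [gl_mul_mulVec, gl_inv_mulVec_mulVec] at this
      simp only [f, this]
    · intro h u v
      have := mul_left_cancel₀ hζ
        (h (((P⁻¹ : GL (Fin m ⊕ Fin m) F) : Matrix (Fin m ⊕ Fin m) (Fin m ⊕ Fin m) F) *ᵥ u) (((P⁻¹ : GL (Fin m ⊕ Fin m) F) : Matrix (Fin m ⊕ Fin m) (Fin m ⊕ Fin m) F) *ᵥ v))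
      simpa only [gl_mul_mulVec, gl_mulVec_inv_mulVec] using this
  have h := isMaximalIn_map (MulAut.conj P)
    (SympRoot.maximal_rational hf (by simp; omega) hP hr hcard hK)
  rw [Subgroup.map_inf _ _ _ (MulAut.conj P).injective,
    Subgroup.map_comap_eq_self_of_surjective (MulAut.conj P).surjective] at h
  exact h

end Cfsg.Agent.S5650
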