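import Cfsg.Statements.S5652
import Cfsg.Agent.Lib.GeomClasses.Symp

set_option autoImplicit false
open Cfsg

namespace Cfsg.Agent.S5652

open Matrix CfsgLib.GeomClasses CfsgLib.GeomClasses.Symp

variable {F : Type*} [Field F] {m : ℕ}

theorem exists_perp_nonsingular (hm : 3 ≤ m) {Q : (Fin m ⊕ Fin m → F) → F}
    (hpol : ∀ u v, QuadraticMap.polar Q u v = sympForm m F u v) (a b : Fin m ⊕ Fin m → F) :
    ∃ z, sympForm m F a z = 0 ∧ sympForm m F b z = 0 ∧ Q z ≠ 0 := by
  have hf := isSymplecticForm_sympForm (F := F) m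
  by_contra h
  push Not at h
  have hmem : ∀ {z}, z ∈ perp hf (Submodule.span F {a, b}) →
      sympForm m F a z = 0 ∧ sympForm m F b z = 0 := fun hz =>
    ⟨(mem_perp hf).1 hz a (Submodule.subset_span (Set.mem_insert _ _)),
      (mem_perp hf).1 hz b (Submodule.subset_span (Set.mem_insert_of_mem _ rfl))⟩
  have h2 : Module.finrank F (Submodule.span F ({a, b} : Set (Fin m ⊕ Fin m → F))) ≤ 2 := by
    classical
    have := finrank_span_finset_le_card (R := F) ({a, b} : Finset (Fin m ⊕ Fin m → F))
    rw [Finset.coe_pair] at this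
    exact this.trans Finset.card_le_two
  set P := perp hf (Submodule.span F ({a, b} : Set (Fin m ⊕ Fin m → F))) with hP
  have hPP : P ≤ perp hf P := fun z hz => (mem_perp hf).2 fun w hw => by
    obtain ⟨z1, z2⟩ := hmem hz
    obtain ⟨w1, w2⟩ := hmem hw
    obtain ⟨s1, s2⟩ := hmem (P.add_mem hw hz)
    rw [← hpol, QuadraticMap.polar, h _ s1 s2, h _ z1 z2, h _ w1 w2, sub_zero, sub_zero]
  have e1 := Submodule.finrank_mono hPP
  have e2 := finrank_perp hf P
  have e3 : Module.finrank F P + _ = _ := finrank_perp hf (Submodule.span F ({a, b} : Set _))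
  rw [Fintype.card_sum, Fintype.card_fin] at e2 e3
  omega

theorem result {F : Type*} [Field F] [Fintype F] (m : ℕ) (hm : 7 ≤ m) (heven : ¬ Odd (Fintype.card F)) (Q : (Fin m ⊕ Fin m → F) → F) (hQ : Cfsg.Geo.IsNondegenerateQuadraticForm Q) (hpol : ∀ u v, QuadraticMap.polar Q u v = Cfsg.sympForm m F u v) : Cfsg.Geo.IsMaximalIn (Cfsg.spGL m F) (Cfsg.Geo.quadSimilarityGroup Q ⊓ Cfsg.spGL m F) := by
  have hf := isSymplecticForm_sympForm (F := F) m
  have hp : ringChar F = 2 := by
    by_contra h
    exact heven (Nat.odd_iff.2 (FiniteField.odd_card_of_char_ne_two h))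
  have : CharP F 2 := hp ▸ ringChar.charP F
  have h2 : (2 : F) = 0 := CharTwo.two_eq_zero
  have sqrt : ∀ a : F, ∃ r, r ^ 2 = a := fun a => by
    obtain ⟨r, hr⟩ := FiniteField.isSquare_of_char_two hp a
    exact ⟨r, by rw [hr, pow_two]⟩
  have qadd : ∀ x y, Q (x + y) = Q x + Q y + sympForm m F x y := fun x y => by
    rw [← hpol, QuadraticMap.polar]
    ring
  have qsmul : ∀ (c : F) x, Q (c • x) = c ^ 2 * Q x := hQ.smul
  have refl_mem : ∀ v, Q v = 1 →
      formTv (sympForm m F) v 1 ∈ Cfsg.Geo.quadSimilarityGroup Q ⊓ Cfsg.spGL m F := fun v hv => by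
    refine ⟨⟨1, fun x => ?_⟩, formTv_mem_spGL m v 1⟩
    rw [formTv_mulVec hf, qadd, qsmul, hv, Symp.smul_right hf, Units.val_one]
    linear_combination (sympForm m F x v) ^ 2 * h2
  have exists_one : ∀ a b, ∃ z, sympForm m F a z = 0 ∧ sympForm m F b z = 0 ∧ Q z = 1 := fun a b => by
    obtain ⟨z, z1, z2, z3⟩ := exists_perp_nonsingular (by omega) hpol a b
    obtain ⟨r, hr⟩ := sqrt (Q z)⁻¹
    exact ⟨r • z, by rw [Symp.smul_right hf, z1, mul_zero], by rw [Symp.smul_right hf, z2, mul_zero],
      by rw [qsmul, hr, inv_mul_cancel₀ z3]⟩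
  refine ⟨lt_of_le_of_ne inf_le_right fun heq => ?_, fun M hle hMle => ?_⟩
  · -- a transvection with a singular centre
    let v : Fin m ⊕ Fin m → F := Pi.single (Sum.inl ⟨0, by omega⟩) 1
    have hv : v ≠ 0 := by simp [v]
    obtain ⟨u₀, hu₀⟩ := (hf.nondegenerate v hv).2
    obtain ⟨z, z1, z2, z3⟩ := exists_one v u₀
    obtain ⟨s, hs⟩ := sqrt (Q v)
    set w := v + s • z with hw
    have hQw : Q w = 0 := by
      rw [hw, qadd, qsmul, z3, Symp.smul_right hf, z1]
      linear_combination hs + Q v * h2
    have hw0 : w ≠ 0 := by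
      intro h
      have h' := congrArg (fun t => sympForm m F u₀ t) h
      simp only [hw, Symp.add_right hf, Symp.smul_right hf, z2, Symp.zero_right hf, mul_zero,
        add_zero] at h'
      exact ne_zero_comm hf hu₀ h'
    have hg := formTv_mem_spGL (F := F) m w 1
    rw [← heq] at hg
    obtain ⟨c, hc⟩ := hg.1
    obtain ⟨y, y1, -, y3⟩ := exists_one w w
    have e1 := hc y
    rw [formTv_mulVec hf, hf.skew y w, y1, neg_zero, mul_zero, zero_smul, add_zero, y3, mul_one] at e1
    obtain ⟨x, hx⟩ := (hf.nondegenerate w hw0).1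
    have e2 := hc x
    rw [formTv_mulVec hf, qadd, qsmul, hQw, ← e1, one_mul, Symp.smul_right hf] at e2
    apply hx
    have : sympForm m F x w * sympForm m F x w = 0 := by linear_combination e2
    exact mul_self_eq_zero.1 this
  · by_cases hall : M ≤ Cfsg.Geo.quadSimilarityGroup Q
    · exact Or.inl (le_antisymm (le_inf hall hMle) hle)
    right
    set T : Set (Fin m ⊕ Fin m → F) := {v | formTv (sympForm m F) v 1 ∈ M} with hT
    have T_inv : ∀ g ∈ M, ∀ v ∈ T, (g : Matrix (Fin m ⊕ Fin m) (Fin m ⊕ Fin m) F) *ᵥ v ∈ T :=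
      fun g hg v hv => by
        change formTv _ _ _ ∈ M
        rw [← conj_formTv hf (mem_spGL.1 (hMle hg))]
        exact M.mul_mem (M.mul_mem hg hv) (M.inv_mem hg)
    have T_step : ∀ x ∈ T, ∀ y ∈ T, x + sympForm m F x y • y ∈ T := fun x hx y hy => by
      have := T_inv _ hy x hx
      rwa [formTv_mulVec hf, one_mul] at this
    have T_one : ∀ v, Q v = 1 → v ∈ T := fun v hv => hle (refl_mem v hv)
    -- nonorthogonal to both
    have exists_u : ∀ x y, x ≠ 0 → y ≠ 0 →
        ∃ u, Q u = 1 ∧ sympForm m F x u ≠ 0 ∧ sympForm m F y u ≠ 0 := by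
      intro x y hx hy
      obtain ⟨a, ha1, ha2⟩ := exists_dot_ne_zero_both ((sesq hf).fVec_ne_zero hf.nondegenerate hx)
        ((sesq hf).fVec_ne_zero hf.nondegenerate hy)
      rw [(sesq hf).fVec_dot] at ha1 ha2
      have ha1' := ne_zero_comm hf ha1
      have ha2' := ne_zero_comm hf ha2
      obtain ⟨z, z1, z2, z3⟩ := exists_perp_nonsingular (by omega) hpol x y
      obtain ⟨u, hu, u1, u2⟩ : ∃ u, Q u ≠ 0 ∧ sympForm m F x u ≠ 0 ∧ sympForm m F y u ≠ 0 := by
        by_cases hQa : Q a = 0
        · by_cases hQaz : Q (a + z) = 0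
          · -- adjust by another perpendicular vector
            obtain ⟨w, w1, w2, w3⟩ : ∃ w, sympForm m F x w = 0 ∧ sympForm m F y w = 0 ∧
                Q (a + w) ≠ 0 := by
              by_contra h
              push Not at h
              -- then the form vanishes on the common perpendicular
              set P := perp hf (Submodule.span F ({x, y} : Set (Fin m ⊕ Fin m → F))) with hP
              have hmem : ∀ {t}, t ∈ P → sympForm m F x t = 0 ∧ sympForm m F y t = 0 := fun ht =>
                ⟨(mem_perp hf).1 ht x (Submodule.subset_span (Set.mem_insert _ _)),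
                  (mem_perp hf).1 ht y (Submodule.subset_span (Set.mem_insert_of_mem _ rfl))⟩
              have hPP : P ≤ perp hf P := fun t ht => (mem_perp hf).2 fun t' ht' => by
                have e1 := h t (hmem ht).1 (hmem ht).2
                have e2 := h t' (hmem ht').1 (hmem ht').2
                have e3 := h (t' + t) (hmem (P.add_mem ht' ht)).1 (hmem (P.add_mem ht' ht)).2
                rw [qadd, hQa] at e1 e2
                rw [qadd, qadd, hQa, Symp.add_right hf] at e3
                linear_combination e3 - e1 - e2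
              have f1 := Submodule.finrank_mono hPP
              have f2 := finrank_perp hf P
              have f3 : Module.finrank F P + _ = _ :=
                finrank_perp hf (Submodule.span F ({x, y} : Set _))
              have f4 : Module.finrank F (Submodule.span F ({x, y} : Set (Fin m ⊕ Fin m → F))) ≤ 2 := by
                classical
                have := finrank_span_finset_le_card (R := F) ({x, y} : Finset (Fin m ⊕ Fin m → F))
                rw [Finset.coe_pair] at this
                exact this.trans Finset.card_le_two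
              rw [Fintype.card_sum, Fintype.card_fin] at f2 f3
              omega
            exact ⟨a + w, w3, by rwa [Symp.add_right hf, w1, add_zero],
              by rwa [Symp.add_right hf, w2, add_zero]⟩
          · exact ⟨a + z, hQaz, by rwa [Symp.add_right hf, z1, add_zero],
              by rwa [Symp.add_right hf, z2, add_zero]⟩
        · exact ⟨a, hQa, ha1', ha2'⟩
      obtain ⟨r, hr⟩ := sqrt (Q u)⁻¹
      have hr0 : r ≠ 0 := by
        rintro rfl
        simp at hr; exact hu hr.symm
      exact ⟨r • u, by rw [qsmul, hr, inv_mul_cancel₀ hu],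
        by rw [Symp.smul_right hf]; exact mul_ne_zero hr0 u1,
        by rw [Symp.smul_right hf]; exact mul_ne_zero hr0 u2⟩
    -- the reflections act transitively on non-zero vectors of equal value
    have near : ∀ x ∈ T, ∀ y, Q x = Q y → sympForm m F x y ≠ 0 → y ∈ T := by
      intro x hx y hxy hf'
      obtain ⟨r, hr⟩ := sqrt (sympForm m F x y)⁻¹
      have hd : Q (r • (y - x)) = 1 := by
        rw [qsmul, show y - x = y + (-1 : F) • x by rw [neg_one_smul, sub_eq_add_neg], qadd, qsmul,
          Symp.smul_right hf, hf.skew y x, hxy, hr, show Q y + (-1 : F) ^ 2 * Q y + -1 * -sympForm m F x y =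
            sympForm m F x y by linear_combination (Q y) * h2, inv_mul_cancel₀ hf']
      have := T_step x hx _ (T_one _ hd)
      rwa [Symp.smul_right hf, Symp.sub_right hf, hf.alternating, sub_zero, smul_smul,
        mul_right_comm, ← pow_two, hr, inv_mul_cancel₀ hf', one_smul, add_sub_cancel] at this
    have trans : ∀ x ∈ T, x ≠ 0 → ∀ y, y ≠ 0 → Q x = Q y → y ∈ T := by
      intro x hx hx0 y hy0 hxy
      by_cases h : sympForm m F x y = 0
      · obtain ⟨u, hu1, hu2, hu3⟩ := exists_u x y hx0 hy0
        have hx' := T_step x hx u (T_one u hu1)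
        refine near _ hx' y ?_ ?_
        · rw [qadd, qsmul, hu1, Symp.smul_right hf, ← hxy]
          linear_combination (sympForm m F x u) ^ 2 * h2
        · rw [Symp.add_left hf, h, zero_add, Symp.smul_left hf]
          exact mul_ne_zero hu2 (ne_zero_comm hf hu3)
      · exact near x hx y hxy h
    -- a centre whose value is not one
    obtain ⟨w, hwT, hw0, hw1⟩ : ∃ w ∈ T, w ≠ 0 ∧ Q w ≠ 1 := by
      by_contra h
      push Not at h
      obtain ⟨g, hgM, hg⟩ := SetLike.not_le_iff_exists.1 hall
      apply hg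
      refine ⟨1, fun x => ?_⟩
      rw [Units.val_one, one_mul]
      have hone : ∀ v, Q v = 1 → Q ((g : Matrix (Fin m ⊕ Fin m) (Fin m ⊕ Fin m) F) *ᵥ v) = 1 := by
        intro v hv
        refine h _ (T_inv g hgM v (T_one v hv)) (gl_mulVec_ne_zero g ?_)
        rintro rfl
        have h0 := qsmul 0 0
        rw [zero_smul, hv] at h0
        simp at h0
      have hns : ∀ v, Q v ≠ 0 → Q ((g : Matrix (Fin m ⊕ Fin m) (Fin m ⊕ Fin m) F) *ᵥ v) = Q v := by
        intro v hv
        obtain ⟨r, hr⟩ := sqrt (Q v)⁻¹
        have := hone (r • v) (by rw [qsmul, hr, inv_mul_cancel₀ hv])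
        rw [mulVec_smul, qsmul, hr] at this
        exact (inv_mul_eq_one₀ hv).1 this |>.symm
      by_cases hx : Q x = 0
      · obtain ⟨z, z1, -, z3⟩ := exists_one x x
        have e := hns (x + z) (by rw [qadd, hx, z3, z1]; simp)
        rw [mulVec_add, qadd, qadd, hns z (by rw [z3]; exact one_ne_zero),
          mem_spGL.1 (hMle hgM) x z, z1, hx, add_zero, add_zero, zero_add, add_eq_right] at e
        rw [e, hx]
      · exact hns x hx
    -- every value occurs
    have values : ∀ t : F, ∃ x ∈ T, x ≠ 0 ∧ Q x = t := by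
      intro t
      by_cases ht : t = 1
      · obtain ⟨z, -, -, z3⟩ := exists_one w w
        refine ⟨z, T_one z z3, ?_, z3.trans ht.symm⟩
        rintro rfl
        have h0 := qsmul 0 0
        rw [zero_smul, z3] at h0
        simp at h0
      obtain ⟨lam, hlam⟩ := sqrt ((t + 1) / (Q w + 1))
      have hw1' : Q w + 1 ≠ 0 := fun h => hw1 (CharTwo.add_eq_zero.1 h)
      obtain ⟨u₀, hu₀⟩ := (hf.nondegenerate w hw0).1
      set u₁ := (lam / sympForm m F u₀ w) • u₀ with hu₁
      have hu₁w : sympForm m F u₁ w = lam := by rw [hu₁, Symp.smul_left hf, div_mul_cancel₀ _ hu₀]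
      obtain ⟨z, z1, z2, z3⟩ := exists_one w u₁
      obtain ⟨μ, hμ⟩ := sqrt (Q u₁ + 1)
      set u := u₁ + μ • z with hu
      have hQu : Q u = 1 := by
        rw [hu, qadd, qsmul μ z, z3, Symp.smul_right hf, z2]
        linear_combination hμ + Q u₁ * h2
      have huw : sympForm m F u w = lam := by
        rw [hu, Symp.add_left hf, hu₁w, Symp.smul_left hf, hf.skew z w, z1, neg_zero, mul_zero, add_zero]
      refine ⟨u + lam • w, ?_, ?_, ?_⟩
      · have := T_step u (T_one u hQu) w hwT
        rwa [huw] at this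
      · intro h0
        have e : u = -(lam • w) := eq_neg_of_add_eq_zero_left h0
        have e2 := congrArg (fun s => sympForm m F s w) e
        simp only [huw, Symp.neg_left hf, Symp.smul_left hf, hf.alternating, mul_zero, neg_zero] at e2
        rw [e2, zero_smul, add_zero] at h0
        have h0' := qsmul 0 0
        rw [zero_smul, ← h0, hQu] at h0'
        simp at h0'
      · rw [qadd, qsmul, hQu, Symp.smul_right hf, huw]
        have : lam ^ 2 * (Q w + 1) = t + 1 := by rw [hlam, div_mul_cancel₀ _ hw1']
        linear_combination this + h2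
    have allT : ∀ v, v ∈ T := by
      intro v
      by_cases hv : v = 0
      · change formTv _ v 1 ∈ M
        rw [hv, formTv, tv_zero_left]
        exact M.one_mem
      obtain ⟨x, hxT, hx0, hxv⟩ := values (Q v)
      exact trans x hxT hx0 v hv hxv
    apply eq_spGL_of_centres hMle
    intro v c
    obtain ⟨r, hr⟩ := sqrt c
    have := allT (r • v)
    change formTv _ _ 1 ∈ M at this
    rwa [formTv_smul hf, mul_one, ← pow_two, hr] at this

end Cfsg.Agent.S5652
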