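import Cfsg.Statements.S5656
import Cfsg.Agent.Lib.GeomClasses.UnitPow
import Cfsg.Agent.Lib.GeomClasses.Decomp

set_option autoImplicit false
open Cfsg

namespace Cfsg.Agent.S5656

open Matrix CfsgLib.GeomClasses

theorem result {F : Type*} [Field F] [Fintype F] (n : ℕ) (hF : Fintype.card F = 4) (hn : 13 ≤ n) {t : ℕ} (D : Fin t → Submodule F (Fin n → F)) (hD : Cfsg.Geo.IsNondegenerateMDecomposition (Cfsg.hermForm n F 2) 2 D) : ∃ K : Subgroup (Matrix.GeneralLinearGroup (Fin n) F), Cfsg.Geo.decompositionStabilizer D ⊓ (Cfsg.GU n F 2 ⊓ Cfsg.Geo.specialLinear (Fin n) F) < K ∧ K < (Cfsg.GU n F 2 ⊓ Cfsg.Geo.specialLinear (Fin n) F) := by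
  classical
  have hF' : Fintype.card F = 2 ^ 2 := by rw [hF]; norm_num
  set σ := UnitPow.conj hF' with hσ
  have hf := UnitPow.isUnitaryForm_hermForm hF' n
  set f := Cfsg.hermForm n F 2 with hfdef
  have h20 := UnitPow.four_two_zero (F := F) hF
  have hfix : ∀ b : F, σ b = b → b ≠ 0 → b = 1 := fun b hb hb0 => UnitPow.four_fixed hF b hb hb0
  have hnorm : ∀ r : F, r ≠ 0 → r * σ r = 1 := fun r hr => by
    refine hfix _ ?_ (mul_ne_zero hr (by simpa [hσ] using hr))
    rw [map_mul, hf.involutive]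
    ring
  have hpair := fun i => UnitPow.exists_orth_pair hf hfix (hD.nondegenerate i) (hD.decomp.finrank_eq i)
  choose a b ha hb haa hbb hab hba hexp using hpair
  have ht := hD.decomp.two_le
  let i₀ : Fin t := ⟨0, by omega⟩
  let i₁ : Fin t := ⟨1, by omega⟩
  have hi : i₀ ≠ i₁ := by simp [i₀, i₁]
  have horth : ∀ i j, i ≠ j → ∀ x ∈ D i, ∀ y ∈ D j, f x y = 0 := fun i j h x hx y hy =>
    hD.orthogonal i j h x hx y hy
  have huniq : ∀ i j x, x ∈ D i → x ∈ D j → x ≠ 0 → i = j := by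
    intro i j x hx hy hx0
    by_contra h
    exact hx0 ((Decomp.comp_of_mem hD.decomp hx).symm.trans (Decomp.comp_of_mem_ne hD.decomp (Ne.symm h) hy))
  have ha0 : ∀ i, a i ≠ 0 := fun i h => by simpa [h, Unit.zero_left hf] using haa i
  have hb0 : ∀ i, b i ≠ 0 := fun i h => by simpa [h, Unit.zero_left hf] using hbb i
  let S : Set (Fin n → F) := {y | ∃ i, y ∈ D i ∧ f y y ≠ 0}
  have hI : ∀ v, f v v = 0 → formTv f v 1 ∈ Cfsg.GU n F 2 ⊓ Cfsg.Geo.specialLinear (Fin n) F := fun v hv =>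
    ⟨UnitPow.mem_GU.2 (Unit.formTv_isometry hf hv (by rw [map_one]; linear_combination h20)),
      formTv_mem_specialLinear _ _ _⟩
  refine ⟨Cfsg.stabilizing (Cfsg.glToMat (Fin n) F) S ⊓ (Cfsg.GU n F 2 ⊓ Cfsg.Geo.specialLinear (Fin n) F),
    lt_of_le_of_ne ?_ fun heq => ?_, lt_of_le_of_ne inf_le_right fun heq => ?_⟩
  · have key : ∀ g ∈ Cfsg.Geo.decompositionStabilizer D ⊓ (Cfsg.GU n F 2 ⊓ Cfsg.Geo.specialLinear (Fin n) F),
        ∀ y ∈ S, (g : Matrix (Fin n) (Fin n) F) *ᵥ y ∈ S := by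
      rintro g ⟨⟨τ, hτ⟩, hg, -⟩ y ⟨i, hy, hyy⟩
      refine ⟨τ i, (hτ i) ▸ ⟨y, hy, by rw [Matrix.toLin'_apply]⟩, ?_⟩
      rw [show f ((g : Matrix (Fin n) (Fin n) F) *ᵥ y) ((g : Matrix (Fin n) (Fin n) F) *ᵥ y) = f y y from
        UnitPow.mem_GU.1 hg y y]
      exact hyy
    refine fun g hg => ⟨fun y => ⟨key g hg y, fun hy => ?_⟩, hg.2⟩
    have := key g⁻¹ (Subgroup.inv_mem _ hg) _ hy
    change ((g⁻¹ : GL (Fin n) F) : Matrix (Fin n) (Fin n) F) *ᵥ ((g : Matrix (Fin n) (Fin n) F) *ᵥ y) ∈ S at this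
    rwa [gl_inv_mulVec_mulVec] at this
  · -- exchange two orthonormal vectors of different members
    set v := a i₀ + a i₁ with hv
    have hvv : f v v = 0 := by
      rw [hv, Unit.add_left hf, Unit.add_right hf, Unit.add_right hf, haa, haa,
        horth i₀ i₁ hi _ (ha _) _ (ha _), horth i₁ i₀ hi.symm _ (ha _) _ (ha _)]
      linear_combination h20
    set g := formTv f v 1 with hg
    have hgm : ∀ x, (g : Matrix (Fin n) (Fin n) F) *ᵥ x = x + f x v • v := fun x => by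
      rw [hg, Unit.formTv_mulVec hf hvv, one_mul]
    have hinvol : ∀ x, (g : Matrix (Fin n) (Fin n) F) *ᵥ ((g : Matrix (Fin n) (Fin n) F) *ᵥ x) = x := fun x => by
      rw [hgm, hgm, Unit.add_left hf, Unit.smul_left hf, hvv, mul_zero, add_zero, add_assoc, ← add_smul,
        ← two_mul, h20, zero_mul, zero_smul, add_zero]
    have hside : ∀ i j, i ≠ j → v = a i + a j → ∀ y ∈ D i, f y y ≠ 0 → (g : Matrix (Fin n) (Fin n) F) *ᵥ y ∈ S := by
      intro i j hij hvij y hy hyy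
      have hfyv : f y v = f y (a i) := by
        rw [hvij, Unit.add_right hf, horth i j hij y hy _ (ha j), add_zero]
      rcases eq_or_ne (f y (a i)) 0 with h0 | h0
      · rw [hgm, hfyv, h0, zero_smul, add_zero]
        exact ⟨i, hy, hyy⟩
      · have hs : f y (b i) = 0 := by
          by_contra hs
          apply hyy
          conv_lhs => rw [hexp i y hy]
          simp only [Unit.add_left hf, Unit.add_right hf, Unit.smul_left hf, Unit.smul_right hf, haa, hbb, hab,
            hba, mul_one, mul_zero, add_zero, zero_add]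
          rw [hnorm _ h0, hnorm _ hs]
          linear_combination h20
        have himg : (g : Matrix (Fin n) (Fin n) F) *ᵥ y = f y (a i) • a j := by
          rw [hgm, hfyv]
          conv_lhs => arg 1; rw [hexp i y hy, hs, zero_smul, add_zero]
          rw [← smul_add, hvij, ← add_assoc, ← two_smul F (a i), h20, zero_smul, zero_add]
        rw [himg]
        exact ⟨j, (D j).smul_mem _ (ha j), by
          rw [Unit.smul_left hf, Unit.smul_right hf, haa, mul_one, hnorm _ h0]; exact one_ne_zero⟩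
    have hmaps : ∀ y ∈ S, (g : Matrix (Fin n) (Fin n) F) *ᵥ y ∈ S := by
      rintro y ⟨i, hy, hyy⟩
      by_cases h0 : i = i₀
      · exact hside i₀ i₁ hi hv y (h0 ▸ hy) hyy
      by_cases h1 : i = i₁
      · exact hside i₁ i₀ hi.symm (hv.trans (add_comm _ _)) y (h1 ▸ hy) hyy
      rw [hgm, hv, Unit.add_right hf, horth i i₀ h0 y hy _ (ha _), horth i i₁ h1 y hy _ (ha _), add_zero,
        zero_smul, add_zero]
      exact ⟨i, hy, hyy⟩
    have hgK : g ∈ Cfsg.stabilizing (Cfsg.glToMat (Fin n) F) S :=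
      fun y => ⟨hmaps y, fun hy => by
        have h' : (g : Matrix (Fin n) (Fin n) F) *ᵥ ((g : Matrix (Fin n) (Fin n) F) *ᵥ y) ∈ S := hmaps _ hy
        rwa [hinvol y] at h'⟩
    obtain ⟨τ, hτ⟩ := (heq.ge ⟨hgK, hI v hvv⟩).1
    have hga : a i₁ ∈ D (τ i₀) := by
      rw [← hτ i₀]
      refine ⟨a i₀, ha i₀, ?_⟩
      rw [Matrix.toLin'_apply, hgm, hv, Unit.add_right hf, haa, horth i₀ i₁ hi _ (ha _) _ (ha _), add_zero,
        one_smul, ← add_assoc, ← two_smul F (a i₀), h20, zero_smul, zero_add]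
    have hgb : b i₀ ∈ D (τ i₀) := by
      rw [← hτ i₀]
      refine ⟨b i₀, hb i₀, ?_⟩
      rw [Matrix.toLin'_apply, hgm, hv, Unit.add_right hf, hba, horth i₀ i₁ hi _ (hb _) _ (ha _), add_zero,
        zero_smul, add_zero]
    exact hi ((huniq _ _ _ (hb i₀) hgb (hb0 _)).trans (huniq _ _ _ hga (ha i₁) (ha0 _)))
  · -- a transvection moving a line of the frame off the frame
    set v := a i₀ + b i₀ + (a i₁ + b i₁) with hv
    have hvv : f v v = 0 := by
      simp only [hv, Unit.add_left hf, Unit.add_right hf, haa, hbb, hab, hba,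
        horth i₀ i₁ hi _ (ha _) _ (ha _), horth i₁ i₀ hi.symm _ (ha _) _ (ha _),
        horth i₀ i₁ hi _ (ha _) _ (hb _), horth i₁ i₀ hi.symm _ (ha _) _ (hb _),
        horth i₀ i₁ hi _ (hb _) _ (ha _), horth i₁ i₀ hi.symm _ (hb _) _ (ha _),
        horth i₀ i₁ hi _ (hb _) _ (hb _), horth i₁ i₀ hi.symm _ (hb _) _ (hb _)]
      linear_combination 2 * h20
    have hav : f (a i₀) v = 1 := by
      simp only [hv, Unit.add_right hf, haa, hab, horth i₀ i₁ hi _ (ha _) _ (ha _),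
        horth i₀ i₁ hi _ (ha _) _ (hb _), add_zero]
    obtain ⟨k, hk, -⟩ := ((heq.ge (hI v hvv)).1 (a i₀)).1 ⟨i₀, ha i₀, by rw [haa]; exact one_ne_zero⟩
    change (formTv f v 1 : Matrix (Fin n) (Fin n) F) *ᵥ a i₀ ∈ D k at hk
    rw [Unit.formTv_mulVec hf hvv, hav, one_mul, one_smul] at hk
    have p1 : f (a i₀ + v) (a i₁) = 1 := by
      simp only [hv, Unit.add_left hf, haa, hba, horth i₀ i₁ hi _ (ha _) _ (ha _),
        horth i₀ i₁ hi _ (hb _) _ (ha _), add_zero, zero_add]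
    have p2 : f (a i₀ + v) (b i₀) = 1 := by
      simp only [hv, Unit.add_left hf, hbb, hab, horth i₁ i₀ hi.symm _ (ha _) _ (hb _),
        horth i₁ i₀ hi.symm _ (hb _) _ (hb _), add_zero, zero_add]
    have hk1 : k = i₁ := by
      by_contra h
      rw [horth k i₁ h _ hk _ (ha i₁)] at p1
      exact zero_ne_one p1
    subst hk1
    rw [horth i₁ i₀ hi.symm _ hk _ (hb i₀)] at p2
    exact zero_ne_one p2

end Cfsg.Agent.S5656
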