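import Cfsg.Statements.S5662
import Cfsg.Agent.Lib.Geo.AschSympFull

set_option autoImplicit false
open Cfsg

namespace Cfsg.Agent.S5662

/-- Subgroup structure of the finite symplectic groups. Let F be a finite field and m ≥ 2 with (m, |F|) ≠ (2, 2), and let Sp_2m(F) be the group of invertible matrices preserving the standard alternating form on F^(2m). Let H be a subgroup of Sp_2m(F) whose product with the scalar matrices ±1 is not all of Sp_2m(F) (H does not cover PSp_2m(F)). Then either H is contained in a member of one of the eight geometric classes of subgroups of Sp_2m(F) (with the conditions built into InSymplecticClass), or H is in the residual class: modulo scalars it is almost simple, and the perfect preimage of its socle acts absolutely irreducibly, is realisable over no proper subfield, and fixes no non-degenerate quadratic form and no non-degenerate unitary form on F^(2m).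 -/
theorem result {F : Type*} [Field F] [Fintype F] (m : ℕ) (hm : 2 ≤ m) (hex : ¬ (m = 2 ∧ Fintype.card F = 2)) (H : Subgroup (Matrix.GeneralLinearGroup (Fin m ⊕ Fin m) F)) (hH : H ≤ Cfsg.spGL m F) (hproper : H ⊔ (Cfsg.Geo.scalars (Fin m ⊕ Fin m) F ⊓ Cfsg.spGL m F) ≠ Cfsg.spGL m F) : (∃ M : Subgroup (Matrix.GeneralLinearGroup (Fin m ⊕ Fin m) F), Cfsg.Geo.InSymplecticClass m F M ∧ H ≤ M) ∨ Cfsg.Geo.InSymplecticResidualClass H := by
  haveI : Nonempty (Fin m ⊕ Fin m) := ⟨Sum.inl ⟨0, by omega⟩⟩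
  have hc : Fintype.card (Fin m ⊕ Fin m) = m + m := by simp
  have hf := CfsgLib.GeomClasses.Symp.isSymplecticForm_sympForm (F := F) m
  have hI : ∀ {S : Subgroup (Matrix.GeneralLinearGroup (Fin m ⊕ Fin m) F)}, H ≤ S → H ≤ S ⊓ Cfsg.spGL m F :=
    fun h => le_inf h hH
  rcases CfsgLib.Geo.Asch.symplectic_containment hf (H := H) (fun g hg => hH hg) (by omega) with
    ⟨W, h1, hW, hle⟩ | ⟨W, h1, hW, hd, hle⟩ | ⟨t, k, D, hD, hle⟩ | ⟨ho, k, D, hk, hD, hTS, hle⟩ |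
    ⟨s, K, hs, hK, hsa, halt, hle⟩ | ⟨ho, K, hK, hKa, hns, hle⟩ |
    ⟨ho, a, b, e, P, f₁, f₂, hb, h₁, h₂, hT, hle⟩ | ⟨F₀, r, P, ζ, hr, hcF, hζ, hform, hle⟩ |
    ⟨p, k, R, hp, hpo, hF, hR, habs, hRs, hcard, hZ, hminus, hle⟩ |
    ⟨ho, k, t, e, P, f₁, hto, ht3, hne, h₁, hT, hle⟩ | ⟨hev, Q, hQ, hpol, hle⟩ | h
  · exact Or.inl ⟨_, Or.inl (Or.inl ⟨W, h1, hW, rfl⟩), hI hle⟩
  · exact Or.inl ⟨_, Or.inl (Or.inr (Or.inl ⟨W, h1, hW, by omega, rfl⟩)), hI hle⟩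
  · exact Or.inl ⟨_, Or.inl (Or.inr (Or.inr (Or.inl ⟨t, k, D, hD, rfl⟩))), hI hle⟩
  · obtain rfl : k = m := by omega
    exact Or.inl ⟨_, Or.inl (Or.inr (Or.inr (Or.inr (Or.inl ⟨D, ho, hD, hTS, rfl⟩)))), hI hle⟩
  · exact Or.inl ⟨_, Or.inr (Or.inl ⟨s, K, hs, hK, hsa, halt, rfl⟩), hI hle⟩
  · exact Or.inl ⟨_, Or.inr (Or.inr (Or.inl ⟨K, ho, hK, hKa, hns, rfl⟩)), hI hle⟩
  · exact Or.inl ⟨_, Or.inr (Or.inr (Or.inr (Or.inl ⟨a, b, e, P, f₁, f₂, ho, hb, h₁, h₂, hT, rfl⟩))), hI hle⟩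
  · exact Or.inl ⟨_, Or.inl (Or.inr (Or.inr (Or.inr (Or.inr (Or.inl ⟨F₀, r, P, ζ, hr, hcF, hζ, hform, rfl⟩))))), hI hle⟩
  · exact Or.inl ⟨_, Or.inl (Or.inr (Or.inr (Or.inr (Or.inr (Or.inr (Or.inl
      ⟨R, p, k, hR, habs, hRs, hp, hpo, hF, hcard, hZ, hminus, rfl⟩)))))), hI hle⟩
  · exact Or.inl ⟨_, Or.inr (Or.inr (Or.inr (Or.inr ⟨k, t, e, P, f₁, ho, hto, ht3, hne, h₁, hT, rfl⟩))), hI hle⟩
  · exact Or.inl ⟨_, Or.inl (Or.inr (Or.inr (Or.inr (Or.inr (Or.inr (Or.inr ⟨Q, hev, hQ, hpol, rfl⟩)))))), hI hle⟩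
  · exact Or.inr h

end Cfsg.Agent.S5662
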