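import Cfsg.Statements.S5663
import Cfsg.Agent.Lib.Geo.AschUnitFull
import Cfsg.Agent.Lib.GeomClasses.UnitPow

set_option autoImplicit false
open Cfsg

namespace Cfsg.Agent.S5663

/-- Subgroup structure of the finite unitary groups. Let F be the field with q² elements and n ≥ 3 with (n, q) ≠ (3, 2), and let SU_n(q) be the group of matrices of determinant one preserving the standard unitary form Σ u_i v_i^q on F^n. Let H be a subgroup of SU_n(q) whose product with the scalar matrices in SU_n(q) is not all of SU_n(q) (H does not cover PSU_n(q)). Then either H is contained in a member of one of the geometric classes of subgroups of the unitary group GU_n(q) (with the conditions built into InUnitaryClass), or H is in the residual class: modulo scalars it is almost simple, and the perfect preimage of its socle acts absolutely irreducibly, is realisable over no proper subfield of F, and fixes no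 non-degenerate quadratic form and no non-degenerate symplectic form on F^n. -/
theorem result {F : Type*} [Field F] [Fintype F] (n q : ℕ) (hF : Fintype.card F = q ^ 2) (hn : 3 ≤ n) (hex : ¬ (n = 3 ∧ q = 2)) (H : Subgroup (Matrix.GeneralLinearGroup (Fin n) F)) (hH : H ≤ (Cfsg.GU n F q ⊓ Cfsg.Geo.specialLinear (Fin n) F)) (hproper : H ⊔ (Cfsg.Geo.scalars (Fin n) F ⊓ (Cfsg.GU n F q ⊓ Cfsg.Geo.specialLinear (Fin n) F)) ≠ (Cfsg.GU n F q ⊓ Cfsg.Geo.specialLinear (Fin n) F)) : (∃ M : Subgroup (Matrix.GeneralLinearGroup (Fin n) F), Cfsg.Geo.InUnitaryClass n F q M ∧ H ≤ M) ∨ Cfsg.Geo.InUnitaryResidualClass H := by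
  haveI : Nonempty (Fin n) := ⟨⟨0, by omega⟩⟩
  have hc : Fintype.card (Fin n) = n := Fintype.card_fin n
  have hf := CfsgLib.GeomClasses.UnitPow.isUnitaryForm_hermForm hF n
  have hσq := fun x => CfsgLib.GeomClasses.UnitPow.conj_apply hF x
  have hσ : ((CfsgLib.GeomClasses.UnitPow.conj hF : F ≃+* F) : F → F) = fun x : F => x ^ q := funext hσq
  have hI : ∀ {S : Subgroup (Matrix.GeneralLinearGroup (Fin n) F)}, H ≤ S → H ≤ S ⊓ Cfsg.GU n F q :=
    fun h => le_inf h fun g hg => (hH hg).1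
  rcases CfsgLib.Geo.Asch.unitary_containment hF hσq hf (H := H)
      (fun g hg => CfsgLib.GeomClasses.UnitPow.mem_GU.1 (hH hg).1) (by omega) with
    ⟨W, h1, hW, hle⟩ | ⟨W, h1, hW, hd, hle⟩ | ⟨t, k, D, hD, hle⟩ | ⟨k, D, hk, hD, hTS, hle⟩ |
    (⟨F₀, r, P, hr, ho, hcF, hform, hle⟩ | ⟨F₀, P, ζ, hcF, hζ, hζq, hform, halt, hle⟩ | ⟨hq, F₀, P, hcF, hform, hle⟩) |
    ⟨r, R, p, e, k, hR, habs, hsim, hrp, hmin, hcase, hle⟩ | ⟨s, K, hs, ho, hK, hKa, hle⟩ |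
    ⟨a, b, e, P, f₁, f₂, ha, hab, h₁, h₂, hT, hle⟩ | ⟨k, t, e, P, f₁, hk, ht, hne, h₁, hT, hle⟩ | h
  · exact Or.inl ⟨_, Or.inl (Or.inl ⟨W, h1, hW, rfl⟩), hI hle⟩
  · exact Or.inl ⟨_, Or.inl (Or.inr (Or.inl ⟨W, h1, hW, by omega, rfl⟩)), hI hle⟩
  · exact Or.inl ⟨_, Or.inl (Or.inr (Or.inr (Or.inl ⟨t, k, D, hD, rfl⟩))), hI hle⟩
  · exact Or.inl ⟨_, Or.inl (Or.inr (Or.inr (Or.inr (Or.inl ⟨k, D, by omega, hD, hTS, rfl⟩)))), hI hle⟩
  · exact Or.inl ⟨_, Or.inl (Or.inr (Or.inr (Or.inr (Or.inr (Or.inl ⟨F₀, r, P, hr, ho, hcF, hform, rfl⟩))))), hI hle⟩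
  · obtain ⟨j, hj⟩ := CfsgLib.Geo.Asch.even_of_alternating hf P halt
    exact Or.inl ⟨_, Or.inl (Or.inr (Or.inr (Or.inr (Or.inr (Or.inr (Or.inr (Or.inl
      ⟨F₀, P, ζ, ⟨j, by omega⟩, hcF, hζ, hζq, hform, halt, rfl⟩))))))), hI hle⟩
  · exact Or.inl ⟨_, Or.inl (Or.inr (Or.inr (Or.inr (Or.inr (Or.inr (Or.inl ⟨F₀, P, hq, hcF, hform, rfl⟩)))))), hI hle⟩
  · exact Or.inl ⟨_, Or.inl (Or.inr (Or.inr (Or.inr (Or.inr (Or.inr (Or.inr (Or.inr
      ⟨r, R, p, e, k, hR, habs, hsim, hrp, hmin, hcase, rfl⟩))))))), hI hle⟩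
  · exact Or.inl ⟨_, Or.inr (Or.inl ⟨s, K, hs, ho, hK, hKa, rfl⟩), hI hle⟩
  · exact Or.inl ⟨_, Or.inr (Or.inr (Or.inl ⟨a, b, e, P, f₁, f₂, ha, hab, h₁, h₂, hσ ▸ hT, rfl⟩)), hI hle⟩
  · exact Or.inl ⟨_, Or.inr (Or.inr (Or.inr ⟨k, t, e, P, f₁, hk, ht, hne, h₁, hσ ▸ hT, rfl⟩)), hI hle⟩
  · exact Or.inr h

end Cfsg.Agent.S5663
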