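import Cfsg.Statements.S5667
import Cfsg.Agent.Lib.GeomClasses.Symp
import Cfsg.Agent.Lib.Maximal.TensorThree

set_option autoImplicit false
open Cfsg

namespace Cfsg.Agent.S5667

open Matrix CfsgLib.GeomClasses CfsgLib.Maximal.TensorTools CfsgLib.Maximal.TensorThree

theorem main {F : Type*} [Field F] [Fintype F] (hq : Fintype.card F = 3) {ι : Type} [Fintype ι] [DecidableEq ι]
    {n₁ : ℕ} (hn₁ : 0 < n₁) (f : (ι → F) → (ι → F) → F) (hf : Cfsg.Geo.IsSymplecticForm f)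
    (I : Subgroup (GL ι F)) (hI : ∀ g, g ∈ I ↔ Symp.IsIsometry f g)
    (e : ι ≃ Fin n₁ × Fin 3) (P : GL ι F) (f₁ : (Fin n₁ → F) → (Fin n₁ → F) → F)
    (f₂ : (Fin 3 → F) → (Fin 3 → F) → F) (hf₁ : Cfsg.Geo.IsSymplecticForm f₁)
    (hf₂ : Cfsg.Geo.IsSymmetricForm f₂) (hT : Cfsg.Geo.IsTensorFormStructure id f f₁ f₂ e P) :
    ∃ K : Subgroup (GL ι F), Cfsg.Geo.tensorProductSubgroup n₁ 3 e P ⊓ I < K ∧ K < I := by
  obtain ⟨v, hv, hd⟩ := exists_three_frame hq hf₂
  obtain ⟨c, hc, hform⟩ := tensor_form_pure hf₁.bilinear hf₂.bilinear hT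
  set T := coord e P with hTdef
  set d := f₂ (v 0) (v 0)
  have hd0 : d ≠ 0 := hv.ne_zero 0
  let L : Fin 3 → (Fin n₁ → F) →ₗ[F] (ι → F) := fun i =>
    T.toLinearMap.comp
      ({ toFun := fun w => CfsgLib.Maximal.TensorTools.pure w (v i)
         map_add' := fun w w' => by funext a; simp [CfsgLib.Maximal.TensorTools.pure, add_mul]
         map_smul' := fun r w => by funext a; simp [CfsgLib.Maximal.TensorTools.pure]; ring } :
        (Fin n₁ → F) →ₗ[F] (Fin n₁ × Fin 3 → F))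
  have hL : ∀ i w, L i w = T (CfsgLib.Maximal.TensorTools.pure w (v i)) := fun i w => rfl
  let D : Fin 3 → Submodule F (ι → F) := fun i => LinearMap.range (L i)
  have hmemD : ∀ i w, L i w ∈ D i := fun i w => ⟨w, rfl⟩
  have hp : ∀ i w w', f (L i w) (L i w') = c * (f₁ w w' * d) := fun i w w' => by
    rw [hL, hL, hform, hd]
  have hperp : ∀ i j, i ≠ j → ∀ w w', f (L i w) (L j w') = 0 := fun i j hij w w' => by
    rw [hL, hL, hform, hv.ortho i j hij]; ring
  obtain ⟨w, hw⟩ : ∃ w : Fin n₁ → F, w ≠ 0 :=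
    ⟨Pi.single ⟨0, hn₁⟩ 1, fun h => by simpa using congrFun h ⟨0, hn₁⟩⟩
  obtain ⟨⟨u, hu⟩, -⟩ := hf₁.nondegenerate w hw
  have hwu : f₁ w u ≠ 0 := Symp.ne_zero_comm hf₁ hu
  refine ⟨Cfsg.Geo.decompositionStabilizer D ⊓ I, lt_of_le_of_ne ?_ fun heq => ?_,
    lt_of_le_of_ne inf_le_right fun heq => ?_⟩
  · rintro g ⟨hg, hgI⟩
    refine ⟨?_, hgI⟩
    obtain ⟨a, b, hab⟩ := exists_factors hg
    set A : (Fin n₁ → F) → (Fin n₁ → F) := fun x => (a : Matrix (Fin n₁) (Fin n₁) F) *ᵥ x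
    set B : (Fin 3 → F) →ₗ[F] (Fin 3 → F) := Matrix.mulVecLin (b : Matrix (Fin 3) (Fin 3) F)
    have hiso : ∀ x y z z', f₁ (A x) (A y) * f₂ (B z) (B z') = f₁ x y * f₂ z z' := by
      intro x y z z'
      have h := (hI g).1 hgI (T (CfsgLib.Maximal.TensorTools.pure x z)) (T (CfsgLib.Maximal.TensorTools.pure y z'))
      rw [hab, hab, hform, hform] at h
      exact mul_left_cancel₀ hc h
    have hμ : f₁ (A w) (A u) ≠ 0 := by
      intro h0
      have h := hiso w u (v 0) (v 0)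
      rw [h0, zero_mul] at h
      exact mul_ne_zero hwu hd0 h.symm
    obtain ⟨σ, hσ⟩ := similarity_lines hq hf₂.bilinear hv hd B (f₁ w u / f₁ (A w) (A u))
      (div_ne_zero hwu hμ) (fun x y => by
        have h := hiso w u x y
        rw [div_mul_eq_mul_div, eq_div_iff hμ]
        linear_combination h)
    refine ⟨σ, fun i => ?_⟩
    obtain ⟨r, hr, hbi⟩ := hσ i
    have himg : ∀ z, Matrix.toLin' (g : Matrix ι ι F) (L i z) = L (σ i) (r • A z) := by
      intro z
      rw [Matrix.toLin'_apply, hL, hab, hL]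
      congr 1
      funext p
      show A z p.1 * B (v i) p.2 = _
      rw [hbi]
      simp [CfsgLib.Maximal.TensorTools.pure]; ring
    refine le_antisymm ?_ ?_
    · rintro _ ⟨_, ⟨z, rfl⟩, rfl⟩
      exact ⟨r • A z, (himg z).symm⟩
    · rintro _ ⟨z, rfl⟩
      refine ⟨L i (((a⁻¹ : GL (Fin n₁) F) : Matrix (Fin n₁) (Fin n₁) F) *ᵥ (r⁻¹ • z)), hmemD i _, ?_⟩
      rw [himg]
      congr 1
      show r • ((a : Matrix (Fin n₁) (Fin n₁) F) *ᵥ _) = z
      rw [Matrix.mulVec_mulVec, ← Units.val_mul, mul_inv_cancel, Units.val_one, Matrix.one_mulVec,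
        smul_smul, mul_inv_cancel₀ hr, one_smul]
  · -- a transvection inside one member is not a tensor product
    set g := formTv f (L 0 w) 1 with hg
    have hgm : ∀ x, (g : Matrix ι ι F) *ᵥ x = x + f x (L 0 w) • L 0 w := fun x => by
      rw [hg, Symp.formTv_mulVec hf, one_mul]
    have hgI : g ∈ I := (hI g).2 (Symp.formTv_isometry hf _ _)
    have hgD : g ∈ Cfsg.Geo.decompositionStabilizer D := by
      refine ⟨Equiv.refl _, fun i => Submodule.eq_of_le_of_finrank_eq ?_ ?_⟩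
      · rintro _ ⟨_, ⟨z, rfl⟩, rfl⟩
        show Matrix.toLin' (g : Matrix ι ι F) (L i z) ∈ D i
        rw [Matrix.toLin'_apply, hgm]
        rcases eq_or_ne i 0 with rfl | hi
        · exact (D 0).add_mem (hmemD 0 z) ((D 0).smul_mem _ (hmemD 0 w))
        · rw [hperp i 0 hi, zero_smul, add_zero]
          exact hmemD i z
      · exact (Submodule.equivMapOfInjective (Matrix.toLin' (g : Matrix ι ι F))
          (fun x y h => gl_mulVec_injective g (by simpa using h)) (D i)).finrank_eq.symm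
    obtain ⟨a, b, hab⟩ := exists_factors (heq.ge ⟨hgD, hgI⟩).1
    set A : (Fin n₁ → F) → (Fin n₁ → F) := fun x => (a : Matrix (Fin n₁) (Fin n₁) F) *ᵥ x
    set β := fun i => f₂ ((b : Matrix (Fin 3) (Fin 3) F) *ᵥ v i) (v i)
    have key : ∀ i x y, f ((g : Matrix ι ι F) *ᵥ L i x) (L i y) = c * (f₁ (A x) y * β i) := fun i x y => by
      rw [hL, hab, hL, hform]
    have k1 : ∀ x y, f₁ x y * d = f₁ (A x) y * β 1 := fun x y => by
      have h := key 1 x y
      rw [hgm, hperp 1 0 (by decide), zero_smul, add_zero, hp] at h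
      exact mul_left_cancel₀ hc h
    have k0 : ∀ x y, f₁ x y * d + c * (f₁ x w * d) * (f₁ w y * d) = f₁ (A x) y * β 0 := fun x y => by
      have h := key 0 x y
      rw [hgm, Symp.add_left hf, Symp.smul_left hf, hp, hp, hp] at h
      apply mul_left_cancel₀ hc
      linear_combination h
    have hA : f₁ (A w) u ≠ 0 := by
      intro h0
      have h := k1 w u
      rw [h0, zero_mul] at h
      exact mul_ne_zero hwu hd0 h
    have hβ : β 0 = β 1 := by
      have h0 := k0 w u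
      rw [hf₁.alternating w] at h0
      apply mul_left_cancel₀ hA
      linear_combination k1 w u - h0
    have h0 := k0 u u
    rw [hβ, ← k1 u u, hf₁.alternating u, zero_mul, zero_add, mul_eq_zero, mul_eq_zero] at h0
    rcases h0 with (h0 | h0) | h0
    · exact hc h0
    · exact mul_ne_zero hu hd0 h0
    · exact mul_ne_zero hwu hd0 h0
  · -- a transvection across two members
    set z := L 0 w + L 1 w with hz
    set g := formTv f z 1 with hg
    have hgI : g ∈ I := (hI g).2 (Symp.formTv_isometry hf _ _)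
    obtain ⟨σ, hσ⟩ := (heq.ge hgI).1
    set s := f (L 0 u) z
    have hs : s ≠ 0 := by
      show f (L 0 u) (L 0 w + L 1 w) ≠ 0
      rw [Symp.add_right hf, hp, hperp 0 1 (by decide), add_zero]
      exact mul_ne_zero hc (mul_ne_zero hu hd0)
    have himg : L 0 u + s • z ∈ D (σ 0) := by
      rw [← hσ 0]
      exact ⟨_, hmemD 0 u, by rw [Matrix.toLin'_apply, hg, Symp.formTv_mulVec hf, one_mul]⟩
    obtain ⟨z', hz'⟩ := himg
    have hpair : ∀ j : Fin 3, j = 0 ∨ j = 1 → f (L 0 u + s • z) (L j u) = s * (c * (f₁ w u * d)) := by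
      rintro j (rfl | rfl) <;> rw [Symp.add_left hf, Symp.smul_left hf, hz, Symp.add_left hf]
      · rw [hp, hp, hperp 1 0 (by decide), hf₁.alternating]; ring
      · rw [hperp 0 1 (by decide), hperp 0 1 (by decide), hp]; ring
    obtain ⟨j, hj, hjσ⟩ : ∃ j : Fin 3, (j = 0 ∨ j = 1) ∧ σ 0 ≠ j := by
      rcases eq_or_ne (σ 0) 0 with h | h
      · exact ⟨1, Or.inr rfl, by rw [h]; decide⟩
      · exact ⟨0, Or.inl rfl, h⟩
    have h := hpair j hj
    rw [← hz', hperp _ _ hjσ] at h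
    exact mul_ne_zero hs (mul_ne_zero hc (mul_ne_zero hwu hd0)) h.symm

theorem result {F : Type*} [Field F] [Fintype F] (m : ℕ) (hm : 7 ≤ m) (hq : Fintype.card F = 3) (n₁ : ℕ) (e : (Fin m ⊕ Fin m) ≃ Fin n₁ × Fin 3) (P : Matrix.GeneralLinearGroup (Fin m ⊕ Fin m) F) (f₁ : (Fin n₁ → F) → (Fin n₁ → F) → F) (f₂ : (Fin 3 → F) → (Fin 3 → F) → F) (hf₁ : Cfsg.Geo.IsSymplecticForm f₁) (hf₂ : Cfsg.Geo.IsSymmetricForm f₂) (hT : Cfsg.Geo.IsTensorFormStructure id (Cfsg.sympForm m F) f₁ f₂ e P) : ∃ K : Subgroup (Matrix.GeneralLinearGroup (Fin m ⊕ Fin m) F), Cfsg.Geo.tensorProductSubgroup n₁ 3 e P ⊓ Cfsg.spGL m F < K ∧ K < Cfsg.spGL m F := by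
  refine main hq ?_ _ (Symp.isSymplecticForm_sympForm m) _ (fun g => Symp.mem_spGL) e P f₁ f₂ hf₁ hf₂ hT
  have := Fintype.card_congr e
  simp at this
  omega

end Cfsg.Agent.S5667
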