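import Cfsg.Statements.S5668
import Cfsg.Agent.Lib.TensorSympWreath.Five
import Cfsg.Agent.Lib.TensorSympWreath.CoreThree

set_option autoImplicit false
open Cfsg

namespace Cfsg.Agent.S5668

/-- For a finite field F of odd order q and m ≥ 7, suppose the standard alternating form on F^(2m) is similar, through a change of basis P and a bijection of index sets e, to the t-fold tensor power of a non-degenerate symplectic form f₁ on F^k, with t odd, t ≥ 3 and (q, k) ≠ (3, 2). Then the elements of Sp_2m(F) in the stabiliser of this decomposition (the conjugate by P of the standard tensor-wreath subgroup transported along e) form a maximal subgroup of Sp_2m(F). -/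
theorem result {F : Type*} [Field F] [Fintype F] (m : ℕ) (hm : 7 ≤ m) (hodd : Odd (Fintype.card F)) (k t : ℕ) (ht : Odd t) (ht3 : 3 ≤ t) (hex : ¬ (Fintype.card F = 3 ∧ k = 2)) (e : (Fin m ⊕ Fin m) ≃ (Fin t → Fin k)) (P : Matrix.GeneralLinearGroup (Fin m ⊕ Fin m) F) (f₁ : (Fin k → F) → (Fin k → F) → F) (hf₁ : Cfsg.Geo.IsSymplecticForm f₁) (hT : Cfsg.Geo.IsTensorPowerFormStructure id (Cfsg.sympForm m F) f₁ e P) : Cfsg.Geo.IsMaximalIn (Cfsg.spGL m F) (Cfsg.Geo.tensorWreathSubgroup k t e P ⊓ Cfsg.spGL m F) := by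
  open CfsgLib.TensorSympWreath in
  classical
  have hcard := Fintype.card_congr e
  simp only [Fintype.card_sum, Fintype.card_fin, Fintype.card_fun] at hcard
  have hk0 : k ≠ 0 := fun h => by
    rw [h, zero_pow (by omega : t ≠ 0)] at hcard
    omega
  have hk : 2 ≤ k := two_le_of_symplectic hf₁ hk0
  by_cases hq : 4 ≤ Fintype.card F
  · exact maximal_five hodd hq hk ht ht3 e P hf₁ hT
  have h3 : Fintype.card F = 3 := by
    have := Fintype.one_lt_card (α := F)
    rw [Nat.odd_iff] at hodd
    omega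
  have h2 := two_ne_zero_of_odd hodd
  have hfm : ∀ u v, fm (Cfsg.Geo.gramMatrix f₁) u v = f₁ u v := fun u v => by
    rw [fm, Matrix.toBilin'_apply]
    exact (CfsgLib.Maximal.TensorTools.bilinear_expand hf₁.bilinear u v).symm
  have hJ : Alt (Cfsg.Geo.gramMatrix f₁) := ⟨fun v => by rw [← fm_apply, hfm, hf₁.alternating], fun h0 => by
    obtain ⟨v, hv, hvJ⟩ := Matrix.exists_vecMul_eq_zero_iff.2 h0
    obtain ⟨x, hx⟩ := (hf₁.nondegenerate v hv).2
    exact hx (by rw [← hfm, fm_apply, hvJ, zero_dotProduct])⟩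
  have hk3 : 3 ≤ k := by
    rcases eq_or_ne k 2 with h | h
    · exact absurd ⟨h3, h⟩ hex
    · omega
  exact maximal hk h2 ht ht3 e P hf₁ hT
    (rigid_three hJ hk3 h2 (by rw [Nat.card_eq_fintype_card, h3]) (radAll hJ h2) t (by omega))

end Cfsg.Agent.S5668
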