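import Cfsg.Statements.S5671
import Cfsg.Agent.Lib.GeomClasses.UnitPow
import Cfsg.Agent.Lib.GeomClasses.Tensor

set_option autoImplicit false
open Cfsg

namespace Cfsg.Agent.S5671

open Matrix CfsgLib.GeomClasses CfsgLib.Maximal.TensorTools

theorem result {F : Type*} [Field F] [Fintype F] (n : ℕ) (hF : Fintype.card F = 4) (hn : 13 ≤ n) (n₂ : ℕ) (e : Fin n ≃ Fin 2 × Fin n₂) (P : Matrix.GeneralLinearGroup (Fin n) F) (f₁ : (Fin 2 → F) → (Fin 2 → F) → F) (f₂ : (Fin n₂ → F) → (Fin n₂ → F) → F) (hf₁ : Cfsg.Geo.IsUnitaryFormPow 2 f₁) (hf₂ : Cfsg.Geo.IsUnitaryFormPow 2 f₂) (hT : Cfsg.Geo.IsTensorFormStructure (fun x : F => x ^ 2) (Cfsg.hermForm n F 2) f₁ f₂ e P) : ∃ K : Subgroup (Matrix.GeneralLinearGroup (Fin n) F), Cfsg.Geo.tensorProductSubgroup 2 n₂ e P ⊓ (Cfsg.GU n F 2 ⊓ Cfsg.Geo.specialLinear (Fin n) F) < K ∧ K < (Cfsg.GU n F 2 ⊓ Cfsg.Geo.specialLinear (Fin n) F) := by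
  classical
  have hF' : Fintype.card F = 2 ^ 2 := by rw [hF]; norm_num
  have hn₂ : 2 ≤ n₂ := by
    have := Fintype.card_congr e
    simp at this
    omega
  set σ := UnitPow.conj hF' with hσ
  have hf := UnitPow.isUnitaryForm_hermForm hF' n
  have h1 := UnitPow.isUnitaryForm_of_pow hF' hf₁
  have h2 := UnitPow.isUnitaryForm_of_pow hF' hf₂
  set f := Cfsg.hermForm n F 2 with hfdef
  have h20 := UnitPow.four_two_zero (F := F) hF
  have hfix : ∀ b : F, σ b = b → b ≠ 0 → b = 1 := fun b hb hb0 => UnitPow.four_fixed hF b hb hb0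
  have hnorm : ∀ r : F, r ≠ 0 → r * σ r = 1 := fun r hr => by
    refine hfix _ ?_ (mul_ne_zero hr (by simpa [hσ] using hr))
    rw [map_mul, hf.involutive]
    ring
  obtain ⟨a, b, -, -, haa, hbb, hab, hba, hexp⟩ := UnitPow.exists_orth_pair h1 hfix
    (W := ⊤) (fun w _ hw0 => ⟨(hf₁.nondegenerate w hw0).1.imp fun x hx => ⟨trivial, hx⟩,
      (hf₁.nondegenerate w hw0).2.imp fun x hx => ⟨trivial, hx⟩⟩) (by simp)
  obtain ⟨c, hc, hform⟩ := Tensor.form_pure (σ := (σ : F →+* F)) (fun x => rfl) (Unit.sesq h1) (Unit.sesq h2) hT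
  set T := coord e P with hTdef
  let v : Fin 2 → Fin 2 → F := ![a, b]
  have hvv : ∀ i, f₁ (v i) (v i) = 1 := fun i => by fin_cases i; exacts [haa, hbb]
  have hvo : ∀ i j, i ≠ j → f₁ (v i) (v j) = 0 := fun i j h => by
    fin_cases i <;> fin_cases j
    exacts [absurd rfl h, hab, hba, absurd rfl h]
  have hv0 : ∀ i, v i ≠ 0 := fun i h => by simpa [h, Unit.zero_left h1] using hvv i
  let L : Fin 2 → (Fin n₂ → F) →ₗ[F] (Fin n → F) := fun i =>
    T.toLinearMap.comp
      ({ toFun := fun w => CfsgLib.Maximal.TensorTools.pure (v i) w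
         map_add' := fun w w' => by funext p; simp [CfsgLib.Maximal.TensorTools.pure, mul_add]
         map_smul' := fun r w => by funext p; simp [CfsgLib.Maximal.TensorTools.pure]; ring } :
        (Fin n₂ → F) →ₗ[F] (Fin 2 × Fin n₂ → F))
  have hL : ∀ i w, L i w = T (CfsgLib.Maximal.TensorTools.pure (v i) w) := fun i w => rfl
  let D : Fin 2 → Submodule F (Fin n → F) := fun i => LinearMap.range (L i)
  have hmemD : ∀ i w, L i w ∈ D i := fun i w => ⟨w, rfl⟩
  have hp : ∀ i w w', f (L i w) (L i w') = c * f₂ w w' := fun i w w' => by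
    rw [hL, hL, hform, hvv, one_mul]
  have hperp : ∀ i j, i ≠ j → ∀ w w', f (L i w) (L j w') = 0 := fun i j hij w w' => by
    rw [hL, hL, hform, hvo i j hij, zero_mul, mul_zero]
  obtain ⟨w₀, hw₀⟩ : ∃ w : Fin n₂ → F, f₂ w w = 1 := by
    obtain ⟨x, -, hx⟩ := UnitPow.exists_nonisotropic h2 (W := ⊤)
      (fun w _ hw0 => ⟨(hf₂.nondegenerate w hw0).1.imp fun x hx => ⟨trivial, hx⟩,
        (hf₂.nondegenerate w hw0).2.imp fun x hx => ⟨trivial, hx⟩⟩)
      (w := Pi.single ⟨0, by omega⟩ 1) trivial (by simp)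
    exact ⟨x, hfix _ (Unit.self_fixed h2 x) hx⟩
  have hc1 : c = 1 := by
    refine hfix c ?_ hc
    have := Unit.self_fixed hf (L 0 w₀)
    rwa [hp, hw₀, mul_one] at this
  subst hc1
  have hI : ∀ z, f z z = 0 → formTv f z 1 ∈ Cfsg.GU n F 2 ⊓ Cfsg.Geo.specialLinear (Fin n) F := fun z hz =>
    ⟨UnitPow.mem_GU.2 (Unit.formTv_isometry hf hz (by rw [map_one]; linear_combination h20)),
      formTv_mem_specialLinear _ _ _⟩
  refine ⟨Cfsg.Geo.decompositionStabilizer D ⊓ (Cfsg.GU n F 2 ⊓ Cfsg.Geo.specialLinear (Fin n) F),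
    lt_of_le_of_ne ?_ fun heq => ?_, lt_of_le_of_ne inf_le_right fun heq => ?_⟩
  · rintro g ⟨hg, hgI⟩
    refine ⟨?_, hgI⟩
    obtain ⟨a', b', hab'⟩ := exists_factors hg
    set A : (Fin 2 → F) → (Fin 2 → F) := fun x => (a' : Matrix (Fin 2) (Fin 2) F) *ᵥ x
    have hiso : ∀ x, f₁ (A x) (A x) * f₂ ((b' : Matrix (Fin n₂) (Fin n₂) F) *ᵥ w₀)
        ((b' : Matrix (Fin n₂) (Fin n₂) F) *ᵥ w₀) = f₁ x x := fun x => by
      have h : f ((g : Matrix (Fin n) (Fin n) F) *ᵥ T (CfsgLib.Maximal.TensorTools.pure x w₀))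
          ((g : Matrix (Fin n) (Fin n) F) *ᵥ T (CfsgLib.Maximal.TensorTools.pure x w₀)) =
          f (T (CfsgLib.Maximal.TensorTools.pure x w₀)) (T (CfsgLib.Maximal.TensorTools.pure x w₀)) :=
        UnitPow.mem_GU.1 hgI.1 _ _
      rwa [hab', hform, hform, hw₀, one_mul, one_mul, mul_one] at h
    have himg : ∀ i, ∃ j, ∃ r : F, r ≠ 0 ∧ A (v i) = r • v j := by
      intro i
      have hne : f₁ (A (v i)) (A (v i)) ≠ 0 := fun h0 => by
        have h := hiso (v i)
        rw [h0, zero_mul, hvv] at h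
        exact zero_ne_one h
      have he := hexp (A (v i)) trivial
      rcases eq_or_ne (f₁ (A (v i)) a) 0 with ha0 | ha0
      · refine ⟨1, f₁ (A (v i)) b, fun hb0 => hne ?_, by rw [ha0, zero_smul, zero_add] at he; exact he⟩
        rw [he, ha0, hb0, zero_smul, zero_smul, add_zero, Unit.zero_left h1]
      · refine ⟨0, f₁ (A (v i)) a, ha0, ?_⟩
        have hb0 : f₁ (A (v i)) b = 0 := by
          by_contra hb0
          apply hne
          rw [he]
          simp only [Unit.add_left h1, Unit.add_right h1, Unit.smul_left h1, Unit.smul_right h1, haa, hbb, hab,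
            hba, mul_one, mul_zero, add_zero, zero_add]
          rw [hnorm _ ha0, hnorm _ hb0]
          linear_combination h20
        rw [hb0, zero_smul, add_zero] at he
        exact he
    choose τ r hr hτ using himg
    have hinj : Function.Injective τ := by
      intro i j hij
      by_contra hne
      have h : A ((r j) • v i - (r i) • v j) = 0 := by
        show (a' : Matrix (Fin 2) (Fin 2) F) *ᵥ _ = 0
        rw [mulVec_sub, mulVec_smul, mulVec_smul]
        show r j • A (v i) - r i • A (v j) = 0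
        rw [hτ, hτ, hij, smul_smul, smul_smul, mul_comm, sub_self]
      have h' := congrArg (f₁ · (v i)) (gl_mulVec_injective a' (h.trans (Matrix.mulVec_zero _).symm))
      simp only [Unit.sub_left h1, Unit.smul_left h1, hvv, hvo j i (Ne.symm hne), Unit.zero_left h1, mul_one,
        mul_zero, sub_zero] at h'
      exact hr j h'
    refine ⟨Equiv.ofBijective τ (Finite.injective_iff_bijective.mp hinj), fun i => ?_⟩
    rw [Equiv.ofBijective_apply]
    have himg' : ∀ z, Matrix.toLin' (g : Matrix (Fin n) (Fin n) F) (L i z) =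
        L (τ i) (r i • ((b' : Matrix (Fin n₂) (Fin n₂) F) *ᵥ z)) := by
      intro z
      rw [Matrix.toLin'_apply, hL, hab', hL]
      congr 1
      funext p
      show A (v i) p.1 * _ = _
      rw [hτ]
      simp [CfsgLib.Maximal.TensorTools.pure]; ring
    refine le_antisymm ?_ ?_
    · rintro _ ⟨_, ⟨z, rfl⟩, rfl⟩
      exact ⟨_, (himg' z).symm⟩
    · rintro _ ⟨z, rfl⟩
      refine ⟨L i (((b'⁻¹ : GL (Fin n₂) F) : Matrix (Fin n₂) (Fin n₂) F) *ᵥ ((r i)⁻¹ • z)), hmemD i _, ?_⟩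
      rw [himg']
      congr 1
      rw [Matrix.mulVec_mulVec, ← Units.val_mul, mul_inv_cancel, Units.val_one, Matrix.one_mulVec,
        smul_smul, mul_inv_cancel₀ (hr i), one_smul]
  · -- a transvection inside one member is not a tensor product
    obtain ⟨w, hw, hww⟩ := Unit.exists_isotropic h2 (by simp; omega)
    obtain ⟨⟨u, hu⟩, -⟩ := hf₂.nondegenerate w hw
    have hwu : f₂ w u ≠ 0 := Unit.ne_zero_comm h2 hu
    have hvz : f (L 0 w) (L 0 w) = 0 := by rw [hp, hww, mul_zero]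
    set g := formTv f (L 0 w) 1 with hg
    have hgm : ∀ x, (g : Matrix (Fin n) (Fin n) F) *ᵥ x = x + f x (L 0 w) • L 0 w := fun x => by
      rw [hg, Unit.formTv_mulVec hf hvz, one_mul]
    have hgD : g ∈ Cfsg.Geo.decompositionStabilizer D := by
      refine ⟨Equiv.refl _, fun i => Submodule.eq_of_le_of_finrank_eq ?_ ?_⟩
      · rintro _ ⟨_, ⟨z, rfl⟩, rfl⟩
        show Matrix.toLin' (g : Matrix (Fin n) (Fin n) F) (L i z) ∈ D i
        rw [Matrix.toLin'_apply, hgm]
        rcases eq_or_ne i 0 with rfl | hi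
        · exact (D 0).add_mem (hmemD 0 z) ((D 0).smul_mem _ (hmemD 0 w))
        · rw [hperp i 0 hi, zero_smul, add_zero]
          exact hmemD i z
      · exact (Submodule.equivMapOfInjective (Matrix.toLin' (g : Matrix (Fin n) (Fin n) F))
          (fun x y h => gl_mulVec_injective g (by simpa using h)) (D i)).finrank_eq.symm
    obtain ⟨a', b', hab'⟩ := exists_factors (heq.ge ⟨hgD, hI _ hvz⟩).1
    set α := fun i => f₁ ((a' : Matrix (Fin 2) (Fin 2) F) *ᵥ v i) (v i)
    set B : (Fin n₂ → F) → (Fin n₂ → F) := fun x => (b' : Matrix (Fin n₂) (Fin n₂) F) *ᵥ x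
    have key : ∀ i x y, f ((g : Matrix (Fin n) (Fin n) F) *ᵥ L i x) (L i y) = α i * f₂ (B x) y := fun i x y => by
      rw [hL, hab', hL, hform, one_mul]
    have k1 : ∀ x y, f₂ x y = α 1 * f₂ (B x) y := fun x y => by
      have h := key 1 x y
      rwa [hgm, hperp 1 0 (by decide), zero_smul, add_zero, hp, one_mul] at h
    have k0 : ∀ x y, f₂ x y + f₂ x w * f₂ w y = α 0 * f₂ (B x) y := fun x y => by
      have h := key 0 x y
      rwa [hgm, Unit.add_left hf, Unit.smul_left hf, hp, hp, hp, one_mul, one_mul, one_mul] at h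
    have hB : f₂ (B w) u ≠ 0 := fun h0 => hwu (by rw [k1 w u, h0, mul_zero])
    have hα : α 0 = α 1 := by
      have h0 := k0 w u
      rw [hww, zero_mul, add_zero] at h0
      exact mul_right_cancel₀ hB (h0.symm.trans (k1 w u))
    have h0 := k0 u u
    rw [hα, ← k1 u u, add_eq_left, mul_eq_zero] at h0
    exact h0.elim hu hwu
  · -- a transvection across the two members
    obtain ⟨w, hw, hww⟩ : ∃ w : Fin n₂ → F, w ≠ 0 ∧ f₂ w w₀ = 0 := by
      obtain ⟨y, hy, hy'⟩ := Unit.exists_orth_ne_zero (by simp; omega) (fVec f₂ w₀)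
      exact ⟨y, hy, by rwa [(Unit.sesq h2).fVec_dot] at hy'⟩
    obtain ⟨-, ⟨u, hu⟩⟩ := hf₂.nondegenerate w hw
    set z := L 0 w₀ + L 1 w₀ with hz
    have hzz : f z z = 0 := by
      rw [hz, Unit.add_left hf, Unit.add_right hf, Unit.add_right hf, hp, hp, hperp 0 1 (by decide),
        hperp 1 0 (by decide), hw₀]
      linear_combination h20
    obtain ⟨τ, hτ⟩ := (heq.ge (hI z hzz)).1
    have hgm : ∀ x, (formTv f z 1 : Matrix (Fin n) (Fin n) F) *ᵥ x = x + f x z • z := fun x => by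
      rw [Unit.formTv_mulVec hf hzz, one_mul]
    have k1 : L 1 w₀ ∈ D (τ 0) := by
      rw [← hτ 0]
      refine ⟨L 0 w₀, hmemD 0 _, ?_⟩
      rw [Matrix.toLin'_apply, hgm, hz, Unit.add_right hf, hp, hperp 0 1 (by decide), add_zero, hw₀, one_mul,
        one_smul, ← add_assoc, ← two_smul F (L 0 w₀), h20, zero_smul, zero_add]
    have k0 : L 0 w ∈ D (τ 0) := by
      rw [← hτ 0]
      refine ⟨L 0 w, hmemD 0 _, ?_⟩
      rw [Matrix.toLin'_apply, hgm, hz, Unit.add_right hf, hp, hperp 0 1 (by decide), add_zero, hww, mul_zero,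
        zero_smul, add_zero]
    obtain ⟨x, hx⟩ := k1
    obtain ⟨y, hy⟩ := k0
    rcases eq_or_ne (τ 0) 1 with h | h
    · have := hperp 1 0 (by decide) y u
      rw [← h, hy, hp, one_mul] at this
      exact hu this
    · have := hperp (τ 0) 1 h x w₀
      rw [hx, hp, hw₀, mul_one] at this
      exact one_ne_zero this

end Cfsg.Agent.S5671
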