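import Cfsg.Statements.S5673
import Cfsg.Agent.Lib.Geo.AschOrthFull
import Cfsg.Agent.Lib.Maximal99.OrthUnipotent

set_option autoImplicit false
open Cfsg

namespace Cfsg.Agent.S5673

/-- Subgroup structure of the odd-dimensional orthogonal groups. Let F be a finite field of odd order and m ≥ 3, let Q be the standard quadratic form x₀² + Σ x_i y_i on F^(2m+1), and let Ω be the commutator subgroup of its isometry group, viewed inside GL_(2m+1)(F). Let H be a subgroup of Ω whose product with the scalar matrices in Ω is not all of Ω. Then either H is contained in a member of one of the geometric classes of subgroups of the isometry group (with the conditions built into InOrthogonalOddClass), or H is in the residual class: modulo scalars it is almost simple, and the perfect preimage of its socle acts absolutely irreducibly, is realisable over no proper subfield, and fixes no non-degenerate unitary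 form. -/
theorem result {F : Type*} [Field F] [Fintype F] (hodd : Odd (Fintype.card F)) (m : ℕ) (hm : 3 ≤ m) (H : Subgroup (Matrix.GeneralLinearGroup (Unit ⊕ (Fin m ⊕ Fin m)) F)) (hH : H ≤ Cfsg.Geo.omegaGL (Cfsg.quadFormOdd m F)) (hproper : H ⊔ (Cfsg.Geo.scalars (Unit ⊕ (Fin m ⊕ Fin m)) F ⊓ Cfsg.Geo.omegaGL (Cfsg.quadFormOdd m F)) ≠ Cfsg.Geo.omegaGL (Cfsg.quadFormOdd m F)) : (∃ M : Subgroup (Matrix.GeneralLinearGroup (Unit ⊕ (Fin m ⊕ Fin m)) F), Cfsg.Geo.InOrthogonalOddClass m F M ∧ H ≤ M) ∨ Cfsg.Geo.InOrthogonalResidualClass H := by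
  have h2 := CfsgLib.Geo.Asch.two_ne_zero_of_odd hodd
  have hQ := CfsgLib.OrthUnipotent.odd_nondeg (F := F) m h2
  have hc : Fintype.card (Unit ⊕ (Fin m ⊕ Fin m)) = 2 * m + 1 := by simp; omega
  have hI : ∀ {S : Subgroup (Matrix.GeneralLinearGroup (Unit ⊕ (Fin m ⊕ Fin m)) F)}, H ≤ S →
      H ≤ S ⊓ Cfsg.isometryGroup F (Cfsg.quadFormOdd m F) :=
    fun h => le_inf h fun g hg => CfsgLib.Maximal.TensorTools.isometry_of_omega (hH hg)
  rcases CfsgLib.Geo.Asch.orth_odd_containment hQ h2 ⟨m, hc⟩ (by omega)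
      (fun F₀ v hv => F₀.add_mem (F₀.pow_mem (hv _) 2) (F₀.sum_mem fun i _ => F₀.mul_mem (hv _) (hv _)))
      (H := H) (fun g hg => CfsgLib.Maximal.TensorTools.omega_polar hQ (hH hg)) with
    ⟨W, h1, hW, hle⟩ | ⟨W, h1, h1', hW, hle⟩ | ⟨t, k, D, hk | ⟨hp, rfl⟩, hD, hle⟩ | ⟨r, K, hr, hne, hK, hKs, hle⟩ |
    ⟨a, b, e, P, f₁, f₂, ha, hab, hf₁, hf₂, hT, hle⟩ | ⟨F₀, r, P, hr, hcF, hform, hle⟩ |
    ⟨k, t, e, P, f₁, hk, ht, hne, hf₁, hT, hle⟩ | h
  · exact Or.inl ⟨_, Or.inl ⟨W, h1, hW, rfl⟩, hI hle⟩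
  · exact Or.inl ⟨_, Or.inr (Or.inl ⟨W, h1, h1', hW, rfl⟩), hI hle⟩
  · exact Or.inl ⟨_, Or.inr (Or.inr (Or.inl ⟨t, k, D, hk, hD, rfl⟩)), hI hle⟩
  · exact Or.inl ⟨_, Or.inr (Or.inr (Or.inr (Or.inl ⟨t, D, hp, hD, rfl⟩))), hI hle⟩
  · exact Or.inl ⟨_, Or.inr (Or.inr (Or.inr (Or.inr (Or.inl ⟨r, K, hr, hc ▸ hne, hK, hKs, rfl⟩)))), hI hle⟩
  · exact Or.inl ⟨_, Or.inr (Or.inr (Or.inr (Or.inr (Or.inr (Or.inl
      ⟨a, b, e, P, f₁, f₂, ha, hab, hf₁, hf₂, hT, rfl⟩))))), hI hle⟩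
  · exact Or.inl ⟨_, Or.inr (Or.inr (Or.inr (Or.inr (Or.inr (Or.inr (Or.inl
      ⟨F₀, r, P, hr, hcF, hform, rfl⟩)))))), hI hle⟩
  · exact Or.inl ⟨_, Or.inr (Or.inr (Or.inr (Or.inr (Or.inr (Or.inr (Or.inr
      ⟨k, t, e, P, f₁, hk, ht, hne, hf₁, hT, rfl⟩)))))), hI hle⟩
  · exact Or.inr h

end Cfsg.Agent.S5673
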