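import Cfsg.Statements.S5690
import Cfsg.Agent.Lib.GeomClasses.OrthTools

set_option autoImplicit false
open Cfsg

namespace Cfsg.Agent.S5690

open Matrix QuadraticMap CfsgLib.GeomClasses CfsgLib.Maximal.TensorTools
open scoped commutatorElement

theorem main {F : Type*} [Field F] [Fintype F] {ι : Type} [Fintype ι] [DecidableEq ι] (hι : 7 ≤ Fintype.card ι)
    (Q : (ι → F) → F) (hQ : Cfsg.Geo.IsNondegenerateQuadraticForm Q) (hq : Fintype.card F ≤ 3)
    (W : Submodule F (ι → F)) (hdim : Module.finrank F W = 2)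
    (hW : Cfsg.Geo.IsNondegenerateOn (QuadraticMap.polar Q) W) (hWp : Cfsg.Geo.IsPlusTypeOn Q W) :
    ∃ K : Subgroup (GL ι F),
      Cfsg.Geo.subspaceStabilizer W ⊓ Cfsg.Geo.omegaGL Q < K ∧ K < Cfsg.Geo.omegaGL Q := by
  let q := quadOf hQ
  have hqn : q.polarBilin.Nondegenerate := OrthTools.quadOf_nondegenerate hQ
  have hWn : ∀ x ∈ W, x ≠ 0 → ∃ y ∈ W, polar q x y ≠ 0 := fun x hx hx0 => (hW x hx hx0).2
  obtain ⟨U, hUW, hU, hUd⟩ := hWp
  obtain ⟨x, hxU, hx0⟩ := Submodule.exists_mem_ne_zero_of_ne_bot (p := U) fun h => by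
    rw [h, finrank_bot, hdim] at hUd; omega
  have hx : x ∈ W := hUW hxU
  have hqx : q x = 0 := hU x hxU
  obtain ⟨y, hy, hqy, hxy⟩ := OrthTools.exists_partner hWn hx hx0 hqx
  have hyx : polar q y x = 1 := by rw [polar_comm]; exact hxy
  have hxx : polar q x x = 0 := by rw [CfsgLib.Orth.polar_self', hqx, mul_zero]
  have hyy : polar q y y = 0 := by rw [CfsgLib.Orth.polar_self', hqy, mul_zero]
  have hdec : ∀ w ∈ W, w = polar q w y • x + polar q w x • y := by
    intro w hw
    have hli : LinearIndependent F ![x, y] := by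
      rw [LinearIndependent.pair_iff]
      intro s r h
      have h1 := congrArg (polar q · y) h
      have h2 := congrArg (polar q · x) h
      simp only [polar_add_left, polar_smul_left, polar_zero_left, hxy, hyy, hxx, hyx, smul_eq_mul, mul_one,
        mul_zero, add_zero, zero_add] at h1 h2
      exact ⟨h1, h2⟩
    have hspan : Submodule.span F (Set.range ![x, y]) = W := by
      refine Submodule.eq_of_le_of_finrank_eq (Submodule.span_le.2 ?_) ?_
      · rintro _ ⟨i, rfl⟩
        fin_cases i
        · exact hx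
        · exact hy
      · rw [finrank_span_eq_card hli, hdim, Fintype.card_fin]
    rw [← hspan, Submodule.mem_span_range_iff_exists_fun] at hw
    obtain ⟨c, rfl⟩ := hw
    simp [Fin.sum_univ_two, polar_add_left, polar_smul_left, hxy, hyy, hxx, hyx]
  set v := x + y with hv
  have hqv : q v = 1 := by rw [hv, QuadraticMap.map_add ⇑q, hqx, hqy, hxy, zero_add, zero_add]
  -- vectors orthogonal to the plane
  set X := OrthTools.orth q W with hX
  have hXd : 5 ≤ Module.finrank F X := by rw [hX, OrthTools.finrank_orth hqn, hdim]; omega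
  have hXn := OrthTools.orth_nondegenerate hqn hWn
  obtain ⟨s, hs, hs0, hqs⟩ := OrthTools.exists_singular hqn X (by omega)
  obtain ⟨t, ht, hqt, hst⟩ := OrthTools.exists_partner hXn hs hs0 hqs
  have hXW : ∀ w ∈ W, ∀ z ∈ X, polar q w z = 0 := fun w hw z hz => OrthTools.mem_orth.1 hz w hw
  have hts : polar q t s = 1 := by rw [polar_comm]; exact hst
  have hss : polar q s s = 0 := by rw [CfsgLib.Orth.polar_self', hqs, mul_zero]
  have htt : polar q t t = 0 := by rw [CfsgLib.Orth.polar_self', hqt, mul_zero]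
  have hst1 : q (s + t) = 1 := by rw [QuadraticMap.map_add ⇑q, hqs, hqt, hst, zero_add, zero_add]
  obtain ⟨w, hw, hwst, hqw⟩ : ∃ w ∈ X, (polar q s w = 0 ∧ polar q t w = 0) ∧ q w ≠ 0 := by
    by_contra h
    push Not at h
    have h1 := OrthTools.finrank_inf_orth hqn X s
    have h2 := OrthTools.finrank_inf_orth hqn (X ⊓ OrthTools.orth q (Submodule.span F {s})) t
    set Y := (X ⊓ OrthTools.orth q (Submodule.span F {s})) ⊓ OrthTools.orth q (Submodule.span F {t})
    have hY : ∀ z ∈ Y, q z = 0 := fun z hz => by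
      obtain ⟨hz', htz⟩ := OrthTools.mem_inf_orth hz
      obtain ⟨hzX, hsz⟩ := OrthTools.mem_inf_orth hz'
      exact h z hzX ⟨hsz, htz⟩
    obtain ⟨z, hz, hz0⟩ := Submodule.exists_mem_ne_zero_of_ne_bot (p := Y) fun hb => by
      rw [hb, finrank_bot] at h2; omega
    obtain ⟨hz', htz⟩ := OrthTools.mem_inf_orth hz
    obtain ⟨hzX, hsz⟩ := OrthTools.mem_inf_orth hz'
    obtain ⟨p, hp, hzp⟩ := hXn z hzX hz0
    have hp' : p - polar q p t • s - polar q p s • t ∈ Y := by
      refine ⟨⟨?_, OrthTools.mem_orth.2 fun a ha => ?_⟩, OrthTools.mem_orth.2 fun a ha => ?_⟩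
      · exact X.sub_mem (X.sub_mem hp (X.smul_mem _ hs)) (X.smul_mem _ ht)
      · obtain ⟨c, rfl⟩ := Submodule.mem_span_singleton.1 ha
        simp [polar_smul_left, polar_sub_right, polar_smul_right, hss, hst, polar_comm (f := ⇑q) s p]
        ring
      · obtain ⟨c, rfl⟩ := Submodule.mem_span_singleton.1 ha
        simp [polar_smul_left, polar_sub_right, polar_smul_right, htt, hts, polar_comm (f := ⇑q) t p]
        ring
    have h0 : polar q z (p - polar q p t • s - polar q p s • t) = 0 := by
      have h1 := hY _ (Y.add_mem hz hp')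
      rw [QuadraticMap.map_add ⇑q, hY z hz, hY _ hp', zero_add, zero_add] at h1
      exact h1
    simp [polar_sub_right, polar_smul_right, polar_comm (f := ⇑q) z s, polar_comm (f := ⇑q) z t, hsz, htz] at h0
    exact hzp h0
  refine ⟨Cfsg.Geo.subspaceStabilizer (Submodule.span F {v}) ⊓ Cfsg.Geo.omegaGL Q,
    lt_of_le_of_ne ?_ fun heq => ?_, lt_of_le_of_ne inf_le_right fun heq => ?_⟩
  · rintro g ⟨hgW, hgΩ⟩
    refine ⟨mem_subspaceStabilizer.2 fun z hz => ?_, hgΩ⟩
    obtain ⟨c, rfl⟩ := Submodule.mem_span_singleton.1 hz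
    rw [mulVec_smul]
    refine Submodule.smul_mem _ c ?_
    set u := (g : Matrix ι ι F) *ᵥ v
    have hu : u ∈ W := mem_subspaceStabilizer.1 hgW v (W.add_mem hx hy)
    have hqu : q u = 1 := (CfsgLib.Orth.Q_app (Q := q) ⟨g, isometry_of_omega hgΩ⟩ v).trans hqv
    have he := hdec u hu
    have hrs : polar q u y * polar q u x = 1 := by
      conv_rhs => rw [← hqu, he]
      rw [QuadraticMap.map_add ⇑q, QuadraticMap.map_smul, QuadraticMap.map_smul, hqx, hqy, polar_smul_left,
        polar_smul_right, hxy]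
      simp
    have hsq : polar q u y * polar q u y = 1 := by
      have h0 : polar q u y ≠ 0 := left_ne_zero_of_mul_eq_one hrs
      have h1 := FiniteField.pow_card_sub_one_eq_one _ h0
      have h2 := Fintype.one_lt_card (α := F)
      rcases (show Fintype.card F = 2 ∨ Fintype.card F = 3 by omega) with h3 | h3 <;> rw [h3] at h1
      · rw [pow_one] at h1; rw [h1, mul_one]
      · rw [← pow_two]; exact h1
    have heq' : polar q u x = polar q u y := by
      apply mul_left_cancel₀ (left_ne_zero_of_mul_eq_one hrs)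
      rw [hrs, hsq]
    rw [heq', ← smul_add] at he
    exact Submodule.mem_span_singleton.2 ⟨_, he.symm⟩
  · -- an element fixing `v` but moving the plane
    set a := x - y + s with ha
    set b := s + t with hb
    have hqa : q a = -1 := by
      rw [ha, QuadraticMap.map_add ⇑q, sub_eq_add_neg, QuadraticMap.map_add ⇑q, QuadraticMap.map_neg,
        polar_neg_right, polar_add_left, polar_neg_left, hxy, hqx, hqy, hqs, hXW x hx s hs, hXW y hy s hs]
      ring
    have hqb : q b ≠ 0 := by rw [hb, hst1]; exact one_ne_zero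
    have hab : polar q a b = 1 := by
      simp [ha, hb, polar_add_left, polar_sub_left, polar_add_right, hss, hst, hXW x hx s hs, hXW x hx t ht,
        hXW y hy s hs, hXW y hy t ht]
    set g := ⁅CfsgLib.Orth.refl q a, CfsgLib.Orth.refl q b⁆
    have hgΩ : (g : GL ι F) ∈ Cfsg.Geo.omegaGL Q := OrthTools.commutator_refl_mem hQ a b
    have hbW : ∀ p ∈ W, polar q p b = 0 := fun p hp => by
      rw [hb, polar_add_right, hXW p hp s hs, hXW p hp t ht, add_zero]
    have happ := fun p hp => OrthTools.app_commutator_refl (q := q) (a := a) (b := b) (x := p)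
      (by rw [hqa]; exact neg_ne_zero.2 one_ne_zero) hqb (hbW p hp)
    have hgv : (g : GL ι F) ∈ Cfsg.Geo.subspaceStabilizer (Submodule.span F {v}) ⊓ Cfsg.Geo.omegaGL Q := by
      refine ⟨mem_subspaceStabilizer.2 fun z hz => ?_, hgΩ⟩
      obtain ⟨c, rfl⟩ := Submodule.mem_span_singleton.1 hz
      rw [mulVec_smul, ← CfsgLib.Orth.app_apply, happ v (W.add_mem hx hy)]
      have hva : polar q v a = 0 := by
        simp [hv, ha, polar_add_left, polar_add_right, polar_sub_right, hxx, hyy, hxy, hyx, hXW x hx s hs,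
          hXW y hy s hs]
      rw [hva]
      simp only [zero_mul, zero_smul, sub_zero, add_zero]
      exact hz
    have hgx := mem_subspaceStabilizer.1 (heq.ge hgv).1 x hx
    rw [← CfsgLib.Orth.app_apply, happ x hx] at hgx
    have hxa : polar q x a = -1 := by
      simp [ha, polar_add_right, polar_sub_right, hxx, hxy, hXW x hx s hs]
    have h0 := hXW _ hgx s hs
    rw [hxa, hab, hqa, hb, hst1, polar_add_left, polar_sub_left, polar_smul_left, polar_smul_left,
      hXW x hx s hs] at h0
    simp [ha, hb, polar_add_left, polar_sub_left, hss, hts, hXW x hx s hs, hXW y hy s hs] at h0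
  · -- an element moving `v`
    set a := x + (s + t) with ha
    set b := t + w with hb
    have hqa : q a = 1 := by
      rw [ha, QuadraticMap.map_add ⇑q, hqx, hst1, polar_add_right, hXW x hx s hs, hXW x hx t ht]
      ring
    have hqb : q b ≠ 0 := by
      rw [hb, QuadraticMap.map_add ⇑q, hqt, hwst.2, zero_add, add_zero]; exact hqw
    have hab : polar q a b = 1 := by
      simp [ha, hb, polar_add_left, polar_add_right, htt, hst, hwst.1, hwst.2, hXW x hx t ht, hXW x hx w hw]
    have hgΩ := OrthTools.commutator_refl_mem hQ a b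
    have hgv := mem_subspaceStabilizer.1 (heq.ge hgΩ).1 v (Submodule.mem_span_singleton_self v)
    have hvb : polar q v b = 0 := by
      rw [hb, polar_add_right, hXW v (W.add_mem hx hy) t ht, hXW v (W.add_mem hx hy) w hw, add_zero]
    rw [← CfsgLib.Orth.app_apply, OrthTools.app_commutator_refl (by rw [hqa]; exact one_ne_zero) hqb hvb] at hgv
    have hva : polar q v a = 1 := by
      simp [hv, ha, polar_add_left, polar_add_right, hxx, hyx, hXW x hx s hs, hXW x hx t ht,
        hXW y hy s hs, hXW y hy t ht]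
    obtain ⟨c, hc⟩ := Submodule.mem_span_singleton.1 hgv
    have h0 := congrArg (polar q · t) hc
    simp only [hva, hab, hqa] at h0
    simp [polar_add_left, polar_sub_left, polar_smul_left, ha, hb, hv, htt, hst, hXW x hx t ht, hXW y hy t ht,
      polar_comm (f := ⇑q) w t, hwst.2, hqb] at h0
    rw [hb] at hqb
    exact hqb h0

theorem result {F : Type*} [Field F] [Fintype F] {n : ℕ} (hn : 13 ≤ n) (heven : Even n) (Q : (Fin n → F) → F) (hQ : Cfsg.Geo.IsNondegenerateQuadraticForm Q) (hq : Fintype.card F ≤ 3) (W : Submodule F (Fin n → F)) (hdim : Module.finrank F W = 2) (hW : Cfsg.Geo.IsNondegenerateOn (QuadraticMap.polar Q) W) (hWp : Cfsg.Geo.IsPlusTypeOn Q W) : ∃ K : Subgroup (Matrix.GeneralLinearGroup (Fin n) F), Cfsg.Geo.subspaceStabilizer W ⊓ Cfsg.Geo.omegaGL Q < K ∧ K < Cfsg.Geo.omegaGL Q :=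
  main (by simp; omega) Q hQ hq W hdim hW hWp

end Cfsg.Agent.S5690
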