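import Cfsg.Statements.S5676
import Cfsg.Agent.S5690
import Cfsg.Agent.Lib.Maximal99.OrthUnipotent
import Cfsg.Agent.Lib.Maximal.TensorThree

set_option autoImplicit false
open Cfsg

namespace Cfsg.Agent.S5676

theorem result {F : Type*} [Field F] [Fintype F] (hq : Fintype.card F = 3) (m : ℕ) (hm : 6 ≤ m) (W : Submodule F (Unit ⊕ (Fin m ⊕ Fin m) → F)) (hdim : Module.finrank F W = 2) (hW : Cfsg.Geo.IsNondegenerateOn (QuadraticMap.polar (Cfsg.quadFormOdd m F)) W) (hplus : Cfsg.Geo.IsPlusTypeOn (Cfsg.quadFormOdd m F) W) : ∃ K : Subgroup (Matrix.GeneralLinearGroup (Unit ⊕ (Fin m ⊕ Fin m)) F), Cfsg.Geo.subspaceStabilizer W ⊓ Cfsg.Geo.omegaGL (Cfsg.quadFormOdd m F) < K ∧ K < Cfsg.Geo.omegaGL (Cfsg.quadFormOdd m F) :=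
  Cfsg.Agent.S5690.main (by simp; omega) _
    (CfsgLib.OrthUnipotent.odd_nondeg m (CfsgLib.Maximal.TensorThree.two_ne hq)) (by omega) W hdim hW hplus

end Cfsg.Agent.S5676
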