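import Cfsg.Statements.S5678
import Cfsg.Agent.Lib.GeomClasses.OrthFrames
import Cfsg.Agent.Lib.Maximal99.OrthUnipotent

set_option autoImplicit false
open Cfsg

namespace Cfsg.Agent.S5678

open CfsgLib.GeomClasses

theorem result {F : Type*} [Field F] [Fintype F] (hq : Fintype.card F = 3) (m : ℕ) (hm : 6 ≤ m) {t : ℕ} (D : Fin t → Submodule F (Unit ⊕ (Fin m ⊕ Fin m) → F)) (hD : Cfsg.Geo.IsOrthogonalMDecomposition (Cfsg.quadFormOdd m F) 3 D) : ∃ K : Subgroup (Matrix.GeneralLinearGroup (Unit ⊕ (Fin m ⊕ Fin m)) F), Cfsg.Geo.decompositionStabilizer D ⊓ Cfsg.Geo.omegaGL (Cfsg.quadFormOdd m F) < K ∧ K < Cfsg.Geo.omegaGL (Cfsg.quadFormOdd m F) := by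
  have h2 := CfsgLib.Maximal.TensorThree.two_ne hq
  have hQ := CfsgLib.OrthUnipotent.odd_nondeg (F := F) m h2
  have hcard := OrthFrames.card_le hD
  simp only [Fintype.card_sum, Fintype.card_fin, Fintype.card_unit] at hcard
  let i₀ : Fin t := ⟨0, by omega⟩
  obtain ⟨δ, hδ, ⟨u, hu, huδ⟩, hrig⟩ := OrthFrames.rigid_three hQ hq (OrthFrames.nondeg_block hD i₀)
    (hD.decomp.decomp.finrank_eq i₀)
  exact OrthFrames.case_odd hQ h2 hD (by omega) (by norm_num) hδ i₀ hu huδ hrig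

end Cfsg.Agent.S5678
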