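import Cfsg.Statements.S5680
import Cfsg.Agent.Lib.ExtFieldThree.Main
import Cfsg.Agent.Lib.Geo.AschOrthNine
import Cfsg.Agent.Lib.Maximal99.OrthUnipotent
-- import your own Cfsg.Agent.* helpers here

set_option autoImplicit false
open Cfsg

namespace Cfsg.Agent.S5680

/-- Let F be a finite field of odd order, m ≥ 6, Q the standard quadratic form on F^(2m+1) and Ω the commutator subgroup of its isometry group. Let K be a subfield of the algebra of (2m+1) × (2m+1) matrices over F containing the scalars, of prime degree r over F with r ≠ 2m + 1, whose elements are self-adjoint for the polar form of Q. Then the elements of Ω normalising K form a maximal subgroup of Ω. -/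
theorem result {F : Type*} [Field F] [Fintype F] (hodd : Odd (Fintype.card F)) (m : ℕ) (hm : 6 ≤ m) (r : ℕ) (hr : r.Prime) (hrn : 2 * m + 1 ≠ r) (K : Subalgebra F (Matrix (Unit ⊕ (Fin m ⊕ Fin m)) (Unit ⊕ (Fin m ⊕ Fin m)) F)) (hK : Cfsg.Geo.IsFieldSubalgebra r K) (hsa : Cfsg.Geo.IsSelfAdjointFor (QuadraticMap.polar (Cfsg.quadFormOdd m F)) K) : Cfsg.Geo.IsMaximalIn (Cfsg.Geo.omegaGL (Cfsg.quadFormOdd m F)) (Cfsg.Geo.subalgebraNormalizer K ⊓ Cfsg.Geo.omegaGL (Cfsg.quadFormOdd m F)) := by
  have hQ := CfsgLib.OrthUnipotent.odd_nondeg m (CfsgLib.Geo.Asch.two_ne_zero_of_odd hodd)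
  have hcard : Fintype.card (Unit ⊕ (Fin m ⊕ Fin m)) = 2 * m + 1 := by simp; omega
  by_cases h3 : 3 * r = Fintype.card (Unit ⊕ (Fin m ⊕ Fin m))
  · refine CfsgLib.ExtFieldThree.maximal_field_three h3 hr ?_ hQ hodd K hK hsa
    omega
  · refine CfsgLib.ExtFieldOrth.maximal_field (by omega) hQ hodd hr K hK (fun s hs => ?_) hsa
    rw [hcard] at hs
    by_contra h
    have h' : s ≤ 3 := by omega
    interval_cases s
    · omega
    · omega
    · omega
    · omega

end Cfsg.Agent.S5680
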