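import Cfsg.Statements.S5684
import Cfsg.Agent.Lib.TensorPowOdd.Maximal
import Cfsg.Agent.Lib.Maximal99.OrthUnipotent

set_option autoImplicit false
open Cfsg

namespace Cfsg.Agent.S5684

/-- Let F be a finite field of odd order q, m ≥ 6, Q the standard quadratic form on F^(2m+1) and Ω the commutator subgroup of its isometry group. Suppose the polar form of Q is similar, through a change of basis P and a bijection of index sets e, to the t-fold tensor power (t ≥ 2) of a non-degenerate symmetric bilinear form f₁ on F^k with k ≥ 3 and (q, k) ≠ (3, 3). Then the elements of Ω in the stabiliser of this decomposition form a maximal subgroup of Ω. -/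
theorem result {F : Type*} [Field F] [Fintype F] (hodd : Odd (Fintype.card F)) (m : ℕ) (hm : 6 ≤ m) (k t : ℕ) (hk : 3 ≤ k) (ht : 2 ≤ t) (hex : ¬ (Fintype.card F = 3 ∧ k = 3)) (e : (Unit ⊕ (Fin m ⊕ Fin m)) ≃ (Fin t → Fin k)) (P : Matrix.GeneralLinearGroup (Unit ⊕ (Fin m ⊕ Fin m)) F) (f₁ : (Fin k → F) → (Fin k → F) → F) (hf₁ : Cfsg.Geo.IsSymmetricForm f₁) (hT : Cfsg.Geo.IsTensorPowerFormStructure id (QuadraticMap.polar (Cfsg.quadFormOdd m F)) f₁ e P) : Cfsg.Geo.IsMaximalIn (Cfsg.Geo.omegaGL (Cfsg.quadFormOdd m F)) (Cfsg.Geo.tensorWreathSubgroup k t e P ⊓ Cfsg.Geo.omegaGL (Cfsg.quadFormOdd m F)) := by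
  have h2 : (2 : F) ≠ 0 := Ring.two_ne_zero fun hc =>
    (Nat.not_even_iff_odd.2 hodd) ((Nat.even_iff.2 (FiniteField.even_card_of_char_two hc)))
  have hcard : Fintype.card (Unit ⊕ (Fin m ⊕ Fin m)) = 2 * m + 1 := by simp; omega
  obtain ⟨t, rfl⟩ : ∃ t', t = t' + 2 := ⟨t - 2, by omega⟩
  refine CfsgLib.TensorPowOdd.isMaximalIn_wreath (CfsgLib.OrthUnipotent.odd_nondeg m h2) h2 ⟨m, hcard⟩ hk ?_ e P hf₁ hT
  rcases CfsgLib.TensorOdd.card_field h2 with h3 | h5
  · refine Or.inl ?_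
    have hab : Fintype.card (Unit ⊕ (Fin m ⊕ Fin m)) = k ^ (t + 2) := by simpa using Fintype.card_congr e
    obtain ⟨j, hj⟩ : Odd k :=
      (Nat.odd_pow_iff (show t + 2 ≠ 0 by omega)).1 (hab ▸ ⟨m, hcard⟩)
    have : k ≠ 3 := fun h => hex ⟨h3, h⟩
    omega
  · exact Or.inr h5

end Cfsg.Agent.S5684
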