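import Cfsg.Statements.S5686
import Cfsg.Agent.Lib.GeomClasses.OrthClasses

set_option autoImplicit false
open Cfsg

namespace Cfsg.Agent.S5686

open Matrix QuadraticMap CfsgLib.GeomClasses CfsgLib.Maximal.TensorTools

theorem result {F : Type*} [Field F] [Fintype F] {n : ℕ} (hn : 13 ≤ n) (heven : Even n) (Q : (Fin n → F) → F) (hQ : Cfsg.Geo.IsNondegenerateQuadraticForm Q) (hplus : Cfsg.Geo.IsPlusTypeOn Q ⊤) (W : Submodule F (Fin n → F)) (hW : Cfsg.Geo.IsTotallySingularQuad Q W) (hdim : 2 * (Module.finrank F W + 1) = n) : ∃ K : Subgroup (Matrix.GeneralLinearGroup (Fin n) F), Cfsg.Geo.subspaceStabilizer W ⊓ Cfsg.Geo.omegaGL Q < K ∧ K < Cfsg.Geo.omegaGL Q := by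
  classical
  let q := quadOf hQ
  have hq : q.polarBilin.Nondegenerate := OrthTools.quadOf_nondegenerate hQ
  set m := Module.finrank F W + 1 with hm
  have hι : Fintype.card (Fin n) = 2 * m := by simp; omega
  obtain ⟨U₀, -, hU₀, hU₀d⟩ := hplus
  rw [finrank_top, Module.finrank_fintype_fun_eq_card, hι] at hU₀d
  -- a maximal singular subspace above W
  set U := W ⊔ (U₀ ⊓ OrthTools.orth q W) with hUdef
  have hWo : ∀ x ∈ U₀ ⊓ OrthTools.orth q W, ∀ y ∈ W, polar q y x = 0 := fun x hx y hy =>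
    OrthTools.mem_orth.1 hx.2 y hy
  have hUs : ∀ u ∈ U, Q u = 0 := by
    intro u hu
    obtain ⟨a, ha, b, hb, rfl⟩ := Submodule.mem_sup.1 hu
    show q (a + b) = 0
    rw [QuadraticMap.map_add ⇑q, hWo b hb a ha, show q a = 0 from hW a ha, show q b = 0 from hU₀ b hb.1]
    simp
  have hUle : Module.finrank F U ≤ m := by
    have h2 := CfsgLib.Orth.two_finrank_le hq (W := U) hUs
    omega
  have hlt : W < U := by
    refine lt_of_le_of_ne le_sup_left fun heq => ?_
    have hle : U₀ ⊓ OrthTools.orth q W ≤ U₀ ⊓ W := le_inf inf_le_left ((show U₀ ⊓ OrthTools.orth q W ≤ U from le_sup_right).trans heq.ge)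
    have h1 := Submodule.finrank_mono hle
    have h2 : OrthTools.orth q (U₀ ⊔ W) ≤ U₀ ⊓ OrthTools.orth q W := by
      have hUU : OrthTools.orth q U₀ = U₀ := CfsgLib.OrthOmega.orthogonal_of_maximal hq hι (by omega) hU₀
      intro x hx
      refine ⟨?_, OrthTools.mem_orth.2 fun y hy => OrthTools.mem_orth.1 hx y (Submodule.mem_sup_right hy)⟩
      rw [← hUU]
      exact OrthTools.mem_orth.2 fun y hy => OrthTools.mem_orth.1 hx y (Submodule.mem_sup_left hy)
    have h3 := Submodule.finrank_mono h2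
    rw [OrthTools.finrank_orth hq] at h3
    have h4 := Submodule.finrank_sup_add_finrank_inf_eq U₀ W
    omega
  have hUd : Module.finrank F U = m := by
    have := Submodule.finrank_lt_finrank_of_lt hlt
    omega
  obtain ⟨e, he, heW⟩ := SetLike.exists_of_lt hlt
  have he0 : e ≠ 0 := fun h => heW (by rw [h]; exact zero_mem _)
  obtain ⟨w, hw, hw0⟩ := Submodule.exists_mem_ne_zero_of_ne_bot (p := W) fun h => by
    rw [h, finrank_bot] at hm; omega
  have hwe : w ∉ Submodule.span F {e} := fun h => by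
    obtain ⟨c, rfl⟩ := Submodule.mem_span_singleton.1 h
    exact heW ((W.smul_mem_iff (fun hc : c = 0 => hw0 (by rw [hc, zero_smul]))).1 hw)
  obtain ⟨⟨g₁, hg₁, hg₁w, hg₁U⟩, -, ⟨g₂, hg₂, x, hx, hg₂x⟩⟩ :=
    OrthClasses.exists_elements hQ (by simp; omega) hUs (Submodule.mem_sup_left hw) he he0 hwe
  refine ⟨Cfsg.Geo.subspaceStabilizer U ⊓ Cfsg.Geo.omegaGL Q, lt_of_le_of_ne ?_ fun heq => ?_,
    lt_of_le_of_ne inf_le_right fun heq => ?_⟩
  · rintro g ⟨hgW, hgΩ⟩
    refine ⟨mem_subspaceStabilizer.2 fun y hy => ?_, hgΩ⟩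
    have hev := OrthClasses.classSign_omega hQ hι (by omega) hUd hUs hgΩ
    set gU := U.map (Matrix.toLin' (g : Matrix (Fin n) (Fin n) F))
    have hWle : W ≤ U ⊓ gU := by
      intro a ha
      refine ⟨Submodule.mem_sup_left ha, ?_⟩
      refine ⟨((g⁻¹ : GL (Fin n) F) : Matrix (Fin n) (Fin n) F) *ᵥ a,
        Submodule.mem_sup_left (mem_subspaceStabilizer.1 (Subgroup.inv_mem _ hgW) a ha), ?_⟩
      rw [Matrix.toLin'_apply, Matrix.mulVec_mulVec, ← Units.val_mul, mul_inv_cancel, Units.val_one, Matrix.one_mulVec]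
    have h1 := Submodule.finrank_mono hWle
    have h2 := Submodule.finrank_mono (inf_le_left : U ⊓ gU ≤ U)
    have h3 : Module.finrank F ↥(U ⊓ gU) = m := by
      obtain ⟨k, hk⟩ := hev
      omega
    have hUg : U ⊓ gU = U := Submodule.eq_of_le_of_finrank_eq inf_le_left (by omega)
    have hle : U ≤ gU := by rw [← hUg]; exact inf_le_right
    have hgUd : Module.finrank F gU = m :=
      ((Submodule.equivMapOfInjective (Matrix.toLin' (g : Matrix (Fin n) (Fin n) F))
          (fun x y h => gl_mulVec_injective g (by simpa using h)) U).finrank_eq.symm).trans hUd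
    rw [Submodule.eq_of_le_of_finrank_eq hle (by omega)]
    exact ⟨y, hy, by rw [Matrix.toLin'_apply]⟩
  · have := mem_subspaceStabilizer.1 (heq.ge ⟨mem_subspaceStabilizer.2 hg₁U, hg₁⟩).1 w hw
    rw [hg₁w] at this
    exact heW ((W.add_mem_iff_right hw).1 this)
  · exact hg₂x (mem_subspaceStabilizer.1 (heq.ge hg₂).1 x hx)

end Cfsg.Agent.S5686
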