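import Cfsg.Statements.S5688
import Cfsg.Agent.Lib.GeomClasses.OrthSubspaceTools

set_option autoImplicit false
open Cfsg

namespace Cfsg.Agent.S5688

open Matrix CfsgLib.GeomClasses

/-- Let F be a finite field with q elements, n ≥ 13 even, Q a non-degenerate quadratic form on F^n of plus type (some subspace of dimension n/2 is totally singular), and Ω the commutator subgroup of the isometry group of Q, viewed inside GL_n(F). Let W be a non-zero proper subspace with dim W ≠ n/2 on which the polar form of Q is non-degenerate. Exclude the case q ≤ 3 in which W, or its orthogonal complement, is a plane containing a line on which Q vanishes. Then the elements of Ω stabilising W form a maximal subgroup of Ω. -/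
theorem result {F : Type*} [Field F] [Fintype F] {n : ℕ} (hn : 13 ≤ n) (heven : Even n) (Q : (Fin n → F) → F) (hQ : Cfsg.Geo.IsNondegenerateQuadraticForm Q) (hplus : Cfsg.Geo.IsPlusTypeOn Q ⊤) (W : Submodule F (Fin n → F)) (hW0 : W ≠ ⊥) (hW1 : W ≠ ⊤) (hdim : 2 * Module.finrank F W ≠ n) (hW : Cfsg.Geo.IsNondegenerateOn (QuadraticMap.polar Q) W) (hex : ¬ (Fintype.card F ≤ 3 ∧ (∃ U : Submodule F (Fin n → F), Module.finrank F U = 2 ∧ Cfsg.Geo.IsNondegenerateOn (QuadraticMap.polar Q) U ∧ Cfsg.Geo.IsPlusTypeOn Q U ∧ (U = W ∨ (Cfsg.Geo.AreOrthogonalFor (QuadraticMap.polar Q) U W ∧ Module.finrank F U + Module.finrank F W = n))))) : Cfsg.Geo.IsMaximalIn (Cfsg.Geo.omegaGL Q) (Cfsg.Geo.subspaceStabilizer W ⊓ Cfsg.Geo.omegaGL Q) := by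
  classical
  have hq := OrthTools.quadOf_nondegenerate hQ
  refine OrthEich.maximal_transport hQ ?_
  set q := CfsgLib.Maximal.TensorTools.quadOf hQ
  have hW' : ∀ x ∈ W, x ≠ 0 → ∃ y ∈ W, QuadraticMap.polar q x y ≠ 0 := fun x hx hx0 => (hW x hx hx0).2
  have hι : Fintype.card (Fin n) = n := Fintype.card_fin n
  have hU := OrthTools.finrank_orth hq W
  have hWle := Submodule.finrank_le W
  rw [Module.finrank_fintype_fun_eq_card] at hWle
  have hnd' := OrthTools.orth_nondegenerate hq hW'
  have hline : ∀ (V : Submodule F (Fin n → F)), Module.finrank F V = 2 → (∃ s ∈ V, s ≠ 0 ∧ q s = 0) →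
      Cfsg.Geo.IsPlusTypeOn Q V := by
    rintro V hV ⟨s, hs, hs0, hqs⟩
    refine ⟨Submodule.span F {s}, (Submodule.span_singleton_le_iff_mem _ _).2 hs, fun x hx => ?_, ?_⟩
    · obtain ⟨c, rfl⟩ := Submodule.mem_span_singleton.1 hx
      show q (c • s) = 0
      rw [QuadraticMap.map_smul, hqs, smul_zero]
    · rw [finrank_span_singleton hs0, hV]
  by_cases hle : 2 * Module.finrank F W ≤ n
  · refine OrthSubspace.maximal_nondegenerate hq (by omega) hW0 hW' (by omega) (fun h => absurd (by omega) hdim) ?_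
    rintro ⟨h2W, h3, hs⟩
    exact hex ⟨h3, W, h2W, hW, hline W h2W hs, Or.inl rfl⟩
  · rw [← OrthSubspace.stab_orth hq W]
    refine OrthSubspace.maximal_nondegenerate hq (by omega) (fun h => ?_) hnd' (by omega) (fun h => by omega) ?_
    · refine hW1 ?_
      rw [← OrthSubspace.orth_orth hq W, h]
      exact eq_top_iff.2 fun x _ => OrthTools.mem_orth.2 fun y hy => by
        rw [(Submodule.mem_bot F).1 hy, QuadraticMap.polar_zero_left]
    rintro ⟨h2U, h3, hs⟩
    refine hex ⟨h3, _, h2U, fun x hx hx0 => ?_, hline _ h2U hs, Or.inr ⟨fun u hu v hv => ?_, by omega⟩⟩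
    · obtain ⟨y, hy, hxy⟩ := hnd' x hx hx0
      exact ⟨⟨y, hy, fun h => hxy ((QuadraticMap.polar_comm _ x y).trans h)⟩, ⟨y, hy, hxy⟩⟩
    · exact (QuadraticMap.polar_comm _ u v).trans (OrthTools.mem_orth.1 hu v hv)

end Cfsg.Agent.S5688
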