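import Cfsg.Statements.S5695
import Cfsg.Agent.Lib.GeomClasses.OrthFrames

set_option autoImplicit false
open Cfsg

namespace Cfsg.Agent.S5695

open QuadraticMap CfsgLib.GeomClasses CfsgLib.Maximal.TensorTools

/-- The overgroup over three elements for members of dimension two or three. -/
theorem main {F : Type*} [Field F] [Fintype F] {n : ℕ} (hn : 13 ≤ n) (Q : (Fin n → F) → F)
    (hQ : Cfsg.Geo.IsNondegenerateQuadraticForm Q) (hq : Fintype.card F = 3) {t : ℕ} (k : ℕ) (hk : k = 2 ∨ k = 3)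
    (D : Fin t → Submodule F (Fin n → F)) (hD : Cfsg.Geo.IsOrthogonalMDecomposition Q k D) :
    ∃ K : Subgroup (Matrix.GeneralLinearGroup (Fin n) F),
      Cfsg.Geo.decompositionStabilizer D ⊓ Cfsg.Geo.omegaGL Q < K ∧ K < Cfsg.Geo.omegaGL Q := by
  have h2 := CfsgLib.Maximal.TensorThree.two_ne hq
  have hcard := OrthFrames.card_le hD
  simp only [Fintype.card_fin] at hcard
  have ht : 5 ≤ t := by rcases hk with rfl | rfl <;> omega
  let i₀ : Fin t := ⟨0, by omega⟩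
  have hW := OrthFrames.nondeg_block hD i₀
  have hd := hD.decomp.decomp.finrank_eq i₀
  rcases hk with rfl | rfl
  · obtain ⟨u, hu, hu0⟩ : ∃ u ∈ D i₀, Q u ≠ 0 := by
      by_contra h
      push Not at h
      obtain ⟨x, hx, hx0⟩ := Submodule.exists_mem_ne_zero_of_ne_bot (p := D i₀) fun hb => by
        rw [hb, finrank_bot] at hd; omega
      obtain ⟨y, hy, hxy⟩ := hW x hx hx0
      exact hxy (by simp [QuadraticMap.polar, h x hx, h y hy, h _ ((D i₀).add_mem hx hy)])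
    exact OrthFrames.case_odd hQ h2 hD ht le_rfl hu0 i₀ hu rfl (OrthFrames.rigid_plane_three hQ hq hW hd hu0)
  · obtain ⟨δ, hδ, ⟨u, hu, huδ⟩, hrig⟩ := OrthFrames.rigid_three hQ hq hW hd
    exact OrthFrames.case_odd hQ h2 hD ht (by norm_num) hδ i₀ hu huδ hrig

theorem result {F : Type*} [Field F] [Fintype F] {n : ℕ} (hn : 13 ≤ n) (heven : Even n) (Q : (Fin n → F) → F) (hQ : Cfsg.Geo.IsNondegenerateQuadraticForm Q) (hminus : ¬ Cfsg.Geo.IsPlusTypeOn Q ⊤) (hq : Fintype.card F = 3) {t : ℕ} (k : ℕ) (hk : k = 2 ∨ k = 3) (D : Fin t → Submodule F (Fin n → F)) (hD : Cfsg.Geo.IsOrthogonalMDecomposition Q k D) (hko : Odd k → Cfsg.Geo.HasSquareDiscriminant Q) (hke : Even k → (Odd t ∧ ∀ i, ¬ Cfsg.Geo.IsPlusTypeOn Q (D i))) : ∃ K : Subgroup (Matrix.GeneralLinearGroup (Fin n) F), Cfsg.Geo.decompositionStabilizer D ⊓ Cfsg.Geo.omegaGL Q < K ∧ K < Cfsg.Geo.omegaGL Q :=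
  main hn Q hQ hq k hk D hD

end Cfsg.Agent.S5695
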