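import Cfsg.Statements.S5693
import Cfsg.Agent.S5695
import Cfsg.Agent.Lib.GeomClasses.OrthFramesTwo

set_option autoImplicit false
open Cfsg

namespace Cfsg.Agent.S5693

open CfsgLib.GeomClasses

theorem result {F : Type*} [Field F] [Fintype F] {n : ℕ} (hn : 13 ≤ n) (heven : Even n) (Q : (Fin n → F) → F) (hQ : Cfsg.Geo.IsNondegenerateQuadraticForm Q) (hplus : Cfsg.Geo.IsPlusTypeOn Q ⊤) {t : ℕ} (k : ℕ) (D : Fin t → Submodule F (Fin n → F)) (hD : Cfsg.Geo.IsOrthogonalMDecomposition Q k D) (hke : Even k → ((∀ i, Cfsg.Geo.IsPlusTypeOn Q (D i)) ∨ Even t)) (hko : Odd k → (Odd (Fintype.card F) ∧ Cfsg.Geo.HasSquareDiscriminant Q)) (hcase : ((k = 2 ∧ (Fintype.card F = 3 ∨ ((∀ i, Cfsg.Geo.IsPlusTypeOn Q (D i)) ∧ (Fintype.card F = 2 ∨ Fintype.card F = 4 ∨ Fintype.card F = 5)))) ∨ (k = 3 ∧ Fintype.card F = 3) ∨ (k = 4 ∧ Fintype.card F = 2 ∧ ∀ i, Cfsg.Geo.IsPlusTypeOn Q (D i)))) : ∃ K : Subgroup (Matrix.GeneralLinearGroup (Fin n) F), Cfsg.Geo.decompositionStabilizer D ⊓ Cfsg.Geo.omegaGL Q < K ∧ K < Cfsg.Geo.omegaGL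 Q := by
  classical
  have hcard := OrthFrames.card_le hD
  simp only [Fintype.card_fin] at hcard
  rcases hcase with ⟨rfl, h3 | ⟨hp, h | h | h⟩⟩ | ⟨rfl, h3⟩ | ⟨rfl, h2, hp⟩
  · exact Cfsg.Agent.S5695.main hn Q hQ h3 2 (Or.inl rfl) D hD
  · -- two elements
    have hone : ∀ r : F, r ≠ 0 → r = 1 := fun r hr => by
      simpa [h] using FiniteField.pow_card_sub_one_eq_one r hr
    have h20 : (2 : F) = 0 := by
      have h' := FiniteField.cast_card_eq_zero F
      rw [h] at h'
      exact_mod_cast h'
    exact OrthFrames.case_two_plane hQ h20 hD (by omega) hp ⊥ (fun c hc => Or.inl (by simpa using hc))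
      (fun r s hrs => by
        rw [AddSubgroup.mem_bot, hone r (left_ne_zero_of_mul_eq_one hrs), hone s (right_ne_zero_of_mul_eq_one hrs)]
        linear_combination h20)
      1 (by simp)
  · -- four elements
    have h20 : (2 : F) = 0 := by
      have h' := FiniteField.cast_card_eq_zero F
      rw [h] at h'
      have : (2 : F) * 2 = 0 := by
        norm_num
        exact_mod_cast h'
      exact mul_self_eq_zero.1 this
    let P : AddSubgroup F :=
      { carrier := {x | x = 0 ∨ x = 1}
        zero_mem' := Or.inl rfl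
        add_mem' := by
          rintro a b (rfl | rfl) (rfl | rfl)
          · exact Or.inl (add_zero 0)
          · exact Or.inr (zero_add 1)
          · exact Or.inr (add_zero 1)
          · exact Or.inl (by linear_combination h20)
        neg_mem' := by
          rintro a (rfl | rfl)
          · exact Or.inl neg_zero
          · exact Or.inr (by linear_combination -h20) }
    obtain ⟨ω, hω⟩ : ∃ ω : F, ω ∉ P := by
      by_contra hc
      push Not at hc
      have hsub : (Finset.univ : Finset F) ⊆ {0, 1} := fun x _ => by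
        rcases hc x with hx | hx <;> simp [hx]
      have h1 := Finset.card_le_card hsub
      have h2' : ({0, 1} : Finset F).card ≤ 2 := Finset.card_le_two
      rw [Finset.card_univ, h] at h1
      omega
    refine OrthFrames.case_two_plane hQ h20 hD (by omega) hp P (fun c hc => hc) (fun r s hrs => ?_) ω hω
    have h3' : r ^ 3 = 1 := by
      simpa [h] using FiniteField.pow_card_sub_one_eq_one r (left_ne_zero_of_mul_eq_one hrs)
    rcases eq_or_ne r 1 with rfl | hr
    · exact Or.inl (by linear_combination hrs + h20)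
    · refine Or.inr ?_
      have h4 : (r - 1) * (r ^ 2 + r + 1) = 0 := by linear_combination h3'
      have h5 := (mul_eq_zero.1 h4).resolve_left (sub_ne_zero.2 hr)
      apply mul_left_cancel₀ (left_ne_zero_of_mul_eq_one hrs)
      linear_combination hrs + h5 - r * h20
  · -- five elements
    have h2 : (2 : F) ≠ 0 := fun h2 => by
      have h' := FiniteField.cast_card_eq_zero F
      rw [h] at h'
      have h5' : (5 : F) = 0 := by exact_mod_cast h'
      exact one_ne_zero (α := F) (by linear_combination h5' - 2 * h2)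
    let i₀ : Fin t := ⟨0, by omega⟩
    obtain ⟨⟨u, hu, hu1⟩, hrig⟩ := OrthFrames.rigid_plane_five hQ h (OrthFrames.nondeg_block hD i₀)
      (hD.decomp.decomp.finrank_eq i₀) (hp i₀)
    exact OrthFrames.case_odd hQ h2 hD (by omega) le_rfl one_ne_zero i₀ hu hu1 hrig
  · exact Cfsg.Agent.S5695.main hn Q hQ h3 3 (Or.inr rfl) D hD
  · exact OrthFrames.case_four hQ h2 hD (by omega) hp

end Cfsg.Agent.S5693
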