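import Cfsg.Statements.S5698
import Cfsg.Agent.Lib.GeomClasses.OrthClasses
import Cfsg.Agent.Lib.GeomClasses.Decomp

set_option autoImplicit false
open Cfsg

namespace Cfsg.Agent.S5698

open Matrix QuadraticMap CfsgLib.GeomClasses CfsgLib.Maximal.TensorTools

theorem result {F : Type*} [Field F] [Fintype F] {n : ℕ} (hn : 13 ≤ n) (heven : Even n) (Q : (Fin n → F) → F) (hQ : Cfsg.Geo.IsNondegenerateQuadraticForm Q) (hplus : Cfsg.Geo.IsPlusTypeOn Q ⊤) (k : ℕ) (hk : 2 * k = n) (hko : Odd k) (D : Fin 2 → Submodule F (Fin n → F)) (hD : Cfsg.Geo.IsMDecomposition k D) (hts : ∀ i, Cfsg.Geo.IsTotallySingularQuad Q (D i)) : ∃ K : Subgroup (Matrix.GeneralLinearGroup (Fin n) F), Cfsg.Geo.decompositionStabilizer D ⊓ Cfsg.Geo.omegaGL Q < K ∧ K < Cfsg.Geo.omegaGL Q := by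
  classical
  let q := quadOf hQ
  have hq : q.polarBilin.Nondegenerate := OrthTools.quadOf_nondegenerate hQ
  have hι : Fintype.card (Fin n) = 2 * k := by simp; omega
  have h01 : D 0 ⊓ D 1 = ⊥ := (hD.indep.pairwiseDisjoint (show (0 : Fin 2) ≠ 1 by decide)).eq_bot
  obtain ⟨w, hw, hw0⟩ := Decomp.exists_ne_zero hD 0
  obtain ⟨e, he, hew⟩ : ∃ e ∈ D 0, e ∉ Submodule.span F {w} := by
    by_contra h
    push Not at h
    have h1 := Submodule.finrank_mono (show D 0 ≤ Submodule.span F {w} from h)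
    rw [finrank_span_singleton hw0, hD.finrank_eq] at h1
    omega
  have he0 : e ≠ 0 := fun h => hew (by rw [h]; exact zero_mem _)
  have hwe : w ∉ Submodule.span F {e} := fun h => by
    obtain ⟨c, hc⟩ := Submodule.mem_span_singleton.1 h
    have hc0 : c ≠ 0 := fun h0 => hw0 (by rw [← hc, h0, zero_smul])
    exact hew (Submodule.mem_span_singleton.2 ⟨c⁻¹, by rw [← hc, smul_smul, inv_mul_cancel₀ hc0, one_smul]⟩)
  obtain ⟨-, ⟨g₁, hg₁, w', hw', hw'0, hw'e, hg₁x⟩, ⟨g₂, hg₂, x, hx, hg₂x⟩⟩ :=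
    OrthClasses.exists_elements hQ (by simp; omega) (hts 0) hw he he0 hwe
  refine ⟨Cfsg.Geo.subspaceStabilizer (D 0) ⊓ Cfsg.Geo.omegaGL Q, lt_of_le_of_ne ?_ fun heq => ?_,
    lt_of_le_of_ne inf_le_right fun heq => ?_⟩
  · rintro g ⟨⟨σ, hσ⟩, hgΩ⟩
    refine ⟨mem_subspaceStabilizer.2 fun y hy => ?_, hgΩ⟩
    have hev := OrthClasses.classSign_omega hQ hι (by omega) (hD.finrank_eq 0) (hts 0) hgΩ
    rcases (show σ 0 = 0 ∨ σ 0 = 1 by omega) with h | h
    · rw [← h, ← hσ 0]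
      exact ⟨y, hy, by rw [Matrix.toLin'_apply]⟩
    · rw [hσ 0, h, h01, finrank_bot, Nat.sub_zero] at hev
      exact absurd hev (Nat.not_even_iff_odd.2 hko)
  · have hfix : ∀ y ∈ D 0, (g₁ : Matrix (Fin n) (Fin n) F) *ᵥ y = y := fun y hy => by
      rw [hg₁x, show polar Q y w' = 0 from OrthClasses.polar_of_singular (q := q) (hts 0) hy hw',
        show polar Q y e = 0 from OrthClasses.polar_of_singular (q := q) (hts 0) hy he, zero_smul, zero_smul,
        add_zero, sub_zero]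
    obtain ⟨σ, hσ⟩ := (heq.ge ⟨mem_subspaceStabilizer.2 fun y hy => by rw [hfix y hy]; exact hy, hg₁⟩).1
    have hσ0 : σ 0 = 0 := by
      by_contra h
      have h1 : σ 0 = 1 := by omega
      have hm : w ∈ D (σ 0) := by rw [← hσ 0]; exact ⟨w, hw, by rw [Matrix.toLin'_apply]; exact hfix w hw⟩
      rw [h1] at hm
      exact hw0 ((Submodule.mem_bot F).1 (h01 ▸ ⟨hw, hm⟩ : w ∈ (⊥ : Submodule F (Fin n → F))))
    have hσ1 : σ 1 = 1 := by
      have := σ.injective.ne (show (1 : Fin 2) ≠ 0 by decide)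
      omega
    have key : ∀ y ∈ D 1, polar Q y w' = 0 := by
      intro y hy
      have hm : y + polar Q y w' • e - polar Q y e • w' ∈ D 1 := by
        rw [← hσ1, ← hσ 1]; exact ⟨y, hy, by rw [Matrix.toLin'_apply, hg₁x]⟩
      have hm' : polar Q y w' • e - polar Q y e • w' ∈ D 1 := by
        rw [add_sub_assoc] at hm
        exact ((D 1).add_mem_iff_right hy).1 hm
      have hz : polar Q y w' • e - polar Q y e • w' = 0 :=
        (Submodule.mem_bot F).1 (h01 ▸ ⟨(D 0).sub_mem ((D 0).smul_mem _ he) ((D 0).smul_mem _ hw'), hm'⟩ :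
          _ ∈ (⊥ : Submodule F (Fin n → F)))
      rcases eq_or_ne (polar Q y e) 0 with h | h
      · rw [h, zero_smul, sub_zero, smul_eq_zero] at hz
        exact hz.resolve_right he0
      · refine absurd (Submodule.mem_span_singleton.2 ⟨(polar Q y e)⁻¹ * polar Q y w', ?_⟩) hw'e
        rw [mul_smul, sub_eq_zero.1 hz, smul_smul, inv_mul_cancel₀ h, one_smul]
    obtain ⟨⟨y, hy⟩, -⟩ := hQ.nondegenerate w' hw'0
    refine hy ?_
    show polar q y w' = 0
    rw [← Decomp.sum_comp hD y, Fin.sum_univ_two, polar_add_left,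
      OrthClasses.polar_of_singular (q := q) (hts 0) (Decomp.comp_mem hD 0 y) hw',
      show polar q (Decomp.comp hD 1 y) w' = 0 from key _ (Decomp.comp_mem hD 1 y), add_zero]
  · exact hg₂x (mem_subspaceStabilizer.1 (heq.ge hg₂).1 x hx)

end Cfsg.Agent.S5698
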