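import Cfsg.Statements.S5699
import Cfsg.Agent.Lib.GeomClasses.OrthPair
import Cfsg.Agent.Lib.GeomClasses.OrthSubspaceTools

set_option autoImplicit false
open Cfsg

namespace Cfsg.Agent.S5699

open CfsgLib.GeomClasses

/-- Let F be a finite field with q elements, n ≥ 13 even, Q a non-degenerate quadratic form on F^n (of either type), and Ω the commutator subgroup of the isometry group of Q, viewed inside GL_n(F). Let D be a decomposition of F^n into two orthogonal subspaces of odd dimension n/2 on which the polar form is non-degenerate and which are not Q-isometric to each other. Then the elements of Ω permuting (necessarily fixing) the two subspaces form a maximal subgroup of Ω. -/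
theorem result {F : Type*} [Field F] [Fintype F] {n : ℕ} (hn : 13 ≤ n) (heven : Even n) (Q : (Fin n → F) → F) (hQ : Cfsg.Geo.IsNondegenerateQuadraticForm Q) (k : ℕ) (hk : 2 * k = n) (hko : Odd k) (D : Fin 2 → Submodule F (Fin n → F)) (hD : Cfsg.Geo.IsNondegenerateMDecomposition (QuadraticMap.polar Q) k D) (hni : ¬ Cfsg.Geo.AreIsometricFor Q (D 0) (D 1)) : Cfsg.Geo.IsMaximalIn (Cfsg.Geo.omegaGL Q) (Cfsg.Geo.decompositionStabilizer D ⊓ Cfsg.Geo.omegaGL Q) := by
  classical
  have hq := OrthTools.quadOf_nondegenerate hQ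
  refine OrthPair.maximal_transport hQ ?_
  set q := CfsgLib.Maximal.TensorTools.quadOf hQ
  have hι : Fintype.card (Fin n) = n := Fintype.card_fin n
  have hW' : ∀ x ∈ D 0, x ≠ 0 → ∃ y ∈ D 0, QuadraticMap.polar q x y ≠ 0 := fun x hx hx0 =>
    (hD.nondegenerate 0 x hx hx0).2
  have hd := hD.decomp.finrank_eq
  have horth : D 1 = OrthTools.orth q (D 0) := by
    refine Submodule.eq_of_le_of_finrank_eq (fun x hx => OrthTools.mem_orth.2 fun y hy => ?_) ?_
    · exact hD.orthogonal 0 1 (by decide) y hy x hx
    · rw [OrthTools.finrank_orth hq, hd 0, hd 1, hι]; omega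
  have hiso : ∀ g : CfsgLib.Orth.O q, ¬ ∀ x ∈ D 0, CfsgLib.Orth.app g x ∈ D 1 := by
    intro g hg
    let f : D 0 →ₗ[F] D 1 := LinearMap.codRestrict (D 1) ((CfsgLib.Orth.app g).domRestrict (D 0)) fun x => hg x x.2
    have hf : Function.Injective f := fun x y h =>
      Subtype.ext (CfsgLib.Orth.app_injective g (congrArg Subtype.val h))
    exact hni ⟨LinearEquiv.ofInjectiveOfFinrankEq f hf (by rw [hd 0, hd 1]), fun w => CfsgLib.Orth.Q_app g _⟩
  have hstab : (Cfsg.Geo.decompositionStabilizer D).comap (CfsgLib.Orth.O q).subtype = OrthEich.stab q (D 0) := by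
    ext g
    constructor
    · intro hg
      obtain ⟨σ, hσ⟩ := mem_decompositionStabilizer.1 hg
      have hmem : ∀ x ∈ D 0, CfsgLib.Orth.app g x ∈ D (σ 0) := fun x hx => by
        rw [← hσ 0]; exact ⟨x, hx, Matrix.toLin'_apply _ _⟩
      rcases (show σ 0 = 0 ∨ σ 0 = 1 by omega) with h | h <;> rw [h] at hmem
      · exact OrthEich.mem_stab.2 hmem
      · exact absurd hmem (hiso g)
    · intro hg
      refine Decomp.mem_stabilizer_of_image hD.decomp fun i => ⟨i, ?_⟩
      rcases (show i = 0 ∨ i = 1 by omega) with rfl | rfl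
      · exact OrthEich.mem_stab.1 hg
      · rw [horth]; exact OrthEich.mem_stab.1 (OrthSubspace.stab_le_stab_orth hq _ hg)
  rw [hstab]
  refine OrthSubspace.maximal_nondegenerate hq (by omega) (fun h => ?_) hW' (by rw [hd 0]; omega)
    (fun _ g _ => by rw [← horth]; exact hiso g) (fun h => by rw [hd 0] at h; omega) (hU5 := Or.inl (by rw [hd 0]; omega))
  have := hd 0
  rw [h, finrank_bot] at this
  omega

end Cfsg.Agent.S5699
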