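import Cfsg.Statements.S5702
import Cfsg.Agent.Lib.GeomClasses.OrthRatMax
import Cfsg.Agent.Lib.GeomClasses.OrthTransport

set_option autoImplicit false
open Cfsg

namespace Cfsg.Agent.S5702

/-- Let F be a finite field with q elements, n ≥ 13 even, Q a non-degenerate quadratic form on F^n (of either type), and Ω the commutator subgroup of the isometry group of Q, viewed inside GL_n(F). Let F₀ be a subfield with |F| = |F₀| ^ r for a prime r, ζ a non-zero scalar and P an invertible matrix such that ζ·Q takes values in F₀ on the F₀-span of the columns of P. Then the elements of Ω lying in the subfield group of P (the conjugate by P of the product of GL_n(F₀) with the scalars) form a maximal subgroup of Ω. -/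
theorem result {F : Type*} [Field F] [Fintype F] {n : ℕ} (hn : 13 ≤ n) (heven : Even n) (Q : (Fin n → F) → F) (hQ : Cfsg.Geo.IsNondegenerateQuadraticForm Q) (F₀ : Subfield F) (r : ℕ) (hr : r.Prime) (hcard : Fintype.card F = Nat.card F₀ ^ r) (P : Matrix.GeneralLinearGroup (Fin n) F) (ζ : F) (hζ : ζ ≠ 0) (hP : Cfsg.Geo.IsQuadFormRationalStructure (fun v : Fin n → F => ζ * Q v) F₀ P) : Cfsg.Geo.IsMaximalIn (Cfsg.Geo.omegaGL Q) (Cfsg.Geo.subfieldSubgroup F₀ P ⊓ Cfsg.Geo.omegaGL Q) := by
  classical
  have hiso : Cfsg.isometryGroup F (fun v => ζ * Q v) = Cfsg.isometryGroup F Q := by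
    ext g
    constructor
    · exact fun h u v => mul_left_cancel₀ hζ (h u v)
    · exact fun h u v => congrArg (ζ * ·) (h u v)
  have hΩ : Cfsg.Geo.omegaGL (fun v => ζ * Q v) = Cfsg.Geo.omegaGL Q := by
    rw [CfsgLib.GeomClasses.OrthTransport.omegaGL_eq, CfsgLib.GeomClasses.OrthTransport.omegaGL_eq, hiso]
  have hp : ∀ u v, QuadraticMap.polar (fun v => ζ * Q v) u v = ζ * QuadraticMap.polar Q u v := fun u v => by
    simp only [QuadraticMap.polar]; ring
  have hQζ : Cfsg.Geo.IsNondegenerateQuadraticForm (fun v => ζ * Q v) := by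
    refine ⟨fun c v => ?_, ⟨?_, ?_, ?_, ?_⟩, fun x hx => ?_⟩
    · simp only [hQ.smul]; ring
    · intro a b c; simp only [hp, hQ.polar_bilinear.add_left]; ring
    · intro a b c; simp only [hp, hQ.polar_bilinear.smul_left]; ring
    · intro a b c; simp only [hp, hQ.polar_bilinear.add_right]; ring
    · intro a b c; simp only [hp, hQ.polar_bilinear.smul_right]; ring
    obtain ⟨⟨y, hy⟩, ⟨y', hy'⟩⟩ := hQ.nondegenerate x hx
    exact ⟨⟨y, by rw [hp]; exact mul_ne_zero hζ hy⟩, ⟨y', by rw [hp]; exact mul_ne_zero hζ hy'⟩⟩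
  have hQ' := CfsgLib.GeomClasses.OrthTransport.nondegenerate_comp hQζ P
  have S : CfsgLib.GeomClasses.OrthRat.Rat (CfsgLib.Maximal.TensorTools.quadOf hQ') F₀ :=
    ⟨CfsgLib.GeomClasses.OrthTools.quadOf_nondegenerate hQ', by simp; omega, fun u hu => hP u hu⟩
  haveI := Fintype.ofFinite F₀
  have h0 := CfsgLib.GeomClasses.OrthPair.maximal_transport hQ' (CfsgLib.GeomClasses.OrthRat.maximal S hr hcard)
  have h := CfsgLib.GeomClasses.OrthTransport.maximal_map (Q := fun v => ζ * Q v) P
    (S := CfsgLib.GeomClasses.SympRoot.ratScalar F₀ (Fin n)) h0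
  rw [← hΩ]
  exact h

end Cfsg.Agent.S5702
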