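import Cfsg.Statements.S5704
import Cfsg.Agent.Lib.TensorSympPair.Main

set_option autoImplicit false
open Cfsg

namespace Cfsg.Agent.S5704

/-- Let F be a finite field with q elements, n ≥ 13 even, Q a non-degenerate quadratic form on F^n of plus type (some subspace of dimension n/2 is totally singular), and Ω the commutator subgroup of the isometry group of Q, viewed inside GL_n(F). Suppose that, through a change of basis P and a bijection of index sets e, the polar form of Q is similar to the tensor product of non-degenerate symplectic forms f₁ on F^(n₁) and f₂ on F^(n₂) with n₁ < n₂, and Q vanishes on the images of all pure tensors. Unless q = 2 and n₁ = 2, the elements of Ω in the stabiliser of this tensor decomposition form a maximal subgroup of Ω. -/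
theorem result {F : Type*} [Field F] [Fintype F] {n : ℕ} (hn : 13 ≤ n) (heven : Even n) (Q : (Fin n → F) → F) (hQ : Cfsg.Geo.IsNondegenerateQuadraticForm Q) (hplus : Cfsg.Geo.IsPlusTypeOn Q ⊤) (n₁ n₂ : ℕ) (h12 : n₁ < n₂) (hex : ¬ (Fintype.card F = 2 ∧ n₁ = 2)) (e : (Fin n) ≃ Fin n₁ × Fin n₂) (P : Matrix.GeneralLinearGroup (Fin n) F) (f₁ : (Fin n₁ → F) → (Fin n₁ → F) → F) (f₂ : (Fin n₂ → F) → (Fin n₂ → F) → F) (hf₁ : Cfsg.Geo.IsSymplecticForm f₁) (hf₂ : Cfsg.Geo.IsSymplecticForm f₂) (hT : Cfsg.Geo.IsTensorFormStructure id (QuadraticMap.polar Q) f₁ f₂ e P) (hpure : (∀ (x₁ : Fin n₁ → F) (x₂ : Fin n₂ → F), Q (Matrix.mulVec (P : Matrix (Fin n) (Fin n) F) ((fun a : Fin n₁ × Fin n₂ => x₁ a.1 * x₂ a.2) ∘ e)) = 0)) : Cfsg.Geo.IsMaximalIn (Cfsg.Geo.omegaGL Q) (Cfsg.Geo.tensorProductSubgroup n₁ n₂ e P ⊓ Cfsg.Geo.omegaGL Q) := by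
  classical
  have hsymp : ∀ {m : ℕ} {f : (Fin m → F) → (Fin m → F) → F}, Cfsg.Geo.IsSymplecticForm f → ∃ k, m = 2 * k := by
    intro m f hf
    obtain ⟨k, hk⟩ := CfsgLib.SpInvClasses.even_finrank (CfsgLib.GeomClasses.Symp.bil hf)
      (fun x => hf.alternating x) (CfsgLib.GeomClasses.Symp.bil_nondegenerate hf).1
    exact ⟨k, by rw [← hk, Module.finrank_fintype_fun_eq_card, Fintype.card_fin]⟩
  obtain ⟨k, rfl⟩ := hsymp hf₁
  obtain ⟨l, rfl⟩ := hsymp hf₂
  have hcard : n = 2 * k * (2 * l) := by simpa using Fintype.card_congr e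
  have hk : 1 ≤ k := by
    rcases Nat.eq_zero_or_pos k with h | h
    · subst h; simp at hcard; omega
    · exact h
  have hb : 5 ≤ 2 * l := by
    rcases Nat.lt_or_ge l 3 with hl | hl
    · exfalso
      have : k ≤ 1 := by omega
      interval_cases k
      omega
    · omega
  refine CfsgLib.TensorSympPair.maximal_tensor (by omega) (by omega) hb ?_ hQ e P hf₁ hf₂ hT hpure
  rintro ⟨ha, hc⟩
  refine hex ⟨?_, ha⟩
  have hsub : (Finset.univ : Finset F) ⊆ {0, 1} := fun x _ => by simpa using hc x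
  have h1 := Finset.card_le_card hsub
  rw [Finset.card_univ, Finset.card_pair zero_ne_one] at h1
  have h2 := Fintype.one_lt_card (α := F)
  omega

end Cfsg.Agent.S5704
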