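import Cfsg.Statements.S5705
import Cfsg.Agent.Lib.Maximal.TensorTools

set_option autoImplicit false
open Cfsg

namespace Cfsg.Agent.S5705

open Matrix QuadraticMap CfsgLib.Maximal.TensorTools
open scoped commutatorElement Kronecker

section
variable {F : Type*} [Field F] [Fintype F] {n n₂ : ℕ}

lemma zero_or_one (hq : Fintype.card F = 2) (x : F) : x = 0 ∨ x = 1 := by
  by_contra h
  push Not at h
  classical
  have : ({0, 1, x} : Finset F).card ≤ Fintype.card F := Finset.card_le_univ _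
  rw [Finset.card_insert_of_notMem (by simp [Ne.symm h.1]), Finset.card_insert_of_notMem (by simp [Ne.symm h.2]),
    Finset.card_singleton, hq] at this
  omega

lemma one_add_one (hq : Fintype.card F = 2) : (1 : F) + 1 = 0 := by
  rcases zero_or_one hq (1 + 1 : F) with h | h
  · exact h
  · exact absurd (by linear_combination h) (one_ne_zero (α := F))

/-- the generator of the normal subgroup of order three of `GL₂(2)` -/
def rot (hq : Fintype.card F = 2) : GL (Fin 2) F :=
  ⟨!![0, 1; 1, 1], !![1, 1; 1, 0],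
    by ext i j; fin_cases i <;> fin_cases j <;> simp [Matrix.mul_apply, one_add_one hq],
    by ext i j; fin_cases i <;> fin_cases j <;> simp [Matrix.mul_apply, one_add_one hq]⟩

lemma rot_normal (hq : Fintype.card F = 2) (A : GL (Fin 2) F) :
    A * rot hq = rot hq * A ∨ A * rot hq = (rot hq)⁻¹ * A := by
  have hdet : (A : Matrix (Fin 2) (Fin 2) F).det ≠ 0 := (Matrix.GeneralLinearGroup.det A).ne_zero
  obtain ⟨M, hM⟩ : ∃ M, M = (A : Matrix (Fin 2) (Fin 2) F) := ⟨_, rfl⟩
  rw [← hM, Matrix.det_fin_two] at hdet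
  have key : M * !![0, 1; 1, 1] = !![0, 1; 1, 1] * M ∨ M * !![0, 1; 1, 1] = !![1, 1; 1, 0] * M := by
    have h11 := one_add_one hq
    rw [Matrix.eta_fin_two M]
    rcases zero_or_one hq (M 0 0) with a | a <;> rcases zero_or_one hq (M 0 1) with b | b <;>
      rcases zero_or_one hq (M 1 0) with c | c <;> rcases zero_or_one hq (M 1 1) with d | d <;>
      simp [a, b, c, d, h11] at hdet ⊢
  rcases key with h | h
  · exact Or.inl (Units.ext (by rw [Units.val_mul, Units.val_mul, ← hM]; exact h))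
  · exact Or.inr (Units.ext (by rw [Units.val_mul, Units.val_mul, ← hM]; exact h))

/-- product of two reflections in adjacent anisotropic vectors -/
lemma refl_mul_refl_omega {ι : Type} [Fintype ι] [DecidableEq ι] (hq : Fintype.card F = 2)
    {q : QuadraticForm F (ι → F)} {v u : ι → F} (hv : q v = 1) (hu : q u = 1) (hvu : polar q v u = 1) :
    ((CfsgLib.Orth.refl q v * CfsgLib.Orth.refl q u : CfsgLib.Orth.O q) : GL ι F) ∈ Cfsg.Geo.omegaGL ⇑q := by
  have h11 := one_add_one hq
  have hw : q (u + v) = 1 := by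
    rw [QuadraticMap.map_add ⇑q, hu, hv, polar_comm (f := ⇑q) u v, hvu]; linear_combination h11
  have himg : CfsgLib.Orth.app (CfsgLib.Orth.refl q (u + v)) v = u := by
    rw [CfsgLib.Orth.app_refl, hw, polar_add_right, hvu, CfsgLib.Orth.polar_self', hv]
    rw [show (1 : F)⁻¹ * (1 + 2 * 1) = 1 by linear_combination h11 + (inv_one (G := F)) * 0]
    rw [one_smul, sub_eq_iff_eq_add, eq_comm, ← add_assoc]
    calc u + u + v = (1 + 1 : F) • u + v := by module
      _ = v := by rw [h11, zero_smul, zero_add]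
  have := commutator_mem_omega (CfsgLib.Orth.refl q v) (CfsgLib.Orth.refl q (u + v))
  rwa [commutatorElement_def, mul_assoc, mul_assoc, CfsgLib.Orth.refl_inv v, ← mul_assoc (CfsgLib.Orth.refl q (u + v)),
    CfsgLib.Orth.refl_conj, himg] at this

lemma main (hq : Fintype.card F = 2) (q : QuadraticForm F (Fin n → F))
    (T : (Fin 2 × Fin n₂ → F) ≃ₗ[F] (Fin n → F)) (B : LinearMap.BilinForm F (Fin n₂ → F))
    (E : (Fin n₂ → F) → (Fin n₂ → F) → (Fin n → F))
    (hE : ∀ w₀ w₁, E w₀ w₁ = T (fun a => if a.1 = 0 then w₀ a.2 else w₁ a.2))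
    (hqE : ∀ w₀ w₁, q (E w₀ w₁) = B w₀ w₁)
    (hpE : ∀ x₀ x₁ y₀ y₁, polar q (E x₀ x₁) (E y₀ y₁) = B x₀ y₁ + B y₀ x₁)
    (p r w z : Fin n₂ → F) (halt : ∀ x, B x x = 0) (hsym : ∀ x y, B x y = B y x)
    (hpr : B p r = 1) (hwp : B w p = 0) (hwr : B w r = 0) (hw : w ≠ 0) (hwz : B w z = 1)
    (hzp : B z p = 0) (hzr : B z r = 0)
    (H : Subgroup (GL (Fin n) F)) (hHΩ : H ≤ Cfsg.Geo.omegaGL ⇑q) (τ : CfsgLib.Orth.O q)
    (hτ : ∀ w₀ w₁, CfsgLib.Orth.app τ (E w₀ w₁) = E w₁ (w₀ + w₁))
    (hnorm : ∀ g ∈ H, g * (τ : GL (Fin n) F) = τ * g ∨ g * (τ : GL (Fin n) F) = (τ : GL (Fin n) F)⁻¹ * g)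
    (hfac : ∀ g ∈ H, ∃ (a : GL (Fin 2) F) (b : GL (Fin n₂) F), ∀ v x,
      (g : Matrix (Fin n) (Fin n) F) *ᵥ T (CfsgLib.Maximal.TensorTools.pure v x) = T (CfsgLib.Maximal.TensorTools.pure
        ((a : Matrix (Fin 2) (Fin 2) F) *ᵥ v) ((b : Matrix (Fin n₂) (Fin n₂) F) *ᵥ x))) :
    ∃ K : Subgroup (GL (Fin n) F), H < K ∧ K < Cfsg.Geo.omegaGL ⇑q := by
  have h11 := one_add_one hq
  have hEadd : ∀ x₀ x₁ y₀ y₁, E x₀ x₁ + E y₀ y₁ = E (x₀ + y₀) (x₁ + y₁) := fun x₀ x₁ y₀ y₁ => by
    rw [hE, hE, hE, ← map_add]; congr 1; funext a; simp only [Pi.add_apply]; split <;> rfl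
  have hEinj : ∀ {x₀ x₁ y₀ y₁}, E x₀ x₁ = E y₀ y₁ → x₀ = y₀ ∧ x₁ = y₁ := by
    intro x₀ x₁ y₀ y₁ h
    rw [hE, hE] at h
    have h' := T.injective h
    exact ⟨funext fun j => by simpa using congrFun h' (0, j), funext fun j => by simpa using congrFun h' (1, j)⟩
  have hpure : ∀ (u : Fin 2 → F) (x : Fin n₂ → F),
      T (CfsgLib.Maximal.TensorTools.pure u x) = E (u 0 • x) (u 1 • x) := by
    intro u x
    rw [hE]
    congr 1
    funext ⟨i, j⟩
    fin_cases i <;> simp [CfsgLib.Maximal.TensorTools.pure]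
  have hw0 : E w 0 ≠ 0 := fun h => hw
    (hEinj (h.trans (by rw [hE]; simp only [Pi.zero_apply, ite_self]; exact (map_zero T).symm : (0 : Fin n → F) = E 0 0))).1
  -- the vectors
  set v := E p r with hv_def
  set tv := E r (p + r) with htv_def
  set t2v := E (p + r) (r + (p + r)) with ht2v
  have hrp : B r p = 1 := by rw [hsym, hpr]
  have hqv : q v = 1 := by rw [hqE, hpr]
  have hqtv : q tv = 1 := by rw [hqE, map_add, hrp, halt, add_zero]
  have hp12 : polar q v tv = 1 := by
    rw [hpE, map_add, hpr, halt p, halt r]; ring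
  have happτ : CfsgLib.Orth.app τ v = tv := hτ p r
  set r1 := CfsgLib.Orth.refl q v
  set r2 := CfsgLib.Orth.refl q tv
  let M : Subgroup (GL (Fin n) F) := Subgroup.normalizer ({(τ : GL (Fin n) F), (τ : GL (Fin n) F)⁻¹} : Set _)
  have memM : ∀ g : GL (Fin n) F, g * (τ : GL (Fin n) F) = τ * g ∨ g * (τ : GL (Fin n) F) = (τ : GL (Fin n) F)⁻¹ * g →
      g ∈ M := by
    intro g hg
    refine Subgroup.mem_set_normalizer_iff.2 fun y => ?_
    generalize (τ : GL (Fin n) F) = t at hg
    simp only [Set.mem_insert_iff, Set.mem_singleton_iff]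
    rcases hg with h | h
    · have e1 : g * t * g⁻¹ = t := by rw [h, mul_inv_cancel_right]
      have e2 : g * t⁻¹ * g⁻¹ = t⁻¹ := by rw [← conj_inv, e1]
      constructor
      · rintro (rfl | rfl)
        · exact Or.inl e1
        · exact Or.inr e2
      · rintro (h' | h')
        · exact Or.inl (by simpa using mul_left_cancel (mul_right_cancel (h'.trans e1.symm)))
        · exact Or.inr (by simpa using mul_left_cancel (mul_right_cancel (h'.trans e2.symm)))
    · have e1 : g * t * g⁻¹ = t⁻¹ := by rw [h, mul_inv_cancel_right]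
      have e2 : g * t⁻¹ * g⁻¹ = t := by rw [← conj_inv, e1, inv_inv]
      constructor
      · rintro (rfl | rfl)
        · exact Or.inr e1
        · exact Or.inl e2
      · rintro (h' | h')
        · exact Or.inr (mul_left_cancel (mul_right_cancel (h'.trans e2.symm)))
        · exact Or.inl (mul_left_cancel (mul_right_cancel (h'.trans e1.symm)))
  refine ⟨M ⊓ Cfsg.Geo.omegaGL ⇑q, lt_of_le_of_ne (fun g hg => ⟨memM g (hnorm g hg), hHΩ hg⟩) ?_,
    lt_of_le_of_ne inf_le_right ?_⟩
  · intro heq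
    have hcomm : τ * (r1 * r2) = (r1 * r2) * τ := by
      have c1 : τ * r1 * τ⁻¹ = r2 := by rw [CfsgLib.Orth.refl_conj, happτ]
      have hττv : CfsgLib.Orth.app τ tv = v + tv := by
        rw [hτ, hEadd]
      have c2 : τ * r2 * τ⁻¹ = r2 * r1 * r2 := by
        rw [CfsgLib.Orth.refl_conj, hττv]
        conv_rhs => rw [show r2 * r1 * r2 = r2 * r1 * r2⁻¹ by rw [CfsgLib.Orth.refl_inv], CfsgLib.Orth.refl_conj]
        congr 1
        rw [CfsgLib.Orth.app_refl, hqtv, hp12, inv_one, one_mul, one_smul, sub_eq_add_neg]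
        congr 1
        calc tv = (1 : F) • tv := (one_smul F tv).symm
          _ = (-1 : F) • tv := by rw [show (-1 : F) = 1 by linear_combination -h11]
          _ = -tv := neg_one_smul F tv
      calc τ * (r1 * r2) = (τ * r1 * τ⁻¹) * (τ * r2 * τ⁻¹) * τ := by group
        _ = r2 * (r2 * r1 * r2) * τ := by rw [c1, c2]
        _ = (r1 * r2) * τ := by rw [← mul_assoc r2, ← mul_assoc r2, CfsgLib.Orth.refl_mul_self, one_mul]
    have hmem : ((r1 * r2 : CfsgLib.Orth.O q) : GL (Fin n) F) ∈ H := by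
      rw [heq]
      exact ⟨memM _ (Or.inl (by rw [← Subgroup.coe_mul, ← Subgroup.coe_mul, hcomm])),
        refl_mul_refl_omega hq hqv hqtv hp12⟩
    obtain ⟨a, b, hab⟩ := hfac _ hmem
    have hval : ∀ y, CfsgLib.Orth.app (r1 * r2) y =
        ((r1 * r2 : CfsgLib.Orth.O q) : GL (Fin n) F).val *ᵥ y := fun y => rfl
    have hfixw : CfsgLib.Orth.app (r1 * r2) (E w 0) = E w 0 := by
      have o2 : polar q (E w 0) tv = 0 := by rw [hpE, map_add, hwp, hwr, map_zero]; ring
      have o1 : polar q (E w 0) v = 0 := by rw [hpE, hwr, map_zero]; ring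
      rw [CfsgLib.Orth.app_mul, CfsgLib.Orth.app_refl_of_ortho o2, CfsgLib.Orth.app_refl_of_ortho o1]
    have hx : E p 0 = T (CfsgLib.Maximal.TensorTools.pure ![1, 0] p) := by rw [hpure]; simp
    have hy : E w 0 = T (CfsgLib.Maximal.TensorTools.pure ![1, 0] w) := by rw [hpure]; simp
    set a' := (a : Matrix (Fin 2) (Fin 2) F) *ᵥ ![1, 0]
    have ha1 : a' 1 = 0 := by
      have h := hfixw
      rw [hval, hy, hab, hpure, hpure] at h
      have h1 := (hEinj h).2
      have h0 := (hEinj h).1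
      simp only [Matrix.cons_val_zero, Matrix.cons_val_one, one_smul, zero_smul] at h0 h1
      rcases smul_eq_zero.1 h1 with h' | h'
      · exact h'
      · exact absurd (by rw [← h0, h', smul_zero]) hw
    have hp : CfsgLib.Orth.app (r1 * r2) (E p 0) = E (p + r) (p + r) := by
      rw [CfsgLib.Orth.app_mul]
      have e1 : CfsgLib.Orth.app r2 (E p 0) = E (p + r) (p + r) := by
        rw [CfsgLib.Orth.app_refl, hqtv, hpE, map_add, hpr, halt, map_zero, inv_one,
          show (1 : F) * (0 + 1 + 0) = -1 by linear_combination h11, neg_one_smul, sub_neg_eq_add, hEadd, zero_add]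
      rw [e1]
      exact CfsgLib.Orth.app_refl_of_ortho (by
        rw [hpE]; simp only [map_add, LinearMap.add_apply, halt, hpr, hrp]; linear_combination h11)
    rw [hval, hx, hab, hpure, show ((a : Matrix (Fin 2) (Fin 2) F) *ᵥ ![1, 0]) 1 = 0 from ha1, zero_smul] at hp
    have h := (hEinj hp).2
    have : B (0 : Fin n₂ → F) r = B (p + r) r := by rw [h]
    rw [map_add, LinearMap.add_apply, hpr, halt, map_zero, LinearMap.zero_apply, add_zero] at this
    exact zero_ne_one this
  · intro heq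
    set u := E (r + z) (p + r)
    have hrz : B r z = 0 := by rw [hsym, hzr]
    have hqu : q u = 1 := by
      rw [hqE]; simp only [map_add, LinearMap.add_apply, halt, hrp, hzp, hzr]; ring
    have hvu : polar q v u = 1 := by
      rw [hpE]; simp only [map_add, LinearMap.add_apply, halt, hpr, hzr]; ring
    set g : CfsgLib.Orth.O q := r1 * CfsgLib.Orth.refl q u
    have hg : (g : GL (Fin n) F) ∈ M := (heq.ge (refl_mul_refl_omega hq hqv hqu hvu)).1
    set x := E w 0
    set tx := E 0 w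
    have htx : CfsgLib.Orth.app τ x = tx := by rw [hτ, add_zero]
    have hxv : polar q x v = 0 := by rw [hpE, hwr, map_zero]; ring
    have hxu : polar q x u = 0 := by rw [hpE, map_add, hwp, hwr, map_zero]; ring
    have htxu : polar q tx u = 1 := by
      rw [hpE]; simp only [map_add, LinearMap.add_apply, hsym r w, hwr, hsym z w, hwz, map_zero, LinearMap.zero_apply]; ring
    have hgx : CfsgLib.Orth.app g x = x := by
      rw [CfsgLib.Orth.app_mul, CfsgLib.Orth.app_refl_of_ortho hxu, CfsgLib.Orth.app_refl_of_ortho hxv]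
    have hgtx : CfsgLib.Orth.app g tx = tx + u + v := by
      rw [CfsgLib.Orth.app_mul]
      have e1 : CfsgLib.Orth.app (CfsgLib.Orth.refl q u) tx = tx + u := by
        rw [CfsgLib.Orth.app_refl, hqu, htxu, inv_one, one_mul, show (1 : F) = -1 by linear_combination h11,
          neg_one_smul, sub_neg_eq_add]
      have htxv : polar q (tx + u) v = 1 := by
        rw [polar_add_left, polar_comm (f := ⇑q) u v, hvu, hpE, hsym p w, hwp, map_zero, LinearMap.zero_apply]; ring
      rw [e1, CfsgLib.Orth.app_refl, hqv, htxv, inv_one, one_mul, show (1 : F) = -1 by linear_combination h11,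
        neg_one_smul, sub_neg_eq_add]
    have hconj : (g : GL (Fin n) F) * τ * (g : GL (Fin n) F)⁻¹ = τ ∨
        (g : GL (Fin n) F) * τ * (g : GL (Fin n) F)⁻¹ = (τ : GL (Fin n) F)⁻¹ := by
      have h := (Subgroup.mem_set_normalizer_iff.1 hg (τ : GL (Fin n) F)).1 (Set.mem_insert _ _)
      simpa using h
    have hginv : CfsgLib.Orth.app g⁻¹ x = x := by
      conv_lhs => rw [← hgx]
      exact CfsgLib.Orth.app_inv_app g x
    have happ : CfsgLib.Orth.app (g * τ * g⁻¹) x = tx + u + v := by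
      rw [CfsgLib.Orth.app_mul, CfsgLib.Orth.app_mul, hginv, htx, hgtx]
    rcases hconj with h | h
    · have h' : g * τ * g⁻¹ = τ := Subtype.ext (by simpa using h)
      rw [h', htx, add_assoc, eq_comm, add_eq_left] at happ
      have := congrArg (fun y => polar q y v) happ
      simp only [polar_add_left, polar_zero_left] at this
      rw [polar_comm (f := ⇑q) u v, hvu, CfsgLib.Orth.polar_self', hqv] at this
      exact one_ne_zero (α := F) (by linear_combination this - h11)
    · have h' : g * τ * g⁻¹ = τ⁻¹ := Subtype.ext (by simpa using h)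
      have hinv : CfsgLib.Orth.app τ⁻¹ x = x + tx := by
        apply CfsgLib.Orth.app_injective τ
        rw [CfsgLib.Orth.app_app_inv, map_add, htx, hτ 0 w, hEadd, zero_add]
        show E w 0 = E w (w + w)
        congr 1
        funext j
        show (0 : F) = w j + w j
        linear_combination -(w j) * h11
      rw [h', hinv, add_assoc tx, add_comm x tx, add_right_inj] at happ
      have := congrArg (fun y => polar q y u) happ
      simp only [polar_add_left, hxu, CfsgLib.Orth.polar_self', hqu, hvu] at this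
      exact one_ne_zero (α := F) (by linear_combination -this - h11)

end

/-- Let F be the field with 2 elements, n = 2 n₂ ≥ 13 even, Q a non-degenerate quadratic form on F^n of plus type and Ω the commutator subgroup of its isometry group. Suppose that, through P and e, the polar form of Q is similar to the tensor product of non-degenerate symplectic forms f₁ on F^2 and f₂ on F^(n₂), and Q vanishes on the images of all pure tensors. Then the elements of Ω in the stabiliser of this tensor decomposition form a subgroup that is not maximal: some subgroup lies strictly between it and Ω. -/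
theorem result {F : Type*} [Field F] [Fintype F] {n : ℕ} (hn : 13 ≤ n) (heven : Even n) (Q : (Fin n → F) → F) (hQ : Cfsg.Geo.IsNondegenerateQuadraticForm Q) (hplus : Cfsg.Geo.IsPlusTypeOn Q ⊤) (hq : Fintype.card F = 2) (n₂ : ℕ) (h2 : 2 < n₂) (e : (Fin n) ≃ Fin 2 × Fin n₂) (P : Matrix.GeneralLinearGroup (Fin n) F) (f₁ : (Fin 2 → F) → (Fin 2 → F) → F) (f₂ : (Fin n₂ → F) → (Fin n₂ → F) → F) (hf₁ : Cfsg.Geo.IsSymplecticForm f₁) (hf₂ : Cfsg.Geo.IsSymplecticForm f₂) (hT : Cfsg.Geo.IsTensorFormStructure id (QuadraticMap.polar Q) f₁ f₂ e P) (hpure : (∀ (x₁ : Fin 2 → F) (x₂ : Fin n₂ → F), Q (Matrix.mulVec (P : Matrix (Fin n) (Fin n) F) ((fun a : Fin 2 × Fin n₂ => x₁ a.1 * x₂ a.2) ∘ e)) = 0)) : ∃ K : Subgroup (Matrix.GeneralLinearGroup (Fin n) F), Cfsg.Geo.tensorProductSubgroup 2 n₂ e P ⊓ Cfsg.Geo.omegaGL Q < K ∧ K < Cfsg.Geo.omegaGL Q := by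
  obtain ⟨c, hc, hform⟩ := tensor_form_pure hf₁.bilinear hf₂.bilinear hT
  have hc1 : c = 1 := (zero_or_one hq c).resolve_left hc
  subst hc1
  let q := quadOf hQ
  let B : LinearMap.BilinForm F (Fin n₂ → F) := LinearMap.mk₂ F f₂ hf₂.bilinear.add_left
    (fun c x y => by rw [hf₂.bilinear.smul_left, smul_eq_mul]) (fun x y z => hf₂.bilinear.add_right x y z)
    (fun c x y => by rw [hf₂.bilinear.smul_right, smul_eq_mul])
  have hB : ∀ x y, B x y = f₂ x y := fun x y => rfl
  have hneg : ∀ a : F, -a = a := fun a => by linear_combination -a * one_add_one hq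
  have hsym : ∀ x y, B x y = B y x := fun x y => by rw [hB, hB, hf₂.skew, hneg]
  have halt : ∀ x, B x x = 0 := hf₂.alternating
  let a₀ : Fin 2 → F := ![1, 0]
  let a₁ : Fin 2 → F := ![0, 1]
  have h01 : f₁ a₀ a₁ = 1 := by
    refine (zero_or_one hq _).resolve_left fun h => ?_
    obtain ⟨-, x, hx⟩ := hf₁.nondegenerate a₀ (fun h => one_ne_zero (congrFun h 0 : (1 : F) = 0))
    apply hx
    rw [show x = x 0 • a₀ + x 1 • a₁ by funext i; fin_cases i <;> simp [a₀, a₁],
      hf₁.bilinear.add_right, hf₁.bilinear.smul_right, hf₁.bilinear.smul_right, h, hf₁.alternating]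
    ring
  have h10 : f₁ a₁ a₀ = 1 := by rw [hf₁.skew, h01, hneg]
  let E : (Fin n₂ → F) → (Fin n₂ → F) → (Fin n → F) := fun x₀ x₁ =>
    coord e P (fun a => if a.1 = 0 then x₀ a.2 else x₁ a.2)
  have hE2 : ∀ x₀ x₁, E x₀ x₁ = coord e P (CfsgLib.Maximal.TensorTools.pure a₀ x₀) +
      coord e P (CfsgLib.Maximal.TensorTools.pure a₁ x₁) := fun x₀ x₁ => by
    show coord e P _ = _
    rw [← map_add]
    congr 1
    funext ⟨i, j⟩
    fin_cases i <;> simp [CfsgLib.Maximal.TensorTools.pure, a₀, a₁]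
  have hq0 : ∀ (u : Fin 2 → F) (x : Fin n₂ → F), q (coord e P (CfsgLib.Maximal.TensorTools.pure u x)) = 0 :=
    fun u x => hpure u x
  have hpol : ∀ u x u' x', polar q (coord e P (CfsgLib.Maximal.TensorTools.pure u x))
      (coord e P (CfsgLib.Maximal.TensorTools.pure u' x')) = f₁ u u' * f₂ x x' := fun u x u' x' =>
    (hform u x u' x').trans (one_mul _)
  have hqE : ∀ x₀ x₁, q (E x₀ x₁) = B x₀ x₁ := fun x₀ x₁ => by
    rw [hE2, QuadraticMap.map_add ⇑q, hq0, hq0, hpol, h01, hB]; ring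
  have hpE : ∀ x₀ x₁ y₀ y₁, polar q (E x₀ x₁) (E y₀ y₁) = B x₀ y₁ + B y₀ x₁ := fun x₀ x₁ y₀ y₁ => by
    rw [hE2, hE2, polar_add_left, polar_add_right, polar_add_right, hpol, hpol, hpol, hpol, h01, h10,
      hf₁.alternating, hf₁.alternating, hsym y₀ x₁, hB, hB]
    ring
  let k : GL (Fin 2 × Fin n₂) F :=
    ⟨((rot hq : GL (Fin 2) F) : Matrix (Fin 2) (Fin 2) F) ⊗ₖ (1 : Matrix (Fin n₂) (Fin n₂) F),
      (((rot hq)⁻¹ : GL (Fin 2) F) : Matrix (Fin 2) (Fin 2) F) ⊗ₖ (1 : Matrix (Fin n₂) (Fin n₂) F),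
      by rw [← Matrix.mul_kronecker_mul, ← Units.val_mul, mul_inv_cancel, Units.val_one, one_mul, Matrix.one_kronecker_one],
      by rw [← Matrix.mul_kronecker_mul, ← Units.val_mul, inv_mul_cancel, Units.val_one, one_mul, Matrix.one_kronecker_one]⟩
  let ψ : GL (Fin 2 × Fin n₂) F →* GL (Fin n) F :=
    (MulAut.conj P).toMonoidHom.comp (Cfsg.Geo.glReindex e.symm).toMonoidHom
  have hψ : ∀ x₀ x₁, ((ψ k : GL (Fin n) F) : Matrix (Fin n) (Fin n) F) *ᵥ E x₀ x₁ = E x₁ (x₀ + x₁) := by
    intro x₀ x₁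
    show ((MulAut.conj P (Cfsg.Geo.glReindex e.symm k) : GL (Fin n) F) : Matrix (Fin n) (Fin n) F) *ᵥ
      coord e P _ = coord e P _
    rw [conj_reindex_mulVec]
    congr 1
    funext ⟨i, j⟩
    fin_cases i <;>
      simp [k, rot, Matrix.mulVec, dotProduct, Fintype.sum_prod_type, Matrix.kroneckerMap_apply, Fin.sum_univ_two,
        Matrix.one_apply]
  have hsurj : ∀ y, ∃ x₀ x₁, y = E x₀ x₁ := fun y => by
    obtain ⟨x, rfl⟩ := (coord e P).surjective y
    refine ⟨fun j => x (0, j), fun j => x (1, j), congrArg _ ?_⟩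
    funext ⟨i, j⟩
    fin_cases i <;> simp
  let τ : CfsgLib.Orth.O q := ⟨ψ k, fun y _ => by
    obtain ⟨x₀, x₁, rfl⟩ := hsurj y
    show q (((ψ k : GL (Fin n) F) : Matrix (Fin n) (Fin n) F) *ᵥ E x₀ x₁) = q (E x₀ x₁)
    rw [hψ, hqE, hqE, map_add, halt, hsym]
    ring⟩
  have h3 : 0 < n₂ := by omega
  obtain ⟨p, hp⟩ : ∃ p : Fin n₂ → F, p ≠ 0 :=
    ⟨fun _ => 1, fun h => one_ne_zero (congrFun h ⟨0, h3⟩ : (1 : F) = 0)⟩
  obtain ⟨-, r, hr⟩ := hf₂.nondegenerate p hp
  have hpr : B p r = 1 := (zero_or_one hq _).resolve_left hr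
  obtain ⟨w, hwker, hw⟩ : ∃ w ∈ LinearMap.ker ((B.flip p).prod (B.flip r)), w ≠ 0 := by
    refine Submodule.exists_mem_ne_zero_of_ne_bot ?_
    apply LinearMap.ker_ne_bot_of_finrank_lt
    rw [Module.finrank_prod, Module.finrank_self, Module.finrank_fin_fun]
    omega
  simp only [LinearMap.mem_ker, LinearMap.prod_apply, Function.prod, Pi.prod, Prod.mk_eq_zero, LinearMap.flip_apply] at hwker
  have hwp : B w p = 0 := hwker.1
  have hwr : B w r = 0 := hwker.2
  obtain ⟨-, z₀, hz₀⟩ := hf₂.nondegenerate w hw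
  have hwz₀ : B w z₀ = 1 := (zero_or_one hq _).resolve_left hz₀
  let z := z₀ + B z₀ r • p + B z₀ p • r
  refine main hq q (coord e P) B E (fun _ _ => rfl) hqE hpE p r w z halt hsym hpr hwp hwr hw ?_ ?_ ?_
    _ inf_le_right τ hψ ?_ ?_
  · simp only [z, map_add, map_smul, smul_eq_mul, hwz₀]
    linear_combination (B z₀ r) * hwp + (B z₀ p) * hwr
  · simp only [z, map_add, map_smul, LinearMap.add_apply, LinearMap.smul_apply, smul_eq_mul, halt, hsym r p, hpr]
    linear_combination (B z₀ p) * one_add_one hq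
  · simp only [z, map_add, map_smul, LinearMap.add_apply, LinearMap.smul_apply, smul_eq_mul, halt, hpr]
    linear_combination (B z₀ r) * one_add_one hq
  · rintro g ⟨hg, -⟩
    obtain ⟨_, ⟨k', ⟨A, C, hk'⟩, rfl⟩, rfl⟩ := hg
    show ψ k' * ψ k = ψ k * ψ k' ∨ ψ k' * ψ k = (ψ k)⁻¹ * ψ k'
    rcases rot_normal hq A with h | h
    · left
      rw [← map_mul, ← map_mul]
      congr 1
      apply Units.ext
      rw [Units.val_mul, Units.val_mul, hk', ← Matrix.mul_kronecker_mul, ← Matrix.mul_kronecker_mul,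
        ← Units.val_mul, ← Units.val_mul, h, mul_one, one_mul]
    · right
      rw [← map_inv, ← map_mul, ← map_mul]
      congr 1
      apply Units.ext
      show (k' : Matrix (Fin 2 × Fin n₂) (Fin 2 × Fin n₂) F) * _ = _ * _
      rw [hk']
      show _ * (_ ⊗ₖ _) = (_ ⊗ₖ _) * _
      rw [← Matrix.mul_kronecker_mul, ← Matrix.mul_kronecker_mul, ← Units.val_mul, ← Units.val_mul, h, mul_one, one_mul]
  · rintro g ⟨hg, -⟩
    exact exists_factors hg

end Cfsg.Agent.S5705
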