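import Cfsg.Statements.S5707
import Cfsg.Agent.Lib.Maximal.WreathCharTwo

set_option autoImplicit false
open Cfsg

namespace Cfsg.Agent.S5707

open Matrix QuadraticMap CfsgLib.Maximal.TensorPower CfsgLib.Maximal.WreathCharTwo

section
variable {F : Type*} [Field F]

/-- change of basis for local data -/
def transport {k t : ℕ} {f g : (Fin k → F) → (Fin k → F) → F} (C : GL (Fin k) F)
    (hC : ∀ u w, f ((C : Matrix (Fin k) (Fin k) F) *ᵥ u) ((C : Matrix (Fin k) (Fin k) F) *ᵥ w) = g u w)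
    (D : Local g t) : Local f t := by
  let φ : Matrix (Fin k) (Fin k) F ≃ₐ[F] Matrix (Fin k) (Fin k) F := MulSemiringAction.toAlgEquiv F _ (ConjAct.toConjAct C)
  have hφ : ∀ x, φ x = (C : Matrix (Fin k) (Fin k) F) * x * ((C⁻¹ : GL (Fin k) F) : Matrix (Fin k) (Fin k) F) :=
    fun x => rfl
  have hC' : ∀ u w, f u w = g (((C⁻¹ : GL (Fin k) F) : Matrix (Fin k) (Fin k) F) *ᵥ u)
      (((C⁻¹ : GL (Fin k) F) : Matrix (Fin k) (Fin k) F) *ᵥ w) := fun u w => by
    rw [← hC, Matrix.mulVec_mulVec, Matrix.mulVec_mulVec, ← Units.val_mul, mul_inv_cancel, Units.val_one,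
      Matrix.one_mulVec, Matrix.one_mulVec]
  have hmv : ∀ x u, ((C⁻¹ : GL (Fin k) F) : Matrix (Fin k) (Fin k) F) *ᵥ (φ x *ᵥ u) =
      x *ᵥ (((C⁻¹ : GL (Fin k) F) : Matrix (Fin k) (Fin k) F) *ᵥ u) := fun x u => by
    rw [hφ, Matrix.mulVec_mulVec, Matrix.mulVec_mulVec, ← mul_assoc, ← mul_assoc, ← Units.val_mul, inv_mul_cancel,
      Units.val_one, one_mul]
  refine
  { L := D.L.map φ.toLinearMap
    sq := ?_, adj := ?_, alt := ?_, inv := ?_, gen := ?_
    x := φ D.x, y := φ D.y
    x_mem := ⟨D.x, D.x_mem, rfl⟩, y_mem := ⟨D.y, D.y_mem, rfl⟩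
    x_sq := by rw [← map_mul, D.x_sq, map_zero]
    y_sq := by rw [← map_mul, D.y_sq, map_zero]
    anti := by rw [← map_mul, ← map_mul, ← map_add, D.anti, map_one]
    u := (C : Matrix (Fin k) (Fin k) F) *ᵥ D.u
    u_ne := ?_, yu := ?_
    u₂ := (C : Matrix (Fin k) (Fin k) F) *ᵥ D.u₂
    xu₂ := ?_ }
  · rintro _ ⟨x, hx, rfl⟩
    obtain ⟨γ, h⟩ := D.sq x hx
    exact ⟨γ, by show φ x * φ x = _; rw [← map_mul, h, map_smul, map_one]⟩
  · rintro _ ⟨x, hx, rfl⟩ u w
    show f (φ x *ᵥ u) w = f u (φ x *ᵥ w)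
    rw [hC', hC' u, hmv, hmv, D.adj x hx]
  · rcases D.alt with h | h
    · refine Or.inl ?_
      rintro _ ⟨x, hx, rfl⟩ v
      show f (φ x *ᵥ v) v = 0
      rw [hC', hmv, h x hx]
    · exact Or.inr h
  · rintro a μ hμ hs _ ⟨x, hx, rfl⟩
    refine ⟨((C⁻¹ * a * C : GL (Fin k) F) : Matrix (Fin k) (Fin k) F) * x *
      (((C⁻¹ * a * C)⁻¹ : GL (Fin k) F) : Matrix (Fin k) (Fin k) F), D.inv _ μ hμ (fun u w => ?_) x hx, ?_⟩
    · rw [← hC, ← hC u w, ← hs, Matrix.mulVec_mulVec, Matrix.mulVec_mulVec, Matrix.mulVec_mulVec,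
        Matrix.mulVec_mulVec, ← Units.val_mul, mul_assoc C⁻¹, mul_inv_cancel_left, Units.val_mul]
    · show φ _ = (a : Matrix (Fin k) (Fin k) F) * φ x * _
      rw [hφ, hφ]
      simp [_root_.mul_inv_rev, mul_assoc]
  · rw [show ((D.L.map φ.toLinearMap : Submodule F (Matrix (Fin k) (Fin k) F)) : Set (Matrix (Fin k) (Fin k) F)) =
      φ.toAlgHom '' (D.L : Set (Matrix (Fin k) (Fin k) F)) from rfl, ← AlgHom.map_adjoin, D.gen, Algebra.map_top,
      AlgHom.range_eq_top]
    exact φ.surjective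
  · intro h
    apply D.u_ne
    have := congrArg (fun v => ((C⁻¹ : GL (Fin k) F) : Matrix (Fin k) (Fin k) F) *ᵥ v) h
    simpa [Matrix.mulVec_mulVec] using this
  · rw [hφ, Matrix.mulVec_mulVec, mul_assoc, ← Units.val_mul, inv_mul_cancel, Units.val_one, mul_one,
      ← Matrix.mulVec_mulVec, D.yu, Matrix.mulVec_zero]
  · intro h
    apply D.xu₂
    have := congrArg (fun v => ((C⁻¹ : GL (Fin k) F) : Matrix (Fin k) (Fin k) F) *ᵥ v) h
    simpa [hφ, Matrix.mulVec_mulVec, ← mul_assoc, ← Units.val_mul] using this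

/-- the standard forms -/
def std2 (u w : Fin 2 → F) : F := u 0 * w 1 + u 1 * w 0
def std4 (u w : Fin 4 → F) : F := u 0 * w 2 + u 2 * w 0 + u 1 * w 3 + u 3 * w 1

lemma single_mem_imp {k : ℕ} (S : Subalgebra F (Matrix (Fin k) (Fin k) F))
    (h : ∀ i j, Matrix.single i j (1 : F) ∈ S) : S = ⊤ := by
  refine eq_top_iff.2 fun a _ => ?_
  rw [Matrix.matrix_eq_sum_single a]
  refine sum_mem fun i _ => sum_mem fun j _ => ?_
  rw [show Matrix.single i j (a i j) = a i j • Matrix.single i j (1 : F) by rw [Matrix.smul_single, smul_eq_mul, mul_one]]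
  exact S.smul_mem (h i j) _

def local2 {t : ℕ} (h11 : (1 : F) + 1 = 0) (ht : 3 ≤ t) : Local (std2 (F := F)) t where
  L := LinearMap.ker (Matrix.traceLinearMap (Fin 2) F F)
  sq x hx := by
    have h : x 0 0 + x 1 1 = 0 := by rw [← Matrix.trace_fin_two]; exact hx
    refine ⟨x 0 0 * x 0 0 + x 0 1 * x 1 0, ?_⟩
    ext i j
    fin_cases i <;> fin_cases j <;> simp [Matrix.mul_apply, Fin.sum_univ_two]
    · linear_combination (x 0 1) * h
    · linear_combination (x 1 0) * h
    · linear_combination (x 1 1 - x 0 0) * h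
  adj x hx u w := by
    have h : x 0 0 + x 1 1 = 0 := by rw [← Matrix.trace_fin_two]; exact hx
    simp only [std2, Matrix.mulVec, dotProduct, Fin.sum_univ_two]
    linear_combination (u 0 * w 1 - u 1 * w 0) * h + (u 1 * w 0 * x 1 1 - u 0 * w 1 * x 1 1) * h11
  alt := Or.inr ht
  inv a μ _ _ x hx := by
    rw [LinearMap.mem_ker, Matrix.traceLinearMap_apply]
    rw [Matrix.trace_mul_cycle, ← Units.val_mul, inv_mul_cancel, Units.val_one, one_mul]
    exact hx
  gen := by
    set S := Algebra.adjoin F ((LinearMap.ker (Matrix.traceLinearMap (Fin 2) F F) :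
      Submodule F (Matrix (Fin 2) (Fin 2) F)) : Set (Matrix (Fin 2) (Fin 2) F))
    have h1 : Matrix.single 0 1 (1 : F) ∈ S := Algebra.subset_adjoin (by simp [Matrix.trace_fin_two])
    have h2 : Matrix.single 1 0 (1 : F) ∈ S := Algebra.subset_adjoin (by simp [Matrix.trace_fin_two])
    refine single_mem_imp S fun i j => ?_
    fin_cases i <;> fin_cases j
    · simpa using S.mul_mem h1 h2
    · exact h1
    · exact h2
    · simpa using S.mul_mem h2 h1
  x := Matrix.single 0 1 1
  y := Matrix.single 1 0 1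
  x_mem := by simp [Matrix.trace_fin_two]
  y_mem := by simp [Matrix.trace_fin_two]
  x_sq := by simp
  y_sq := by simp
  anti := by ext i j; fin_cases i <;> fin_cases j <;> simp
  u := Pi.single 1 1
  u_ne := by simp
  yu := by funext i; fin_cases i <;> simp
  u₂ := Pi.single 1 1
  xu₂ := fun h => by simpa using congrFun h 0

/-- the five-parameter space for the standard form in dimension four -/
def param (a b c p s : F) : Matrix (Fin 4) (Fin 4) F :=
  !![a, c, 0, s; b, a, s, 0; 0, p, a, b; p, 0, c, a]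

def paramLin : (Fin 5 → F) →ₗ[F] Matrix (Fin 4) (Fin 4) F where
  toFun v := param (v 0) (v 1) (v 2) (v 3) (v 4)
  map_add' v w := by ext i j; fin_cases i <;> fin_cases j <;> simp [param]
  map_smul' r v := by ext i j; fin_cases i <;> fin_cases j <;> simp [param]

lemma param_alt (h11 : (1 : F) + 1 = 0) (v : Fin 5 → F) (u : Fin 4 → F) : std4 (paramLin v *ᵥ u) u = 0 := by
  simp [std4, paramLin, param, Matrix.mulVec, dotProduct, Fin.sum_univ_four]
  linear_combination (v 0 * (u 0 * u 2 + u 1 * u 3) + v 1 * (u 0 * u 3) + v 2 * (u 1 * u 2) + v 3 * (u 0 * u 1)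
    + v 4 * (u 2 * u 3)) * h11

lemma param_sq (h11 : (1 : F) + 1 = 0) (v : Fin 5 → F) :
    paramLin v * paramLin v = (v 0 * v 0 + v 1 * v 2 + v 3 * v 4) • (1 : Matrix (Fin 4) (Fin 4) F) := by
  ext i j
  fin_cases i <;> fin_cases j <;> simp [paramLin, param, Matrix.mul_apply, Fin.sum_univ_four]
  all_goals first
    | ring1
    | linear_combination (v 0 * v 1) * h11
    | linear_combination (v 0 * v 2) * h11
    | linear_combination (v 0 * v 3) * h11
    | linear_combination (v 0 * v 4) * h11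
    | linear_combination (v 1 * v 3) * h11
    | linear_combination (v 2 * v 3) * h11
    | linear_combination (v 1 * v 4) * h11
    | linear_combination (v 2 * v 4) * h11

lemma mem_param (h11 : (1 : F) + 1 = 0) {x : Matrix (Fin 4) (Fin 4) F} (halt : ∀ v, std4 (x *ᵥ v) v = 0)
    (hsq : ∃ γ : F, x * x = γ • 1) : x ∈ LinearMap.range (paramLin (F := F)) := by
  have e : ∀ i, std4 (x *ᵥ Pi.single i (1 : F)) (Pi.single i 1) = 0 := fun i => halt _
  have e2 : ∀ i j, std4 (x *ᵥ (Pi.single i (1 : F) + Pi.single j 1)) (Pi.single i 1 + Pi.single j 1) = 0 :=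
    fun i j => halt _
  have a0 : x 2 0 = 0 := by simpa [std4] using e 0
  have a1 : x 3 1 = 0 := by simpa [std4] using e 1
  have a2 : x 0 2 = 0 := by simpa [std4] using e 2
  have a3 : x 1 3 = 0 := by simpa [std4] using e 3
  have b01 : x 3 0 + x 2 1 = 0 := by simpa [std4, Matrix.mulVec_add, a0, a1, add_comm] using e2 0 1
  have b02 : x 0 0 + x 2 2 = 0 := by simpa [std4, Matrix.mulVec_add, a0, a2, add_comm] using e2 0 2
  have b03 : x 1 0 + x 2 3 = 0 := by simpa [std4, Matrix.mulVec_add, a0, a3, add_comm] using e2 0 3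
  have b12 : x 0 1 + x 3 2 = 0 := by simpa [std4, Matrix.mulVec_add, a1, a2, add_comm] using e2 1 2
  have b13 : x 1 1 + x 3 3 = 0 := by simpa [std4, Matrix.mulVec_add, a1, a3, add_comm] using e2 1 3
  have b23 : x 0 3 + x 1 2 = 0 := by simpa [std4, Matrix.mulVec_add, a2, a3, add_comm] using e2 2 3
  obtain ⟨γ, hγ⟩ := hsq
  have h00 := congrFun (congrFun hγ 0) 0
  have h11' := congrFun (congrFun hγ 1) 1
  simp [Matrix.mul_apply, Fin.sum_univ_four, a0, a2] at h00
  simp [Matrix.mul_apply, Fin.sum_univ_four, a1, a3] at h11'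
  have hdd : (x 0 0 - x 1 1) ^ 2 = 0 := by
    linear_combination h00 - h11' - (x 3 0) * b23 + (x 1 2) * b01 + (x 1 1 ^ 2 - x 0 0 * x 1 1) * h11
  have hd := pow_eq_zero_iff (n := 2) (by norm_num) |>.1 hdd
  refine ⟨![x 0 0, x 1 0, x 0 1, x 3 0, x 0 3], ?_⟩
  ext i j
  fin_cases i <;> fin_cases j <;> simp [paramLin, param, a0, a1, a2, a3]
  all_goals first
    | linear_combination hd
    | linear_combination b01 - (x 2 1) * h11
    | linear_combination b02 - (x 2 2) * h11
    | linear_combination b03 - (x 2 3) * h11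
    | linear_combination b12 - (x 3 2) * h11
    | linear_combination b13 - (x 3 3) * h11 + hd
    | linear_combination b23 - (x 1 2) * h11

def local4 {t : ℕ} (h11 : (1 : F) + 1 = 0) : Local (std4 (F := F)) t where
  L := LinearMap.range paramLin
  sq := by rintro _ ⟨v, rfl⟩; exact ⟨_, param_sq h11 v⟩
  adj := by
    rintro _ ⟨v, rfl⟩ u w
    have hu := param_alt h11 v u
    have hw := param_alt h11 v w
    have huw := param_alt h11 v (u + w)
    simp only [std4, Matrix.mulVec_add, Pi.add_apply] at hu hw huw ⊢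
    linear_combination huw - hu - hw - ((paramLin v *ᵥ w) 0 * u 2 + (paramLin v *ᵥ w) 2 * u 0 +
      (paramLin v *ᵥ w) 1 * u 3 + (paramLin v *ᵥ w) 3 * u 1) * h11
  alt := Or.inl (by rintro _ ⟨v, rfl⟩ u; exact param_alt h11 v u)
  inv a μ hμ hs x hx := by
    obtain ⟨v, rfl⟩ := hx
    refine mem_param h11 (fun w => ?_) ⟨v 0 * v 0 + v 1 * v 2 + v 3 * v 4, ?_⟩
    · set w' := ((a⁻¹ : GL (Fin 4) F) : Matrix (Fin 4) (Fin 4) F) *ᵥ w
      have hw : w = (a : Matrix (Fin 4) (Fin 4) F) *ᵥ w' := by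
        rw [Matrix.mulVec_mulVec, ← Units.val_mul, mul_inv_cancel, Units.val_one, Matrix.one_mulVec]
      rw [← Matrix.mulVec_mulVec, ← Matrix.mulVec_mulVec]
      show std4 ((a : Matrix (Fin 4) (Fin 4) F) *ᵥ (paramLin v *ᵥ w')) w = 0
      rw [hw, hs, param_alt h11, mul_zero]
    · calc (a : Matrix (Fin 4) (Fin 4) F) * paramLin v * _ * ((a : Matrix (Fin 4) (Fin 4) F) * paramLin v * _)
          = (a : Matrix (Fin 4) (Fin 4) F) * (paramLin v * paramLin v) *
            ((a⁻¹ : GL (Fin 4) F) : Matrix (Fin 4) (Fin 4) F) := by simp [mul_assoc]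
        _ = (v 0 * v 0 + v 1 * v 2 + v 3 * v 4) • 1 := by rw [param_sq h11]; simp
  gen := by
    set S := Algebra.adjoin F ((LinearMap.range (paramLin (F := F)) :
      Submodule F (Matrix (Fin 4) (Fin 4) F)) : Set (Matrix (Fin 4) (Fin 4) F))
    have hg : ∀ v, paramLin v ∈ S := fun v => Algebra.subset_adjoin ⟨v, rfl⟩
    have hX := hg ![0, 0, 0, 0, 1]
    have hY := hg ![0, 0, 0, 1, 0]
    have hA := S.mul_mem hX hY
    have hB := S.mul_mem hY hX
    have hb := hg ![0, 1, 0, 0, 0]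
    have hc := hg ![0, 0, 1, 0, 0]
    have e10 : Matrix.single 1 0 (1 : F) ∈ S := by
      convert S.mul_mem hA hb using 1
      ext i j; fin_cases i <;> fin_cases j <;> simp [paramLin, param, Matrix.mul_apply, Fin.sum_univ_four]
    have e01 : Matrix.single 0 1 (1 : F) ∈ S := by
      convert S.mul_mem hA hc using 1
      ext i j; fin_cases i <;> fin_cases j <;> simp [paramLin, param, Matrix.mul_apply, Fin.sum_univ_four]
    have e23 : Matrix.single 2 3 (1 : F) ∈ S := by
      convert S.mul_mem hB hb using 1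
      ext i j; fin_cases i <;> fin_cases j <;> simp [paramLin, param, Matrix.mul_apply, Fin.sum_univ_four]
    have e32 : Matrix.single 3 2 (1 : F) ∈ S := by
      convert S.mul_mem hB hc using 1
      ext i j; fin_cases i <;> fin_cases j <;> simp [paramLin, param, Matrix.mul_apply, Fin.sum_univ_four]
    have e00 : Matrix.single 0 0 (1 : F) ∈ S := by simpa using S.mul_mem e01 e10
    have e11 : Matrix.single 1 1 (1 : F) ∈ S := by simpa using S.mul_mem e10 e01
    have e22 : Matrix.single 2 2 (1 : F) ∈ S := by simpa using S.mul_mem e23 e32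
    have e33 : Matrix.single 3 3 (1 : F) ∈ S := by simpa using S.mul_mem e32 e23
    have e03 : Matrix.single 0 3 (1 : F) ∈ S := by
      convert S.mul_mem e00 hX using 1
      ext i j; fin_cases i <;> fin_cases j <;> simp [paramLin, param, Matrix.mul_apply, Fin.sum_univ_four]
    have e12 : Matrix.single 1 2 (1 : F) ∈ S := by
      convert S.mul_mem e11 hX using 1
      ext i j; fin_cases i <;> fin_cases j <;> simp [paramLin, param, Matrix.mul_apply, Fin.sum_univ_four]
    have e21 : Matrix.single 2 1 (1 : F) ∈ S := by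
      convert S.mul_mem e22 hY using 1
      ext i j; fin_cases i <;> fin_cases j <;> simp [paramLin, param, Matrix.mul_apply, Fin.sum_univ_four]
    have e30 : Matrix.single 3 0 (1 : F) ∈ S := by
      convert S.mul_mem e33 hY using 1
      ext i j; fin_cases i <;> fin_cases j <;> simp [paramLin, param, Matrix.mul_apply, Fin.sum_univ_four]
    have e02 : Matrix.single 0 2 (1 : F) ∈ S := by simpa using S.mul_mem e03 e32
    have e13 : Matrix.single 1 3 (1 : F) ∈ S := by simpa using S.mul_mem e12 e23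
    have e20 : Matrix.single 2 0 (1 : F) ∈ S := by simpa using S.mul_mem e21 e10
    have e31 : Matrix.single 3 1 (1 : F) ∈ S := by simpa using S.mul_mem e30 e01
    refine single_mem_imp S fun i j => ?_
    fin_cases i <;> fin_cases j <;> assumption
  x := paramLin ![0, 0, 0, 0, 1]
  y := paramLin ![0, 0, 0, 1, 0]
  x_mem := ⟨_, rfl⟩
  y_mem := ⟨_, rfl⟩
  x_sq := by rw [param_sq h11]; simp
  y_sq := by rw [param_sq h11]; simp
  anti := by ext i j; fin_cases i <;> fin_cases j <;> simp [paramLin, param, Matrix.mul_apply, Fin.sum_univ_four]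
  u := Pi.single 2 1
  u_ne := by simp
  yu := by funext i; fin_cases i <;> simp [paramLin, param]
  u₂ := Pi.single 2 1
  xu₂ := fun h => by simpa [paramLin, param] using congrFun h 1

lemma frame_matrix {k : ℕ} {f g : (Fin k → F) → (Fin k → F) → F} (hf : Cfsg.Geo.IsBilinearForm f)
    (hg : Cfsg.Geo.IsBilinearForm g) (hgn : Cfsg.Geo.IsNondegenerateForm g) (v : Fin k → Fin k → F)
    (hv : ∀ i j, f (v i) (v j) = g (Pi.single i 1) (Pi.single j 1)) :
    ∃ C : GL (Fin k) F, ∀ u w, f ((C : Matrix (Fin k) (Fin k) F) *ᵥ u) ((C : Matrix (Fin k) (Fin k) F) *ᵥ w) = g u w := by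
  set M : Matrix (Fin k) (Fin k) F := (Matrix.of v)ᵀ
  let f' : (Fin k → F) → (Fin k → F) → F := fun u w => f (M *ᵥ u) (M *ᵥ w)
  have hf' : Cfsg.Geo.IsBilinearForm f' :=
    ⟨fun x y z => by simp only [f', Matrix.mulVec_add, hf.add_left],
      fun c x y => by simp only [f', Matrix.mulVec_smul, hf.smul_left],
      fun x y z => by simp only [f', Matrix.mulVec_add, hf.add_right],
      fun c x y => by simp only [f', Matrix.mulVec_smul, hf.smul_right]⟩
  have heq : ∀ u w, f' u w = g u w := by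
    intro u w
    have hcol : ∀ i, M *ᵥ Pi.single i (1 : F) = v i := fun i => by funext j; simp [M]
    rw [CfsgLib.Maximal.TensorTools.bilinear_expand hf', CfsgLib.Maximal.TensorTools.bilinear_expand hg]
    refine Finset.sum_congr rfl fun a _ => Finset.sum_congr rfl fun b _ => ?_
    simp only [Cfsg.Geo.gramMatrix, f', hcol, hv]
  have hinj : Function.Injective M.mulVec := by
    intro a b hab
    by_contra hne
    obtain ⟨-, w, hw⟩ := hgn (a - b) (sub_ne_zero.2 hne)
    apply hw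
    rw [← heq]
    show f (M *ᵥ (a - b)) _ = 0
    rw [Matrix.mulVec_sub, hab, sub_self]
    simpa using hf.smul_left 0 0 _
  exact ⟨(Matrix.mulVec_injective_iff_isUnit.1 hinj).unit, heq⟩

lemma exists_pair {k : ℕ} {f : (Fin k → F) → (Fin k → F) → F} (hf : Cfsg.Geo.IsSymplecticForm f) {v : Fin k → F}
    (hv : v ≠ 0) : ∃ w, f v w = 1 := by
  obtain ⟨-, w, hw⟩ := hf.nondegenerate v hv
  exact ⟨(f v w)⁻¹ • w, by rw [hf.bilinear.smul_right, inv_mul_cancel₀ hw]⟩

lemma exists_local {k t : ℕ} {f : (Fin k → F) → (Fin k → F) → F} (hf : Cfsg.Geo.IsSymplecticForm f)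
    (h11 : (1 : F) + 1 = 0) (hk : k ≤ 4) (hkt : 13 ≤ k ^ t) (ht : 2 ≤ t) :
    Nonempty (Local f t) ∧ ∃ u w, f u w = 1 := by
  have hsym : ∀ v w, f v w = f w v := fun v w => by rw [hf.skew]; linear_combination -(f w v) * h11
  have hk2 : 2 ≤ k := by
    by_contra h
    interval_cases k <;> simp [zero_pow (show t ≠ 0 by omega)] at hkt
  let v₀ : Fin k → F := fun _ => 1
  have hv₀ : v₀ ≠ 0 := fun h => one_ne_zero (congrFun h ⟨0, by omega⟩ : (1 : F) = 0)
  obtain ⟨w₀, h01⟩ := exists_pair hf hv₀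
  have h10 : f w₀ v₀ = 1 := by rw [hsym, h01]
  refine ⟨?_, v₀, w₀, h01⟩
  interval_cases k
  · have ht' : 3 ≤ t := by
      by_contra h
      interval_cases t
      norm_num at hkt
    have hb : Cfsg.Geo.IsBilinearForm (std2 (F := F)) :=
      ⟨fun x y z => by simp only [std2, Pi.add_apply]; ring, fun c x y => by simp only [std2, Pi.smul_apply, smul_eq_mul]; ring,
        fun x y z => by simp only [std2, Pi.add_apply]; ring, fun c x y => by simp only [std2, Pi.smul_apply, smul_eq_mul]; ring⟩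
    have hn : Cfsg.Geo.IsNondegenerateForm (std2 (F := F)) := by
      intro x hx
      obtain ⟨i, hi⟩ := Function.ne_iff.1 hx
      fin_cases i
      · exact ⟨⟨Pi.single 1 1, by simpa [std2] using hi⟩, ⟨Pi.single 1 1, by simpa [std2] using hi⟩⟩
      · exact ⟨⟨Pi.single 0 1, by simpa [std2] using hi⟩, ⟨Pi.single 0 1, by simpa [std2] using hi⟩⟩
    obtain ⟨C, hC⟩ := frame_matrix hf.bilinear hb hn ![v₀, w₀] fun i j => by
      fin_cases i <;> fin_cases j <;> simp [std2, hf.alternating, h01, h10]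
    exact ⟨transport C hC (local2 h11 ht')⟩
  · -- no symplectic form in dimension three
    exfalso
    obtain ⟨G, hG⟩ : ∃ G, G = Cfsg.Geo.gramMatrix f := ⟨_, rfl⟩
    have hzero : ∀ i, G i i = 0 := fun i => hG ▸ hf.alternating _
    have hGs : ∀ i j, G i j = G j i := fun i j => hG ▸ hsym _ _
    set v : Fin 3 → F := ![G 1 2, G 2 0, G 0 1]
    have hv : v = 0 := by
      by_contra hne
      obtain ⟨⟨x, hx⟩, -⟩ := hf.nondegenerate v hne
      apply hx
      rw [CfsgLib.Maximal.TensorTools.bilinear_expand hf.bilinear, ← hG]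
      simp [Fin.sum_univ_three, v, hzero, hGs 1 0, hGs 2 1, hGs 0 2]
      linear_combination (x 0 * G 0 1 * G 2 0 + x 1 * G 1 2 * G 0 1 + x 2 * G 2 0 * G 1 2) * h11
    have a := congrFun hv 0
    have b := congrFun hv 1
    have c := congrFun hv 2
    simp [v] at a b c
    rw [CfsgLib.Maximal.TensorTools.bilinear_expand hf.bilinear, ← hG] at h01
    simp [Fin.sum_univ_three, hzero, hGs 1 0, hGs 2 1, hGs 0 2, a, b, c] at h01
  · let B : LinearMap.BilinForm F (Fin 4 → F) := LinearMap.mk₂ F f hf.bilinear.add_left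
      (fun c x y => by rw [hf.bilinear.smul_left, smul_eq_mul]) (fun x y z => hf.bilinear.add_right x y z)
      (fun c x y => by rw [hf.bilinear.smul_right, smul_eq_mul])
    obtain ⟨u, hu, hu0⟩ : ∃ u ∈ LinearMap.ker ((B v₀).prod (B w₀)), u ≠ 0 := by
      refine Submodule.exists_mem_ne_zero_of_ne_bot (LinearMap.ker_ne_bot_of_finrank_lt ?_)
      rw [Module.finrank_prod, Module.finrank_self, Module.finrank_fin_fun]
      omega
    have hu1 : f v₀ u = 0 := congrArg Prod.fst (LinearMap.mem_ker.1 hu)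
    have hu2 : f w₀ u = 0 := congrArg Prod.snd (LinearMap.mem_ker.1 hu)
    obtain ⟨z, hz⟩ := exists_pair hf hu0
    set z' := z + f w₀ z • v₀ + f v₀ z • w₀
    have z1 : f v₀ z' = 0 := by
      simp only [z', hf.bilinear.add_right, hf.bilinear.smul_right, hf.alternating, h01]
      linear_combination (f v₀ z) * h11
    have z2 : f w₀ z' = 0 := by
      simp only [z', hf.bilinear.add_right, hf.bilinear.smul_right, hf.alternating, h10]
      linear_combination (f w₀ z) * h11
    have z3 : f u z' = 1 := by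
      simp only [z', hf.bilinear.add_right, hf.bilinear.smul_right, hsym u v₀, hsym u w₀, hu1, hu2, hz]
      ring
    have hb : Cfsg.Geo.IsBilinearForm (std4 (F := F)) :=
      ⟨fun x y z => by simp only [std4, Pi.add_apply]; ring, fun c x y => by simp only [std4, Pi.smul_apply, smul_eq_mul]; ring,
        fun x y z => by simp only [std4, Pi.add_apply]; ring, fun c x y => by simp only [std4, Pi.smul_apply, smul_eq_mul]; ring⟩
    have hn : Cfsg.Geo.IsNondegenerateForm (std4 (F := F)) := by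
      intro x hx
      obtain ⟨i, hi⟩ := Function.ne_iff.1 hx
      fin_cases i
      · exact ⟨⟨Pi.single 2 1, by simpa [std4] using hi⟩, ⟨Pi.single 2 1, by simpa [std4] using hi⟩⟩
      · exact ⟨⟨Pi.single 3 1, by simpa [std4] using hi⟩, ⟨Pi.single 3 1, by simpa [std4] using hi⟩⟩
      · exact ⟨⟨Pi.single 0 1, by simpa [std4] using hi⟩, ⟨Pi.single 0 1, by simpa [std4] using hi⟩⟩
      · exact ⟨⟨Pi.single 1 1, by simpa [std4] using hi⟩, ⟨Pi.single 1 1, by simpa [std4] using hi⟩⟩
    obtain ⟨C, hC⟩ := frame_matrix hf.bilinear hb hn ![v₀, u, w₀, z'] fun i j => by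
      fin_cases i <;> fin_cases j <;>
        simp [std4, hf.alternating, h01, h10, hu1, hu2, z1, z2, z3, hsym u v₀, hsym u w₀, hsym z' v₀, hsym z' w₀,
          hsym z' u]
    exact ⟨transport C hC (local4 h11)⟩

end

/-- Let F be a finite field with q elements, n ≥ 13 even, Q a non-degenerate quadratic form on F^n of plus type (some subspace of dimension n/2 is totally singular), and Ω the commutator subgroup of the isometry group of Q, viewed inside GL_n(F). Suppose q is even and that, through P and e, the polar form of Q is similar to the t-fold tensor power (t ≥ 2) of a non-degenerate symplectic form f₁ on F^k with k ≤ 4 and (q, k) ≠ (2, 2), Q vanishing on the images of all pure tensors. Then the elements of Ω in the stabiliser of this decomposition form a subgroup that is not maximal: some subgroup lies strictly between it and Ω. -/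
theorem result {F : Type*} [Field F] [Fintype F] {n : ℕ} (hn : 13 ≤ n) (heven : Even n) (Q : (Fin n → F) → F) (hQ : Cfsg.Geo.IsNondegenerateQuadraticForm Q) (hplus : Cfsg.Geo.IsPlusTypeOn Q ⊤) (hchar : ¬ Odd (Fintype.card F)) (k t : ℕ) (ht : 2 ≤ t) (hk : k ≤ 4) (hex1 : ¬ (Fintype.card F = 2 ∧ k = 2)) (e : (Fin n) ≃ (Fin t → Fin k)) (P : Matrix.GeneralLinearGroup (Fin n) F) (f₁ : (Fin k → F) → (Fin k → F) → F) (hf₁ : Cfsg.Geo.IsSymplecticForm f₁) (hT : Cfsg.Geo.IsTensorPowerFormStructure id (QuadraticMap.polar Q) f₁ e P) (hpure : (∀ xs : Fin t → (Fin k → F), Q (Matrix.mulVec (P : Matrix (Fin n) (Fin n) F) ((fun a : Fin t → Fin k => ∏ i, xs i (a i)) ∘ e)) = 0)) : ∃ K : Subgroup (Matrix.GeneralLinearGroup (Fin n) F), Cfsg.Geo.tensorWreathSubgroup k t e P ⊓ Cfsg.Geo.omegaGL Q < K ∧ K < Cfsg.Geo.omegaGL Q := by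
  have h11 : (1 : F) + 1 = 0 := by
    have h2 : ringChar F = 2 := by
      by_contra h
      exact hchar (Nat.odd_iff.2 (FiniteField.odd_card_of_char_ne_two h))
    haveI : CharP F 2 := ringChar.of_eq h2
    exact CharTwo.add_self_eq_zero 1
  have hcard : Fintype.card (Fin t → Fin k) = n := by rw [← Fintype.card_congr e, Fintype.card_fin]
  obtain ⟨⟨D⟩, hex⟩ := exists_local hf₁ h11 hk (by
    rw [← hcard, Fintype.card_fun, Fintype.card_fin, Fintype.card_fin] at hn; exact hn) ht
  let T := CfsgLib.Maximal.TensorTools.coord e P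
  let qQ := CfsgLib.Maximal.TensorTools.quadOf hQ
  let q : QuadraticForm F ((Fin t → Fin k) → F) := qQ.comp T.toLinearMap
  obtain ⟨c, hc, hT⟩ := hT
  have hq0 : ∀ xs : Fin t → Fin k → F, q (tp xs) = 0 := hpure
  have hqT : ∀ x, q x = Q (T x) := fun x => rfl
  have hform : ∀ xs ys : Fin t → Fin k → F, polar q (tp xs) (tp ys) = c * ∏ i, f₁ (xs i) (ys i) := by
    intro xs ys
    rw [← bilinear_prod hf₁.bilinear]
    refine Eq.trans ?_ (hT (tp xs) (tp ys))
    simp only [polar, hqT, map_add]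
    rfl
  let ψ : GL (Fin t → Fin k) F →* GL (Fin n) F :=
    (MulAut.conj P).toMonoidHom.comp (Cfsg.Geo.glReindex e.symm).toMonoidHom
  have hψinj : Function.Injective ψ := (MulAut.conj P).injective.comp (Cfsg.Geo.glReindex e.symm).injective
  have hψ : ∀ (g : GL (Fin t → Fin k) F) x, (ψ g : Matrix (Fin n) (Fin n) F) *ᵥ T x =
      T ((g : Matrix (Fin t → Fin k) (Fin t → Fin k) F) *ᵥ x) := fun g x =>
    CfsgLib.Maximal.TensorTools.conj_reindex_mulVec e P g x
  let ψO : CfsgLib.Orth.O q →* CfsgLib.Orth.O qQ := (ψ.comp (CfsgLib.Orth.O q).subtype).codRestrict _ fun g => by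
    intro y _
    obtain ⟨x, rfl⟩ := T.surjective y
    show Q ((ψ g : Matrix (Fin n) (Fin n) F) *ᵥ T x) = Q (T x)
    rw [hψ, ← hqT, ← hqT]
    exact CfsgLib.Orth.Q_app g x
  have hψΩ : ∀ g ∈ Cfsg.Geo.omegaGL ⇑q, ψ g ∈ Cfsg.Geo.omegaGL Q := by
    rintro _ ⟨g, hg, rfl⟩
    refine ⟨ψO g, ?_, rfl⟩
    have := Subgroup.mem_map_of_mem ψO hg
    refine (?_ : Subgroup.map ψO _ ≤ _) this
    show Subgroup.map ψO (commutator (CfsgLib.Orth.O q)) ≤ commutator (CfsgLib.Orth.O qQ)
    rw [commutator_def, commutator_def, Subgroup.map_commutator]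
    exact Subgroup.commutator_mono le_top le_top
  obtain ⟨g₁, hg₁Ω, hg₁M, hg₁⟩ := exists_in_stabilizer hf₁ D h11 q c hform hq0 ht
  obtain ⟨g₂, hg₂Ω, hg₂⟩ := exists_not_in_stabilizer hf₁ D h11 q c hc hform hq0 ht (by rw [hcard]; omega) hex
  refine ⟨(opStabilizer (opSpace D)).map ψ ⊓ Cfsg.Geo.omegaGL Q, lt_of_le_of_ne ?_ ?_,
    lt_of_le_of_ne inf_le_right ?_⟩
  · rintro _ ⟨⟨_, ⟨g, hg, rfl⟩, rfl⟩, hgΩ⟩
    refine ⟨⟨g, ?_, rfl⟩, hgΩ⟩
    refine monomial_mem D q c hc hform hex (g := ⟨g, fun x _ => ?_⟩) (isMonomial_of_mem hg)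
    show q ((g : Matrix (Fin t → Fin k) (Fin t → Fin k) F) *ᵥ x) = q x
    rw [hqT, hqT, ← hψ]
    exact CfsgLib.Orth.Q_app (Q := qQ) ⟨_, CfsgLib.Maximal.TensorTools.isometry_of_omega hgΩ⟩ (T x)
  · intro heq
    obtain ⟨⟨_, ⟨g, hg, rfl⟩, hgψ⟩, -⟩ := heq.ge (show ψ g₁ ∈ _ from ⟨⟨g₁, hg₁M, rfl⟩, hψΩ g₁ hg₁Ω⟩)
    have : g = g₁ := hψinj hgψ
    exact hg₁ (this ▸ isMonomial_of_mem hg)
  · intro heq
    obtain ⟨⟨g, hg, hgψ⟩, -⟩ := heq.ge (hψΩ g₂ hg₂Ω)
    exact hg₂ (hψinj hgψ ▸ hg)

end Cfsg.Agent.S5707
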