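import Cfsg.Statements.S5710
import Cfsg.Agent.Lib.Maximal.TensorThree

set_option autoImplicit false
open Cfsg

namespace Cfsg.Agent.S5710

open Matrix QuadraticMap CfsgLib.Maximal.TensorTools CfsgLib.Maximal.TensorThree
open scoped commutatorElement

section
variable {F : Type*} [Field F] [Fintype F] {n n₂ : ℕ}

lemma main (hq : Fintype.card F = 3) (Q : (Fin n → F) → F) (hQ : Cfsg.Geo.IsNondegenerateQuadraticForm Q)
    (e : Fin n ≃ Fin 3 × Fin n₂) (P : Matrix.GeneralLinearGroup (Fin n) F)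
    (f₁ : (Fin 3 → F) → (Fin 3 → F) → F) (f₂ : (Fin n₂ → F) → (Fin n₂ → F) → F)
    (hf₁ : Cfsg.Geo.IsSymmetricForm f₁) (hf₂ : Cfsg.Geo.IsSymmetricForm f₂)
    (hT : Cfsg.Geo.IsTensorFormStructure id (QuadraticMap.polar Q) f₁ f₂ e P)
    (v : Fin 3 → Fin 3 → F) (hv : Frame f₁ v) (hd : ∀ i, f₁ (v i) (v i) = f₁ (v 0) (v 0))
    (b : Fin n₂ → Fin n₂ → F) (hb : Frame f₂ b) (i₁ i₂ i₃ : Fin n₂) (h12 : i₁ ≠ i₂) (h13 : i₁ ≠ i₃)
    (h23 : i₂ ≠ i₃) (he12 : f₂ (b i₁) (b i₁) = f₂ (b i₂) (b i₂)) :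
    ∃ K : Subgroup (Matrix.GeneralLinearGroup (Fin n) F),
      Cfsg.Geo.tensorProductSubgroup 3 n₂ e P ⊓ Cfsg.Geo.omegaGL Q < K ∧ K < Cfsg.Geo.omegaGL Q := by
  obtain ⟨c, hc, hform⟩ := tensor_form_pure hf₁.bilinear hf₂.bilinear hT
  set T := coord e P with hTdef
  let L : Fin 3 → (Fin n₂ → F) →ₗ[F] (Fin n → F) := fun i =>
    T.toLinearMap.comp
      ({ toFun := fun w => CfsgLib.Maximal.TensorTools.pure (v i) w
         map_add' := fun w w' => by funext a; simp [CfsgLib.Maximal.TensorTools.pure, mul_add]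
         map_smul' := fun r w => by funext a; simp [CfsgLib.Maximal.TensorTools.pure]; ring } :
        (Fin n₂ → F) →ₗ[F] (Fin 3 × Fin n₂ → F))
  have hL : ∀ i w, L i w = T (CfsgLib.Maximal.TensorTools.pure (v i) w) := fun i w => rfl
  let D : Fin 3 → Submodule F (Fin n → F) := fun i => LinearMap.range (L i)
  let q := quadOf hQ
  have hpolar : ∀ x y, polar q x y = polar Q x y := fun x y => rfl
  have hpol : ∀ i j w w', polar Q (L i w) (L j w') = c * (f₁ (v i) (v j) * f₂ w w') :=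
    fun i j w w' => hform _ _ _ _
  have hqval : ∀ x, 2 * q x = polar Q x x := fun x => by rw [← hpolar, CfsgLib.Orth.polar_self']
  have hmemD : ∀ i w, L i w ∈ D i := fun i w => ⟨w, rfl⟩
  have hperp : ∀ i j, i ≠ j → ∀ x ∈ D i, ∀ y ∈ D j, polar Q x y = 0 := by
    rintro i j hij _ ⟨w, rfl⟩ _ ⟨w', rfl⟩
    rw [hpol, hv.ortho i j hij]; ring
  have hnot : ∀ i k, k ≠ i → ∀ w, f₂ w w ≠ 0 → L i w ∉ D k := by
    intro i k hki w hw hmem
    have h := hperp i k (Ne.symm hki) _ (hmemD i w) _ hmem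
    rw [hpol] at h
    exact mul_ne_zero hc (mul_ne_zero (hv.ne_zero i) hw) h
  -- the tensor stabiliser permutes the three subspaces
  have hH : Cfsg.Geo.tensorProductSubgroup 3 n₂ e P ⊓ Cfsg.Geo.omegaGL Q
      ≤ Cfsg.Geo.decompositionStabilizer D ⊓ Cfsg.Geo.omegaGL Q := by
    rintro g ⟨hg, hgΩ⟩
    refine ⟨?_, hgΩ⟩
    obtain ⟨a, bb, hab⟩ := exists_factors hg
    set B : (Fin n₂ → F) → (Fin n₂ → F) := fun w => (bb : Matrix (Fin n₂) (Fin n₂) F) *ᵥ w
    set A : (Fin 3 → F) →ₗ[F] (Fin 3 → F) := Matrix.mulVecLin (a : Matrix (Fin 3) (Fin 3) F)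
    have hiso : ∀ x y w w', f₁ (A x) (A y) * f₂ (B w) (B w') = f₁ x y * f₂ w w' := by
      intro x y w w'
      have h := omega_polar hQ hgΩ (T (CfsgLib.Maximal.TensorTools.pure x w)) (T (CfsgLib.Maximal.TensorTools.pure y w'))
      rw [hab, hab, hform, hform] at h
      exact mul_left_cancel₀ hc h
    set μ := f₂ (B (b i₁)) (B (b i₁))
    have hμ : μ ≠ 0 := by
      intro h0
      have h := hiso (v 0) (v 0) (b i₁) (b i₁)
      rw [show f₂ (B (b i₁)) (B (b i₁)) = μ from rfl, h0, mul_zero] at h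
      exact mul_ne_zero (hv.ne_zero 0) (hb.ne_zero i₁) h.symm
    obtain ⟨σ, hσ⟩ := similarity_lines hq hf₁.bilinear hv hd A (f₂ (b i₁) (b i₁) / μ)
      (div_ne_zero (hb.ne_zero i₁) hμ) (fun x y => by
        have h := hiso x y (b i₁) (b i₁)
        field_simp
        linear_combination h)
    refine ⟨σ, fun i => ?_⟩
    obtain ⟨r, hr, hai⟩ := hσ i
    have himg : ∀ w, Matrix.toLin' (g : Matrix (Fin n) (Fin n) F) (L i w) = L (σ i) (r • B w) := by
      intro w
      rw [Matrix.toLin'_apply, hL, hab, hL]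
      congr 1
      funext z
      show A (v i) z.1 * B w z.2 = _
      rw [hai]
      simp [CfsgLib.Maximal.TensorTools.pure]; ring
    refine le_antisymm ?_ ?_
    · rintro _ ⟨_, ⟨w, rfl⟩, rfl⟩
      exact ⟨r • B w, (himg w).symm⟩
    · rintro _ ⟨w, rfl⟩
      refine ⟨L i (((bb⁻¹ : GL (Fin n₂) F) : Matrix (Fin n₂) (Fin n₂) F) *ᵥ (r⁻¹ • w)), hmemD i _, ?_⟩
      rw [himg]
      congr 1
      show r • ((bb : Matrix (Fin n₂) (Fin n₂) F) *ᵥ _) = w
      rw [Matrix.mulVec_mulVec, ← Units.val_mul, mul_inv_cancel, Units.val_one, Matrix.one_mulVec,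
        smul_smul, mul_inv_cancel₀ hr, one_smul]
  have h2 := two_ne hq
  -- reflections in vectors of one subspace stabilise all three
  have hrefl : ∀ i w, ((CfsgLib.Orth.refl q (L i w) : CfsgLib.Orth.O q) : GL (Fin n) F) ∈
      Cfsg.Geo.decompositionStabilizer D := by
    intro i w
    set s := CfsgLib.Orth.refl q (L i w)
    have hmaps : ∀ j, ∀ x ∈ D j, CfsgLib.Orth.app s x ∈ D j := by
      intro j x hx
      rcases eq_or_ne j i with rfl | hji
      · rw [CfsgLib.Orth.app_refl]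
        exact (D j).sub_mem hx ((D j).smul_mem _ (hmemD j w))
      · rw [CfsgLib.Orth.app_refl_of_ortho (by rw [hpolar]; exact hperp j i hji _ hx _ (hmemD i w))]
        exact hx
    refine ⟨Equiv.refl _, fun j => le_antisymm ?_ ?_⟩
    · rintro _ ⟨x, hx, rfl⟩
      exact hmaps j x hx
    · intro x hx
      refine ⟨CfsgLib.Orth.app s x, hmaps j x hx, ?_⟩
      show CfsgLib.Orth.app s (CfsgLib.Orth.app s x) = x
      rw [← CfsgLib.Orth.app_mul, CfsgLib.Orth.refl_mul_self, CfsgLib.Orth.app_one]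
  have hswap : ∀ x y, polar Q x x = polar Q y y → polar Q x y = 0 → polar Q x x ≠ 0 →
      CfsgLib.Orth.app (CfsgLib.Orth.refl q (x - y)) x = y ∧
      CfsgLib.Orth.app (CfsgLib.Orth.refl q (x - y)) y = x ∧
      ∀ z, polar Q z x = 0 → polar Q z y = 0 →
        CfsgLib.Orth.app (CfsgLib.Orth.refl q (x - y)) z = z := by
    intro x y hxx hxy hx
    have hyx : polar q y x = 0 := by rw [hpolar, polar_comm]; exact hxy
    have hQxy : q (x - y) = polar Q x x := by
      have h := hqval (x - y)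
      rw [← hpolar, polar_sub_left, polar_sub_right, polar_sub_right, hyx, hpolar x y, hxy,
        hpolar x x, hpolar y y, ← hxx] at h
      exact mul_left_cancel₀ h2 (by linear_combination h)
    refine ⟨?_, ?_, fun z h1 h2' => CfsgLib.Orth.app_refl_of_ortho (by
      rw [polar_sub_right, hpolar z x, hpolar z y, h1, h2', sub_zero])⟩
    · rw [CfsgLib.Orth.app_refl, polar_sub_right, hpolar x x, hpolar x y, hxy, hQxy, sub_zero,
        inv_mul_cancel₀ hx, one_smul, sub_sub_cancel]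
    · rw [CfsgLib.Orth.app_refl, polar_sub_right, hyx, hpolar y y, ← hxx, hQxy, zero_sub, mul_neg,
        inv_mul_cancel₀ hx, neg_smul, one_smul, sub_neg_eq_add, add_sub_cancel]
  have hcomm : ∀ r s : CfsgLib.Orth.O q, ((⁅r, s⁆ : CfsgLib.Orth.O q) : GL (Fin n) F) ∈ Cfsg.Geo.omegaGL Q :=
    fun r s => commutator_mem_omega r s
  have happ : ∀ (r : CfsgLib.Orth.O q) x,
      ((r : GL (Fin n) F) : Matrix (Fin n) (Fin n) F) *ᵥ x = CfsgLib.Orth.app r x := fun r x => rfl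
  have hnn : ∀ i j, polar Q (L i (b j)) (L i (b j)) ≠ 0 := fun i j => by
    rw [hpol]; exact mul_ne_zero hc (mul_ne_zero (hv.ne_zero i) (hb.ne_zero j))
  refine ⟨Cfsg.Geo.decompositionStabilizer D ⊓ Cfsg.Geo.omegaGL Q, lt_of_le_of_ne hH ?_,
    lt_of_le_of_ne inf_le_right ?_⟩
  · -- a commutator inside the first factor is not a pure tensor
    intro heq
    set x₁ := L 0 (b i₁) with hx₁
    set x₂ := L 0 (b i₂) with hx₂
    have hx12 : polar Q x₁ x₂ = 0 := by rw [hpol, hb.ortho _ _ h12]; ring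
    have hxx : polar Q x₁ x₁ = polar Q x₂ x₂ := by rw [hpol, hpol, he12]
    obtain ⟨s1, s2, s3⟩ := hswap x₁ x₂ hxx hx12 (hnn 0 i₁)
    set r := CfsgLib.Orth.refl q x₁
    set s := CfsgLib.Orth.refl q (x₁ - x₂)
    have hr1 : CfsgLib.Orth.app r x₁ = -x₁ :=
      CfsgLib.Orth.app_refl_self (fun h => hnn 0 i₁ (by rw [← hqval, h, mul_zero]))
    have hr2 : CfsgLib.Orth.app r x₂ = x₂ :=
      CfsgLib.Orth.app_refl_of_ortho (by rw [hpolar, polar_comm]; exact hx12)
    have hgK : ((⁅r, s⁆ : CfsgLib.Orth.O q) : GL (Fin n) F) ∈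
        Cfsg.Geo.decompositionStabilizer D ⊓ Cfsg.Geo.omegaGL Q := by
      refine ⟨?_, hcomm r s⟩
      have hsD : ((s : CfsgLib.Orth.O q) : GL (Fin n) F) ∈ Cfsg.Geo.decompositionStabilizer D := by
        have := hrefl 0 (b i₁ - b i₂)
        rwa [map_sub] at this
      rw [commutatorElement_def, Subgroup.coe_mul, Subgroup.coe_mul, Subgroup.coe_mul, Subgroup.coe_inv,
        Subgroup.coe_inv]
      exact Subgroup.mul_mem _ (Subgroup.mul_mem _ (Subgroup.mul_mem _ (hrefl 0 (b i₁)) hsD)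
        (Subgroup.inv_mem _ (hrefl 0 (b i₁)))) (Subgroup.inv_mem _ hsD)
    rw [← heq] at hgK
    obtain ⟨a, bb, hab⟩ := exists_factors hgK.1
    have hg : ∀ x, CfsgLib.Orth.app ⁅r, s⁆ x =
        CfsgLib.Orth.app r (CfsgLib.Orth.app s (CfsgLib.Orth.app r (CfsgLib.Orth.app s x))) := by
      intro x
      rw [commutatorElement_def, CfsgLib.Orth.refl_inv, CfsgLib.Orth.refl_inv]
      simp only [CfsgLib.Orth.app_mul]
      rfl
    have hg1 : CfsgLib.Orth.app ⁅r, s⁆ x₁ = -x₁ := by rw [hg, s1, hr2, s2, hr1]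
    have hfix : ∀ i j, (i ≠ 0 ∨ (j ≠ i₁ ∧ j ≠ i₂)) → CfsgLib.Orth.app ⁅r, s⁆ (L i (b j)) = L i (b j) := by
      intro i j hij
      have p1 : polar Q (L i (b j)) x₁ = 0 := by
        rw [hpol]
        rcases hij with h | h
        · rw [hv.ortho i 0 h]; ring
        · rw [hb.ortho _ _ h.1]; ring
      have p2 : polar Q (L i (b j)) x₂ = 0 := by
        rw [hpol]
        rcases hij with h | h
        · rw [hv.ortho i 0 h]; ring
        · rw [hb.ortho _ _ h.2]; ring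
      have hrz : CfsgLib.Orth.app r (L i (b j)) = L i (b j) :=
        CfsgLib.Orth.app_refl_of_ortho (by rw [hpolar]; exact p1)
      rw [hg, s3 _ p1 p2, hrz, s3 _ p1 p2, hrz]
    set X := fun i => f₁ ((a : Matrix (Fin 3) (Fin 3) F) *ᵥ v i) (v i)
    set Y := fun j => f₂ ((bb : Matrix (Fin n₂) (Fin n₂) F) *ᵥ b j) (b j)
    have key : ∀ i j, polar Q (CfsgLib.Orth.app ⁅r, s⁆ (L i (b j))) (L i (b j)) = c * (X i * Y j) := by
      intro i j
      rw [← happ, hL, hab, hform]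
    have k11 := key 0 i₁
    rw [hg1, ← hpolar, polar_neg_left, hpolar, hpol] at k11
    have k21 := key 1 i₁
    rw [hfix 1 i₁ (Or.inl (by decide)), hpol] at k21
    have k13 := key 0 i₃
    rw [hfix 0 i₃ (Or.inr ⟨Ne.symm h13, Ne.symm h23⟩), hpol] at k13
    have k23 := key 1 i₃
    rw [hfix 1 i₃ (Or.inl (by decide)), hpol] at k23
    rw [hd 1] at k21 k23
    set d := f₁ (v 0) (v 0)
    set N₁ := f₂ (b i₁) (b i₁)
    set N₃ := f₂ (b i₃) (b i₃)
    have hd0 : d ≠ 0 := hv.ne_zero 0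
    have hY3 : Y i₃ ≠ 0 := fun h => by
      rw [h, mul_zero, mul_zero] at k13
      exact mul_ne_zero hc (mul_ne_zero hd0 (hb.ne_zero i₃)) k13
    have hX : X 0 = X 1 :=
      mul_right_cancel₀ hY3 (mul_left_cancel₀ hc (k13.symm.trans k23))
    rw [hX] at k11
    exact mul_ne_zero h2 (mul_ne_zero hc (mul_ne_zero hd0 (hb.ne_zero i₁)))
      (show (2 : F) * (c * (d * N₁)) = 0 by linear_combination k21 - k11)
  · -- a three-cycle of vectors from different subspaces lies in Ω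
    intro heq
    set x := L 0 (b i₁)
    set y := L 1 (b i₁)
    set z := L 2 (b i₁)
    set w := L 0 (b i₂)
    have hxy : polar Q x y = 0 := hperp 0 1 (by decide) _ (hmemD _ _) _ (hmemD _ _)
    have hyz : polar Q y z = 0 := hperp 1 2 (by decide) _ (hmemD _ _) _ (hmemD _ _)
    have hxz : polar Q x z = 0 := hperp 0 2 (by decide) _ (hmemD _ _) _ (hmemD _ _)
    have hzx : polar Q z x = 0 := hperp 2 0 (by decide) _ (hmemD _ _) _ (hmemD _ _)
    have hzy : polar Q z y = 0 := hperp 2 1 (by decide) _ (hmemD _ _) _ (hmemD _ _)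
    have hnxy : polar Q x x = polar Q y y := by rw [hpol, hpol, hd 1]
    have hnyz : polar Q y y = polar Q z z := by rw [hpol, hpol, hd 1, hd 2]
    obtain ⟨a1, a2, a3⟩ := hswap x y hnxy hxy (hnn 0 i₁)
    obtain ⟨c1, c2, c3⟩ := hswap y z hnyz hyz (hnn 1 i₁)
    set r := CfsgLib.Orth.refl q (x - y)
    set s := CfsgLib.Orth.refl q (y - z)
    have hg : ∀ u, CfsgLib.Orth.app ⁅r, s⁆ u =
        CfsgLib.Orth.app r (CfsgLib.Orth.app s (CfsgLib.Orth.app r (CfsgLib.Orth.app s u))) := by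
      intro u
      rw [commutatorElement_def, CfsgLib.Orth.refl_inv, CfsgLib.Orth.refl_inv]
      simp only [CfsgLib.Orth.app_mul]
      rfl
    have hgx : CfsgLib.Orth.app ⁅r, s⁆ x = z := by
      rw [hg, c3 x hxy hxz, a1, c1, a3 z hzx hzy]
    have hgw : CfsgLib.Orth.app ⁅r, s⁆ w = w := by
      have p1 : polar Q w x = 0 := by rw [hpol, hb.ortho _ _ (Ne.symm h12)]; ring
      have p2 : polar Q w y = 0 := hperp 0 1 (by decide) _ (hmemD _ _) _ (hmemD _ _)
      have p3 : polar Q w z = 0 := hperp 0 2 (by decide) _ (hmemD _ _) _ (hmemD _ _)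
      rw [hg, c3 w p2 p3, a3 w p1 p2, c3 w p2 p3, a3 w p1 p2]
    have hmem : ((⁅r, s⁆ : CfsgLib.Orth.O q) : GL (Fin n) F) ∈ Cfsg.Geo.decompositionStabilizer D :=
      (heq.ge (hcomm r s)).1
    obtain ⟨σ, hσ⟩ := hmem
    have hx' : z ∈ D (σ 0) := hgx ▸ (hσ 0) ▸ (Submodule.mem_map_of_mem (hmemD 0 (b i₁)) :
      Matrix.toLin' (((⁅r, s⁆ : CfsgLib.Orth.O q) : GL (Fin n) F) : Matrix (Fin n) (Fin n) F) x ∈ _)
    have hw' : w ∈ D (σ 0) := hgw ▸ (hσ 0) ▸ (Submodule.mem_map_of_mem (hmemD 0 (b i₂)) :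
      Matrix.toLin' (((⁅r, s⁆ : CfsgLib.Orth.O q) : GL (Fin n) F) : Matrix (Fin n) (Fin n) F) w ∈ _)
    rcases eq_or_ne (σ 0) 2 with h | h
    · exact hnot 0 2 (by decide) (b i₂) (hb.ne_zero i₂) (h ▸ hw')
    · exact hnot 2 (σ 0) h (b i₁) (hb.ne_zero i₁) hx'

end

/-- Let F be the field with 3 elements, n = 3 n₂ ≥ 13 even, Q a non-degenerate quadratic form on F^n of minus type and Ω the commutator subgroup of its isometry group. Suppose that, through P and e, the polar form of Q is similar to the tensor product of non-degenerate symmetric bilinear forms f₁ on F^3 and f₂ on F^(n₂), n₂ even and at least 4, of minus type. Then the elements of Ω in the stabiliser of this tensor decomposition form a subgroup that is not maximal: some subgroup lies strictly between it and Ω. -/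
theorem result {F : Type*} [Field F] [Fintype F] {n : ℕ} (hn : 13 ≤ n) (heven : Even n) (Q : (Fin n → F) → F) (hQ : Cfsg.Geo.IsNondegenerateQuadraticForm Q) (hminus : ¬ Cfsg.Geo.IsPlusTypeOn Q ⊤) (hq : Fintype.card F = 3) (n₂ : ℕ) (h2 : 4 ≤ n₂) (h2e : Even n₂) (e : (Fin n) ≃ Fin 3 × Fin n₂) (P : Matrix.GeneralLinearGroup (Fin n) F) (f₁ : (Fin 3 → F) → (Fin 3 → F) → F) (f₂ : (Fin n₂ → F) → (Fin n₂ → F) → F) (hf₁ : Cfsg.Geo.IsSymmetricForm f₁) (hf₂ : Cfsg.Geo.IsSymmetricForm f₂) (hf₂m : ¬ Cfsg.Geo.IsPlusTypeOn (fun v : Fin n₂ → F => f₂ v v) ⊤) (hT : Cfsg.Geo.IsTensorFormStructure id (QuadraticMap.polar Q) f₁ f₂ e P) : ∃ K : Subgroup (Matrix.GeneralLinearGroup (Fin n) F), Cfsg.Geo.tensorProductSubgroup 3 n₂ e P ⊓ Cfsg.Geo.omegaGL Q < K ∧ K < Cfsg.Geo.omegaGL Q := by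
  obtain ⟨v, hv, hd⟩ := CfsgLib.Maximal.TensorThree.exists_three_frame hq hf₁
  obtain ⟨b, hb⟩ := CfsgLib.Maximal.TensorThree.exists_frame (CfsgLib.Maximal.TensorThree.two_ne hq) hf₂
  obtain ⟨i₁, i₂, i₃, h12, h13, h23, he12⟩ :=
    CfsgLib.Maximal.TensorThree.exists_equal_pair hq (by omega) hb
  exact main hq Q hQ e P f₁ f₂ hf₁ hf₂ hT v hv hd b hb i₁ i₂ i₃ h12 h13 h23 he12

end Cfsg.Agent.S5710
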