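import Cfsg.Statements.S5712
import Cfsg.Agent.Lib.TwoTransSp.Main
import Cfsg.Agent.Lib.TwoTransSp.Radical
import Cfsg.Agent.Lib.ClassicalGroups.EightIso
import Cfsg.Agent.Lib.Sp.Group

set_option autoImplicit false
open Cfsg

namespace Cfsg.Agent.S5712

open CfsgLib.TwoTransSp

/-- The form, as a bilinear form. -/
noncomputable def formB (F : Type*) [Field F] (n : ℕ) :
    LinearMap.BilinForm F (Fin n ⊕ Fin n → F) :=
  LinearMap.mk₂ F
    (fun u v => ∑ i : Fin n, (u (Sum.inl i) * v (Sum.inr i) + u (Sum.inr i) * v (Sum.inl i)))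
    (fun u u' v => by simp [add_mul, Finset.sum_add_distrib]; ring)
    (fun c u v => by simp [mul_add, Finset.mul_sum, mul_assoc])
    (fun u v v' => by simp [mul_add, Finset.sum_add_distrib]; ring)
    (fun c u v => by simp [mul_add, Finset.mul_sum, mul_left_comm])

theorem formB_alt (F : Type*) [Field F] [CharP F 2] (n : ℕ) : Alt (formB F n) := by
  classical
  refine ⟨fun x => ?_, fun x hx => ?_⟩
  · simp [formB, mul_comm, CharTwo.add_self_eq_zero]
  · funext s
    rcases s with i | i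
    · simpa [formB, Pi.single_apply] using hx (Pi.single (Sum.inr i) 1)
    · simpa [formB, Pi.single_apply] using hx (Pi.single (Sum.inl i) 1)

/-- The form agrees with the standard symplectic form. -/
theorem formB_eq_sympForm (F : Type*) [Field F] [CharP F 2] (n : ℕ) (u v : Fin n ⊕ Fin n → F) :
    formB F n u v = Cfsg.sympForm n F u v := by
  rw [CfsgLib.Sp.sympForm_eq_sum]
  simp [formB, CharTwo.sub_eq_add, Finset.sum_add_distrib, add_comm]

/-- Let F be a finite field of characteristic two, n ≥ 2, V = F^{2n} with the non-degenerate alternating form f(u, v) = Σ (u_i v_{n+i} + u_{n+i} v_i), and G the group of invertible matrices preserving f. Let a ≠ 0 be a vector, H its stabilizer in G, and X a subgroup of O₂(H) of order |F|^{2n−2} no element of which is a transvection (no element g has g − 1 of rank one). If L is a subgroup of G containing X that acts irreducibly on V (no proper non-zero L-invariant subspace), then L = G, or,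 for some quadratic form Q on V whose polar form is f, L is the isometry group of Q or its subgroup of the isometries g for which g − 1 has even rank, or |F| = 2, n = 2 and L is isomorphic to the alternating group of degree 6 or to the symmetric group of degree 5. -/
theorem result {F : Type*} [Field F] [Fintype F] [CharP F 2] {n : ℕ} (hn : 2 ≤ n) (a : (Fin n ⊕ Fin n → F)) (ha : a ≠ 0)
    (X : Subgroup (GL (Fin n ⊕ Fin n) F)) (hXG : X ≤ Cfsg.preserving (Units.coeHom (Matrix (Fin n ⊕ Fin n) (Fin n ⊕ Fin n) F)) (fun u v : (Fin n ⊕ Fin n → F) => ∑ i : Fin n, (u (Sum.inl i) * v (Sum.inr i) + u (Sum.inr i) * v (Sum.inl i))))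
    (hXO : ∀ H : Subgroup (GL (Fin n ⊕ Fin n) F),
      (∀ g : GL (Fin n ⊕ Fin n) F, g ∈ H ↔ (g ∈ Cfsg.preserving (Units.coeHom (Matrix (Fin n ⊕ Fin n) (Fin n ⊕ Fin n) F)) (fun u v : (Fin n ⊕ Fin n → F) => ∑ i : Fin n, (u (Sum.inl i) * v (Sum.inr i) + u (Sum.inr i) * v (Sum.inl i))) ∧ Matrix.mulVec (g : Matrix (Fin n ⊕ Fin n) (Fin n ⊕ Fin n) F) a = a)) →
      X ≤ (Cfsg.pCore 2 ↥H).map H.subtype)
    (hcard : Nat.card ↥X = Fintype.card F ^ (2 * n - 2))
    (hntv : ∀ x ∈ X, ((x : Matrix (Fin n ⊕ Fin n) (Fin n ⊕ Fin n) F) - 1).rank ≠ 1)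
    (L : Subgroup (GL (Fin n ⊕ Fin n) F)) (hXL : X ≤ L) (hLG : L ≤ Cfsg.preserving (Units.coeHom (Matrix (Fin n ⊕ Fin n) (Fin n ⊕ Fin n) F)) (fun u v : (Fin n ⊕ Fin n → F) => ∑ i : Fin n, (u (Sum.inl i) * v (Sum.inr i) + u (Sum.inr i) * v (Sum.inl i))))
    (hirr : ∀ W : Submodule F (Fin n ⊕ Fin n → F), (∀ g ∈ L, ∀ w ∈ W, Matrix.mulVec (g : Matrix (Fin n ⊕ Fin n) (Fin n ⊕ Fin n) F) w ∈ W) → W = ⊥ ∨ W = ⊤) :
    L = Cfsg.preserving (Units.coeHom (Matrix (Fin n ⊕ Fin n) (Fin n ⊕ Fin n) F)) (fun u v : (Fin n ⊕ Fin n → F) => ∑ i : Fin n, (u (Sum.inl i) * v (Sum.inr i) + u (Sum.inr i) * v (Sum.inl i))) ∨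
    (∃ Q : QuadraticForm F (Fin n ⊕ Fin n → F), (∀ u v, QuadraticMap.polar ⇑Q u v = (fun u v : (Fin n ⊕ Fin n → F) => ∑ i : Fin n, (u (Sum.inl i) * v (Sum.inr i) + u (Sum.inr i) * v (Sum.inl i))) u v) ∧
      (L = Cfsg.isometryGroup F ⇑Q ∨
        ∀ g : GL (Fin n ⊕ Fin n) F, g ∈ L ↔ (g ∈ Cfsg.isometryGroup F ⇑Q ∧ Even ((g : Matrix (Fin n ⊕ Fin n) (Fin n ⊕ Fin n) F) - 1).rank))) ∨
    (Fintype.card F = 2 ∧ n = 2 ∧ (Nonempty (↥L ≃* ↥(alternatingGroup (Fin 6))) ∨ Nonempty (↥L ≃* Equiv.Perm (Fin 5)))) := by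
  classical
  set G := Cfsg.preserving (Units.coeHom (Matrix (Fin n ⊕ Fin n) (Fin n ⊕ Fin n) F)) (fun u v : (Fin n ⊕ Fin n → F) => ∑ i : Fin n, (u (Sum.inl i) * v (Sum.inr i) + u (Sum.inr i) * v (Sum.inl i))) with hGdef
  have hG : ∀ g, g ∈ G ↔ Iso (formB F n) g := fun g => Iff.rfl
  have hS : Setup (formB F n) L := ⟨formB_alt F n, fun g hg => (hG g).1 (hLG hg), hirr⟩
  have hcι : Fintype.card (Fin n ⊕ Fin n) = 2 * n := by
    rw [Fintype.card_sum, Fintype.card_fin]; omega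
  let H : Subgroup (GL (Fin n ⊕ Fin n) F) :=
    { carrier := {g | g ∈ G ∧ ap g a = a}
      mul_mem' := fun {g k} hg hk => ⟨mul_mem hg.1 hk.1, by rw [ap_mul, hk.2, hg.2]⟩
      one_mem' := ⟨one_mem _, ap_one a⟩
      inv_mem' := fun {g} hg => ⟨inv_mem hg.1, by conv_lhs => rw [← hg.2, ap_inv_ap]⟩ }
  have hfull : Full (formB F n) L a :=
    hS.full_of_core (by omega) ha (H := H) (fun g => Iff.rfl) (hXO H fun g => Iff.rfl) hXL
      (by rw [hcard, hcι]) hntv
  rcases hS.main (by omega) hfull with h | h | ⟨hf, h6, hT, hP⟩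
  · exact Or.inl (le_antisymm hLG fun g hg => h g ((hG g).1 hg))
  · exact Or.inr (Or.inl h)
  refine Or.inr (Or.inr ?_)
  obtain rfl : n = 2 := by omega
  have hF : Fintype.card F = 2 := by
    rw [← Finset.card_univ, show (Finset.univ : Finset F) = {0, 1} by ext t; simpa using hf t]
    simp
  obtain ⟨e⟩ := CfsgLib.ClassicalGroups.sp_four_two_perm hF
  have hmem : ∀ g : GL (Fin 2 ⊕ Fin 2) F,
      g ∈ G ↔ (g : Matrix (Fin 2 ⊕ Fin 2) (Fin 2 ⊕ Fin 2) F) ∈ Matrix.symplecticGroup (Fin 2) F :=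
    fun g => by
      rw [CfsgLib.Sp.mem_symplecticGroup_iff, hG]
      simp only [Iso, formB_eq_sympForm, ap_apply]
  let j : G →* Matrix.symplecticGroup (Fin 2) F :=
    { toFun := fun g => ⟨_, (hmem g.1).1 g.2⟩
      map_one' := rfl
      map_mul' := fun _ _ => rfl }
  have hj : Function.Bijective j := by
    refine ⟨fun g k hgk => Subtype.ext (Units.ext (congrArg Subtype.val hgk)), fun A => ?_⟩
    refine ⟨⟨⟨A.1, (A⁻¹).1, congrArg Subtype.val (mul_inv_cancel A),
      congrArg Subtype.val (inv_mul_cancel A)⟩, (hmem _).2 A.2⟩, rfl⟩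
  exact ⟨hF, rfl, hS.four hf (by omega) hT hP G hG ((MulEquiv.ofBijective j hj).trans e)⟩

end Cfsg.Agent.S5712
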