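import Cfsg.Statements.S5728


set_option autoImplicit false
open Cfsg

namespace Cfsg.Agent.S5728

/-- An elusive transitive action. Let p = 2^s − 1 be a prime and let F be the field with p² elements. Inside the group of affine maps x ↦ a·x + b of F (a ≠ 0), consider the subgroup of maps with both coefficients in the prime field. Then every element of prime order of the affine group is conjugate, within the affine group, to an element of that subgroup; equivalently, in the transitive action of the affine group on the cosets of that subgroup (of degree p(p + 1)) every element of prime order fixes a point. -/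
theorem result (p s : ℕ) [Fact p.Prime] (hs : p = 2 ^ s - 1)
    (g : Equiv.Perm (GaloisField p 2)) (hg : g ∈ Cfsg.affineGroup (GaloisField p 2)) (hord : (orderOf g).Prime) :
    ∃ x ∈ Cfsg.affineGroup (GaloisField p 2), ∃ a b : ZMod p, a ≠ 0 ∧
      ∀ y : GaloisField p 2, (x * g * x⁻¹) y = algebraMap (ZMod p) (GaloisField p 2) a * y + algebraMap (ZMod p) (GaloisField p 2) b := by
  obtain ⟨u, b, hgf⟩ := hg
  set a : GaloisField p 2 := (u : GaloisField p 2) with ha_def
  have hp : p.Prime := Fact.out
  have hr0 : (orderOf g).Prime := hord
  by_cases ha : a = 1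
  · have hb : b ≠ 0 := by
      intro hb
      refine hord.ne_one (orderOf_eq_one_iff.mpr (Equiv.ext fun x => ?_))
      rw [hgf, ha, hb, one_mul, add_zero, Equiv.Perm.one_apply]
    refine ⟨Equiv.mulLeft₀ b⁻¹ (inv_ne_zero hb), ⟨Units.mk0 b⁻¹ (inv_ne_zero hb), 0, fun y => ?_⟩, 1, 1,
      one_ne_zero, fun y => ?_⟩
    · simp
    · rw [map_one, one_mul, Equiv.Perm.mul_apply, Equiv.Perm.mul_apply, hgf, ha, one_mul]
      show b⁻¹ * ((Equiv.mulLeft₀ b⁻¹ (inv_ne_zero hb)).symm y + b) = y + 1
      simp [mul_add, hb]
  · set c : GaloisField p 2 := b / (1 - a) with hc_def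
    have h1a : (1 : GaloisField p 2) - a ≠ 0 := sub_ne_zero.mpr (Ne.symm ha)
    have hc : a * c + b = c := by rw [hc_def]; field_simp; ring
    have hpow : ∀ (n : ℕ) (y : GaloisField p 2), (g ^ n) (y + c) = a ^ n * y + c := by
      intro n
      induction n with
      | zero => intro y; simp
      | succ n ih =>
        intro y
        rw [pow_succ', Equiv.Perm.mul_apply, ih, hgf, pow_succ']
        linear_combination hc
    have har : a ^ orderOf g = 1 := by
      have h := hpow (orderOf g) 1
      rw [pow_orderOf_eq_one, Equiv.Perm.one_apply, mul_one] at h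
      exact (add_right_cancel h).symm
    have hcard : a ^ (p ^ 2 - 1) = 1 := by
      have := Fintype.ofFinite (GaloisField p 2)
      have h := FiniteField.pow_card_sub_one_eq_one a u.ne_zero
      rwa [← Nat.card_eq_fintype_card, GaloisField.card p 2 two_ne_zero] at h
    have hp2 : p ≠ 2 := by
      intro h
      subst h
      rcases s with _ | s
      · norm_num at hs
      · rw [pow_succ] at hs
        have : 1 ≤ 2 ^ s := Nat.one_le_two_pow
        omega
    have hrdvd : orderOf g ∣ p - 1 := by
      have ha' : orderOf a = orderOf g := by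
        have := Fact.mk hord
        exact orderOf_eq_prime har ha
      have h := orderOf_dvd_of_pow_eq_one hcard
      rw [ha', show p ^ 2 - 1 = (p + 1) * (p - 1) by simpa using Nat.sq_sub_sq p 1] at h
      rcases hord.dvd_mul.mp h with h | h
      · have h2 : orderOf g ∣ 2 ^ s := by
          have : p + 1 = 2 ^ s := by
            have := Nat.one_le_two_pow (n := s)
            omega
          exact this ▸ h
        rw [(Nat.prime_dvd_prime_iff_eq hord Nat.prime_two).mp (hord.dvd_of_dvd_pow h2)]
        exact even_iff_two_dvd.mp (Nat.Prime.even_sub_one hp hp2)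
      · exact h
    have hap : a ^ p = a := by
      obtain ⟨t, ht⟩ := hrdvd
      have : a ^ (p - 1) = 1 := by rw [ht, pow_mul, har, one_pow]
      calc a ^ p = a ^ (p - 1 + 1) := by rw [Nat.sub_add_cancel hp.one_le]
        _ = a := by rw [pow_succ, this, one_mul]
    obtain ⟨A, hA⟩ : ∃ A : ZMod p, algebraMap (ZMod p) (GaloisField p 2) A = a := by
      have h := (Subfield.mem_bot_iff_pow_eq_self (F := GaloisField p 2) (p := p)).mpr hap
      have hb : (⊥ : Subfield (GaloisField p 2)) ≤ (algebraMap (ZMod p) (GaloisField p 2)).fieldRange := bot_le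
      exact hb h
    refine ⟨Equiv.addRight (-c), ⟨1, -c, fun y => by simp⟩, A, 0, ?_, fun y => ?_⟩
    · intro h
      rw [h, map_zero] at hA
      exact u.ne_zero hA.symm
    · rw [hA, map_zero, add_zero, Equiv.Perm.mul_apply, Equiv.Perm.mul_apply, hgf]
      show a * ((Equiv.addRight (-c)).symm y) + b + -c = a * y
      have : (Equiv.addRight (-c)).symm y = y + c := by
        rw [Equiv.symm_apply_eq]; simp
      rw [this]
      linear_combination hc

end Cfsg.Agent.S5728
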