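import Cfsg.Statements.S5735
import Cfsg.Agent.S1136
import Cfsg.Agent.Lib.BenderQ.Rows
import Cfsg.Agent.Lib.BinaryInvol.Reduce
import Cfsg.Agent.Lib.BinaryUnitary.Transport

set_option autoImplicit false
set_option linter.style.haveILetI false
open Cfsg

namespace Cfsg.Agent.S5735

/-- Let G be a finite simple group with exactly one conjugacy class of involutions, and let H be a proper subgroup of even order. Then the action of G on the cosets of H is binary if and only if one of the following holds: G ≅ SL₂(2^a) with a ≥ 2 and H is a Sylow 2-subgroup; G is a Suzuki group Sz(2^(2a+1)) with a ≥ 1 and H is the centre of a Sylow 2-subgroup; G ≅ PSU₃(2^a) with a ≥ 2 and H is the centre of a Sylow 2-subgroup. Here an action is binary (relational complexity 2) when, for every n ≥ 2 and all n-tuples I, J of points, if for every pair of positions some group element carries the corresponding pair of entries of I to those of J, then a single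 group element carries I to J. -/
theorem result {G : Type*} [Group G] [Finite G] [IsSimpleGroup G] (hinv : ∃ s : G, orderOf s = 2)
    (hone : ∀ s t : G, orderOf s = 2 → orderOf t = 2 → IsConj s t)
    (H : Subgroup G) (hH : H ≠ ⊤) (heven : Even (Nat.card H)) :
    (∀ (n : ℕ) (I J : Fin n → G ⧸ H), 2 ≤ n →
        (∀ i j : Fin n, i ≠ j → ∃ g : G, g • I i = J i ∧ g • I j = J j) → ∃ g : G, ∀ i, g • I i = J i) ↔
      (((∃ (F : Type) (_ : Field F) (_ : Fintype F) (a : ℕ), 2 ≤ a ∧ Fintype.card F = 2 ^ a ∧ Nonempty (G ≃* Matrix.SpecialLinearGroup (Fin 2) F)) ∧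
          ∃ P : Sylow 2 G, H = P) ∨
        (Cfsg.Lie.IsoSuzuki G ∧ ∃ P : Sylow 2 G, H = (Subgroup.center (P : Subgroup G)).map (P : Subgroup G).subtype) ∨
        ((∃ (F : Type) (_ : Field F) (_ : Fintype F) (a : ℕ), 2 ≤ a ∧ Fintype.card F = (2 ^ a) ^ 2 ∧ Nonempty (G ≃* Cfsg.PSU 3 F (2 ^ a))) ∧
          ∃ P : Sylow 2 G, H = (Subgroup.center (P : Subgroup G)).map (P : Subgroup G).subtype)) := by
  show CfsgLib.BinaryAct.IsBinary H ↔ _
  constructor
  · intro hb
    rcases CfsgLib.BinaryInvol.isBenderType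
      (fun G _ _ Ω _ _ a t Q hS h2 => Cfsg.Agent.S1136.result hS h2) hb hone hH heven with
      ⟨F, i1, i2, ⟨n, hn, hF⟩, ⟨f⟩⟩ | ⟨F, i1, i2, m, hm, hF, ⟨f⟩⟩ | ⟨F, i1, i2, n, hn, hF, ⟨f⟩⟩
    · haveI := CfsgLib.BinaryUnitary.charTwo_of_card hF
      obtain ⟨s⟩ := CfsgLib.BenderQ.nonempty_sl_equiv_psl F
      exact Or.inl ⟨⟨F, i1, i2, n, hn, hF, ⟨f.trans s⟩⟩,
        (CfsgLib.BinaryUnitary.psl_case hn hF f hH heven).1 hb⟩
    · exact Or.inr (Or.inl ⟨⟨F, i1, i2, m, hm, hF, ⟨f⟩⟩,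
        (CfsgLib.BinaryUnitary.suzuki_case hm hF f hH heven).1 hb⟩)
    · exact Or.inr (Or.inr ⟨⟨F, i1, i2, n, hn, hF, ⟨f⟩⟩,
        (CfsgLib.BinaryUnitary.psu_case hn hF f hone hH heven).1 hb⟩)
  · rintro (⟨⟨F, i1, i2, n, hn, hF, ⟨f⟩⟩, h⟩ | ⟨⟨F, i1, i2, m, hm, hF, ⟨f⟩⟩, h⟩ |
      ⟨⟨F, i1, i2, n, hn, hF, ⟨f⟩⟩, h⟩)
    · haveI := CfsgLib.BinaryUnitary.charTwo_of_card hF
      obtain ⟨s⟩ := CfsgLib.BenderQ.nonempty_sl_equiv_psl F
      exact (CfsgLib.BinaryUnitary.psl_case hn hF (f.trans s.symm) hH heven).2 h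
    · exact (CfsgLib.BinaryUnitary.suzuki_case hm hF f hH heven).2 h
    · exact (CfsgLib.BinaryUnitary.psu_case hn hF f hone hH heven).2 h

end Cfsg.Agent.S5735
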