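import Cfsg.Statements.S5736
import Cfsg.Agent.Lib.BinaryPSL.Positive

set_option autoImplicit false
open Cfsg

namespace Cfsg.Agent.S5736

/-- Let F be a finite field with q ≥ 4 elements, q ≠ 5, let G = PSL₂(F) and let H be a proper subgroup of G. Then the action of G on the cosets of H is binary if and only if H is trivial, or q is a power of 2 and H is a Sylow 2-subgroup, or q = 2^a with a odd and H has order 3. Here an action is binary (relational complexity 2) when, for every n ≥ 2 and all n-tuples I, J of points, if for every pair of positions some group element carries the corresponding pair of entries of I to those of J, then a single group element carries I to J. -/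
theorem result {F : Type*} [Field F] [Fintype F] (h4 : 4 ≤ Fintype.card F) (h5 : Fintype.card F ≠ 5)
    (H : Subgroup (Matrix.ProjectiveSpecialLinearGroup (Fin 2) F)) (hH : H ≠ ⊤) :
    (∀ (n : ℕ) (I J : Fin n → Matrix.ProjectiveSpecialLinearGroup (Fin 2) F ⧸ H), 2 ≤ n →
        (∀ i j : Fin n, i ≠ j → ∃ g : Matrix.ProjectiveSpecialLinearGroup (Fin 2) F, g • I i = J i ∧ g • I j = J j) → ∃ g : Matrix.ProjectiveSpecialLinearGroup (Fin 2) F, ∀ i, g • I i = J i) ↔
      (H = ⊥ ∨ ((∃ a : ℕ, Fintype.card F = 2 ^ a) ∧ ∃ P : Sylow 2 (Matrix.ProjectiveSpecialLinearGroup (Fin 2) F), H = P) ∨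
        ((∃ a : ℕ, Odd a ∧ Fintype.card F = 2 ^ a) ∧ Nat.card H = 3)) := by
  classical
  constructor
  · intro hb
    rcases eq_or_ne H ⊥ with hbot | hbot
    · exact Or.inl hbot
    right
    rcases Nat.even_or_odd (Fintype.card F) with he | ho
    · obtain ⟨p, hp⟩ := CharP.exists F
      have : Fact p.Prime := ⟨CharP.char_is_prime F p⟩
      obtain ⟨n, hpr, hn⟩ := FiniteField.card F p
      have hp2 : p = 2 := by
        have h2 : 2 ∣ p := Nat.prime_two.dvd_of_dvd_pow (hn ▸ even_iff_two_dvd.1 he)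
        exact ((Nat.prime_dvd_prime_iff_eq Nat.prime_two hpr).1 h2).symm
      subst hp2
      rcases CfsgLib.BinaryPSL.binary_even h4 hb hH hbot with hP | ⟨hc, hw⟩
      · exact Or.inl ⟨⟨n, hn⟩, hP⟩
      · exact Or.inr ⟨⟨n, (CfsgLib.BinaryPSL.no_omega_iff hn).1 hw, hn⟩, hc⟩
    · have h7 : 7 ≤ Fintype.card F := by
        rw [Nat.odd_iff] at ho
        omega
      exact (CfsgLib.BinaryPSL.not_binary_odd ho h7 hb hH hbot).elim
  · have char2 : (∃ a : ℕ, Fintype.card F = 2 ^ a) → CharP F 2 := by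
      rintro ⟨a, ha⟩
      obtain ⟨p, hp⟩ := CharP.exists F
      have : Fact p.Prime := ⟨CharP.char_is_prime F p⟩
      obtain ⟨n, hpr, hn⟩ := FiniteField.card F p
      have h2 : p ∣ 2 := hpr.dvd_of_dvd_pow (n := a) (ha ▸ hn ▸ dvd_pow_self p n.ne_zero)
      rwa [← (Nat.prime_dvd_prime_iff_eq hpr Nat.prime_two).1 h2]
    rintro (rfl | ⟨hq, P, rfl⟩ | ⟨⟨a, ha, hq⟩, hc⟩)
    · exact CfsgLib.BinaryPSL.isBinary_bot
    · have := char2 hq
      exact CfsgLib.BinaryPSL.isBinary_sylow P
    · have := char2 ⟨a, hq⟩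
      exact CfsgLib.BinaryPSL.isBinary_order_three ((CfsgLib.BinaryPSL.no_omega_iff hq).2 ha) hc

end Cfsg.Agent.S5736
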