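import Cfsg.Statements.S5742
import Cfsg.Agent.Lib.TwistedE6Fischer.Classes

set_option autoImplicit false
open Cfsg

namespace Cfsg.Agent.S5742

/-- The simple group ²E₆(2) (the twisted group of type E₆ over the field with 4 elements) contains at least three pairwise non-conjugate subgroups isomorphic to the Fischer group Fi₂₂. -/
theorem result {K : Type*} [Field K] [Fintype K] (hK : Fintype.card K = 4) :
    ∃ H : Fin 3 → Subgroup (Cfsg.Lie.twistedE6 K 2),
      (∀ i, Cfsg.Spor.IsoFi22 (H i)) ∧
      (∀ i j, i ≠ j → ∀ g : (Cfsg.Lie.twistedE6 K 2), (H i).map (MulAut.conj g).toMonoidHom ≠ H j) := by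
  have : Fact (Nat.Prime 2) := ⟨Nat.prime_two⟩
  have : CharP K 2 := charP_of_card_eq_prime_pow (f := 2) (by rw [hK]; norm_num)
  obtain ⟨w, hw⟩ := CfsgLib.Schur.E6Two.exists_omega hK
  exact CfsgLib.TwistedE6Fischer.fi22_classes hw (by rw [hK]; norm_num)

end Cfsg.Agent.S5742
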