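import Cfsg.Statements.S5747


set_option autoImplicit false
open Cfsg

namespace Cfsg.Agent.S5747

open MulAction

section
variable {G Ω : Type*} [Group G] [MulAction G Ω]

/-- An irredundant base of the subgroup `S`. -/
def Irr (S : Subgroup G) {t : ℕ} (f : Fin t → Ω) : Prop :=
  (∀ g : G, g ∈ S → (∀ i : Fin t, g • f i = f i) → g = 1) ∧
    ∀ i : Fin t, ∃ g : G, g ∈ S ∧ (∀ j : Fin t, j < i → g • f j = f j) ∧ g • f i ≠ f i

lemma irr_top {t : ℕ} (f : Fin t → Ω) :
    Irr (⊤ : Subgroup G) f ↔ ((∀ g : G, (∀ i : Fin t, g • f i = f i) → g = 1) ∧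
      ∀ i : Fin t, ∃ g : G, (∀ j : Fin t, j < i → g • f j = f j) ∧ g • f i ≠ f i) := by
  simp [Irr]

lemma irr_cons (S : Subgroup G) {t : ℕ} (a : Ω) (f : Fin t → Ω) :
    Irr S (Fin.cons a f : Fin (t + 1) → Ω) ↔
      ¬ S ≤ stabilizer G a ∧ Irr (S ⊓ stabilizer G a) f := by
  constructor
  · rintro ⟨hb, hi⟩
    refine ⟨fun hle => ?_, fun g hg hfix => hb g hg.1 ?_, fun i => ?_⟩
    · obtain ⟨g, hg, -, hm⟩ := hi 0
      exact hm (by rw [Fin.cons_zero]; exact hle hg)
    · intro k
      induction k using Fin.cases with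
      | zero => rw [Fin.cons_zero]; exact hg.2
      | succ k => rw [Fin.cons_succ]; exact hfix k
    · obtain ⟨g, hg, hfix, hm⟩ := hi i.succ
      refine ⟨g, ⟨hg, ?_⟩, fun j hj => ?_, ?_⟩
      · have h := hfix 0 (Fin.succ_pos i)
        rw [Fin.cons_zero] at h
        exact h
      · have h := hfix j.succ (Fin.succ_lt_succ_iff.mpr hj)
        rw [Fin.cons_succ] at h
        exact h
      · rw [Fin.cons_succ] at hm
        exact hm
  · rintro ⟨hna, hb, hi⟩
    refine ⟨fun g hg hfix => hb g ⟨hg, ?_⟩ fun i => ?_, fun k => ?_⟩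
    · have h := hfix 0
      rw [Fin.cons_zero] at h
      exact h
    · have h := hfix i.succ
      rw [Fin.cons_succ] at h
      exact h
    · induction k using Fin.cases with
      | zero =>
        obtain ⟨g, hg, hga⟩ := SetLike.not_le_iff_exists.mp hna
        exact ⟨g, hg, fun j hj => absurd hj (by simp), by rw [Fin.cons_zero]; exact hga⟩
      | succ k =>
        obtain ⟨g, hg, hfix, hm⟩ := hi k
        refine ⟨g, hg.1, fun j hj => ?_, by rw [Fin.cons_succ]; exact hm⟩
        induction j using Fin.cases with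
        | zero => rw [Fin.cons_zero]; exact hg.2
        | succ j => rw [Fin.cons_succ]; exact hfix j (Fin.succ_lt_succ_iff.mp hj)

/-- Every base contains an irredundant one, of the same length only if it is itself irredundant. -/
lemma exists_reduced : ∀ (t : ℕ) (S : Subgroup G) (h : Fin t → Ω),
    (∀ g : G, g ∈ S → (∀ i, g • h i = h i) → g = 1) →
      ∃ (t' : ℕ) (f' : Fin t' → Ω), t' ≤ t ∧ Irr S f' ∧ (t' = t → Irr S h) := by
  intro t
  induction t with
  | zero => intro S h hb; exact ⟨0, h, le_rfl, ⟨hb, fun i => i.elim0⟩, fun _ => ⟨hb, fun i => i.elim0⟩⟩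
  | succ t ih =>
    intro S h hb
    obtain ⟨a, k, rfl⟩ : ∃ a k, h = Fin.cons a k := ⟨h 0, Fin.tail h, (Fin.cons_self_tail h).symm⟩
    obtain ⟨t', f', hle, hf', heq⟩ := ih (S ⊓ stabilizer G a) k (fun g hg hfix => hb g hg.1 (by
      intro j
      induction j using Fin.cases with
      | zero => rw [Fin.cons_zero]; exact hg.2
      | succ j => rw [Fin.cons_succ]; exact hfix j))
    by_cases hS : S ≤ stabilizer G a
    · rw [inf_eq_left.mpr hS] at hf'
      exact ⟨t', f', by omega, hf', fun h => absurd h (by omega)⟩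
    · exact ⟨t' + 1, Fin.cons a f', by omega, (irr_cons S a f').mpr ⟨hS, hf'⟩,
        fun h => (irr_cons S a k).mpr ⟨hS, heq (by omega)⟩⟩

/-- Reordering is inherited by point stabilisers of moved points. -/
lemma reorder_inherit (S : Subgroup G) (hR : ∀ (s : ℕ) (u : Fin s → Ω) (σ : Equiv.Perm (Fin s)), Irr S u → Irr S (u ∘ σ))
    {a : Ω} (ha : ¬ S ≤ stabilizer G a) :
    ∀ (s : ℕ) (u : Fin s → Ω) (σ : Equiv.Perm (Fin s)),
      Irr (S ⊓ stabilizer G a) u → Irr (S ⊓ stabilizer G a) (u ∘ σ) := by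
  intro s u σ hu
  have h := hR (s + 1) (Fin.cons a u) (Equiv.Perm.decomposeFin.symm (0, σ))
    ((irr_cons S a u).mpr ⟨ha, hu⟩)
  have he : (Fin.cons a u : Fin (s + 1) → Ω) ∘ (Equiv.Perm.decomposeFin.symm (0, σ)) = Fin.cons a (u ∘ σ) := by
    funext k
    induction k using Fin.cases with
    | zero => simp
    | succ k => simp
  rw [he] at h
  exact ((irr_cons S a _).mp h).2

/-- If reordering preserves irredundance then all irredundant bases have one length. -/
lemma same_length : ∀ (t : ℕ) (S : Subgroup G),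
    (∀ (s : ℕ) (u : Fin s → Ω) (σ : Equiv.Perm (Fin s)), Irr S u → Irr S (u ∘ σ)) →
      ∀ f : Fin t → Ω, Irr S f → ∀ (t' : ℕ) (f' : Fin t' → Ω), Irr S f' → t = t' := by
  intro t
  induction t with
  | zero =>
    intro S _ f hf t' f' hf'
    by_contra hne
    obtain ⟨g, hg, -, hm⟩ := hf'.2 ⟨0, by omega⟩
    exact hm (by rw [hf.1 g hg (fun i => i.elim0), one_smul])
  | succ t ih =>
    intro S hR f hf t' f' hf'
    obtain ⟨a, A, rfl⟩ : ∃ a A, f = Fin.cons a A := ⟨f 0, Fin.tail f, (Fin.cons_self_tail f).symm⟩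
    obtain ⟨ha, hA⟩ := (irr_cons S a A).mp hf
    cases t' with
    | zero =>
      exfalso
      obtain ⟨g, hg, -, hm⟩ := hf.2 0
      exact hm (by rw [hf'.1 g hg (fun i => i.elim0), one_smul])
    | succ t' =>
      obtain ⟨b, B, rfl⟩ : ∃ b B, f' = Fin.cons b B := ⟨f' 0, Fin.tail f', (Fin.cons_self_tail f').symm⟩
      obtain ⟨hb, hB⟩ := (irr_cons S b B).mp hf'
      have key : ∀ (x y : Ω), ¬ S ≤ stabilizer G x → ¬ S ≤ stabilizer G y →
          ∀ (s : ℕ) (C : Fin s → Ω), Irr (S ⊓ stabilizer G x ⊓ stabilizer G y) C →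
          ¬ S ⊓ stabilizer G x ≤ stabilizer G y → ¬ S ⊓ stabilizer G y ≤ stabilizer G x := by
        intro x y hx hy s C hC hxy
        have h := hR (s + 2) (Fin.cons x (Fin.cons y C)) (Equiv.swap 0 1)
          ((irr_cons S x _).mpr ⟨hx, (irr_cons _ y C).mpr ⟨hxy, hC⟩⟩)
        have he : (Fin.cons x (Fin.cons y C) : Fin (s + 2) → Ω) ∘ (Equiv.swap 0 1) = Fin.cons y (Fin.cons x C) := by
          funext k
          induction k using Fin.cases with
          | zero => simp
          | succ k =>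
            induction k using Fin.cases with
            | zero => simp
            | succ k =>
              rw [Function.comp_apply, Equiv.swap_apply_of_ne_of_ne (Fin.succ_ne_zero _)
                (by rw [← Fin.succ_zero_eq_one, Ne, Fin.succ_inj]; exact Fin.succ_ne_zero _)]
              simp
        rw [he] at h
        exact ((irr_cons _ x C).mp ((irr_cons S y _).mp h).2).1
      obtain ⟨s, C, -, hC, -⟩ := exists_reduced t (S ⊓ stabilizer G a ⊓ stabilizer G b) A
        (fun g hg hfix => hA.1 g hg.1 hfix)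
      have hcomm : S ⊓ stabilizer G a ⊓ stabilizer G b = S ⊓ stabilizer G b ⊓ stabilizer G a := inf_right_comm _ _ _
      by_cases hab : S ⊓ stabilizer G a ≤ stabilizer G b
      · have hba : S ⊓ stabilizer G b ≤ stabilizer G a := by
          by_contra hba
          exact key b a hb ha s C (hcomm ▸ hC) hba hab
        have he : S ⊓ stabilizer G a = S ⊓ stabilizer G b :=
          le_antisymm (le_inf inf_le_left hab) (le_inf inf_le_left hba)
        rw [← he] at hB
        rw [ih (S ⊓ stabilizer G a) (reorder_inherit S hR ha) A hA t' B hB]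
      · have hba := key a b ha hb s C hC hab
        have h1 : t = s + 1 := ih (S ⊓ stabilizer G a) (reorder_inherit S hR ha) A hA (s + 1) (Fin.cons b C)
          ((irr_cons _ b C).mpr ⟨hab, hC⟩)
        subst h1
        rw [ih (S ⊓ stabilizer G b) (reorder_inherit S hR hb) (Fin.cons a C)
          ((irr_cons _ a C).mpr ⟨hba, hcomm ▸ hC⟩) t' B hB]

end

/-- Let a finite group G act on a finite set Ω. An irredundant base is a sequence of points ω₁, …, ω_t whose pointwise stabiliser is trivial and in which each ω_i is moved by some element fixing ω₁, …, ω_{i−1}. Then all irredundant bases have the same length if and only if every reordering of an irredundant base is again an irredundant base. -/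
theorem result {G Ω : Type*} [Group G] [Finite G] [MulAction G Ω] [Fintype Ω] :
    (∀ (t t' : ℕ) (f : Fin t → Ω) (f' : Fin t' → Ω), ((∀ g : G, (∀ i : Fin t, g • f i = f i) → g = 1) ∧ ∀ i : Fin t, ∃ g : G, (∀ j : Fin t, j < i → g • f j = f j) ∧ g • f i ≠ f i) → ((∀ g : G, (∀ i : Fin t', g • f' i = f' i) → g = 1) ∧ ∀ i : Fin t', ∃ g : G, (∀ j : Fin t', j < i → g • f' j = f' j) ∧ g • f' i ≠ f' i) → t = t') ↔
    (∀ (t : ℕ) (f : Fin t → Ω) (σ : Equiv.Perm (Fin t)), ((∀ g : G, (∀ i : Fin t, g • f i = f i) → g = 1) ∧ ∀ i : Fin t, ∃ g : G, (∀ j : Fin t, j < i → g • f j = f j) ∧ g • f i ≠ f i) → ((∀ g : G, (∀ i : Fin t, g • (f ∘ σ) i = (f ∘ σ) i) → g = 1) ∧ ∀ i : Fin t, ∃ g : G, (∀ j : Fin t, j < i → g • (f ∘ σ) j = (f ∘ σ) j) ∧ g • (f ∘ σ) i ≠ (f ∘ σ) i)) := by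
  constructor
  · intro hsize t f σ hf
    have hb : ∀ g : G, g ∈ (⊤ : Subgroup G) → (∀ i, g • (f ∘ σ) i = (f ∘ σ) i) → g = 1 := by
      intro g _ hg
      exact hf.1 g fun i => by simpa using hg (σ.symm i)
    obtain ⟨t', f', hle, hf', heq⟩ := exists_reduced t ⊤ (f ∘ σ) hb
    have h := heq (hsize t t' f f' hf ((irr_top f').mp hf')).symm
    exact (irr_top _).mp h
  · intro hre t t' f f' hf hf'
    refine same_length t ⊤ ?_ f ((irr_top f).mpr hf) t' f' ((irr_top f').mpr hf')
    intro s u σ hu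
    exact (irr_top _).mpr (hre s u σ ((irr_top u).mp hu))

end Cfsg.Agent.S5747
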