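import Cfsg.Statements.S5754


set_option autoImplicit false
open Cfsg

namespace Cfsg.Agent.S5754

open QuadraticMap

section
variable {F V : Type*} [Field F] [AddCommGroup V] [Module F V]

/-- The reflection in an anisotropic vector. -/
lemma exists_reflection (Q : QuadraticForm F V) (a : V) (ha : Q a ≠ 0) :
    ∃ s : Q.IsometryEquiv Q, ∀ x, s x = x - (polar Q x a / Q a) • a := by
  let f : V →ₗ[F] V :=
    { toFun := fun x => x - (polar Q x a / Q a) • a
      map_add' := fun x y => by rw [polar_add_left, add_div, add_smul]; abel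
      map_smul' := fun c x => by
        rw [polar_smul_left, smul_eq_mul, mul_div_assoc, ← smul_smul, RingHom.id_apply, smul_sub] }
  have hf : ∀ x, f x = x - (polar Q x a / Q a) • a := fun x => rfl
  have haa : polar Q a a = 2 * Q a := by rw [polar_self, nsmul_eq_mul]; norm_num
  have hff : ∀ x, f (f x) = x := by
    intro x
    have : polar Q (f x) a = -polar Q x a := by
      rw [hf, polar_sub_left, polar_smul_left, haa, smul_eq_mul]
      field_simp
      ring
    rw [hf (f x), this, hf, neg_div, neg_smul]
    abel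
  refine ⟨{ toLinearEquiv := LinearEquiv.ofInvolutive f hff, map_app' := fun x => ?_ }, fun x => rfl⟩
  show Q (f x) = Q x
  rw [hf, sub_eq_add_neg, ← neg_smul, QuadraticMap.map_add Q, QuadraticMap.map_smul, polar_smul_right,
    smul_eq_mul, smul_eq_mul]
  field_simp
  ring

lemma map_sub_eq (Q : QuadraticForm F V) (x y : V) : Q (x - y) = Q x + Q y - polar Q x y := by
  rw [sub_eq_add_neg, QuadraticMap.map_add Q, QuadraticMap.map_neg, polar_neg_right]
  ring

/-- Witt extension for anisotropic forms. -/
lemma extend (Q : QuadraticForm F V) (hQ : Q.Anisotropic) {ι : Type*} [Fintype ι] (w w' : ι → V)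
    (h1 : ∀ i, Q (w i) = Q (w' i)) (h2 : ∀ i j, Q (w i - w j) = Q (w' i - w' j)) :
    ∃ φ : Q.IsometryEquiv Q, ∀ i, φ (w i) = w' i := by
  classical
  suffices ∀ s : Finset ι, ∃ φ : Q.IsometryEquiv Q, ∀ i ∈ s, φ (w i) = w' i by
    obtain ⟨φ, hφ⟩ := this Finset.univ
    exact ⟨φ, fun i => hφ i (Finset.mem_univ i)⟩
  intro s
  induction s using Finset.induction_on with
  | empty => exact ⟨QuadraticMap.IsometryEquiv.refl Q, by simp⟩
  | insert j t hj ih =>
    obtain ⟨φ, hφ⟩ := ih
    by_cases hv : φ (w j) = w' j
    · exact ⟨φ, fun i hi => (Finset.mem_insert.mp hi).elim (fun h => h ▸ hv) (hφ i)⟩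
    set v := φ (w j) with hv_def
    have hQv : Q v = Q (w' j) := by rw [hv_def, IsometryEquiv.map_app, h1]
    have ha : Q (v - w' j) ≠ 0 := fun h => hv (sub_eq_zero.mp (hQ _ h))
    obtain ⟨r, hr⟩ := exists_reflection Q (v - w' j) ha
    refine ⟨φ.trans r, fun i hi => ?_⟩
    show r (φ (w i)) = w' i
    rcases Finset.mem_insert.mp hi with rfl | hi
    · have : polar Q v (v - w' i) = Q (v - w' i) := by
        rw [polar_sub_right, polar_self, nsmul_eq_mul, map_sub_eq, hQv]
        push_cast
        ring
      rw [← hv_def, hr, this, div_self ha, one_smul, sub_sub_cancel]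
    · have h3 : polar Q (φ (w i)) v = polar Q (w' i) (w' j) := by
        have e1 := map_sub_eq Q (φ (w i)) v
        have e2 := map_sub_eq Q (w' i) (w' j)
        rw [hv_def, ← map_sub, IsometryEquiv.map_app, IsometryEquiv.map_app, IsometryEquiv.map_app,
          h2, h1, h1] at e1
        rw [hv_def]
        linear_combination e1 - e2
      have : polar Q (φ (w i)) (v - w' j) = 0 := by
        rw [polar_sub_right, h3, hφ i hi, sub_self]
      rw [hr, this, zero_div, zero_smul, sub_zero, hφ i hi]

end

/-- Let V be a finite-dimensional vector space over a finite field F carrying an anisotropic quadratic form Q (Q(v) = 0 only for v = 0). Then the group of all maps v ↦ φ(v) + c, with φ an isometry of Q and c ∈ V, acts on V as a binary permutation group: given n ≥ 2 and two n-tuples u, u' of vectors such that every pair of corresponding entries of u is carried to that of u' by such a map, one such map carries u to u'. -/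
theorem result {F V : Type*} [Field F] [Finite F] [AddCommGroup V] [Module F V] [Module.Finite F V]
    (Q : QuadraticForm F V) (hQ : Q.Anisotropic) (n : ℕ) (hn : 2 ≤ n) (u u' : Fin n → V)
    (h2 : ∀ i j : Fin n, i ≠ j → ∃ (φ : Q.IsometryEquiv Q) (c : V), φ (u i) + c = u' i ∧ φ (u j) + c = u' j) :
    ∃ (φ : Q.IsometryEquiv Q) (c : V), ∀ i, φ (u i) + c = u' i := by
  have i0 : Fin n := ⟨0, by omega⟩
  have hQd : ∀ i j, Q (u i - u j) = Q (u' i - u' j) := by
    intro i j
    rcases eq_or_ne i j with rfl | hij
    · simp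
    obtain ⟨φ, c, h1, h2'⟩ := h2 i j hij
    rw [← h1, ← h2', add_sub_add_right_eq_sub, ← map_sub, QuadraticMap.IsometryEquiv.map_app]
  obtain ⟨φ, hφ⟩ := extend Q hQ (fun i => u i - u i0) (fun i => u' i - u' i0) (fun i => hQd i i0)
    (fun i j => by simpa only [sub_sub_sub_cancel_right] using hQd i j)
  refine ⟨φ, u' i0 - φ (u i0), fun i => ?_⟩
  have h := hφ i
  rw [map_sub] at h
  rw [sub_eq_iff_eq_add'.mp h]
  abel

end Cfsg.Agent.S5754
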