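import Cfsg.Statements.S5767
import Cfsg.Agent.Lib.ProductMax.Coatom

set_option autoImplicit false
open Cfsg

namespace Cfsg.Agent.S5767

open CfsgLib.ProductMax in
/-- Maximality of product-action wreath products. -/
theorem result (m k : ℕ) (hm : 5 ≤ m) (hk : 2 ≤ k) :
    (¬ (k = 2 ∧ m % 4 = 2) → ∃ M : Subgroup ↥(alternatingGroup (Fin k → Fin m)), IsCoatom M ∧ ∀ σ : ↥(alternatingGroup (Fin k → Fin m)), σ ∈ M ↔ ∃ (π : Equiv.Perm (Fin k)) (τ : Fin k → Equiv.Perm (Fin m)), ∀ (f : Fin k → Fin m) (i : Fin k), (σ : Equiv.Perm (Fin k → Fin m)) f i = τ i (f (π.symm i))) ∧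
    ((∃ σ : Equiv.Perm (Fin k → Fin m), Equiv.Perm.sign σ = -1 ∧ ∃ (π : Equiv.Perm (Fin k)) (τ : Fin k → Equiv.Perm (Fin m)), ∀ (f : Fin k → Fin m) (i : Fin k), σ f i = τ i (f (π.symm i))) →
      ∃ M : Subgroup (Equiv.Perm (Fin k → Fin m)), IsCoatom M ∧ ∀ σ, σ ∈ M ↔ ∃ (π : Equiv.Perm (Fin k)) (τ : Fin k → Equiv.Perm (Fin m)), ∀ (f : Fin k → Fin m) (i : Fin k), σ f i = τ i (f (π.symm i))) :=
  ⟨fun h => ⟨_, isCoatom_alternating hm hk h, fun _ => mem_W_iff⟩,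
    fun ⟨_, hs, hσ⟩ => ⟨_, isCoatom_symmetric hm hk (mem_W_iff.2 hσ) hs, fun _ => mem_W_iff⟩⟩

end Cfsg.Agent.S5767
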