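import Cfsg.Statements.S5769
import Cfsg.Agent.Lib.E7Two.NoSixtyFive
import Cfsg.Agent.Lib.SpecSp.PrimeGraph
import Cfsg.Agent.Lib.SpecLin.PSLOrders
import Cfsg.Agent.Lib.SpecUnitary.PSUClassify

set_option autoImplicit false
open Cfsg

namespace Cfsg.Agent.S5769

theorem no_iso {G P : Type*} [Group G] [Finite G] [Group P] (hno : ¬ ∃ z : G, orderOf z = 65)
    {H : Subgroup G} (e : ↥H ≃* P) (g : P) (hg : 65 ∣ orderOf g) : False := by
  have hfP : Finite P := Finite.of_equiv _ e.toEquiv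
  refine hno ⟨(e.symm (g ^ (orderOf g / 65)) : G), ?_⟩
  rw [Subgroup.orderOf_coe, MulEquiv.orderOf_eq e.symm, orderOf_pow_orderOf_div (orderOf_pos g).ne' hg]

/-- The Chevalley group of type E₇ over the field with two elements (generated by its root elements in the adjoint representation) has no subgroup isomorphic to any of PSL₂(64), PSp₄(8), PSL₄(8), PSU₄(8) or PSp₆(8). Here F₈ and F₆₄ denote fields with 8 and 64 elements. -/
theorem result {F₈ F₆₄ : Type*} [Field F₈] [Fintype F₈] (h8 : Fintype.card F₈ = 8) [Field F₆₄] [Fintype F₆₄] (h64 : Fintype.card F₆₄ = 64)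
    (H : Subgroup ↥(Cfsg.Lie.chevE7.group (ZMod 2))) :
    IsEmpty (↥H ≃* Matrix.ProjectiveSpecialLinearGroup (Fin 2) F₆₄) ∧ IsEmpty (↥H ≃* Cfsg.PSp 2 F₈) ∧
    IsEmpty (↥H ≃* Matrix.ProjectiveSpecialLinearGroup (Fin 4) F₈) ∧ IsEmpty (↥H ≃* Cfsg.PSU 4 F₆₄ 8) ∧ IsEmpty (↥H ≃* Cfsg.PSp 3 F₈) := by
  have : Fact (Nat.Prime 2) := ⟨Nat.prime_two⟩
  have : CharP F₆₄ 2 := charP_of_card_eq_prime_pow (p := 2) (f := 6) (by rw [h64]; norm_num)
  have hsp : ∀ n : ℕ, 2 ≤ n → ∃ g : Cfsg.PSp n F₈, 65 ∣ orderOf g := by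
    intro n hn
    obtain ⟨T, hT⟩ := CfsgLib.SpecSp.exists_torus_plus' (F := F₈) (h := 2) (by norm_num)
    obtain ⟨M, hM⟩ := CfsgLib.SpecSp.PrimeGraph.exists_pad hn T
    obtain ⟨g, hg⟩ := (CfsgLib.SpecSp.PrimeGraph.exists_order_iff (F := F₈) (n := n) (m := 65) (by omega)
      (by rw [h8]; norm_num)).2 ⟨M, by rw [hM, hT, h8]; norm_num⟩
    exact ⟨g, hg ▸ dvd_rfl⟩
  refine ⟨⟨fun e => ?_⟩, ⟨fun e => ?_⟩, ⟨fun e => ?_⟩, ⟨fun e => ?_⟩, ⟨fun e => ?_⟩⟩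
  · obtain ⟨g, hg⟩ := CfsgLib.SpecLin.PSLOrders.exists_mk_singer (F := F₆₄) (n := 2) (by norm_num)
    rw [h64] at hg
    refine no_iso CfsgLib.E7Two.no_element_65 e g (Nat.dvd_trans ?_ hg)
    decide
  · obtain ⟨g, hg⟩ := hsp 2 le_rfl
    exact no_iso CfsgLib.E7Two.no_element_65 e g hg
  · obtain ⟨g, hg⟩ := CfsgLib.SpecLin.PSLOrders.exists_mk_singer (F := F₈) (n := 4) (by norm_num)
    rw [h8] at hg
    refine no_iso CfsgLib.E7Two.no_element_65 e g (Nat.dvd_trans ?_ hg)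
    decide
  · obtain ⟨g, hg⟩ := CfsgLib.PSUTwist.exists_singer (F := F₆₄) (q := 8) (by rw [h64]; norm_num) 2
      (n := 4) (by norm_num)
    refine no_iso CfsgLib.E7Two.no_element_65 e g (Nat.dvd_trans ?_ hg)
    decide
  · obtain ⟨g, hg⟩ := hsp 3 (by norm_num)
    exact no_iso CfsgLib.E7Two.no_element_65 e g hg

end Cfsg.Agent.S5769
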