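import Cfsg.Statements.S5778
import Cfsg.Agent.Lib.Geo.AschUnit
import Cfsg.Agent.Lib.Geo.AschSU3Cases
import Cfsg.Agent.Lib.Geo.AschSU3Extra
import Cfsg.Agent.Lib.Geo.AschSU3Field

set_option autoImplicit false
open Cfsg

namespace Cfsg.Agent.S5778

open CfsgLib.Geo.Asch CfsgLib.GeomClasses Cfsg.Geo

/-- Every maximal subgroup of SU_3(q), q ≥ 3, is of one of the listed geometric types or lies in the residual class. Let F be the field with q² elements, f the standard unitary form Σ u_i v_i^q on F^3, and H a maximal subgroup of SU_3(q) (the determinant-one isometries of f, inside GL_3(F)). Then H is the intersection with SU_3(q) of one of: the stabiliser of a non-zero subspace on which f vanishes; the stabiliser of a non-degenerate 1-space; for q ≠ 5, the stabiliser of a decomposition into three mutually orthogonal non-degenerate 1-spaces; for q ≠ 3, 5, the normaliser of an adjoint-closed degree-3 subfield of the matrix algebra; a subfield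 group of odd prime index whose F₀-structure carries f; for q odd, q ≥ 7, a subfield group of index 2 whose F₀-structure carries f; for q = p ≡ 2 mod 3 prime with p ≥ 11, the normaliser of an absolutely irreducible subgroup of order 27 with centre of order 3, exponent 3 and all characteristic abelian subgroups cyclic, contained in the similarity group of f — or else H lies in the residual class of the unitary case. -/
theorem result {F : Type*} [Field F] [Fintype F] (q : ℕ) (hF : Fintype.card F = q ^ 2) (hq : 3 ≤ q) (H : Subgroup (Matrix.GeneralLinearGroup (Fin 3) F)) (hH : Cfsg.Geo.IsMaximalIn (Cfsg.GU 3 F q ⊓ Cfsg.Geo.specialLinear (Fin 3) F) H) :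
    (∃ W : Submodule F (Fin 3 → F), W ≠ ⊥ ∧ Cfsg.Geo.IsTotallySingularFor (Cfsg.hermForm 3 F q) W ∧ H = Cfsg.Geo.subspaceStabilizer W ⊓ (Cfsg.GU 3 F q ⊓ Cfsg.Geo.specialLinear (Fin 3) F)) ∨
    (∃ W : Submodule F (Fin 3 → F), W ≠ ⊥ ∧ Cfsg.Geo.IsNondegenerateOn (Cfsg.hermForm 3 F q) W ∧ 2 * Module.finrank F W < 3 ∧ H = Cfsg.Geo.subspaceStabilizer W ⊓ (Cfsg.GU 3 F q ⊓ Cfsg.Geo.specialLinear (Fin 3) F)) ∨
    (q ≠ 5 ∧ ∃ D : Fin 3 → Submodule F (Fin 3 → F), Cfsg.Geo.IsNondegenerateMDecomposition (Cfsg.hermForm 3 F q) 1 D ∧ H = Cfsg.Geo.decompositionStabilizer D ⊓ (Cfsg.GU 3 F q ⊓ Cfsg.Geo.specialLinear (Fin 3) F)) ∨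
    (q ≠ 3 ∧ q ≠ 5 ∧ ∃ K : Subalgebra F (Matrix (Fin 3) (Fin 3) F), Cfsg.Geo.IsFieldSubalgebra 3 K ∧ Cfsg.Geo.IsAdjointClosedFor (Cfsg.hermForm 3 F q) K ∧ H = Cfsg.Geo.subalgebraNormalizer K ⊓ (Cfsg.GU 3 F q ⊓ Cfsg.Geo.specialLinear (Fin 3) F)) ∨
    (∃ (F₀ : Subfield F) (r : ℕ) (P : Matrix.GeneralLinearGroup (Fin 3) F), r.Prime ∧ Odd r ∧ Fintype.card F = Nat.card F₀ ^ r ∧ Cfsg.Geo.IsFormRationalStructure (Cfsg.hermForm 3 F q) F₀ 1 P ∧ H = Cfsg.Geo.subfieldSubgroup F₀ P ⊓ (Cfsg.GU 3 F q ⊓ Cfsg.Geo.specialLinear (Fin 3) F)) ∨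
    (Odd q ∧ 7 ≤ q ∧ ∃ (F₀ : Subfield F) (P : Matrix.GeneralLinearGroup (Fin 3) F), Fintype.card F = Nat.card F₀ ^ 2 ∧ Cfsg.Geo.IsFormRationalStructure (Cfsg.hermForm 3 F q) F₀ 1 P ∧ H = Cfsg.Geo.subfieldSubgroup F₀ P ⊓ (Cfsg.GU 3 F q ⊓ Cfsg.Geo.specialLinear (Fin 3) F)) ∨
    (∃ (p : ℕ) (R : Subgroup (Matrix.GeneralLinearGroup (Fin 3) F)), p.Prime ∧ q = p ∧ p % 3 = 2 ∧ 11 ≤ p ∧ Cfsg.Geo.IsSymplecticTypeGroup 3 R ∧ Cfsg.Geo.ActsAbsolutelyIrreducibly (Cfsg.Geo.matrixSet R) ∧ R ≤ Cfsg.Geo.similarityGroup (Cfsg.hermForm 3 F q) ∧ Nat.card R = 27 ∧ Nat.card (Subgroup.center R) = 3 ∧ H = Cfsg.Geo.subgroupNormalizer R ⊓ (Cfsg.GU 3 F q ⊓ Cfsg.Geo.specialLinear (Fin 3) F)) ∨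
    Cfsg.Geo.InUnitaryResidualClass H := by
  classical
  set f := Cfsg.hermForm 3 F q with hfdef
  set σ := UnitPow.conj hF with hσdef
  have hσq : ∀ x, σ x = x ^ q := fun x => UnitPow.conj_apply hF x
  have hf : IsUnitaryForm σ f := UnitPow.isUnitaryForm_hermForm hF 3
  set Ω := Cfsg.GU 3 F q ⊓ specialLinear (Fin 3) F with hΩdef
  have hU : HasUTv σ f Ω :=
    fun v c hv hc => ⟨UnitPow.mem_GU.2 (Unit.formTv_isometry hf hv hc), formTv_mem_specialLinear _ _ _⟩
  have hq0 : q ≠ 0 := by omega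
  have he : ∀ i j : Fin 3, f (Pi.single i 1) (Pi.single j 1) = if i = j then 1 else 0 := fun i j => by
    by_cases hij : i = j
    · simp [hfdef, Cfsg.hermForm, Pi.single_apply, hij, hq0]
    · simp [hfdef, Cfsg.hermForm, Pi.single_apply, hij, Ne.symm hij, hq0]
  have hDec : ∀ D : Fin 3 → Submodule F (Fin 3 → F), IsNondegenerateMDecomposition f 1 D →
      ¬ Ω ≤ decompositionStabilizer D := fun D hD => SU3Small.utv_not_le_frame_three hf hF hq hU hD
  have hR : ∀ (N : Subgroup (Matrix.GeneralLinearGroup (Fin 3) F)) (p e : ℕ), p.Prime → CharP F p → q = p ^ e →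
      2 * e ∣ 3 - 1 → p ^ e % 3 = 3 - 1 → PrimeType N → ¬ Ω ≤ subgroupNormalizer N := by
    intro N p e hp hchar hqp he2 hmod hN
    haveI := hchar
    obtain rfl : e = 1 := by
      have hle : 2 * e ≤ 2 := Nat.le_of_dvd (by norm_num) he2
      rcases Nat.eq_zero_or_pos e with rfl | h
      · simp at he2
      · omega
    rw [pow_one] at hqp hmod
    subst hqp
    refine SU3Small.utv_not_le_normalizer_three hf ?_ ?_ hU hN <;> intro h
    · have h' : ((2 : ℕ) : F) = 0 := by exact_mod_cast h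
      have := Nat.le_of_dvd (by norm_num) ((CharP.cast_eq_zero_iff F q 2).1 h')
      omega
    · have h' : ((3 : ℕ) : F) = 0 := by exact_mod_cast h
      have := (Nat.prime_dvd_prime_iff_eq hp Nat.prime_three).1 ((CharP.cast_eq_zero_iff F q 3).1 h')
      subst this
      norm_num at hmod
  rcases unitary_prime_cases_gen (σ := σ) (n := 3) (by norm_num) le_rfl hF hσq hf he
      (Ω := Ω) (fun g => ⟨fun h => ⟨UnitPow.mem_GU.1 h.1, h.2⟩, fun h => ⟨UnitPow.mem_GU.2 h.1, h.2⟩⟩) hH hR hDec with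
    h | h | ⟨D, hD, hEq⟩ | ⟨K, hK, hadj, ⟨N, hNH, hinv, hns, hirr, hab⟩, hEq⟩ | h | ⟨hodd, F₀, P, hc, hform, hEq⟩ |
    ⟨p, e, R, hp, hchar, hqp, hdvd, hhalf, hmind, hsym, habs, hRΩ, hcard, hcen, hEq⟩ | h
  · exact Or.inl h
  · exact Or.inr (Or.inl h)
  · refine Or.inr (Or.inr (Or.inl ⟨?_, D, hD, hEq⟩))
    rintro rfl
    obtain ⟨s, hm⟩ := SU3Small.exists_model (Or.inr rfl) hF
    exact SU3Small.lines_false hm hH hD (hEq.le.trans inf_le_left)
  · refine Or.inr (Or.inr (Or.inr (Or.inl ⟨?_, ?_, K, hK, hadj, hEq⟩))) <;> rintro rfl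
    · exact SU3Small.field_false (Or.inl rfl) hF hH hNH hinv hns hirr hab
    · exact SU3Small.field_false (Or.inr rfl) hF hH hNH hinv hns hirr hab
  · exact Or.inr (Or.inr (Or.inr (Or.inr (Or.inl h))))
  · have hcF : Nat.card F₀ = q := Nat.pow_left_injective two_ne_zero (hc.symm.trans hF)
    by_cases h7 : 7 ≤ q
    · exact Or.inr (Or.inr (Or.inr (Or.inr (Or.inr (Or.inl ⟨hodd, h7, F₀, P, hc, hform, hEq⟩)))))
    obtain rfl | rfl : q = 3 ∨ q = 5 := by
      obtain ⟨k, hk⟩ := hodd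
      omega
    · obtain ⟨D, hD, hle⟩ := SU3Small.real_three_le_frame hF hH.1.le hcF hform (hEq.le.trans inf_le_left)
      exact Or.inr (Or.inr (Or.inl ⟨by norm_num, D, hD, eq_inf_of_le hH hle (hDec D hD)⟩))
    · obtain ⟨s, hm⟩ := SU3Small.exists_model (Or.inr rfl) hF
      exact (SU3Small.real_false hm hH hcF hform (hEq.le.trans inf_le_left)).elim
  · obtain rfl : e = 1 := by
      have hle : 2 * e ≤ 2 := Nat.le_of_dvd (by norm_num) hdvd
      rcases Nat.eq_zero_or_pos e with rfl | h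
      · simp at hdvd
      · omega
    rw [pow_one] at hqp hhalf
    have hcard27 : Nat.card R = 27 := by rw [hcard]; norm_num
    have hp11 : 11 ≤ p := by
      by_contra hlt
      subst hqp
      obtain h5 | h8 : q = 5 ∨ q = 8 := by omega
      swap
      · rw [h8] at hp; norm_num at hp
      subst h5
      obtain ⟨s, hm⟩ := SU3Small.exists_model (Or.inr rfl) hF
      have hnab : ¬ ∀ x ∈ R, ∀ y ∈ R, x * y = y * x := fun hab =>
        not_le_scalars_of_irreducible habs.1 (by simp) fun g hg => by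
          obtain ⟨c, hc⟩ := habs.2 (g : Matrix (Fin 3) (Fin 3) F) (by
            rintro _ ⟨y, hy, rfl⟩
            show (g : Matrix (Fin 3) (Fin 3) F) * y = y * g
            rw [← Units.val_mul, hab g hg y hy, Units.val_mul])
          exact (mem_scalars_iff g).2 ⟨Units.mk0 c (fun h0 => g.ne_zero (by rw [hc, h0, zero_smul])), hc⟩
      have hspan := algOf_eq_top_of_prime (show (Fintype.card (Fin 3)).Prime by simp; norm_num) habs.1 hnab
      haveI : Fact (Nat.Prime 3) := ⟨by norm_num⟩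
      have hquot : Nat.card (R ⧸ Subgroup.center R) = 3 ^ 2 := by
        have h := Subgroup.card_eq_card_quotient_mul_card_subgroup (Subgroup.center R)
        rw [hcard27, hcen] at h
        omega
      have hcls : ∀ x ∈ R, ∀ y ∈ R, x * y * x⁻¹ * y⁻¹ ∈ scalars (Fin 3) F := by
        intro x hx y hy
        have hcomm := IsPGroup.commutative_of_card_eq_prime_sq hquot
          (QuotientGroup.mk' (Subgroup.center R) ⟨x, hx⟩) (QuotientGroup.mk' (Subgroup.center R) ⟨y, hy⟩)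
        set z : R := ⟨x, hx⟩ * ⟨y, hy⟩ * (⟨x, hx⟩ : R)⁻¹ * (⟨y, hy⟩ : R)⁻¹ with hzdef
        have hz : z ∈ Subgroup.center R := by
          rw [← QuotientGroup.eq_one_iff, ← QuotientGroup.mk'_apply, hzdef, map_mul, map_mul, map_mul, map_inv, map_inv,
            hcomm]
          group
        refine mem_scalars_of_commute hspan fun w hw => ?_
        exact (congrArg Subtype.val (Subgroup.mem_center_iff.1 hz ⟨w, hw⟩)).symm
      exact SU3Small.extra_false hm hH ⟨fun g hg => (hRΩ hg).2, hspan, hcls⟩ hRΩ (hEq.le.trans inf_le_left)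
    refine Or.inr (Or.inr (Or.inr (Or.inr (Or.inr (Or.inr (Or.inl ⟨p, R, hp, hqp, by omega, hp11, hsym, habs,
      fun g hg => ⟨1, fun u v => by rw [Units.val_one, one_mul]; exact UnitPow.mem_GU.1 (hRΩ hg).1 u v⟩,
      hcard27, hcen, hEq⟩))))))
  · exact Or.inr (Or.inr (Or.inr (Or.inr (Or.inr (Or.inr (Or.inr h))))))

end Cfsg.Agent.S5778
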