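import Cfsg.Statements.S5781
import Cfsg.Agent.Lib.Geo.AschLinearFull
import Cfsg.Agent.Lib.Geo.AschSmallFour
-- import your own Cfsg.Agent.* helpers here

set_option autoImplicit false
open Cfsg

namespace Cfsg.Agent.S5781

open CfsgLib.Geo.Asch

/-- Every maximal subgroup of SL_4(q) is of one of the listed geometric types or lies in the residual class. Let F be a finite field with q elements and H a maximal subgroup of SL_4(F) (inside GL_4(F)). Then H is the intersection with SL_4(F) of one of: the stabiliser of a proper non-zero subspace; for q ≥ 7, the stabiliser of a decomposition into four independent lines; for q ≥ 4, the stabiliser of a decomposition into two independent planes; the normaliser of a degree-2 subfield of the matrix algebra; a subfield group for a subfield F₀ with |F| = |F₀|^r, r prime; for q = p ≡ 1 mod 4 prime, the normaliser of an absolutely irreducible 2-subgroup R of exponent 4 with centre of order 4, all of whose characteristic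 abelian subgroups are cyclic, of order 2^(2+2m) for some m (here |R| = 64), with 4 dividing p − 1; for q odd, the similarity group of a non-degenerate quadratic form; the similarity group of a non-degenerate symplectic form; the similarity group of a non-degenerate unitary form — or else H lies in the residual class of the linear case. -/
theorem result {F : Type*} [Field F] [Fintype F] (H : Subgroup (Matrix.GeneralLinearGroup (Fin 4) F)) (hH : Cfsg.Geo.IsMaximalIn (Cfsg.Geo.specialLinear (Fin 4) F) H) :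
    (∃ W : Submodule F (Fin 4 → F), W ≠ ⊥ ∧ W ≠ ⊤ ∧ H = Cfsg.Geo.subspaceStabilizer W ⊓ Cfsg.Geo.specialLinear (Fin 4) F) ∨
    (7 ≤ Fintype.card F ∧ ∃ D : Fin 4 → Submodule F (Fin 4 → F), Cfsg.Geo.IsMDecomposition 1 D ∧ H = Cfsg.Geo.decompositionStabilizer D ⊓ Cfsg.Geo.specialLinear (Fin 4) F) ∨
    (4 ≤ Fintype.card F ∧ ∃ D : Fin 2 → Submodule F (Fin 4 → F), Cfsg.Geo.IsMDecomposition 2 D ∧ H = Cfsg.Geo.decompositionStabilizer D ⊓ Cfsg.Geo.specialLinear (Fin 4) F) ∨
    (∃ K : Subalgebra F (Matrix (Fin 4) (Fin 4) F), Cfsg.Geo.IsFieldSubalgebra 2 K ∧ H = Cfsg.Geo.subalgebraNormalizer K ⊓ Cfsg.Geo.specialLinear (Fin 4) F) ∨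
    (∃ (F₀ : Subfield F) (r : ℕ) (P : Matrix.GeneralLinearGroup (Fin 4) F), r.Prime ∧ Fintype.card F = Nat.card F₀ ^ r ∧ H = Cfsg.Geo.subfieldSubgroup F₀ P ⊓ Cfsg.Geo.specialLinear (Fin 4) F) ∨
    (∃ (p : ℕ) (R : Subgroup (Matrix.GeneralLinearGroup (Fin 4) F)), p.Prime ∧ Fintype.card F = p ∧ p % 4 = 1 ∧ Cfsg.Geo.IsLinearSymplecticTypeData 2 R ∧ H = Cfsg.Geo.subgroupNormalizer R ⊓ Cfsg.Geo.specialLinear (Fin 4) F) ∨
    (Odd (Fintype.card F) ∧ ∃ Q : (Fin 4 → F) → F, Cfsg.Geo.IsNondegenerateQuadraticForm Q ∧ H = Cfsg.Geo.quadSimilarityGroup Q ⊓ Cfsg.Geo.specialLinear (Fin 4) F) ∨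
    (∃ f : (Fin 4 → F) → (Fin 4 → F) → F, Cfsg.Geo.IsSymplecticForm f ∧ H = Cfsg.Geo.similarityGroup f ⊓ Cfsg.Geo.specialLinear (Fin 4) F) ∨
    (∃ (σ : F ≃+* F) (f : (Fin 4 → F) → (Fin 4 → F) → F), Cfsg.Geo.IsUnitaryForm σ f ∧ H = Cfsg.Geo.similarityGroup f ⊓ Cfsg.Geo.specialLinear (Fin 4) F) ∨
    Cfsg.Geo.InLinearResidualClass H := by
  classical
  haveI : Nonempty (Fin 4) := ⟨0⟩
  have hn3 : 3 ≤ Fintype.card (Fin 4) := by simp
  have hp : IsPrimePow (Fintype.card F) := FiniteField.isPrimePow_card F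
  rcases linear_maximal_cases (show 3 ≤ 4 by norm_num) hH with h | ⟨t, m, D, hD, htm, hEq⟩ |
    ⟨r, K, hr, hrn, hK, hEq⟩ | ⟨a, b, e, P, ha, hlt, hab, hEq⟩ | h | ⟨r, m, R, hR, hd, hEq⟩ |
    ⟨a, t, e, P, ha, ht, hn', hEq⟩ | h | h | h | h
  · exact Or.inl (h)
  · obtain htm' : (t = 4 ∧ m = 1) ∨ (t = 2 ∧ m = 2) := by
      have hle : t ≤ 4 := Nat.le_of_dvd (by norm_num) ⟨m, htm.symm⟩
      have h2 := hD.two_le
      interval_cases t <;> omega
    have h1 := Fintype.one_lt_card (α := F)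
    rcases htm' with ⟨rfl, rfl⟩ | ⟨rfl, rfl⟩
    · by_cases hq : 7 ≤ Fintype.card F
      · exact Or.inr (Or.inl (⟨hq, D, hD, hEq⟩))
      obtain hq2 | hq2 | hq2 | hq2 | hq2 : Fintype.card F = 2 ∨ Fintype.card F = 3 ∨ Fintype.card F = 4 ∨
          Fintype.card F = 5 ∨ Fintype.card F = 6 := by omega
      · obtain ⟨W, hW1, hW2, hle⟩ := decomposition_le_subspace_two hq2 (by simp) hD
        have hEq' := eq_inf_of_le hH (le_trans (hEq.le.trans inf_le_left) hle) (not_specialLinear_le_subspace hW1 hW2)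
        exact Or.inl (⟨W, hW1, hW2, hEq'⟩)
      · obtain ⟨Q, hQ, hle⟩ := decomposition_le_quad_three hq2 hD
        have hEq' := eq_inf_of_le hH (le_trans (hEq.le.trans inf_le_left) hle) (not_specialLinear_le_quad hn3 hQ)
        exact Or.inr (Or.inr (Or.inr (Or.inr (Or.inr (Or.inr (Or.inl (⟨by rw [hq2]; decide, Q, hQ, hEq'⟩)))))))
      · obtain ⟨σ, f, hf, hle⟩ := decomposition_le_unitary_four hq2 hD
        have hEq' := eq_inf_of_le hH (le_trans (hEq.le.trans inf_le_left) hle) (not_specialLinear_le_similarity hn3 (unitary_isSesq hf) hf.nondegenerate)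
        exact Or.inr (Or.inr (Or.inr (Or.inr (Or.inr (Or.inr (Or.inr (Or.inr (Or.inl (⟨σ, f, hf, hEq'⟩)))))))))
      · obtain ⟨R, hR, hdata, hle⟩ := decomposition_le_normalizer_five hq2 hD
        have hEq' := eq_inf_of_le hH (le_trans (hEq ▸ le_rfl) hle) hR.not_specialLinear_le_normalizer
        exact Or.inr (Or.inr (Or.inr (Or.inr (Or.inr (Or.inl (⟨5, R, by norm_num, hq2, by norm_num, hdata, hEq'⟩))))))
      · exfalso
        rw [hq2, isPrimePow_nat_iff] at hp
        obtain ⟨p, k, hpp, hk, hpk⟩ := hp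
        have h2 := (Nat.prime_dvd_prime_iff_eq Nat.prime_two hpp).1 (Nat.prime_two.dvd_of_dvd_pow (show 2 ∣ p ^ k by omega))
        have h3 := (Nat.prime_dvd_prime_iff_eq Nat.prime_three hpp).1 (Nat.prime_three.dvd_of_dvd_pow (show 3 ∣ p ^ k by omega))
        omega
    · by_cases hq : 4 ≤ Fintype.card F
      · exact Or.inr (Or.inr (Or.inl (⟨hq, D, hD, hEq⟩)))
      obtain hq2 | hq2 : Fintype.card F = 2 ∨ Fintype.card F = 3 := by omega
      · obtain ⟨f, hf, hle⟩ := decomposition_le_symplectic_two hq2 hD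
        have hEq' := eq_inf_of_le hH (le_trans (hEq.le.trans inf_le_left) hle) (not_specialLinear_le_similarity hn3 (symplectic_isSesq hf) hf.nondegenerate)
        exact Or.inr (Or.inr (Or.inr (Or.inr (Or.inr (Or.inr (Or.inr (Or.inl (⟨f, hf, hEq'⟩))))))))
      · obtain ⟨f, hf, hle⟩ := decomposition_le_symplectic_three hq2 hD
        have hEq' := eq_inf_of_le hH (le_trans (hEq ▸ le_rfl) hle) (not_specialLinear_le_similarity hn3 (symplectic_isSesq hf) hf.nondegenerate)
        exact Or.inr (Or.inr (Or.inr (Or.inr (Or.inr (Or.inr (Or.inr (Or.inl (⟨f, hf, hEq'⟩))))))))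
  · obtain rfl := (Nat.prime_dvd_prime_iff_eq hr Nat.prime_two).1 (hr.dvd_of_dvd_pow (show r ∣ 2 ^ 2 from hrn))
    exact Or.inr (Or.inr (Or.inr (Or.inl (⟨K, hK, hEq⟩))))
  · exfalso
    nlinarith
  · exact Or.inr (Or.inr (Or.inr (Or.inr (Or.inl (h)))))
  · obtain rfl : r = 2 := by
      have hdeg := hR.deg
      rw [Fintype.card_fin] at hdeg
      have hm : m ≠ 0 := by rintro rfl; simp at hdeg
      exact (Nat.prime_dvd_prime_iff_eq hR.prime Nat.prime_two).1 (hR.prime.dvd_of_dvd_pow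
        (show r ∣ 2 ^ 2 from (dvd_pow_self r hm).trans (dvd_of_eq hdeg.symm)))
    obtain ⟨p, e, hp2, ⟨hpp, hchar, hcard, hdvd, hmin⟩, hcases⟩ := hd.field
    rcases hcases with ⟨h2, -⟩ | ⟨-, rfl, hZ, -⟩ | ⟨-, -, h2, -⟩
    · exact absurd h2 (by decide)
    · rw [pow_one] at hcard hdvd
      rw [hZ] at hdvd
      have := hpp.two_le
      have hp4 : p % 4 = 1 := by omega
      exact Or.inr (Or.inr (Or.inr (Or.inr (Or.inr (Or.inl (⟨p, R, hpp, hcard, hp4, hd, hEq⟩))))))
    · simp at h2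
  · exfalso
    have := Nat.le_self_pow (show t ≠ 0 by omega) a
    have h9 : 3 ^ 2 ≤ a ^ t := (Nat.pow_le_pow_right (by norm_num) ht).trans (Nat.pow_le_pow_left ha t)
    omega
  · exact Or.inr (Or.inr (Or.inr (Or.inr (Or.inr (Or.inr (Or.inl (h)))))))
  · exact Or.inr (Or.inr (Or.inr (Or.inr (Or.inr (Or.inr (Or.inr (Or.inl (h))))))))
  · exact Or.inr (Or.inr (Or.inr (Or.inr (Or.inr (Or.inr (Or.inr (Or.inr (Or.inl (h)))))))))
  · exact Or.inr (Or.inr (Or.inr (Or.inr (Or.inr (Or.inr (Or.inr (Or.inr (Or.inr (h)))))))))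

end Cfsg.Agent.S5781
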