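import Cfsg.Statements.S5784
import Cfsg.Agent.Lib.Geo.AschUnitFour
import Cfsg.Agent.Lib.Geo.AschUnitPowerArith
import Cfsg.Agent.Lib.Geo.AschTypeRFour
import Cfsg.Agent.Lib.Geo.AschFrameFour
import Cfsg.Agent.Lib.GeomClasses.UnitPow

set_option autoImplicit false
open Cfsg

namespace Cfsg.Agent.S5784

open CfsgLib.Geo.Asch CfsgLib.GeomClasses

/-- Every maximal subgroup of SU_4(q) is of one of the listed geometric types or lies in the residual class. Let F be the field with q² elements, f the standard unitary form Σ u_i v_i^q on F^4, and H a maximal subgroup of SU_4(q) (inside GL_4(F)). Then H is the intersection with SU_4(q) of one of: the stabiliser of a non-zero subspace on which f vanishes; the stabiliser of a non-degenerate 1-space; for q ≠ 3, the stabiliser of a decomposition into four mutually orthogonal non-degenerate 1-spaces; for q ≥ 3, of a decomposition into two orthogonal non-degenerate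 2-spaces; for q ≥ 4, of a decomposition into two totally isotropic 2-spaces; a subfield group of odd prime index whose F₀-structure carries f; a subfield group of index 2 whose F₀-structure carries ζ f, vanishing on pairs (u, u), for some non-zero ζ with ζ + ζ^q = 0; for q odd, a subfield group of index 2 whose F₀-structure carries f; for q = p ≡ 3 mod 4 prime, the normaliser of an absolutely irreducible symplectic-type 2-group of exponent 4, order 64 and centre of order 4 inside the similarity group of f — or else H lies in the residual class of the unitary case. -/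
theorem result {F : Type*} [Field F] [Fintype F] (q : ℕ) (hF : Fintype.card F = q ^ 2) (H : Subgroup (Matrix.GeneralLinearGroup (Fin 4) F)) (hH : Cfsg.Geo.IsMaximalIn (Cfsg.GU 4 F q ⊓ Cfsg.Geo.specialLinear (Fin 4) F) H) :
    (∃ W : Submodule F (Fin 4 → F), W ≠ ⊥ ∧ Cfsg.Geo.IsTotallySingularFor (Cfsg.hermForm 4 F q) W ∧ H = Cfsg.Geo.subspaceStabilizer W ⊓ (Cfsg.GU 4 F q ⊓ Cfsg.Geo.specialLinear (Fin 4) F)) ∨
    (∃ W : Submodule F (Fin 4 → F), W ≠ ⊥ ∧ Cfsg.Geo.IsNondegenerateOn (Cfsg.hermForm 4 F q) W ∧ 2 * Module.finrank F W < 4 ∧ H = Cfsg.Geo.subspaceStabilizer W ⊓ (Cfsg.GU 4 F q ⊓ Cfsg.Geo.specialLinear (Fin 4) F)) ∨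
    (q ≠ 3 ∧ ∃ D : Fin 4 → Submodule F (Fin 4 → F), Cfsg.Geo.IsNondegenerateMDecomposition (Cfsg.hermForm 4 F q) 1 D ∧ H = Cfsg.Geo.decompositionStabilizer D ⊓ (Cfsg.GU 4 F q ⊓ Cfsg.Geo.specialLinear (Fin 4) F)) ∨
    (3 ≤ q ∧ ∃ D : Fin 2 → Submodule F (Fin 4 → F), Cfsg.Geo.IsNondegenerateMDecomposition (Cfsg.hermForm 4 F q) 2 D ∧ H = Cfsg.Geo.decompositionStabilizer D ⊓ (Cfsg.GU 4 F q ⊓ Cfsg.Geo.specialLinear (Fin 4) F)) ∨
    (4 ≤ q ∧ ∃ D : Fin 2 → Submodule F (Fin 4 → F), Cfsg.Geo.IsMDecomposition 2 D ∧ (∀ i, Cfsg.Geo.IsTotallySingularFor (Cfsg.hermForm 4 F q) (D i)) ∧ H = Cfsg.Geo.decompositionStabilizer D ⊓ (Cfsg.GU 4 F q ⊓ Cfsg.Geo.specialLinear (Fin 4) F)) ∨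
    (∃ (F₀ : Subfield F) (r : ℕ) (P : Matrix.GeneralLinearGroup (Fin 4) F), r.Prime ∧ Odd r ∧ Fintype.card F = Nat.card F₀ ^ r ∧ Cfsg.Geo.IsFormRationalStructure (Cfsg.hermForm 4 F q) F₀ 1 P ∧ H = Cfsg.Geo.subfieldSubgroup F₀ P ⊓ (Cfsg.GU 4 F q ⊓ Cfsg.Geo.specialLinear (Fin 4) F)) ∨
    (∃ (F₀ : Subfield F) (P : Matrix.GeneralLinearGroup (Fin 4) F) (ζ : F), Fintype.card F = Nat.card F₀ ^ 2 ∧ ζ ≠ 0 ∧ ζ + ζ ^ q = 0 ∧ Cfsg.Geo.IsFormRationalStructure (Cfsg.hermForm 4 F q) F₀ ζ P ∧ (∀ u : Fin 4 → F, (∀ i, u i ∈ F₀) → (Cfsg.hermForm 4 F q) (Matrix.mulVec (P : Matrix (Fin 4) (Fin 4) F) u) (Matrix.mulVec (P : Matrix (Fin 4) (Fin 4) F) u) = 0) ∧ H = Cfsg.Geo.subfieldSubgroup F₀ P ⊓ (Cfsg.GU 4 F q ⊓ Cfsg.Geo.specialLinear (Fin 4) F)) ∨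
    (Odd q ∧ ∃ (F₀ : Subfield F) (P : Matrix.GeneralLinearGroup (Fin 4) F), Fintype.card F = Nat.card F₀ ^ 2 ∧ Cfsg.Geo.IsFormRationalStructure (Cfsg.hermForm 4 F q) F₀ 1 P ∧ H = Cfsg.Geo.subfieldSubgroup F₀ P ⊓ (Cfsg.GU 4 F q ⊓ Cfsg.Geo.specialLinear (Fin 4) F)) ∨
    (∃ (p : ℕ) (R : Subgroup (Matrix.GeneralLinearGroup (Fin 4) F)), p.Prime ∧ q = p ∧ p % 4 = 3 ∧ Cfsg.Geo.IsSymplecticTypeGroup 2 R ∧ Cfsg.Geo.ActsAbsolutelyIrreducibly (Cfsg.Geo.matrixSet R) ∧ R ≤ Cfsg.Geo.similarityGroup (Cfsg.hermForm 4 F q) ∧ Nat.card R = 64 ∧ Nat.card (Subgroup.center R) = 4 ∧ H = Cfsg.Geo.subgroupNormalizer R ⊓ (Cfsg.GU 4 F q ⊓ Cfsg.Geo.specialLinear (Fin 4) F)) ∨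
    Cfsg.Geo.InUnitaryResidualClass H := by
  classical
  haveI : Nonempty (Fin 4) := ⟨0⟩
  have hN : Fintype.card (Fin 4) = 4 := Fintype.card_fin _
  set σ := UnitPow.conj hF with hσdef
  have hσq : ∀ x, σ x = x ^ q := fun x => UnitPow.conj_apply hF x
  have hf : Cfsg.Geo.IsUnitaryForm σ (Cfsg.hermForm 4 F q) := UnitPow.isUnitaryForm_hermForm hF 4
  set Ω := Cfsg.GU 4 F q ⊓ Cfsg.Geo.specialLinear (Fin 4) F with hΩdef
  have hΩ : HasUTv σ (Cfsg.hermForm 4 F q) Ω :=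
    fun v c hv hc => ⟨UnitPow.mem_GU.2 (Unit.formTv_isometry hf hv hc), formTv_mem_specialLinear _ _ _⟩
  have hΩf : IsoGrp (Cfsg.hermForm 4 F q) Ω := fun g hg => UnitPow.mem_GU.1 hg.1
  have he : ∀ i j : Fin 4, Cfsg.hermForm 4 F q (Pi.single i 1) (Pi.single j 1) = if i = j then 1 else 0 := fun i j => by
    have hq0 : q ≠ 0 := by have := UnitPow.two_le hF; omega
    by_cases hij : i = j
    · simp [Cfsg.hermForm, Pi.single_apply, hij, hq0]
    · simp [Cfsg.hermForm, Pi.single_apply, hij, Ne.symm hij, hq0]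
  have hh := herm_unitary hf
  have hHf : IsoGrp (Cfsg.hermForm 4 F q) H := fun g hg => hΩf g (hH.1.le hg)
  have hHd : H ≤ Cfsg.Geo.specialLinear (Fin 4) F := fun g hg => (hH.1.le hg).2
  have hn2 : 2 ≤ Fintype.card (Fin 4) := by omega
  have hn3 : 3 ≤ Fintype.card (Fin 4) := by omega
  have hq2 := UnitPow.two_le hF
  have finR : ∀ (p : ℕ) (R : Subgroup (Matrix.GeneralLinearGroup (Fin 4) F)), p.Prime → q = p → p % 4 = 3 →
      TypeR 2 2 R → Cfsg.Geo.IsSymplecticTypeGroup 2 R → Nat.card (Subgroup.center R) = 4 →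
      (∀ g ∈ R, ∀ u v, Cfsg.hermForm 4 F q (Matrix.mulVec (g : Matrix (Fin 4) (Fin 4) F) u)
        (Matrix.mulVec (g : Matrix (Fin 4) (Fin 4) F) v) = Cfsg.hermForm 4 F q u v) →
      H ≤ Cfsg.Geo.subgroupNormalizer R →
      ∃ (p : ℕ) (R : Subgroup (Matrix.GeneralLinearGroup (Fin 4) F)), p.Prime ∧ q = p ∧ p % 4 = 3 ∧
        Cfsg.Geo.IsSymplecticTypeGroup 2 R ∧ Cfsg.Geo.ActsAbsolutelyIrreducibly (Cfsg.Geo.matrixSet R) ∧
        R ≤ Cfsg.Geo.similarityGroup (Cfsg.hermForm 4 F q) ∧ Nat.card R = 64 ∧ Nat.card (Subgroup.center R) = 4 ∧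
        H = Cfsg.Geo.subgroupNormalizer R ⊓ Ω := fun p R hp hqp hp4 hR hsym hcen hRf hle =>
    ⟨p, R, hp, hqp, hp4, hsym, absIrred_of_algOf_eq_top hR.span,
      fun g hg => ⟨1, fun u v => by rw [Units.val_one, one_mul]; exact hRf g hg u v⟩,
      by rw [hR.card_eq, hcen]; norm_num, hcen,
      eq_inf_of_le hH hle (utv_not_le_typeR_normalizer_four hR hcen hf hN hRf hΩ)⟩
  have finS : UnitSubfield q (Cfsg.hermForm 4 F q) H →
      (∃ (F₀ : Subfield F) (r : ℕ) (P : Matrix.GeneralLinearGroup (Fin 4) F), r.Prime ∧ Odd r ∧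
        Fintype.card F = Nat.card F₀ ^ r ∧ Cfsg.Geo.IsFormRationalStructure (Cfsg.hermForm 4 F q) F₀ 1 P ∧
        H = Cfsg.Geo.subfieldSubgroup F₀ P ⊓ Ω) ∨
      (∃ (F₀ : Subfield F) (P : Matrix.GeneralLinearGroup (Fin 4) F) (ζ : F), Fintype.card F = Nat.card F₀ ^ 2 ∧ ζ ≠ 0 ∧
        ζ + ζ ^ q = 0 ∧ Cfsg.Geo.IsFormRationalStructure (Cfsg.hermForm 4 F q) F₀ ζ P ∧
        (∀ u : Fin 4 → F, (∀ i, u i ∈ F₀) → (Cfsg.hermForm 4 F q) (Matrix.mulVec (P : Matrix (Fin 4) (Fin 4) F) u)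
          (Matrix.mulVec (P : Matrix (Fin 4) (Fin 4) F) u) = 0) ∧
        H = Cfsg.Geo.subfieldSubgroup F₀ P ⊓ Ω) ∨
      (Odd q ∧ ∃ (F₀ : Subfield F) (P : Matrix.GeneralLinearGroup (Fin 4) F), Fintype.card F = Nat.card F₀ ^ 2 ∧
        Cfsg.Geo.IsFormRationalStructure (Cfsg.hermForm 4 F q) F₀ 1 P ∧ H = Cfsg.Geo.subfieldSubgroup F₀ P ⊓ Ω) := by
    rintro (⟨F₀, r, P, hr, ho, hc, hform, hle⟩ | ⟨F₀, P, ζ, hc, hζ, hζq, hform, halt, hle⟩ | ⟨hq, F₀, P, hc, hform, hle⟩)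
    · exact Or.inl ⟨F₀, r, P, hr, ho, hc, hform,
        eq_inf_of_le hH hle (utv_not_le_subfield hf hn3 he hΩ (subfield_ne_top hr hc) P)⟩
    · exact Or.inr (Or.inl ⟨F₀, P, ζ, hc, hζ, hζq, hform, halt,
        eq_inf_of_le hH hle (utv_not_le_subfield hf hn3 he hΩ (subfield_ne_top Nat.prime_two hc) P)⟩)
    · exact Or.inr (Or.inr ⟨hq, F₀, P, hc, hform,
        eq_inf_of_le hH hle (utv_not_le_subfield hf hn3 he hΩ (subfield_ne_top Nat.prime_two hc) P)⟩)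
  refine (?_ : (_ ∨ _ ∨ _ ∨ _ ∨ _ ∨ _ ∨ _ ∨ _ ∨ _ ∨ _))
  by_cases hsub : UnitSubfield q (Cfsg.hermForm 4 F q) H
  · rcases finS hsub with h | h | h
    · exact Or.inr (Or.inr (Or.inr (Or.inr (Or.inr (Or.inl (h))))))
    · exact Or.inr (Or.inr (Or.inr (Or.inr (Or.inr (Or.inr (Or.inl (h)))))))
    · exact Or.inr (Or.inr (Or.inr (Or.inr (Or.inr (Or.inr (Or.inr (Or.inl (h))))))))
  have lines : ∀ D : Fin 4 → Submodule F (Fin 4 → F),
      Cfsg.Geo.IsNondegenerateMDecomposition (Cfsg.hermForm 4 F q) 1 D →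
      H ≤ Cfsg.Geo.decompositionStabilizer D →
      (q ≠ 3 ∧ ∃ D : Fin 4 → Submodule F (Fin 4 → F), Cfsg.Geo.IsNondegenerateMDecomposition (Cfsg.hermForm 4 F q) 1 D ∧
        H = Cfsg.Geo.decompositionStabilizer D ⊓ Ω) ∨
      ∃ (p : ℕ) (R : Subgroup (Matrix.GeneralLinearGroup (Fin 4) F)), p.Prime ∧ q = p ∧ p % 4 = 3 ∧
        Cfsg.Geo.IsSymplecticTypeGroup 2 R ∧ Cfsg.Geo.ActsAbsolutelyIrreducibly (Cfsg.Geo.matrixSet R) ∧
        R ≤ Cfsg.Geo.similarityGroup (Cfsg.hermForm 4 F q) ∧ Nat.card R = 64 ∧ Nat.card (Subgroup.center R) = 4 ∧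
        H = Cfsg.Geo.subgroupNormalizer R ⊓ Ω := by
    intro D hD hle
    by_cases hq : q = 3
    · refine Or.inr ?_
      obtain ⟨R, hR, hsym, hcen, hRf, hnorm⟩ := FrameFour.decomposition_le_normalizer_nine
        (show Fintype.card F = 9 by rw [hF, hq]; norm_num) (fun x => by rw [hσq, hq]) hf hD
      exact finR 3 R Nat.prime_three hq (by norm_num) hR hsym hcen hRf
        fun g hg => hnorm g (hle hg) (hHd hg) (hHf g hg)
    · exact Or.inl ⟨hq, D, hD, eq_inf_of_le hH hle (utv_not_le_decomposition hf hΩ le_rfl hD)⟩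
  have planes : ∀ (t m : ℕ) (D : Fin t → Submodule F (Fin 4 → F)),
      Cfsg.Geo.IsNondegenerateMDecomposition (Cfsg.hermForm 4 F q) m D → H ≤ Cfsg.Geo.decompositionStabilizer D →
      (∃ D : Fin 4 → Submodule F (Fin 4 → F), Cfsg.Geo.IsNondegenerateMDecomposition (Cfsg.hermForm 4 F q) 1 D ∧
        H ≤ Cfsg.Geo.decompositionStabilizer D) ∨
      (3 ≤ q ∧ ∃ D : Fin 2 → Submodule F (Fin 4 → F), Cfsg.Geo.IsNondegenerateMDecomposition (Cfsg.hermForm 4 F q) 2 D ∧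
        H = Cfsg.Geo.decompositionStabilizer D ⊓ Ω) := by
    intro t m D hD hle
    have htm := mdecomposition_card hD.decomp
    have ht := hD.decomp.two_le
    have hm := hD.decomp.pos
    rw [hN] at htm
    have hm2 : m ≤ 2 := by nlinarith
    interval_cases m
    · obtain rfl : t = 4 := by omega
      exact Or.inl ⟨D, hD, hle⟩
    · obtain rfl : t = 2 := by omega
      by_cases hq : 3 ≤ q
      · exact Or.inr ⟨hq, D, hD, eq_inf_of_le hH hle (utv_not_le_decomposition_large hf hn2 hΩ hD.decomp le_rfl)⟩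
      · obtain rfl : q = 2 := by omega
        obtain ⟨D', hD', hle'⟩ := lines_of_planes (show Fintype.card F = 4 by rw [hF]; norm_num) hσq hf hHf hD hle
        exact Or.inl ⟨D', hD', hle'⟩
  have hdec : ∀ (t m : ℕ) (D : Fin t → Submodule F (Fin 4 → F)),
      Cfsg.Geo.IsNondegenerateMDecomposition (Cfsg.hermForm 4 F q) m D → H ≤ Cfsg.Geo.decompositionStabilizer D → _ :=
    fun t m D hD hle => show (_ ∨ _) ∨ _ from
      (planes t m D hD hle).elim (fun ⟨D', hD', hle'⟩ => Or.inl (lines D' hD' hle')) Or.inr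
  by_cases hirr : Cfsg.Geo.ActsIrreducibly (Cfsg.Geo.matrixSet H)
  swap
  · rcases reducible_cases hh hHf hirr with ⟨W, h1, h2, hW, hle⟩ | ⟨W, h1, h2, hW, hd, hle⟩ | ⟨m, D, hD, hle⟩
    · exact Or.inl (⟨W, h1, hW, eq_inf_of_le hH hle (utv_not_le_subspace hf hn2 hΩ h1 h2)⟩)
    · exact Or.inr (Or.inl (⟨W, h1, hW, by omega, eq_inf_of_le hH hle (utv_not_le_subspace hf hn2 hΩ h1 h2)⟩))
    · rcases hdec 2 m D hD hle with (h | h) | h
      · exact Or.inr (Or.inr (Or.inl (h)))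
      · exact Or.inr (Or.inr (Or.inr (Or.inr (Or.inr (Or.inr (Or.inr (Or.inr (Or.inl (h)))))))))
      · exact Or.inr (Or.inr (Or.inr (Or.inl (h))))
  rcases irreducible_cases hn2 hh hHf hirr with hg | ⟨N, hNH, hinv, hns, hspan, hmin, hcase⟩
  swap
  · have hfN : Cfsg.Geo.FixesForm (Cfsg.Geo.matrixSet N) (Cfsg.hermForm 4 F q) := by
      rintro _ ⟨g, hg, rfl⟩ u v
      exact hHf g (hNH hg) u v
    rcases hcase with ⟨hcl, -⟩ | ⟨hperf, hcl⟩
    · obtain ⟨r, m, hm, hR⟩ := exists_typeR hn3 hinv hspan hcl hmin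
      rcases hR.unitary_cases hF hσq hf hinv hfN with h | ⟨hfull, p, k, hrp, hminf, hk⟩
      · exact absurd h hsub
      have hrm := hR.deg
      rw [hN] at hrm
      obtain ⟨rfl, rfl⟩ : r = 2 ∧ m = 2 := by
        obtain rfl := (Nat.prime_dvd_prime_iff_eq hR.prime Nat.prime_two).1 (hR.prime.dvd_of_dvd_pow (show r ∣ 2 ^ 2 from
          (dvd_pow_self r (show m ≠ 0 by rintro rfl; simp at hrm)).trans (dvd_of_eq hrm.symm)))
        exact ⟨rfl, Nat.pow_right_injective le_rfl (show 2 ^ m = 2 ^ 2 from hrm.symm)⟩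
      obtain ⟨hqp, hp4⟩ := minimal_field_four hrp hF (by rw [show Nat.card (Subgroup.center N) = 4 from hfull] at hminf; exact hminf)
      exact Or.inr (Or.inr (Or.inr (Or.inr (Or.inr (Or.inr (Or.inr (Or.inr (Or.inl (finR p N hminf.1 hqp hp4 hR (hR.isSymplecticTypeGroup hinv hmin) hfull (fun g hg => hHf g (hNH hg)) (le_normalizer_of_normalized hinv))))))))))
    rcases simple_or_family_groups hNH hinv hspan hcl hmin with hsimple | ⟨a, t, ψ, ha, ht, hcard, hcomm, hgrp, hperm⟩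
    · rcases unitary_residual_cases hn2 hF hσq hf hHf hNH hinv hns hspan hperf hsimple with h | h | h | h
      · exact absurd (Or.inl h) hsub
      · exact absurd (Or.inr (Or.inl h)) hsub
      · exact absurd (Or.inr (Or.inr h)) hsub
      · exact Or.inr (Or.inr (Or.inr (Or.inr (Or.inr (Or.inr (Or.inr (Or.inr (Or.inr (h)))))))))
    obtain ⟨e₁, P₁, hψ⟩ := exists_powerEmb (show 0 < a by omega) hcard ψ hcomm
    have hwr : H ≤ Cfsg.Geo.tensorWreathSubgroup a t e₁ P₁ := fun g hg => by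
      obtain ⟨τ, hτ⟩ := hperm g hg
      exact mem_tensorWreath_of_family (by omega) (by omega) e₁ P₁ hψ hτ
    rw [hN] at hcard
    obtain ⟨rfl, rfl⟩ : a = 2 ∧ t = 2 := by
      have ha4 : a ≤ 4 := hcard ▸ Nat.le_self_pow (by omega) a
      have ht3 : t ≤ 2 := by
        by_contra h
        have := Nat.pow_le_pow_right (show 1 ≤ a by omega) (show 3 ≤ t by omega)
        have := Nat.pow_le_pow_left ha 3
        omega
      interval_cases a <;> interval_cases t <;> first | exact ⟨rfl, rfl⟩ | (exfalso; norm_num at hcard)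
    obtain ⟨F₀, h0, hreal⟩ := realisable_of_wreath_two (show 0 < 2 by norm_num) e₁ P₁ hspan hperf (hNH.trans hwr) hf hfN
    exact absurd (unitary_realisable_cases hn2 hF hσq hf hinv hspan hfN h0 hreal) hsub
  rcases hg with ⟨t, m, D, hD, hle⟩ | ⟨m, D, hD, hTS, hle⟩ | ⟨s, K, hs, hK, hKa, hHK⟩ |
      ⟨a, b, e, P, ε₁, ε₂, f₁, f₂, ha, hb, h₁, h₂, hε, hε1, hT, hle⟩
  · rcases hdec t m D hD hle with (h | h) | h
    · exact Or.inr (Or.inr (Or.inl (h)))
    · exact Or.inr (Or.inr (Or.inr (Or.inr (Or.inr (Or.inr (Or.inr (Or.inr (Or.inl (h)))))))))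
    · exact Or.inr (Or.inr (Or.inr (Or.inl (h))))
  · have hm := mdecomposition_card hD
    obtain rfl : m = 2 := by omega
    by_cases hq : 4 ≤ q
    · exact Or.inr (Or.inr (Or.inr (Or.inr (Or.inl (⟨hq, D, hD, hTS, eq_inf_of_le hH hle (utv_not_le_decomposition_large hf hn2 hΩ hD le_rfl)⟩)))))
    · exact absurd (ts_pair_subfield hF (by omega) hσq hf hD hTS hHf hHd hle) hsub
  · exfalso
    have hd := isFieldSubalgebra_dvd hK
    rw [hN] at hd
    exact unitary_field_degree_ne_two hf hK hKa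
      ((Nat.prime_dvd_prime_iff_eq hs Nat.prime_two).1 (hs.dvd_of_dvd_pow (show s ∣ 2 ^ 2 from hd)))
  obtain rfl := hε1 hf.ne_refl
  obtain rfl : ε₂ = 1 := by rwa [one_mul] at hε
  have hab : a * b = 4 := by simpa using (Fintype.card_congr e).symm
  obtain ⟨rfl, rfl⟩ : a = 2 ∧ b = 2 := by
    have : a ≤ 2 := by nlinarith
    obtain rfl : a = 2 := by omega
    exact ⟨rfl, by omega⟩
  obtain ⟨P', hle', -, h3, -⟩ := exists_square_std hF hσq hf.ne_refl e P h₁ h₂ hT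
  exact absurd (square_subfield hF hσq hf e P' h3 hHf (hle.trans hle')) hsub

end Cfsg.Agent.S5784
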