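import Cfsg.Statements.S5787
import Cfsg.Agent.Lib.Geo.AschSympPower
import Cfsg.Agent.Lib.Geo.AschSympFourForms
import Cfsg.Agent.Lib.Geo.AschSympFourField
import Cfsg.Agent.Lib.Geo.AschSympFourSmall

set_option autoImplicit false
open Cfsg

namespace Cfsg.Agent.S5787

open CfsgLib.Geo.Asch CfsgLib.GeomClasses Cfsg.Geo

/-- Every maximal subgroup of Sp_4(q), q odd, is of one of the listed geometric types or lies in the residual class. Let F be a finite field of odd order q, f the standard alternating form on F^4 (coordinates Fin 2 ⊕ Fin 2), and H a maximal subgroup of the isometry group Sp_4(F) (inside GL_4(F)). Then H is the intersection with Sp_4(F) of one of: the stabiliser of a non-zero totally isotropic subspace; the stabiliser of a decomposition into two orthogonal non-degenerate 2-spaces; for q ≥ 5, of a decomposition into two totally isotropic 2-spaces; the normaliser of a degree-2 subfield K of the matrix algebra,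 self-adjoint with f(k v, v) = 0; for q ≥ 5, the normaliser of a degree-2 subfield closed under adjoints but not self-adjoint; a subfield group whose F₀-structure carries a non-zero multiple of f, |F| = |F₀|^r with r prime; for q = p prime, the normaliser of an absolutely irreducible symplectic-type 2-group of exponent 4, order 32, centre of order 2 and minus type inside the similarity group of f — or else H lies in the residual class of the symplectic case. -/
theorem result {F : Type*} [Field F] [Fintype F] (hodd : Odd (Fintype.card F)) (H : Subgroup (Matrix.GeneralLinearGroup (Fin 2 ⊕ Fin 2) F)) (hH : Cfsg.Geo.IsMaximalIn (Cfsg.spGL 2 F) H) :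
    (∃ W : Submodule F (Fin 2 ⊕ Fin 2 → F), W ≠ ⊥ ∧ Cfsg.Geo.IsTotallySingularFor (Cfsg.sympForm 2 F) W ∧ H = Cfsg.Geo.subspaceStabilizer W ⊓ Cfsg.spGL 2 F) ∨
    (∃ D : Fin 2 → Submodule F (Fin 2 ⊕ Fin 2 → F), Cfsg.Geo.IsNondegenerateMDecomposition (Cfsg.sympForm 2 F) 2 D ∧ H = Cfsg.Geo.decompositionStabilizer D ⊓ Cfsg.spGL 2 F) ∨
    (5 ≤ Fintype.card F ∧ ∃ D : Fin 2 → Submodule F (Fin 2 ⊕ Fin 2 → F), Cfsg.Geo.IsMDecomposition 2 D ∧ (∀ i, Cfsg.Geo.IsTotallySingularFor (Cfsg.sympForm 2 F) (D i)) ∧ H = Cfsg.Geo.decompositionStabilizer D ⊓ Cfsg.spGL 2 F) ∨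
    (∃ K : Subalgebra F (Matrix (Fin 2 ⊕ Fin 2) (Fin 2 ⊕ Fin 2) F), Cfsg.Geo.IsFieldSubalgebra 2 K ∧ Cfsg.Geo.IsSelfAdjointFor (Cfsg.sympForm 2 F) K ∧ (∀ k ∈ K, ∀ v : (Fin 2 ⊕ Fin 2 → F), (Cfsg.sympForm 2 F) (Matrix.mulVec k v) v = 0) ∧ H = Cfsg.Geo.subalgebraNormalizer K ⊓ Cfsg.spGL 2 F) ∨
    (5 ≤ Fintype.card F ∧ ∃ K : Subalgebra F (Matrix (Fin 2 ⊕ Fin 2) (Fin 2 ⊕ Fin 2) F), Cfsg.Geo.IsFieldSubalgebra 2 K ∧ Cfsg.Geo.IsAdjointClosedFor (Cfsg.sympForm 2 F) K ∧ ¬ Cfsg.Geo.IsSelfAdjointFor (Cfsg.sympForm 2 F) K ∧ H = Cfsg.Geo.subalgebraNormalizer K ⊓ Cfsg.spGL 2 F) ∨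
    (∃ (F₀ : Subfield F) (r : ℕ) (P : Matrix.GeneralLinearGroup (Fin 2 ⊕ Fin 2) F) (ζ : F), r.Prime ∧ Fintype.card F = Nat.card F₀ ^ r ∧ ζ ≠ 0 ∧ Cfsg.Geo.IsFormRationalStructure (Cfsg.sympForm 2 F) F₀ ζ P ∧ H = Cfsg.Geo.subfieldSubgroup F₀ P ⊓ Cfsg.spGL 2 F) ∨
    (∃ (p : ℕ) (R : Subgroup (Matrix.GeneralLinearGroup (Fin 2 ⊕ Fin 2) F)), p.Prime ∧ Fintype.card F = p ∧ Cfsg.Geo.IsSymplecticTypeGroup 2 R ∧ Cfsg.Geo.ActsAbsolutelyIrreducibly (Cfsg.Geo.matrixSet R) ∧ R ≤ Cfsg.Geo.similarityGroup (Cfsg.sympForm 2 F) ∧ Nat.card R = 32 ∧ Nat.card (Subgroup.center R) = 2 ∧ Cfsg.Geo.IsOfMinusType 2 R ∧ H = Cfsg.Geo.subgroupNormalizer R ⊓ Cfsg.spGL 2 F) ∨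
    Cfsg.Geo.InSymplecticResidualClass H := by
  classical
  haveI : Nonempty (Fin 2 ⊕ Fin 2) := ⟨.inl 0⟩
  set f := Cfsg.sympForm 2 F with hfdef
  set Ω := Cfsg.spGL 2 F with hΩdef
  have hf : IsSymplecticForm f := Symp.isSymplecticForm_sympForm (F := F) 2
  have hN : Fintype.card (Fin 2 ⊕ Fin 2) = 4 := by simp
  have hn : 3 ≤ Fintype.card (Fin 2 ⊕ Fin 2) := by omega
  have hn2 : 2 ≤ Fintype.card (Fin 2 ⊕ Fin 2) := by omega
  have hΩ : HasSTv f Ω := fun v c => Symp.formTv_mem_spGL 2 v c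
  have hΩf : IsoGrp f Ω := fun g hg => Symp.mem_spGL.1 hg
  have hΩall : ∀ g : Matrix.GeneralLinearGroup (Fin 2 ⊕ Fin 2) F,
      (∀ u v, f (Matrix.mulVec (g : Matrix (Fin 2 ⊕ Fin 2) (Fin 2 ⊕ Fin 2) F) u)
        (Matrix.mulVec (g : Matrix (Fin 2 ⊕ Fin 2) (Fin 2 ⊕ Fin 2) F) v) = f u v) → g ∈ Ω :=
    fun g hg => Symp.mem_spGL.2 hg
  have hh := herm_symplectic hf
  have hHf : IsoGrp f H := fun g hg => hΩf g (hH.1.le hg)
  have hHd : H ≤ specialLinear (Fin 2 ⊕ Fin 2) F := fun g hg =>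
    Symp.isometry_mem_of_formTv_mem hf (fun v c => formTv_mem_specialLinear _ _ _) (hΩf g (hH.1.le hg))
  have h2 := two_ne_zero_of_odd hodd
  have hq3 : ¬ 5 ≤ Fintype.card F → Fintype.card F = 3 := fun h => by
    obtain ⟨k, hk⟩ := hodd
    have := Fintype.one_lt_card (α := F)
    omega
  let e₄ : Fin 4 ≃ Fin 2 ⊕ Fin 2 := (finSumFinEquiv (m := 2) (n := 2)).symm
  refine (?_ : (_ ∨ _ ∨ _ ∨ _ ∨ _ ∨ _ ∨ _ ∨ _))
  have hdec : ∀ {t m : ℕ} {D : Fin t → Submodule F (Fin 2 ⊕ Fin 2 → F)}, IsNondegenerateMDecomposition f m D →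
      H ≤ decompositionStabilizer D →
      ∃ D : Fin 2 → Submodule F (Fin 2 ⊕ Fin 2 → F), IsNondegenerateMDecomposition f 2 D ∧
        H = decompositionStabilizer D ⊓ Ω := by
    intro t m D hD hle
    let i : Fin t := ⟨0, lt_of_lt_of_le two_pos hD.decomp.two_le⟩
    have hm2 : 2 ∣ m := hD.decomp.finrank_eq i ▸ two_dvd_finrank_of_nondegenerate hf (hD.nondegenerate i)
    have hm : 2 ≤ m := Nat.le_of_dvd hD.decomp.pos hm2
    have htm := mdecomposition_card hD.decomp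
    have ht := hD.decomp.two_le
    rw [hN] at htm
    obtain rfl : m = 2 := by nlinarith
    obtain rfl : t = 2 := by omega
    exact ⟨D, hD, eq_inf_of_le hH hle (stv_not_le_decomposition hf hΩ hD.decomp le_rfl)⟩
  by_cases hirr : ActsIrreducibly (matrixSet H)
  swap
  · rcases reducible_cases hh hHf hirr with ⟨W, h1, h2, hW, hle⟩ | ⟨W, h1, h2, hW, hd, hle⟩ | ⟨m, D, hD, hle⟩
    · exact Or.inl ⟨W, h1, hW, eq_inf_of_le hH hle (stv_not_le_subspace hf hΩ h1 h2)⟩
    · exfalso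
      have hd2 := two_dvd_finrank_of_nondegenerate hf hW
      have := Submodule.one_le_finrank_iff.2 h1
      omega
    · exact Or.inr (Or.inl (hdec hD hle))
  by_cases h3 : ((∃ (t m : ℕ) (D : Fin t → Submodule F (Fin 2 ⊕ Fin 2 → F)), IsNondegenerateMDecomposition f m D ∧
        H ≤ decompositionStabilizer D) ∨
      (∃ (m : ℕ) (D : Fin 2 → Submodule F (Fin 2 ⊕ Fin 2 → F)), IsMDecomposition m D ∧
        (∀ i, IsTotallySingularFor f (D i)) ∧ H ≤ decompositionStabilizer D) ∨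
      (∃ (s : ℕ) (K : Subalgebra F (Matrix (Fin 2 ⊕ Fin 2) (Fin 2 ⊕ Fin 2) F)), s.Prime ∧ IsFieldSubalgebra s K ∧
        IsAdjointClosedFor f K ∧ Normalized H K))
  · rcases h3 with (⟨t, m, D, hD, hle⟩ | ⟨m, D, hD, hTS, hle⟩ | ⟨s, K, hs, hK, hKa, hHK⟩)
    · exact Or.inr (Or.inl (hdec hD hle))
    · obtain rfl : m = 2 := by have := mdecomposition_card hD; omega
      by_cases hq : 5 ≤ Fintype.card F
      · exact Or.inr (Or.inr (Or.inl ⟨hq, D, hD, hTS,
          eq_inf_of_le hH hle (stv_not_le_decomposition hf hΩ hD le_rfl)⟩))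
      · obtain ⟨D', hD', hle'⟩ := ts_pair_planes (hq3 hq) e₄ hf hD hTS hHf hHd hle
        exact Or.inr (Or.inl (hdec hD' hle'))
    · have hEq := eq_inf_of_le hH (le_subalgebraNormalizer hHK) (stv_not_le_field hf hn hΩ hs.one_lt hK)
      have hd := isFieldSubalgebra_dvd hK
      rw [hN] at hd
      obtain rfl : s = 2 :=
        (Nat.prime_dvd_prime_iff_eq hs Nat.prime_two).1 (hs.dvd_of_dvd_pow (show s ∣ 2 ^ 2 from hd))
      by_cases hself : IsSelfAdjointFor f K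
      · exact Or.inr (Or.inr (Or.inr (Or.inl ⟨K, hK, hself, selfAdjoint_alternating hf hK hself, hEq⟩)))
      · by_cases hq : 5 ≤ Fintype.card F
        · exact Or.inr (Or.inr (Or.inr (Or.inr (Or.inl ⟨hq, K, hK, hKa, hself, hEq⟩))))
        · exact (Sp4Three.field_three_false (hq3 hq) e₄ hf hΩf hΩall hH hK hKa hself
            (le_subalgebraNormalizer hHK)).elim
  rcases irreducible_cases hn2 hh hHf hirr with hg | ⟨N, hNH, hinv, hns, hspan, hmin, hcase⟩
  swap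
  · have hfN : FixesForm (matrixSet N) f := by
      rintro _ ⟨g, hg, rfl⟩ u v
      exact hHf g (hNH hg) u v
    have hsub : ∀ {F₀ : Subfield F}, F₀ ≠ ⊤ → RealisableOver F₀ (matrixSet N) →
        ∃ (F₀ : Subfield F) (r : ℕ) (P : Matrix.GeneralLinearGroup (Fin 2 ⊕ Fin 2) F) (ζ : F), r.Prime ∧
          Fintype.card F = Nat.card F₀ ^ r ∧ ζ ≠ 0 ∧ IsFormRationalStructure f F₀ ζ P ∧
          H = subfieldSubgroup F₀ P ⊓ Ω := by
      intro F₀ h0 hr
      obtain ⟨F₁, r, P, hrp, hc, hle, hrat⟩ := exists_rational_subfield hspan hinv h0 hr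
      obtain ⟨ζ, hζ, hform⟩ := exists_form_rational_bilinear hh hspan hfN P hrat
      exact ⟨F₁, r, P, ζ, hrp, hc, hζ, hform,
        eq_inf_of_le hH hle (stv_not_le_subfield hf hn hΩ (subfield_ne_top hrp hc) P)⟩
    rcases hcase with ⟨hcl, -⟩ | ⟨hperf, hcl⟩
    · obtain ⟨r, m, hm0, hR⟩ := exists_typeR hn hinv hspan hcl hmin
      obtain ⟨rfl, hc2⟩ := hR.two_of_bilinear hf.bilinear hf.nondegenerate hfN
      obtain rfl : m = 2 := Nat.pow_right_injective le_rfl (show (2 : ℕ) ^ m = 2 ^ 2 by rw [← hR.deg, hN])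
      obtain ⟨p, hchar⟩ := CharP.exists F
      obtain ⟨⟨k, hk0⟩, hp, hq⟩ := FiniteField.card F p
      simp only [PNat.mk_coe] at hq
      haveI := Fact.mk hp
      by_cases hk : k = 1
      swap
      · refine Or.inr (Or.inr (Or.inr (Or.inr (Or.inr (Or.inl (hsub (F₀ := ⊥) (fun htop => ?_)
          (hR.realisable_of_center_two hf.bilinear hf.nondegenerate hfN ⊥)))))))
        refine not_all_fixed hp hq one_pos (by omega) fun x => ?_
        have hx : x ∈ RingHom.eqLocusField (frobenius F p) (RingHom.id F) :=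
          (bot_le : (⊥ : Subfield F) ≤ _) (htop ▸ Subfield.mem_top x)
        rw [pow_one]
        exact hx
      subst hk
      rw [pow_one] at hq
      exact Or.inr (Or.inr (Or.inr (Or.inr (Or.inr (Or.inr (Or.inl ⟨p, N, hp, hq,
        hR.isSymplecticTypeGroup hinv hmin, absIrred_of_algOf_eq_top hspan,
        fun g hg => ⟨1, fun u v => by rw [Units.val_one, one_mul]; exact hfN _ ⟨g, hg, rfl⟩ u v⟩,
        by rw [hR.card_eq, hc2]; rfl, hc2, hR.minus_type hc2 hf hfN,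
        eq_inf_of_le hH (le_normalizer_of_normalized hinv)
          (stv_not_le_typeR_normalizer_four hR hc2 hf hfN hΩ)⟩))))))
    rcases simple_or_family_groups hNH hinv hspan hcl hmin with hsimple | ⟨a, t, ψ, ha, ht, hcard, hcomm, -, hperm⟩
    · rcases symplectic_residual_cases hn2 hf hHf hNH hinv hns hspan hperf hsimple with
        ⟨F₀, r, P, ζ, hr, hc, hζ, hform, hle⟩ | ⟨hev, -⟩ | h
      · exact Or.inr (Or.inr (Or.inr (Or.inr (Or.inr (Or.inl ⟨F₀, r, P, ζ, hr, hc, hζ, hform,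
          eq_inf_of_le hH hle (stv_not_le_subfield hf hn hΩ (subfield_ne_top hr hc) P)⟩)))))
      · exact absurd hodd hev
      · exact Or.inr (Or.inr (Or.inr (Or.inr (Or.inr (Or.inr (Or.inr h))))))
    exfalso
    rw [hN] at hcard
    obtain ⟨rfl, rfl⟩ : a = 2 ∧ t = 2 := by
      have ha2 : a ≤ 2 := by
        have h1 : a ^ 2 ≤ a ^ t := Nat.pow_le_pow_right (by omega) ht
        nlinarith
      obtain rfl : a = 2 := by omega
      exact ⟨rfl, Nat.pow_right_injective le_rfl (show (2 : ℕ) ^ t = 2 ^ 2 by rw [← hcard])⟩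
    obtain ⟨e, P, hψ⟩ := exists_powerEmb (show 0 < 2 by omega) (by rw [hN]; rfl) ψ hcomm
    have hle : H ≤ tensorWreathSubgroup 2 2 e P := fun g hg => by
      obtain ⟨τ, hτ⟩ := hperm g hg
      exact mem_tensorWreath_of_family (by omega) (by omega) e P hψ hτ
    exact no_perfect_in_square h2 hf hspan hperf hfN e P (hNH.trans hle)
  rcases hg with hD | hP | hK | ⟨a, b, e, P, ε₁, ε₂, f₁, f₂, ha, hb, h₁, h₂', hε, -, hT, hle⟩
  · exact absurd (Or.inl hD) h3
  · exact absurd (Or.inr (Or.inl hP)) h3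
  · exact absurd (Or.inr (Or.inr hK)) h3
  have hab : a * b = 4 := by simpa using (Fintype.card_congr e).symm
  obtain ⟨rfl, rfl⟩ : a = 2 ∧ b = 2 := by
    have : a ≤ 2 := by nlinarith
    obtain rfl : a = 2 := by omega
    exact ⟨rfl, by omega⟩
  rcases mul_self_eq_one_iff.1 (show ε₁ * ε₁ = 1 from h₁.eps_mul) with rfl | rfl
  · exact absurd (comm_of_symmetric_plane hh h2 hHf hirr h₁ h₂' hT hle) h3
  · obtain rfl : ε₂ = 1 := by linear_combination -hε
    exact absurd (comm_of_symmetric_plane hh h2 hHf hirr h₂' h₁ (isTensorFormStructure_swap hT)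
      (tensorProductSubgroup_swap e P ▸ hle)) h3

end Cfsg.Agent.S5787
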