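import Cfsg.Statements.S5789
import Cfsg.Agent.Lib.Sp4Max.Subspace
import Cfsg.Agent.Lib.Sp4Max.Decomposition
import Cfsg.Agent.Lib.Sp4Max.Quadric
import Cfsg.Agent.Lib.Sp4Max.Rational
import Cfsg.Agent.Lib.GeomClasses.SympExtField

set_option autoImplicit false
open Cfsg

namespace Cfsg.Agent.S5789

open Matrix CfsgLib.GeomClasses

/-- Maximal subgroups of Sp_4(q) of geometric type, q ≥ 4 even. Let F be a finite field of even order q ≥ 4, f the standard alternating form on F^4 (coordinates Fin 2 ⊕ Fin 2) and Sp_4(F) its isometry group inside GL_4(F). Each of the following, intersected with Sp_4(F), is a maximal subgroup of Sp_4(F): (1) the stabiliser of any non-zero totally isotropic subspace (totally isotropic 1-spaces and 2-spaces); (2) the stabiliser of any decomposition of F^4 into two mutually orthogonal non-degenerate 2-spaces; (3) the normaliser of any degree-2 subfield K of the matrix algebra whose elements are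 self-adjoint for f with f(k v, v) = 0 for all k in K and all v; (4) every subfield group for a subfield F₀ with |F| = |F₀|^r, r prime, whose F₀-structure carries a non-zero scalar multiple of f; (5) the similarity group of any non-degenerate quadratic form whose polar form is f (either Witt type); its intersection with Sp_4(F) is the orthogonal group of that form. -/
theorem result {F : Type*} [Field F] [Fintype F] (heven : ¬ Odd (Fintype.card F)) (h4 : 4 ≤ Fintype.card F) :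
    (∀ W : Submodule F (Fin 2 ⊕ Fin 2 → F), W ≠ ⊥ → Cfsg.Geo.IsTotallySingularFor (Cfsg.sympForm 2 F) W → Cfsg.Geo.IsMaximalIn (Cfsg.spGL 2 F) (Cfsg.Geo.subspaceStabilizer W ⊓ Cfsg.spGL 2 F)) ∧
    (∀ D : Fin 2 → Submodule F (Fin 2 ⊕ Fin 2 → F), Cfsg.Geo.IsNondegenerateMDecomposition (Cfsg.sympForm 2 F) 2 D → Cfsg.Geo.IsMaximalIn (Cfsg.spGL 2 F) (Cfsg.Geo.decompositionStabilizer D ⊓ Cfsg.spGL 2 F)) ∧
    (∀ K : Subalgebra F (Matrix (Fin 2 ⊕ Fin 2) (Fin 2 ⊕ Fin 2) F), Cfsg.Geo.IsFieldSubalgebra 2 K → Cfsg.Geo.IsSelfAdjointFor (Cfsg.sympForm 2 F) K → (∀ k ∈ K, ∀ v : (Fin 2 ⊕ Fin 2 → F), (Cfsg.sympForm 2 F) (Matrix.mulVec k v) v = 0) → Cfsg.Geo.IsMaximalIn (Cfsg.spGL 2 F) (Cfsg.Geo.subalgebraNormalizer K ⊓ Cfsg.spGL 2 F)) ∧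
    (∀ (F₀ : Subfield F) (r : ℕ) (P : Matrix.GeneralLinearGroup (Fin 2 ⊕ Fin 2) F) (ζ : F), r.Prime → Fintype.card F = Nat.card F₀ ^ r → ζ ≠ 0 → Cfsg.Geo.IsFormRationalStructure (Cfsg.sympForm 2 F) F₀ ζ P → Cfsg.Geo.IsMaximalIn (Cfsg.spGL 2 F) (Cfsg.Geo.subfieldSubgroup F₀ P ⊓ Cfsg.spGL 2 F)) ∧
    (∀ Q : (Fin 2 ⊕ Fin 2 → F) → F, Cfsg.Geo.IsNondegenerateQuadraticForm Q → (∀ u v : (Fin 2 ⊕ Fin 2 → F), QuadraticMap.polar Q u v = (Cfsg.sympForm 2 F) u v) → Cfsg.Geo.IsMaximalIn (Cfsg.spGL 2 F) (Cfsg.Geo.quadSimilarityGroup Q ⊓ Cfsg.spGL 2 F)) := by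
  have h2 : (2 : F) = 0 := by
    have hp : ringChar F = 2 := by
      by_contra h
      exact heven (Nat.odd_iff.2 (FiniteField.odd_card_of_char_ne_two h))
    have : CharP F 2 := hp ▸ ringChar.charP F
    exact CharTwo.two_eq_zero
  refine ⟨fun W hW0 hW => CfsgLib.Sp4Max.maximal_subspace 2 W hW0 hW,
    fun D hD => CfsgLib.Sp4Max.maximal_decomposition 2 2 D hD (fun h => by omega),
    fun K hK hsa halt => CfsgLib.GeomClasses.SympExt.maximal_field_of (m := 2) (by norm_num) 2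
      (fun _ => Or.inr (by omega)) Nat.prime_two K hK hsa halt,
    fun F₀ r P ζ hr hcard hζ hP => ?_,
    fun Q hQ hpol => CfsgLib.Sp4Max.maximal_quadric 2 le_rfl h4 heven Q hQ hpol⟩
  · -- subfield groups
    classical
    let f : (Fin 2 ⊕ Fin 2 → F) → (Fin 2 ⊕ Fin 2 → F) → F := fun u v =>
      ζ * Cfsg.sympForm 2 F ((P : Matrix (Fin 2 ⊕ Fin 2) (Fin 2 ⊕ Fin 2) F) *ᵥ u)
        ((P : Matrix (Fin 2 ⊕ Fin 2) (Fin 2 ⊕ Fin 2) F) *ᵥ v)
    have h0 := Symp.isSymplecticForm_sympForm (F := F) 2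
    have hf : Cfsg.Geo.IsSymplecticForm f :=
      { bilinear :=
          { add_left := fun x y v => by simp only [f, mulVec_add, Symp.add_left h0, mul_add]
            smul_left := fun c x v => by simp only [f, mulVec_smul, Symp.smul_left h0]; ring
            add_right := fun v x y => by simp only [f, mulVec_add, Symp.add_right h0, mul_add]
            smul_right := fun c v x => by simp only [f, mulVec_smul, Symp.smul_right h0]; ring }
        skew := fun v w => by simp only [f]; rw [h0.skew]; ring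
        alternating := fun v => by simp only [f]; rw [h0.alternating, mul_zero]
        nondegenerate := fun v hv => by
          have hv' : (P : Matrix (Fin 2 ⊕ Fin 2) (Fin 2 ⊕ Fin 2) F) *ᵥ v ≠ 0 := fun h => hv
            (gl_mulVec_injective P (show (P : Matrix (Fin 2 ⊕ Fin 2) (Fin 2 ⊕ Fin 2) F) *ᵥ v = (P : Matrix (Fin 2 ⊕ Fin 2) (Fin 2 ⊕ Fin 2) F) *ᵥ 0 by rw [h, mulVec_zero]))
          obtain ⟨⟨x, hx⟩, ⟨y, hy⟩⟩ := h0.nondegenerate _ hv'
          refine ⟨⟨((P⁻¹ : GL (Fin 2 ⊕ Fin 2) F) : Matrix (Fin 2 ⊕ Fin 2) (Fin 2 ⊕ Fin 2) F) *ᵥ x, ?_⟩,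
            ⟨((P⁻¹ : GL (Fin 2 ⊕ Fin 2) F) : Matrix (Fin 2 ⊕ Fin 2) (Fin 2 ⊕ Fin 2) F) *ᵥ y, ?_⟩⟩
          · simp only [f, gl_mulVec_inv_mulVec]; exact mul_ne_zero hζ hx
          · simp only [f, gl_mulVec_inv_mulVec]; exact mul_ne_zero hζ hy }
    have hK : ∀ g, g ∈ (Cfsg.spGL 2 F).comap (MulAut.conj P).toMonoidHom ↔ Symp.IsIsometry f g := by
      intro g
      rw [Subgroup.mem_comap, Symp.mem_spGL]
      change Symp.IsIsometry _ (P * g * P⁻¹) ↔ _
      constructor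
      · intro h u v
        have := h ((P : Matrix (Fin 2 ⊕ Fin 2) (Fin 2 ⊕ Fin 2) F) *ᵥ u) ((P : Matrix (Fin 2 ⊕ Fin 2) (Fin 2 ⊕ Fin 2) F) *ᵥ v)
        simp only [gl_mul_mulVec, gl_inv_mulVec_mulVec] at this
        simp only [f, this]
      · intro h u v
        have := mul_left_cancel₀ hζ
          (h (((P⁻¹ : GL (Fin 2 ⊕ Fin 2) F) : Matrix (Fin 2 ⊕ Fin 2) (Fin 2 ⊕ Fin 2) F) *ᵥ u) (((P⁻¹ : GL (Fin 2 ⊕ Fin 2) F) : Matrix (Fin 2 ⊕ Fin 2) (Fin 2 ⊕ Fin 2) F) *ᵥ v))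
        simpa only [gl_mul_mulVec, gl_mulVec_inv_mulVec] using this
    have h := isMaximalIn_map (MulAut.conj P)
      (CfsgLib.Sp4Max.maximal_rational hf (by simp) h2 hP hr hcard hK)
    rw [Subgroup.map_inf _ _ _ (MulAut.conj P).injective,
      Subgroup.map_comap_eq_self_of_surjective (MulAut.conj P).surjective] at h
    exact h

end Cfsg.Agent.S5789
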