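import Cfsg.Statements.S5790
import Cfsg.Agent.Lib.Geo.AschSympCases

set_option autoImplicit false
open Cfsg

namespace Cfsg.Agent.S5790

open Cfsg.Geo Matrix CfsgLib.Geo.Asch CfsgLib.GeomClasses
open scoped MatrixGroups commutatorElement

variable {ι : Type} [Fintype ι] [DecidableEq ι] {F : Type*} [Field F]
  {f : (ι → F) → (ι → F) → F}

/-- A scalar isometry in characteristic two is trivial. -/
theorem scalar_iso_eq_one (h2 : (2 : F) = 0) [Nonempty ι] (hf : IsSymplecticForm f) {g : GL ι F}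
    (hg : g ∈ scalars ι F) (hiso : ∀ u v, f ((g : Matrix ι ι F) *ᵥ u) ((g : Matrix ι ι F) *ᵥ v) = f u v) : g = 1 := by
  obtain ⟨c, hc⟩ := (mem_scalars_iff g).1 hg
  obtain ⟨v, hv⟩ := exists_ne (0 : ι → F)
  obtain ⟨x, hx⟩ := (hf.nondegenerate v hv).2
  have h1 := hiso v x
  simp only [hc, Matrix.smul_mulVec, Matrix.one_mulVec, hf.bilinear.smul_left, hf.bilinear.smul_right] at h1
  have h3 : ((c : F) * c - 1) * f v x = 0 := by linear_combination h1
  have hsq := (mul_eq_zero.1 h3).resolve_right hx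
  have h4 : ((c : F) - 1) * ((c : F) - 1) = 0 := by linear_combination hsq + (1 - (c : F)) * h2
  have hc1 : (c : F) = 1 := sub_eq_zero.1 ((mul_eq_zero.1 h4).elim id id)
  exact Units.ext (by rw [hc, hc1, one_smul, Units.val_one])

/-- An absolutely irreducible group of isometries is not commutative modulo scalars in characteristic two. -/
theorem not_class_two (h2 : (2 : F) = 0) [Nonempty ι] (hf : IsSymplecticForm f) {N : Subgroup (GL ι F)}
    (hN : IsoGrp f N) (hspan : algOf N = ⊤) (hns : ¬ N ≤ scalars ι F)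
    (hcl : ∀ x ∈ N, ∀ y ∈ N, x * y * x⁻¹ * y⁻¹ ∈ scalars ι F) : False := by
  refine hns fun x hx => mem_scalars_of_commute hspan fun y hy => ?_
  have h1 := scalar_iso_eq_one h2 hf (hcl x hx y hy)
    (hN _ (mul_mem (mul_mem (mul_mem hx hy) (inv_mem hx)) (inv_mem hy)))
  exact mul_inv_eq_iff_eq_mul.1 (mul_inv_eq_one.1 h1)

/-- A minimal normal spanning group is simple modulo scalars or has an invariant non-spanning subgroup. -/
theorem simple_or_sub [Fintype F] (h2 : (2 : F) = 0) [Nonempty ι] (hf : IsSymplecticForm f) {H N : Subgroup (GL ι F)}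
    (hH : IsoGrp f H) (hNH : N ≤ H) (hinv : ∀ g ∈ H, ∀ x ∈ N, g * x * g⁻¹ ∈ N)
    (hmin : ∀ K : Subgroup (GL ι F), K ≤ N → (∀ g ∈ H, ∀ x ∈ K, g * x * g⁻¹ ∈ K) → ¬ K ≤ scalars ι F → K = N) :
    (∀ K : Subgroup (GL ι F), K ≤ N → (∀ g ∈ N, ∀ x ∈ K, g * x * g⁻¹ ∈ K) → ¬ K ≤ scalars ι F → K = N) ∨
      ∃ M : Subgroup (GL ι F), M ≤ N ∧ (∀ g ∈ N, ∀ x ∈ M, g * x * g⁻¹ ∈ M) ∧ ¬ M ≤ scalars ι F ∧ algOf M ≠ ⊤ := by
  classical
  by_contra hcon
  push Not at hcon
  obtain ⟨⟨K0, hK0N, hK0inv, hK0ns, hK0ne⟩, hall⟩ := hcon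
  let P : Subgroup (GL ι F) → Prop :=
    fun K => K ≤ K0 ∧ (∀ g ∈ N, ∀ x ∈ K, g * x * g⁻¹ ∈ K) ∧ ¬ K ≤ scalars ι F
  obtain ⟨M, ⟨hMK0, hMinv, hMns⟩, hMmin⟩ := (Set.toFinite {K | P K}).exists_minimal ⟨K0, le_rfl, hK0inv, hK0ns⟩
  have hMN : M ≤ N := hMK0.trans hK0N
  have hMne : M ≠ N := fun h => hK0ne (le_antisymm hK0N (h ▸ hMK0))
  have hMspan : algOf M = ⊤ := hall M hMN hMinv hMns
  obtain ⟨h, hh, hne⟩ : ∃ h ∈ H, M.map (MulAut.conj h).toMonoidHom ≠ M := by
    by_contra hc
    push Not at hc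
    exact hMne (hmin M hMN (fun g hg x hx => hc g hg ▸ ⟨x, hx, rfl⟩) hMns)
  let K := M.map (MulAut.conj h).toMonoidHom
  have hKN : K ≤ N := by rintro _ ⟨x, hx, rfl⟩; exact hinv h hh x (hMN hx)
  have hKinv : ∀ g ∈ N, ∀ x ∈ K, g * x * g⁻¹ ∈ K := by
    rintro g hg _ ⟨x, hx, rfl⟩
    refine ⟨_, hMinv (h⁻¹ * g * h) (by simpa using hinv h⁻¹ (inv_mem hh) g hg) x hx, ?_⟩
    simp [mul_assoc]
  have hint : M ⊓ K ≤ scalars ι F := by
    by_contra hns
    have h1 : M ≤ K := fun x hx =>
      (hMmin ⟨inf_le_left.trans hMK0, fun g hg y hy => ⟨hMinv g hg y hy.1, hKinv g hg y hy.2⟩, hns⟩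
        inf_le_left hx).2
    refine hne (Subgroup.eq_of_le_of_card_ge h1 ?_).symm
    exact le_of_eq (Subgroup.card_map_of_injective (MulAut.conj h).injective)
  have hscal : ∀ x ∈ M, ∀ y ∈ K, x * y = y * x := by
    intro x hx y hy
    have hxN := hMN hx
    have hyN := hKN hy
    have h1 : x * y * x⁻¹ * y⁻¹ ∈ scalars ι F := by
      refine hint (Subgroup.mem_inf.2 ⟨?_, mul_mem (hKinv x hxN y hy) (inv_mem hy)⟩)
      rw [show x * y * x⁻¹ * y⁻¹ = x * (y * x⁻¹ * y⁻¹) by group]
      exact mul_mem hx (hMinv y hyN _ (inv_mem hx))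
    have h2' := scalar_iso_eq_one h2 hf h1
      (hH _ (hNH (mul_mem (mul_mem (mul_mem hxN hyN) (inv_mem hxN)) (inv_mem hyN))))
    exact mul_inv_eq_iff_eq_mul.1 (mul_inv_eq_one.1 h2')
  refine hMns fun x hx => ?_
  have hy : h * x * h⁻¹ ∈ scalars ι F :=
    mem_scalars_of_commute hMspan fun y hy => by
      first
      | exact (hscal y hy _ ⟨x, hx, rfl⟩).symm
      | exact hscal y hy _ ⟨x, hx, rfl⟩
  have := (scalars_normal (ι := ι) (F := F)).conj_mem _ hy h⁻¹
  simpa [mul_assoc] using this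

/-- An irreducible perfect group does not permute two complementary subspaces. -/
theorem perfect_not_le_two {N : Subgroup (GL ι F)} (hperf : ⁅N, N⁆ = N) (hirr : ActsIrreducibly (matrixSet N))
    {m : ℕ} {D : Fin 2 → Submodule F (ι → F)} (hD : IsMDecomposition m D) (hle : N ≤ decompositionStabilizer D) :
    False := by
  let S : Subgroup (GL ι F) := subspaceStabilizer (D 0)
  have hinj : Function.Injective D := hD.indep.injective fun i h => by
    have := hD.finrank_eq i
    rw [h, finrank_bot] at this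
    exact absurd hD.pos (by omega)
  choose τ hτ using fun g : N => hle g.2
  have hmap : ∀ g h : N, τ (g * h) = τ g * τ h := by
    intro g h
    refine Equiv.ext fun i => hinj ?_
    rw [← hτ (g * h) i, Subgroup.coe_mul, Units.val_mul, Matrix.toLin'_mul, Submodule.map_comp, hτ h, hτ g]
    rfl
  let φ : N →* Equiv.Perm (Fin 2) := MonoidHom.mk' τ hmap
  have hφ : ∀ g, φ g = 1 := by
    have htop : ⁅(⊤ : Subgroup N), (⊤ : Subgroup N)⁆ = (⊤ : Subgroup N) := by
      apply Subgroup.map_injective N.subtype_injective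
      rw [Subgroup.map_commutator, ← MonoidHom.range_eq_map, Subgroup.range_subtype, hperf]
    have hker : ⁅(⊤ : Subgroup N), (⊤ : Subgroup N)⁆ ≤ φ.ker := Subgroup.commutator_le.2 fun a _ b _ => by
      rw [MonoidHom.mem_ker, map_commutatorElement]
      exact commutatorElement_eq_one_iff_mul_comm.2 (by
        generalize φ a = u, φ b = v
        revert u v
        decide)
    intro g
    refine MonoidHom.mem_ker.1 (hker ?_)
    rw [htop]
    exact Subgroup.mem_top g
  rcases hirr (D 0) (by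
    rintro _ ⟨g, hg, rfl⟩
    have h0 := hτ ⟨g, hg⟩ 0
    rw [show τ ⟨g, hg⟩ = 1 from hφ ⟨g, hg⟩] at h0
    exact le_of_eq h0) with h | h
  · have := hD.finrank_eq 0
    rw [h, finrank_bot] at this
    exact absurd hD.pos (by omega)
  · have h01 : D 1 = ⊥ := by
      exact eq_bot_iff.2 fun v hv => Submodule.disjoint_def.1 (hD.indep 1) v hv
        (Submodule.mem_iSup_of_mem 0 (Submodule.mem_iSup_of_mem (by decide) (h ▸ Submodule.mem_top)))
    have := hD.finrank_eq 1
    rw [h01, finrank_bot] at this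
    exact absurd hD.pos (by omega)

/-- A perfect absolutely irreducible group normalises no quadratic extension field. -/
theorem perfect_not_normalized_quadratic [Fintype F] [Nonempty ι] {N : Subgroup (GL ι F)} (hperf : ⁅N, N⁆ = N)
    (hspan : algOf N = ⊤) {K : Subalgebra F (Matrix ι ι F)} (hK : IsFieldSubalgebra 2 K) (hNK : Normalized N K) :
    False := by
  obtain ⟨k, hk, hkbot⟩ : ∃ k ∈ K, k ∉ (⊥ : Subalgebra F (Matrix ι ι F)) := by
    by_contra hc
    push Not at hc
    have h1 : K = ⊥ := eq_bot_iff.2 hc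
    have h2 := hK.finrank_eq
    rw [h1, Subalgebra.finrank_bot] at h2
    omega
  let B : Submodule F (Matrix ι ι F) := Submodule.span F (Set.range ![1, k])
  have hBK : B = Subalgebra.toSubmodule K := by
    refine Submodule.eq_of_le_of_finrank_eq (Submodule.span_le.2 ?_) ?_
    · rintro _ ⟨i, rfl⟩; fin_cases i <;> first | exact one_mem K | exact hk
    · rw [show Module.finrank F (Subalgebra.toSubmodule K) = 2 from hK.finrank_eq, finrank_span_eq_card, Fintype.card_fin]
      rw [LinearIndependent.pair_iff' one_ne_zero]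
      intro r h
      exact hkbot (h ▸ Algebra.mem_bot.2 ⟨r, Algebra.algebraMap_eq_smul_one r⟩)
  have hkk : k * k ∈ B := hBK ▸ (Subalgebra.mem_toSubmodule K).2 (mul_mem hk hk)
  obtain ⟨c, hc⟩ := Submodule.mem_span_range_iff_exists_fun F |>.1 hkk
  rw [Fin.sum_univ_two] at hc
  change c 0 • (1 : Matrix ι ι F) + c 1 • k = k * k at hc
  let k' := c 1 • (1 : Matrix ι ι F) - k
  have hk' : k' ∈ K := sub_mem (K.smul_mem (one_mem K) _) hk
  have hroot : ∀ x ∈ K, x * x = c 0 • 1 + c 1 • x → x = k ∨ x = k' := by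
    intro x hx h
    by_cases h0 : x - k = 0
    · exact Or.inl (sub_eq_zero.1 h0)
    right
    obtain ⟨y, hy, hxy⟩ := hK.inv _ (sub_mem hx hk) h0
    have hprod : (x - k) * (x - k') = 0 := by
      have hcm := hK.comm x hx k hk
      simp only [k', sub_mul, mul_sub, mul_smul_comm, mul_one]
      rw [h, hcm, ← hc]
      module
    refine sub_eq_zero.1 ?_
    calc x - k' = y * ((x - k) * (x - k')) := by
          rw [← mul_assoc, hK.comm y hy _ (sub_mem hx hk), hxy, one_mul]
      _ = 0 := by rw [hprod, mul_zero]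
  have hgk : ∀ g ∈ N, conjHom g k = k ∨ conjHom g k = k' := fun g hg => hroot _ (hNK g hg k hk) (by
    rw [← map_mul, ← hc, map_add, map_smul, map_smul, map_one])
  have hfix' : ∀ g ∈ N, conjHom g k = k' → conjHom g k' = k := fun g hg h => by
    simp only [k', map_sub, map_smul, map_one]
    rw [h]
    simp [k']
  have hfix : ∀ g ∈ N, conjHom g k = k → conjHom g k' = k' := fun g hg h => by
    simp only [k', map_sub, map_smul, map_one, h]
  let C : Subgroup (GL ι F) :=
    { carrier := {g | conjHom g k = k}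
      one_mem' := by simp [conjHom_apply]
      mul_mem' := fun {a b} ha hb => by
        show conjHom (a * b) k = k
        rw [conjHom_mul, show conjHom b k = k from hb, show conjHom a k = k from ha]
      inv_mem' := fun {a} ha => by
        show conjHom a⁻¹ k = k
        conv_lhs => rw [← show conjHom a k = k from ha]
        exact conjHom_inv_cancel a k }
  have hNC : N ≤ C := by
    rw [← hperf, Subgroup.commutator_le]
    intro a ha b hb
    show conjHom ⁅a, b⁆ k = k
    have key : conjHom (a * b) k = conjHom (b * a) k := by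
      rw [conjHom_mul, conjHom_mul]
      rcases hgk a ha with h1 | h1 <;> rcases hgk b hb with h3 | h3 <;>
        simp only [h1, h3] <;> first | rfl | (rw [hfix _ ha h1]) | (rw [hfix _ hb h3]) |
          (rw [hfix' _ ha h1, hfix' _ hb h3])
    have hrot : ⁅a, b⁆ = a * b * (b * a)⁻¹ := by rw [commutatorElement_def]; group
    obtain ⟨x, hx⟩ : ∃ x, k = conjHom (b * a) x := ⟨conjHom (b * a)⁻¹ k, (conjHom_cancel _ k).symm⟩
    rw [hrot, conjHom_mul]
    conv_lhs => rw [show k = conjHom (b * a) (conjHom (b * a)⁻¹ k) from (conjHom_cancel _ k).symm, conjHom_inv_cancel]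
    have hmem := hgk _ (inv_mem (mul_mem hb ha))
    rcases hmem with h | h
    · rw [h]
      have h' : conjHom (b * a) k = k := by conv_lhs => rw [← h, conjHom_cancel]
      rw [key, h']
    · rw [h]
      have h' : conjHom (b * a) k' = k := by rw [← h, conjHom_cancel]
      have hk2 : conjHom (a * b) k' = conjHom (b * a) k' := by
        simp only [k', map_sub, map_smul, map_one, key]
      rw [hk2, h']
  obtain ⟨r, hr⟩ := scalar_of_commute hspan (M := k) (by
    rintro _ ⟨g, hg, rfl⟩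
    have h1 : conjHom g k = k := hNC hg
    rw [conjHom_apply] at h1
    conv_lhs => rw [← h1]
    rw [mul_assoc, Units.inv_mul, mul_one])
  exact hkbot (hr ▸ Algebra.mem_bot.2 ⟨r, Algebra.algebraMap_eq_smul_one r⟩)

/-- Every maximal subgroup of Sp_4(q), q ≥ 4 even, is of one of the listed geometric types or lies in the residual class. Let F be a finite field of even order q ≥ 4, f the standard alternating form on F^4 (coordinates Fin 2 ⊕ Fin 2), and H a maximal subgroup of Sp_4(F) (inside GL_4(F)). Then H is the intersection with Sp_4(F) of one of: the stabiliser of a non-zero totally isotropic subspace; the stabiliser of a decomposition into two orthogonal non-degenerate 2-spaces; the normaliser of a degree-2 subfield K of the matrix algebra, self-adjoint with f(k v, v) = 0; a subfield group whose F₀-structure carries a non-zero multiple of f, |F| = |F₀|^r with r prime; the similarity group of a non-degenerate quadratic form whose polar form is f — or else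 H lies in the residual class of the symplectic case. -/
theorem result {F : Type*} [Field F] [Fintype F] (heven : ¬ Odd (Fintype.card F)) (h4 : 4 ≤ Fintype.card F) (H : Subgroup (Matrix.GeneralLinearGroup (Fin 2 ⊕ Fin 2) F)) (hH : Cfsg.Geo.IsMaximalIn (Cfsg.spGL 2 F) H) :
    (∃ W : Submodule F (Fin 2 ⊕ Fin 2 → F), W ≠ ⊥ ∧ Cfsg.Geo.IsTotallySingularFor (Cfsg.sympForm 2 F) W ∧ H = Cfsg.Geo.subspaceStabilizer W ⊓ Cfsg.spGL 2 F) ∨
    (∃ D : Fin 2 → Submodule F (Fin 2 ⊕ Fin 2 → F), Cfsg.Geo.IsNondegenerateMDecomposition (Cfsg.sympForm 2 F) 2 D ∧ H = Cfsg.Geo.decompositionStabilizer D ⊓ Cfsg.spGL 2 F) ∨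
    (∃ K : Subalgebra F (Matrix (Fin 2 ⊕ Fin 2) (Fin 2 ⊕ Fin 2) F), Cfsg.Geo.IsFieldSubalgebra 2 K ∧ Cfsg.Geo.IsSelfAdjointFor (Cfsg.sympForm 2 F) K ∧ (∀ k ∈ K, ∀ v : (Fin 2 ⊕ Fin 2 → F), (Cfsg.sympForm 2 F) (Matrix.mulVec k v) v = 0) ∧ H = Cfsg.Geo.subalgebraNormalizer K ⊓ Cfsg.spGL 2 F) ∨
    (∃ (F₀ : Subfield F) (r : ℕ) (P : Matrix.GeneralLinearGroup (Fin 2 ⊕ Fin 2) F) (ζ : F), r.Prime ∧ Fintype.card F = Nat.card F₀ ^ r ∧ ζ ≠ 0 ∧ Cfsg.Geo.IsFormRationalStructure (Cfsg.sympForm 2 F) F₀ ζ P ∧ H = Cfsg.Geo.subfieldSubgroup F₀ P ⊓ Cfsg.spGL 2 F) ∨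
    (∃ Q : (Fin 2 ⊕ Fin 2 → F) → F, Cfsg.Geo.IsNondegenerateQuadraticForm Q ∧ (∀ u v : (Fin 2 ⊕ Fin 2 → F), QuadraticMap.polar Q u v = (Cfsg.sympForm 2 F) u v) ∧ H = Cfsg.Geo.quadSimilarityGroup Q ⊓ Cfsg.spGL 2 F) ∨
    Cfsg.Geo.InSymplecticResidualClass H := by
  classical
  have h2 : (2 : F) = 0 := two_eq_zero_of_not_odd heven
  haveI : Nonempty (Fin 2 ⊕ Fin 2) := ⟨Sum.inl 0⟩
  have hN : Fintype.card (Fin 2 ⊕ Fin 2) = 4 := by simp
  have hn : 3 ≤ Fintype.card (Fin 2 ⊕ Fin 2) := by omega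
  have hn2 : 2 ≤ Fintype.card (Fin 2 ⊕ Fin 2) := by omega
  set f := Cfsg.sympForm 2 F with hfdef
  set Ω := Cfsg.spGL 2 F with hΩdef
  have hf : IsSymplecticForm f := CfsgLib.GeomClasses.Symp.isSymplecticForm_sympForm (F := F) 2
  have hΩ : HasSTv f Ω := fun v c => CfsgLib.GeomClasses.Symp.formTv_mem_spGL 2 v c
  have hΩf : IsoGrp f Ω := fun g hg => CfsgLib.GeomClasses.Symp.mem_spGL.1 hg
  have hh := herm_symplectic hf
  have hHf : IsoGrp f H := fun g hg => hΩf g (hH.1.le hg)
  by_cases hquad : HasQuad f H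
  · obtain ⟨Q, hQ, hpol, hle⟩ := hquad
    exact Or.inr (Or.inr (Or.inr (Or.inr (Or.inl ⟨Q, hQ, hpol,
      eq_inf_of_le hH hle (stv_not_le_quad hf hn hΩ h2 hQ hpol)⟩))))
  by_cases hirr : ActsIrreducibly (matrixSet H)
  swap
  · rcases reducible_cases hh hHf hirr with ⟨W, h1, h3, hW, hle⟩ | ⟨W, h1, h3, hW, hd, hle⟩ | ⟨m, D, hD, hle⟩
    · exact Or.inl ⟨W, h1, hW, eq_inf_of_le hH hle (stv_not_le_subspace hf hΩ h1 h3)⟩
    · exfalso
      have hev := two_dvd_finrank_of_nondegenerate hf hW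
      apply h1
      rw [← Submodule.finrank_eq_zero]
      omega
    · have hm := mdecomposition_card hD.decomp
      obtain rfl : m = 2 := by omega
      exact Or.inr (Or.inl ⟨D, hD, eq_inf_of_le hH hle (stv_not_le_decomposition hf hΩ hD.decomp le_rfl)⟩)
  refine Or.inr ?_
  rcases irreducible_cases hn2 hh hHf hirr with hg | ⟨N, hNH, hinv, hns, hspan, hmin, hcase⟩
  swap
  · have hNf : IsoGrp f N := fun g hg => hHf g (hNH hg)
    rcases hcase with ⟨hcl, -⟩ | ⟨hperf, -⟩
    · exact (not_class_two h2 hf hNf hspan hns hcl).elim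
    have hquadN : ¬ HasQuad f N := by
      rintro ⟨Q, hQ, hpol, hle⟩
      refine hquad (le_quad_of_spanning hn2 h2 hf hHf hNH hinv hspan hQ ?_)
      rintro _ ⟨g, hg, rfl⟩ v
      obtain ⟨c, hc⟩ := hle hg
      obtain ⟨w, hw⟩ := exists_ne (0 : Fin 2 ⊕ Fin 2 → F)
      obtain ⟨x, hx⟩ := (hf.nondegenerate w hw).2
      have h1 : f ((g : Matrix _ _ F) *ᵥ w) ((g : Matrix _ _ F) *ᵥ x) = (c : F) * f w x := by
        rw [← hpol, ← hpol, QuadraticMap.polar, QuadraticMap.polar, ← Matrix.mulVec_add, hc, hc, hc]; ring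
      rw [hNf g hg] at h1
      have hc1 : (c : F) = 1 := mul_right_cancel₀ hx (by rw [one_mul]; exact h1.symm)
      rw [hc v, hc1, one_mul]
    rcases simple_or_sub h2 hf hHf hNH hinv hmin with hsimple | ⟨M, hMN, hMinv, hMns, hMspan⟩
    · rcases symplectic_residual_cases hn2 hf hHf hNH hinv hns hspan hperf hsimple with
        ⟨F₀, r, P, ζ, hr, hc, hζ, hform, hle⟩ | ⟨-, Q, hQ, hpol, hle⟩ | h
      · exact Or.inr (Or.inr (Or.inl ⟨F₀, r, P, ζ, hr, hc, hζ, hform,
          eq_inf_of_le hH hle (stv_not_le_subfield hf hn hΩ (subfield_ne_top hr hc) P)⟩))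
      · exact absurd ⟨Q, hQ, hpol, hle⟩ hquad
      · exact Or.inr (Or.inr (Or.inr (Or.inr h)))
    exfalso
    have hNirr := irreducible_of_algOf_eq_top hspan
    rcases algOf_cases hh hNf hNirr hMN hMinv hMns hMspan with ⟨t, m, D, hD, hle⟩ | ⟨m, D, hD, hTS, hle⟩ |
      ⟨s, K, hs, hK, hKa, hNK⟩ | ⟨a, b, e, P, ε₁, ε₂, f₁, f₂, ha, hb, h₁, h₂, hε, -, hT, hle⟩
    · have hm2 : 2 ∣ m := hD.decomp.finrank_eq ⟨0, lt_of_lt_of_le two_pos hD.decomp.two_le⟩ ▸
        two_dvd_finrank_of_nondegenerate hf (hD.nondegenerate _)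
      have hm : 2 ≤ m := Nat.le_of_dvd hD.decomp.pos hm2
      have := mdecomposition_card hD.decomp
      have ht := hD.decomp.two_le
      obtain rfl : t = 2 := by nlinarith
      exact perfect_not_le_two hperf hNirr hD.decomp hle
    · exact perfect_not_le_two hperf hNirr hD hle
    · by_cases hself : IsSelfAdjointFor f K
      · have halt := selfAdjoint_alternating hf hK hself
        have hd := two_mul_dvd_of_alternating_field hf hK hself halt
        obtain rfl : s = 2 := by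
          rw [hN] at hd
          have := Nat.le_of_dvd (by omega) hd
          have := hs.two_le
          omega
        exact perfect_not_normalized_quadratic hperf hspan hK hNK
      · have hs2 : s = 2 := hs.eq_two_or_odd'.resolve_right fun ho => hself (selfAdjoint_of_odd hh hK ho hKa)
        subst hs2
        exact hquadN (exists_quad_of_field h2 hf hNf hK hKa hself hNK)
    · exact hquadN (hasQuad_of_tensor h2 hf hNf hNirr ha hb h₁ h₂ hT hle)
  rcases hg with ⟨t, m, D, hD, hle⟩ | ⟨m, D, hD, hTS, hle⟩ | ⟨s, K, hs, hK, hKa, hHK⟩ |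
    ⟨a, b, e, P, ε₁, ε₂, f₁, f₂, ha, hb, h₁, h₂, hε, -, hT, hle⟩
  · have hm2 : 2 ∣ m := hD.decomp.finrank_eq ⟨0, lt_of_lt_of_le two_pos hD.decomp.two_le⟩ ▸
      two_dvd_finrank_of_nondegenerate hf (hD.nondegenerate _)
    have hm : 2 ≤ m := Nat.le_of_dvd hD.decomp.pos hm2
    have := mdecomposition_card hD.decomp
    have ht := hD.decomp.two_le
    obtain rfl : t = 2 := by nlinarith
    obtain rfl : m = 2 := by omega
    exact Or.inl ⟨D, hD, eq_inf_of_le hH hle (stv_not_le_decomposition hf hΩ hD.decomp hm)⟩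
  · exact absurd (hasQuad_of_pair h2 hf hHf hD hTS hle) hquad
  · by_cases hself : IsSelfAdjointFor f K
    · have halt := selfAdjoint_alternating hf hK hself
      have hd := two_mul_dvd_of_alternating_field hf hK hself halt
      obtain rfl : s = 2 := by
        rw [hN] at hd
        have := Nat.le_of_dvd (by omega) hd
        have := hs.two_le
        omega
      exact Or.inr (Or.inl ⟨K, hK, hself, halt,
        eq_inf_of_le hH (le_subalgebraNormalizer hHK) (stv_not_le_field hf hn hΩ hs.one_lt hK)⟩)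
    · have hs2 : s = 2 := hs.eq_two_or_odd'.resolve_right fun ho => hself (selfAdjoint_of_odd hh hK ho hKa)
      subst hs2
      exact absurd (exists_quad_of_field h2 hf hHf hK hKa hself hHK) hquad
  · exact absurd (hasQuad_of_tensor h2 hf hHf hirr ha hb h₁ h₂ hT hle) hquad

end Cfsg.Agent.S5790
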