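import Cfsg.Statements.S5796
import Cfsg.Agent.Lib.Geo.AschUnit
import Cfsg.Agent.Lib.GeomClasses.UnitPow
import Cfsg.Agent.Lib.Geo.AschUnitFive

set_option autoImplicit false
open Cfsg

namespace Cfsg.Agent.S5796

open CfsgLib.Geo.Asch CfsgLib.GeomClasses

/-- Every maximal subgroup of SU_5(q) is of one of the listed geometric types or lies in the residual class. Let F be the field with q² elements (characteristic p), f the standard unitary form Σ u_i v_i^q on F^5, and H a maximal subgroup of SU_5(q) (inside GL_5(F)). Then H is the intersection with SU_5(q) of one of: the stabiliser of a non-zero totally isotropic subspace; the stabiliser of a non-degenerate 1-space or 2-space; the stabiliser of a decomposition into five mutually orthogonal non-degenerate 1-spaces; for q ≥ 3, the normaliser of an adjoint-closed degree-5 subfield of the matrix algebra; a subfield group of odd prime index whose F₀-structure carries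 f; for q odd, a subfield group of index 2 whose F₀-structure carries f; for q = p ≡ 4 mod 5 or q = p² with p ≡ 2, 3 mod 5, the normaliser of an absolutely irreducible 5-group of exponent 5, order 125 and centre of order 5 with all characteristic abelian subgroups cyclic inside the similarity group of f — or else H lies in the residual class of the unitary case. -/
theorem result {F : Type*} [Field F] [Fintype F] (q : ℕ) (hF : Fintype.card F = q ^ 2) (H : Subgroup (Matrix.GeneralLinearGroup (Fin 5) F)) (hH : Cfsg.Geo.IsMaximalIn (Cfsg.GU 5 F q ⊓ Cfsg.Geo.specialLinear (Fin 5) F) H) :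
    (∃ W : Submodule F (Fin 5 → F), W ≠ ⊥ ∧ Cfsg.Geo.IsTotallySingularFor (Cfsg.hermForm 5 F q) W ∧ H = Cfsg.Geo.subspaceStabilizer W ⊓ (Cfsg.GU 5 F q ⊓ Cfsg.Geo.specialLinear (Fin 5) F)) ∨
    (∃ W : Submodule F (Fin 5 → F), W ≠ ⊥ ∧ Cfsg.Geo.IsNondegenerateOn (Cfsg.hermForm 5 F q) W ∧ 2 * Module.finrank F W < 5 ∧ H = Cfsg.Geo.subspaceStabilizer W ⊓ (Cfsg.GU 5 F q ⊓ Cfsg.Geo.specialLinear (Fin 5) F)) ∨
    (∃ D : Fin 5 → Submodule F (Fin 5 → F), Cfsg.Geo.IsNondegenerateMDecomposition (Cfsg.hermForm 5 F q) 1 D ∧ H = Cfsg.Geo.decompositionStabilizer D ⊓ (Cfsg.GU 5 F q ⊓ Cfsg.Geo.specialLinear (Fin 5) F)) ∨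
    (3 ≤ q ∧ ∃ K : Subalgebra F (Matrix (Fin 5) (Fin 5) F), Cfsg.Geo.IsFieldSubalgebra 5 K ∧ Cfsg.Geo.IsAdjointClosedFor (Cfsg.hermForm 5 F q) K ∧ H = Cfsg.Geo.subalgebraNormalizer K ⊓ (Cfsg.GU 5 F q ⊓ Cfsg.Geo.specialLinear (Fin 5) F)) ∨
    (∃ (F₀ : Subfield F) (r : ℕ) (P : Matrix.GeneralLinearGroup (Fin 5) F), r.Prime ∧ Odd r ∧ Fintype.card F = Nat.card F₀ ^ r ∧ Cfsg.Geo.IsFormRationalStructure (Cfsg.hermForm 5 F q) F₀ 1 P ∧ H = Cfsg.Geo.subfieldSubgroup F₀ P ⊓ (Cfsg.GU 5 F q ⊓ Cfsg.Geo.specialLinear (Fin 5) F)) ∨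
    (Odd q ∧ ∃ (F₀ : Subfield F) (P : Matrix.GeneralLinearGroup (Fin 5) F), Fintype.card F = Nat.card F₀ ^ 2 ∧ Cfsg.Geo.IsFormRationalStructure (Cfsg.hermForm 5 F q) F₀ 1 P ∧ H = Cfsg.Geo.subfieldSubgroup F₀ P ⊓ (Cfsg.GU 5 F q ⊓ Cfsg.Geo.specialLinear (Fin 5) F)) ∨
    (∃ (p : ℕ) (R : Subgroup (Matrix.GeneralLinearGroup (Fin 5) F)), p.Prime ∧ CharP F p ∧ ((q = p ∧ p % 5 = 4) ∨ (q = p ^ 2 ∧ (p % 5 = 2 ∨ p % 5 = 3))) ∧ Cfsg.Geo.IsSymplecticTypeGroup 5 R ∧ Cfsg.Geo.ActsAbsolutelyIrreducibly (Cfsg.Geo.matrixSet R) ∧ R ≤ Cfsg.Geo.similarityGroup (Cfsg.hermForm 5 F q) ∧ Nat.card R = 125 ∧ Nat.card (Subgroup.center R) = 5 ∧ H = Cfsg.Geo.subgroupNormalizer R ⊓ (Cfsg.GU 5 F q ⊓ Cfsg.Geo.specialLinear (Fin 5) F)) ∨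
    Cfsg.Geo.InUnitaryResidualClass H := by
  rcases unitary_prime_cases (σ := UnitPow.conj hF) (n := 5) (by norm_num) (by norm_num) hF
      (fun x => UnitPow.conj_apply hF x) (UnitPow.isUnitaryForm_hermForm hF 5)
      (fun i j => by
        have hq0 : q ≠ 0 := by have := UnitPow.two_le hF; omega
        by_cases hij : i = j
        · simp [Cfsg.hermForm, Pi.single_apply, hij, hq0]
        · simp [Cfsg.hermForm, Pi.single_apply, hij, Ne.symm hij, hq0])
      (Ω := Cfsg.GU 5 F q ⊓ Cfsg.Geo.specialLinear (Fin 5) F) (fun g => ⟨fun h => ⟨UnitPow.mem_GU.1 h.1, h.2⟩, fun h => ⟨UnitPow.mem_GU.2 h.1, h.2⟩⟩) hH with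
    h | h | h | ⟨K, hK, hadj, ⟨N, hNH, hinv, hns, hNirr, hab⟩, hK'⟩ | h | h | ⟨p, e, R, hp, hchar, hqp, hdvd, hhalf, hmind, hsym, habs, hRΩ, hcard, hcen, hEq⟩ | h
  · exact Or.inl h
  · exact Or.inr (Or.inl h)
  · exact Or.inr (Or.inr (Or.inl h))
  · refine Or.inr (Or.inr (Or.inr (Or.inl ⟨?_, K, hK, hadj, hK'⟩)))
    by_contra hlt
    obtain rfl : q = 2 := by have := UnitPow.two_le hF; omega
    exact SU5Two.false_of_field (by rw [hF]; norm_num) hH hNH hinv hns hNirr hab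
  · exact Or.inr (Or.inr (Or.inr (Or.inr (Or.inl h))))
  · exact Or.inr (Or.inr (Or.inr (Or.inr (Or.inr (Or.inl h)))))
  · refine Or.inr (Or.inr (Or.inr (Or.inr (Or.inr (Or.inr (Or.inl ⟨p, R, hp, hchar, ?_, hsym, habs, fun g hg => ⟨1, fun u v => by rw [UnitPow.mem_GU.1 (hRΩ hg).1, Units.val_one, one_mul]⟩, by rw [hcard]; norm_num, hcen, hEq⟩))))))
    have h2e : 2 * e ∣ 4 := hdvd
    have hle : 2 * e ≤ 4 := Nat.le_of_dvd (by norm_num) h2e
    obtain rfl | rfl : e = 1 ∨ e = 2 := by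
      have he' : e ≤ 2 := by omega
      interval_cases e <;> first | tauto | (exfalso; revert h2e; decide)
    · exact Or.inl ⟨by simpa using hqp, by simpa using hhalf⟩
    · refine Or.inr ⟨hqp, ?_⟩
      have hlt := Nat.mod_lt p (show 5 > 0 by norm_num)
      rw [Nat.pow_mod] at hhalf
      interval_cases hr : p % 5 <;> first | omega | tauto
  · exact Or.inr (Or.inr (Or.inr (Or.inr (Or.inr (Or.inr (Or.inr (h)))))))

end Cfsg.Agent.S5796
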