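import Cfsg.Statements.S5802
import Cfsg.Agent.Lib.Geo.AschUnitCases
import Cfsg.Agent.Lib.Geo.AschUnitSix
import Cfsg.Agent.Lib.Geo.AschUnitSixField
import Cfsg.Agent.Lib.GeomClasses.UnitPow

set_option autoImplicit false
open Cfsg

namespace Cfsg.Agent.S5802

open CfsgLib.Geo.Asch CfsgLib.GeomClasses

theorem six_not_primePow : ¬ IsPrimePow 6 := by
  intro h
  rw [isPrimePow_nat_iff] at h
  obtain ⟨p, k, hp, hk, hpk⟩ := h
  have h2 := (Nat.prime_dvd_prime_iff_eq Nat.prime_two hp).1 (Nat.prime_two.dvd_of_dvd_pow (show 2 ∣ p ^ k by omega))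
  have h3 := (Nat.prime_dvd_prime_iff_eq Nat.prime_three hp).1 (Nat.prime_three.dvd_of_dvd_pow (show 3 ∣ p ^ k by omega))
  omega

theorem six_not_power (a t : ℕ) (ha : 2 ≤ a) (ht : 2 ≤ t) : 6 ≠ a ^ t := by
  intro h
  rcases Nat.lt_or_ge a 3 with ha3 | ha3
  · obtain rfl : a = 2 := by omega
    rcases Nat.lt_or_ge t 3 with ht3 | ht3
    · obtain rfl : t = 2 := by omega
      omega
    · have := Nat.pow_le_pow_right (show 0 < 2 by omega) ht3
      omega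
  · have h9 : 3 ^ 2 ≤ a ^ t := (Nat.pow_le_pow_right (by norm_num) ht).trans (Nat.pow_le_pow_left ha3 t)
    omega


/-- Every maximal subgroup of SU_6(q) is of one of the listed geometric types or lies in the residual class. Let F be the field with q² elements, f the standard unitary form Σ u_i v_i^q on F^6, and H a maximal subgroup of SU_6(q) (inside GL_6(F)). Then H is the intersection with SU_6(q) of one of: the stabiliser of a non-zero totally isotropic subspace; the stabiliser of a non-degenerate 1- or 2-space; for q ≥ 3, the stabiliser of a decomposition into six mutually orthogonal non-degenerate 1-spaces; for q ≥ 3, of a decomposition into three mutually orthogonal non-degenerate 2-spaces; of a decomposition into two orthogonal non-degenerate 3-spaces; of a decomposition into two totally isotropic 3-spaces; for q ≥ 3, the normaliser of an adjoint-closed degree-3 subfield of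 the matrix algebra; for q ≥ 3, the stabiliser of a tensor decomposition of f into unitary forms on F^2 and F^3; a subfield group of odd prime index whose F₀-structure carries f; a subfield group of index 2 and symplectic type; for q odd, a subfield group of index 2 and orthogonal type — or else H lies in the residual class of the unitary case. -/
theorem result {F : Type*} [Field F] [Fintype F] (q : ℕ) (hF : Fintype.card F = q ^ 2) (H : Subgroup (Matrix.GeneralLinearGroup (Fin 6) F)) (hH : Cfsg.Geo.IsMaximalIn (Cfsg.GU 6 F q ⊓ Cfsg.Geo.specialLinear (Fin 6) F) H) :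
    (∃ W : Submodule F (Fin 6 → F), W ≠ ⊥ ∧ Cfsg.Geo.IsTotallySingularFor (Cfsg.hermForm 6 F q) W ∧ H = Cfsg.Geo.subspaceStabilizer W ⊓ (Cfsg.GU 6 F q ⊓ Cfsg.Geo.specialLinear (Fin 6) F)) ∨
    (∃ W : Submodule F (Fin 6 → F), W ≠ ⊥ ∧ Cfsg.Geo.IsNondegenerateOn (Cfsg.hermForm 6 F q) W ∧ 2 * Module.finrank F W < 6 ∧ H = Cfsg.Geo.subspaceStabilizer W ⊓ (Cfsg.GU 6 F q ⊓ Cfsg.Geo.specialLinear (Fin 6) F)) ∨
    (3 ≤ q ∧ ∃ D : Fin 6 → Submodule F (Fin 6 → F), Cfsg.Geo.IsNondegenerateMDecomposition (Cfsg.hermForm 6 F q) 1 D ∧ H = Cfsg.Geo.decompositionStabilizer D ⊓ (Cfsg.GU 6 F q ⊓ Cfsg.Geo.specialLinear (Fin 6) F)) ∨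
    (3 ≤ q ∧ ∃ D : Fin 3 → Submodule F (Fin 6 → F), Cfsg.Geo.IsNondegenerateMDecomposition (Cfsg.hermForm 6 F q) 2 D ∧ H = Cfsg.Geo.decompositionStabilizer D ⊓ (Cfsg.GU 6 F q ⊓ Cfsg.Geo.specialLinear (Fin 6) F)) ∨
    (∃ D : Fin 2 → Submodule F (Fin 6 → F), Cfsg.Geo.IsNondegenerateMDecomposition (Cfsg.hermForm 6 F q) 3 D ∧ H = Cfsg.Geo.decompositionStabilizer D ⊓ (Cfsg.GU 6 F q ⊓ Cfsg.Geo.specialLinear (Fin 6) F)) ∨
    (∃ D : Fin 2 → Submodule F (Fin 6 → F), Cfsg.Geo.IsMDecomposition 3 D ∧ (∀ i, Cfsg.Geo.IsTotallySingularFor (Cfsg.hermForm 6 F q) (D i)) ∧ H = Cfsg.Geo.decompositionStabilizer D ⊓ (Cfsg.GU 6 F q ⊓ Cfsg.Geo.specialLinear (Fin 6) F)) ∨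
    (3 ≤ q ∧ ∃ K : Subalgebra F (Matrix (Fin 6) (Fin 6) F), Cfsg.Geo.IsFieldSubalgebra 3 K ∧ Cfsg.Geo.IsAdjointClosedFor (Cfsg.hermForm 6 F q) K ∧ H = Cfsg.Geo.subalgebraNormalizer K ⊓ (Cfsg.GU 6 F q ⊓ Cfsg.Geo.specialLinear (Fin 6) F)) ∨
    (3 ≤ q ∧ ∃ (e : Fin 6 ≃ Fin 2 × Fin 3) (P : Matrix.GeneralLinearGroup (Fin 6) F) (f₁ : (Fin 2 → F) → (Fin 2 → F) → F) (f₂ : (Fin 3 → F) → (Fin 3 → F) → F), Cfsg.Geo.IsUnitaryFormPow q f₁ ∧ Cfsg.Geo.IsUnitaryFormPow q f₂ ∧ Cfsg.Geo.IsTensorFormStructure (fun x : F => x ^ q) (Cfsg.hermForm 6 F q) f₁ f₂ e P ∧ H = Cfsg.Geo.tensorProductSubgroup 2 3 e P ⊓ (Cfsg.GU 6 F q ⊓ Cfsg.Geo.specialLinear (Fin 6) F)) ∨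
    (∃ (F₀ : Subfield F) (r : ℕ) (P : Matrix.GeneralLinearGroup (Fin 6) F), r.Prime ∧ Odd r ∧ Fintype.card F = Nat.card F₀ ^ r ∧ Cfsg.Geo.IsFormRationalStructure (Cfsg.hermForm 6 F q) F₀ 1 P ∧ H = Cfsg.Geo.subfieldSubgroup F₀ P ⊓ (Cfsg.GU 6 F q ⊓ Cfsg.Geo.specialLinear (Fin 6) F)) ∨
    (∃ (F₀ : Subfield F) (P : Matrix.GeneralLinearGroup (Fin 6) F) (ζ : F), Fintype.card F = Nat.card F₀ ^ 2 ∧ ζ ≠ 0 ∧ ζ + ζ ^ q = 0 ∧ Cfsg.Geo.IsFormRationalStructure (Cfsg.hermForm 6 F q) F₀ ζ P ∧ (∀ u : Fin 6 → F, (∀ i, u i ∈ F₀) → (Cfsg.hermForm 6 F q) (Matrix.mulVec (P : Matrix (Fin 6) (Fin 6) F) u) (Matrix.mulVec (P : Matrix (Fin 6) (Fin 6) F) u) = 0) ∧ H = Cfsg.Geo.subfieldSubgroup F₀ P ⊓ (Cfsg.GU 6 F q ⊓ Cfsg.Geo.specialLinear (Fin 6) F)) ∨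
    (Odd q ∧ ∃ (F₀ : Subfield F) (P : Matrix.GeneralLinearGroup (Fin 6) F), Fintype.card F = Nat.card F₀ ^ 2 ∧ Cfsg.Geo.IsFormRationalStructure (Cfsg.hermForm 6 F q) F₀ 1 P ∧ H = Cfsg.Geo.subfieldSubgroup F₀ P ⊓ (Cfsg.GU 6 F q ⊓ Cfsg.Geo.specialLinear (Fin 6) F)) ∨
    Cfsg.Geo.InUnitaryResidualClass H := by
  classical
  haveI : Nonempty (Fin 6) := ⟨0⟩
  have hN : Fintype.card (Fin 6) = 6 := Fintype.card_fin _
  have hf := UnitPow.isUnitaryForm_hermForm hF 6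
  have hΩ : HasUTv (UnitPow.conj hF) (Cfsg.hermForm 6 F q) (Cfsg.GU 6 F q ⊓ Cfsg.Geo.specialLinear (Fin 6) F) :=
    fun v c hv hc => ⟨UnitPow.mem_GU.2 (Unit.formTv_isometry hf hv hc), formTv_mem_specialLinear _ _ _⟩
  have hΩf : IsoGrp (Cfsg.hermForm 6 F q) (Cfsg.GU 6 F q ⊓ Cfsg.Geo.specialLinear (Fin 6) F) :=
    fun g hg => UnitPow.mem_GU.1 hg.1
  have he : ∀ i j : Fin 6, Cfsg.hermForm 6 F q (Pi.single i 1) (Pi.single j 1) = if i = j then 1 else 0 := fun i j => by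
    have hq0 : q ≠ 0 := by have := UnitPow.two_le hF; omega
    by_cases hij : i = j
    · simp [Cfsg.hermForm, Pi.single_apply, hij, hq0]
    · simp [Cfsg.hermForm, Pi.single_apply, hij, Ne.symm hij, hq0]
  have hq2 := UnitPow.two_le hF
  have h4 : ¬ 3 ≤ q → q = 2 ∧ Fintype.card F = 4 ∧ ∀ x, UnitPow.conj hF x = x ^ 2 := fun h => by
    obtain rfl : q = 2 := by omega
    exact ⟨rfl, by rw [hF]; rfl, fun x => UnitPow.conj_apply hF x⟩
  rcases unitary_cases (σ := UnitPow.conj hF) hF (fun x => UnitPow.conj_apply hF x) hf he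
    (Ω := Cfsg.GU 6 F q ⊓ Cfsg.Geo.specialLinear (Fin 6) F) (H := H) hΩ hΩf hH (by omega)
    (by rw [hN]; exact six_not_primePow) (by rw [hN]; exact six_not_power) with
    h | ⟨W, h1, h2, h3, h4'⟩ | ⟨t, m, D, ht, hm, htm, hq, hD, hEq⟩ | ⟨m, D, hm, hD, hTS, hEq⟩ |
    ⟨s, K, hs, hodd, hdvd, hK, hKa, hEq⟩ |
    ⟨a, b, e, P, f₁, f₂, ha, hlt, hab, hae, h1, h2, hT, hEq⟩ | h | h | h | h
  · exact Or.inl (h)
  · exact Or.inr (Or.inl (⟨W, h1, h2, by omega, h4'⟩))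
  · rw [hN] at htm
    have hm3 : m ≤ 3 := by nlinarith
    interval_cases m
    · obtain rfl : t = 6 := by omega
      by_cases hq3 : 3 ≤ q
      · exact Or.inr (Or.inr (Or.inl (⟨hq3, D, hD, hEq⟩)))
      obtain ⟨rfl, hF4, hσ2⟩ := h4 hq3
      exact (SU6Two.frame_false hF4 hσ2 hf hΩf inf_le_right hΩ hH hD (hEq.le.trans inf_le_left)).elim
    · obtain rfl : t = 3 := by omega
      exact Or.inr (Or.inr (Or.inr (Or.inl (⟨hq rfl, D, hD, hEq⟩))))
    · obtain rfl : t = 2 := by omega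
      exact Or.inr (Or.inr (Or.inr (Or.inr (Or.inl (⟨D, hD, hEq⟩)))))
  · obtain rfl : m = 3 := by omega
    exact Or.inr (Or.inr (Or.inr (Or.inr (Or.inr (Or.inl (⟨D, hD, hTS, hEq⟩))))))
  · obtain rfl : s = 3 := by
      rw [hN] at hdvd
      have hs6 := Nat.le_of_dvd (by omega) hdvd
      have := hs.two_le
      interval_cases s <;> first | rfl | (exfalso; revert hodd hdvd; decide)
    by_cases hq3 : 3 ≤ q
    · exact Or.inr (Or.inr (Or.inr (Or.inr (Or.inr (Or.inr (Or.inl (⟨hq3, K, hK, hKa, hEq⟩)))))))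
    obtain ⟨rfl, hF4, hσ2⟩ := h4 hq3
    obtain ⟨F₀, P, hc, hform, halt, hle⟩ := SU6Two.field_subfield hF4 hσ2 hf
      (fun g hg => hΩf g (hH.1.le hg)) (fun g hg => (hH.1.le hg).2) hK hKa (hEq.le.trans inf_le_left)
    have hEq' := eq_inf_of_le hH hle
      (utv_not_le_subfield hf (by omega) he hΩ (subfield_ne_top Nat.prime_two hc) P)
    have h20 : (1 : F) + 1 ^ 2 = 0 := by linear_combination UnitPow.four_two_zero hF4
    exact Or.inr (Or.inr (Or.inr (Or.inr (Or.inr (Or.inr (Or.inr (Or.inr (Or.inr (Or.inl (⟨F₀, P, 1, hc, one_ne_zero, h20, hform, halt, hEq'⟩))))))))))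
  · rw [hN] at hab
    obtain rfl : a = 2 := by
      have : a ≤ 2 := by nlinarith
      omega
    obtain rfl : b = 3 := by omega
    exact Or.inr (Or.inr (Or.inr (Or.inr (Or.inr (Or.inr (Or.inr (Or.inl (⟨hae rfl, e, P, f₁, f₂, h1, h2, hT, hEq⟩))))))))
  · exact Or.inr (Or.inr (Or.inr (Or.inr (Or.inr (Or.inr (Or.inr (Or.inr (Or.inl (h)))))))))
  · exact Or.inr (Or.inr (Or.inr (Or.inr (Or.inr (Or.inr (Or.inr (Or.inr (Or.inr (Or.inl (h))))))))))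
  · exact Or.inr (Or.inr (Or.inr (Or.inr (Or.inr (Or.inr (Or.inr (Or.inr (Or.inr (Or.inr (Or.inl (h)))))))))))
  · exact Or.inr (Or.inr (Or.inr (Or.inr (Or.inr (Or.inr (Or.inr (Or.inr (Or.inr (Or.inr (Or.inr (h)))))))))))

end Cfsg.Agent.S5802
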