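import Cfsg.Statements.S5805
import Cfsg.Agent.Lib.Geo.AschSympCases

set_option autoImplicit false
open Cfsg

namespace Cfsg.Agent.S5805

theorem not_primePow (p k : ℕ) (hp : p.Prime) (hk : 0 < k) (h : p ^ k = 6) : False := by
  have hle : p ≤ 6 := h ▸ Nat.le_self_pow (by omega) p
  have hk4 : k ≤ 4 := by
    by_contra hk'
    have := Nat.pow_le_pow_right hp.pos (show 5 ≤ k by omega)
    have := Nat.pow_le_pow_left hp.two_le 5
    omega
  interval_cases p <;> interval_cases k <;> first | omega | (norm_num at hp)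

theorem not_power (a t : ℕ) (ha : 2 ≤ a) (ht : 2 ≤ t) : 6 ≠ a ^ t := by
  intro h
  have hle : a ≤ 6 := h ▸ Nat.le_self_pow (by omega) a
  have ht4 : t ≤ 4 := by
    by_contra ht'
    have := Nat.pow_le_pow_right (show 0 < a by omega) (show 5 ≤ t by omega)
    have := Nat.pow_le_pow_left ha 5
    omega
  interval_cases a <;> interval_cases t <;> omega

/-- Every maximal subgroup of Sp_6(q) is of one of the listed geometric types or lies in the residual class. Let F be a finite field with q elements, f the standard alternating form on F^6 (coordinates Fin 3 ⊕ Fin 3), and H a maximal subgroup of Sp_6(F) (inside GL_6(F)). Then H is the intersection with Sp_6(F) of one of: the stabiliser of a non-zero totally isotropic subspace; the stabiliser of a non-degenerate 2-space; for q ≥ 3, the stabiliser of a decomposition into three mutually orthogonal non-degenerate 2-spaces; for q odd, of a decomposition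 into two totally isotropic 3-spaces; the normaliser of a degree-3 subfield K of the matrix algebra, self-adjoint with f(k v, v) = 0; for q odd, the normaliser of a degree-2 subfield closed under adjoints but not self-adjoint; for q odd, q ≥ 5, the stabiliser of a tensor decomposition of f into an alternating form on F^2 and a symmetric form on F^3; a subfield group (|F| = |F₀|^r, r prime) whose F₀-structure carries a non-zero multiple of f; for q even, the similarity group of a non-degenerate quadratic form polarising to f — or else H lies in the residual class of the symplectic case. -/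
theorem result {F : Type*} [Field F] [Fintype F] (H : Subgroup (Matrix.GeneralLinearGroup (Fin 3 ⊕ Fin 3) F)) (hH : Cfsg.Geo.IsMaximalIn (Cfsg.spGL 3 F) H) :
    (∃ W : Submodule F (Fin 3 ⊕ Fin 3 → F), W ≠ ⊥ ∧ Cfsg.Geo.IsTotallySingularFor (Cfsg.sympForm 3 F) W ∧ H = Cfsg.Geo.subspaceStabilizer W ⊓ Cfsg.spGL 3 F) ∨
    (∃ W : Submodule F (Fin 3 ⊕ Fin 3 → F), W ≠ ⊥ ∧ Cfsg.Geo.IsNondegenerateOn (Cfsg.sympForm 3 F) W ∧ Module.finrank F W < 3 ∧ H = Cfsg.Geo.subspaceStabilizer W ⊓ Cfsg.spGL 3 F) ∨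
    (3 ≤ Fintype.card F ∧ ∃ D : Fin 3 → Submodule F (Fin 3 ⊕ Fin 3 → F), Cfsg.Geo.IsNondegenerateMDecomposition (Cfsg.sympForm 3 F) 2 D ∧ H = Cfsg.Geo.decompositionStabilizer D ⊓ Cfsg.spGL 3 F) ∨
    (Odd (Fintype.card F) ∧ ∃ D : Fin 2 → Submodule F (Fin 3 ⊕ Fin 3 → F), Cfsg.Geo.IsMDecomposition 3 D ∧ (∀ i, Cfsg.Geo.IsTotallySingularFor (Cfsg.sympForm 3 F) (D i)) ∧ H = Cfsg.Geo.decompositionStabilizer D ⊓ Cfsg.spGL 3 F) ∨
    (∃ K : Subalgebra F (Matrix (Fin 3 ⊕ Fin 3) (Fin 3 ⊕ Fin 3) F), Cfsg.Geo.IsFieldSubalgebra 3 K ∧ Cfsg.Geo.IsSelfAdjointFor (Cfsg.sympForm 3 F) K ∧ (∀ k ∈ K, ∀ v : (Fin 3 ⊕ Fin 3 → F), (Cfsg.sympForm 3 F) (Matrix.mulVec k v) v = 0) ∧ H = Cfsg.Geo.subalgebraNormalizer K ⊓ Cfsg.spGL 3 F) ∨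
    (Odd (Fintype.card F) ∧ ∃ K : Subalgebra F (Matrix (Fin 3 ⊕ Fin 3) (Fin 3 ⊕ Fin 3) F), Cfsg.Geo.IsFieldSubalgebra 2 K ∧ Cfsg.Geo.IsAdjointClosedFor (Cfsg.sympForm 3 F) K ∧ ¬ Cfsg.Geo.IsSelfAdjointFor (Cfsg.sympForm 3 F) K ∧ H = Cfsg.Geo.subalgebraNormalizer K ⊓ Cfsg.spGL 3 F) ∨
    (Odd (Fintype.card F) ∧ 5 ≤ Fintype.card F ∧ ∃ (e : (Fin 3 ⊕ Fin 3) ≃ Fin 2 × Fin 3) (P : Matrix.GeneralLinearGroup (Fin 3 ⊕ Fin 3) F) (f₁ : (Fin 2 → F) → (Fin 2 → F) → F) (f₂ : (Fin 3 → F) → (Fin 3 → F) → F), Cfsg.Geo.IsSymplecticForm f₁ ∧ Cfsg.Geo.IsSymmetricForm f₂ ∧ Cfsg.Geo.IsTensorFormStructure id (Cfsg.sympForm 3 F) f₁ f₂ e P ∧ H = Cfsg.Geo.tensorProductSubgroup 2 3 e P ⊓ Cfsg.spGL 3 F) ∨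
    (∃ (F₀ : Subfield F) (r : ℕ) (P : Matrix.GeneralLinearGroup (Fin 3 ⊕ Fin 3) F) (ζ : F), r.Prime ∧ Fintype.card F = Nat.card F₀ ^ r ∧ ζ ≠ 0 ∧ Cfsg.Geo.IsFormRationalStructure (Cfsg.sympForm 3 F) F₀ ζ P ∧ H = Cfsg.Geo.subfieldSubgroup F₀ P ⊓ Cfsg.spGL 3 F) ∨
    (¬ Odd (Fintype.card F) ∧ ∃ Q : (Fin 3 ⊕ Fin 3 → F) → F, Cfsg.Geo.IsNondegenerateQuadraticForm Q ∧ (∀ u v : (Fin 3 ⊕ Fin 3 → F), QuadraticMap.polar Q u v = (Cfsg.sympForm 3 F) u v) ∧ H = Cfsg.Geo.quadSimilarityGroup Q ⊓ Cfsg.spGL 3 F) ∨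
    Cfsg.Geo.InSymplecticResidualClass H := by
  classical
  haveI : Nonempty (Fin 3 ⊕ Fin 3) := ⟨Sum.inl 0⟩
  have hN : Fintype.card (Fin 3 ⊕ Fin 3) = 6 := by simp
  have hf := CfsgLib.GeomClasses.Symp.isSymplecticForm_sympForm (F := F) 3
  rcases CfsgLib.Geo.Asch.symplectic_cases hf (Ω := Cfsg.spGL 3 F) (H := H)
    (fun v c => CfsgLib.GeomClasses.Symp.formTv_mem_spGL 3 v c)
    (fun g hg => CfsgLib.GeomClasses.Symp.mem_spGL.1 hg) hH (by omega)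
    (by rw [hN]; intro h; rw [isPrimePow_nat_iff] at h; obtain ⟨p, k, hp, hk, hpk⟩ := h
        exact not_primePow p k hp hk hpk)
    (by rw [hN]; exact not_power) with
    ⟨W, h1, h2, h3⟩ | ⟨W, h1, h2, h3, h4⟩ | ⟨t, m, D, ht, hm, hev, htm, hq, hD, hEq⟩ |
    ⟨hodd, m, D, hm, hD, hTS, hEq⟩ | ⟨s, K, hs, hdvd, hK, hsa, halt, hEq⟩ | ⟨hodd, K, hK, hKa, hns, hEq⟩ |
    ⟨hodd, a, b, e, P, f₁, f₂, ha, hb, hab, hae, hb3, h1, h2, hT, hEq⟩ | h | h | h
  · exact Or.inl ⟨W, h1, h2, h3⟩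
  · exact Or.inr (Or.inl ⟨W, h1, h2, by omega, h4⟩)
  · rw [hN] at htm
    obtain rfl : m = 2 := by
      have : m ≤ 3 := by nlinarith
      omega
    obtain rfl : t = 3 := by omega
    exact Or.inr (Or.inr (Or.inl ⟨hq rfl, D, hD, hEq⟩))
  · obtain rfl : m = 3 := by omega
    exact Or.inr (Or.inr (Or.inr (Or.inl ⟨hodd, D, hD, hTS, hEq⟩)))
  · obtain rfl : s = 3 := by
      rw [hN] at hdvd
      have := Nat.le_of_dvd (by omega) hdvd
      have hs6 : s ≤ 6 := by omega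
      have := hs.two_le
      interval_cases s <;> omega
    exact Or.inr (Or.inr (Or.inr (Or.inr (Or.inl ⟨K, hK, hsa, halt, hEq⟩))))
  · exact Or.inr (Or.inr (Or.inr (Or.inr (Or.inr (Or.inl ⟨hodd, K, hK, hKa, hns, hEq⟩)))))
  · rw [hN] at hab
    obtain rfl : a = 2 := by
      have : a ≤ 2 := by nlinarith
      omega
    obtain rfl : b = 3 := by omega
    exact Or.inr (Or.inr (Or.inr (Or.inr (Or.inr (Or.inr (Or.inl ⟨hodd, hb3 rfl, e, P, f₁, f₂, h1, h2, hT, hEq⟩))))))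
  · exact Or.inr (Or.inr (Or.inr (Or.inr (Or.inr (Or.inr (Or.inr (Or.inl h)))))))
  · exact Or.inr (Or.inr (Or.inr (Or.inr (Or.inr (Or.inr (Or.inr (Or.inr (Or.inl h))))))))
  · exact Or.inr (Or.inr (Or.inr (Or.inr (Or.inr (Or.inr (Or.inr (Or.inr (Or.inr (h)))))))))


end Cfsg.Agent.S5805
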