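import Cfsg.Statements.S5808
import Cfsg.Agent.Lib.Geo.AschPrime
import Cfsg.Agent.Lib.Geo.AschSmall

set_option autoImplicit false
open Cfsg

namespace Cfsg.Agent.S5808

open CfsgLib.Geo.Asch

/-- Every maximal subgroup of SL_7(q) is of one of the listed geometric types or lies in the residual class. Let F be a finite field with q elements (p its characteristic) and H a maximal subgroup of SL_7(F) (inside GL_7(F)). Then H is the intersection with SL_7(F) of one of: the stabiliser of a proper non-zero subspace; for q ≥ 5, the stabiliser of a decomposition into 7 independent 1-spaces; the normaliser of a degree-7 subfield of the matrix algebra; a subfield group for a subfield F₀ with |F| = |F₀|^r, r prime; for q = p prime with p ≡ 1 mod 7, or q = p³ with p ≡ 2 or 4 mod 7, the normaliser of an absolutely irreducible 7-subgroup R of exponent 7 and order 7^(1+2m) with centre of order 7, all of whose characteristic abelian subgroups are cyclic, F being the smallest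 field of characteristic p containing the seventh roots of unity (here R is extraspecial of order 343); for q odd, the similarity group of a non-degenerate quadratic form; the similarity group of a non-degenerate unitary form — or else H lies in the residual class of the linear case (modulo scalars H is almost simple, with absolutely irreducible perfect socle preimage realisable over no proper subfield and fixing no non-degenerate quadratic, symplectic or unitary form). -/
theorem result {F : Type*} [Field F] [Fintype F] (H : Subgroup (Matrix.GeneralLinearGroup (Fin 7) F)) (hH : Cfsg.Geo.IsMaximalIn (Cfsg.Geo.specialLinear (Fin 7) F) H) :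
    (∃ W : Submodule F (Fin 7 → F), W ≠ ⊥ ∧ W ≠ ⊤ ∧ H = Cfsg.Geo.subspaceStabilizer W ⊓ Cfsg.Geo.specialLinear (Fin 7) F) ∨
    (5 ≤ Fintype.card F ∧ ∃ D : Fin 7 → Submodule F (Fin 7 → F), Cfsg.Geo.IsMDecomposition 1 D ∧ H = Cfsg.Geo.decompositionStabilizer D ⊓ Cfsg.Geo.specialLinear (Fin 7) F) ∨
    (∃ K : Subalgebra F (Matrix (Fin 7) (Fin 7) F), Cfsg.Geo.IsFieldSubalgebra 7 K ∧ H = Cfsg.Geo.subalgebraNormalizer K ⊓ Cfsg.Geo.specialLinear (Fin 7) F) ∨
    (∃ (F₀ : Subfield F) (r : ℕ) (P : Matrix.GeneralLinearGroup (Fin 7) F), r.Prime ∧ Fintype.card F = Nat.card F₀ ^ r ∧ H = Cfsg.Geo.subfieldSubgroup F₀ P ⊓ Cfsg.Geo.specialLinear (Fin 7) F) ∨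
    ((∃ p : ℕ, p.Prime ∧ CharP F p ∧ ((Fintype.card F = p ∧ p % 7 = 1) ∨ (Fintype.card F = p ^ 3 ∧ (p % 7 = 2 ∨ p % 7 = 4)))) ∧ ∃ R : Subgroup (Matrix.GeneralLinearGroup (Fin 7) F), Cfsg.Geo.IsLinearSymplecticTypeData 7 R ∧ H = Cfsg.Geo.subgroupNormalizer R ⊓ Cfsg.Geo.specialLinear (Fin 7) F) ∨
    (Odd (Fintype.card F) ∧ ∃ Q : (Fin 7 → F) → F, Cfsg.Geo.IsNondegenerateQuadraticForm Q ∧ H = Cfsg.Geo.quadSimilarityGroup Q ⊓ Cfsg.Geo.specialLinear (Fin 7) F) ∨
    (∃ (σ : F ≃+* F) (f : (Fin 7 → F) → (Fin 7 → F) → F), Cfsg.Geo.IsUnitaryForm σ f ∧ H = Cfsg.Geo.similarityGroup f ⊓ Cfsg.Geo.specialLinear (Fin 7) F) ∨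
    Cfsg.Geo.InLinearResidualClass H := by
  haveI : Nonempty (Fin 7) := ⟨⟨0, by norm_num⟩⟩
  have hn3 : 3 ≤ Fintype.card (Fin 7) := by simp
  have hlp : Nat.Prime 7 := by norm_num
  rcases linear_cases (show 3 ≤ 7 by norm_num) hH with h | ⟨t, m, D, hD, htm, hEq⟩ | ⟨r, K, hr, hrn, hK, hEq⟩ |
    ⟨a, b, e, P, ha, hb, hab, -⟩ | h | h | ⟨f, hf, -⟩ | h | h | ⟨N, hNH, hinv, hns, hspan, hmin, hN⟩
  · exact Or.inl h
  · have h2 := hD.two_le
    have hm := hD.pos
    obtain ⟨rfl, rfl⟩ : t = 7 ∧ m = 1 := by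
      rcases hlp.eq_one_or_self_of_dvd t ⟨m, htm.symm⟩ with ht | ht
      · omega
      · subst ht
        exact ⟨rfl, by omega⟩
    by_cases hq : 5 ≤ Fintype.card F
    · exact Or.inr (Or.inl ⟨hq, D, hD, hEq⟩)
    have h1 := Fintype.one_lt_card (α := F)
    obtain hq2 | hq2 | hq2 : Fintype.card F = 2 ∨ Fintype.card F = 3 ∨ Fintype.card F = 4 := by omega
    · obtain ⟨W, hW1, hW2, hle⟩ := decomposition_le_subspace_two hq2 (by simp) hD
      exact Or.inl ⟨W, hW1, hW2, eq_inf_of_le hH (le_trans (hEq.le.trans inf_le_left) hle) (not_specialLinear_le_subspace hW1 hW2)⟩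
    · obtain ⟨Q, hQ, hle⟩ := decomposition_le_quad_three hq2 hD
      exact Or.inr (Or.inr (Or.inr (Or.inr (Or.inr (Or.inl ⟨by rw [hq2]; decide, Q, hQ, eq_inf_of_le hH (le_trans (hEq.le.trans inf_le_left) hle) (not_specialLinear_le_quad hn3 hQ)⟩)))))
    · obtain ⟨σ, f, hf, hle⟩ := decomposition_le_unitary_four hq2 hD
      exact Or.inr (Or.inr (Or.inr (Or.inr (Or.inr (Or.inr (Or.inl ⟨σ, f, hf, eq_inf_of_le hH (le_trans (hEq.le.trans inf_le_left) hle) (not_specialLinear_le_similarity hn3 (unitary_isSesq hf) hf.nondegenerate)⟩))))))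
  · obtain rfl := (Nat.prime_dvd_prime_iff_eq hr hlp).1 hrn
    exact Or.inr (Or.inr (Or.inl ⟨K, hK, hEq⟩))
  · rcases hlp.eq_one_or_self_of_dvd a ⟨b, hab.symm⟩ with h | h
    · omega
    · subst h
      omega
  · exact Or.inr (Or.inr (Or.inr (Or.inl h)))
  · exact Or.inr (Or.inr (Or.inr (Or.inr (Or.inr (Or.inl h)))))
  · exact absurd hf (not_symplectic_of_odd (by rw [Fintype.card_fin]; decide))
  · exact Or.inr (Or.inr (Or.inr (Or.inr (Or.inr (Or.inr (Or.inl h))))))
  · exact Or.inr (Or.inr (Or.inr (Or.inr (Or.inr (Or.inr (Or.inr (h)))))))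
  · rcases hN with ⟨hcl, -⟩ | ⟨-, a, t, ha, ht, hat⟩
    swap
    · exfalso
      exact Nat.Prime.not_prime_pow' (x := a) (n := t) (by omega) (hat ▸ hlp)
    have hPT : PrimeType N := ⟨hNH.trans hH.1.le, hspan, hcl⟩
    have hodd : Odd 7 := by decide
    by_cases hsub : ∃ (F₀ : Subfield F) (r : ℕ) (P : Matrix.GeneralLinearGroup (Fin 7) F),
        r.Prime ∧ Fintype.card F = Nat.card F₀ ^ r ∧ H ≤ Cfsg.Geo.subfieldSubgroup F₀ P
    · obtain ⟨F₀, r, P, hr, hc, hle⟩ := hsub
      exact Or.inr (Or.inr (Or.inr (Or.inl ⟨F₀, r, P, hr, hc, eq_inf_of_le hH hle (not_specialLinear_le_subfield (by omega) (subfield_ne_top hr hc) P)⟩)))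
    by_cases hU : ∃ (σ : F ≃+* F) (f : (Fin 7 → F) → (Fin 7 → F) → F),
        Cfsg.Geo.IsUnitaryForm σ f ∧ H ≤ Cfsg.Geo.similarityGroup f
    · obtain ⟨σ, f, hf, hle⟩ := hU
      exact Or.inr (Or.inr (Or.inr (Or.inr (Or.inr (Or.inr (Or.inl ⟨σ, f, hf, eq_inf_of_le hH hle (not_specialLinear_le_similarity hn3 (unitary_isSesq hf) hf.nondegenerate)⟩))))))
    push Not at hsub hU
    obtain ⟨hdata, p, e, hp, hchar, hcard, hoe, hed, hmod, hmind⟩ := symplecticType_data hlp hodd hPT hinv hmin hsub hU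
    have hEq : H = Cfsg.Geo.subgroupNormalizer N ⊓ Cfsg.Geo.specialLinear (Fin 7) F :=
      eq_inf_of_le hH (le_normalizer_of_normalized hinv) (hPT.not_specialLinear_le_normalizer hlp hodd)
    refine Or.inr (Or.inr (Or.inr (Or.inr (Or.inl ⟨?_, N, hdata, hEq⟩))))
    refine ⟨p, hp, hchar, ?_⟩
    have hle : e ≤ 6 := Nat.le_of_dvd (by norm_num) hed
    obtain rfl | rfl : e = 1 ∨ e = 3 := by
      interval_cases e <;> first | tauto | (exfalso; revert hoe hed; decide)
    · exact Or.inl ⟨by simpa using hcard, by simpa using hmod⟩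
    · refine Or.inr ⟨hcard, ?_⟩
      have h1 := hmind 1 one_pos (by norm_num)
      rw [pow_one] at h1
      have hlt := Nat.mod_lt p (show 7 > 0 by norm_num)
      rw [Nat.pow_mod] at hmod
      interval_cases hr : p % 7 <;> first | omega | tauto

end Cfsg.Agent.S5808
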