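import Cfsg.Statements.S5816
import Cfsg.Agent.Lib.GeomClasses.MaxLinearSubspace
import Cfsg.Agent.Lib.GeomClasses.MaxLinearSubfield
import Cfsg.Agent.Lib.GeomClasses.MaxLinearSymp
import Cfsg.Agent.Lib.GeomClasses.MaxLinearUnit
import Cfsg.Agent.Lib.GeomClasses.OrthSimilarity
import Cfsg.Agent.Lib.GeomClasses.TensorMaximal
import Cfsg.Agent.Lib.GeomClasses.DecompMax.Main
import Cfsg.Agent.Lib.ExtFieldMax.Main
import Cfsg.Agent.Lib.CliffMax93.Eight

set_option autoImplicit false
open Cfsg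

namespace Cfsg.Agent.S5816
open CfsgLib.GeomClasses

/-- Maximal subgroups of SL_8(q) of geometric type, for a finite field F with q elements (any q); p denotes the characteristic. Each of the following subgroups of GL_8(F), intersected with SL_8(F), is a maximal subgroup of SL_8(F): (1) the stabiliser of any proper non-zero subspace of F^8; (2) for q ≥ 5, the stabiliser of any decomposition of F^8 into 8 independent 1-spaces; (3) for q ≥ 3, the stabiliser of any decomposition of F^8 into 4 independent 2-spaces; (4) the stabiliser of any decomposition of F^8 into 2 independent 4-spaces; (5) the normaliser of any degree-2 subfield of the 8 × 8 matrix algebra over F (a commutative subalgebra of dimension 2 in which every non-zero element is invertible); (6) for q ≥ 3, the stabiliser of any tensor decomposition F^8 = F^2 ⊗ F^4 (a conjugate of the Kronecker-product subgroup); (7) every subfield group (a conjugate of GL_8(F₀) times the scalars of F) for a subfield F₀ with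 |F| = |F₀|^r, r prime; (8) for q = p prime with p ≡ 1 mod 4, the normaliser of any absolutely irreducible 2-subgroup R of exponent 4 and order 2^(2+2m) with centre of order 4, all of whose characteristic abelian subgroups are cyclic, 4 dividing p − 1 (here |R| = 2^8); (9) for q odd, the group of similarities of any non-degenerate quadratic form on F^8 (either sign); (10) the group of similarities of any non-degenerate symplectic form on F^8; (11) the group of similarities of any non-degenerate unitary form on F^8 (these exist exactly when q is a square). -/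
theorem result {F : Type*} [Field F] [Fintype F] :
    (∀ W : Submodule F (Fin 8 → F), W ≠ ⊥ → W ≠ ⊤ → Cfsg.Geo.IsMaximalIn (Cfsg.Geo.specialLinear (Fin 8) F) (Cfsg.Geo.subspaceStabilizer W ⊓ Cfsg.Geo.specialLinear (Fin 8) F)) ∧
    (5 ≤ Fintype.card F → ∀ D : Fin 8 → Submodule F (Fin 8 → F), Cfsg.Geo.IsMDecomposition 1 D → Cfsg.Geo.IsMaximalIn (Cfsg.Geo.specialLinear (Fin 8) F) (Cfsg.Geo.decompositionStabilizer D ⊓ Cfsg.Geo.specialLinear (Fin 8) F)) ∧
    (3 ≤ Fintype.card F → ∀ D : Fin 4 → Submodule F (Fin 8 → F), Cfsg.Geo.IsMDecomposition 2 D → Cfsg.Geo.IsMaximalIn (Cfsg.Geo.specialLinear (Fin 8) F) (Cfsg.Geo.decompositionStabilizer D ⊓ Cfsg.Geo.specialLinear (Fin 8) F)) ∧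
    (∀ D : Fin 2 → Submodule F (Fin 8 → F), Cfsg.Geo.IsMDecomposition 4 D → Cfsg.Geo.IsMaximalIn (Cfsg.Geo.specialLinear (Fin 8) F) (Cfsg.Geo.decompositionStabilizer D ⊓ Cfsg.Geo.specialLinear (Fin 8) F)) ∧
    (∀ K : Subalgebra F (Matrix (Fin 8) (Fin 8) F), Cfsg.Geo.IsFieldSubalgebra 2 K → Cfsg.Geo.IsMaximalIn (Cfsg.Geo.specialLinear (Fin 8) F) (Cfsg.Geo.subalgebraNormalizer K ⊓ Cfsg.Geo.specialLinear (Fin 8) F)) ∧
    (3 ≤ Fintype.card F → ∀ (e : Fin 8 ≃ Fin 2 × Fin 4) (P : Matrix.GeneralLinearGroup (Fin 8) F), Cfsg.Geo.IsMaximalIn (Cfsg.Geo.specialLinear (Fin 8) F) (Cfsg.Geo.tensorProductSubgroup 2 4 e P ⊓ Cfsg.Geo.specialLinear (Fin 8) F)) ∧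
    (∀ (F₀ : Subfield F) (r : ℕ) (P : Matrix.GeneralLinearGroup (Fin 8) F), r.Prime → Fintype.card F = Nat.card F₀ ^ r → Cfsg.Geo.IsMaximalIn (Cfsg.Geo.specialLinear (Fin 8) F) (Cfsg.Geo.subfieldSubgroup F₀ P ⊓ Cfsg.Geo.specialLinear (Fin 8) F)) ∧
    ((∃ p : ℕ, p.Prime ∧ Fintype.card F = p ∧ (p % 4 = 1)) → ∀ R : Subgroup (Matrix.GeneralLinearGroup (Fin 8) F), Cfsg.Geo.IsLinearSymplecticTypeData 2 R → Cfsg.Geo.IsMaximalIn (Cfsg.Geo.specialLinear (Fin 8) F) (Cfsg.Geo.subgroupNormalizer R ⊓ Cfsg.Geo.specialLinear (Fin 8) F)) ∧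
    (Odd (Fintype.card F) → ∀ Q : (Fin 8 → F) → F, Cfsg.Geo.IsNondegenerateQuadraticForm Q → Cfsg.Geo.IsMaximalIn (Cfsg.Geo.specialLinear (Fin 8) F) (Cfsg.Geo.quadSimilarityGroup Q ⊓ Cfsg.Geo.specialLinear (Fin 8) F)) ∧
    (∀ f : (Fin 8 → F) → (Fin 8 → F) → F, Cfsg.Geo.IsSymplecticForm f → Cfsg.Geo.IsMaximalIn (Cfsg.Geo.specialLinear (Fin 8) F) (Cfsg.Geo.similarityGroup f ⊓ Cfsg.Geo.specialLinear (Fin 8) F)) ∧
    (∀ (σ : F ≃+* F) (f : (Fin 8 → F) → (Fin 8 → F) → F), Cfsg.Geo.IsUnitaryForm σ f → Cfsg.Geo.IsMaximalIn (Cfsg.Geo.specialLinear (Fin 8) F) (Cfsg.Geo.similarityGroup f ⊓ Cfsg.Geo.specialLinear (Fin 8) F)) := by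
  refine ⟨?_, ?_, ?_, ?_, ?_, ?_, ?_, ?_, ?_, ?_, ?_⟩
  · exact fun W h0 h1 => MaxLinear.SubspaceCase.maximal_subspace _ W h0 h1
  · intro hq D hD
    exact DecompMax.decompStab_isMaximal (by omega) hD (by omega) (by omega)
  · intro hq D hD
    exact DecompMax.decompStab_isMaximal (by omega) hD (by omega) (by omega)
  · intro D hD
    exact DecompMax.decompStab_isMaximal (by omega) hD (by omega) (by omega)
  · intro K hK
    exact CfsgLib.ExtFieldMax.isMaximalIn_specialLinear (r := 2) (by norm_num) (by norm_num) hK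
  · intro hq e P
    exact TensorMax.maximal_tensor (by omega) (by omega) (by omega) e P
  · exact fun F₀ r P hr hcard => MaxLinear.SubfieldCase.maximal_subfield _ (by omega) F₀ r hr hcard P
  · rintro ⟨p, hp, hF, hp4⟩ R hR
    exact CfsgLib.CliffMax93.Eight.maximal_symplecticType p hp hF hp4 hR
  · intro hodd Q hQ
    have hq := OrthTools.quadOf_nondegenerate hQ
    have h2 : (2 : F) ≠ 0 := by
      refine Ring.two_ne_zero (R := F) fun h => ?_
      have := FiniteField.even_card_of_char_two h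
      have := Nat.odd_iff.1 hodd
      omega
    exact OrthSimilarity.maximal hq (by simp) h2
  · exact fun f hf => MaxLinear.SympCase.maximal_symplectic _ (by omega) f hf
  · exact fun σ f hf => MaxLinear.UnitCase.maximal_unitary _ (by omega) σ f hf

end Cfsg.Agent.S5816
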