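import Cfsg.Statements.S5817
import Cfsg.Agent.Lib.Geo.AschLinearFull

set_option autoImplicit false
open Cfsg

namespace Cfsg.Agent.S5817

open CfsgLib.Geo.Asch

/-- Every maximal subgroup of SL_8(q) is of one of the listed geometric types or lies in the residual class. Let F be a finite field with q elements (p its characteristic) and H a maximal subgroup of SL_8(F) (inside GL_8(F)). Then H is the intersection with SL_8(F) of one of: the stabiliser of a proper non-zero subspace; for q ≥ 5, the stabiliser of a decomposition into 8 independent 1-spaces; for q ≥ 3, the stabiliser of a decomposition into 4 independent 2-spaces; the stabiliser of a decomposition into 2 independent 4-spaces; the normaliser of a degree-2 subfield of the matrix algebra; for q ≥ 3, the stabiliser of a tensor decomposition F^2 ⊗ F^4; a subfield group for a subfield F₀ with |F| = |F₀|^r, r prime; for q = p prime with p ≡ 1 mod 4, the normaliser of an absolutely irreducible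 2-subgroup R of exponent 4 and order 2^(2+2m) with centre of order 4, all of whose characteristic abelian subgroups are cyclic, 4 dividing p − 1 (here |R| = 2^8); for q odd, the similarity group of a non-degenerate quadratic form; the similarity group of a non-degenerate symplectic form; the similarity group of a non-degenerate unitary form — or else H lies in the residual class of the linear case (modulo scalars H is almost simple, with absolutely irreducible perfect socle preimage realisable over no proper subfield and fixing no non-degenerate quadratic, symplectic or unitary form). -/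
theorem result {F : Type*} [Field F] [Fintype F] (H : Subgroup (Matrix.GeneralLinearGroup (Fin 8) F)) (hH : Cfsg.Geo.IsMaximalIn (Cfsg.Geo.specialLinear (Fin 8) F) H) :
    (∃ W : Submodule F (Fin 8 → F), W ≠ ⊥ ∧ W ≠ ⊤ ∧ H = Cfsg.Geo.subspaceStabilizer W ⊓ Cfsg.Geo.specialLinear (Fin 8) F) ∨
    (5 ≤ Fintype.card F ∧ ∃ D : Fin 8 → Submodule F (Fin 8 → F), Cfsg.Geo.IsMDecomposition 1 D ∧ H = Cfsg.Geo.decompositionStabilizer D ⊓ Cfsg.Geo.specialLinear (Fin 8) F) ∨
    (3 ≤ Fintype.card F ∧ ∃ D : Fin 4 → Submodule F (Fin 8 → F), Cfsg.Geo.IsMDecomposition 2 D ∧ H = Cfsg.Geo.decompositionStabilizer D ⊓ Cfsg.Geo.specialLinear (Fin 8) F) ∨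
    (∃ D : Fin 2 → Submodule F (Fin 8 → F), Cfsg.Geo.IsMDecomposition 4 D ∧ H = Cfsg.Geo.decompositionStabilizer D ⊓ Cfsg.Geo.specialLinear (Fin 8) F) ∨
    (∃ K : Subalgebra F (Matrix (Fin 8) (Fin 8) F), Cfsg.Geo.IsFieldSubalgebra 2 K ∧ H = Cfsg.Geo.subalgebraNormalizer K ⊓ Cfsg.Geo.specialLinear (Fin 8) F) ∨
    (3 ≤ Fintype.card F ∧ ∃ (e : Fin 8 ≃ Fin 2 × Fin 4) (P : Matrix.GeneralLinearGroup (Fin 8) F), H = Cfsg.Geo.tensorProductSubgroup 2 4 e P ⊓ Cfsg.Geo.specialLinear (Fin 8) F) ∨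
    (∃ (F₀ : Subfield F) (r : ℕ) (P : Matrix.GeneralLinearGroup (Fin 8) F), r.Prime ∧ Fintype.card F = Nat.card F₀ ^ r ∧ H = Cfsg.Geo.subfieldSubgroup F₀ P ⊓ Cfsg.Geo.specialLinear (Fin 8) F) ∨
    ((∃ p : ℕ, p.Prime ∧ Fintype.card F = p ∧ (p % 4 = 1)) ∧ ∃ R : Subgroup (Matrix.GeneralLinearGroup (Fin 8) F), Cfsg.Geo.IsLinearSymplecticTypeData 2 R ∧ H = Cfsg.Geo.subgroupNormalizer R ⊓ Cfsg.Geo.specialLinear (Fin 8) F) ∨
    (Odd (Fintype.card F) ∧ ∃ Q : (Fin 8 → F) → F, Cfsg.Geo.IsNondegenerateQuadraticForm Q ∧ H = Cfsg.Geo.quadSimilarityGroup Q ⊓ Cfsg.Geo.specialLinear (Fin 8) F) ∨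
    (∃ f : (Fin 8 → F) → (Fin 8 → F) → F, Cfsg.Geo.IsSymplecticForm f ∧ H = Cfsg.Geo.similarityGroup f ⊓ Cfsg.Geo.specialLinear (Fin 8) F) ∨
    (∃ (σ : F ≃+* F) (f : (Fin 8 → F) → (Fin 8 → F) → F), Cfsg.Geo.IsUnitaryForm σ f ∧ H = Cfsg.Geo.similarityGroup f ⊓ Cfsg.Geo.specialLinear (Fin 8) F) ∨
    Cfsg.Geo.InLinearResidualClass H := by
  haveI : Nonempty (Fin 8) := ⟨⟨0, by norm_num⟩⟩
  have hn3 : 3 ≤ Fintype.card (Fin 8) := by simp
  rcases linear_maximal_cases (show 3 ≤ 8 by norm_num) hH with h | ⟨t, m, D, hD, htm, hEq⟩ | ⟨r, K, hr, hrn, hK, hEq⟩ |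
    ⟨a, b, e, P, ha, hlt, hab, hEq⟩ | h | ⟨r, m, R, hR, hd, hEq⟩ | ⟨a, t, e, P, ha, ht, hn', hEq⟩ | h | h | h | h
  · exact Or.inl (h)
  · 
    obtain htm' : (t = 8 ∧ m = 1) ∨ (t = 4 ∧ m = 2) ∨ (t = 2 ∧ m = 4) := by
      have hle : t ≤ 8 := Nat.le_of_dvd (by norm_num) ⟨m, htm.symm⟩
      have h2 := hD.two_le
      interval_cases t <;> omega
    rcases htm' with ⟨rfl, rfl⟩ | ⟨rfl, rfl⟩ | ⟨rfl, rfl⟩
    · by_cases hq : 5 ≤ Fintype.card F
      · exact Or.inr (Or.inl (⟨hq, D, hD, hEq⟩))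
      have h1 := Fintype.one_lt_card (α := F)
      obtain hq2 | hq2 | hq2 : Fintype.card F = 2 ∨ Fintype.card F = 3 ∨ Fintype.card F = 4 := by omega
      · obtain ⟨W, hW1, hW2, hle⟩ := decomposition_le_subspace_two hq2 (by simp) hD
        exact Or.inl (⟨W, hW1, hW2, eq_inf_of_le hH (le_trans (hEq.le.trans inf_le_left) hle) (not_specialLinear_le_subspace hW1 hW2)⟩)
      · obtain ⟨Q, hQ, hle⟩ := decomposition_le_quad_three hq2 hD
        exact Or.inr (Or.inr (Or.inr (Or.inr (Or.inr (Or.inr (Or.inr (Or.inr (Or.inl (⟨by rw [hq2]; decide, Q, hQ, eq_inf_of_le hH (le_trans (hEq.le.trans inf_le_left) hle) (not_specialLinear_le_quad hn3 hQ)⟩)))))))))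
      · obtain ⟨σ, f, hf, hle⟩ := decomposition_le_unitary_four hq2 hD
        exact Or.inr (Or.inr (Or.inr (Or.inr (Or.inr (Or.inr (Or.inr (Or.inr (Or.inr (Or.inr (Or.inl (⟨σ, f, hf, eq_inf_of_le hH (le_trans (hEq.le.trans inf_le_left) hle) (not_specialLinear_le_similarity hn3 (unitary_isSesq hf) hf.nondegenerate)⟩)))))))))))
    · by_cases hq : 3 ≤ Fintype.card F
      · exact Or.inr (Or.inr (Or.inl (⟨hq, D, hD, hEq⟩)))
      have h1 := Fintype.one_lt_card (α := F)
      obtain ⟨f, hf, hle⟩ := decomposition_le_symplectic_two (show Fintype.card F = 2 by omega) hD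
      exact Or.inr (Or.inr (Or.inr (Or.inr (Or.inr (Or.inr (Or.inr (Or.inr (Or.inr (Or.inl (⟨f, hf, eq_inf_of_le hH (le_trans (hEq.le.trans inf_le_left) hle) (not_specialLinear_le_similarity hn3 (symplectic_isSesq hf) hf.nondegenerate)⟩))))))))))
    · exact Or.inr (Or.inr (Or.inr (Or.inl (⟨D, hD, hEq⟩))))
  · obtain rfl : r = 2 := by
      have hle : r ≤ 8 := Nat.le_of_dvd (by norm_num) hrn
      have h2 := hr.two_le
      interval_cases r <;> (revert hr hrn; norm_num)
    exact Or.inr (Or.inr (Or.inr (Or.inr (Or.inl (⟨K, hK, hEq⟩)))))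
  · 
    obtain rfl : a = 2 := by
      have : a ≤ 2 := by nlinarith
      omega
    obtain rfl : b = 4 := by omega
    by_cases hq : 3 ≤ Fintype.card F
    · exact Or.inr (Or.inr (Or.inr (Or.inr (Or.inr (Or.inl (⟨hq, e, P, hEq⟩))))))
    have h1 := Fintype.one_lt_card (α := F)
    obtain ⟨K, hK, hle⟩ := tensor_le_field_two (show Fintype.card F = 2 by omega) (by norm_num) e P
    exact Or.inr (Or.inr (Or.inr (Or.inr (Or.inl (⟨K, hK, eq_inf_of_le hH (le_trans (hEq.le.trans inf_le_left) hle) (not_specialLinear_le_field (by norm_num) (by norm_num) hK)⟩)))))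
  · exact Or.inr (Or.inr (Or.inr (Or.inr (Or.inr (Or.inr (Or.inl (h)))))))
  · have hd8 : 8 = r ^ m := by simpa using hR.deg
    obtain rfl : r = 2 := by
      have hdd : r ∣ 8 := by
        rw [hd8]
        refine dvd_pow_self r ?_
        rintro rfl
        simp at hd8
      have hle : r ≤ 8 := Nat.le_of_dvd (by norm_num) hdd
      have h2 := hR.prime.two_le
      have hp := hR.prime
      interval_cases r <;> (revert hp hdd; norm_num)
    obtain ⟨p, e, -, ⟨hp, -, hc, hdvd, -⟩, hcase⟩ := hd.field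
    rcases hcase with ⟨ho, -, -, -⟩ | ⟨-, rfl, hz, -, -⟩ | ⟨-, -, h2, -⟩
    · exact absurd ho (by decide)
    · rw [pow_one] at hc hdvd
      rw [hz] at hdvd
      have := hp.two_le
      exact Or.inr (Or.inr (Or.inr (Or.inr (Or.inr (Or.inr (Or.inr (Or.inl (⟨⟨p, hp, hc, by omega⟩, R, hd, hEq⟩))))))))
    · simp at h2
  · 
    exfalso
    have h1 : a ^ 2 ≤ a ^ t := Nat.pow_le_pow_right (by omega) ht
    have h2 : 3 * 3 ≤ a ^ 2 := by rw [sq]; exact Nat.mul_le_mul ha ha
    omega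
  · exact Or.inr (Or.inr (Or.inr (Or.inr (Or.inr (Or.inr (Or.inr (Or.inr (Or.inl (h)))))))))
  · exact Or.inr (Or.inr (Or.inr (Or.inr (Or.inr (Or.inr (Or.inr (Or.inr (Or.inr (Or.inl (h))))))))))
  · exact Or.inr (Or.inr (Or.inr (Or.inr (Or.inr (Or.inr (Or.inr (Or.inr (Or.inr (Or.inr (Or.inl (h)))))))))))
  · exact Or.inr (Or.inr (Or.inr (Or.inr (Or.inr (Or.inr (Or.inr (Or.inr (Or.inr (Or.inr (Or.inr (h)))))))))))

end Cfsg.Agent.S5817
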