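import Cfsg.Statements.S5819
import Cfsg.Agent.Lib.GeomClasses.UnitClauses
import Cfsg.Agent.Lib.GeomClasses.UnitFrameMid
import Cfsg.Agent.Lib.GeomClasses.UnitTensor.Main
import Cfsg.Agent.Lib.CliffSU8.Main
import Cfsg.Agent.Lib.CliffSU8.SmallBase

set_option autoImplicit false
open Cfsg CfsgLib.GeomClasses.UnitClauses

namespace Cfsg.Agent.S5819

/-- Maximal subgroups of SU_8(q) of geometric type (any prime power q). Let F be the field with q² elements, f the standard unitary form Σ u_i v_i^q on F^8 and SU_8(q) its determinant-one isometry group inside GL_8(F). Each of the following, intersected with SU_8(q), is a maximal subgroup of SU_8(q): (1) the stabiliser of any non-zero subspace on which f vanishes identically (totally isotropic 1-, 2-, 3- and 4-spaces); (2) the stabiliser of any non-degenerate 1-, 2- or 3-space; (3) the stabiliser of any decomposition of F^8 into eight mutually orthogonal non-degenerate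 1-spaces; (4) for q ≥ 3, the stabiliser of any decomposition into four mutually orthogonal non-degenerate 2-spaces; (5) the stabiliser of any decomposition into two mutually orthogonal non-degenerate 4-spaces; (6) the stabiliser of any decomposition into two totally isotropic 4-spaces; (7) for q ≥ 3, the stabiliser of any tensor decomposition of f as (unitary form on F^2) ⊗ (unitary form on F^4) up to a scalar; (8) every subfield group for a subfield F₀ of odd prime index in F whose F₀-structure carries f; (9) every subfield group for the subfield F₀ of index 2 whose F₀-structure carries ζ f, vanishing on pairs (u, u), for a non-zero ζ with ζ + ζ^q = 0 (symplectic type); (10) for q odd, every subfield group for the subfield F₀ of index 2 whose F₀-structure carries f (orthogonal types, either sign); (11) for q = p prime with p ≡ 3 mod 4, the normaliser of any absolutely irreducible 2-group R of symplectic type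 and exponent 4 with |R| = 2^8 and centre of order 4, consisting of isometries of f. -/
theorem result {F : Type*} [Field F] [Fintype F] (q : ℕ) (hF : Fintype.card F = q ^ 2) :
    (∀ W : Submodule F (Fin 8 → F), W ≠ ⊥ → Cfsg.Geo.IsTotallySingularFor (Cfsg.hermForm 8 F q) W → Cfsg.Geo.IsMaximalIn (Cfsg.GU 8 F q ⊓ Cfsg.Geo.specialLinear (Fin 8) F) (Cfsg.Geo.subspaceStabilizer W ⊓ (Cfsg.GU 8 F q ⊓ Cfsg.Geo.specialLinear (Fin 8) F))) ∧
    (∀ W : Submodule F (Fin 8 → F), W ≠ ⊥ → Cfsg.Geo.IsNondegenerateOn (Cfsg.hermForm 8 F q) W → 2 * Module.finrank F W < 8 → Cfsg.Geo.IsMaximalIn (Cfsg.GU 8 F q ⊓ Cfsg.Geo.specialLinear (Fin 8) F) (Cfsg.Geo.subspaceStabilizer W ⊓ (Cfsg.GU 8 F q ⊓ Cfsg.Geo.specialLinear (Fin 8) F))) ∧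
    (∀ D : Fin 8 → Submodule F (Fin 8 → F), Cfsg.Geo.IsNondegenerateMDecomposition (Cfsg.hermForm 8 F q) 1 D → Cfsg.Geo.IsMaximalIn (Cfsg.GU 8 F q ⊓ Cfsg.Geo.specialLinear (Fin 8) F) (Cfsg.Geo.decompositionStabilizer D ⊓ (Cfsg.GU 8 F q ⊓ Cfsg.Geo.specialLinear (Fin 8) F))) ∧
    (3 ≤ q → ∀ D : Fin 4 → Submodule F (Fin 8 → F), Cfsg.Geo.IsNondegenerateMDecomposition (Cfsg.hermForm 8 F q) 2 D → Cfsg.Geo.IsMaximalIn (Cfsg.GU 8 F q ⊓ Cfsg.Geo.specialLinear (Fin 8) F) (Cfsg.Geo.decompositionStabilizer D ⊓ (Cfsg.GU 8 F q ⊓ Cfsg.Geo.specialLinear (Fin 8) F))) ∧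
    (∀ D : Fin 2 → Submodule F (Fin 8 → F), Cfsg.Geo.IsNondegenerateMDecomposition (Cfsg.hermForm 8 F q) 4 D → Cfsg.Geo.IsMaximalIn (Cfsg.GU 8 F q ⊓ Cfsg.Geo.specialLinear (Fin 8) F) (Cfsg.Geo.decompositionStabilizer D ⊓ (Cfsg.GU 8 F q ⊓ Cfsg.Geo.specialLinear (Fin 8) F))) ∧
    (∀ D : Fin 2 → Submodule F (Fin 8 → F), Cfsg.Geo.IsMDecomposition 4 D → (∀ i, Cfsg.Geo.IsTotallySingularFor (Cfsg.hermForm 8 F q) (D i)) → Cfsg.Geo.IsMaximalIn (Cfsg.GU 8 F q ⊓ Cfsg.Geo.specialLinear (Fin 8) F) (Cfsg.Geo.decompositionStabilizer D ⊓ (Cfsg.GU 8 F q ⊓ Cfsg.Geo.specialLinear (Fin 8) F))) ∧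
    (3 ≤ q → ∀ (e : Fin 8 ≃ Fin 2 × Fin 4) (P : Matrix.GeneralLinearGroup (Fin 8) F) (f₁ : (Fin 2 → F) → (Fin 2 → F) → F) (f₂ : (Fin 4 → F) → (Fin 4 → F) → F), Cfsg.Geo.IsUnitaryFormPow q f₁ → Cfsg.Geo.IsUnitaryFormPow q f₂ → Cfsg.Geo.IsTensorFormStructure (fun x : F => x ^ q) (Cfsg.hermForm 8 F q) f₁ f₂ e P → Cfsg.Geo.IsMaximalIn (Cfsg.GU 8 F q ⊓ Cfsg.Geo.specialLinear (Fin 8) F) (Cfsg.Geo.tensorProductSubgroup 2 4 e P ⊓ (Cfsg.GU 8 F q ⊓ Cfsg.Geo.specialLinear (Fin 8) F))) ∧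
    (∀ (F₀ : Subfield F) (r : ℕ) (P : Matrix.GeneralLinearGroup (Fin 8) F), r.Prime → Odd r → Fintype.card F = Nat.card F₀ ^ r → Cfsg.Geo.IsFormRationalStructure (Cfsg.hermForm 8 F q) F₀ 1 P → Cfsg.Geo.IsMaximalIn (Cfsg.GU 8 F q ⊓ Cfsg.Geo.specialLinear (Fin 8) F) (Cfsg.Geo.subfieldSubgroup F₀ P ⊓ (Cfsg.GU 8 F q ⊓ Cfsg.Geo.specialLinear (Fin 8) F))) ∧
    (∀ (F₀ : Subfield F) (P : Matrix.GeneralLinearGroup (Fin 8) F) (ζ : F), Fintype.card F = Nat.card F₀ ^ 2 → ζ ≠ 0 → ζ + ζ ^ q = 0 → Cfsg.Geo.IsFormRationalStructure (Cfsg.hermForm 8 F q) F₀ ζ P → (∀ u : Fin 8 → F, (∀ i, u i ∈ F₀) → (Cfsg.hermForm 8 F q) (Matrix.mulVec (P : Matrix (Fin 8) (Fin 8) F) u) (Matrix.mulVec (P : Matrix (Fin 8) (Fin 8) F) u) = 0) → Cfsg.Geo.IsMaximalIn (Cfsg.GU 8 F q ⊓ Cfsg.Geo.specialLinear (Fin 8) F) (Cfsg.Geo.subfieldSubgroup F₀ P ⊓ (Cfsg.GU 8 F q ⊓ Cfsg.Geo.specialLinear (Fin 8) F))) ∧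
    (Odd q → ∀ (F₀ : Subfield F) (P : Matrix.GeneralLinearGroup (Fin 8) F), Fintype.card F = Nat.card F₀ ^ 2 → Cfsg.Geo.IsFormRationalStructure (Cfsg.hermForm 8 F q) F₀ 1 P → Cfsg.Geo.IsMaximalIn (Cfsg.GU 8 F q ⊓ Cfsg.Geo.specialLinear (Fin 8) F) (Cfsg.Geo.subfieldSubgroup F₀ P ⊓ (Cfsg.GU 8 F q ⊓ Cfsg.Geo.specialLinear (Fin 8) F))) ∧
    (∀ (p : ℕ) (R : Subgroup (Matrix.GeneralLinearGroup (Fin 8) F)), p.Prime → q = p → p % 4 = 3 → Cfsg.Geo.IsSymplecticTypeGroup 2 R → Cfsg.Geo.ActsAbsolutelyIrreducibly (Cfsg.Geo.matrixSet R) → R ≤ Cfsg.GU 8 F q → Nat.card R = 256 → Nat.card (Subgroup.center R) = 4 → Cfsg.Geo.IsMaximalIn (Cfsg.GU 8 F q ⊓ Cfsg.Geo.specialLinear (Fin 8) F) (Cfsg.Geo.subgroupNormalizer R ⊓ (Cfsg.GU 8 F q ⊓ Cfsg.Geo.specialLinear (Fin 8) F))) := by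
  refine ⟨fun W hW0 hW => singular_subspace_maximal 8 q hF (by norm_num) W hW0 hW,
    fun W hW0 hW hd => nondegenerate_subspace_maximal 8 q hF (by norm_num) W hW0 hW hd,
    fun D hD => CfsgLib.GeomClasses.UnitDecomp.frame_maximal_mid 8 q hF le_rfl D hD,
    fun hq D hD => decomposition_maximal 8 q hF (by norm_num) 2 D hD (by omega) (by simp),
    fun D hD => decomposition_maximal 8 q hF (by norm_num) 4 D hD (by simp) (by simp),
    fun D hD hts => pair_maximal 8 q hF (by norm_num) 4 (by norm_num) D hD hts,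
    fun hq e P f₁ f₂ h₁ h₂ ht =>
      CfsgLib.GeomClasses.UnitTensor.maximal_tensor hF (by norm_num) (by norm_num) (by norm_num) (by omega) e P h₁ h₂ ht,
    fun F₀ r P hr hro hc hP => subfield_maximal 8 q hF (by norm_num) F₀ r hr hro hc P hP,
    fun F₀ P ζ hc hz0 hz hP halt => symp_subfield_maximal 8 q hF (by norm_num) F₀ hc ζ hz0 hz P hP halt,
    fun ho F₀ P hc hP => orth_subfield_maximal 8 q hF (by norm_num) ho F₀ hc P hP, ?_⟩
  intro p R hp hqp hp4 hs hi hRU hc hz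
  subst hqp
  have h2 : (2 : F) ≠ 0 := by
    have hch : ringChar F ≠ 2 := by
      refine fun h => ?_
      have := FiniteField.even_card_of_char_two h
      rw [hF, Nat.pow_mod] at this
      have h' : q % 2 = 1 := by omega
      rw [h'] at this
      norm_num at this
    exact Ring.two_ne_zero hch
  exact CfsgLib.CliffSU8.maximal hF (CfsgLib.CliffSU8.smallMax hF hp hp4) h2 hs hi hRU hc hz

end Cfsg.Agent.S5819
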