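import Cfsg.Statements.S5820
import Cfsg.Agent.Lib.Geo.AschUnitPowerArith
import Cfsg.Agent.Lib.GeomClasses.UnitPow
-- import your own Cfsg.Agent.* helpers here

set_option autoImplicit false
open Cfsg

namespace Cfsg.Agent.S5820

open CfsgLib.Geo.Asch CfsgLib.GeomClasses

/-- Every maximal subgroup of SU_8(q) is of one of the listed geometric types or lies in the residual class. Let F be the field with q² elements, f the standard unitary form Σ u_i v_i^q on F^8, and H a maximal subgroup of SU_8(q) (inside GL_8(F)). Then H is the intersection with SU_8(q) of one of: the stabiliser of a non-zero totally isotropic subspace; the stabiliser of a non-degenerate 1-, 2- or 3-space; the stabiliser of a decomposition into eight mutually orthogonal non-degenerate 1-spaces; for q ≥ 3, of a decomposition into four mutually orthogonal non-degenerate 2-spaces; of a decomposition into two orthogonal non-degenerate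 4-spaces; of a decomposition into two totally isotropic 4-spaces; for q ≥ 3, the stabiliser of a tensor decomposition of f into unitary forms on F^2 and F^4; a subfield group of odd prime index whose F₀-structure carries f; a subfield group of index 2 and symplectic type; for q odd, a subfield group of index 2 and orthogonal type; for q = p ≡ 3 mod 4 prime, the normaliser of an absolutely irreducible symplectic-type 2-group of order 2^8 with centre of order 4 inside the similarity group of f — or else H lies in the residual class of the unitary case. -/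
theorem result {F : Type*} [Field F] [Fintype F] (q : ℕ) (hF : Fintype.card F = q ^ 2) (H : Subgroup (Matrix.GeneralLinearGroup (Fin 8) F)) (hH : Cfsg.Geo.IsMaximalIn (Cfsg.GU 8 F q ⊓ Cfsg.Geo.specialLinear (Fin 8) F) H) :
    (∃ W : Submodule F (Fin 8 → F), W ≠ ⊥ ∧ Cfsg.Geo.IsTotallySingularFor (Cfsg.hermForm 8 F q) W ∧ H = Cfsg.Geo.subspaceStabilizer W ⊓ (Cfsg.GU 8 F q ⊓ Cfsg.Geo.specialLinear (Fin 8) F)) ∨
    (∃ W : Submodule F (Fin 8 → F), W ≠ ⊥ ∧ Cfsg.Geo.IsNondegenerateOn (Cfsg.hermForm 8 F q) W ∧ 2 * Module.finrank F W < 8 ∧ H = Cfsg.Geo.subspaceStabilizer W ⊓ (Cfsg.GU 8 F q ⊓ Cfsg.Geo.specialLinear (Fin 8) F)) ∨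
    (∃ D : Fin 8 → Submodule F (Fin 8 → F), Cfsg.Geo.IsNondegenerateMDecomposition (Cfsg.hermForm 8 F q) 1 D ∧ H = Cfsg.Geo.decompositionStabilizer D ⊓ (Cfsg.GU 8 F q ⊓ Cfsg.Geo.specialLinear (Fin 8) F)) ∨
    (3 ≤ q ∧ ∃ D : Fin 4 → Submodule F (Fin 8 → F), Cfsg.Geo.IsNondegenerateMDecomposition (Cfsg.hermForm 8 F q) 2 D ∧ H = Cfsg.Geo.decompositionStabilizer D ⊓ (Cfsg.GU 8 F q ⊓ Cfsg.Geo.specialLinear (Fin 8) F)) ∨
    (∃ D : Fin 2 → Submodule F (Fin 8 → F), Cfsg.Geo.IsNondegenerateMDecomposition (Cfsg.hermForm 8 F q) 4 D ∧ H = Cfsg.Geo.decompositionStabilizer D ⊓ (Cfsg.GU 8 F q ⊓ Cfsg.Geo.specialLinear (Fin 8) F)) ∨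
    (∃ D : Fin 2 → Submodule F (Fin 8 → F), Cfsg.Geo.IsMDecomposition 4 D ∧ (∀ i, Cfsg.Geo.IsTotallySingularFor (Cfsg.hermForm 8 F q) (D i)) ∧ H = Cfsg.Geo.decompositionStabilizer D ⊓ (Cfsg.GU 8 F q ⊓ Cfsg.Geo.specialLinear (Fin 8) F)) ∨
    (3 ≤ q ∧ ∃ (e : Fin 8 ≃ Fin 2 × Fin 4) (P : Matrix.GeneralLinearGroup (Fin 8) F) (f₁ : (Fin 2 → F) → (Fin 2 → F) → F) (f₂ : (Fin 4 → F) → (Fin 4 → F) → F), Cfsg.Geo.IsUnitaryFormPow q f₁ ∧ Cfsg.Geo.IsUnitaryFormPow q f₂ ∧ Cfsg.Geo.IsTensorFormStructure (fun x : F => x ^ q) (Cfsg.hermForm 8 F q) f₁ f₂ e P ∧ H = Cfsg.Geo.tensorProductSubgroup 2 4 e P ⊓ (Cfsg.GU 8 F q ⊓ Cfsg.Geo.specialLinear (Fin 8) F)) ∨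
    (∃ (F₀ : Subfield F) (r : ℕ) (P : Matrix.GeneralLinearGroup (Fin 8) F), r.Prime ∧ Odd r ∧ Fintype.card F = Nat.card F₀ ^ r ∧ Cfsg.Geo.IsFormRationalStructure (Cfsg.hermForm 8 F q) F₀ 1 P ∧ H = Cfsg.Geo.subfieldSubgroup F₀ P ⊓ (Cfsg.GU 8 F q ⊓ Cfsg.Geo.specialLinear (Fin 8) F)) ∨
    (∃ (F₀ : Subfield F) (P : Matrix.GeneralLinearGroup (Fin 8) F) (ζ : F), Fintype.card F = Nat.card F₀ ^ 2 ∧ ζ ≠ 0 ∧ ζ + ζ ^ q = 0 ∧ Cfsg.Geo.IsFormRationalStructure (Cfsg.hermForm 8 F q) F₀ ζ P ∧ (∀ u : Fin 8 → F, (∀ i, u i ∈ F₀) → (Cfsg.hermForm 8 F q) (Matrix.mulVec (P : Matrix (Fin 8) (Fin 8) F) u) (Matrix.mulVec (P : Matrix (Fin 8) (Fin 8) F) u) = 0) ∧ H = Cfsg.Geo.subfieldSubgroup F₀ P ⊓ (Cfsg.GU 8 F q ⊓ Cfsg.Geo.specialLinear (Fin 8) F)) ∨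
    (Odd q ∧ ∃ (F₀ : Subfield F) (P : Matrix.GeneralLinearGroup (Fin 8) F), Fintype.card F = Nat.card F₀ ^ 2 ∧ Cfsg.Geo.IsFormRationalStructure (Cfsg.hermForm 8 F q) F₀ 1 P ∧ H = Cfsg.Geo.subfieldSubgroup F₀ P ⊓ (Cfsg.GU 8 F q ⊓ Cfsg.Geo.specialLinear (Fin 8) F)) ∨
    (∃ (p : ℕ) (R : Subgroup (Matrix.GeneralLinearGroup (Fin 8) F)), p.Prime ∧ q = p ∧ p % 4 = 3 ∧ Cfsg.Geo.IsSymplecticTypeGroup 2 R ∧ Cfsg.Geo.ActsAbsolutelyIrreducibly (Cfsg.Geo.matrixSet R) ∧ R ≤ Cfsg.Geo.similarityGroup (Cfsg.hermForm 8 F q) ∧ Nat.card R = 256 ∧ Nat.card (Subgroup.center R) = 4 ∧ H = Cfsg.Geo.subgroupNormalizer R ⊓ (Cfsg.GU 8 F q ⊓ Cfsg.Geo.specialLinear (Fin 8) F)) ∨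
    Cfsg.Geo.InUnitaryResidualClass H := by
  classical
  have hN : Fintype.card (Fin 8) = 8 := Fintype.card_fin _
  have hf := UnitPow.isUnitaryForm_hermForm hF 8
  have hσ : ((UnitPow.conj hF : F ≃+* F) : F → F) = fun x : F => x ^ q := funext fun x => UnitPow.conj_apply hF x
  have hΩ : HasUTv (UnitPow.conj hF) (Cfsg.hermForm 8 F q) (Cfsg.GU 8 F q ⊓ Cfsg.Geo.specialLinear (Fin 8) F) :=
    fun v c hv hc => ⟨UnitPow.mem_GU.2 (Unit.formTv_isometry hf hv hc), formTv_mem_specialLinear _ _ _⟩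
  have he : ∀ i j : Fin 8, Cfsg.hermForm 8 F q (Pi.single i 1) (Pi.single j 1) = if i = j then 1 else 0 := fun i j => by
    have hq0 : q ≠ 0 := by have := UnitPow.two_le hF; omega
    by_cases hij : i = j
    · simp [Cfsg.hermForm, Pi.single_apply, hij, hq0]
    · simp [Cfsg.hermForm, Pi.single_apply, hij, Ne.symm hij, hq0]
  rcases unitary_power_cases (σ := UnitPow.conj hF) hF (fun x => UnitPow.conj_apply hF x) hf he
    (Ω := Cfsg.GU 8 F q ⊓ Cfsg.Geo.specialLinear (Fin 8) F) (H := H) hΩ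
    (fun g hg => UnitPow.mem_GU.1 hg.1) hH (by omega) with
    h | ⟨W, h1, h2, h3, h4⟩ | ⟨t, m, D, ht, hm, htm, hq, hD, hEq⟩ | ⟨m, D, hm, hD, hTS, hEq⟩ |
    ⟨s, K, hs, hodd, hdvd, hK, hKa, hEq⟩ |
    ⟨a, b, e, P, f₁, f₂, ha, hab', hab, hae, h1, h2, hT, hEq⟩ | h | h | h |
    ⟨r, m, p, k, R, hr, hrm, hrp, hk, hminf, hsym, habs, hRsim, hcard, hcen, hEq⟩ |
    ⟨a, e, P, ha, haa, hle, hT, hTP⟩ | ⟨N, a, t, e, P, ha, ht, hat, hNH, hinv, hns, hspan, hperf, hle, ht2⟩ | h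
  · exact Or.inl (h)
  · exact Or.inr (Or.inl (⟨W, h1, h2, by omega, h4⟩))
  · rw [hN] at htm
    have hm4 : m ≤ 4 := by nlinarith
    interval_cases m
    · obtain rfl : t = 8 := by omega
      exact Or.inr (Or.inr (Or.inl (⟨D, hD, hEq⟩)))
    · obtain rfl : t = 4 := by omega
      exact Or.inr (Or.inr (Or.inr (Or.inl (⟨hq rfl, D, hD, hEq⟩))))
    · omega
    · obtain rfl : t = 2 := by omega
      exact Or.inr (Or.inr (Or.inr (Or.inr (Or.inl (⟨D, hD, hEq⟩)))))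
  · obtain rfl : m = 4 := by omega
    exact Or.inr (Or.inr (Or.inr (Or.inr (Or.inr (Or.inl (⟨D, hD, hTS, hEq⟩))))))
  · exfalso
    rw [hN] at hdvd
    have h2 := (Nat.prime_dvd_prime_iff_eq hs Nat.prime_two).1 (hs.dvd_of_dvd_pow (show s ∣ 2 ^ 3 from hdvd))
    subst h2
    exact absurd hodd (by decide)
  · rw [hN] at hab
    obtain rfl : a = 2 := by
      have : a ≤ 2 := by nlinarith
      omega
    obtain rfl : b = 4 := by omega
    exact Or.inr (Or.inr (Or.inr (Or.inr (Or.inr (Or.inr (Or.inl (⟨hae rfl, e, P, f₁, f₂, h1, h2, hT, hEq⟩)))))))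
  · exact Or.inr (Or.inr (Or.inr (Or.inr (Or.inr (Or.inr (Or.inr (Or.inl (h))))))))
  · exact Or.inr (Or.inr (Or.inr (Or.inr (Or.inr (Or.inr (Or.inr (Or.inr (Or.inl (h)))))))))
  · exact Or.inr (Or.inr (Or.inr (Or.inr (Or.inr (Or.inr (Or.inr (Or.inr (Or.inr (Or.inl (h))))))))))
  · rw [hN] at hrm
    obtain ⟨rfl, rfl⟩ : r = 2 ∧ m = 3 := by
      obtain rfl := (Nat.prime_dvd_prime_iff_eq hr Nat.prime_two).1 (hr.dvd_of_dvd_pow (show r ∣ 2 ^ 3 from
        (dvd_pow_self r (show m ≠ 0 by rintro rfl; simp at hrm)).trans (dvd_of_eq hrm)))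
      exact ⟨rfl, Nat.pow_right_injective le_rfl (show 2 ^ m = 2 ^ 3 from hrm)⟩
    obtain ⟨hqp, hp4⟩ := minimal_field_four hrp hF (show Cfsg.Geo.IsMinimalFieldFor 4 p k F from hminf)
    exact Or.inr (Or.inr (Or.inr (Or.inr (Or.inr (Or.inr (Or.inr (Or.inr (Or.inr (Or.inr (Or.inl (⟨p, R, hminf.1, hqp, hp4, hsym, habs, hRsim, by rw [hcard]; rfl, by rw [hcen]; rfl, hEq⟩)))))))))))
  · exfalso
    rw [hN] at haa
    have : a ≤ 2 := by nlinarith
    interval_cases a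
    omega
  · rw [hN] at hat
    obtain ⟨rfl, rfl⟩ : a = 2 ∧ t = 3 := by
      have ha8 : a ≤ 8 := hat ▸ Nat.le_self_pow (by omega) a
      have ht3 : t ≤ 3 := by
        by_contra h
        have := (Nat.pow_le_pow_left ha t).trans hat.le
        have := Nat.pow_le_pow_right (show 1 ≤ 2 by omega) (show 4 ≤ t by omega)
        omega
      interval_cases a <;> interval_cases t <;> simp_all
    have hfN : Cfsg.Geo.FixesForm (Cfsg.Geo.matrixSet N) (Cfsg.hermForm 8 F q) := by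
      rintro _ ⟨g, hg, rfl⟩ u v
      exact UnitPow.mem_GU.1 (hH.1.le (hNH hg)).1 u v
    obtain ⟨F₀, h0, hreal⟩ := realisable_of_wreath_two (show 0 < 3 by norm_num) e P hspan hperf (hNH.trans hle) hf hfN
    rcases unitary_realisable_cases (by omega) hF (fun x => UnitPow.conj_apply hF x) hf hinv hspan hfN h0 hreal with
      ⟨F₁, r, P₂, hr, ho, hc, hform, hlew⟩ | ⟨F₁, P₂, ζ, hc, hζ, hζq, hform, halt, hlew⟩ |
      ⟨hq, F₁, P₂, hc, hform, hlew⟩
    · have hEq := eq_inf_of_le hH hlew (utv_not_le_subfield hf (by omega) he hΩ (subfield_ne_top hr hc) P₂)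
      exact Or.inr (Or.inr (Or.inr (Or.inr (Or.inr (Or.inr (Or.inr (Or.inl (⟨F₁, r, P₂, hr, ho, hc, hform, hEq⟩))))))))
    · have hEq := eq_inf_of_le hH hlew (utv_not_le_subfield hf (by omega) he hΩ (subfield_ne_top Nat.prime_two hc) P₂)
      exact Or.inr (Or.inr (Or.inr (Or.inr (Or.inr (Or.inr (Or.inr (Or.inr (Or.inl (⟨F₁, P₂, ζ, hc, hζ, hζq, hform, halt, hEq⟩)))))))))
    · have hEq := eq_inf_of_le hH hlew (utv_not_le_subfield hf (by omega) he hΩ (subfield_ne_top Nat.prime_two hc) P₂)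
      exact Or.inr (Or.inr (Or.inr (Or.inr (Or.inr (Or.inr (Or.inr (Or.inr (Or.inr (Or.inl (⟨hq, F₁, P₂, hc, hform, hEq⟩))))))))))
  · exact Or.inr (Or.inr (Or.inr (Or.inr (Or.inr (Or.inr (Or.inr (Or.inr (Or.inr (Or.inr (Or.inr (h)))))))))))

end Cfsg.Agent.S5820
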