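import Cfsg.Statements.S5825
import Cfsg.Agent.Lib.GeomClasses.OrthSubspaceTools
import Cfsg.Agent.Lib.GeomClasses.OrthRatMax
import Cfsg.Agent.Lib.GeomClasses.OrthTransport
import Cfsg.Agent.Lib.OmegaEight.NonDegenerate
import Cfsg.Agent.Lib.OmegaEight.Four
import Cfsg.Agent.Lib.OmegaEight.ExtField

set_option autoImplicit false
open Cfsg

namespace Cfsg.Agent.S5825

open Matrix CfsgLib.GeomClasses

/-- Maximal subgroups of Ω_8^-(q) of geometric type (any q). Let F be a finite field with q elements, Q a non-degenerate quadratic form on F^8 (non-degenerate polar form) of minus type (Witt index 3: no totally singular 4-space), and Ω = Ω_8^-(q) the commutator subgroup of the isometry group of Q, inside GL_8(F). Each of the following, intersected with Ω, is a maximal subgroup of Ω: (1) the stabiliser of any non-zero subspace on which Q vanishes identically (totally singular 1-, 2- and 3-spaces); (2) for q odd, the stabiliser of any proper subspace of odd dimension (1, 3, 5 or 7) on which the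 polar form of Q is non-degenerate; (3) the stabiliser of any non-degenerate 2-space of minus type (containing no non-zero singular vector); (4) for q ≥ 4, the stabiliser of any non-degenerate 2-space of plus type (containing a non-zero singular vector); (5) the stabiliser of any non-degenerate 4-space (its orthogonal complement is then a non-degenerate 4-space of the opposite type); (6) for q even, the stabiliser of the 1-space spanned by any non-singular vector v (Q(v) ≠ 0); (7) for q odd, the normaliser of any degree-2 subfield K of the matrix algebra whose elements are self-adjoint for the polar form of Q (Q is then the trace of a quadratic form over K); (8) every subfield group for a subfield F₀ of odd prime index r in F whose F₀-structure carries a non-zero scalar multiple of Q. -/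
theorem result {F : Type*} [Field F] [Fintype F] (Q : (Fin 8 → F) → F) (hQ : Cfsg.Geo.IsNondegenerateQuadraticForm Q) (hminus : ¬ Cfsg.Geo.IsPlusTypeOn Q ⊤) :
    (∀ W : Submodule F (Fin 8 → F), W ≠ ⊥ → Cfsg.Geo.IsTotallySingularQuad Q W → Cfsg.Geo.IsMaximalIn (Cfsg.Geo.omegaGL Q) (Cfsg.Geo.subspaceStabilizer W ⊓ Cfsg.Geo.omegaGL Q)) ∧
    (Odd (Fintype.card F) → ∀ W : Submodule F (Fin 8 → F), W ≠ ⊥ → W ≠ ⊤ → Odd (Module.finrank F W) → Cfsg.Geo.IsNondegenerateOn (QuadraticMap.polar Q) W → Cfsg.Geo.IsMaximalIn (Cfsg.Geo.omegaGL Q) (Cfsg.Geo.subspaceStabilizer W ⊓ Cfsg.Geo.omegaGL Q)) ∧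
    (∀ W : Submodule F (Fin 8 → F), Module.finrank F W = 2 → Cfsg.Geo.IsNondegenerateOn (QuadraticMap.polar Q) W → ¬ Cfsg.Geo.IsPlusTypeOn Q W → Cfsg.Geo.IsMaximalIn (Cfsg.Geo.omegaGL Q) (Cfsg.Geo.subspaceStabilizer W ⊓ Cfsg.Geo.omegaGL Q)) ∧
    (4 ≤ Fintype.card F → ∀ W : Submodule F (Fin 8 → F), Module.finrank F W = 2 → Cfsg.Geo.IsNondegenerateOn (QuadraticMap.polar Q) W → Cfsg.Geo.IsPlusTypeOn Q W → Cfsg.Geo.IsMaximalIn (Cfsg.Geo.omegaGL Q) (Cfsg.Geo.subspaceStabilizer W ⊓ Cfsg.Geo.omegaGL Q)) ∧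
    (∀ W : Submodule F (Fin 8 → F), Module.finrank F W = 4 → Cfsg.Geo.IsNondegenerateOn (QuadraticMap.polar Q) W → Cfsg.Geo.IsMaximalIn (Cfsg.Geo.omegaGL Q) (Cfsg.Geo.subspaceStabilizer W ⊓ Cfsg.Geo.omegaGL Q)) ∧
    (¬ Odd (Fintype.card F) → ∀ v : (Fin 8 → F), Q v ≠ 0 → Cfsg.Geo.IsMaximalIn (Cfsg.Geo.omegaGL Q) (Cfsg.Geo.subspaceStabilizer (Submodule.span F {v}) ⊓ Cfsg.Geo.omegaGL Q)) ∧
    (Odd (Fintype.card F) → ∀ K : Subalgebra F (Matrix (Fin 8) (Fin 8) F), Cfsg.Geo.IsFieldSubalgebra 2 K → Cfsg.Geo.IsSelfAdjointFor (QuadraticMap.polar Q) K → Cfsg.Geo.IsMaximalIn (Cfsg.Geo.omegaGL Q) (Cfsg.Geo.subalgebraNormalizer K ⊓ Cfsg.Geo.omegaGL Q)) ∧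
    (∀ (F₀ : Subfield F) (r : ℕ) (P : Matrix.GeneralLinearGroup (Fin 8) F) (ζ : F), r.Prime → Odd r → Fintype.card F = Nat.card F₀ ^ r → ζ ≠ 0 → Cfsg.Geo.IsQuadFormRationalStructure (fun v : Fin 8 → F => ζ * Q v) F₀ P → Cfsg.Geo.IsMaximalIn (Cfsg.Geo.omegaGL Q) (Cfsg.Geo.subfieldSubgroup F₀ P ⊓ Cfsg.Geo.omegaGL Q)) := by
  classical
  have hq := OrthTools.quadOf_nondegenerate hQ
  set q := CfsgLib.Maximal.TensorTools.quadOf hQ with hqdef
  have hQq : ⇑q = Q := CfsgLib.Maximal.TensorTools.quadOf_coe hQ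
  have hι : Fintype.card (Fin 8) = 8 := Fintype.card_fin 8
  have hlt : ∀ X : Submodule F (Fin 8 → F), (∀ x ∈ X, q x = 0) → Module.finrank F X < 4 := by
    intro X hX
    have h1 := CfsgLib.Orth.two_finrank_le hq hX
    by_contra h
    exact hminus ⟨X, le_top, fun x hx => by rw [← hQq]; exact hX x hx,
      by rw [finrank_top, Module.finrank_fintype_fun_eq_card]; omega⟩
  have h2odd : Odd (Fintype.card F) → (2 : F) ≠ 0 := fun ho h2 => by
    have := CfsgLib.OrthOmega.charP_two_of_two_eq_zero h2
    have := FiniteField.even_card_of_char_two (ringChar.eq F 2)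
    rw [Nat.odd_iff] at ho; omega
  have hnd : ∀ W : Submodule F (Fin 8 → F), Cfsg.Geo.IsNondegenerateOn (QuadraticMap.polar Q) W →
      ∀ x ∈ W, x ≠ 0 → ∃ y ∈ W, QuadraticMap.polar q x y ≠ 0 := fun W hW x hx hx0 => by
    rw [hQq]; exact (hW x hx hx0).2
  have hbot : ∀ W : Submodule F (Fin 8 → F), 0 < Module.finrank F W → W ≠ ⊥ := fun W h e => by
    rw [e, finrank_bot] at h; omega
  have hline : ∀ (V : Submodule F (Fin 8 → F)), Module.finrank F V = 2 → (∃ s ∈ V, s ≠ 0 ∧ q s = 0) →
      Cfsg.Geo.IsPlusTypeOn Q V := by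
    rintro V hV ⟨s, hs, hs0, hqs⟩
    refine ⟨Submodule.span F {s}, (Submodule.span_singleton_le_iff_mem _ _).2 hs, fun x hx => ?_, ?_⟩
    · obtain ⟨c, rfl⟩ := Submodule.mem_span_singleton.1 hx
      rw [← hQq, QuadraticMap.map_smul, hqs, smul_zero]
    · rw [finrank_span_singleton hs0, hV]
  refine ⟨fun W hW0 hW => ?_, fun _ W hW0 hW1 hodd hW => ?_, fun W hd hW hmi => ?_, fun h4 W hd hW _ => ?_,
    fun W hd hW => ?_, fun hev v hv => ?_, fun ho K hK hsa => ?_, fun F₀ r P ζ hr _ hcard hζ hP => ?_⟩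
  · refine OrthEich.maximal_transport hQ ?_
    refine OrthSubspace.maximal_singular hq (by omega) hW0 (fun x hx => by rw [hQq]; exact hW x hx) fun U hU _ h => ?_
    have := hlt U hU
    omega
  · refine OrthEich.maximal_transport hQ ?_
    have hW' := hnd W hW
    have hWle := Submodule.finrank_le W
    rw [Module.finrank_fintype_fun_eq_card, hι] at hWle
    have hU := OrthTools.finrank_orth hq W
    rw [hι] at hU
    rw [Nat.odd_iff] at hodd
    have hne8 : Module.finrank F W ≠ 8 := by omega
    by_cases hle : 2 * Module.finrank F W ≤ 8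
    · refine OrthSubspace.maximal_nondegenerate hq (by omega) hW0 hW' (by omega) (fun h => by omega) ?_
        (by left; omega)
      rintro ⟨h, -⟩; omega
    · rw [← OrthSubspace.stab_orth hq W]
      refine OrthSubspace.maximal_nondegenerate hq (by omega) (hbot _ (by omega))
        (OrthTools.orth_nondegenerate hq hW') (by omega) (fun h => by omega) ?_ (by left; omega)
      rintro ⟨h, -⟩; omega
  · refine OrthEich.maximal_transport hQ ?_
    refine OrthSubspace.maximal_nondegenerate hq (by omega) (hbot _ (by omega)) (hnd W hW) (by omega)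
      (fun h => by omega) ?_ (by left; omega)
    rintro ⟨-, -, hs⟩
    exact hmi (hline W hd hs)
  · refine OrthEich.maximal_transport hQ ?_
    refine OrthSubspace.maximal_nondegenerate hq (by omega) (hbot _ (by omega)) (hnd W hW) (by omega)
      (fun h => by omega) ?_ (by left; omega)
    rintro ⟨-, h, -⟩
    omega
  · refine OrthEich.maximal_transport hQ ?_
    have hW' := hnd W hW
    have hU' := OrthTools.orth_nondegenerate hq hW'
    have hUd : Module.finrank F (OrthTools.orth q W) = 4 := by rw [OrthTools.finrank_orth hq, hι, hd]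
    have key : ∀ V : Submodule F (Fin 8 → F), Module.finrank F V = 4 →
        (∀ x ∈ V, x ≠ 0 → ∃ y ∈ V, QuadraticMap.polar q x y ≠ 0) →
        (∃ m : Submodule F (Fin 8 → F), m ≤ OrthTools.orth q V ∧ Module.finrank F m = 2 ∧ ∀ x ∈ m, q x = 0) →
        Cfsg.Geo.IsMaximalIn (commutator (CfsgLib.Orth.O q)) (OrthEich.stab q V ⊓ commutator (CfsgLib.Orth.O q)) := by
      intro V hVd hV hm
      refine CfsgLib.OmegaEight.maximal_nondegenerate_four hq (by omega) (hbot _ (by omega)) hV (by omega)
        (fun _ g _ hgx => ?_) (fun h => by omega) (fun _ => hm) fun _ => hlt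
      obtain ⟨X, hX, hXq⟩ := OrthSubspace.plus_of_swap hq (k := 4) (by decide) hι hVd hV hgx
      have := hlt X hXq
      omega
    rcases CfsgLib.OmegaEight.exists_singular_plane_side hq hlt hW' hU' hd hUd
      (fun w hw u hu => OrthTools.mem_orth.1 hu w hw) with hm | hm
    · rw [← OrthSubspace.stab_orth hq W]
      refine key _ hUd hU' ?_
      rwa [OrthSubspace.orth_orth hq W]
    · exact key W hd hW' hm
  · refine OrthEich.maximal_transport hQ ?_
    refine OrthSubspace.maximal_line hq (by omega) ?_ (by rwa [hQq])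
    by_contra h2
    exact hev (Nat.odd_iff.2 (FiniteField.odd_card_of_char_ne_two fun hc => h2 (by
      have : CharP F 2 := ringChar.of_eq hc
      exact CharTwo.two_eq_zero)))
  · exact CfsgLib.OmegaEight.Ext.maximal_field hι hQ (h2odd ho) (fun X hX => hlt X (by rwa [hQq])) K hK hsa
  · have hiso : Cfsg.isometryGroup F (fun v => ζ * Q v) = Cfsg.isometryGroup F Q := by
      ext g
      constructor
      · exact fun h u v => mul_left_cancel₀ hζ (h u v)
      · exact fun h u v => congrArg (ζ * ·) (h u v)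
    have hΩ : Cfsg.Geo.omegaGL (fun v => ζ * Q v) = Cfsg.Geo.omegaGL Q := by
      rw [OrthTransport.omegaGL_eq, OrthTransport.omegaGL_eq, hiso]
    have hp : ∀ u v, QuadraticMap.polar (fun v => ζ * Q v) u v = ζ * QuadraticMap.polar Q u v := fun u v => by
      simp only [QuadraticMap.polar]; ring
    have hQζ : Cfsg.Geo.IsNondegenerateQuadraticForm (fun v => ζ * Q v) := by
      refine ⟨fun c v => ?_, ⟨?_, ?_, ?_, ?_⟩, fun x hx => ?_⟩
      · simp only [hQ.smul]; ring
      · intro a b c; simp only [hp, hQ.polar_bilinear.add_left]; ring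
      · intro a b c; simp only [hp, hQ.polar_bilinear.smul_left]; ring
      · intro a b c; simp only [hp, hQ.polar_bilinear.add_right]; ring
      · intro a b c; simp only [hp, hQ.polar_bilinear.smul_right]; ring
      obtain ⟨⟨y, hy⟩, ⟨y', hy'⟩⟩ := hQ.nondegenerate x hx
      exact ⟨⟨y, by rw [hp]; exact mul_ne_zero hζ hy⟩, ⟨y', by rw [hp]; exact mul_ne_zero hζ hy'⟩⟩
    have hQ' := OrthTransport.nondegenerate_comp hQζ P
    have S : OrthRat.Rat (CfsgLib.Maximal.TensorTools.quadOf hQ') F₀ :=
      ⟨OrthTools.quadOf_nondegenerate hQ', by omega, fun u hu => hP u hu⟩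
    have := Fintype.ofFinite F₀
    have h0 := OrthPair.maximal_transport hQ' (OrthRat.maximal S hr hcard)
    have h := OrthTransport.maximal_map (Q := fun v => ζ * Q v) P
      (S := SympRoot.ratScalar F₀ (Fin 8)) h0
    rw [← hΩ]
    exact h

end Cfsg.Agent.S5825
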