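import Cfsg.Statements.S5828
import Cfsg.Agent.Lib.NineLinear.Assemble
import Cfsg.Agent.Lib.NineSymp.Linear
import Cfsg.Agent.Lib.NineSymp.NormalForm
-- import your own Cfsg.Agent.* helpers here

set_option autoImplicit false
open Cfsg

namespace Cfsg.Agent.S5828

/-- Maximal subgroups of SL_9(q) of geometric type, for a finite field F with q elements (any q); p denotes the characteristic. Each of the following subgroups of GL_9(F), intersected with SL_9(F), is a maximal subgroup of SL_9(F): (1) the stabiliser of any proper non-zero subspace of F^9; (2) for q ≥ 5, the stabiliser of any decomposition of F^9 into 9 independent 1-spaces; (3) the stabiliser of any decomposition of F^9 into 3 independent 3-spaces; (4) the normaliser of any degree-3 subfield of the 9 × 9 matrix algebra over F (a commutative subalgebra of dimension 3 in which every non-zero element is invertible); (5) every subfield group (a conjugate of GL_9(F₀) times the scalars of F) for a subfield F₀ with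 |F| = |F₀|^r, r prime; (6) for q = p prime with p ≡ 1 mod 3, the normaliser of any absolutely irreducible 3-subgroup R of exponent 3 and order 3^(1+2m) with centre of order 3, all of whose characteristic abelian subgroups are cyclic, F being the smallest field of characteristic p containing the cube roots of unity (here R is extraspecial of order 3^5); (7) the stabiliser of any tensor decomposition of F^9 into 2 factors of dimension 3 (a conjugate of the tensor-wreath subgroup); (8) for q odd, the group of similarities of any non-degenerate quadratic form on F^9; (9) the group of similarities of any non-degenerate unitary form on F^9 (these exist exactly when q is a square). -/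
theorem result {F : Type*} [Field F] [Fintype F] :
    (∀ W : Submodule F (Fin 9 → F), W ≠ ⊥ → W ≠ ⊤ → Cfsg.Geo.IsMaximalIn (Cfsg.Geo.specialLinear (Fin 9) F) (Cfsg.Geo.subspaceStabilizer W ⊓ Cfsg.Geo.specialLinear (Fin 9) F)) ∧
    (5 ≤ Fintype.card F → ∀ D : Fin 9 → Submodule F (Fin 9 → F), Cfsg.Geo.IsMDecomposition 1 D → Cfsg.Geo.IsMaximalIn (Cfsg.Geo.specialLinear (Fin 9) F) (Cfsg.Geo.decompositionStabilizer D ⊓ Cfsg.Geo.specialLinear (Fin 9) F)) ∧
    (∀ D : Fin 3 → Submodule F (Fin 9 → F), Cfsg.Geo.IsMDecomposition 3 D → Cfsg.Geo.IsMaximalIn (Cfsg.Geo.specialLinear (Fin 9) F) (Cfsg.Geo.decompositionStabilizer D ⊓ Cfsg.Geo.specialLinear (Fin 9) F)) ∧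
    (∀ K : Subalgebra F (Matrix (Fin 9) (Fin 9) F), Cfsg.Geo.IsFieldSubalgebra 3 K → Cfsg.Geo.IsMaximalIn (Cfsg.Geo.specialLinear (Fin 9) F) (Cfsg.Geo.subalgebraNormalizer K ⊓ Cfsg.Geo.specialLinear (Fin 9) F)) ∧
    (∀ (F₀ : Subfield F) (r : ℕ) (P : Matrix.GeneralLinearGroup (Fin 9) F), r.Prime → Fintype.card F = Nat.card F₀ ^ r → Cfsg.Geo.IsMaximalIn (Cfsg.Geo.specialLinear (Fin 9) F) (Cfsg.Geo.subfieldSubgroup F₀ P ⊓ Cfsg.Geo.specialLinear (Fin 9) F)) ∧
    ((∃ p : ℕ, p.Prime ∧ Fintype.card F = p ∧ (p % 3 = 1)) → ∀ R : Subgroup (Matrix.GeneralLinearGroup (Fin 9) F), Cfsg.Geo.IsLinearSymplecticTypeData 3 R → Cfsg.Geo.IsMaximalIn (Cfsg.Geo.specialLinear (Fin 9) F) (Cfsg.Geo.subgroupNormalizer R ⊓ Cfsg.Geo.specialLinear (Fin 9) F)) ∧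
    (∀ (e : Fin 9 ≃ (Fin 2 → Fin 3)) (P : Matrix.GeneralLinearGroup (Fin 9) F), Cfsg.Geo.IsMaximalIn (Cfsg.Geo.specialLinear (Fin 9) F) (Cfsg.Geo.tensorWreathSubgroup 3 2 e P ⊓ Cfsg.Geo.specialLinear (Fin 9) F)) ∧
    (Odd (Fintype.card F) → ∀ Q : (Fin 9 → F) → F, Cfsg.Geo.IsNondegenerateQuadraticForm Q → Cfsg.Geo.IsMaximalIn (Cfsg.Geo.specialLinear (Fin 9) F) (Cfsg.Geo.quadSimilarityGroup Q ⊓ Cfsg.Geo.specialLinear (Fin 9) F)) ∧
    (∀ (σ : F ≃+* F) (f : (Fin 9 → F) → (Fin 9 → F) → F), Cfsg.Geo.IsUnitaryForm σ f → Cfsg.Geo.IsMaximalIn (Cfsg.Geo.specialLinear (Fin 9) F) (Cfsg.Geo.similarityGroup f ⊓ Cfsg.Geo.specialLinear (Fin 9) F)) := by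
  refine CfsgLib.NineLinear.clauses_of_symplectic_type ?_
  rintro ⟨p, hp, hF, hp3⟩ R hR
  let e : CfsgLib.NineSymp.I9 ≃ Fin 9 := finProdFinEquiv (m := 3) (n := 3)
  obtain ⟨h1, h2, h3, h4, h5⟩ := CfsgLib.NineSymp.linear_facts hR e
  obtain ⟨ω, h, P, hP⟩ := CfsgLib.NineSymp.normal_form _ h1 h2 h3 h4 h5
  haveI : Fact p.Prime := ⟨hp⟩
  haveI : CharP F p := charP_of_card_eq_prime hF
  exact CfsgLib.NineSymp.maximal_linear_of_form h hp hF
    (CfsgLib.NineSymp.two_ne_zero_of_char hp (by omega)) e P hP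

end Cfsg.Agent.S5828
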