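import Cfsg.Statements.S5829
import Cfsg.Agent.Lib.Geo.AschLinearFull

set_option autoImplicit false
open Cfsg

namespace Cfsg.Agent.S5829

open CfsgLib.Geo.Asch

/-- Every maximal subgroup of SL_9(q) is of one of the listed geometric types or lies in the residual class. Let F be a finite field with q elements (p its characteristic) and H a maximal subgroup of SL_9(F) (inside GL_9(F)). Then H is the intersection with SL_9(F) of one of: the stabiliser of a proper non-zero subspace; for q ≥ 5, the stabiliser of a decomposition into 9 independent 1-spaces; the stabiliser of a decomposition into 3 independent 3-spaces; the normaliser of a degree-3 subfield of the matrix algebra; a subfield group for a subfield F₀ with |F| = |F₀|^r, r prime; for q = p prime with p ≡ 1 mod 3, the normaliser of an absolutely irreducible 3-subgroup R of exponent 3 and order 3^(1+2m) with centre of order 3, all of whose characteristic abelian subgroups are cyclic, F being the smallest field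 of characteristic p containing the cube roots of unity (here R is extraspecial of order 3^5); the stabiliser of a tensor decomposition into 2 factors of dimension 3; for q odd, the similarity group of a non-degenerate quadratic form; the similarity group of a non-degenerate unitary form — or else H lies in the residual class of the linear case (modulo scalars H is almost simple, with absolutely irreducible perfect socle preimage realisable over no proper subfield and fixing no non-degenerate quadratic, symplectic or unitary form). -/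
theorem result {F : Type*} [Field F] [Fintype F] (H : Subgroup (Matrix.GeneralLinearGroup (Fin 9) F)) (hH : Cfsg.Geo.IsMaximalIn (Cfsg.Geo.specialLinear (Fin 9) F) H) :
    (∃ W : Submodule F (Fin 9 → F), W ≠ ⊥ ∧ W ≠ ⊤ ∧ H = Cfsg.Geo.subspaceStabilizer W ⊓ Cfsg.Geo.specialLinear (Fin 9) F) ∨
    (5 ≤ Fintype.card F ∧ ∃ D : Fin 9 → Submodule F (Fin 9 → F), Cfsg.Geo.IsMDecomposition 1 D ∧ H = Cfsg.Geo.decompositionStabilizer D ⊓ Cfsg.Geo.specialLinear (Fin 9) F) ∨
    (∃ D : Fin 3 → Submodule F (Fin 9 → F), Cfsg.Geo.IsMDecomposition 3 D ∧ H = Cfsg.Geo.decompositionStabilizer D ⊓ Cfsg.Geo.specialLinear (Fin 9) F) ∨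
    (∃ K : Subalgebra F (Matrix (Fin 9) (Fin 9) F), Cfsg.Geo.IsFieldSubalgebra 3 K ∧ H = Cfsg.Geo.subalgebraNormalizer K ⊓ Cfsg.Geo.specialLinear (Fin 9) F) ∨
    (∃ (F₀ : Subfield F) (r : ℕ) (P : Matrix.GeneralLinearGroup (Fin 9) F), r.Prime ∧ Fintype.card F = Nat.card F₀ ^ r ∧ H = Cfsg.Geo.subfieldSubgroup F₀ P ⊓ Cfsg.Geo.specialLinear (Fin 9) F) ∨
    ((∃ p : ℕ, p.Prime ∧ Fintype.card F = p ∧ (p % 3 = 1)) ∧ ∃ R : Subgroup (Matrix.GeneralLinearGroup (Fin 9) F), Cfsg.Geo.IsLinearSymplecticTypeData 3 R ∧ H = Cfsg.Geo.subgroupNormalizer R ⊓ Cfsg.Geo.specialLinear (Fin 9) F) ∨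
    (∃ (e : Fin 9 ≃ (Fin 2 → Fin 3)) (P : Matrix.GeneralLinearGroup (Fin 9) F), H = Cfsg.Geo.tensorWreathSubgroup 3 2 e P ⊓ Cfsg.Geo.specialLinear (Fin 9) F) ∨
    (Odd (Fintype.card F) ∧ ∃ Q : (Fin 9 → F) → F, Cfsg.Geo.IsNondegenerateQuadraticForm Q ∧ H = Cfsg.Geo.quadSimilarityGroup Q ⊓ Cfsg.Geo.specialLinear (Fin 9) F) ∨
    (∃ (σ : F ≃+* F) (f : (Fin 9 → F) → (Fin 9 → F) → F), Cfsg.Geo.IsUnitaryForm σ f ∧ H = Cfsg.Geo.similarityGroup f ⊓ Cfsg.Geo.specialLinear (Fin 9) F) ∨
    Cfsg.Geo.InLinearResidualClass H := by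
  haveI : Nonempty (Fin 9) := ⟨⟨0, by norm_num⟩⟩
  have hn3 : 3 ≤ Fintype.card (Fin 9) := by simp
  rcases linear_maximal_cases (show 3 ≤ 9 by norm_num) hH with h | ⟨t, m, D, hD, htm, hEq⟩ | ⟨r, K, hr, hrn, hK, hEq⟩ |
    ⟨a, b, e, P, ha, hlt, hab, hEq⟩ | h | ⟨r, m, R, hR, hd, hEq⟩ | ⟨a, t, e, P, ha, ht, hn', hEq⟩ | h | h | h | h
  · exact Or.inl (h)
  · 
    obtain htm' : (t = 9 ∧ m = 1) ∨ (t = 3 ∧ m = 3) := by
      have hle : t ≤ 9 := Nat.le_of_dvd (by norm_num) ⟨m, htm.symm⟩
      have h2 := hD.two_le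
      interval_cases t <;> omega
    rcases htm' with ⟨rfl, rfl⟩ | ⟨rfl, rfl⟩
    · by_cases hq : 5 ≤ Fintype.card F
      · exact Or.inr (Or.inl (⟨hq, D, hD, hEq⟩))
      have h1 := Fintype.one_lt_card (α := F)
      obtain hq2 | hq2 | hq2 : Fintype.card F = 2 ∨ Fintype.card F = 3 ∨ Fintype.card F = 4 := by omega
      · obtain ⟨W, hW1, hW2, hle⟩ := decomposition_le_subspace_two hq2 (by simp) hD
        exact Or.inl (⟨W, hW1, hW2, eq_inf_of_le hH (le_trans (hEq.le.trans inf_le_left) hle) (not_specialLinear_le_subspace hW1 hW2)⟩)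
      · obtain ⟨Q, hQ, hle⟩ := decomposition_le_quad_three hq2 hD
        exact Or.inr (Or.inr (Or.inr (Or.inr (Or.inr (Or.inr (Or.inr (Or.inl (⟨by rw [hq2]; decide, Q, hQ, eq_inf_of_le hH (le_trans (hEq.le.trans inf_le_left) hle) (not_specialLinear_le_quad hn3 hQ)⟩))))))))
      · obtain ⟨σ, f, hf, hle⟩ := decomposition_le_unitary_four hq2 hD
        exact Or.inr (Or.inr (Or.inr (Or.inr (Or.inr (Or.inr (Or.inr (Or.inr (Or.inl (⟨σ, f, hf, eq_inf_of_le hH (le_trans (hEq.le.trans inf_le_left) hle) (not_specialLinear_le_similarity hn3 (unitary_isSesq hf) hf.nondegenerate)⟩)))))))))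
    · exact Or.inr (Or.inr (Or.inl (⟨D, hD, hEq⟩)))
  · obtain rfl : r = 3 := by
      have hle : r ≤ 9 := Nat.le_of_dvd (by norm_num) hrn
      have h2 := hr.two_le
      interval_cases r <;> (revert hr hrn; norm_num)
    exact Or.inr (Or.inr (Or.inr (Or.inl (⟨K, hK, hEq⟩))))
  · 
    exfalso
    have h3 : a ≤ 2 := by nlinarith
    obtain rfl : a = 2 := by omega
    omega
  · exact Or.inr (Or.inr (Or.inr (Or.inr (Or.inl (h)))))
  · have hd8 : 9 = r ^ m := by simpa using hR.deg
    obtain rfl : r = 3 := by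
      have hdd : r ∣ 9 := by
        rw [hd8]
        refine dvd_pow_self r ?_
        rintro rfl
        simp at hd8
      have hle : r ≤ 9 := Nat.le_of_dvd (by norm_num) hdd
      have h2 := hR.prime.two_le
      have hp := hR.prime
      interval_cases r <;> (revert hp hdd; norm_num)
    obtain ⟨p, e, hne, hmin, hcase⟩ := hd.field
    obtain ⟨hp, -, hc, hdvd, hmin'⟩ := hmin
    rcases hcase with ⟨-, hoe, hz, -⟩ | ⟨h2, -⟩ | ⟨h2, -⟩
    · rw [hz] at hdvd hmin'
      obtain rfl : e = 1 := by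
        by_contra he
        have he3 : 2 < e := by rcases hoe with ⟨k, rfl⟩; omega
        refine hmin' 2 two_pos he3 ?_
        have h3 : p % 3 ≠ 0 := fun h0 => hne ((Nat.prime_dvd_prime_iff_eq Nat.prime_three hp).1 (Nat.dvd_of_mod_eq_zero h0))
        obtain ⟨k, hk⟩ : ∃ k, p = 3 * k + 1 ∨ p = 3 * k + 2 := ⟨p / 3, by omega⟩
        rcases hk with hk | hk
        · exact ⟨3 * k * k + 2 * k, by rw [hk]; ring_nf; omega⟩
        · exact ⟨3 * k * k + 4 * k + 1, by rw [hk]; ring_nf; omega⟩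
      rw [pow_one] at hc hdvd
      have := hp.two_le
      exact Or.inr (Or.inr (Or.inr (Or.inr (Or.inr (Or.inl (⟨⟨p, hp, hc, by omega⟩, R, hd, hEq⟩))))))
    · omega
    · omega
  · 
    obtain rfl : t = 2 := by
      by_contra h2
      have h1 : a ^ 3 ≤ a ^ t := Nat.pow_le_pow_right (by omega) (by omega)
      have h3 : 3 ^ 3 ≤ a ^ 3 := Nat.pow_le_pow_left ha 3
      omega
    obtain rfl : a = 3 := by nlinarith
    exact Or.inr (Or.inr (Or.inr (Or.inr (Or.inr (Or.inr (Or.inl (⟨e, P, hEq⟩)))))))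
  · exact Or.inr (Or.inr (Or.inr (Or.inr (Or.inr (Or.inr (Or.inr (Or.inl (h))))))))
  · exact absurd h.choose_spec.1 (not_symplectic_of_odd (by simp; decide))
  · exact Or.inr (Or.inr (Or.inr (Or.inr (Or.inr (Or.inr (Or.inr (Or.inr (Or.inl (h)))))))))
  · exact Or.inr (Or.inr (Or.inr (Or.inr (Or.inr (Or.inr (Or.inr (Or.inr (Or.inr (h)))))))))

end Cfsg.Agent.S5829
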