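import Cfsg.Statements.S5832
import Cfsg.Agent.Lib.Geo.AschUnitPowerArith
import Cfsg.Agent.Lib.GeomClasses.UnitPow
-- import your own Cfsg.Agent.* helpers here

set_option autoImplicit false
open Cfsg

namespace Cfsg.Agent.S5832

open CfsgLib.Geo.Asch CfsgLib.GeomClasses

/-- Every maximal subgroup of SU_9(q) is of one of the listed geometric types or lies in the residual class. Let F be the field with q² elements, f the standard unitary form Σ u_i v_i^q on F^9, and H a maximal subgroup of SU_9(q) (inside GL_9(F)). Then H is the intersection with SU_9(q) of one of: the stabiliser of a non-zero totally isotropic subspace; the stabiliser of a non-degenerate 1-, 2-, 3- or 4-space; the stabiliser of a decomposition into nine mutually orthogonal non-degenerate 1-spaces; of a decomposition into three mutually orthogonal non-degenerate 3-spaces; the normaliser of an adjoint-closed degree-3 subfield of the matrix algebra;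 a subfield group of odd prime index whose F₀-structure carries f; for q odd, a subfield group of index 2 whose F₀-structure carries f; for q = p ≡ 2 mod 3 prime, the normaliser of an absolutely irreducible extraspecial group 3_+^(1+4) of exponent 3 inside the similarity group of f; for q ≥ 3, the stabiliser of a tensor decomposition of f as a tensor square of a unitary form on F^3 — or else H lies in the residual class of the unitary case. -/
theorem result {F : Type*} [Field F] [Fintype F] (q : ℕ) (hF : Fintype.card F = q ^ 2) (H : Subgroup (Matrix.GeneralLinearGroup (Fin 9) F)) (hH : Cfsg.Geo.IsMaximalIn (Cfsg.GU 9 F q ⊓ Cfsg.Geo.specialLinear (Fin 9) F) H) :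
    (∃ W : Submodule F (Fin 9 → F), W ≠ ⊥ ∧ Cfsg.Geo.IsTotallySingularFor (Cfsg.hermForm 9 F q) W ∧ H = Cfsg.Geo.subspaceStabilizer W ⊓ (Cfsg.GU 9 F q ⊓ Cfsg.Geo.specialLinear (Fin 9) F)) ∨
    (∃ W : Submodule F (Fin 9 → F), W ≠ ⊥ ∧ Cfsg.Geo.IsNondegenerateOn (Cfsg.hermForm 9 F q) W ∧ 2 * Module.finrank F W < 9 ∧ H = Cfsg.Geo.subspaceStabilizer W ⊓ (Cfsg.GU 9 F q ⊓ Cfsg.Geo.specialLinear (Fin 9) F)) ∨
    (∃ D : Fin 9 → Submodule F (Fin 9 → F), Cfsg.Geo.IsNondegenerateMDecomposition (Cfsg.hermForm 9 F q) 1 D ∧ H = Cfsg.Geo.decompositionStabilizer D ⊓ (Cfsg.GU 9 F q ⊓ Cfsg.Geo.specialLinear (Fin 9) F)) ∨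
    (∃ D : Fin 3 → Submodule F (Fin 9 → F), Cfsg.Geo.IsNondegenerateMDecomposition (Cfsg.hermForm 9 F q) 3 D ∧ H = Cfsg.Geo.decompositionStabilizer D ⊓ (Cfsg.GU 9 F q ⊓ Cfsg.Geo.specialLinear (Fin 9) F)) ∨
    (∃ K : Subalgebra F (Matrix (Fin 9) (Fin 9) F), Cfsg.Geo.IsFieldSubalgebra 3 K ∧ Cfsg.Geo.IsAdjointClosedFor (Cfsg.hermForm 9 F q) K ∧ H = Cfsg.Geo.subalgebraNormalizer K ⊓ (Cfsg.GU 9 F q ⊓ Cfsg.Geo.specialLinear (Fin 9) F)) ∨
    (∃ (F₀ : Subfield F) (r : ℕ) (P : Matrix.GeneralLinearGroup (Fin 9) F), r.Prime ∧ Odd r ∧ Fintype.card F = Nat.card F₀ ^ r ∧ Cfsg.Geo.IsFormRationalStructure (Cfsg.hermForm 9 F q) F₀ 1 P ∧ H = Cfsg.Geo.subfieldSubgroup F₀ P ⊓ (Cfsg.GU 9 F q ⊓ Cfsg.Geo.specialLinear (Fin 9) F)) ∨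
    (Odd q ∧ ∃ (F₀ : Subfield F) (P : Matrix.GeneralLinearGroup (Fin 9) F), Fintype.card F = Nat.card F₀ ^ 2 ∧ Cfsg.Geo.IsFormRationalStructure (Cfsg.hermForm 9 F q) F₀ 1 P ∧ H = Cfsg.Geo.subfieldSubgroup F₀ P ⊓ (Cfsg.GU 9 F q ⊓ Cfsg.Geo.specialLinear (Fin 9) F)) ∨
    (∃ (p : ℕ) (R : Subgroup (Matrix.GeneralLinearGroup (Fin 9) F)), p.Prime ∧ q = p ∧ p % 3 = 2 ∧ Cfsg.Geo.IsSymplecticTypeGroup 3 R ∧ Cfsg.Geo.ActsAbsolutelyIrreducibly (Cfsg.Geo.matrixSet R) ∧ R ≤ Cfsg.Geo.similarityGroup (Cfsg.hermForm 9 F q) ∧ Nat.card R = 243 ∧ Nat.card (Subgroup.center R) = 3 ∧ H = Cfsg.Geo.subgroupNormalizer R ⊓ (Cfsg.GU 9 F q ⊓ Cfsg.Geo.specialLinear (Fin 9) F)) ∨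
    (3 ≤ q ∧ ∃ (e : Fin 9 ≃ (Fin 2 → Fin 3)) (P : Matrix.GeneralLinearGroup (Fin 9) F) (f₁ : (Fin 3 → F) → (Fin 3 → F) → F), Cfsg.Geo.IsUnitaryFormPow q f₁ ∧ Cfsg.Geo.IsTensorPowerFormStructure (fun x : F => x ^ q) (Cfsg.hermForm 9 F q) f₁ e P ∧ H = Cfsg.Geo.tensorWreathSubgroup 3 2 e P ⊓ (Cfsg.GU 9 F q ⊓ Cfsg.Geo.specialLinear (Fin 9) F)) ∨
    Cfsg.Geo.InUnitaryResidualClass H := by
  classical
  have hN : Fintype.card (Fin 9) = 9 := Fintype.card_fin _
  have hf := UnitPow.isUnitaryForm_hermForm hF 9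
  have hσ : ((UnitPow.conj hF : F ≃+* F) : F → F) = fun x : F => x ^ q := funext fun x => UnitPow.conj_apply hF x
  have hΩ : HasUTv (UnitPow.conj hF) (Cfsg.hermForm 9 F q) (Cfsg.GU 9 F q ⊓ Cfsg.Geo.specialLinear (Fin 9) F) :=
    fun v c hv hc => ⟨UnitPow.mem_GU.2 (Unit.formTv_isometry hf hv hc), formTv_mem_specialLinear _ _ _⟩
  have he : ∀ i j : Fin 9, Cfsg.hermForm 9 F q (Pi.single i 1) (Pi.single j 1) = if i = j then 1 else 0 := fun i j => by
    have hq0 : q ≠ 0 := by have := UnitPow.two_le hF; omega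
    by_cases hij : i = j
    · simp [Cfsg.hermForm, Pi.single_apply, hij, hq0]
    · simp [Cfsg.hermForm, Pi.single_apply, hij, Ne.symm hij, hq0]
  rcases unitary_power_cases (σ := UnitPow.conj hF) hF (fun x => UnitPow.conj_apply hF x) hf he
    (Ω := Cfsg.GU 9 F q ⊓ Cfsg.Geo.specialLinear (Fin 9) F) (H := H) hΩ
    (fun g hg => UnitPow.mem_GU.1 hg.1) hH (by omega) with
    h | ⟨W, h1, h2, h3, h4⟩ | ⟨t, m, D, ht, hm, htm, hq, hD, hEq⟩ | ⟨m, D, hm, hD, hTS, hEq⟩ |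
    ⟨s, K, hs, hodd, hdvd, hK, hKa, hEq⟩ |
    ⟨a, b, e, P, f₁, f₂, ha, hab', hab, hae, h1, h2, hT, hEq⟩ | h | h | h |
    ⟨r, m, p, k, R, hr, hrm, hrp, hk, hminf, hsym, habs, hRsim, hcard, hcen, hEq⟩ |
    ⟨a, e, P, ha, haa, hle, hT, hTP⟩ | ⟨N, a, t, e, P, ha, ht, hat, hNH, hinv, hns, hspan, hperf, hle, ht2⟩ | h
  · exact Or.inl (h)
  · exact Or.inr (Or.inl (⟨W, h1, h2, by omega, h4⟩))
  · rw [hN] at htm
    have hm4 : m ≤ 4 := by nlinarith
    interval_cases m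
    · obtain rfl : t = 9 := by omega
      exact Or.inr (Or.inr (Or.inl (⟨D, hD, hEq⟩)))
    · omega
    · obtain rfl : t = 3 := by omega
      exact Or.inr (Or.inr (Or.inr (Or.inl (⟨D, hD, hEq⟩))))
    · omega
  · omega
  · rw [hN] at hdvd
    obtain rfl := (Nat.prime_dvd_prime_iff_eq hs Nat.prime_three).1 (hs.dvd_of_dvd_pow (show s ∣ 3 ^ 2 from hdvd))
    exact Or.inr (Or.inr (Or.inr (Or.inr (Or.inl (⟨K, hK, hKa, hEq⟩)))))
  · exfalso
    rw [hN] at hab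
    have : a ≤ 2 := by nlinarith
    interval_cases a
    omega
  · exact Or.inr (Or.inr (Or.inr (Or.inr (Or.inr (Or.inl (h))))))
  · obtain ⟨F₀, P, ζ, -, -, -, -, halt, -⟩ := h
    obtain ⟨k, hk⟩ := even_of_alternating hf P halt
    omega
  · exact Or.inr (Or.inr (Or.inr (Or.inr (Or.inr (Or.inr (Or.inl (h)))))))
  · rw [hN] at hrm
    obtain ⟨rfl, rfl⟩ : r = 3 ∧ m = 2 := by
      obtain rfl := (Nat.prime_dvd_prime_iff_eq hr Nat.prime_three).1 (hr.dvd_of_dvd_pow (show r ∣ 3 ^ 2 from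
        (dvd_pow_self r (show m ≠ 0 by rintro rfl; simp at hrm)).trans (dvd_of_eq hrm)))
      exact ⟨rfl, Nat.pow_right_injective (by norm_num) (show 3 ^ m = 3 ^ 2 from hrm)⟩
    obtain ⟨hqp, hp3⟩ := minimal_field_three hrp hF (show Cfsg.Geo.IsMinimalFieldFor 3 p k F from hminf)
    exact Or.inr (Or.inr (Or.inr (Or.inr (Or.inr (Or.inr (Or.inr (Or.inl (⟨p, R, hminf.1, hqp, hp3, hsym, habs, hRsim, by rw [hcard]; rfl, by rw [hcen]; rfl, hEq⟩))))))))
  · rw [hN] at haa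
    obtain rfl : a = 3 := Nat.mul_self_inj.1 (haa.trans (show 9 = 3 * 3 from rfl))
    have hlew := hle.trans (tensorProductSubgroup_le_wreath e P)
    have hproper := utv_not_le_wreath_two hf (by omega) hΩ le_rfl (e.trans (finTwoArrowEquiv (Fin 3)).symm) P
    by_cases hq : 3 ≤ q
    · exact Or.inr (Or.inr (Or.inr (Or.inr (Or.inr (Or.inr (Or.inr (Or.inr (Or.inl (⟨hq, e.trans (finTwoArrowEquiv (Fin 3)).symm, P, stdHerm (UnitPow.conj hF) 3, isUnitaryFormPow_of_herm (fun x => UnitPow.conj_apply hF x) (herm_stdHerm hf.involutive 3), hσ ▸ hTP, eq_inf_of_le hH hlew hproper⟩)))))))))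
    · exfalso
      obtain rfl : q = 2 := by have := UnitPow.two_le hF; omega
      exact not_le_square_of_four hF (by norm_num) e P hT hH
        (fun g hg hdet => ⟨UnitPow.mem_GU.2 (hg g (Subgroup.mem_zpowers g)), hdet⟩) hproper hle
  · rw [hN] at hat
    obtain ⟨rfl, rfl⟩ : a = 3 ∧ t = 2 := by
      have ha9 : a ≤ 9 := hat ▸ Nat.le_self_pow (by omega) a
      have ht3 : t ≤ 3 := by
        by_contra h
        have := (Nat.pow_le_pow_left ha t).trans hat.le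
        have := Nat.pow_le_pow_right (show 1 ≤ 2 by omega) (show 4 ≤ t by omega)
        omega
      interval_cases a <;> interval_cases t <;> simp_all
    obtain ⟨e₂, P₂, hlew, hT, hTP⟩ := ht2 rfl
    by_cases hq : 3 ≤ q
    · have hproper := utv_not_le_wreath_two hf (by omega) hΩ le_rfl (e₂.trans (finTwoArrowEquiv (Fin 3)).symm) P₂
      exact Or.inr (Or.inr (Or.inr (Or.inr (Or.inr (Or.inr (Or.inr (Or.inr (Or.inl (⟨hq, e₂.trans (finTwoArrowEquiv (Fin 3)).symm, P₂, stdHerm (UnitPow.conj hF) 3, isUnitaryFormPow_of_herm (fun x => UnitPow.conj_apply hF x) (herm_stdHerm hf.involutive 3), hσ ▸ hTP, eq_inf_of_le hH hlew hproper⟩)))))))))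
    · exfalso
      obtain rfl : q = 2 := by have := UnitPow.two_le hF; omega
      refine hns (le_of_eq_of_le (eq_bot_of_perfect_square hF (fun x => UnitPow.conj_apply hF x) e₂ P₂ hT
        (fun g hg => UnitPow.mem_GU.1 (hH.1.le (hNH hg)).1) hperf (hNH.trans hlew)) bot_le)
  · exact Or.inr (Or.inr (Or.inr (Or.inr (Or.inr (Or.inr (Or.inr (Or.inr (Or.inr (h)))))))))

end Cfsg.Agent.S5832
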