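import Cfsg.Statements.S5834
import Cfsg.Agent.Lib.GeomClasses.OrthOdd
import Cfsg.Agent.Lib.GeomClasses.FrameMax
import Cfsg.Agent.Lib.GeomClasses.OrthDecompMax
import Cfsg.Agent.Lib.ExtFieldThree.Main
import Cfsg.Agent.Lib.Maximal99.OrthUnipotent
import Cfsg.Agent.Lib.Geo.AschOrthNine
import Cfsg.Agent.Lib.TensorThree63.Transport
-- import your own Cfsg.Agent.* helpers here

set_option autoImplicit false
open Cfsg

namespace Cfsg.Agent.S5834

/-- Maximal subgroups of Ω_9(q) of geometric type, q odd. Let F be a finite field of odd order q, Q the standard quadratic form x₀² + Σ x_i y_i on F^9 (coordinates Unit ⊕ (Fin 4 ⊕ Fin 4)), and Ω = Ω_9(q) the commutator subgroup of its isometry group, inside GL_9(F). Each of the following, intersected with Ω, is a maximal subgroup of Ω: (1) the stabiliser of any non-zero subspace on which Q vanishes identically (totally singular 1- to 4-spaces); (2) the stabiliser of any non-zero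 even-dimensional subspace W (dimension 2, 4, 6 or 8) on which the polar form of Q is non-degenerate (equivalently of its odd-dimensional orthogonal complement), except when q = 3 and W is a 2-space containing a non-zero singular vector (a plus-type plane); (3) for q = p prime, the stabiliser of any decomposition of F^9 into nine pairwise orthogonal, pairwise Q-isometric non-degenerate 1-spaces; (4) for q ≥ 5, the stabiliser of any decomposition of F^9 into three pairwise orthogonal, pairwise Q-isometric non-degenerate 3-spaces; (5) the normaliser of any degree-3 subfield K of the matrix algebra whose elements are self-adjoint for the polar form of Q (Q is then the trace of a quadratic form over K); (6) every subfield group for a subfield F₀ with |F| = |F₀|^r, r prime, whose F₀-structure carries Q; (7) for q ≥ 5, the stabiliser of any decomposition of the polar form of Q as the tensor square of a non-degenerate symmetric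 bilinear form on F^3 up to a scalar (tensor-wreath subgroup). -/
theorem result {F : Type*} [Field F] [Fintype F] (hodd : Odd (Fintype.card F)) :
    (∀ W : Submodule F (Unit ⊕ (Fin 4 ⊕ Fin 4) → F), W ≠ ⊥ → Cfsg.Geo.IsTotallySingularQuad (Cfsg.quadFormOdd 4 F) W → Cfsg.Geo.IsMaximalIn (Cfsg.Geo.omegaGL (Cfsg.quadFormOdd 4 F)) (Cfsg.Geo.subspaceStabilizer W ⊓ Cfsg.Geo.omegaGL (Cfsg.quadFormOdd 4 F))) ∧
    (∀ W : Submodule F (Unit ⊕ (Fin 4 ⊕ Fin 4) → F), W ≠ ⊥ → Even (Module.finrank F W) → Cfsg.Geo.IsNondegenerateOn (QuadraticMap.polar (Cfsg.quadFormOdd 4 F)) W → ¬ (Fintype.card F = 3 ∧ Module.finrank F W = 2 ∧ Cfsg.Geo.IsPlusTypeOn (Cfsg.quadFormOdd 4 F) W) → Cfsg.Geo.IsMaximalIn (Cfsg.Geo.omegaGL (Cfsg.quadFormOdd 4 F)) (Cfsg.Geo.subspaceStabilizer W ⊓ Cfsg.Geo.omegaGL (Cfsg.quadFormOdd 4 F))) ∧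
    ((Fintype.card F).Prime → ∀ D : Fin 9 → Submodule F (Unit ⊕ (Fin 4 ⊕ Fin 4) → F), Cfsg.Geo.IsOrthogonalMDecomposition (Cfsg.quadFormOdd 4 F) 1 D → Cfsg.Geo.IsMaximalIn (Cfsg.Geo.omegaGL (Cfsg.quadFormOdd 4 F)) (Cfsg.Geo.decompositionStabilizer D ⊓ Cfsg.Geo.omegaGL (Cfsg.quadFormOdd 4 F))) ∧
    (5 ≤ Fintype.card F → ∀ D : Fin 3 → Submodule F (Unit ⊕ (Fin 4 ⊕ Fin 4) → F), Cfsg.Geo.IsOrthogonalMDecomposition (Cfsg.quadFormOdd 4 F) 3 D → Cfsg.Geo.IsMaximalIn (Cfsg.Geo.omegaGL (Cfsg.quadFormOdd 4 F)) (Cfsg.Geo.decompositionStabilizer D ⊓ Cfsg.Geo.omegaGL (Cfsg.quadFormOdd 4 F))) ∧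
    (∀ K : Subalgebra F (Matrix (Unit ⊕ (Fin 4 ⊕ Fin 4)) (Unit ⊕ (Fin 4 ⊕ Fin 4)) F), Cfsg.Geo.IsFieldSubalgebra 3 K → Cfsg.Geo.IsSelfAdjointFor (QuadraticMap.polar (Cfsg.quadFormOdd 4 F)) K → Cfsg.Geo.IsMaximalIn (Cfsg.Geo.omegaGL (Cfsg.quadFormOdd 4 F)) (Cfsg.Geo.subalgebraNormalizer K ⊓ Cfsg.Geo.omegaGL (Cfsg.quadFormOdd 4 F))) ∧
    (∀ (F₀ : Subfield F) (r : ℕ) (P : Matrix.GeneralLinearGroup (Unit ⊕ (Fin 4 ⊕ Fin 4)) F), r.Prime → Fintype.card F = Nat.card F₀ ^ r → Cfsg.Geo.IsQuadFormRationalStructure (Cfsg.quadFormOdd 4 F) F₀ P → Cfsg.Geo.IsMaximalIn (Cfsg.Geo.omegaGL (Cfsg.quadFormOdd 4 F)) (Cfsg.Geo.subfieldSubgroup F₀ P ⊓ Cfsg.Geo.omegaGL (Cfsg.quadFormOdd 4 F))) ∧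
    (5 ≤ Fintype.card F → ∀ (e : (Unit ⊕ (Fin 4 ⊕ Fin 4)) ≃ (Fin 2 → Fin 3)) (P : Matrix.GeneralLinearGroup (Unit ⊕ (Fin 4 ⊕ Fin 4)) F) (f₁ : (Fin 3 → F) → (Fin 3 → F) → F), Cfsg.Geo.IsSymmetricForm f₁ → Cfsg.Geo.IsTensorPowerFormStructure id (QuadraticMap.polar (Cfsg.quadFormOdd 4 F)) f₁ e P → Cfsg.Geo.IsMaximalIn (Cfsg.Geo.omegaGL (Cfsg.quadFormOdd 4 F)) (Cfsg.Geo.tensorWreathSubgroup 3 2 e P ⊓ Cfsg.Geo.omegaGL (Cfsg.quadFormOdd 4 F))) := by
  have h2 := CfsgLib.Geo.Asch.two_ne_zero_of_odd hodd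
  have hQ := CfsgLib.OrthUnipotent.odd_nondeg (F := F) 4 h2
  refine ⟨fun W => CfsgLib.GeomClasses.OrthOdd.singular hodd 4 (by norm_num) W,
    fun W => CfsgLib.GeomClasses.OrthOdd.nondegenerate hodd 4 (by norm_num) W,
    fun hp D hD => CfsgLib.GeomClasses.Frame.maximal_omegaGL' hQ h2 (Or.inr (by simp)) hp hD,
    fun h5 D hD => CfsgLib.GeomClasses.OrthDecomp.maximal_omegaGL hQ h2 (by simp) hD le_rfl (by omega),
    fun K hK hsa => CfsgLib.ExtFieldThree.maximal_field_three (r := 3) (by simp) Nat.prime_three le_rfl hQ hodd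
      K hK hsa,
    fun F₀ r P hr hc hP => CfsgLib.GeomClasses.OrthOdd.subfield hodd 4 (by norm_num) F₀ r hr hc P hP,
    fun h5 e P f₁ hf hT => CfsgLib.TensorThree63.omega9_tensor_wreath_maximal hodd h5 e P f₁ hf hT⟩

end Cfsg.Agent.S5834
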