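import Cfsg.Statements.S5838
import Cfsg.Agent.Lib.Geo.AschSmall

set_option autoImplicit false
open Cfsg

namespace Cfsg.Agent.S5838

open CfsgLib.Geo.Asch

/-- Every maximal subgroup of SL_10(q) is of one of the listed geometric types or lies in the residual class. Let F be a finite field with q elements (p its characteristic) and H a maximal subgroup of SL_10(F) (inside GL_10(F)). Then H is the intersection with SL_10(F) of one of: the stabiliser of a proper non-zero subspace; for q ≥ 5, the stabiliser of a decomposition into 10 independent 1-spaces; for q ≥ 3, the stabiliser of a decomposition into 5 independent 2-spaces; the stabiliser of a decomposition into 2 independent 5-spaces; the normaliser of a degree-5 subfield of the matrix algebra; the normaliser of a degree-2 subfield of the matrix algebra; for q ≥ 3, the stabiliser of a tensor decomposition F^2 ⊗ F^5; a subfield group for a subfield F₀ with |F| = |F₀|^r, r prime; for q odd, the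 similarity group of a non-degenerate quadratic form; the similarity group of a non-degenerate symplectic form; the similarity group of a non-degenerate unitary form — or else H lies in the residual class of the linear case (modulo scalars H is almost simple, with absolutely irreducible perfect socle preimage realisable over no proper subfield and fixing no non-degenerate quadratic, symplectic or unitary form). -/
theorem result {F : Type*} [Field F] [Fintype F] (H : Subgroup (Matrix.GeneralLinearGroup (Fin 10) F)) (hH : Cfsg.Geo.IsMaximalIn (Cfsg.Geo.specialLinear (Fin 10) F) H) :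
    (∃ W : Submodule F (Fin 10 → F), W ≠ ⊥ ∧ W ≠ ⊤ ∧ H = Cfsg.Geo.subspaceStabilizer W ⊓ Cfsg.Geo.specialLinear (Fin 10) F) ∨
    (5 ≤ Fintype.card F ∧ ∃ D : Fin 10 → Submodule F (Fin 10 → F), Cfsg.Geo.IsMDecomposition 1 D ∧ H = Cfsg.Geo.decompositionStabilizer D ⊓ Cfsg.Geo.specialLinear (Fin 10) F) ∨
    (3 ≤ Fintype.card F ∧ ∃ D : Fin 5 → Submodule F (Fin 10 → F), Cfsg.Geo.IsMDecomposition 2 D ∧ H = Cfsg.Geo.decompositionStabilizer D ⊓ Cfsg.Geo.specialLinear (Fin 10) F) ∨
    (∃ D : Fin 2 → Submodule F (Fin 10 → F), Cfsg.Geo.IsMDecomposition 5 D ∧ H = Cfsg.Geo.decompositionStabilizer D ⊓ Cfsg.Geo.specialLinear (Fin 10) F) ∨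
    (∃ K : Subalgebra F (Matrix (Fin 10) (Fin 10) F), Cfsg.Geo.IsFieldSubalgebra 5 K ∧ H = Cfsg.Geo.subalgebraNormalizer K ⊓ Cfsg.Geo.specialLinear (Fin 10) F) ∨
    (∃ K : Subalgebra F (Matrix (Fin 10) (Fin 10) F), Cfsg.Geo.IsFieldSubalgebra 2 K ∧ H = Cfsg.Geo.subalgebraNormalizer K ⊓ Cfsg.Geo.specialLinear (Fin 10) F) ∨
    (3 ≤ Fintype.card F ∧ ∃ (e : Fin 10 ≃ Fin 2 × Fin 5) (P : Matrix.GeneralLinearGroup (Fin 10) F), H = Cfsg.Geo.tensorProductSubgroup 2 5 e P ⊓ Cfsg.Geo.specialLinear (Fin 10) F) ∨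
    (∃ (F₀ : Subfield F) (r : ℕ) (P : Matrix.GeneralLinearGroup (Fin 10) F), r.Prime ∧ Fintype.card F = Nat.card F₀ ^ r ∧ H = Cfsg.Geo.subfieldSubgroup F₀ P ⊓ Cfsg.Geo.specialLinear (Fin 10) F) ∨
    (Odd (Fintype.card F) ∧ ∃ Q : (Fin 10 → F) → F, Cfsg.Geo.IsNondegenerateQuadraticForm Q ∧ H = Cfsg.Geo.quadSimilarityGroup Q ⊓ Cfsg.Geo.specialLinear (Fin 10) F) ∨
    (∃ f : (Fin 10 → F) → (Fin 10 → F) → F, Cfsg.Geo.IsSymplecticForm f ∧ H = Cfsg.Geo.similarityGroup f ⊓ Cfsg.Geo.specialLinear (Fin 10) F) ∨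
    (∃ (σ : F ≃+* F) (f : (Fin 10 → F) → (Fin 10 → F) → F), Cfsg.Geo.IsUnitaryForm σ f ∧ H = Cfsg.Geo.similarityGroup f ⊓ Cfsg.Geo.specialLinear (Fin 10) F) ∨
    Cfsg.Geo.InLinearResidualClass H := by
  haveI : Nonempty (Fin 10) := ⟨⟨0, by norm_num⟩⟩
  have hn3 : 3 ≤ Fintype.card (Fin 10) := by simp
  rcases linear_cases (show 3 ≤ 10 by norm_num) hH with h | ⟨t, m, D, hD, htm, hEq⟩ | ⟨r, K, hr, hrn, hK, hEq⟩ |
    ⟨a, b, e, P, ha, hb, hab, hEq⟩ | h | h | h | h | h | ⟨N, -, -, -, -, -, hN⟩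
  · exact Or.inl h
  · obtain htm' : (t = 10 ∧ m = 1) ∨ (t = 5 ∧ m = 2) ∨ (t = 2 ∧ m = 5) := by
      have hle : t ≤ 10 := Nat.le_of_dvd (by norm_num) ⟨m, htm.symm⟩
      have hdt : t ∈ Nat.divisors 10 := Nat.mem_divisors.2 ⟨⟨m, htm.symm⟩, by norm_num⟩
      have h2 := hD.two_le
      have hm := hD.pos
      interval_cases t <;> omega
    rcases htm' with ⟨rfl, rfl⟩ | ⟨rfl, rfl⟩ | ⟨rfl, rfl⟩
    · by_cases hq : 5 ≤ Fintype.card F
      · exact Or.inr (Or.inl ⟨hq, D, hD, hEq⟩)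
      have h1 := Fintype.one_lt_card (α := F)
      obtain hq2 | hq2 | hq2 : Fintype.card F = 2 ∨ Fintype.card F = 3 ∨ Fintype.card F = 4 := by omega
      · obtain ⟨W, hW1, hW2, hle⟩ := decomposition_le_subspace_two hq2 (by simp) hD
        exact Or.inl ⟨W, hW1, hW2, eq_inf_of_le hH (le_trans (hEq.le.trans inf_le_left) hle) (not_specialLinear_le_subspace hW1 hW2)⟩
      · obtain ⟨Q, hQ, hle⟩ := decomposition_le_quad_three hq2 hD
        exact Or.inr (Or.inr (Or.inr (Or.inr (Or.inr (Or.inr (Or.inr (Or.inr (Or.inl ⟨by rw [hq2]; decide, Q, hQ, eq_inf_of_le hH (le_trans (hEq.le.trans inf_le_left) hle) (not_specialLinear_le_quad hn3 hQ)⟩))))))))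
      · obtain ⟨σ, f, hf, hle⟩ := decomposition_le_unitary_four hq2 hD
        exact Or.inr (Or.inr (Or.inr (Or.inr (Or.inr (Or.inr (Or.inr (Or.inr (Or.inr (Or.inr (Or.inl ⟨σ, f, hf, eq_inf_of_le hH (le_trans (hEq.le.trans inf_le_left) hle) (not_specialLinear_le_similarity hn3 (unitary_isSesq hf) hf.nondegenerate)⟩))))))))))
    · by_cases hq : 3 ≤ Fintype.card F
      · exact Or.inr (Or.inr (Or.inl ⟨hq, D, hD, hEq⟩))
      have h1 := Fintype.one_lt_card (α := F)
      obtain ⟨f, hf, hle⟩ := decomposition_le_symplectic_two (show Fintype.card F = 2 by omega) hD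
      exact Or.inr (Or.inr (Or.inr (Or.inr (Or.inr (Or.inr (Or.inr (Or.inr (Or.inr (Or.inl ⟨f, hf, eq_inf_of_le hH (le_trans (hEq.le.trans inf_le_left) hle) (not_specialLinear_le_similarity hn3 (symplectic_isSesq hf) hf.nondegenerate)⟩)))))))))
    · exact Or.inr (Or.inr (Or.inr (Or.inl ⟨D, hD, hEq⟩)))
  · have hle : r ≤ 10 := Nat.le_of_dvd (by norm_num) hrn
    obtain hr' : r = 5 ∨ r = 2 := by
      have h2 := hr.two_le
      interval_cases r <;> (revert hr hrn; norm_num)
    rcases hr' with rfl | rfl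
    · exact Or.inr (Or.inr (Or.inr (Or.inr (Or.inl ⟨K, hK, hEq⟩))))
    · exact Or.inr (Or.inr (Or.inr (Or.inr (Or.inr (Or.inl ⟨K, hK, hEq⟩)))))
  · obtain hab' : (a = 2 ∧ b = 5) ∨ (a = 5 ∧ b = 2) := by
      have hle : a ≤ 10 := Nat.le_of_dvd (by norm_num) ⟨b, hab.symm⟩
      interval_cases a <;> omega
    rcases hab' with ⟨rfl, rfl⟩ | ⟨rfl, rfl⟩
    · have hEq2 := hEq
      by_cases hq : 3 ≤ Fintype.card F
      · exact Or.inr (Or.inr (Or.inr (Or.inr (Or.inr (Or.inr (Or.inl ⟨hq, e, P, hEq2⟩))))))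
      have h1 := Fintype.one_lt_card (α := F)
      obtain ⟨K, hK, hle⟩ := tensor_le_field_two (show Fintype.card F = 2 by omega) (by norm_num) e P
      exact Or.inr (Or.inr (Or.inr (Or.inr (Or.inr (Or.inl ⟨K, hK, eq_inf_of_le hH (le_trans (hEq2.le.trans inf_le_left) hle) (not_specialLinear_le_field (by norm_num) (by norm_num) hK)⟩)))))
    · have hEq' : H ≤ Cfsg.Geo.tensorProductSubgroup 2 5 (e.trans (Equiv.prodComm _ _)) P :=
        (hEq.le.trans inf_le_left).trans (tensorProductSubgroup_le_swap 5 2 e P)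
      have hEq2 := eq_inf_of_le hH hEq' (not_specialLinear_le_tensor (by norm_num) (by norm_num) _ P)
      by_cases hq : 3 ≤ Fintype.card F
      · exact Or.inr (Or.inr (Or.inr (Or.inr (Or.inr (Or.inr (Or.inl ⟨hq, (e.trans (Equiv.prodComm _ _)), P, hEq2⟩))))))
      have h1 := Fintype.one_lt_card (α := F)
      obtain ⟨K, hK, hle⟩ := tensor_le_field_two (show Fintype.card F = 2 by omega) (by norm_num) (e.trans (Equiv.prodComm _ _)) P
      exact Or.inr (Or.inr (Or.inr (Or.inr (Or.inr (Or.inl ⟨K, hK, eq_inf_of_le hH (le_trans (hEq2.le.trans inf_le_left) hle) (not_specialLinear_le_field (by norm_num) (by norm_num) hK)⟩)))))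
  · exact Or.inr (Or.inr (Or.inr (Or.inr (Or.inr (Or.inr (Or.inr (Or.inl h)))))))
  · exact Or.inr (Or.inr (Or.inr (Or.inr (Or.inr (Or.inr (Or.inr (Or.inr (Or.inl h))))))))
  · exact Or.inr (Or.inr (Or.inr (Or.inr (Or.inr (Or.inr (Or.inr (Or.inr (Or.inr (Or.inl h)))))))))
  · exact Or.inr (Or.inr (Or.inr (Or.inr (Or.inr (Or.inr (Or.inr (Or.inr (Or.inr (Or.inr (Or.inl h))))))))))
  · exact Or.inr (Or.inr (Or.inr (Or.inr (Or.inr (Or.inr (Or.inr (Or.inr (Or.inr (Or.inr (Or.inr (h)))))))))))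
  · exfalso
    rcases hN with ⟨-, hpp⟩ | ⟨-, a, t, ha, ht, hat⟩
    · obtain ⟨p, k, hp, hk, hpk⟩ := (isPrimePow_nat_iff _).1 hpp
      have hp1 : p ∣ 10 := ⟨p ^ (k - 1), by rw [← pow_succ', show k - 1 + 1 = k by omega, hpk]⟩
      have hple : p ≤ 10 := Nat.le_of_dvd (by norm_num) hp1
      have hk' : k ≤ 4 := by
        by_contra hk5
        have : 2 ^ 5 ≤ p ^ k := le_trans (Nat.pow_le_pow_left hp.two_le 5) (Nat.pow_le_pow_right hp.pos (by omega))
        omega
      have hp2 := hp.two_le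
      interval_cases p <;> interval_cases k <;> (revert hp hpk; norm_num)
    · have hta : a ^ 2 ≤ 10 := hat ▸ Nat.pow_le_pow_right (by omega) ht
      have ha' : a ≤ 3 := by nlinarith
      have ht' : t ≤ 4 := by
        by_contra ht5
        have : 2 ^ 5 ≤ a ^ t := le_trans (Nat.pow_le_pow_left ha 5) (Nat.pow_le_pow_right (by omega) (by omega))
        omega
      interval_cases a <;> interval_cases t <;> (revert hat; norm_num)

end Cfsg.Agent.S5838
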