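import Cfsg.Statements.S5841
import Cfsg.Agent.Lib.Geo.AschUnitCases
import Cfsg.Agent.Lib.GeomClasses.UnitPow

set_option autoImplicit false
open Cfsg

namespace Cfsg.Agent.S5841

open CfsgLib.Geo.Asch CfsgLib.GeomClasses

theorem not_primePow (p k : ℕ) (hp : p.Prime) (hk : 0 < k) (h : p ^ k = 10) : False := by
  have hle : p ≤ 10 := h ▸ Nat.le_self_pow (by omega) p
  have hk4 : k ≤ 4 := by
    by_contra hk'
    have := Nat.pow_le_pow_right hp.pos (show 5 ≤ k by omega)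
    have := Nat.pow_le_pow_left hp.two_le 5
    omega
  interval_cases p <;> interval_cases k <;> first | omega | (norm_num at hp)

theorem not_power (a t : ℕ) (ha : 2 ≤ a) (ht : 2 ≤ t) : 10 ≠ a ^ t := by
  intro h
  have hle : a ≤ 10 := h ▸ Nat.le_self_pow (by omega) a
  have ht4 : t ≤ 4 := by
    by_contra ht'
    have := Nat.pow_le_pow_right (show 0 < a by omega) (show 5 ≤ t by omega)
    have := Nat.pow_le_pow_left ha 5
    omega
  interval_cases a <;> interval_cases t <;> omega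

/-- Every maximal subgroup of SU_10(q) is of one of the listed geometric types or lies in the residual class. Let F be the field with q² elements (characteristic p), f the standard unitary form Σ u_i v_i^q on F^10, and H a maximal subgroup of SU_10(q) (inside GL_10(F)). Then H is the intersection with SU_10(q) of one of: the stabiliser of a non-zero totally isotropic subspace; the stabiliser of a non-zero non-degenerate subspace W with 2 dim W < 10; the stabiliser of a decomposition into 10 mutually orthogonal non-degenerate 1-spaces; for q ≥ 3, the stabiliser of a decomposition into 5 mutually orthogonal non-degenerate 2-spaces; the stabiliser of a decomposition into 2 mutually orthogonal non-degenerate 5-spaces; of a decomposition into two totally isotropic 5-spaces; the normaliser of an adjoint-closed degree-5 subfield of the matrix algebra; for q ≥ 3, the stabiliser of a tensor decomposition of f into unitary forms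 on F^2 and F^5; a subfield group of odd prime index whose F₀-structure carries f; a subfield group of index 2 and symplectic type; for q odd, a subfield group of index 2 whose F₀-structure carries f — or else H lies in the residual class of the unitary case (modulo scalars H is almost simple, with absolutely irreducible perfect socle preimage realisable over no proper subfield and fixing no non-degenerate quadratic or symplectic form). -/
theorem result {F : Type*} [Field F] [Fintype F] (q : ℕ) (hF : Fintype.card F = q ^ 2) (H : Subgroup (Matrix.GeneralLinearGroup (Fin 10) F)) (hH : Cfsg.Geo.IsMaximalIn (Cfsg.GU 10 F q ⊓ Cfsg.Geo.specialLinear (Fin 10) F) H) :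
    (∃ W : Submodule F (Fin 10 → F), W ≠ ⊥ ∧ Cfsg.Geo.IsTotallySingularFor (Cfsg.hermForm 10 F q) W ∧ H = Cfsg.Geo.subspaceStabilizer W ⊓ (Cfsg.GU 10 F q ⊓ Cfsg.Geo.specialLinear (Fin 10) F)) ∨
    (∃ W : Submodule F (Fin 10 → F), W ≠ ⊥ ∧ Cfsg.Geo.IsNondegenerateOn (Cfsg.hermForm 10 F q) W ∧ 2 * Module.finrank F W < 10 ∧ H = Cfsg.Geo.subspaceStabilizer W ⊓ (Cfsg.GU 10 F q ⊓ Cfsg.Geo.specialLinear (Fin 10) F)) ∨
    (∃ D : Fin 10 → Submodule F (Fin 10 → F), Cfsg.Geo.IsNondegenerateMDecomposition (Cfsg.hermForm 10 F q) 1 D ∧ H = Cfsg.Geo.decompositionStabilizer D ⊓ (Cfsg.GU 10 F q ⊓ Cfsg.Geo.specialLinear (Fin 10) F)) ∨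
    (3 ≤ q ∧ ∃ D : Fin 5 → Submodule F (Fin 10 → F), Cfsg.Geo.IsNondegenerateMDecomposition (Cfsg.hermForm 10 F q) 2 D ∧ H = Cfsg.Geo.decompositionStabilizer D ⊓ (Cfsg.GU 10 F q ⊓ Cfsg.Geo.specialLinear (Fin 10) F)) ∨
    (∃ D : Fin 2 → Submodule F (Fin 10 → F), Cfsg.Geo.IsNondegenerateMDecomposition (Cfsg.hermForm 10 F q) 5 D ∧ H = Cfsg.Geo.decompositionStabilizer D ⊓ (Cfsg.GU 10 F q ⊓ Cfsg.Geo.specialLinear (Fin 10) F)) ∨
    (∃ D : Fin 2 → Submodule F (Fin 10 → F), Cfsg.Geo.IsMDecomposition 5 D ∧ (∀ i, Cfsg.Geo.IsTotallySingularFor (Cfsg.hermForm 10 F q) (D i)) ∧ H = Cfsg.Geo.decompositionStabilizer D ⊓ (Cfsg.GU 10 F q ⊓ Cfsg.Geo.specialLinear (Fin 10) F)) ∨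
    (∃ K : Subalgebra F (Matrix (Fin 10) (Fin 10) F), Cfsg.Geo.IsFieldSubalgebra 5 K ∧ Cfsg.Geo.IsAdjointClosedFor (Cfsg.hermForm 10 F q) K ∧ H = Cfsg.Geo.subalgebraNormalizer K ⊓ (Cfsg.GU 10 F q ⊓ Cfsg.Geo.specialLinear (Fin 10) F)) ∨
    (3 ≤ q ∧ ∃ (e : Fin 10 ≃ Fin 2 × Fin 5) (P : Matrix.GeneralLinearGroup (Fin 10) F) (f₁ : (Fin 2 → F) → (Fin 2 → F) → F) (f₂ : (Fin 5 → F) → (Fin 5 → F) → F), Cfsg.Geo.IsUnitaryFormPow q f₁ ∧ Cfsg.Geo.IsUnitaryFormPow q f₂ ∧ Cfsg.Geo.IsTensorFormStructure (fun x : F => x ^ q) (Cfsg.hermForm 10 F q) f₁ f₂ e P ∧ H = Cfsg.Geo.tensorProductSubgroup 2 5 e P ⊓ (Cfsg.GU 10 F q ⊓ Cfsg.Geo.specialLinear (Fin 10) F)) ∨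
    (∃ (F₀ : Subfield F) (r : ℕ) (P : Matrix.GeneralLinearGroup (Fin 10) F), r.Prime ∧ Odd r ∧ Fintype.card F = Nat.card F₀ ^ r ∧ Cfsg.Geo.IsFormRationalStructure (Cfsg.hermForm 10 F q) F₀ 1 P ∧ H = Cfsg.Geo.subfieldSubgroup F₀ P ⊓ (Cfsg.GU 10 F q ⊓ Cfsg.Geo.specialLinear (Fin 10) F)) ∨
    (∃ (F₀ : Subfield F) (P : Matrix.GeneralLinearGroup (Fin 10) F) (ζ : F), Fintype.card F = Nat.card F₀ ^ 2 ∧ ζ ≠ 0 ∧ ζ + ζ ^ q = 0 ∧ Cfsg.Geo.IsFormRationalStructure (Cfsg.hermForm 10 F q) F₀ ζ P ∧ (∀ u : Fin 10 → F, (∀ i, u i ∈ F₀) → (Cfsg.hermForm 10 F q) (Matrix.mulVec (P : Matrix (Fin 10) (Fin 10) F) u) (Matrix.mulVec (P : Matrix (Fin 10) (Fin 10) F) u) = 0) ∧ H = Cfsg.Geo.subfieldSubgroup F₀ P ⊓ (Cfsg.GU 10 F q ⊓ Cfsg.Geo.specialLinear (Fin 10) F)) ∨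
    (Odd q ∧ ∃ (F₀ : Subfield F) (P : Matrix.GeneralLinearGroup (Fin 10) F), Fintype.card F = Nat.card F₀ ^ 2 ∧ Cfsg.Geo.IsFormRationalStructure (Cfsg.hermForm 10 F q) F₀ 1 P ∧ H = Cfsg.Geo.subfieldSubgroup F₀ P ⊓ (Cfsg.GU 10 F q ⊓ Cfsg.Geo.specialLinear (Fin 10) F)) ∨
    Cfsg.Geo.InUnitaryResidualClass H := by
  classical
  have hN : Fintype.card (Fin 10) = 10 := Fintype.card_fin _
  have hf := UnitPow.isUnitaryForm_hermForm hF 10
  rcases unitary_cases (σ := UnitPow.conj hF) hF (fun x => UnitPow.conj_apply hF x) hf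
    (fun i j => by
      have hq0 : q ≠ 0 := by have := UnitPow.two_le hF; omega
      by_cases hij : i = j
      · simp [Cfsg.hermForm, Pi.single_apply, hij, hq0]
      · simp [Cfsg.hermForm, Pi.single_apply, hij, Ne.symm hij, hq0])
    (Ω := Cfsg.GU 10 F q ⊓ Cfsg.Geo.specialLinear (Fin 10) F) (H := H)
    (fun v c hv hc => ⟨UnitPow.mem_GU.2 (Unit.formTv_isometry hf hv hc), formTv_mem_specialLinear _ _ _⟩)
    (fun g hg => UnitPow.mem_GU.1 hg.1) hH (by omega)
    (by rw [hN]; intro h; rw [isPrimePow_nat_iff] at h; obtain ⟨p, k, hp, hk, hpk⟩ := h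
        exact not_primePow p k hp hk hpk)
    (by rw [hN]; exact not_power) with
    h | ⟨W, h1, h2, h3, h4⟩ | ⟨t, m, D, ht, hm, htm, hq, hD, hEq⟩ | ⟨m, D, hm, hD, hTS, hEq⟩ |
    ⟨s, K, hs, hodd, hdvd, hK, hKa, hEq⟩ |
    ⟨a, b, e, P, f₁, f₂, ha, hab', hab, hae, h1, h2, hT, hEq⟩ | h | h | h | h
  · exact Or.inl (h)
  · exact Or.inr (Or.inl (⟨W, h1, h2, by omega, h4⟩))
  · rw [hN] at htm
    have hm5 : m ≤ 5 := by nlinarith
    interval_cases m
    · obtain rfl : t = 10 := by omega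
      exact Or.inr (Or.inr (Or.inl (⟨D, hD, hEq⟩)))
    · obtain rfl : t = 5 := by omega
      exact Or.inr (Or.inr (Or.inr (Or.inl (⟨hq rfl, D, hD, hEq⟩))))
    · omega
    · omega
    · obtain rfl : t = 2 := by omega
      exact Or.inr (Or.inr (Or.inr (Or.inr (Or.inl (⟨D, hD, hEq⟩)))))
  · obtain rfl : m = 5 := by omega
    exact Or.inr (Or.inr (Or.inr (Or.inr (Or.inr (Or.inl (⟨D, hD, hTS, hEq⟩))))))
  · obtain rfl : s = 5 := by
      rw [hN] at hdvd
      have hs6 : s ≤ 10 := Nat.le_of_dvd (by omega) hdvd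
      have := hs.two_le
      obtain ⟨k, rfl⟩ := hodd
      have hk : k ≤ 5 := by omega
      interval_cases k <;> first | omega | (norm_num at hs)
    exact Or.inr (Or.inr (Or.inr (Or.inr (Or.inr (Or.inr (Or.inl (⟨K, hK, hKa, hEq⟩)))))))
  · rw [hN] at hab
    have ha' : a ≤ 2 := by nlinarith
    interval_cases a
    · obtain rfl : b = 5 := by omega
      exact Or.inr (Or.inr (Or.inr (Or.inr (Or.inr (Or.inr (Or.inr (Or.inl (⟨hae rfl, e, P, f₁, f₂, h1, h2, hT, hEq⟩))))))))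
  · exact Or.inr (Or.inr (Or.inr (Or.inr (Or.inr (Or.inr (Or.inr (Or.inr (Or.inl (h)))))))))
  · exact Or.inr (Or.inr (Or.inr (Or.inr (Or.inr (Or.inr (Or.inr (Or.inr (Or.inr (Or.inl (h))))))))))
  · exact Or.inr (Or.inr (Or.inr (Or.inr (Or.inr (Or.inr (Or.inr (Or.inr (Or.inr (Or.inr (Or.inl (h)))))))))))
  · exact Or.inr (Or.inr (Or.inr (Or.inr (Or.inr (Or.inr (Or.inr (Or.inr (Or.inr (Or.inr (Or.inr (h)))))))))))

end Cfsg.Agent.S5841
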