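import Cfsg.Statements.S5843
import Cfsg.Agent.Lib.SympMaxAnyRank.Isotropic
import Cfsg.Agent.Lib.SympMaxAnyRank.Nondegenerate
import Cfsg.Agent.Lib.SympMaxAnyRank.Decomposition
import Cfsg.Agent.Lib.SympMaxAnyRank.Subfield
import Cfsg.Agent.Lib.SympMaxAnyRank.Orthogonal
import Cfsg.Agent.Lib.SympMaxAnyRank.IsotropicPair
import Cfsg.Agent.Lib.SympUnitLow.Max
import Cfsg.Agent.Lib.GeomClasses.SympExtField
import Cfsg.Agent.Lib.TensorSympMax.Transfer

set_option autoImplicit false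
open Cfsg

namespace Cfsg.Agent.S5843

/-- Maximal subgroups of Sp_10(q) of geometric type (any q). Let F be a finite field with q elements (characteristic p), f the standard alternating form on F^10 (coordinates Fin 5 ⊕ Fin 5) and Sp_10(F) its isometry group inside GL_10(F). Each of the following, intersected with Sp_10(F), is a maximal subgroup of Sp_10(F): (1) the stabiliser of any non-zero totally isotropic subspace (dimension 1 to 5); (2) the stabiliser of any non-zero non-degenerate subspace of dimension less than 5 (even dimension, 2 to 4); (3) for q ≥ 3, the stabiliser of any decomposition of F^10 into 5 mutually orthogonal non-degenerate 2-spaces; (4) for q odd, the stabiliser of any decomposition into two totally isotropic 5-spaces; (5) the normaliser of any degree-5 subfield K of the matrix algebra whose elements are self-adjoint for f with f(k v, v) = 0 for all k in K (f is the trace of an alternating form over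 K); (6) for q odd, the normaliser of any degree-2 subfield of the matrix algebra that is closed under adjoints but not self-adjoint (f is the trace of a multiple of a unitary form over K); (7) for q odd, the stabiliser of any tensor decomposition of f as (alternating form on F^2) ⊗ (non-degenerate symmetric bilinear form on F^5) up to a scalar; (8) every subfield group for a subfield F₀ with |F| = |F₀|^r, r prime, whose F₀-structure carries a non-zero scalar multiple of f; (9) for q even, the similarity group of any non-degenerate quadratic form whose polar form is f (either Witt type); its intersection with the symplectic group is the orthogonal group of that form. -/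
theorem result {F : Type*} [Field F] [Fintype F] :
    (∀ W : Submodule F (Fin 5 ⊕ Fin 5 → F), W ≠ ⊥ → Cfsg.Geo.IsTotallySingularFor (Cfsg.sympForm 5 F) W → Cfsg.Geo.IsMaximalIn (Cfsg.spGL 5 F) (Cfsg.Geo.subspaceStabilizer W ⊓ Cfsg.spGL 5 F)) ∧
    (∀ W : Submodule F (Fin 5 ⊕ Fin 5 → F), W ≠ ⊥ → Cfsg.Geo.IsNondegenerateOn (Cfsg.sympForm 5 F) W → Module.finrank F W < 5 → Cfsg.Geo.IsMaximalIn (Cfsg.spGL 5 F) (Cfsg.Geo.subspaceStabilizer W ⊓ Cfsg.spGL 5 F)) ∧
    (3 ≤ Fintype.card F → ∀ D : Fin 5 → Submodule F (Fin 5 ⊕ Fin 5 → F), Cfsg.Geo.IsNondegenerateMDecomposition (Cfsg.sympForm 5 F) 2 D → Cfsg.Geo.IsMaximalIn (Cfsg.spGL 5 F) (Cfsg.Geo.decompositionStabilizer D ⊓ Cfsg.spGL 5 F)) ∧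
    (Odd (Fintype.card F) → ∀ D : Fin 2 → Submodule F (Fin 5 ⊕ Fin 5 → F), Cfsg.Geo.IsMDecomposition 5 D → (∀ i, Cfsg.Geo.IsTotallySingularFor (Cfsg.sympForm 5 F) (D i)) → Cfsg.Geo.IsMaximalIn (Cfsg.spGL 5 F) (Cfsg.Geo.decompositionStabilizer D ⊓ Cfsg.spGL 5 F)) ∧
    (∀ K : Subalgebra F (Matrix (Fin 5 ⊕ Fin 5) (Fin 5 ⊕ Fin 5) F), Cfsg.Geo.IsFieldSubalgebra 5 K → Cfsg.Geo.IsSelfAdjointFor (Cfsg.sympForm 5 F) K → (∀ k ∈ K, ∀ v : (Fin 5 ⊕ Fin 5 → F), (Cfsg.sympForm 5 F) (Matrix.mulVec k v) v = 0) → Cfsg.Geo.IsMaximalIn (Cfsg.spGL 5 F) (Cfsg.Geo.subalgebraNormalizer K ⊓ Cfsg.spGL 5 F)) ∧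
    (Odd (Fintype.card F) → ∀ K : Subalgebra F (Matrix (Fin 5 ⊕ Fin 5) (Fin 5 ⊕ Fin 5) F), Cfsg.Geo.IsFieldSubalgebra 2 K → Cfsg.Geo.IsAdjointClosedFor (Cfsg.sympForm 5 F) K → ¬ Cfsg.Geo.IsSelfAdjointFor (Cfsg.sympForm 5 F) K → Cfsg.Geo.IsMaximalIn (Cfsg.spGL 5 F) (Cfsg.Geo.subalgebraNormalizer K ⊓ Cfsg.spGL 5 F)) ∧
    (Odd (Fintype.card F) → ∀ (e : (Fin 5 ⊕ Fin 5) ≃ Fin 2 × Fin 5) (P : Matrix.GeneralLinearGroup (Fin 5 ⊕ Fin 5) F) (f₁ : (Fin 2 → F) → (Fin 2 → F) → F) (f₂ : (Fin 5 → F) → (Fin 5 → F) → F), Cfsg.Geo.IsSymplecticForm f₁ → Cfsg.Geo.IsSymmetricForm f₂ → Cfsg.Geo.IsTensorFormStructure id (Cfsg.sympForm 5 F) f₁ f₂ e P → Cfsg.Geo.IsMaximalIn (Cfsg.spGL 5 F) (Cfsg.Geo.tensorProductSubgroup 2 5 e P ⊓ Cfsg.spGL 5 F)) ∧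
    (∀ (F₀ : Subfield F) (r : ℕ) (P : Matrix.GeneralLinearGroup (Fin 5 ⊕ Fin 5) F) (ζ : F), r.Prime → Fintype.card F = Nat.card F₀ ^ r → ζ ≠ 0 → Cfsg.Geo.IsFormRationalStructure (Cfsg.sympForm 5 F) F₀ ζ P → Cfsg.Geo.IsMaximalIn (Cfsg.spGL 5 F) (Cfsg.Geo.subfieldSubgroup F₀ P ⊓ Cfsg.spGL 5 F)) ∧
    (¬ Odd (Fintype.card F) → ∀ Q : (Fin 5 ⊕ Fin 5 → F) → F, Cfsg.Geo.IsNondegenerateQuadraticForm Q → (∀ u v : (Fin 5 ⊕ Fin 5 → F), QuadraticMap.polar Q u v = (Cfsg.sympForm 5 F) u v) → Cfsg.Geo.IsMaximalIn (Cfsg.spGL 5 F) (Cfsg.Geo.quadSimilarityGroup Q ⊓ Cfsg.spGL 5 F)) := by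
  refine ⟨fun W hW0 hW => CfsgLib.SympMaxAnyRank.Isotropic.maximal_isotropic 5 W hW0 hW,
    fun W hW0 hW hd => CfsgLib.SympMaxAnyRank.Nondegenerate.maximal_nondegenerate 5 W hW0 hW hd,
    fun hq D hD => CfsgLib.SympMaxAnyRank.Decomposition.maximal_decomposition 5 2 D hD (fun h => by omega),
    fun hodd D hD hts => CfsgLib.SympMaxAnyRank.IsotropicPair.maximal_isotropic_pair 5 (by omega) hodd D hD hts,
    fun K hK hsa halt => CfsgLib.GeomClasses.SympExt.maximal_field_of (m := 5) (by omega) 5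
      (fun h => absurd h (by omega)) (by norm_num) K hK hsa halt,
    fun hodd K hK hac hnsa => CfsgLib.SympUnitLow.maximal_field (m := 5) (by omega) hodd K hK hac hnsa,
    fun hodd e P f₁ f₂ h1 h2 hT =>
      CfsgLib.TensorSympMax.Transfer.isMaximalIn hodd (Or.inl (le_refl 5)) e P h1 h2 hT,
    fun F₀ r P ζ hr hcard hζ hP => CfsgLib.SympMaxAnyRank.Subfield.maximal_subfield 5 (by omega) F₀ r hr hcard P ζ hζ hP,
    fun heven Q hQ hpol => CfsgLib.SympMaxAnyRank.Orthogonal.maximal_orthogonal 5 (by omega) heven Q hQ hpol⟩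

end Cfsg.Agent.S5843
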