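import Cfsg.Statements.S5847
import Cfsg.Agent.Lib.Geo.AschEvenFinal

set_option autoImplicit false
open Cfsg CfsgLib.Geo CfsgLib.Geo.AschEven

namespace Cfsg.Agent.S5847

/-- Every maximal subgroup of Ω_10^+(q) is of one of the listed geometric types or lies in the residual class. Let F be a finite field with q elements (characteristic p), Q a non-degenerate quadratic form on F^10 of plus type (Witt index 5: some totally singular 5-space), Ω the commutator subgroup of its isometry group, and H a maximal subgroup of Ω (inside GL_10(F)). Then H is the intersection with Ω of one of: the stabiliser of a non-zero totally singular subspace of dimension ≠ 4; for q odd, the stabiliser of a non-degenerate subspace of odd dimension ≠ 5; the stabiliser of a non-degenerate 2-space of minus type; for q ≥ 4, the stabiliser of a non-degenerate 2-space of plus type; the stabiliser of a non-degenerate 4-space; for q even, the stabiliser of the span of a non-singular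 vector; for q = p prime with p ≡ 1 mod 4, the stabiliser of a decomposition into 10 pairwise orthogonal, pairwise isometric non-degenerate 1-spaces; for q ≥ 7, the stabiliser of a decomposition into 5 pairwise orthogonal, pairwise isometric non-degenerate 2-spaces; for q ≡ 1 mod 4, the stabiliser of a decomposition into 2 pairwise orthogonal, pairwise isometric non-degenerate 5-spaces; for q ≡ 3 mod 4, the stabiliser of a decomposition into two orthogonal, non-isometric non-degenerate 5-spaces; for q odd, the normaliser of a degree-2 subfield of the matrix algebra, self-adjoint for the polar form; a subfield group (|F| = |F₀|^r, r prime) whose F₀-structure carries a non-zero multiple of Q — or else H lies in the residual class of the orthogonal case (modulo scalars H is almost simple, with absolutely irreducible perfect socle preimage realisable over no proper subfield and fixing no non-degenerate unitary form). -/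
theorem result {F : Type*} [Field F] [Fintype F] (Q : (Fin 10 → F) → F) (hQ : Cfsg.Geo.IsNondegenerateQuadraticForm Q) (hplus : Cfsg.Geo.IsPlusTypeOn Q ⊤) (H : Subgroup (Matrix.GeneralLinearGroup (Fin 10) F)) (hH : Cfsg.Geo.IsMaximalIn (Cfsg.Geo.omegaGL Q) H) :
    (∃ W : Submodule F (Fin 10 → F), W ≠ ⊥ ∧ Cfsg.Geo.IsTotallySingularQuad Q W ∧ Module.finrank F W ≠ 4 ∧ H = Cfsg.Geo.subspaceStabilizer W ⊓ Cfsg.Geo.omegaGL Q) ∨
    (Odd (Fintype.card F) ∧ ∃ W : Submodule F (Fin 10 → F), W ≠ ⊥ ∧ W ≠ ⊤ ∧ Odd (Module.finrank F W) ∧ 2 * Module.finrank F W ≠ 10 ∧ Cfsg.Geo.IsNondegenerateOn (QuadraticMap.polar Q) W ∧ H = Cfsg.Geo.subspaceStabilizer W ⊓ Cfsg.Geo.omegaGL Q) ∨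
    (∃ W : Submodule F (Fin 10 → F), Module.finrank F W = 2 ∧ Cfsg.Geo.IsNondegenerateOn (QuadraticMap.polar Q) W ∧ ¬ Cfsg.Geo.IsPlusTypeOn Q W ∧ H = Cfsg.Geo.subspaceStabilizer W ⊓ Cfsg.Geo.omegaGL Q) ∨
    (4 ≤ Fintype.card F ∧ ∃ W : Submodule F (Fin 10 → F), Module.finrank F W = 2 ∧ Cfsg.Geo.IsNondegenerateOn (QuadraticMap.polar Q) W ∧ Cfsg.Geo.IsPlusTypeOn Q W ∧ H = Cfsg.Geo.subspaceStabilizer W ⊓ Cfsg.Geo.omegaGL Q) ∨
    (∃ W : Submodule F (Fin 10 → F), Module.finrank F W = 4 ∧ Cfsg.Geo.IsNondegenerateOn (QuadraticMap.polar Q) W ∧ H = Cfsg.Geo.subspaceStabilizer W ⊓ Cfsg.Geo.omegaGL Q) ∨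
    (¬ Odd (Fintype.card F) ∧ ∃ v : (Fin 10 → F), Q v ≠ 0 ∧ H = Cfsg.Geo.subspaceStabilizer (Submodule.span F {v}) ⊓ Cfsg.Geo.omegaGL Q) ∨
    ((∃ p : ℕ, p.Prime ∧ Fintype.card F = p ∧ (p % 4 = 1)) ∧ ∃ D : Fin 10 → Submodule F (Fin 10 → F), Cfsg.Geo.IsOrthogonalMDecomposition Q 1 D ∧ H = Cfsg.Geo.decompositionStabilizer D ⊓ Cfsg.Geo.omegaGL Q) ∨
    (7 ≤ Fintype.card F ∧ ∃ D : Fin 5 → Submodule F (Fin 10 → F), Cfsg.Geo.IsOrthogonalMDecomposition Q 2 D ∧ H = Cfsg.Geo.decompositionStabilizer D ⊓ Cfsg.Geo.omegaGL Q) ∨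
    (Fintype.card F % 4 = 1 ∧ ∃ D : Fin 2 → Submodule F (Fin 10 → F), Cfsg.Geo.IsOrthogonalMDecomposition Q 5 D ∧ H = Cfsg.Geo.decompositionStabilizer D ⊓ Cfsg.Geo.omegaGL Q) ∨
    (Fintype.card F % 4 = 3 ∧ ∃ D : Fin 2 → Submodule F (Fin 10 → F), Cfsg.Geo.IsNondegenerateMDecomposition (QuadraticMap.polar Q) 5 D ∧ ¬ Cfsg.Geo.AreIsometricFor Q (D 0) (D 1) ∧ H = Cfsg.Geo.decompositionStabilizer D ⊓ Cfsg.Geo.omegaGL Q) ∨
    (Odd (Fintype.card F) ∧ ∃ K : Subalgebra F (Matrix (Fin 10) (Fin 10) F), Cfsg.Geo.IsFieldSubalgebra 2 K ∧ Cfsg.Geo.IsSelfAdjointFor (QuadraticMap.polar Q) K ∧ H = Cfsg.Geo.subalgebraNormalizer K ⊓ Cfsg.Geo.omegaGL Q) ∨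
    (∃ (F₀ : Subfield F) (r : ℕ) (P : Matrix.GeneralLinearGroup (Fin 10) F) (ζ : F), r.Prime ∧ Fintype.card F = Nat.card F₀ ^ r ∧ ζ ≠ 0 ∧ Cfsg.Geo.IsQuadFormRationalStructure (fun v : Fin 10 → F => ζ * Q v) F₀ P ∧ H = Cfsg.Geo.subfieldSubgroup F₀ P ⊓ Cfsg.Geo.omegaGL Q) ∨
    Cfsg.Geo.InOrthogonalResidualClass H := by
  have h4p : Fintype.card F % 4 ≠ 3 ↔ IsSquare (-1 : F) := FiniteField.isSquare_neg_one_iff.symm
  have hι : Fintype.card (Fin 10) = 2 * 5 := by simp
  by_cases hirr : Cfsg.Geo.ActsIrreducibly (Cfsg.Geo.matrixSet H)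
  swap
  · rcases reducible_outcome hQ hι (Or.inl rfl) hH hirr with ⟨W, h0, hW, hd, he⟩ | ⟨hq, W, h0, h1, ho, hd, hn, he⟩ |
      ⟨W, hd, hn, hp, he⟩ | ⟨hq, W, hd, hn, hp, he⟩ | ⟨W, hd, hn, he⟩ | ⟨hq, v, hv, he⟩ | ⟨W, hd, hn, hle, -⟩
    · left; exact ⟨W, h0, hW, fun h => hd hplus (by omega), he⟩
    · right; left; exact ⟨hq, W, h0, h1, ho, by omega, hn, he⟩
    · iterate 2 right
      left; exact ⟨W, hd, hn, hp, he⟩
    · iterate 3 right
      left; exact ⟨hq, W, hd, hn, hp, he⟩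
    · iterate 4 right
      left; exact ⟨W, hd, hn, he⟩
    · iterate 5 right
      left; exact ⟨hq, v, hv, he⟩
    · obtain ⟨D, -, hD, hp, hsup, hDle⟩ := halves_decomposition hQ hι (by norm_num) hH.1.le hn hd hle
      obtain ⟨he, ⟨hiso, h | h⟩ | ⟨hne, h | h⟩⟩ := fives_cases hQ hι hH hD hDle hp hsup
      · iterate 8 right
        left; exact ⟨h.2, D, hiso, he⟩
      · exact absurd hplus h.1
      · iterate 9 right
        left; exact ⟨h.2, D, hD, hne, he⟩
      · exact absurd hplus h.1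
  rcases irreducible_outcome hQ hι (Or.inl rfl) hH hirr with ⟨t, k, D, htk, hD, hle⟩ | ⟨h, -⟩ |
    ⟨s, K, hs, hdvd, hK, hKa, hHK, -⟩ | ⟨h, -⟩ | ⟨h, -⟩ | hsub | hres
  · rcases odd_factors (by omega) hD.decomp.decomp.two_le with ⟨rfl, rfl⟩ | ⟨rfl, rfl⟩ | ⟨rfl, rfl⟩
    · obtain ⟨h2, ⟨hp, he⟩ | hsub⟩ := lines_cases hQ (by simp) (by simp) hH hD hle
      · have h := (plus_iff_of_odd_members hQ h2 (k := 5) rfl odd_one hD).1 hplus
        rw [or_iff_right (by decide : ¬ Even 5), ← h4p] at h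
        obtain ⟨j, hj⟩ := odd_card_of_two_ne_zero h2
        iterate 6 right
        left; exact ⟨⟨_, hp, rfl, by omega⟩, D, hD, he⟩
      · iterate 11 right
        left; exact hsub
    · have hall : ∀ i, Cfsg.Geo.IsPlusTypeOn Q (D i) := fun i =>
        ((plus_iff_of_even_members hQ (k := 1) hD i).1 hplus).resolve_left (by decide)
      have hq : 7 ≤ Fintype.card F := by
        by_contra hc
        exact small_planes_false hQ hH le_rfl hD hle (Or.inl ⟨hall, by omega⟩)
      iterate 7 right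
      left; exact ⟨hq, D, hD, decomposition_eq hQ (by simp) hH hD.decomp le_rfl (by norm_num) hle⟩
    · obtain ⟨hp, hsup⟩ := pair_of_two hQ hD.decomp
      obtain ⟨he, ⟨hiso, h | h⟩ | ⟨hne, -⟩⟩ := fives_cases hQ hι hH hD.decomp hle hp hsup
      · iterate 8 right
        left; exact ⟨h.2, D, hiso, he⟩
      · exact absurd hplus h.1
      · exact absurd (hD.isometric 0 1) hne
  · exact absurd h (by norm_num)
  · obtain ⟨K', hK', he, h | h⟩ := quadratic_field_ten hQ (by simp) hH hirr hs (by simpa using hdvd) hK (hKa rfl) hHK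
    · iterate 10 right
      left; exact ⟨h.1, K', hK', h.2, he⟩
    · exact absurd hplus h.1
  · exact absurd h (by norm_num)
  · exact absurd h (by norm_num)
  · iterate 11 right
    left; exact hsub
  · iterate 12 right
    exact hres

end Cfsg.Agent.S5847
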