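import Cfsg.Statements.S5853
import Cfsg.Agent.Lib.Geo.AschPrime
import Cfsg.Agent.Lib.Geo.AschSmall

set_option autoImplicit false
open Cfsg

namespace Cfsg.Agent.S5853

open CfsgLib.Geo.Asch

/-- Every maximal subgroup of SL_11(q) is of one of the listed geometric types or lies in the residual class. Let F be a finite field with q elements (p its characteristic) and H a maximal subgroup of SL_11(F) (inside GL_11(F)). Then H is the intersection with SL_11(F) of one of: the stabiliser of a proper non-zero subspace; for q ≥ 5, the stabiliser of a decomposition into 11 independent 1-spaces; the normaliser of a degree-11 subfield of the matrix algebra; a subfield group for a subfield F₀ with |F| = |F₀|^r, r prime; for q = p prime with p ≡ 1 mod 11, or q = p⁵ with p ≡ 3, 4, 5 or 9 mod 11, the normaliser of an absolutely irreducible 11-subgroup R of exponent 11 and order 11^(1+2m) with centre of order 11, all of whose characteristic abelian subgroups are cyclic,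 F being the smallest field of characteristic p containing the eleventh roots of unity (here R is extraspecial of order 11³); for q odd, the similarity group of a non-degenerate quadratic form; the similarity group of a non-degenerate unitary form — or else H lies in the residual class of the linear case (modulo scalars H is almost simple, with absolutely irreducible perfect socle preimage realisable over no proper subfield and fixing no non-degenerate quadratic, symplectic or unitary form). -/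
theorem result {F : Type*} [Field F] [Fintype F] (H : Subgroup (Matrix.GeneralLinearGroup (Fin 11) F)) (hH : Cfsg.Geo.IsMaximalIn (Cfsg.Geo.specialLinear (Fin 11) F) H) :
    (∃ W : Submodule F (Fin 11 → F), W ≠ ⊥ ∧ W ≠ ⊤ ∧ H = Cfsg.Geo.subspaceStabilizer W ⊓ Cfsg.Geo.specialLinear (Fin 11) F) ∨
    (5 ≤ Fintype.card F ∧ ∃ D : Fin 11 → Submodule F (Fin 11 → F), Cfsg.Geo.IsMDecomposition 1 D ∧ H = Cfsg.Geo.decompositionStabilizer D ⊓ Cfsg.Geo.specialLinear (Fin 11) F) ∨
    (∃ K : Subalgebra F (Matrix (Fin 11) (Fin 11) F), Cfsg.Geo.IsFieldSubalgebra 11 K ∧ H = Cfsg.Geo.subalgebraNormalizer K ⊓ Cfsg.Geo.specialLinear (Fin 11) F) ∨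
    (∃ (F₀ : Subfield F) (r : ℕ) (P : Matrix.GeneralLinearGroup (Fin 11) F), r.Prime ∧ Fintype.card F = Nat.card F₀ ^ r ∧ H = Cfsg.Geo.subfieldSubgroup F₀ P ⊓ Cfsg.Geo.specialLinear (Fin 11) F) ∨
    ((∃ p : ℕ, p.Prime ∧ CharP F p ∧ ((Fintype.card F = p ∧ p % 11 = 1) ∨ (Fintype.card F = p ^ 5 ∧ (p % 11 = 3 ∨ p % 11 = 4 ∨ p % 11 = 5 ∨ p % 11 = 9)))) ∧ ∃ R : Subgroup (Matrix.GeneralLinearGroup (Fin 11) F), Cfsg.Geo.IsLinearSymplecticTypeData 11 R ∧ H = Cfsg.Geo.subgroupNormalizer R ⊓ Cfsg.Geo.specialLinear (Fin 11) F) ∨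
    (Odd (Fintype.card F) ∧ ∃ Q : (Fin 11 → F) → F, Cfsg.Geo.IsNondegenerateQuadraticForm Q ∧ H = Cfsg.Geo.quadSimilarityGroup Q ⊓ Cfsg.Geo.specialLinear (Fin 11) F) ∨
    (∃ (σ : F ≃+* F) (f : (Fin 11 → F) → (Fin 11 → F) → F), Cfsg.Geo.IsUnitaryForm σ f ∧ H = Cfsg.Geo.similarityGroup f ⊓ Cfsg.Geo.specialLinear (Fin 11) F) ∨
    Cfsg.Geo.InLinearResidualClass H := by
  haveI : Nonempty (Fin 11) := ⟨⟨0, by norm_num⟩⟩
  have hn3 : 3 ≤ Fintype.card (Fin 11) := by simp
  have hlp : Nat.Prime 11 := by norm_num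
  rcases linear_cases (show 3 ≤ 11 by norm_num) hH with h | ⟨t, m, D, hD, htm, hEq⟩ | ⟨r, K, hr, hrn, hK, hEq⟩ |
    ⟨a, b, e, P, ha, hb, hab, -⟩ | h | h | ⟨f, hf, -⟩ | h | h | ⟨N, hNH, hinv, hns, hspan, hmin, hN⟩
  · exact Or.inl h
  · have h2 := hD.two_le
    have hm := hD.pos
    obtain ⟨rfl, rfl⟩ : t = 11 ∧ m = 1 := by
      rcases hlp.eq_one_or_self_of_dvd t ⟨m, htm.symm⟩ with ht | ht
      · omega
      · subst ht
        exact ⟨rfl, by omega⟩
    by_cases hq : 5 ≤ Fintype.card F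
    · exact Or.inr (Or.inl ⟨hq, D, hD, hEq⟩)
    have h1 := Fintype.one_lt_card (α := F)
    obtain hq2 | hq2 | hq2 : Fintype.card F = 2 ∨ Fintype.card F = 3 ∨ Fintype.card F = 4 := by omega
    · obtain ⟨W, hW1, hW2, hle⟩ := decomposition_le_subspace_two hq2 (by simp) hD
      exact Or.inl ⟨W, hW1, hW2, eq_inf_of_le hH (le_trans (hEq.le.trans inf_le_left) hle) (not_specialLinear_le_subspace hW1 hW2)⟩
    · obtain ⟨Q, hQ, hle⟩ := decomposition_le_quad_three hq2 hD
      exact Or.inr (Or.inr (Or.inr (Or.inr (Or.inr (Or.inl ⟨by rw [hq2]; decide, Q, hQ, eq_inf_of_le hH (le_trans (hEq.le.trans inf_le_left) hle) (not_specialLinear_le_quad hn3 hQ)⟩)))))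
    · obtain ⟨σ, f, hf, hle⟩ := decomposition_le_unitary_four hq2 hD
      exact Or.inr (Or.inr (Or.inr (Or.inr (Or.inr (Or.inr (Or.inl ⟨σ, f, hf, eq_inf_of_le hH (le_trans (hEq.le.trans inf_le_left) hle) (not_specialLinear_le_similarity hn3 (unitary_isSesq hf) hf.nondegenerate)⟩))))))
  · obtain rfl := (Nat.prime_dvd_prime_iff_eq hr hlp).1 hrn
    exact Or.inr (Or.inr (Or.inl ⟨K, hK, hEq⟩))
  · rcases hlp.eq_one_or_self_of_dvd a ⟨b, hab.symm⟩ with h | h
    · omega
    · subst h
      omega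
  · exact Or.inr (Or.inr (Or.inr (Or.inl h)))
  · exact Or.inr (Or.inr (Or.inr (Or.inr (Or.inr (Or.inl h)))))
  · exact absurd hf (not_symplectic_of_odd (by rw [Fintype.card_fin]; decide))
  · exact Or.inr (Or.inr (Or.inr (Or.inr (Or.inr (Or.inr (Or.inl h))))))
  · exact Or.inr (Or.inr (Or.inr (Or.inr (Or.inr (Or.inr (Or.inr (h)))))))
  · rcases hN with ⟨hcl, -⟩ | ⟨-, a, t, ha, ht, hat⟩
    swap
    · exfalso
      exact Nat.Prime.not_prime_pow' (x := a) (n := t) (by omega) (hat ▸ hlp)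
    have hPT : PrimeType N := ⟨hNH.trans hH.1.le, hspan, hcl⟩
    have hodd : Odd 11 := by decide
    by_cases hsub : ∃ (F₀ : Subfield F) (r : ℕ) (P : Matrix.GeneralLinearGroup (Fin 11) F),
        r.Prime ∧ Fintype.card F = Nat.card F₀ ^ r ∧ H ≤ Cfsg.Geo.subfieldSubgroup F₀ P
    · obtain ⟨F₀, r, P, hr, hc, hle⟩ := hsub
      exact Or.inr (Or.inr (Or.inr (Or.inl ⟨F₀, r, P, hr, hc, eq_inf_of_le hH hle (not_specialLinear_le_subfield (by omega) (subfield_ne_top hr hc) P)⟩)))
    by_cases hU : ∃ (σ : F ≃+* F) (f : (Fin 11 → F) → (Fin 11 → F) → F),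
        Cfsg.Geo.IsUnitaryForm σ f ∧ H ≤ Cfsg.Geo.similarityGroup f
    · obtain ⟨σ, f, hf, hle⟩ := hU
      exact Or.inr (Or.inr (Or.inr (Or.inr (Or.inr (Or.inr (Or.inl ⟨σ, f, hf, eq_inf_of_le hH hle (not_specialLinear_le_similarity hn3 (unitary_isSesq hf) hf.nondegenerate)⟩))))))
    push Not at hsub hU
    obtain ⟨hdata, p, e, hp, hchar, hcard, hoe, hed, hmod, hmind⟩ := symplecticType_data hlp hodd hPT hinv hmin hsub hU
    have hEq : H = Cfsg.Geo.subgroupNormalizer N ⊓ Cfsg.Geo.specialLinear (Fin 11) F :=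
      eq_inf_of_le hH (le_normalizer_of_normalized hinv) (hPT.not_specialLinear_le_normalizer hlp hodd)
    refine Or.inr (Or.inr (Or.inr (Or.inr (Or.inl ⟨?_, N, hdata, hEq⟩))))
    refine ⟨p, hp, hchar, ?_⟩
    have hle : e ≤ 10 := Nat.le_of_dvd (by norm_num) hed
    obtain rfl | rfl : e = 1 ∨ e = 5 := by
      interval_cases e <;> first | tauto | (exfalso; revert hoe hed; decide)
    · exact Or.inl ⟨by simpa using hcard, by simpa using hmod⟩
    · refine Or.inr ⟨hcard, ?_⟩
      have h1 := hmind 1 one_pos (by norm_num)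
      rw [pow_one] at h1
      have hlt := Nat.mod_lt p (show 11 > 0 by norm_num)
      rw [Nat.pow_mod] at hmod
      interval_cases hr : p % 11 <;> first | omega | tauto

end Cfsg.Agent.S5853
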