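import Cfsg.Statements.S5870
import Cfsg.Agent.Lib.OmegaTwelve.Decomp
import Cfsg.Agent.Lib.TensorSympPair.Main

set_option autoImplicit false
open Cfsg

namespace Cfsg.Agent.S5870

open CfsgLib

/-- Maximal subgroups of Ω_12^+(q) of geometric type (any q). Let F be a finite field with q elements (characteristic p), Q a non-degenerate quadratic form on F^12 (non-degenerate polar form) of plus type (Witt index 6: some totally singular 6-space), and Ω = Ω_12^+(q) the commutator subgroup of the isometry group of Q, inside GL_12(F). Each of the following, intersected with Ω, is a maximal subgroup of Ω: (1) the stabiliser of any non-zero subspace on which Q vanishes identically other than those of dimension 5 (totally singular subspaces, dimensions 1, 2, 3, 4 and 6); (2) for q odd, the stabiliser of any subspace of odd dimension on which the polar form of Q is non-degenerate; (3) the stabiliser of any non-degenerate 2-space of minus type (containing no non-zero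 singular vector); (4) for q ≥ 4, the stabiliser of any non-degenerate 2-space of plus type (containing a non-zero singular vector); (5) the stabiliser of any non-degenerate 4-space (either type); (6) for q even, the stabiliser of the 1-space spanned by any non-singular vector v (Q(v) ≠ 0); (7) for q = p an odd prime, the stabiliser of any decomposition of F^12 into 12 pairwise orthogonal, pairwise Q-isometric non-degenerate 1-spaces; (8) for q ≥ 7, the stabiliser of any decomposition of F^12 into 6 pairwise orthogonal, pairwise Q-isometric non-degenerate 2-spaces of plus type; (9) for q ≠ 3, the stabiliser of any decomposition of F^12 into 6 pairwise orthogonal, pairwise Q-isometric non-degenerate 2-spaces of minus type; (10) for q odd with q ≥ 5, the stabiliser of any decomposition of F^12 into 4 pairwise orthogonal, pairwise Q-isometric non-degenerate 3-spaces; (11) for q ≥ 3, the stabiliser of any decomposition of F^12 into 3 pairwise orthogonal, pairwise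 Q-isometric non-degenerate 4-spaces; (12) the stabiliser of any decomposition of F^12 into 2 pairwise orthogonal, pairwise Q-isometric non-degenerate 6-spaces; (13) the stabiliser of any decomposition into two totally singular 6-spaces; (14) for q odd, the normaliser of any degree-2 subfield K of the matrix algebra whose elements are self-adjoint for the polar form of Q (Q is then the trace of a quadratic form over K); (15) for q odd, the normaliser of any degree-3 subfield K of the matrix algebra whose elements are self-adjoint for the polar form of Q (Q is then the trace of a quadratic form over K); (16) the normaliser of any degree-2 subfield K of the matrix algebra, closed under adjoints for the polar form but not self-adjoint, whose elements act as similarities of Q (so F^12 becomes a 6-dimensional space over K with a hermitian form, and the subgroup is of the type of the unitary group GU_6(q)); (17) for q ≥ 3, the stabiliser of any tensor decomposition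 F^12 = F^2 ⊗ F^6 in which the polar form of Q is (alternating form) ⊗ (alternating form) up to a scalar and Q vanishes on all pure tensors; (18) every subfield group for a subfield F₀ with |F| = |F₀|^r, r prime, whose F₀-structure carries a non-zero scalar multiple of Q. -/
theorem result {F : Type*} [Field F] [Fintype F] (Q : (Fin 12 → F) → F) (hQ : Cfsg.Geo.IsNondegenerateQuadraticForm Q) (hplus : Cfsg.Geo.IsPlusTypeOn Q ⊤) :
    (∀ W : Submodule F (Fin 12 → F), W ≠ ⊥ → Cfsg.Geo.IsTotallySingularQuad Q W → Module.finrank F W ≠ 5 → Cfsg.Geo.IsMaximalIn (Cfsg.Geo.omegaGL Q) (Cfsg.Geo.subspaceStabilizer W ⊓ Cfsg.Geo.omegaGL Q)) ∧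
    (Odd (Fintype.card F) → ∀ W : Submodule F (Fin 12 → F), W ≠ ⊥ → W ≠ ⊤ → Odd (Module.finrank F W) → 2 * Module.finrank F W ≠ 12 → Cfsg.Geo.IsNondegenerateOn (QuadraticMap.polar Q) W → Cfsg.Geo.IsMaximalIn (Cfsg.Geo.omegaGL Q) (Cfsg.Geo.subspaceStabilizer W ⊓ Cfsg.Geo.omegaGL Q)) ∧
    (∀ W : Submodule F (Fin 12 → F), Module.finrank F W = 2 → Cfsg.Geo.IsNondegenerateOn (QuadraticMap.polar Q) W → ¬ Cfsg.Geo.IsPlusTypeOn Q W → Cfsg.Geo.IsMaximalIn (Cfsg.Geo.omegaGL Q) (Cfsg.Geo.subspaceStabilizer W ⊓ Cfsg.Geo.omegaGL Q)) ∧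
    (4 ≤ Fintype.card F → ∀ W : Submodule F (Fin 12 → F), Module.finrank F W = 2 → Cfsg.Geo.IsNondegenerateOn (QuadraticMap.polar Q) W → Cfsg.Geo.IsPlusTypeOn Q W → Cfsg.Geo.IsMaximalIn (Cfsg.Geo.omegaGL Q) (Cfsg.Geo.subspaceStabilizer W ⊓ Cfsg.Geo.omegaGL Q)) ∧
    (∀ W : Submodule F (Fin 12 → F), Module.finrank F W = 4 → Cfsg.Geo.IsNondegenerateOn (QuadraticMap.polar Q) W → Cfsg.Geo.IsMaximalIn (Cfsg.Geo.omegaGL Q) (Cfsg.Geo.subspaceStabilizer W ⊓ Cfsg.Geo.omegaGL Q)) ∧
    (¬ Odd (Fintype.card F) → ∀ v : (Fin 12 → F), Q v ≠ 0 → Cfsg.Geo.IsMaximalIn (Cfsg.Geo.omegaGL Q) (Cfsg.Geo.subspaceStabilizer (Submodule.span F {v}) ⊓ Cfsg.Geo.omegaGL Q)) ∧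
    ((∃ p : ℕ, p.Prime ∧ Odd p ∧ Fintype.card F = p) → ∀ D : Fin 12 → Submodule F (Fin 12 → F), Cfsg.Geo.IsOrthogonalMDecomposition Q 1 D → Cfsg.Geo.IsMaximalIn (Cfsg.Geo.omegaGL Q) (Cfsg.Geo.decompositionStabilizer D ⊓ Cfsg.Geo.omegaGL Q)) ∧
    (7 ≤ Fintype.card F → ∀ D : Fin 6 → Submodule F (Fin 12 → F), Cfsg.Geo.IsOrthogonalMDecomposition Q 2 D → (∀ i, Cfsg.Geo.IsPlusTypeOn Q (D i)) → Cfsg.Geo.IsMaximalIn (Cfsg.Geo.omegaGL Q) (Cfsg.Geo.decompositionStabilizer D ⊓ Cfsg.Geo.omegaGL Q)) ∧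
    (Fintype.card F ≠ 3 → ∀ D : Fin 6 → Submodule F (Fin 12 → F), Cfsg.Geo.IsOrthogonalMDecomposition Q 2 D → (∀ i, ¬ Cfsg.Geo.IsPlusTypeOn Q (D i)) → Cfsg.Geo.IsMaximalIn (Cfsg.Geo.omegaGL Q) (Cfsg.Geo.decompositionStabilizer D ⊓ Cfsg.Geo.omegaGL Q)) ∧
    (Odd (Fintype.card F) ∧ 5 ≤ Fintype.card F → ∀ D : Fin 4 → Submodule F (Fin 12 → F), Cfsg.Geo.IsOrthogonalMDecomposition Q 3 D → Cfsg.Geo.IsMaximalIn (Cfsg.Geo.omegaGL Q) (Cfsg.Geo.decompositionStabilizer D ⊓ Cfsg.Geo.omegaGL Q)) ∧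
    (3 ≤ Fintype.card F → ∀ D : Fin 3 → Submodule F (Fin 12 → F), Cfsg.Geo.IsOrthogonalMDecomposition Q 4 D → Cfsg.Geo.IsMaximalIn (Cfsg.Geo.omegaGL Q) (Cfsg.Geo.decompositionStabilizer D ⊓ Cfsg.Geo.omegaGL Q)) ∧
    (∀ D : Fin 2 → Submodule F (Fin 12 → F), Cfsg.Geo.IsOrthogonalMDecomposition Q 6 D → Cfsg.Geo.IsMaximalIn (Cfsg.Geo.omegaGL Q) (Cfsg.Geo.decompositionStabilizer D ⊓ Cfsg.Geo.omegaGL Q)) ∧
    (∀ D : Fin 2 → Submodule F (Fin 12 → F), Cfsg.Geo.IsMDecomposition 6 D → (∀ i, Cfsg.Geo.IsTotallySingularQuad Q (D i)) → Cfsg.Geo.IsMaximalIn (Cfsg.Geo.omegaGL Q) (Cfsg.Geo.decompositionStabilizer D ⊓ Cfsg.Geo.omegaGL Q)) ∧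
    (Odd (Fintype.card F) → ∀ K : Subalgebra F (Matrix (Fin 12) (Fin 12) F), Cfsg.Geo.IsFieldSubalgebra 2 K → Cfsg.Geo.IsSelfAdjointFor (QuadraticMap.polar Q) K → Cfsg.Geo.IsMaximalIn (Cfsg.Geo.omegaGL Q) (Cfsg.Geo.subalgebraNormalizer K ⊓ Cfsg.Geo.omegaGL Q)) ∧
    (Odd (Fintype.card F) → ∀ K : Subalgebra F (Matrix (Fin 12) (Fin 12) F), Cfsg.Geo.IsFieldSubalgebra 3 K → Cfsg.Geo.IsSelfAdjointFor (QuadraticMap.polar Q) K → Cfsg.Geo.IsMaximalIn (Cfsg.Geo.omegaGL Q) (Cfsg.Geo.subalgebraNormalizer K ⊓ Cfsg.Geo.omegaGL Q)) ∧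
    (∀ K : Subalgebra F (Matrix (Fin 12) (Fin 12) F), Cfsg.Geo.IsFieldSubalgebra 2 K → Cfsg.Geo.IsAdjointClosedFor (QuadraticMap.polar Q) K → ¬ Cfsg.Geo.IsSelfAdjointFor (QuadraticMap.polar Q) K → (∀ k ∈ K, ∃ c : F, ∀ v : (Fin 12 → F), Q (Matrix.mulVec k v) = c * Q v) → Cfsg.Geo.IsMaximalIn (Cfsg.Geo.omegaGL Q) (Cfsg.Geo.subalgebraNormalizer K ⊓ Cfsg.Geo.omegaGL Q)) ∧
    (3 ≤ Fintype.card F → ∀ (e : Fin 12 ≃ Fin 2 × Fin 6) (P : Matrix.GeneralLinearGroup (Fin 12) F) (f₁ : (Fin 2 → F) → (Fin 2 → F) → F) (f₂ : (Fin 6 → F) → (Fin 6 → F) → F), Cfsg.Geo.IsSymplecticForm f₁ → Cfsg.Geo.IsSymplecticForm f₂ → Cfsg.Geo.IsTensorFormStructure id (QuadraticMap.polar Q) f₁ f₂ e P → (∀ (x₁ : Fin 2 → F) (x₂ : Fin 6 → F), Q (Matrix.mulVec (P : Matrix (Fin 12) (Fin 12) F) ((fun a : Fin 2 × Fin 6 => x₁ a.1 * x₂ a.2) ∘ e)) = 0) → Cfsg.Geo.IsMaximalIn (Cfsg.Geo.omegaGL Q) (Cfsg.Geo.tensorProductSubgroup 2 6 e P ⊓ Cfsg.Geo.omegaGL Q)) ∧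
    (∀ (F₀ : Subfield F) (r : ℕ) (P : Matrix.GeneralLinearGroup (Fin 12) F) (ζ : F), r.Prime → Fintype.card F = Nat.card F₀ ^ r → ζ ≠ 0 → Cfsg.Geo.IsQuadFormRationalStructure (fun v : Fin 12 → F => ζ * Q v) F₀ P → Cfsg.Geo.IsMaximalIn (Cfsg.Geo.omegaGL Q) (Cfsg.Geo.subfieldSubgroup F₀ P ⊓ Cfsg.Geo.omegaGL Q)) := by
  have hbot : ∀ W : Submodule F (Fin 12 → F), 0 < Module.finrank F W → W ≠ ⊥ := fun W h e => by
    rw [e, finrank_bot] at h; omega
  have htop : ∀ W : Submodule F (Fin 12 → F), Module.finrank F W < 12 → W ≠ ⊤ := fun W h e => by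
    rw [e, finrank_top, Module.finrank_fintype_fun_eq_card, Fintype.card_fin] at h; omega
  have hodd_nd : ∀ W : Submodule F (Fin 12 → F), W ≠ ⊥ → W ≠ ⊤ → Odd (Module.finrank F W) →
      2 * Module.finrank F W ≠ 12 → Cfsg.Geo.IsNondegenerateOn (QuadraticMap.polar Q) W →
      Cfsg.Geo.IsMaximalIn (Cfsg.Geo.omegaGL Q) (Cfsg.Geo.subspaceStabilizer W ⊓ Cfsg.Geo.omegaGL Q) := by
    intro W h0 h1 ho hne hW
    obtain ⟨a, ha⟩ := ho
    exact OmegaTwelve.nondegenerate (by norm_num) hQ h0 h1 hW (Or.inl hne) (by omega) fun h => by omega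
  have hminus2 : ∀ W : Submodule F (Fin 12 → F), Module.finrank F W = 2 →
      Cfsg.Geo.IsNondegenerateOn (QuadraticMap.polar Q) W → ¬ Cfsg.Geo.IsPlusTypeOn Q W →
      Cfsg.Geo.IsMaximalIn (Cfsg.Geo.omegaGL Q) (Cfsg.Geo.subspaceStabilizer W ⊓ Cfsg.Geo.omegaGL Q) :=
    fun W hd hW hm => OmegaTwelve.nondegenerate (by norm_num) hQ (hbot W (by omega)) (htop W (by omega)) hW
      (Or.inl (by omega)) (by omega) fun _ _ => hm
  have hplus2 : 4 ≤ Fintype.card F → ∀ W : Submodule F (Fin 12 → F), Module.finrank F W = 2 →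
      Cfsg.Geo.IsNondegenerateOn (QuadraticMap.polar Q) W → Cfsg.Geo.IsPlusTypeOn Q W →
      Cfsg.Geo.IsMaximalIn (Cfsg.Geo.omegaGL Q) (Cfsg.Geo.subspaceStabilizer W ⊓ Cfsg.Geo.omegaGL Q) :=
    fun h4 W hd hW _ => OmegaTwelve.nondegenerate (by norm_num) hQ (hbot W (by omega)) (htop W (by omega)) hW
      (Or.inl (by omega)) (by omega) fun _ h3 => absurd h3 (by omega)
  have hfour : ∀ W : Submodule F (Fin 12 → F), Module.finrank F W = 4 →
      Cfsg.Geo.IsNondegenerateOn (QuadraticMap.polar Q) W →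
      Cfsg.Geo.IsMaximalIn (Cfsg.Geo.omegaGL Q) (Cfsg.Geo.subspaceStabilizer W ⊓ Cfsg.Geo.omegaGL Q) :=
    fun W hd hW => OmegaTwelve.nondegenerate (by norm_num) hQ (hbot W (by omega)) (htop W (by omega)) hW
      (Or.inl (by omega)) (by omega) fun h => by omega
  refine ⟨fun W h0 hW h5 => OmegaTwelve.singular (by norm_num) hQ h0 hW (Or.inl (by omega)),
    fun _ W h0 h1 ho hne hW => hodd_nd W h0 h1 ho hne hW, hminus2, hplus2, hfour,
    fun hev v hv => OmegaTwelve.point_two (by norm_num) hQ hev hv, ?_, ?_, ?_, ?_, ?_, ?_, ?_, ?_, ?_, ?_, ?_, ?_⟩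
  · rintro ⟨p, hp, hodd, hF⟩ D hD
    exact OmegaTwelve.frame (by norm_num) hQ hp hodd hF D hD
  · intro h7 D hD _
    exact OmegaTwelve.decomposition (by norm_num) hQ hD le_rfl (fun _ => by norm_num) (fun h => by omega)
      (fun _ => by omega) (fun _ _ => h7) (fun h => by omega)
  · intro h3 D hD hm
    exact OmegaTwelve.decomposition (by norm_num) hQ hD le_rfl (fun _ => by norm_num) (fun h => by omega)
      (fun _ => h3) (fun _ hp => absurd (hp 0) (hm 0)) (fun h => by omega)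
  · rintro ⟨hodd, h5⟩ D hD
    exact OmegaTwelve.decomposition (by norm_num) hQ hD (by norm_num) (fun h => by omega)
      (fun _ => ⟨le_rfl, hodd, by omega⟩) (fun h => by omega) (fun h => by omega) (fun h => by omega)
  · intro h3 D hD
    exact OmegaTwelve.decomposition (by norm_num) hQ hD (by norm_num) (fun h => by omega) (fun h => by omega)
      (fun h => by omega) (fun h => by omega) (fun _ h2 => absurd h2 (by omega))
  · intro D hD
    exact OmegaTwelve.decomposition (by norm_num) hQ hD (by norm_num) (fun h => by omega) (fun h => by omega)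
      (fun h => by omega) (fun h => by omega) (fun h => by omega)
  · intro D hD hts
    exact OmegaTwelve.singular_pair (by norm_num) hQ (by norm_num) (by decide) D hD hts
  · intro hodd K hK hsa
    exact OmegaTwelve.field_sa (by norm_num) hQ hodd Nat.prime_two (by norm_num) K hK hsa
  · intro hodd K hK hsa
    exact OmegaTwelve.field_sa (by norm_num) hQ hodd Nat.prime_three (by norm_num) K hK hsa
  · intro K hK hac hnsa hsc
    exact OmegaTwelve.field_unitary (by norm_num) hQ K hK hac hnsa hsc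
  · intro h3 e P f₁ f₂ hf₁ hf₂ hT hpure
    refine CfsgLib.TensorSympPair.maximal_tensor le_rfl (by norm_num) (by norm_num) ?_ hQ e P hf₁ hf₂ hT
      fun u w => hpure u w
    rintro ⟨-, hall⟩
    classical
    have h2 := Fintype.card_le_of_injective (fun c : F => decide (c = 0)) fun a b h => by
      simp only [decide_eq_decide] at h
      rcases hall a with rfl | rfl <;> rcases hall b with rfl | rfl <;> simp_all
    rw [Fintype.card_bool] at h2
    omega
  · intro F₀ r P ζ hr hcard hζ hP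
    exact OmegaTwelve.subfield (by norm_num) hQ F₀ hr hcard P hζ hP

end Cfsg.Agent.S5870
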