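import Cfsg.Statements.S5871
import Cfsg.Agent.Lib.Geo.AschEvenFinal

set_option autoImplicit false
open Cfsg CfsgLib.Geo CfsgLib.Geo.AschEven

namespace Cfsg.Agent.S5871

/-- Every maximal subgroup of Ω_12^+(q) is of one of the listed geometric types or lies in the residual class. Let F be a finite field with q elements (characteristic p), Q a non-degenerate quadratic form on F^12 of plus type (Witt index 6: some totally singular 6-space), Ω the commutator subgroup of its isometry group, and H a maximal subgroup of Ω (inside GL_12(F)). Then H is the intersection with Ω of one of: the stabiliser of a non-zero totally singular subspace of dimension ≠ 5; for q odd, the stabiliser of a non-degenerate subspace of odd dimension; the stabiliser of a non-degenerate 2-space of minus type; for q ≥ 4, the stabiliser of a non-degenerate 2-space of plus type; the stabiliser of a non-degenerate 4-space; for q even, the stabiliser of the span of a non-singular vector;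 for q = p an odd prime, the stabiliser of a decomposition into 12 pairwise orthogonal, pairwise isometric non-degenerate 1-spaces; for q ≥ 7, the stabiliser of a decomposition into 6 pairwise orthogonal, pairwise isometric non-degenerate 2-spaces of plus type; for q ≠ 3, the stabiliser of a decomposition into 6 pairwise orthogonal, pairwise isometric non-degenerate 2-spaces of minus type; for q odd with q ≥ 5, the stabiliser of a decomposition into 4 pairwise orthogonal, pairwise isometric non-degenerate 3-spaces; for q ≥ 3, the stabiliser of a decomposition into 3 pairwise orthogonal, pairwise isometric non-degenerate 4-spaces; the stabiliser of a decomposition into 2 pairwise orthogonal, pairwise isometric non-degenerate 6-spaces; of a decomposition into two totally singular 6-spaces; the normaliser of a degree-2 subfield of the matrix algebra; the normaliser of a degree-3 subfield of the matrix algebra; the normaliser of a degree-2 subfield K, adjoint-closed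 but not self-adjoint, acting by similarities of Q; for q ≥ 3, the stabiliser of a tensor decomposition of Q into alternating forms on F^2 and F^6 (Q vanishing on pure tensors); a subfield group (|F| = |F₀|^r, r prime) whose F₀-structure carries a non-zero multiple of Q — or else H lies in the residual class of the orthogonal case (modulo scalars H is almost simple, with absolutely irreducible perfect socle preimage realisable over no proper subfield and fixing no non-degenerate unitary form). -/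
theorem result {F : Type*} [Field F] [Fintype F] (Q : (Fin 12 → F) → F) (hQ : Cfsg.Geo.IsNondegenerateQuadraticForm Q) (hplus : Cfsg.Geo.IsPlusTypeOn Q ⊤) (H : Subgroup (Matrix.GeneralLinearGroup (Fin 12) F)) (hH : Cfsg.Geo.IsMaximalIn (Cfsg.Geo.omegaGL Q) H) :
    (∃ W : Submodule F (Fin 12 → F), W ≠ ⊥ ∧ Cfsg.Geo.IsTotallySingularQuad Q W ∧ Module.finrank F W ≠ 5 ∧ H = Cfsg.Geo.subspaceStabilizer W ⊓ Cfsg.Geo.omegaGL Q) ∨
    (Odd (Fintype.card F) ∧ ∃ W : Submodule F (Fin 12 → F), W ≠ ⊥ ∧ W ≠ ⊤ ∧ Odd (Module.finrank F W) ∧ 2 * Module.finrank F W ≠ 12 ∧ Cfsg.Geo.IsNondegenerateOn (QuadraticMap.polar Q) W ∧ H = Cfsg.Geo.subspaceStabilizer W ⊓ Cfsg.Geo.omegaGL Q) ∨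
    (∃ W : Submodule F (Fin 12 → F), Module.finrank F W = 2 ∧ Cfsg.Geo.IsNondegenerateOn (QuadraticMap.polar Q) W ∧ ¬ Cfsg.Geo.IsPlusTypeOn Q W ∧ H = Cfsg.Geo.subspaceStabilizer W ⊓ Cfsg.Geo.omegaGL Q) ∨
    (4 ≤ Fintype.card F ∧ ∃ W : Submodule F (Fin 12 → F), Module.finrank F W = 2 ∧ Cfsg.Geo.IsNondegenerateOn (QuadraticMap.polar Q) W ∧ Cfsg.Geo.IsPlusTypeOn Q W ∧ H = Cfsg.Geo.subspaceStabilizer W ⊓ Cfsg.Geo.omegaGL Q) ∨
    (∃ W : Submodule F (Fin 12 → F), Module.finrank F W = 4 ∧ Cfsg.Geo.IsNondegenerateOn (QuadraticMap.polar Q) W ∧ H = Cfsg.Geo.subspaceStabilizer W ⊓ Cfsg.Geo.omegaGL Q) ∨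
    (¬ Odd (Fintype.card F) ∧ ∃ v : (Fin 12 → F), Q v ≠ 0 ∧ H = Cfsg.Geo.subspaceStabilizer (Submodule.span F {v}) ⊓ Cfsg.Geo.omegaGL Q) ∨
    ((∃ p : ℕ, p.Prime ∧ Odd p ∧ Fintype.card F = p) ∧ ∃ D : Fin 12 → Submodule F (Fin 12 → F), Cfsg.Geo.IsOrthogonalMDecomposition Q 1 D ∧ H = Cfsg.Geo.decompositionStabilizer D ⊓ Cfsg.Geo.omegaGL Q) ∨
    (7 ≤ Fintype.card F ∧ ∃ D : Fin 6 → Submodule F (Fin 12 → F), Cfsg.Geo.IsOrthogonalMDecomposition Q 2 D ∧ (∀ i, Cfsg.Geo.IsPlusTypeOn Q (D i)) ∧ H = Cfsg.Geo.decompositionStabilizer D ⊓ Cfsg.Geo.omegaGL Q) ∨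
    (Fintype.card F ≠ 3 ∧ ∃ D : Fin 6 → Submodule F (Fin 12 → F), Cfsg.Geo.IsOrthogonalMDecomposition Q 2 D ∧ (∀ i, ¬ Cfsg.Geo.IsPlusTypeOn Q (D i)) ∧ H = Cfsg.Geo.decompositionStabilizer D ⊓ Cfsg.Geo.omegaGL Q) ∨
    (Odd (Fintype.card F) ∧ 5 ≤ Fintype.card F ∧ ∃ D : Fin 4 → Submodule F (Fin 12 → F), Cfsg.Geo.IsOrthogonalMDecomposition Q 3 D ∧ H = Cfsg.Geo.decompositionStabilizer D ⊓ Cfsg.Geo.omegaGL Q) ∨
    (3 ≤ Fintype.card F ∧ ∃ D : Fin 3 → Submodule F (Fin 12 → F), Cfsg.Geo.IsOrthogonalMDecomposition Q 4 D ∧ H = Cfsg.Geo.decompositionStabilizer D ⊓ Cfsg.Geo.omegaGL Q) ∨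
    (∃ D : Fin 2 → Submodule F (Fin 12 → F), Cfsg.Geo.IsOrthogonalMDecomposition Q 6 D ∧ H = Cfsg.Geo.decompositionStabilizer D ⊓ Cfsg.Geo.omegaGL Q) ∨
    (∃ D : Fin 2 → Submodule F (Fin 12 → F), Cfsg.Geo.IsMDecomposition 6 D ∧ (∀ i, Cfsg.Geo.IsTotallySingularQuad Q (D i)) ∧ H = Cfsg.Geo.decompositionStabilizer D ⊓ Cfsg.Geo.omegaGL Q) ∨
    (∃ K : Subalgebra F (Matrix (Fin 12) (Fin 12) F), Cfsg.Geo.IsFieldSubalgebra 2 K ∧ H = Cfsg.Geo.subalgebraNormalizer K ⊓ Cfsg.Geo.omegaGL Q) ∨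
    (∃ K : Subalgebra F (Matrix (Fin 12) (Fin 12) F), Cfsg.Geo.IsFieldSubalgebra 3 K ∧ H = Cfsg.Geo.subalgebraNormalizer K ⊓ Cfsg.Geo.omegaGL Q) ∨
    (∃ K : Subalgebra F (Matrix (Fin 12) (Fin 12) F), Cfsg.Geo.IsFieldSubalgebra 2 K ∧ Cfsg.Geo.IsAdjointClosedFor (QuadraticMap.polar Q) K ∧ ¬ Cfsg.Geo.IsSelfAdjointFor (QuadraticMap.polar Q) K ∧ (∀ k ∈ K, ∃ c : F, ∀ v : (Fin 12 → F), Q (Matrix.mulVec k v) = c * Q v) ∧ H = Cfsg.Geo.subalgebraNormalizer K ⊓ Cfsg.Geo.omegaGL Q) ∨
    (3 ≤ Fintype.card F ∧ ∃ (e : Fin 12 ≃ Fin 2 × Fin 6) (P : Matrix.GeneralLinearGroup (Fin 12) F) (f₁ : (Fin 2 → F) → (Fin 2 → F) → F) (f₂ : (Fin 6 → F) → (Fin 6 → F) → F), Cfsg.Geo.IsSymplecticForm f₁ ∧ Cfsg.Geo.IsSymplecticForm f₂ ∧ Cfsg.Geo.IsTensorFormStructure id (QuadraticMap.polar Q) f₁ f₂ e P ∧ (∀ (x₁ : Fin 2 → F) (x₂ : Fin 6 → F), Q (Matrix.mulVec (P : Matrix (Fin 12) (Fin 12) F) ((fun a : Fin 2 × Fin 6 => x₁ a.1 * x₂ a.2) ∘ e)) = 0) ∧ H = Cfsg.Geo.tensorProductSubgroup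 2 6 e P ⊓ Cfsg.Geo.omegaGL Q) ∨
    (∃ (F₀ : Subfield F) (r : ℕ) (P : Matrix.GeneralLinearGroup (Fin 12) F) (ζ : F), r.Prime ∧ Fintype.card F = Nat.card F₀ ^ r ∧ ζ ≠ 0 ∧ Cfsg.Geo.IsQuadFormRationalStructure (fun v : Fin 12 → F => ζ * Q v) F₀ P ∧ H = Cfsg.Geo.subfieldSubgroup F₀ P ⊓ Cfsg.Geo.omegaGL Q) ∨
    Cfsg.Geo.InOrthogonalResidualClass H := by
  have hι : Fintype.card (Fin 12) = 2 * 6 := by simp
  by_cases hirr : Cfsg.Geo.ActsIrreducibly (Cfsg.Geo.matrixSet H)
  swap
  · rcases reducible_outcome hQ hι (Or.inr rfl) hH hirr with ⟨W, h0, hW, hd, he⟩ | ⟨hq, W, h0, h1, ho, hd, hn, he⟩ |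
      ⟨W, hd, hn, hp, he⟩ | ⟨hq, W, hd, hn, hp, he⟩ | ⟨W, hd, hn, he⟩ | ⟨hq, v, hv, he⟩ | ⟨W, hd, hn, hle, he⟩
    · left; exact ⟨W, h0, hW, fun h => hd hplus (by omega), he⟩
    · right; left; exact ⟨hq, W, h0, h1, ho, by omega, hn, he⟩
    · iterate 2 right
      left; exact ⟨W, hd, hn, hp, he⟩
    · iterate 3 right
      left; exact ⟨hq, W, hd, hn, hp, he⟩
    · iterate 4 right
      left; exact ⟨W, hd, hn, he⟩
    · iterate 5 right
      left; exact ⟨hq, v, hv, he⟩
    · obtain ⟨D, -, hD, hp, hsup, hDle⟩ := halves_decomposition hQ hι (by norm_num) hH.1.le hn hd hle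
      iterate 11 right
      left; exact ⟨D, isOrth_two hD (halves_isometric hQ hD hp hsup hplus),
        decomposition_eq hQ (by simp) hH hD (by norm_num) (by norm_num) hDle⟩
  rcases irreducible_outcome hQ hι (Or.inr rfl) hH hirr with ⟨t, k, D, htk, hD, hle⟩ | ⟨-, -, D, hD, hTS, he⟩ |
    ⟨s, K, hs, hdvd, hK, -, -, he⟩ | ⟨-, -, hq, htensor⟩ | ⟨-, hm, -⟩ | hsub | hres
  · have lines : ∀ D : Fin 12 → Submodule F (Fin 12 → F), Cfsg.Geo.IsOrthogonalMDecomposition Q 1 D →
        H ≤ Cfsg.Geo.decompositionStabilizer D →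
        ((∃ p : ℕ, p.Prime ∧ Odd p ∧ Fintype.card F = p) ∧ ∃ D : Fin 12 → Submodule F (Fin 12 → F),
          Cfsg.Geo.IsOrthogonalMDecomposition Q 1 D ∧ H = Cfsg.Geo.decompositionStabilizer D ⊓ Cfsg.Geo.omegaGL Q) ∨
        (∃ (F₀ : Subfield F) (r : ℕ) (P : Matrix.GeneralLinearGroup (Fin 12) F) (ζ : F), r.Prime ∧
          Fintype.card F = Nat.card F₀ ^ r ∧ ζ ≠ 0 ∧
          Cfsg.Geo.IsQuadFormRationalStructure (fun v : Fin 12 → F => ζ * Q v) F₀ P ∧
          H = Cfsg.Geo.subfieldSubgroup F₀ P ⊓ Cfsg.Geo.omegaGL Q) := by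
      intro D hD hle
      obtain ⟨h2, ⟨hp, he⟩ | hsub⟩ := lines_cases hQ (by simp) (by simp) hH hD hle
      · exact Or.inl ⟨⟨_, hp, odd_card_of_two_ne_zero h2, rfl⟩, D, hD, he⟩
      · exact Or.inr hsub
    rcases even_factors (by omega) hD.decomp.decomp.two_le with ⟨rfl, rfl⟩ | ⟨rfl, rfl⟩ | ⟨rfl, rfl⟩ | ⟨rfl, rfl⟩ |
      ⟨rfl, rfl⟩
    · rcases lines D hD hle with h | h
      · iterate 6 right
        left; exact h
      · iterate 17 right
        left; exact h
    · have he := decomposition_eq hQ (by simp) hH hD.decomp le_rfl (by norm_num) hle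
      by_cases hp : Cfsg.Geo.IsPlusTypeOn Q (D 0)
      · have hall : ∀ i, Cfsg.Geo.IsPlusTypeOn Q (D i) := fun i => plus_of_isometric hQ (hD.isometric 0 i) hp
        have hq : 7 ≤ Fintype.card F := by
          by_contra hc
          exact small_planes_false hQ hH (by norm_num) hD hle (Or.inl ⟨hall, by omega⟩)
        iterate 7 right
        left; exact ⟨hq, D, hD, hall, he⟩
      · have hall : ∀ i, ¬ Cfsg.Geo.IsPlusTypeOn Q (D i) := fun i h => hp (plus_of_isometric hQ (hD.isometric i 0) h)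
        have hq : Fintype.card F ≠ 3 := fun h3 => small_planes_false hQ hH (by norm_num) hD hle (Or.inr h3)
        iterate 8 right
        left; exact ⟨hq, D, hD, hall, he⟩
    · have h2 : (2 : F) ≠ 0 := two_ne_zero_of_odd_nondegenerate hQ (hD.decomp.nondegenerate 0)
        (by rw [hD.decomp.decomp.finrank_eq]; decide)
      obtain ⟨j, hj⟩ := odd_card_of_two_ne_zero h2
      by_cases h3 : Fintype.card F = 3
      · obtain ⟨D', hD', hle'⟩ := frame_of_three hQ h3 (n := 12) (by simp) (by norm_num) hH.1.le hirr hD hle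
        rcases lines D' hD' hle' with h | h
        · iterate 6 right
          left; exact h
        · iterate 17 right
          left; exact h
      · iterate 9 right
        left
        exact ⟨⟨j, hj⟩, by have := Fintype.one_lt_card (α := F); omega, D, hD,
          decomposition_eq hQ (by simp) hH hD.decomp (by norm_num) (by norm_num) hle⟩
    · have hall : ∀ i, Cfsg.Geo.IsPlusTypeOn Q (D i) := fun i =>
        ((plus_iff_of_even_members hQ (k := 2) hD i).1 hplus).resolve_left (by decide)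
      have hq : 3 ≤ Fintype.card F := by
        by_contra hc
        have := Fintype.one_lt_card (α := F)
        exact small_fours_false hQ hH le_rfl hD hle hall (by omega)
      iterate 10 right
      left; exact ⟨hq, D, hD, decomposition_eq hQ (by simp) hH hD.decomp (by norm_num) (by norm_num) hle⟩
    · iterate 11 right
      left; exact ⟨D, hD, decomposition_eq hQ (by simp) hH hD.decomp (by norm_num) (by norm_num) hle⟩
  · iterate 12 right
    left; exact ⟨D, hD, hTS, he⟩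
  · have : s = 2 ∨ s = 3 := by
      have h := Nat.le_of_dvd (by norm_num) hdvd
      have := hs.two_le
      interval_cases s <;> first | omega | (norm_num at hdvd; done) | (norm_num at hs; done)
    rcases this with rfl | rfl
    · iterate 13 right
      left; exact ⟨K, hK, he⟩
    · iterate 14 right
      left; exact ⟨K, hK, he⟩
  · iterate 16 right
    left; exact ⟨hq, htensor⟩
  · exact absurd hplus hm
  · iterate 17 right
    left; exact hsub
  · iterate 18 right
    exact hres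

end Cfsg.Agent.S5871
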