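import Cfsg.Statements.S5874
import Cfsg.Agent.Lib.Geo.AschEvenFinal

set_option autoImplicit false
open Cfsg CfsgLib.Geo CfsgLib.Geo.AschEven

namespace Cfsg.Agent.S5874

/-- Every maximal subgroup of Ω_12^-(q) is of one of the listed geometric types or lies in the residual class. Let F be a finite field with q elements (characteristic p), Q a non-degenerate quadratic form on F^12 of minus type (Witt index 5: no totally singular 6-space), Ω the commutator subgroup of its isometry group, and H a maximal subgroup of Ω (inside GL_12(F)). Then H is the intersection with Ω of one of: the stabiliser of a non-zero totally singular subspace; for q odd, the stabiliser of a non-degenerate subspace of odd dimension; the stabiliser of a non-degenerate 2-space of minus type; for q ≥ 4, the stabiliser of a non-degenerate 2-space of plus type; the stabiliser of a non-degenerate 4-space; the stabiliser of a non-degenerate 6-space; for q even, the stabiliser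 of the span of a non-singular vector; the stabiliser of a decomposition into 3 pairwise orthogonal, pairwise isometric non-degenerate 4-spaces of minus type; the normaliser of a degree-2 subfield of the matrix algebra; the normaliser of a degree-3 subfield of the matrix algebra; for q odd with q ≥ 5, the stabiliser of a tensor decomposition of the polar form into symmetric forms on F^3 and F^4 (minus type); a subfield group (|F| = |F₀|^r, r odd prime) whose F₀-structure carries a non-zero multiple of Q — or else H lies in the residual class of the orthogonal case (modulo scalars H is almost simple, with absolutely irreducible perfect socle preimage realisable over no proper subfield and fixing no non-degenerate unitary form). -/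
theorem result {F : Type*} [Field F] [Fintype F] (Q : (Fin 12 → F) → F) (hQ : Cfsg.Geo.IsNondegenerateQuadraticForm Q) (hminus : ¬ Cfsg.Geo.IsPlusTypeOn Q ⊤) (H : Subgroup (Matrix.GeneralLinearGroup (Fin 12) F)) (hH : Cfsg.Geo.IsMaximalIn (Cfsg.Geo.omegaGL Q) H) :
    (∃ W : Submodule F (Fin 12 → F), W ≠ ⊥ ∧ Cfsg.Geo.IsTotallySingularQuad Q W ∧ H = Cfsg.Geo.subspaceStabilizer W ⊓ Cfsg.Geo.omegaGL Q) ∨
    (Odd (Fintype.card F) ∧ ∃ W : Submodule F (Fin 12 → F), W ≠ ⊥ ∧ W ≠ ⊤ ∧ Odd (Module.finrank F W) ∧ 2 * Module.finrank F W ≠ 12 ∧ Cfsg.Geo.IsNondegenerateOn (QuadraticMap.polar Q) W ∧ H = Cfsg.Geo.subspaceStabilizer W ⊓ Cfsg.Geo.omegaGL Q) ∨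
    (∃ W : Submodule F (Fin 12 → F), Module.finrank F W = 2 ∧ Cfsg.Geo.IsNondegenerateOn (QuadraticMap.polar Q) W ∧ ¬ Cfsg.Geo.IsPlusTypeOn Q W ∧ H = Cfsg.Geo.subspaceStabilizer W ⊓ Cfsg.Geo.omegaGL Q) ∨
    (4 ≤ Fintype.card F ∧ ∃ W : Submodule F (Fin 12 → F), Module.finrank F W = 2 ∧ Cfsg.Geo.IsNondegenerateOn (QuadraticMap.polar Q) W ∧ Cfsg.Geo.IsPlusTypeOn Q W ∧ H = Cfsg.Geo.subspaceStabilizer W ⊓ Cfsg.Geo.omegaGL Q) ∨
    (∃ W : Submodule F (Fin 12 → F), Module.finrank F W = 4 ∧ Cfsg.Geo.IsNondegenerateOn (QuadraticMap.polar Q) W ∧ H = Cfsg.Geo.subspaceStabilizer W ⊓ Cfsg.Geo.omegaGL Q) ∨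
    (∃ W : Submodule F (Fin 12 → F), Module.finrank F W = 6 ∧ Cfsg.Geo.IsNondegenerateOn (QuadraticMap.polar Q) W ∧ H = Cfsg.Geo.subspaceStabilizer W ⊓ Cfsg.Geo.omegaGL Q) ∨
    (¬ Odd (Fintype.card F) ∧ ∃ v : (Fin 12 → F), Q v ≠ 0 ∧ H = Cfsg.Geo.subspaceStabilizer (Submodule.span F {v}) ⊓ Cfsg.Geo.omegaGL Q) ∨
    (∃ D : Fin 3 → Submodule F (Fin 12 → F), Cfsg.Geo.IsOrthogonalMDecomposition Q 4 D ∧ (∀ i, ¬ Cfsg.Geo.IsPlusTypeOn Q (D i)) ∧ H = Cfsg.Geo.decompositionStabilizer D ⊓ Cfsg.Geo.omegaGL Q) ∨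
    (∃ K : Subalgebra F (Matrix (Fin 12) (Fin 12) F), Cfsg.Geo.IsFieldSubalgebra 2 K ∧ H = Cfsg.Geo.subalgebraNormalizer K ⊓ Cfsg.Geo.omegaGL Q) ∨
    (∃ K : Subalgebra F (Matrix (Fin 12) (Fin 12) F), Cfsg.Geo.IsFieldSubalgebra 3 K ∧ H = Cfsg.Geo.subalgebraNormalizer K ⊓ Cfsg.Geo.omegaGL Q) ∨
    (Odd (Fintype.card F) ∧ 5 ≤ Fintype.card F ∧ ∃ (e : Fin 12 ≃ Fin 3 × Fin 4) (P : Matrix.GeneralLinearGroup (Fin 12) F) (f₁ : (Fin 3 → F) → (Fin 3 → F) → F) (f₂ : (Fin 4 → F) → (Fin 4 → F) → F), Cfsg.Geo.IsSymmetricForm f₁ ∧ Cfsg.Geo.IsSymmetricForm f₂ ∧ ¬ Cfsg.Geo.IsPlusTypeOn (fun v : Fin 4 → F => f₂ v v) ⊤ ∧ Cfsg.Geo.IsTensorFormStructure id (QuadraticMap.polar Q) f₁ f₂ e P ∧ H = Cfsg.Geo.tensorProductSubgroup 3 4 e P ⊓ Cfsg.Geo.omegaGL Q) ∨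
    (∃ (F₀ : Subfield F) (r : ℕ) (P : Matrix.GeneralLinearGroup (Fin 12) F) (ζ : F), r.Prime ∧ Odd r ∧ Fintype.card F = Nat.card F₀ ^ r ∧ ζ ≠ 0 ∧ Cfsg.Geo.IsQuadFormRationalStructure (fun v : Fin 12 → F => ζ * Q v) F₀ P ∧ H = Cfsg.Geo.subfieldSubgroup F₀ P ⊓ Cfsg.Geo.omegaGL Q) ∨
    Cfsg.Geo.InOrthogonalResidualClass H := by
  have hι : Fintype.card (Fin 12) = 2 * 6 := by simp
  by_cases hirr : Cfsg.Geo.ActsIrreducibly (Cfsg.Geo.matrixSet H)
  swap
  · rcases reducible_outcome hQ hι (Or.inr rfl) hH hirr with ⟨W, h0, hW, hd, he⟩ | ⟨hq, W, h0, h1, ho, hd, hn, he⟩ |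
      ⟨W, hd, hn, hp, he⟩ | ⟨hq, W, hd, hn, hp, he⟩ | ⟨W, hd, hn, he⟩ | ⟨hq, v, hv, he⟩ | ⟨W, hd, hn, hle, he⟩
    · left; exact ⟨W, h0, hW, he⟩
    · right; left; exact ⟨hq, W, h0, h1, ho, by omega, hn, he⟩
    · iterate 2 right
      left; exact ⟨W, hd, hn, hp, he⟩
    · iterate 3 right
      left; exact ⟨hq, W, hd, hn, hp, he⟩
    · iterate 4 right
      left; exact ⟨W, hd, hn, he⟩
    · iterate 6 right
      left; exact ⟨hq, v, hv, he⟩
    · iterate 5 right
      left; exact ⟨W, hd, hn, he⟩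
  rcases irreducible_outcome hQ hι (Or.inr rfl) hH hirr with ⟨t, k, D, htk, hD, hle⟩ | ⟨-, hp, -⟩ |
    ⟨s, K, hs, hdvd, hK, -, -, he⟩ | ⟨-, hp, -⟩ | ⟨-, -, hq, hq5, htensor⟩ | ⟨F₀, r, P, ζ, hr, hc, hζ, hrat, he⟩ | hres
  · have heven : ∀ {t k : ℕ} {D : Fin t → Submodule F (Fin 12 → F)}, Even t →
        Cfsg.Geo.IsOrthogonalMDecomposition Q (2 * k) D → False := fun {t k D} ht hD =>
      hminus ((plus_iff_of_even_members hQ hD ⟨0, lt_of_lt_of_le two_pos hD.decomp.decomp.two_le⟩).2 (Or.inl ht))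
    rcases even_factors (by omega) hD.decomp.decomp.two_le with ⟨rfl, rfl⟩ | ⟨rfl, rfl⟩ | ⟨rfl, rfl⟩ | ⟨rfl, rfl⟩ |
      ⟨rfl, rfl⟩
    · have h2 : (2 : F) ≠ 0 := two_ne_zero_of_odd_nondegenerate hQ (hD.decomp.nondegenerate 0)
        (by rw [hD.decomp.decomp.finrank_eq]; decide)
      exact absurd ((plus_iff_of_odd_members hQ h2 (k := 6) rfl odd_one hD).2 (Or.inl (by decide))) hminus
    · exact (heven (k := 1) (by decide) hD).elim
    · have h2 : (2 : F) ≠ 0 := two_ne_zero_of_odd_nondegenerate hQ (hD.decomp.nondegenerate 0)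
        (by rw [hD.decomp.decomp.finrank_eq]; decide)
      exact absurd ((plus_iff_of_odd_members hQ h2 (k := 2) rfl (by decide) hD).2 (Or.inl (by decide))) hminus
    · have hall : ∀ i, ¬ Cfsg.Geo.IsPlusTypeOn Q (D i) := fun i h =>
        hminus ((plus_iff_of_even_members hQ (k := 2) hD i).2 (Or.inr h))
      iterate 7 right
      left; exact ⟨D, hD, hall, decomposition_eq hQ (by simp) hH hD.decomp (by norm_num) (by norm_num) hle⟩
    · exact (heven (k := 3) (by decide) hD).elim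
  · exact absurd hp hminus
  · have : s = 2 ∨ s = 3 := by
      have h := Nat.le_of_dvd (by norm_num) hdvd
      have := hs.two_le
      interval_cases s <;> first | omega | (norm_num at hdvd; done) | (norm_num at hs; done)
    rcases this with rfl | rfl
    · iterate 8 right
      left; exact ⟨K, hK, he⟩
    · iterate 9 right
      left; exact ⟨K, hK, he⟩
  · exact absurd hp hminus
  · iterate 10 right
    left; exact ⟨hq, hq5, htensor⟩
  · iterate 11 right
    left; exact ⟨F₀, r, P, ζ, hr, odd_index_of_minus hQ hι hminus hr hc P hζ hrat, hc, hζ, hrat, he⟩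
  · iterate 12 right
    exact hres

end Cfsg.Agent.S5874
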