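import Cfsg.Statements.S5876
import Cfsg.Agent.Lib.Geo.Primitive

set_option autoImplicit false
open Cfsg

namespace Cfsg.Agent.S5876

open CfsgLib.Geo.Primitive

/-- Fixed-point spaces in primitive soluble linear groups. Let F be a finite field and G a soluble subgroup of GL_n(F) that acts irreducibly on F^n and primitively (G preserves no decomposition of F^n into two or more independent subspaces of equal dimension). Then every non-identity element g of G has fixed-point space {v : g v = v} of dimension at most 3n/4. -/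
theorem result {F : Type*} [Field F] [Fintype F] {n : ℕ} (G : Subgroup (Matrix.GeneralLinearGroup (Fin n) F)) (hsol : IsSolvable G) (hirr : Cfsg.Geo.ActsIrreducibly (Cfsg.Geo.matrixSet G)) (hprim : ∀ (m t : ℕ) (D : Fin t → Submodule F (Fin n → F)), 2 ≤ t → Cfsg.Geo.IsMDecomposition m D → ¬ G ≤ Cfsg.Geo.decompositionStabilizer D) (g : Matrix.GeneralLinearGroup (Fin n) F) (hg : g ∈ G) (hg1 : g ≠ 1) :
    4 * Module.finrank F (Module.End.eigenspace (Matrix.toLin' (g : Matrix (Fin n) (Fin n) F)) 1) ≤ 3 * n := by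
  classical
  set d : Matrix.GeneralLinearGroup (Fin n) F → ℕ :=
    fun h => Module.finrank F (Module.End.eigenspace (Matrix.toLin' (h : Matrix (Fin n) (Fin n) F)) 1) with hd
  -- maximal abelian normalised subgroup
  let PA : Subgroup (Matrix.GeneralLinearGroup (Fin n) F) → Prop :=
    fun A => A ≤ G ∧ Inv G A ∧ ∀ a ∈ A, ∀ b ∈ A, a * b = b * a
  have hPA : PA ⊥ := ⟨bot_le, fun k _ x hx => by simp [Subgroup.mem_bot.1 hx],
    fun a ha b hb => by simp [Subgroup.mem_bot.1 ha, Subgroup.mem_bot.1 hb]⟩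
  obtain ⟨A, ⟨hAG, hAinv, hAcomm⟩, hAmax⟩ := (Set.toFinite {A | PA A}).exists_maximal ⟨⊥, hPA⟩
  have hfree : ∀ a ∈ A, a ≠ 1 → d a = 0 := by
    intro a ha ha1
    simp only [hd]
    rw [fix_eq_bot G hirr hprim A hAinv hAcomm a ha ha1, finrank_bot]
  set C := G ⊓ Subgroup.centralizer (A : Set (Matrix.GeneralLinearGroup (Fin n) F)) with hC
  have hAC : A ≤ C := fun a ha => ⟨hAG ha, Subgroup.mem_centralizer_iff.2 fun b hb => hAcomm b hb a ha⟩
  by_cases hgC : g ∉ C
  · obtain ⟨a, ha, hne⟩ : ∃ a ∈ A, g * a * g⁻¹ * a⁻¹ ≠ 1 := by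
      by_contra h
      push Not at h
      refine hgC ⟨hg, Subgroup.mem_centralizer_iff.2 fun a ha => ?_⟩
      have h1 := mul_inv_eq_one.1 (h a ha)
      exact (mul_inv_eq_iff_eq_mul.1 h1).symm
    have h1 := two_fix_le g a
    have h2 := hfree _ (A.mul_mem (hAinv g hg a ha) (A.inv_mem ha)) hne
    simp only [hd] at h2
    omega
  push Not at hgC
  by_cases hgA : g ∈ A
  · have h2 := hfree g hgA hg1
    simp only [hd] at h2
    omega
  -- maximal class two subgroup
  let PB : Subgroup (Matrix.GeneralLinearGroup (Fin n) F) → Prop :=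
    fun B => A ≤ B ∧ B ≤ C ∧ Inv G B ∧ ∀ a ∈ B, ∀ b ∈ B, a * b * a⁻¹ * b⁻¹ ∈ A
  have hPB : PB A := ⟨le_rfl, hAC, hAinv, fun a ha b hb => A.mul_mem (A.mul_mem (A.mul_mem ha hb) (A.inv_mem ha)) (A.inv_mem hb)⟩
  obtain ⟨B, ⟨hAB, hBC, hBinv, hBclass⟩, hBmax⟩ := (Set.toFinite {B | PB B}).exists_maximal ⟨A, hPB⟩
  have hZ : B ⊓ Subgroup.centralizer (B : Set (Matrix.GeneralLinearGroup (Fin n) F)) ≤ A := by
    refine hAmax ⟨inf_le_left.trans (hBC.trans inf_le_left), inv_inf hBinv (inv_centralizer hBinv), ?_⟩ ?_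
    · rintro a ⟨ha, -⟩ b ⟨-, hb⟩
      exact Subgroup.mem_centralizer_iff.1 hb a ha
    · intro a ha
      exact ⟨hAB ha, Subgroup.mem_centralizer_iff.2 fun b hb =>
        (Subgroup.mem_centralizer_iff.1 (hBC hb).2 a ha).symm⟩
  by_cases hgB : g ∉ Subgroup.centralizer (B : Set (Matrix.GeneralLinearGroup (Fin n) F))
  · obtain ⟨b, hb, hne⟩ : ∃ b ∈ B, g * b * g⁻¹ * b⁻¹ ≠ 1 := by
      by_contra h
      push Not at h
      refine hgB (Subgroup.mem_centralizer_iff.2 fun b hb => ?_)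
      exact (mul_inv_eq_iff_eq_mul.1 (mul_inv_eq_one.1 (h b hb))).symm
    have h1 := two_fix_le g b
    have hhB : g * b * g⁻¹ * b⁻¹ ∈ B := B.mul_mem (hBinv g hg b hb) (B.inv_mem hb)
    generalize g * b * g⁻¹ * b⁻¹ = h at h1 hne hhB
    by_cases hhA : h ∈ A
    · have h2 := hfree _ hhA hne
      simp only [hd] at h2
      omega
    obtain ⟨x, hx, hne'⟩ : ∃ x ∈ B, h * x * h⁻¹ * x⁻¹ ≠ 1 := by
      by_contra hall
      push Not at hall
      refine hhA (hZ ⟨hhB, Subgroup.mem_centralizer_iff.2 fun x hx => ?_⟩)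
      exact (mul_inv_eq_iff_eq_mul.1 (mul_inv_eq_one.1 (hall x hx))).symm
    have h3 := two_fix_le h x
    have h4 := hfree _ (hBclass h hhB x hx) hne'
    simp only [hd] at h4
    omega
  push Not at hgB
  exfalso
  set D0 := C ⊓ Subgroup.centralizer (B : Set (Matrix.GeneralLinearGroup (Fin n) F)) with hD0
  have hgD0 : g ∈ D0 := ⟨hgC, hgB⟩
  have hCinv : Inv G C := inv_inf (inv_self G) (inv_centralizer hAinv)
  have hD0inv : Inv G D0 := inv_inf hCinv (inv_centralizer hBinv)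
  let Ds : ℕ → Subgroup (Matrix.GeneralLinearGroup (Fin n) F) := fun i => Nat.rec D0 (fun _ X => ⁅X, X⁆) i
  have hDinv : ∀ i, Inv G (Ds i) := fun i => by
    induction i with
    | zero => exact hD0inv
    | succ i ih => exact inv_commutator ih ih
  have hDle : ∀ i, Ds i ≤ D0 := fun i => by
    induction i with
    | zero => exact le_rfl
    | succ i ih => exact (Subgroup.commutator_mono ih ih).trans (Subgroup.commutator_le_self D0)
  obtain ⟨N, hN⟩ := (Group.isSolvable_def G).1 hsol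
  have hDs : ∀ i, Ds i ≤ (derivedSeries G i).map G.subtype := fun i => by
    induction i with
    | zero =>
      intro x hx
      exact ⟨⟨x, hx.1.1⟩, Subgroup.mem_top _, rfl⟩
    | succ i ih =>
      show ⁅Ds i, Ds i⁆ ≤ _
      rw [derivedSeries_succ, Subgroup.map_commutator]
      exact Subgroup.commutator_mono ih ih
  have hex : ∃ i, Ds i ≤ A := ⟨N, (hDs N).trans (by rw [hN, Subgroup.map_bot]; exact bot_le)⟩
  obtain ⟨k, hk⟩ : ∃ k, Nat.find hex = k + 1 := by
    rcases h : Nat.find hex with _ | k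
    · have := Nat.find_spec hex
      rw [h] at this
      exact absurd (this hgD0) hgA
    · exact ⟨k, h⟩
  have hk1 : ⁅Ds k, Ds k⁆ ≤ A := by
    have := Nat.find_spec hex; rw [hk] at this; exact this
  have hk0 : ¬ Ds k ≤ A := Nat.find_min hex (by omega)
  have hcomm : ∀ b ∈ B, ∀ x ∈ Ds k, b * x = x * b := fun b hb x hx =>
    Subgroup.mem_centralizer_iff.1 (hDle k hx).2 b hb
  have hnorm : Ds k ≤ Subgroup.normalizer (B : Set (Matrix.GeneralLinearGroup (Fin n) F)) :=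
    fun x hx => (inf_le_left.trans inf_le_left : D0 ≤ G) (hDle k hx) |> fun hxG => by
      rw [Subgroup.mem_normalizer_iff]
      intro b
      refine ⟨fun hb => hBinv x hxG b hb, fun hb => ?_⟩
      have := hBinv x⁻¹ (inv_mem hxG) _ hb
      simpa [mul_assoc] using this
  have hle : Ds k ≤ B := by
    refine le_trans le_sup_left (hBmax (y := Ds k ⊔ B) ⟨hAB.trans le_sup_right,
      sup_le ((hDle k).trans inf_le_left) hBC, inv_sup (hDinv k) hBinv, ?_⟩ le_sup_right)
    intro u hu v hv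
    rw [← SetLike.mem_coe, Subgroup.coe_mul_of_left_le_normalizer_right _ _ hnorm] at hu hv
    obtain ⟨x, hx, b, hb, rfl⟩ := hu
    obtain ⟨y, hy, c, hc, rfl⟩ := hv
    have key : x * b * (y * c) * (x * b)⁻¹ * (y * c)⁻¹ = (x * y * x⁻¹ * y⁻¹) * (b * c * b⁻¹ * c⁻¹) := by
      have e1 : ∀ b ∈ B, ∀ x ∈ Ds k, Commute b x := hcomm
      have h1 := e1 b hb y hy
      calc x * b * (y * c) * (x * b)⁻¹ * (y * c)⁻¹
          = x * (b * y) * c * b⁻¹ * x⁻¹ * c⁻¹ * y⁻¹ := by group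
        _ = x * (y * b) * c * b⁻¹ * x⁻¹ * c⁻¹ * y⁻¹ := by rw [h1.eq]
        _ = (x * y) * ((b * c * b⁻¹) * x⁻¹) * c⁻¹ * y⁻¹ := by group
        _ = (x * y) * (x⁻¹ * (b * c * b⁻¹)) * c⁻¹ * y⁻¹ := by
            rw [((e1 _ (B.mul_mem (B.mul_mem hb hc) (B.inv_mem hb)) x hx).inv_right).eq]
        _ = x * y * x⁻¹ * ((b * c * b⁻¹ * c⁻¹) * y⁻¹) := by group
        _ = x * y * x⁻¹ * (y⁻¹ * (b * c * b⁻¹ * c⁻¹)) := by
            rw [((e1 _ (B.mul_mem (B.mul_mem (B.mul_mem hb hc) (B.inv_mem hb)) (B.inv_mem hc)) y hy).inv_right).eq]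
        _ = (x * y * x⁻¹ * y⁻¹) * (b * c * b⁻¹ * c⁻¹) := by group
    show x * b * (y * c) * (x * b)⁻¹ * (y * c)⁻¹ ∈ A
    rw [key]
    exact A.mul_mem (hk1 (Subgroup.commutator_mem_commutator hx hy)) (hBclass b hb c hc)
  exact hk0 (fun x hx => hZ ⟨hle hx, (hDle k hx).2⟩)

end Cfsg.Agent.S5876
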