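import Cfsg.Statements.S5877
import Cfsg.Agent.Lib.ExtraEigen.Main

set_option autoImplicit false
open Cfsg

namespace Cfsg.Agent.S5877

open CfsgLib.ExtraEigen in
theorem bounds {K V A : Type*} [Field K] [IsAlgClosed K] [AddCommGroup V] [Module K V] [FiniteDimensional K V]
    [CommGroup A] [Fintype A] {r ϖ : ℕ} (S : Sys K V A r ϖ) (t : K) :
    (ϖ = 2 → 4 * Module.finrank K (Module.End.eigenspace S.g t) ≤ 3 * Module.finrank K V) ∧
    (ϖ = 3 → 3 * Module.finrank K (Module.End.eigenspace S.g t) ≤ 2 * Module.finrank K V) ∧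
    (3 < ϖ → 2 * Module.finrank K (Module.End.eigenspace S.g t) ≤ Module.finrank K V) ∧
    (ϖ = 3 → ¬ 3 ∣ Module.finrank K V → 2 * Module.finrank K (Module.End.eigenspace S.g t) ≤ Module.finrank K V) :=
  ⟨fun _ => S.bound_two_case t, fun h => S.bound_three_case h t, fun h => S.bound_large_case h t,
    fun h hn => S.bound_three_coprime h hn t⟩

theorem eq_smul_of_mk {F : Type*} [Field F] {n : ℕ} {u v : Matrix.GeneralLinearGroup (Fin n) F}
    (h : (QuotientGroup.mk u : _ ⧸ Cfsg.Geo.scalars (Fin n) F) = QuotientGroup.mk v) :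
    ∃ k : Fˣ, (u : Matrix (Fin n) (Fin n) F) = (k : F) • (v : Matrix (Fin n) (Fin n) F) := by
  rw [eq_comm, QuotientGroup.eq, Cfsg.Geo.mem_scalars_iff] at h
  obtain ⟨k, hk⟩ := h
  refine ⟨k, ?_⟩
  have h1 := congrArg (fun M => (v : Matrix (Fin n) (Fin n) F) * M) hk
  simpa [← Matrix.mul_assoc, mul_smul_comm] using h1

theorem finrank_eig_le {F : Type*} [Field F] {n : ℕ} (K : Type*) [Field K] [Algebra F K]
    (g : Matrix (Fin n) (Fin n) F) (c : F) :
    Module.finrank F (Module.End.eigenspace (Matrix.toLin' g) c) ≤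
      Module.finrank K (Module.End.eigenspace
        (Matrix.toLin' (g.map (algebraMap F K))) (algebraMap F K c)) := by
  classical
  set W := Module.End.eigenspace (Matrix.toLin' g) c
  set d := Module.finrank F W
  let b := Module.finBasis F W
  set L₂ : (Fin d → F) →ₗ[F] (Fin n → F) := W.subtype ∘ₗ b.equivFun.symm.toLinearMap with hL₂
  have hinj : Function.Injective L₂ := by
    rw [hL₂, LinearMap.coe_comp]
    exact W.injective_subtype.comp b.equivFun.symm.injective
  obtain ⟨L₁, hL₁⟩ := L₂.exists_leftInverse_of_injective (LinearMap.ker_eq_bot.mpr hinj)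
  have hgB : g * LinearMap.toMatrix' L₂ = c • LinearMap.toMatrix' L₂ := by
    have h : Matrix.toLin' g ∘ₗ L₂ = c • L₂ := by
      apply LinearMap.ext
      intro v
      exact Module.End.mem_eigenspace_iff.mp (b.equivFun.symm v).2
    have h' := congrArg LinearMap.toMatrix' h
    rwa [LinearMap.toMatrix'_comp, LinearMap.toMatrix'_toLin', map_smul] at h'
  have hPB : LinearMap.toMatrix' L₁ * LinearMap.toMatrix' L₂ = 1 := by
    rw [← LinearMap.toMatrix'_comp, hL₁, LinearMap.toMatrix'_id]
  set σ := algebraMap F K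
  set B := (LinearMap.toMatrix' L₂).map σ
  have hPB' : (LinearMap.toMatrix' L₁).map σ * B = 1 := by
    rw [← Matrix.map_mul, hPB, Matrix.map_one σ (map_zero σ) (map_one σ)]
  have hgB' : g.map σ * B = σ c • B := by
    rw [← Matrix.map_mul, hgB]
    ext i j
    simp [B]
  have hBinj : Function.Injective (Matrix.toLin' B) := by
    intro x y hxy
    have h := congrArg (Matrix.toLin' ((LinearMap.toMatrix' L₁).map σ)) hxy
    rwa [← LinearMap.comp_apply, ← LinearMap.comp_apply, ← Matrix.toLin'_mul, hPB', Matrix.toLin'_one,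
      LinearMap.id_apply, LinearMap.id_apply] at h
  have hle : LinearMap.range (Matrix.toLin' B) ≤
      Module.End.eigenspace (Matrix.toLin' (g.map σ)) (σ c) := by
    rintro _ ⟨v, rfl⟩
    rw [Module.End.mem_eigenspace_iff, ← LinearMap.comp_apply, ← Matrix.toLin'_mul, hgB', map_smul,
      LinearMap.smul_apply]
  have h := Submodule.finrank_mono hle
  rwa [LinearMap.finrank_range_of_inj hBinj, Module.finrank_fin_fun] at h

theorem span_full {F A : Type*} [Field F] [Fintype A] {n : ℕ} (x y : A → Matrix (Fin n) (Fin n) F)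
    (hyx : ∀ a, y a * x a = 1) (hA : (Fintype.card A : F) ≠ 0)
    (hsc : ∀ M, ∃ k : F, ∑ a, x a * M * y a = k • (1 : Matrix (Fin n) (Fin n) F))
    (M : Matrix (Fin n) (Fin n) F) : M ∈ Submodule.span F (Set.range x) := by
  classical
  choose a ha using fun i j => hsc (Matrix.single i j 1)
  have hent : ∀ i j k l, ∑ v, x v k i * y v j l = a i j * (1 : Matrix (Fin n) (Fin n) F) k l := by
    intro i j k l
    have h := congrFun (congrFun (ha i j) k) l
    rw [Matrix.sum_apply, Matrix.smul_apply, smul_eq_mul] at h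
    rw [← h]
    refine Finset.sum_congr rfl fun v _ => ?_
    simp [Matrix.mul_apply, Matrix.single_apply, ite_and]
  have htr : ∀ i j, (n : F) * a i j = (Fintype.card A : F) * (1 : Matrix (Fin n) (Fin n) F) j i := by
    intro i j
    calc (n : F) * a i j = ∑ k, a i j * (1 : Matrix (Fin n) (Fin n) F) k k := by simp
      _ = ∑ k, ∑ v, x v k i * y v j k := Finset.sum_congr rfl fun k _ => (hent i j k k).symm
      _ = ∑ v, (y v * x v) j i := by
          rw [Finset.sum_comm]
          simp only [Matrix.mul_apply, mul_comm]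
      _ = _ := by simp only [hyx, Finset.sum_const, Finset.card_univ, nsmul_eq_mul]
  have key : (Fintype.card A : F) • M = ∑ v, ((n : F) * (y v * M).trace) • x v := by
    ext k i
    rw [Matrix.smul_apply, Matrix.sum_apply, smul_eq_mul]
    simp only [Matrix.smul_apply, smul_eq_mul, Matrix.trace, Matrix.diag_apply, Matrix.mul_apply,
      Finset.mul_sum, Finset.sum_mul]
    rw [Finset.sum_comm]
    simp only [Finset.sum_comm (s := (Finset.univ : Finset A))]
    have e : ∀ j l v, (n : F) * (y v j l * M l j) * x v k i = (n : F) * M l j * (x v k i * y v j l) :=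
      fun j l v => by ring
    simp only [e, ← Finset.mul_sum, hent]
    simp only [Matrix.one_apply, mul_ite, mul_one, mul_zero, Finset.sum_ite_eq, Finset.mem_univ, if_true]
    rw [Finset.sum_congr rfl (fun j _ => show (n : F) * M k j * a i j = M k j * ((n : F) * a i j) by ring)]
    simp [htr, Matrix.one_apply, mul_comm]
  rw [← inv_smul_smul₀ hA M, key]
  exact Submodule.smul_mem _ _ (Submodule.sum_mem _ fun v _ =>
    Submodule.smul_mem _ _ (Submodule.subset_span ⟨v, rfl⟩))

/-- Eigenspaces of elements normalising an absolutely irreducible extraspecial group. Let F be a finite field, r a prime, and R ≤ GL_n(F) an absolutely irreducible extraspecial r-group (an r-group whose centre equals its derived subgroup and has order r) of exponent r or 4. Let g ∈ GL_n(F) normalise the product of R with the scalar matrices, have prime order ϖ and not be scalar, and let W be the eigenspace of g for any c ∈ F (W may be the zero subspace). Then dim W ≤ 3n/4 if ϖ = 2, dim W ≤ 2n/3 if ϖ = 3,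 and dim W ≤ n/2 if ϖ > 3; moreover if ϖ = 3 and 3 does not divide n then dim W ≤ n/2. -/
theorem result {F : Type*} [Field F] [Fintype F] {n r ϖ : ℕ} (R : Subgroup (Matrix.GeneralLinearGroup (Fin n) F)) (hr : r.Prime) (hR : IsPGroup r R) (hZ : Nat.card (Subgroup.center R) = r) (hext : commutator R = Subgroup.center R) (hexp : Monoid.exponent R = r ∨ Monoid.exponent R = 4) (hirr : Cfsg.Geo.ActsAbsolutelyIrreducibly (Cfsg.Geo.matrixSet R)) (g : Matrix.GeneralLinearGroup (Fin n) F) (hg : g ∈ Cfsg.Geo.subgroupNormalizer (R ⊔ Cfsg.Geo.scalars (Fin n) F)) (hϖ : ϖ.Prime) (hord : orderOf g = ϖ) (hns : g ∉ Cfsg.Geo.scalars (Fin n) F) (c : F) :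
    (ϖ = 2 → 4 * Module.finrank F (Module.End.eigenspace (Matrix.toLin' (g : Matrix (Fin n) (Fin n) F)) c) ≤ 3 * n) ∧
    (ϖ = 3 → 3 * Module.finrank F (Module.End.eigenspace (Matrix.toLin' (g : Matrix (Fin n) (Fin n) F)) c) ≤ 2 * n) ∧
    (3 < ϖ → 2 * Module.finrank F (Module.End.eigenspace (Matrix.toLin' (g : Matrix (Fin n) (Fin n) F)) c) ≤ n) ∧
    (ϖ = 3 → ¬ 3 ∣ n → 2 * Module.finrank F (Module.End.eigenspace (Matrix.toLin' (g : Matrix (Fin n) (Fin n) F)) c) ≤ n) := by
  classical
clear hexp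
obtain ⟨-, hcomm⟩ := hirr
set Sc := Cfsg.Geo.scalars (Fin n) F with hSc
set σ := algebraMap F (AlgebraicClosure F) with hσ
-- centre = scalars in `R`
have hcen : ∀ z : R, z ∈ Subgroup.center R ↔ (z : Matrix.GeneralLinearGroup (Fin n) F) ∈ Sc := by
  intro z
  constructor
  · intro hz
    obtain ⟨k, hk⟩ := hcomm (z : Matrix.GeneralLinearGroup (Fin n) F) (by
      rintro _ ⟨y, hy, rfl⟩
      have h := congrArg (fun w : R => ((w : Matrix.GeneralLinearGroup (Fin n) F) : Matrix (Fin n) (Fin n) F))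
        (Subgroup.mem_center_iff.mp hz ⟨y, hy⟩)
      simpa using h.symm)
    rw [hSc, Cfsg.Geo.mem_scalars_iff]
    rcases eq_or_ne k 0 with hk0 | hk0
    · refine ⟨1, ?_⟩
      rcases isEmpty_or_nonempty (Fin n) with hn | hn
      · exact Subsingleton.elim _ _
      · exfalso
        exact (z : Matrix.GeneralLinearGroup (Fin n) F).ne_zero (by rw [hk, hk0, zero_smul])
    · exact ⟨Units.mk0 k hk0, hk⟩
  · intro hz
    rw [hSc, Cfsg.Geo.mem_scalars_iff] at hz
    obtain ⟨k, hk⟩ := hz
    refine Subgroup.mem_center_iff.mpr fun y => Subtype.ext (Units.ext ?_)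
    simp [hk]
have hnp : 0 < n := by
  by_contra h
  apply hns
  rw [Cfsg.Geo.mem_scalars_iff]
  have : IsEmpty (Fin n) := by rw [show n = 0 by omega]; infer_instance
  exact ⟨1, Subsingleton.elim _ _⟩
let π : R →* Matrix.GeneralLinearGroup (Fin n) F ⧸ Sc := (QuotientGroup.mk' Sc).comp R.subtype
have hπ : ∀ x : R, π x = 1 ↔ x ∈ Subgroup.center R := fun x =>
  (QuotientGroup.eq_one_iff _).trans (hcen x).symm
have hcomm' : ∀ a b : π.range, a * b = b * a := by
  rintro ⟨_, x, rfl⟩ ⟨_, y, rfl⟩
  apply Subtype.ext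
  show π x * π y = π y * π x
  rw [← map_mul, ← map_mul, ← mul_inv_eq_one, ← map_inv, ← map_mul, hπ, ← hext]
  have h := Subgroup.commutator_mem_commutator (Subgroup.mem_top x) (Subgroup.mem_top y)
  rw [commutatorElement_def] at h
  rwa [show x * y * (y * x)⁻¹ = x * y * x⁻¹ * y⁻¹ by group]
let instA : CommGroup π.range := { (inferInstance : Group π.range) with mul_comm := hcomm' }
have : Finite π.range := Finite.of_surjective π.rangeRestrict π.rangeRestrict_surjective
let instF : Fintype π.range := Fintype.ofFinite _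
-- centre has exponent `r`
have hzr : ∀ z ∈ Subgroup.center R, z ^ r = 1 := fun z hz => by
  have h : (⟨z, hz⟩ : Subgroup.center R) ^ Nat.card (Subgroup.center R) = 1 := pow_card_eq_one'
  rw [hZ] at h
  exact congrArg Subtype.val h
have hxr : ∀ x : R, x ^ r ∈ Subgroup.center R := by
  intro x
  refine Subgroup.mem_center_iff.mpr fun y => ?_
  have hz : x⁻¹ * (y * x * y⁻¹) ∈ Subgroup.center R := by
    have h := Subgroup.commutator_mem_commutator (Subgroup.mem_top x⁻¹) (Subgroup.mem_top y)
    rw [commutatorElement_def, inv_inv] at h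
    rw [← hext, show x⁻¹ * (y * x * y⁻¹) = x⁻¹ * y * x * y⁻¹ by group]
    exact h
  have h : y * x ^ r * y⁻¹ = x ^ r := by
    rw [← conj_pow, show y * x * y⁻¹ = x * (x⁻¹ * (y * x * y⁻¹)) by group,
      (show Commute x (x⁻¹ * (y * x * y⁻¹)) from Subgroup.mem_center_iff.mp hz x).mul_pow, hzr _ hz, mul_one]
  exact mul_inv_eq_iff_eq_mul.mp h
have hexpA : ∀ a : π.range, a ^ r = 1 := by
  rintro ⟨_, x, rfl⟩
  apply Subtype.ext
  show π x ^ r = 1
  rw [← map_pow, hπ]
  exact hxr x
-- section
choose sec hsec using fun a : π.range => a.2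
let s : π.range → R := Function.update sec 1 1
have hs1 : s 1 = 1 := Function.update_self ..
have hs : ∀ a, π (s a) = (a : Matrix.GeneralLinearGroup (Fin n) F ⧸ Sc) := by
  intro a
  by_cases ha : a = 1
  · rw [ha, hs1, map_one]; rfl
  · simp only [s, Function.update_of_ne ha, hsec]
-- the action of `g`
set N := R ⊔ Sc
have hconj : ∀ h ∈ Cfsg.Geo.subgroupNormalizer N, ∀ a ∈ π.range,
    (QuotientGroup.mk h : Matrix.GeneralLinearGroup (Fin n) F ⧸ Sc) * a * (QuotientGroup.mk h)⁻¹ ∈ π.range := by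
  rintro h hh _ ⟨x, rfl⟩
  have h1 : h * (x : Matrix.GeneralLinearGroup (Fin n) F) * h⁻¹ ∈ N :=
    (Subgroup.mem_normalizer_iff.mp hh _).mp (Subgroup.mem_sup_left x.2)
  obtain ⟨r₁, hr₁, s₁, hs₁, he⟩ := Subgroup.mem_sup_of_normal_right.mp h1
  refine ⟨⟨r₁, hr₁⟩, ?_⟩
  show (QuotientGroup.mk r₁ : Matrix.GeneralLinearGroup (Fin n) F ⧸ Sc) = _
  show (QuotientGroup.mk r₁ : Matrix.GeneralLinearGroup (Fin n) F ⧸ Sc) =
    (QuotientGroup.mk (h * (x : Matrix.GeneralLinearGroup (Fin n) F) * h⁻¹) : _ ⧸ Sc)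
  rw [← he, QuotientGroup.mk_mul_of_mem _ hs₁]
let G : Matrix.GeneralLinearGroup (Fin n) F ⧸ Sc := QuotientGroup.mk g
let φ : MulAut π.range :=
  { toFun := fun a => ⟨G * a * G⁻¹, hconj g hg a a.2⟩
    invFun := fun a => ⟨G⁻¹ * a * G, by
      have h := hconj g⁻¹ (inv_mem hg) a a.2
      rwa [QuotientGroup.mk_inv, inv_inv] at h⟩
    left_inv := fun a => Subtype.ext (by simp [mul_assoc])
    right_inv := fun a => Subtype.ext (by simp [mul_assoc])
    map_mul' := fun a b => Subtype.ext (by simp [mul_assoc]) }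
let mat : π.range → Matrix (Fin n) (Fin n) F := fun a => ((s a : Matrix.GeneralLinearGroup (Fin n) F) : _)
have hmul : ∀ a b, ∃ k : Fˣ, mat a * mat b = (k : F) • mat (a * b) := by
  intro a b
  refine eq_smul_of_mk (u := (s a : Matrix.GeneralLinearGroup (Fin n) F) * (s b : Matrix.GeneralLinearGroup (Fin n) F)) ?_
  show π (s a) * π (s b) = π (s (a * b))
  rw [hs, hs, hs]
  rfl
have hcm : ∀ a b, ∃ k : Fˣ, mat a * mat b = (k : F) • (mat b * mat a) := by
  intro a b
  refine eq_smul_of_mk (u := (s a : Matrix.GeneralLinearGroup (Fin n) F) * (s b : Matrix.GeneralLinearGroup (Fin n) F))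
    (v := (s b : Matrix.GeneralLinearGroup (Fin n) F) * (s a : Matrix.GeneralLinearGroup (Fin n) F)) ?_
  show π (s a) * π (s b) = π (s b) * π (s a)
  rw [hs, hs]
  exact congrArg Subtype.val (hcomm' a b)
have hcj : ∀ a, ∃ k : Fˣ, (g : Matrix (Fin n) (Fin n) F) * mat a = (k : F) • (mat (φ a) * g) := by
  intro a
  refine eq_smul_of_mk (u := g * (s a : Matrix.GeneralLinearGroup (Fin n) F))
    (v := (s (φ a) : Matrix.GeneralLinearGroup (Fin n) F) * g) ?_
  show G * π (s a) = π (s (φ a)) * G
  rw [hs, hs]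
  show G * a = G * a * G⁻¹ * G
  rw [inv_mul_cancel_right]
choose e' he' using hcm
choose c' hc' using hcj
-- the span
have hrF : (r : F) ≠ 0 := by
  have : Fact r.Prime := ⟨hr⟩
  have : Nontrivial (Subgroup.center R) :=
    Finite.one_lt_card_iff_nontrivial.mp (by rw [hZ]; exact hr.one_lt)
  obtain ⟨⟨z, hz⟩, hz1⟩ := exists_ne (1 : Subgroup.center R)
  have hz' := (hcen z).mp hz
  rw [hSc, Cfsg.Geo.mem_scalars_iff] at hz'
  obtain ⟨k, hk⟩ := hz'
  have : Nonempty (Fin n) := ⟨⟨0, hnp⟩⟩
  have hkr : (k : F) ^ r = 1 := by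
    have h := congrArg (fun w : R => ((w : Matrix.GeneralLinearGroup (Fin n) F) : Matrix (Fin n) (Fin n) F)) (hzr z hz)
    simp only [SubgroupClass.coe_pow, Units.val_pow_eq_pow_val, OneMemClass.coe_one, Units.val_one, hk,
      smul_pow, one_pow] at h
    simpa using congrFun (congrFun h ⟨0, hnp⟩) ⟨0, hnp⟩
  have hk1 : (k : F) ≠ 1 := fun h => hz1 (Subtype.ext (Subtype.ext (Units.ext (by rw [hk, h, one_smul]; rfl))))
  have hp : IsPrimitiveRoot (k : F) r := IsPrimitiveRoot.iff_orderOf.mpr (orderOf_eq_prime hkr hk1)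
  have : NeZero r := ⟨hr.ne_zero⟩
  exact hp.neZero'.out
have hcard : (Fintype.card π.range : F) ≠ 0 := by
  have : Fact r.Prime := ⟨hr⟩
  have hp : IsPGroup r π.range := fun a => ⟨1, by rw [pow_one]; exact hexpA a⟩
  obtain ⟨m, hm⟩ := IsPGroup.iff_card.mp hp
  rw [← Nat.card_eq_fintype_card, hm, Nat.cast_pow]
  exact pow_ne_zero _ hrF
have hconjeq : ∀ (u v : Matrix.GeneralLinearGroup (Fin n) F) (M : Matrix (Fin n) (Fin n) F),
    (QuotientGroup.mk u : _ ⧸ Sc) = QuotientGroup.mk v →
    (u : Matrix (Fin n) (Fin n) F) * M * (↑u⁻¹ : Matrix (Fin n) (Fin n) F) =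
      (v : Matrix (Fin n) (Fin n) F) * M * (↑v⁻¹ : Matrix (Fin n) (Fin n) F) := by
  intro u v M huv
  obtain ⟨k, hk⟩ := eq_smul_of_mk huv
  rw [Units.mul_inv_eq_iff_eq_mul, hk, mul_smul_comm, Matrix.mul_assoc ((v : Matrix (Fin n) (Fin n) F) * M),
    Units.inv_mul, Matrix.mul_one, smul_mul_assoc]
have hspanF : ∀ M, M ∈ Submodule.span F (Set.range mat) := by
  refine span_full mat (fun a => ((s a : Matrix.GeneralLinearGroup (Fin n) F)⁻¹ :
    Matrix.GeneralLinearGroup (Fin n) F).val) (fun a => Units.inv_mul _) hcard fun M => hcomm _ ?_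
  rintro _ ⟨x, hx, rfl⟩
  show _ * (x : Matrix (Fin n) (Fin n) F) = (x : Matrix (Fin n) (Fin n) F) * _
  rw [← Units.eq_mul_inv_iff_mul_eq, Finset.mul_sum, Finset.sum_mul]
  refine (Fintype.sum_equiv (Equiv.mulLeft (⟨π ⟨x, hx⟩, _, rfl⟩ : π.range)) _ _ fun a => ?_).symm
  rw [Equiv.coe_mulLeft]
  refine Eq.trans ?_ (hconjeq (x * (s a : Matrix.GeneralLinearGroup (Fin n) F)) _ M ?_)
  · simp [mul_inv_rev, Matrix.mul_assoc, mat]
  · show π ⟨x, hx⟩ * π (s a) = π (s _)
    rw [hs, hs]
    rfl
let Φ : Matrix (Fin n) (Fin n) F →+* Module.End (AlgebraicClosure F) (Fin n → AlgebraicClosure F) :=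
  (Matrix.toLinAlgEquiv' : Matrix (Fin n) (Fin n) (AlgebraicClosure F) ≃ₐ[AlgebraicClosure F] _).toRingEquiv.toRingHom.comp
    σ.mapMatrix
have hΦ : ∀ M, Φ M = Matrix.toLin' (M.map σ) := fun M => rfl
have hΦs : ∀ (k : F) M, Φ (k • M) = σ k • Φ M := fun k M => by
  rw [hΦ, hΦ, ← map_smul]
  congr 1
  ext i j
  simp
have hΦinj : Function.Injective Φ := fun M M' h => by
  rw [hΦ, hΦ] at h
  exact Matrix.map_injective σ.injective (Matrix.toLin'.injective h)
let S : CfsgLib.ExtraEigen.Sys (AlgebraicClosure F) (Fin n → AlgebraicClosure F) π.range r ϖ :=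
  { X := fun a => Φ (mat a)
    e := fun a b => σ (e' a b)
    c := fun a => σ (c' a)
    g := Φ g
    φ := φ
    one := by simp only [mat, hs1, OneMemClass.coe_one, Units.val_one, map_one]
    mul := fun a b => by
      obtain ⟨k, hk⟩ := hmul a b
      exact ⟨σ k, (map_ne_zero σ).mpr k.ne_zero, by rw [← map_mul, hk, hΦs]⟩
    comm := fun a b => by rw [← map_mul, ← map_mul, he', hΦs]
    nd := by
      intro a ha
      have hna : s a ∉ Subgroup.center R := fun h => ha (Subtype.ext (by rw [← hs a, (hπ _).mpr h]; rfl))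
      rw [Subgroup.mem_center_iff, not_forall] at hna
      obtain ⟨y, hy⟩ := hna
      refine ⟨⟨π y, y, rfl⟩, fun h => hy ?_⟩
      set b : π.range := ⟨π y, y, rfl⟩ with hb
      have h1 : mat a * mat b = mat b * mat a := by
        rw [he' a b, show (e' a b : F) = 1 from σ.injective (h.trans (map_one σ).symm), one_smul]
      obtain ⟨k, hk⟩ := eq_smul_of_mk (u := (y : Matrix.GeneralLinearGroup (Fin n) F))
        (v := (s b : Matrix.GeneralLinearGroup (Fin n) F)) (show π y = π (s b) by rw [hs])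
      refine Subtype.ext (Units.ext ?_)
      simp only [Subgroup.coe_mul, Units.val_mul, hk, smul_mul_assoc, mul_smul_comm]
      exact congrArg ((k : F) • ·) h1.symm
    span := by
      have hmem : ∀ M : Matrix (Fin n) (Fin n) F,
          Φ M ∈ Submodule.span (AlgebraicClosure F) (Set.range fun a => Φ (mat a)) := by
        intro M
        induction hspanF M using Submodule.span_induction with
        | mem x hx => obtain ⟨a, rfl⟩ := hx; exact Submodule.subset_span ⟨a, rfl⟩
        | zero => rw [map_zero]; exact zero_mem _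
        | add x y _ _ hx hy => rw [map_add]; exact add_mem hx hy
        | smul k x _ hx => rw [hΦs]; exact Submodule.smul_mem _ _ hx
      rw [eq_top_iff]
      intro T _
      rw [← Matrix.toLin'_toMatrix' T, Matrix.matrix_eq_sum_single (LinearMap.toMatrix' T), map_sum]
      refine Submodule.sum_mem _ fun i _ => ?_
      rw [map_sum]
      refine Submodule.sum_mem _ fun j _ => ?_
      rw [← mul_one (LinearMap.toMatrix' T i j), ← smul_eq_mul, ← Matrix.smul_single, map_smul]
      refine Submodule.smul_mem _ _ ?_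
      have h := hmem (Matrix.single i j 1)
      rwa [hΦ, Matrix.map_single, map_one] at h
    conj := fun a => by rw [← map_mul, ← map_mul, hc', hΦs]
    hr := hr
    hϖ := hϖ
    expo := hexpA
    gpow := by rw [← map_pow, ← Units.val_pow_eq_pow_val, ← hord, pow_orderOf_eq_one, Units.val_one, map_one]
    gns := by
      intro k hk
      apply hns
      set a := (g : Matrix (Fin n) (Fin n) F) ⟨0, hnp⟩ ⟨0, hnp⟩
      have h1 : (g : Matrix (Fin n) (Fin n) F).map σ = k • 1 := by
        apply Matrix.toLin'.injective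
        rw [← hΦ, hk, map_smul, Matrix.toLin'_one]
        rfl
      have hka : σ a = k := by
        have h := congrFun (congrFun h1 ⟨0, hnp⟩) ⟨0, hnp⟩
        simpa using h
      have hga : (g : Matrix (Fin n) (Fin n) F) = a • 1 := by
        apply Matrix.map_injective σ.injective
        show (g : Matrix (Fin n) (Fin n) F).map σ = (a • (1 : Matrix (Fin n) (Fin n) F)).map σ
        rw [h1, ← hka]
        ext i j
        by_cases hij : i = j <;> simp [Matrix.one_apply, hij]
      rw [Cfsg.Geo.mem_scalars_iff]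
      have : Nonempty (Fin n) := ⟨⟨0, hnp⟩⟩
      exact ⟨Units.mk0 a (fun h => g.ne_zero (by rw [hga, h, zero_smul])), hga⟩ }
have key : Module.finrank F (Module.End.eigenspace (Matrix.toLin' (g : Matrix (Fin n) (Fin n) F)) c) ≤
    Module.finrank (AlgebraicClosure F) (Module.End.eigenspace S.g (σ c)) :=
  finrank_eig_le (AlgebraicClosure F) (g : Matrix (Fin n) (Fin n) F) c
obtain ⟨h2, h3, h5, h3'⟩ := bounds S (σ c)
simp only [Module.finrank_fin_fun] at h2 h3 h5 h3'
exact ⟨fun h => le_trans (Nat.mul_le_mul_left _ key) (h2 h), fun h => le_trans (Nat.mul_le_mul_left _ key) (h3 h),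
  fun h => le_trans (Nat.mul_le_mul_left _ key) (h5 h),
  fun h hn => le_trans (Nat.mul_le_mul_left _ key) (h3' h hn)⟩

end Cfsg.Agent.S5877
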