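import Cfsg.Statements.S5885

set_option autoImplicit false
open Cfsg

namespace Cfsg.Agent.S5885

open MulAction in
lemma exists_three_cycle {G : Type*} [Group G] [Finite G] (n : ℕ)
    (hA : ∀ P : Subgroup (Equiv.Perm (Fin n)), MulAction.IsPreprimitive P (Fin n) → alternatingGroup (Fin n) ≤ P)
    (M : Subgroup G) (hM : IsCoatom M) (hn : M.index = n) (a b c : G ⧸ M)
    (hab : a ≠ b) (hac : a ≠ c) (hbc : b ≠ c) :
    ∃ g : G, g • a = b ∧ g • b = c ∧ ∀ w, w ≠ a → w ≠ b → w ≠ c → g • w = w := by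
  classical
  have hcard : Nat.card (G ⧸ M) = n := hn
  obtain ⟨e⟩ : Nonempty (G ⧸ M ≃ Fin n) := by
    have := Fintype.ofFinite (G ⧸ M)
    exact ⟨Fintype.equivFinOfCardEq (by rw [← Nat.card_eq_fintype_card]; exact hcard)⟩
  let ρ : G →* Equiv.Perm (Fin n) := (e.permCongrHom).toMonoidHom.comp (MulAction.toPermHom G (G ⧸ M))
  have hρ : ∀ (g : G) (x : G ⧸ M), ρ g (e x) = e (g • x) := by intro g x; simp [ρ, Equiv.permCongrHom, Equiv.permCongr_apply]
  have hpre : IsPreprimitive G (G ⧸ M) := by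
    haveI : Nontrivial (G ⧸ M) := ⟨⟨a, b, hab⟩⟩
    haveI : IsPretransitive G (G ⧸ M) := MulAction.isPretransitive_quotient G M
    rw [← MulAction.isCoatom_stabilizer_iff_preprimitive G ((1 : G) : G ⧸ M), MulAction.stabilizer_quotient]
    exact hM
  let f : (G ⧸ M) →ₑ[fun g : G => (⟨ρ g, g, rfl⟩ : ρ.range)] (Fin n) :=
    { toFun := e
      map_smul' := fun g x => (hρ g x).symm }
  have hP : IsPreprimitive ρ.range (Fin n) := IsPreprimitive.of_surjective (f := f) e.surjective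
  have hmem : Equiv.swap (e a) (e b) * Equiv.swap (e b) (e c) ∈ ρ.range := by
    refine hA _ hP ?_
    rw [Equiv.Perm.mem_alternatingGroup, map_mul, Equiv.Perm.sign_swap (by simpa using hab),
      Equiv.Perm.sign_swap (by simpa using hbc)]
    rfl
  obtain ⟨g, hg⟩ := hmem
  refine ⟨g, ?_, ?_, fun w h1 h2 h3 => ?_⟩
  · apply e.injective
    rw [← hρ, hg, Equiv.Perm.mul_apply, Equiv.swap_apply_of_ne_of_ne (show e a ≠ e b by simpa using hab) (show e a ≠ e c by simpa using hac),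
      Equiv.swap_apply_left]
  · apply e.injective
    rw [← hρ, hg, Equiv.Perm.mul_apply, Equiv.swap_apply_left,
      Equiv.swap_apply_of_ne_of_ne (by simpa using hac.symm) (by simpa using hbc.symm)]
  · apply e.injective
    rw [← hρ, hg, Equiv.Perm.mul_apply, Equiv.swap_apply_of_ne_of_ne (show e w ≠ e b by simpa using h2) (show e w ≠ e c by simpa using h3),
      Equiv.swap_apply_of_ne_of_ne (show e w ≠ e a by simpa using h1) (show e w ≠ e b by simpa using h2)]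

/-- Let n be an odd positive integer such that every primitive permutation group of degree n contains the alternating group (so the symmetric and alternating groups are the only primitive groups of degree n). Let G be a finite group, M a maximal subgroup of G of index n, and H a maximal subgroup of M. Then H is a second maximal subgroup of G: H is maximal in every maximal subgroup K of G containing H. -/
theorem result {G : Type*} [Group G]
    [Finite G] (n : ℕ) (hodd : Odd n)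
    (hA : ∀ P : Subgroup (Equiv.Perm (Fin n)), MulAction.IsPreprimitive P (Fin n) → alternatingGroup (Fin n) ≤ P)
    (M : Subgroup G) (hM : IsCoatom M) (hn : M.index = n) (H : Subgroup G) (hHM : H ≤ M)
    (hmax : IsCoatom (H.subgroupOf M)) (K : Subgroup G) (hK : IsCoatom K) (hHK : H ≤ K) :
    IsCoatom (H.subgroupOf K) := by
  classical
  by_cases hKM : K = M
  · subst hKM; exact hmax
  -- maximality of H in M in usable form
  have hmax' : ∀ X : Subgroup G, H ≤ X → X ≤ M → X ≠ M → X = H := by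
    intro X h1 h2 h3
    by_contra h
    have : X.subgroupOf M = ⊤ := by
      apply hmax.2
      refine lt_of_le_of_ne (fun x hx => ?_) ?_
      · rw [Subgroup.mem_subgroupOf] at hx ⊢; exact h1 hx
      · intro heq
        apply h
        have h' := congrArg (Subgroup.map M.subtype) heq
        rw [Subgroup.map_subgroupOf_eq_of_le hHM, Subgroup.map_subgroupOf_eq_of_le h2] at h'
        exact h'.symm
    exact h3 (le_antisymm h2 (Subgroup.subgroupOf_eq_top.1 this))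
  refine ⟨?_, ?_⟩
  · intro h
    have hle : K ≤ M := (Subgroup.subgroupOf_eq_top.1 h).trans hHM
    rcases hK.le_iff.1 hle with h | h
    · exact hM.1 h
    · exact hKM h.symm
  intro L' hL'
  by_contra hL'top
  set L := L'.map K.subtype with hLdef
  have hLK : L ≤ K := Subgroup.map_subtype_le L'
  have hHL : H ≤ L := by
    intro x hx
    exact ⟨⟨x, hHK hx⟩, hL'.le (Subgroup.mem_subgroupOf.2 hx), rfl⟩
  have hinf : ∀ X : Subgroup G, H ≤ X → X ≤ K → X ⊓ M = H := by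
    intro X h1 h2
    refine hmax' _ (le_inf h1 hHM) inf_le_right ?_
    intro heq
    have : M ≤ K := le_trans (le_of_eq heq.symm) (inf_le_left.trans h2)
    rcases hM.le_iff.1 this with h | h
    · exact hK.1 h
    · exact hKM h
  obtain ⟨l, hlL, hlH⟩ : ∃ l, l ∈ L ∧ l ∉ H := by
    obtain ⟨l, hl1, hl2⟩ := SetLike.exists_of_lt hL'
    exact ⟨l, ⟨l, hl1, rfl⟩, fun h => hl2 (Subgroup.mem_subgroupOf.2 h)⟩
  obtain ⟨k, hkK, hkL⟩ : ∃ k, k ∈ K ∧ k ∉ L := by
    obtain ⟨k, -, hk⟩ := SetLike.exists_of_lt (lt_top_iff_ne_top.2 hL'top)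
    refine ⟨k, k.2, fun h => ?_⟩
    obtain ⟨k', hk', he⟩ := h
    exact hk (by rwa [Subtype.ext he] at hk')
  let x₀ : G ⧸ M := ((1 : G) : G ⧸ M)
  have hfix : ∀ g : G, g • x₀ = x₀ ↔ g ∈ M := by
    intro g
    show ((g * 1 : G) : G ⧸ M) = ((1 : G) : G ⧸ M) ↔ g ∈ M
    rw [QuotientGroup.eq]; simp
  set Γ : Set (G ⧸ M) := {w | ∃ l ∈ L, l • x₀ = w} with hΓ
  have hblock : ∀ g ∈ K, ∀ w ∈ Γ, g • w ∈ Γ → g ∈ L := by
    rintro g hg w ⟨l₁, hl₁, rfl⟩ ⟨l₂, hl₂, h⟩
    have h2 : l₂⁻¹ * g * l₁ ∈ K ⊓ M := by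
      refine ⟨K.mul_mem (K.mul_mem (K.inv_mem (hLK hl₂)) hg) (hLK hl₁), ?_⟩
      show _ ∈ M
      rw [← hfix, mul_smul, mul_smul, ← h, inv_smul_smul]
    rw [hinf K hHK le_rfl] at h2
    have h3 := L.mul_mem (L.mul_mem hl₂ (hHL h2)) (L.inv_mem hl₁)
    simpa [mul_assoc] using h3
  have hx₀Γ : x₀ ∈ Γ := ⟨1, L.one_mem, one_smul _ _⟩
  set y := l • x₀ with hy
  have hyΓ : y ∈ Γ := ⟨l, hlL, rfl⟩
  have hyx : y ≠ x₀ := fun h => hlH (by rw [← hinf L hHL hLK]; exact ⟨hlL, (hfix l).1 h⟩)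
  set z := k • x₀ with hz
  set z' := k • y with hz'
  have hzΓ : z ∉ Γ := fun h => hkL (hblock k hkK x₀ hx₀Γ h)
  have hz'Γ : z' ∉ Γ := fun h => hkL (hblock k hkK y hyΓ h)
  have hzz' : z ≠ z' := fun h => hyx (smul_left_cancel k h).symm
  have cyc := exists_three_cycle n hA M hM hn
  -- setwise stabilizer of Γ in M is H
  let S : Subgroup G :=
    { carrier := {g | g ∈ M ∧ ∀ w, g • w ∈ Γ ↔ w ∈ Γ}
      mul_mem' := fun {a b} ha hb => ⟨M.mul_mem ha.1 hb.1, fun w => by rw [mul_smul, ha.2, hb.2]⟩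
      one_mem' := ⟨M.one_mem, fun w => by rw [one_smul]⟩
      inv_mem' := fun {a} ha => ⟨M.inv_mem ha.1, fun w => by rw [← ha.2 (a⁻¹ • w), smul_inv_smul]⟩ }
  have hHS : H ≤ S := by
    intro h hh
    refine ⟨hHM hh, fun w => ⟨?_, ?_⟩⟩
    · rintro ⟨l₁, hl₁, e⟩
      exact ⟨h⁻¹ * l₁, L.mul_mem (L.inv_mem (hHL hh)) hl₁, by rw [mul_smul, e, inv_smul_smul]⟩
    · rintro ⟨l₁, hl₁, rfl⟩
      exact ⟨h * l₁, L.mul_mem (hHL hh) hl₁, mul_smul _ _ _⟩
  have hSM : S ≤ M := fun g hg => hg.1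
  have hS : S = H := by
    refine hmax' S hHS hSM ?_
    intro heq
    have hyz : y ≠ z := fun h => hzΓ (h ▸ hyΓ)
    have hyz' : y ≠ z' := fun h => hz'Γ (h ▸ hyΓ)
    obtain ⟨g, hg1, -, hg3⟩ := cyc y z z' hyz hyz' hzz'
    have hgM : g ∈ M := (hfix g).1 (hg3 x₀ hyx.symm (fun h => hzΓ (h ▸ hx₀Γ)) (fun h => hz'Γ (h ▸ hx₀Γ)))
    have : g ∈ S := heq ▸ hgM
    exact hzΓ (hg1 ▸ (this.2 y).2 hyΓ)
  have hpt : ∀ g : G, (∀ w ∈ Γ, g • w = w) → g ∈ H := by
    intro g hg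
    rw [← hS]
    refine ⟨(hfix g).1 (hg x₀ hx₀Γ), fun w => ⟨fun h => ?_, fun h => (hg w h).symm ▸ h⟩⟩
    have h2 : g • w = w := smul_left_cancel g (hg _ h)
    rwa [h2] at h
  set Δ : Set (G ⧸ M) := {w | ∃ g ∈ K, g • x₀ = w} with hΔ
  have hzΔ : z ∈ Δ := ⟨k, hkK, rfl⟩
  have hz'Δ : z' ∈ Δ := ⟨k * l, K.mul_mem hkK (hLK hlL), mul_smul _ _ _⟩
  by_cases hb : ∃ b, b ∉ Δ
  · obtain ⟨b, hb⟩ := hb
    have hbΓ : b ∉ Γ := fun ⟨l₁, hl₁, e⟩ => hb ⟨l₁, hLK hl₁, e⟩
    obtain ⟨g, hg1, -, hg3⟩ := cyc z b z' (fun h => hb (h ▸ hzΔ)) hzz' (fun h => hb (h.symm ▸ hz'Δ))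
    have hgK : g ∈ K := hHK (hpt g fun w hw =>
      hg3 w (fun h => hzΓ (h ▸ hw)) (fun h => hbΓ (h ▸ hw)) (fun h => hz'Γ (h ▸ hw)))
    exact hb ⟨g * k, K.mul_mem hgK hkK, by rw [mul_smul, ← hz, hg1]⟩
  · by_cases hc : ∃ b, b ∉ Γ ∧ k⁻¹ • b ∉ Γ
    · obtain ⟨b, hb1, hb2⟩ := hc
      have hzk : k⁻¹ • z = x₀ := inv_smul_smul k x₀
      have hz'k : k⁻¹ • z' = y := inv_smul_smul k y
      have hzb : z ≠ b := fun h => hb2 (by rw [← h, hzk]; exact hx₀Γ)
      have hz'b : z' ≠ b := fun h => hb2 (by rw [← h, hz'k]; exact hyΓ)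
      obtain ⟨g, hg1, hg2, hg3⟩ := cyc z z' b hzz' hzb hz'b
      have hgK : g ∈ K := hHK (hpt g fun w hw =>
        hg3 w (fun h => hzΓ (h ▸ hw)) (fun h => hz'Γ (h ▸ hw)) (fun h => hb1 (h ▸ hw)))
      have hgL : k⁻¹ * g * k ∈ L := by
        refine hblock _ (K.mul_mem (K.mul_mem (K.inv_mem hkK) hgK) hkK) x₀ hx₀Γ ?_
        rw [mul_smul, mul_smul, ← hz, hg1, hz'k]; exact hyΓ
      obtain ⟨l₁, hl₁, e⟩ := hyΓ
      refine hb2 ⟨k⁻¹ * g * k * l₁, L.mul_mem hgL hl₁, ?_⟩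
      rw [mul_smul, e, mul_smul, mul_smul, ← hz', hg2]
    · push Not at hc
      have hdisj : ∀ w ∈ Γ, k⁻¹ • w ∉ Γ := fun w hw h => hkL (by
        have := hblock k⁻¹ (K.inv_mem hkK) w hw h; simpa using L.inv_mem this)
      have huniv : Γ ∪ (fun w => k • w) '' Γ = Set.univ := by
        rw [Set.eq_univ_iff_forall]
        intro b
        by_cases h : b ∈ Γ
        · exact Or.inl h
        · exact Or.inr ⟨_, hc b h, smul_inv_smul k b⟩
      have hd : Disjoint Γ ((fun w => k • w) '' Γ) := by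
        rw [Set.disjoint_left]
        rintro w hw ⟨v, hv, rfl⟩
        exact hdisj _ hw (by simpa using hv)
      have hcard := Set.ncard_union_eq hd (Set.toFinite _) (Set.toFinite _)
      rw [huniv, Set.ncard_univ, Set.ncard_image_of_injective _ (fun a b h => smul_left_cancel k h)] at hcard
      have : M.index = Γ.ncard + Γ.ncard := hcard
      rw [hn] at this
      exact (Nat.not_even_iff_odd.2 hodd) ⟨_, this⟩

end Cfsg.Agent.S5885
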