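import Cfsg.Statements.S5887
import Cfsg.Agent.Lib.Geo.FieldTransvection

set_option autoImplicit false
open Cfsg

namespace Cfsg.Agent.S5887

open CfsgLib.Geo.FieldTransvection

/-- Let F be a finite field, n a positive integer and r a composite number (r > 1, not prime) that divides n with r < n. Let K be a subalgebra of the algebra of n × n matrices over F which is a field of degree r over F (commutative, every non-zero element invertible, of dimension r over F). Then the normaliser N of K in GL_n(F) (a group of type ΓL_{n/r}(F_{q^r})) is not a maximal subgroup of GL_n(F), and N ∩ SL_n(F) is not a maximal subgroup of SL_n(F): both lie properly inside the normaliser of an intermediate subfield of prime degree over F. -/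
theorem result {F : Type*} [Field F]
    [Fintype F] (n r : ℕ) (hr1 : 1 < r) (hrp : ¬ r.Prime) (hrn : r ∣ n) (hlt : r < n)
    (K : Subalgebra F (Matrix (Fin n) (Fin n) F)) (hK : Cfsg.Geo.IsFieldSubalgebra r K) :
    ¬ IsCoatom (Cfsg.Geo.subalgebraNormalizer K) ∧
      ¬ Cfsg.Geo.IsMaximalIn (Cfsg.Geo.specialLinear (Fin n) F)
        (Cfsg.Geo.subalgebraNormalizer K ⊓ Cfsg.Geo.specialLinear (Fin n) F) := by
  have hn : 0 < n := by omega
  haveI : Nonempty (Fin n) := ⟨⟨0, hn⟩⟩
  have h2r : 2 * r ≤ n := by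
    obtain ⟨c, rfl⟩ := hrn
    rcases c with _ | _ | c
    · simp at hn
    · simp at hlt
    · rw [Nat.mul_comm 2 r]; exact Nat.mul_le_mul_left r (by omega)
  obtain ⟨s, S, hs1, hsr, h2s, hSK, hS, hle⟩ := exists_invariant_intermediate hn hr1 hrp hK
  haveI : FiniteDimensional F K := Module.finite_of_finrank_pos (by rw [hK.finrank_eq]; omega)
  obtain ⟨k, hkK, hkS⟩ : ∃ k ∈ K, k ∉ S := by
    by_contra h
    push Not at h
    have := hK.finrank_eq
    rw [le_antisymm h hSK, hS.finrank_eq] at this
    omega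
  obtain ⟨t, ⟨htS, ht1⟩, htK⟩ := exists_not_normalizing hn hS hK hSK (by omega) hkK hkS
  obtain ⟨k', hk'S, hk'⟩ : ∃ k' ∈ S, k' ∉ (⊥ : Subalgebra F (Matrix (Fin n) (Fin n) F)) := by
    by_contra h
    push Not at h
    have := hS.finrank_eq
    have hbot : S = ⊥ := le_antisymm h bot_le
    rw [hbot, Subalgebra.finrank_bot] at this
    omega
  obtain ⟨u, ⟨-, hu1⟩, huS⟩ := exists_not_normalizing hn bot_isFieldSubalgebra hS bot_le (by omega) hk'S hk'
  refine ⟨fun hc => ?_, fun hm => ?_⟩
  · rcases hc.le_iff.1 hle with h | h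
    · exact huS (h ▸ Subgroup.mem_top u)
    · exact htK (h ▸ htS)
  · rcases hm.2 (Cfsg.Geo.subalgebraNormalizer S ⊓ Cfsg.Geo.specialLinear (Fin n) F)
      (inf_le_inf_right _ hle) inf_le_right with h | h
    · have : t ∈ Cfsg.Geo.subalgebraNormalizer K ⊓ Cfsg.Geo.specialLinear (Fin n) F := h ▸ ⟨htS, ht1⟩
      exact htK this.1
    · have : u ∈ Cfsg.Geo.subalgebraNormalizer S ⊓ Cfsg.Geo.specialLinear (Fin n) F := by rw [h]; exact hu1
      exact huS this.1

end Cfsg.Agent.S5887
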