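import Cfsg.Statements.S5890
import Cfsg.Agent.Lib.PSL2.PglMeet
-- import your own Cfsg.Agent.* helpers here

set_option autoImplicit false
open Cfsg

namespace Cfsg.Agent.S5890

/-- Let F be a finite field with q ≥ 4 elements, let L ≤ PGL₂(F) be the image of SL₂(F) (a copy of PSL₂(F), of index gcd(2, q − 1)), and let M be a maximal subgroup of PGL₂(F) that does not contain L. Suppose q ∉ {7, 9, 11} and that q is not a prime congruent to ±11 or ±19 modulo 40. Then M ∩ L is a maximal subgroup of L. (For the excluded q there are maximal subgroups of PGL₂(q) — dihedral groups of order 12 and 16 at q = 7, of order 20 and 16 at q = 9, of order 20 at q = 11, and S₄ at the excluded primes — whose intersection with L is not maximal in L.) -/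
theorem result {F : Type*} [Field F]
    [Fintype F] (h4 : 4 ≤ Fintype.card F) (h7 : Fintype.card F ≠ 7) (h9 : Fintype.card F ≠ 9) (h11 : Fintype.card F ≠ 11)
    (h40 : (Fintype.card F).Prime → Fintype.card F % 40 ∉ ({11, 19, 21, 29} : Finset ℕ))
    (M : Subgroup (Matrix.ProjGenLinGroup (Fin 2) F)) (hM : IsCoatom M)
    (hML : ¬ (Matrix.ProjGenLinGroup.mk.comp Matrix.SpecialLinearGroup.toGL).range ≤ M) :
    IsCoatom ((M ⊓ (Matrix.ProjGenLinGroup.mk.comp Matrix.SpecialLinearGroup.toGL).range).subgroupOf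
      (Matrix.ProjGenLinGroup.mk.comp Matrix.SpecialLinearGroup.toGL).range) := by
  classical
  change IsCoatom ((M ⊓ CfsgLib.PSL2.pslImage F).subgroupOf (CfsgLib.PSL2.pslImage F))
  obtain ⟨p, hp⟩ := CharP.exists F
  have : Fact p.Prime := ⟨CharP.char_is_prime F p⟩
  rcases Nat.even_or_odd (Fintype.card F) with he | hodd
  · apply CfsgLib.PSL2.isCoatom_subgroupOf_of_comap
    let e : Matrix.ProjectiveSpecialLinearGroup (Fin 2) F ≃* Matrix.ProjGenLinGroup (Fin 2) F :=
      CfsgLib.PSL2.pslEquiv.trans ((MulEquiv.subgroupCongr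
        (CfsgLib.PSL2.pslImage_eq_top_of_even he)).trans Subgroup.topEquiv)
    have hc : M.comap Matrix.ProjectiveSpecialLinearGroup.toPGL = M.map e.symm.toMonoidHom := by
      rw [Subgroup.map_equiv_eq_comap_symm']
      rfl
    rw [hc]
    exact (OrderIso.isCoatom_iff (MulEquiv.mapSubgroup e.symm) M).2 hM
  let ι : F →+* AlgebraicClosure F := algebraMap F _
  have : CharP (AlgebraicClosure F) p := charP_of_injective_ringHom ι.injective p
  obtain ⟨Φ, hΦ⟩ := CfsgLib.PSL2.exists_frob (F := F) (L := AlgebraicClosure F) p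
  have h5 : 5 ≤ Fintype.card F := by rw [Nat.odd_iff] at hodd; omega
  rcases CfsgLib.PSL2.pgl_coatom_cases p hodd h5 (ι := ι) hΦ hM hML with
    ⟨x, rfl⟩ | ⟨x, y, e, he, rfl, hne⟩ | ⟨hqp, hsq, h2, I, J, h, g, rfl⟩ |
    ⟨K, iK, iK', j, r, k, hr, hro, hc, rfl⟩ <;>
    apply CfsgLib.PSL2.isCoatom_subgroupOf_of_comap
  · exact CfsgLib.PSL2.isCoatom_pslPointStab p x
  · refine CfsgLib.PSL2.isCoatom_pslPair hΦ p he ?_
    rcases he.2 with ⟨-, he'⟩ | ⟨-, -, -, he'⟩
    · refine Or.inl ⟨he', ?_⟩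
      simp only [Finset.mem_insert, Finset.mem_singleton, not_or]
      exact ⟨by omega, by omega, fun h => hne ⟨h, he'⟩, h7, h9, h11⟩
    · refine Or.inr ⟨he', ?_⟩
      simp only [Finset.mem_insert, Finset.mem_singleton, not_or]
      exact ⟨by omega, h7, h9⟩
  · rw [CfsgLib.PSL2.comap_map_conj]
    refine (CfsgLib.PSL2.isCoatom_map_iff _ _).2
      (CfsgLib.PSL2.isCoatom_normV_inf p hqp (hqp ▸ h5) hsq ?_ h)
    have h40' := h40 (hqp ▸ (Fact.out : p.Prime))
    simp only [Finset.mem_insert, Finset.mem_singleton, not_or] at h40'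
    rw [FiniteField.isSquare_two_iff] at hsq
    omega
  · rw [CfsgLib.PSL2.comap_map_conj]
    refine (CfsgLib.PSL2.isCoatom_map_iff _ _).2 (CfsgLib.PSL2.isCoatom_pslSub j hr hc ?_)
    have h1 := Fintype.one_lt_card (α := K)
    have h2 : Fintype.card K ≠ 2 := fun e => by
      rw [← hc, e, Nat.odd_pow_iff hr.ne_zero] at hodd
      exact absurd hodd (by decide)
    omega

end Cfsg.Agent.S5890
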