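import Cfsg.Statements.S5891
import Cfsg.Agent.Lib.PSL2.PglClassify
-- import your own Cfsg.Agent.* helpers here

set_option autoImplicit false
open Cfsg

namespace Cfsg.Agent.S5891

/-- Let F be a finite field of odd order q > 3 and characteristic p, and let M be a maximal subgroup of PGL₂(F) not containing the image L of SL₂(F) (a copy of PSL₂(F) of index 2). Then one of the following holds: |M| = q(q − 1) (M is the stabiliser of a point of the projective line); q ≠ 5 and M is dihedral of order 2(q − 1); M is dihedral of order 2(q + 1); q = p ≡ ±3 (mod 8) and M ≅ S₄; or q = q₀^r for an odd prime r and M ≅ PGL₂(F₀) with |F₀| = q₀. -/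
theorem result {F : Type*} [Field F] [Fintype F]
    (hodd : Odd (Fintype.card F)) (h3 : 3 < Fintype.card F) (M : Subgroup (Matrix.ProjGenLinGroup (Fin 2) F)) (hM : IsCoatom M)
    (hML : ¬ (Matrix.ProjGenLinGroup.mk.comp Matrix.SpecialLinearGroup.toGL).range ≤ M) :
    Nat.card M = Fintype.card F * (Fintype.card F - 1) ∨
    (Fintype.card F ≠ 5 ∧ Nonempty (M ≃* DihedralGroup (Fintype.card F - 1))) ∨
    Nonempty (M ≃* DihedralGroup (Fintype.card F + 1)) ∨
    ((Fintype.card F).Prime ∧ (Fintype.card F % 8 = 3 ∨ Fintype.card F % 8 = 5) ∧ Nonempty (M ≃* Equiv.Perm (Fin 4))) ∨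
    (∃ (F₀ : Type) (_ : Field F₀) (_ : Fintype F₀) (r : ℕ), r.Prime ∧ Odd r ∧ Fintype.card F = Fintype.card F₀ ^ r ∧
        Nonempty (M ≃* Matrix.ProjGenLinGroup (Fin 2) F₀)) := by
  classical
  obtain ⟨p, hp⟩ := CharP.exists F
  have : Fact p.Prime := ⟨CharP.char_is_prime F p⟩
  let ι : F →+* AlgebraicClosure F := algebraMap F _
  have : CharP (AlgebraicClosure F) p := charP_of_injective_ringHom ι.injective p
  obtain ⟨Φ, hΦ⟩ := CfsgLib.PSL2.exists_frob (F := F) (L := AlgebraicClosure F) p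
  have h5 : 5 ≤ Fintype.card F := by rw [Nat.odd_iff] at hodd; omega
  rcases CfsgLib.PSL2.pgl_coatom_cases p hodd h5 (ι := ι) hΦ hM hML with
    ⟨x, rfl⟩ | ⟨x, y, e, he, rfl, hne⟩ | ⟨hqp, hsq, h2, I, J, h, g, rfl⟩ |
    ⟨K, iK, iK', j, r, k, hr, hro, hc, rfl⟩
  · exact Or.inl (CfsgLib.PSL2.card_pglPointStab x)
  · obtain ⟨-, ⟨φ⟩⟩ := CfsgLib.PSL2.pairStab_dihedral hΦ he
    rcases he.2 with ⟨-, he'⟩ | ⟨-, -, -, he'⟩
    · exact Or.inr (Or.inl ⟨fun h5 => hne ⟨h5, he'⟩, ⟨he' ▸ φ⟩⟩)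
    · exact Or.inr (Or.inr (Or.inl ⟨he' ▸ φ⟩))
  · refine Or.inr (Or.inr (Or.inr (Or.inl ⟨hqp ▸ (Fact.out : p.Prime), ?_, ?_⟩)))
    · rw [FiniteField.isSquare_two_iff] at hsq; omega
    · obtain ⟨σ⟩ := h.normV_equiv_symm h2
      exact ⟨(Subgroup.equivMapOfInjective _ _ (MulEquiv.injective _)).symm.trans σ⟩
  · refine Or.inr (Or.inr (Or.inr (Or.inr ⟨K, iK, iK', r, hr, hro, hc.symm, ⟨?_⟩⟩)))
    exact (Subgroup.equivMapOfInjective _ _ (MulEquiv.injective _)).symm.trans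
      (MonoidHom.ofInjective (CfsgLib.PSL2.pglMap_injective j)).symm

end Cfsg.Agent.S5891
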