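import Cfsg.Statements.S5894
import Cfsg.Agent.Lib.Maximal.BlockGroup

set_option autoImplicit false
open Cfsg
open scoped Pointwise

namespace Cfsg.Agent.S5894

/-- For every m ≥ 2 the symmetric group of degree 2m has a maximal subgroup M of index 2m with a maximal subgroup H of M that is not maximal in some maximal subgroup K containing it. -/
theorem result (m : ℕ) (hm : 2 ≤ m) :
    ∃ M H K : Subgroup (Equiv.Perm (Fin (2 * m))), IsCoatom M ∧ M.index = 2 * m ∧ H ≤ M ∧ IsCoatom (H.subgroupOf M) ∧
      IsCoatom K ∧ H ≤ K ∧ ¬ IsCoatom (H.subgroupOf K) := by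
  classical
  let x0 : Fin (2 * m) := ⟨0, by omega⟩
  let M := MulAction.stabilizer (Equiv.Perm (Fin (2 * m))) x0
  let B : Set (Fin (2 * m)) := {x | x.val < m}
  let S := MulAction.stabilizer (Equiv.Perm (Fin (2 * m))) B
  let f : Fin (2 * m) → Fin 2 := fun x => if x.val < m then 0 else 1
  have hlow : Nat.card {x : Fin (2 * m) // x.val < m} = m := by
    rw [Nat.card_congr (⟨fun x => (⟨x.1.val, x.2⟩ : Fin m), fun j => ⟨⟨j.val, by omega⟩, j.2⟩,
      fun x => rfl, fun j => rfl⟩ : {x : Fin (2 * m) // x.val < m} ≃ Fin m), Nat.card_fin]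
  have hf : ∀ i : Fin 2, Nat.card {x // f x = i} = m := by
    intro i
    fin_cases i
    · refine Eq.trans ?_ hlow
      exact Nat.card_congr (Equiv.subtypeEquivRight fun x => by by_cases h : x.val < m <;> simp [f, h])
    · have h0 : Nat.card {x : Fin (2 * m) // ¬ x.val < m} = m := by
        rw [Nat.card_eq_fintype_card, Fintype.card_subtype_compl, Fintype.card_fin,
          ← Nat.card_eq_fintype_card, hlow]
        omega
      exact (Nat.card_congr (Equiv.subtypeEquivRight fun x => by
        by_cases h : x.val < m <;> simp [f, h])).trans h0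
  have hstab : ∀ g, g ∈ S ↔ ∀ x : Fin (2 * m), ((g x).val < m ↔ x.val < m) := fun g => by
    rw [show g ∈ S ↔ _ from MulAction.mem_stabilizer_set]; exact Iff.rfl
  have hSK : S ≤ CfsgLib.Maximal.blockGroup f := by
    intro g hg x y
    simp only [f, (hstab g).1 hg x, (hstab g).1 hg y]
  have : Nontrivial (Fin (2 * m)) := Fin.nontrivial_iff_two_le.2 (by omega)
  refine ⟨M, M ⊓ S, CfsgLib.Maximal.blockGroup f, ?_, ?_, inf_le_left, ?_,
    CfsgLib.Maximal.isCoatom_blockGroup f hf hm le_rfl, inf_le_right.trans hSK, ?_⟩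
  · show IsCoatom (MulAction.stabilizer (Equiv.Perm (Fin (2 * m))) x0)
    rw [show MulAction.stabilizer (Equiv.Perm (Fin (2 * m))) x0 =
      MulAction.stabilizer (Equiv.Perm (Fin (2 * m))) ({x0} : Set (Fin (2 * m))) from
        (MulAction.stabilizer_singleton _).symm]
    refine Equiv.Perm.isCoatom_stabilizer (Set.singleton_nonempty _) ?_ (by simp; omega)
    obtain ⟨y, hy⟩ := exists_ne x0
    exact ⟨y, by simpa using hy⟩
  · rw [MulAction.index_stabilizer_of_transitive, Nat.card_fin]
  · -- `M` is the symmetric group on the points other than `x0`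
    let p : Fin (2 * m) → Prop := fun x => x ≠ x0
    have hr : (Equiv.Perm.ofSubtype (p := p)).range = M := by
      ext g
      show _ ↔ g x0 = x0
      constructor
      · rintro ⟨t, rfl⟩
        exact Equiv.Perm.ofSubtype_apply_of_not_mem _ (by simp [p])
      · intro hg
        exact ⟨g.subtypePerm (fun x => not_congr ⟨fun h => g.injective (h.trans hg.symm), fun h => h ▸ hg⟩),
          Equiv.Perm.ofSubtype_subtypePerm _ (fun x hx h => hx (h ▸ hg))⟩
    let e : Equiv.Perm {x // p x} ≃* M :=
      (MonoidHom.ofInjective Equiv.Perm.ofSubtype_injective).trans (MulEquiv.subgroupCongr hr)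
    let A : Set {x // p x} := {y | y.1.val < m}
    have hA : IsCoatom (MulAction.stabilizer (Equiv.Perm {x // p x}) A) := by
      refine Equiv.Perm.isCoatom_stabilizer ⟨⟨⟨1, by omega⟩, by simp [p, x0, Fin.ext_iff]⟩, ?_⟩
        ⟨⟨⟨m, by omega⟩, by simp [p, x0, Fin.ext_iff]; omega⟩, ?_⟩ ?_
      · show 1 < m
        omega
      · show ¬ m < m
        omega
      · rw [Nat.card_eq_fintype_card, Fintype.card_subtype_compl, Fintype.card_fin,
          Fintype.card_subtype_eq]
        omega
    have heq : ((M ⊓ S).subgroupOf M).comap e.toMonoidHom =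
        MulAction.stabilizer (Equiv.Perm {x // p x}) A := by
      ext t
      rw [show t ∈ MulAction.stabilizer (Equiv.Perm {x // p x}) A ↔ _ from MulAction.mem_stabilizer_set,
        Subgroup.mem_comap, Subgroup.mem_subgroupOf]
      have hval : ((e t : M) : Equiv.Perm (Fin (2 * m))) = Equiv.Perm.ofSubtype t := rfl
      change ((e t : M) : Equiv.Perm (Fin (2 * m))) ∈ M ⊓ S ↔ _
      constructor
      · intro h y
        have := (hstab _).1 h.2 y.1
        rw [hval, Equiv.Perm.ofSubtype_apply_coe] at this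
        exact this
      · intro h
        refine ⟨(e t).2, (hstab _).2 fun x => ?_⟩
        rw [hval]
        by_cases hx : p x
        · rw [Equiv.Perm.ofSubtype_apply_of_mem _ hx]
          exact h ⟨x, hx⟩
        · rw [Equiv.Perm.ofSubtype_apply_of_not_mem _ hx]
    rw [← OrderIso.isCoatom_iff e.comapSubgroup]
    show IsCoatom (((M ⊓ S).subgroupOf M).comap e.toMonoidHom)
    rw [heq]
    exact hA
  · intro hco
    have hlast : (2 * m - 1) < 2 * m := by omega
    have hlt : (M ⊓ S).subgroupOf (CfsgLib.Maximal.blockGroup f) < S.subgroupOf _ := by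
      refine lt_of_le_of_ne (fun g hg => hg.2) fun h => ?_
      have hs : Equiv.swap x0 ⟨1, by omega⟩ ∈ S := by
        rw [hstab]
        intro x
        rcases eq_or_ne x x0 with rfl | h1
        · simp [x0]; omega
        rcases eq_or_ne x ⟨1, by omega⟩ with rfl | h2
        · simp [x0]; omega
        rw [Equiv.swap_apply_of_ne_of_ne h1 h2]
      have h3 := (h.ge (show (⟨_, hSK hs⟩ : CfsgLib.Maximal.blockGroup f) ∈ S.subgroupOf _ from hs)).1
      change Equiv.swap x0 _ x0 = x0 at h3
      simp [x0] at h3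
    have htop : S.subgroupOf (CfsgLib.Maximal.blockGroup f) = ⊤ := hco.2 _ hlt
    rw [Subgroup.subgroupOf_eq_top] at htop
    obtain ⟨e, he⟩ := CfsgLib.Maximal.exists_blockEquiv f hf
    have hτ := (CfsgLib.Maximal.liftPerm_mem he (Equiv.swap 0 1) 1)
    have h1 := (hstab _).1 (htop hτ.1) x0
    have h2 := hτ.2 x0
    have hx0 : x0.val < m := by show 0 < m; omega
    simp [f, h1, hx0] at h2

end Cfsg.Agent.S5894
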