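import Cfsg.Statements.S5895

set_option autoImplicit false
open Cfsg

namespace Cfsg.Agent.S5895

variable {E : Type} [Field E] (C : Subgroup Eˣ)

/-- Multiplication by units as automorphisms of the additive group. -/
noncomputable def scaleHom : C →* MulAut (Multiplicative E) where
  toFun c := AddEquiv.toMultiplicative
    { toFun := fun v => ((c : Eˣ) : E) * v
      invFun := fun v => ((c : Eˣ)⁻¹ : Eˣ).val * v
      left_inv := fun v => by simp
      right_inv := fun v => by simp
      map_add' := mul_add _ }
  map_one' := MulEquiv.ext fun v => congrArg Multiplicative.ofAdd (one_mul v.toAdd)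
  map_mul' c c' := MulEquiv.ext fun v => congrArg Multiplicative.ofAdd (mul_assoc ((c : Eˣ) : E) (c' : Eˣ) v.toAdd)

/-- The affine group of the multiplier group. -/
abbrev affineLine : Type := Multiplicative E ⋊[scaleHom C] C

theorem scaleHom_apply (c : C) (v : E) :
    scaleHom C c (Multiplicative.ofAdd v) = Multiplicative.ofAdd (((c : Eˣ) : E) * v) := rfl

/-- For every prime p and every integer d ≥ 2 there is a finite group having a maximal subgroup of index p^d which has a maximal subgroup that is not maximal in some maximal subgroup of the whole group containing it (for example AGL_d(p)). -/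
theorem result (p d : ℕ) (hp : p.Prime)
    (hd : 2 ≤ d) :
    ∃ (G : Type) (_ : Group G) (_ : Finite G) (M H K : Subgroup G), IsCoatom M ∧ M.index = p ^ d ∧ H ≤ M ∧
      IsCoatom (H.subgroupOf M) ∧ IsCoatom K ∧ H ≤ K ∧ ¬ IsCoatom (H.subgroupOf K) := by
  classical
  have : Fact p.Prime := ⟨hp⟩
  let E := GaloisField p d
  have hcard : Nat.card E = p ^ d := GaloisField.card p d (by omega)
  have hfin : Finite E := Nat.finite_of_card_ne_zero (by rw [hcard]; exact (Nat.pow_pos hp.pos).ne')
  -- a minimal group of multipliers generating the field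
  let gen : Subgroup Eˣ → Prop := fun D => Subfield.closure ((fun u : Eˣ => (u : E)) '' (D : Set Eˣ)) = ⊤
  have hgen : gen ⊤ := by
    show Subfield.closure _ = ⊤
    rw [eq_top_iff]
    intro x _
    rcases eq_or_ne x 0 with rfl | hx
    · exact Subfield.zero_mem _
    · exact Subfield.subset_closure ⟨Units.mk0 x hx, Subgroup.mem_top _, rfl⟩
  obtain ⟨C, hC⟩ := (Set.toFinite {D : Subgroup Eˣ | gen D}).exists_minimal ⟨⊤, hgen⟩
  have hbot : ¬ gen ⊥ := by
    intro h
    have h1 : Subfield.closure ((fun u : Eˣ => (u : E)) '' ((⊥ : Subgroup Eˣ) : Set Eˣ)) ≤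
        (algebraMap (ZMod p) E).fieldRange := by
      rw [Subfield.closure_le]
      rintro _ ⟨u, hu, rfl⟩
      obtain rfl := Subgroup.mem_bot.1 hu
      exact ⟨1, map_one _⟩
    rw [h] at h1
    have hsurj : Function.Surjective (algebraMap (ZMod p) E) := fun x => h1 (Subfield.mem_top x)
    have := Nat.card_le_card_of_surjective _ hsurj
    rw [hcard, Nat.card_zmod] at this
    have : p ^ 1 < p ^ d := Nat.pow_lt_pow_right hp.one_lt (by omega)
    rw [pow_one] at *
    omega
  have hCne : C ≠ ⊥ := fun h => hbot (h ▸ hC.1)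
  have : Nontrivial C := (Subgroup.nontrivial_iff_ne_bot C).2 hCne
  obtain ⟨H0, hH0, -⟩ : ∃ H0 : Subgroup C, IsCoatom H0 ∧ ⊥ ≤ H0 :=
    (eq_top_or_exists_le_coatom (⊥ : Subgroup C)).resolve_left bot_ne_top
  let W := Subfield.closure ((fun u : Eˣ => (u : E)) '' ((H0.map C.subtype : Subgroup Eˣ) : Set Eˣ))
  have hW : W ≠ ⊤ := by
    intro h
    have hle := hC.2 (show gen (H0.map C.subtype) from h) (Subgroup.map_subtype_le H0)
    apply hH0.1
    rw [eq_top_iff]
    intro c _
    obtain ⟨c', hc', he⟩ := hle c.2
    rwa [show c = c' from Subtype.ext he.symm]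
  obtain ⟨e0, he0⟩ : ∃ e : E, e ∉ W := by
    by_contra h
    push Not at h
    exact hW (eq_top_iff.2 fun x _ => h x)
  let inr : C →* affineLine C := SemidirectProduct.inr
  let inl : Multiplicative E →* affineLine C := SemidirectProduct.inl
  let π : affineLine C →* C := SemidirectProduct.rightHom
  have hinv : ∀ h ∈ H0, ∀ v ∈ W, ((h : Eˣ) : E) * v ∈ W := fun h hh v hv =>
    W.mul_mem (Subfield.subset_closure ⟨h, ⟨h, hh, rfl⟩, rfl⟩) hv
  let X : Subgroup (affineLine C) :=
    { carrier := {g | Multiplicative.toAdd g.left ∈ W ∧ g.right ∈ H0}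
      one_mem' := ⟨W.zero_mem, H0.one_mem⟩
      mul_mem' := fun {a b} ha hb => ⟨W.add_mem ha.1 (hinv _ ha.2 _ hb.1), H0.mul_mem ha.2 hb.2⟩
      inv_mem' := fun {a} ha => ⟨hinv _ (H0.inv_mem ha.2) _ (W.neg_mem ha.1), H0.inv_mem ha.2⟩ }
  have : Finite (affineLine C) := Finite.of_equiv _ SemidirectProduct.equivProd.symm
  refine ⟨affineLine C, inferInstance, inferInstance, inr.range, H0.map inr, H0.comap π, ?_, ?_,
    Subgroup.map_le_range inr H0, ?_, ?_, ?_, ?_⟩
  · refine ⟨fun h => ?_, fun L hL => ?_⟩
    · have h1 : inl (Multiplicative.ofAdd (1 : E)) ∈ inr.range := h ▸ Subgroup.mem_top _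
      obtain ⟨c, hc⟩ := h1
      have := congrArg (fun g : affineLine C => Multiplicative.toAdd g.left) hc
      simp [inl, inr] at this
    · obtain ⟨g, hgL, hg⟩ := SetLike.not_le_iff_exists.1 hL.not_ge
      let LV : Set E := {v | inl (Multiplicative.ofAdd v) ∈ L}
      have hadd : ∀ v w, v ∈ LV → w ∈ LV → v + w ∈ LV := fun v w hv hw => by
        show inl _ ∈ L
        rw [ofAdd_add, map_mul]
        exact L.mul_mem hv hw
      have hneg : ∀ v, v ∈ LV → -v ∈ LV := fun v hv => by
        show inl _ ∈ L
        rw [ofAdd_neg, map_inv]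
        exact L.inv_mem hv
      have hzero : (0 : E) ∈ LV := by
        show inl _ ∈ L
        rw [ofAdd_zero, map_one]
        exact L.one_mem
      let R : Subring E :=
        { carrier := {e | ∀ v ∈ LV, e * v ∈ LV}
          one_mem' := fun v hv => by rwa [one_mul]
          mul_mem' := fun {a b} ha hb v hv => by rw [mul_assoc]; exact ha _ (hb _ hv)
          zero_mem' := fun v _ => by rw [zero_mul]; exact hzero
          add_mem' := fun {a b} ha hb v hv => by rw [add_mul]; exact hadd _ _ (ha v hv) (hb v hv)
          neg_mem' := fun {a} ha v hv => by rw [neg_mul]; exact hneg _ (ha v hv) }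
      let R' : Subfield E :=
        { R with
          inv_mem' := fun x hx => by
            rcases eq_or_ne x 0 with rfl | hx0
            · rw [inv_zero]; exact R.zero_mem
            let x' : Eˣ := Units.mk0 x hx0
            have h1 : x⁻¹ = x ^ (orderOf x' - 1) := by
              have h2 : x' * x' ^ (orderOf x' - 1) = 1 := by
                rw [← pow_succ', Nat.sub_add_cancel (orderOf_pos x'), pow_orderOf_eq_one]
              exact inv_eq_of_mul_eq_one_right (congrArg Units.val h2)
            rw [h1]
            exact R.pow_mem hx _ }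
      have hRtop : R' = ⊤ := by
        rw [eq_top_iff, ← hC.1, Subfield.closure_le]
        rintro _ ⟨c, hc, rfl⟩ v hv
        show inl _ ∈ L
        have h1 : inl (Multiplicative.ofAdd ((c : E) * v)) =
            inr ⟨c, hc⟩ * inl (Multiplicative.ofAdd v) * inr ⟨c, hc⟩⁻¹ :=
          SemidirectProduct.inl_aut (φ := scaleHom C) ⟨c, hc⟩ (Multiplicative.ofAdd v)
        rw [h1]
        exact L.mul_mem (L.mul_mem (hL.le ⟨_, rfl⟩) hv) (hL.le ⟨_, rfl⟩)
      have hv0 : Multiplicative.toAdd g.left ∈ LV := by
        show inl g.left ∈ L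
        have h1 : inl g.left = g * (inr g.right)⁻¹ := by
          rw [eq_mul_inv_iff_mul_eq]
          exact SemidirectProduct.inl_left_mul_inr_right g
        rw [h1]
        exact L.mul_mem hgL (L.inv_mem (hL.le ⟨_, rfl⟩))
      have hne : Multiplicative.toAdd g.left ≠ 0 := fun h => hg ⟨g.right, by
        ext
        · simpa [inr] using h.symm
        · simp [inr]⟩
      rw [eq_top_iff]
      intro x _
      rw [← SemidirectProduct.inl_left_mul_inr_right x]
      refine L.mul_mem ?_ (hL.le ⟨_, rfl⟩)
      have h2 : Multiplicative.toAdd x.left * (Multiplicative.toAdd g.left)⁻¹ ∈ R' :=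
        hRtop ▸ Subfield.mem_top _
      have h3 := h2 _ hv0
      rwa [inv_mul_cancel_right₀ hne] at h3
  · have h := inr.range.index_mul_card
    rw [← hcard]
    rw [SemidirectProduct.card, Nat.card_congr (Multiplicative.toAdd (α := E)), ← Nat.card_congr (MonoidHom.ofInjective
      (SemidirectProduct.inr_injective (φ := scaleHom C))).toEquiv] at h
    exact Nat.eq_of_mul_eq_mul_right Nat.card_pos h
  · let e : C ≃* inr.range := MonoidHom.ofInjective SemidirectProduct.inr_injective
    rw [← OrderIso.isCoatom_iff e.comapSubgroup]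
    show IsCoatom (((H0.map inr).subgroupOf inr.range).comap e.toMonoidHom)
    convert hH0 using 1
    ext c
    show inr c ∈ H0.map inr ↔ c ∈ H0
    exact Subgroup.mem_map_iff_mem SemidirectProduct.inr_injective
  · refine ⟨fun h => hH0.1 ?_, fun L hL => ?_⟩
    · have hsπ : Function.Surjective π := SemidirectProduct.rightHom_surjective
      rw [← Subgroup.map_comap_eq_self_of_surjective hsπ H0]
      rw [h, ← MonoidHom.range_eq_map, MonoidHom.range_eq_top]
      exact SemidirectProduct.rightHom_surjective
    · have hker : π.ker ≤ L := (π.ker_le_comap H0).trans hL.le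
      have hLeq : (L.map π).comap π = L := by rw [Subgroup.comap_map_eq, sup_eq_left.2 hker]
      have hlt : H0 < L.map π := by
        refine lt_of_le_of_ne ?_ fun h => hL.ne (by rw [h, hLeq])
        intro c hc
        exact ⟨inr c, hL.le (show π (inr c) ∈ H0 from hc), rfl⟩
      rw [← hLeq, hH0.2 _ hlt, Subgroup.comap_top]
  · rintro _ ⟨c, hc, rfl⟩
    exact hc
  · intro hco
    have hlt : (H0.map inr).subgroupOf (H0.comap π) < X.subgroupOf (H0.comap π) := by
      refine lt_of_le_of_ne ?_ fun h => ?_
      · rintro g ⟨c, hc, he⟩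
        show (g : affineLine C) ∈ X
        rw [show ((g : affineLine C)) = inr c from he.symm]
        exact ⟨W.zero_mem, hc⟩
      · have h1 : (⟨inl (Multiplicative.ofAdd 1), H0.one_mem⟩ : H0.comap π) ∈ X.subgroupOf (H0.comap π) :=
          ⟨W.one_mem, H0.one_mem⟩
        obtain ⟨c, -, he⟩ := h.ge h1
        have := congrArg (fun g : affineLine C => Multiplicative.toAdd g.left) he
        simp [inl, inr] at this
    have htop := hco.2 _ hlt
    have h1 : (⟨inl (Multiplicative.ofAdd e0), H0.one_mem⟩ : H0.comap π) ∈ X.subgroupOf (H0.comap π) :=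
      htop ▸ Subgroup.mem_top _
    exact he0 h1.1

end Cfsg.Agent.S5895
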