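import Cfsg.Statements.S5896

set_option autoImplicit false
open Cfsg

namespace Cfsg.Agent.S5896

open Matrix

variable {R : Type} [CommRing R]

/-- Upper elementary matrix. -/
def eU (t : R) : SpecialLinearGroup (Fin 2) R := ⟨!![1, t; 0, 1], by simp [Matrix.det_fin_two]⟩

/-- Lower elementary matrix. -/
def eL (t : R) : SpecialLinearGroup (Fin 2) R := ⟨!![1, 0; t, 1], by simp [Matrix.det_fin_two]⟩

/-- Diagonal matrix. -/
def eD (u : Rˣ) : SpecialLinearGroup (Fin 2) R :=
  ⟨!![(u : R), 0; 0, (u⁻¹ : Rˣ)], by simp [Matrix.det_fin_two]⟩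

theorem eU_val (t : R) : (eU t).1 = !![1, t; 0, 1] := rfl

theorem eL_val (t : R) : (eL t).1 = !![1, 0; t, 1] := rfl

theorem eD_val (u : Rˣ) : (eD u).1 = !![(u : R), 0; 0, (u⁻¹ : Rˣ)] := rfl

theorem sl_ext {g g' : SpecialLinearGroup (Fin 2) R} (h00 : g.1 0 0 = g'.1 0 0) (h01 : g.1 0 1 = g'.1 0 1)
    (h10 : g.1 1 0 = g'.1 1 0) (h11 : g.1 1 1 = g'.1 1 1) : g = g' := by
  refine Subtype.ext (Matrix.ext fun i j => ?_)
  fin_cases i <;> fin_cases j <;> assumption

theorem eU_mul (s t : R) : eU s * eU t = eU (s + t) := by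
  apply sl_ext <;> simp [eU_val, Matrix.mul_apply, add_comm]

theorem eL_mul (s t : R) : eL s * eL t = eL (s + t) := by
  apply sl_ext <;> simp [eL_val, Matrix.mul_apply]

theorem eU_inv (t : R) : (eU t)⁻¹ = eU (-t) := by
  refine inv_eq_of_mul_eq_one_right ?_
  rw [eU_mul, add_neg_cancel]
  apply sl_ext <;> simp [eU_val]

theorem eL_inv (t : R) : (eL t)⁻¹ = eL (-t) := by
  refine inv_eq_of_mul_eq_one_right ?_
  rw [eL_mul, add_neg_cancel]
  apply sl_ext <;> simp [eL_val]

theorem eL_pow (t : R) (n : ℕ) : eL t ^ n = eL (n * t) := by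
  induction n with
  | zero => rw [pow_zero]; apply sl_ext <;> simp [eL_val]
  | succ n ih => rw [pow_succ, ih, eL_mul, Nat.cast_succ, add_mul, one_mul]

theorem comm_eU (u : Rˣ) (t : R) :
    eD u * eU t * (eD u)⁻¹ * (eU t)⁻¹ = eU (((u : R) * u - 1) * t) := by
  rw [mul_inv_eq_iff_eq_mul, mul_inv_eq_iff_eq_mul, eU_mul]
  apply sl_ext <;> simp [eU_val, eD_val, Matrix.mul_apply]
  linear_combination (-((u : R) * t)) * Units.mul_inv u

theorem comm_eL (u : Rˣ) (t : R) :
    eD u * eL t * (eD u)⁻¹ * (eL t)⁻¹ = eL ((((u⁻¹ : Rˣ) : R) * (u⁻¹ : Rˣ) - 1) * t) := by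
  rw [mul_inv_eq_iff_eq_mul, mul_inv_eq_iff_eq_mul, eL_mul]
  apply sl_ext <;> simp [eL_val, eD_val, Matrix.mul_apply]
  linear_combination (-(((u⁻¹ : Rˣ) : R) * t)) * Units.inv_mul u

/-- Bruhat factorisation when the lower left entry is a unit. -/
theorem bruhat (g : SpecialLinearGroup (Fin 2) R) (c : Rˣ) (hc : g.1 1 0 = c) :
    g = eU ((g.1 0 0 - 1) * (c⁻¹ : Rˣ)) * eL (c : R) * eU ((g.1 1 1 - 1) * (c⁻¹ : Rˣ)) := by
  have hdet : g.1 0 0 * g.1 1 1 - g.1 0 1 * g.1 1 0 = 1 := by
    rw [← Matrix.det_fin_two]; exact g.2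
  have hci : (c : R) * (c⁻¹ : Rˣ) = 1 := Units.mul_inv c
  apply sl_ext
  · simp [eU_val, eL_val, Matrix.mul_apply]
  · simp [eU_val, eL_val, Matrix.mul_apply]
    rw [hc] at hdet
    linear_combination (-(((c⁻¹ : Rˣ) : R))) * hdet + (-g.1 0 1) * hci
  · simp [eU_val, eL_val, Matrix.mul_apply, hc]
  · simp [eU_val, eL_val, Matrix.mul_apply]
    linear_combination (-(g.1 1 1 - 1)) * hci

section Five

variable (N : ℕ)

/-- The ring. -/
abbrev RN : Type := ZMod (5 ^ (N + 1))

/-- Reduction modulo five. -/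
def red : RN N →+* ZMod 5 := ZMod.castHom (dvd_pow_self 5 (Nat.succ_ne_zero N)) (ZMod 5)

instance fact_five : Fact (Nat.Prime 5) := ⟨by norm_num⟩

theorem isUnit_of_red {x : RN N} (hx : red N x ≠ 0) : IsUnit x := by
  rw [← ZMod.natCast_zmod_val x]
  rw [← ZMod.natCast_zmod_val x, map_natCast, ne_eq, ZMod.natCast_eq_zero_iff] at hx
  rw [ZMod.isUnit_iff_coprime]
  exact Nat.Coprime.pow_right _ ((Nat.Prime.coprime_iff_not_dvd (by norm_num)).2 hx).symm

theorem exists_mul_of_red {x : RN N} (hx : red N x = 0) : ∃ y, x = 5 * y := by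
  rw [← ZMod.natCast_zmod_val x, map_natCast, ZMod.natCast_eq_zero_iff] at hx
  obtain ⟨m, hm⟩ := hx
  refine ⟨(m : RN N), ?_⟩
  rw [← ZMod.natCast_zmod_val x, hm, Nat.cast_mul, Nat.cast_ofNat]

/-- Matrices upper triangular modulo five. -/
def borel : Subgroup (SpecialLinearGroup (Fin 2) (RN N)) where
  carrier := {g | red N (g.1 1 0) = 0}
  one_mem' := by simp
  mul_mem' := fun {a b} ha hb => by
    simp only [Set.mem_setOf_eq] at ha hb ⊢
    simp [Matrix.mul_apply, ha, hb]
  inv_mem' := fun {a} ha => by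
    simp only [Set.mem_setOf_eq] at ha ⊢
    simp [Matrix.adjugate_fin_two, ha]

theorem mem_borel {g : SpecialLinearGroup (Fin 2) (RN N)} : g ∈ borel N ↔ red N (g.1 1 0) = 0 := Iff.rfl

theorem generated (K : Subgroup (SpecialLinearGroup (Fin 2) (RN N))) (hU : ∀ t, eU t ∈ K)
    (hL : ∀ t, eL t ∈ K) : K = ⊤ := by
  have key : ∀ g : SpecialLinearGroup (Fin 2) (RN N), red N (g.1 1 0) ≠ 0 → g ∈ K := by
    intro g hg
    rw [bruhat g (isUnit_of_red N hg).unit (isUnit_of_red N hg).unit_spec.symm]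
    exact K.mul_mem (K.mul_mem (hU _) (hL _)) (hU _)
  rw [eq_top_iff]
  intro g _
  by_cases hg : red N (g.1 1 0) = 0
  · have h := key (eL 1 * g) (by
      have hdet : g.1 0 0 * g.1 1 1 - g.1 0 1 * g.1 1 0 = 1 := by
        rw [← Matrix.det_fin_two]; exact g.2
      intro h
      have h' : red N (g.1 0 0) + red N (g.1 1 0) = 0 := by simpa [eL_val, Matrix.mul_apply] using h
      rw [hg, add_zero] at h'
      have := congrArg (red N) hdet
      simp [hg, h'] at this)
    simpa using K.mul_mem (K.inv_mem (hL 1)) h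
  · exact key g hg

theorem commutator_eq_top : commutator (SpecialLinearGroup (Fin 2) (RN N)) = ⊤ := by
  have h2 : IsUnit (2 : RN N) := isUnit_of_red N (by rw [map_ofNat]; decide)
  set u := h2.unit with hu
  have hv : (u : RN N) = 2 := h2.unit_spec
  have hw : red N ((u⁻¹ : (RN N)ˣ) : RN N) = 3 := by
    have := congrArg (red N) (Units.mul_inv u)
    rw [map_mul, hv, map_ofNat, map_one] at this
    revert this
    generalize red N ((u⁻¹ : (RN N)ˣ) : RN N) = a
    revert a
    decide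
  have h3 : IsUnit ((u : RN N) * u - 1) := isUnit_of_red N (by
    rw [hv, map_sub, map_mul, map_ofNat, map_one]; decide)
  have h4 : IsUnit (((u⁻¹ : (RN N)ˣ) : RN N) * (u⁻¹ : (RN N)ˣ) - 1) := isUnit_of_red N (by
    rw [map_sub, map_mul, hw, map_one]; decide)
  refine generated N _ (fun t => ?_) (fun t => ?_)
  · obtain ⟨v, hv⟩ := h3
    have h := comm_eU u ((v⁻¹ : (RN N)ˣ) * t)
    rw [← hv, Units.mul_inv_cancel_left] at h
    rw [← h]
    exact Subgroup.commutator_mem_commutator (Subgroup.mem_top _) (Subgroup.mem_top _)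
  · obtain ⟨v, hv⟩ := h4
    have h := comm_eL u ((v⁻¹ : (RN N)ˣ) * t)
    rw [← hv, Units.mul_inv_cancel_left] at h
    rw [← h]
    exact Subgroup.commutator_mem_commutator (Subgroup.mem_top _) (Subgroup.mem_top _)

theorem borel_isCoatom : IsCoatom (borel N) := by
  refine ⟨fun h => ?_, fun K hK => ?_⟩
  · have h1 : eL (1 : RN N) ∈ borel N := h ▸ Subgroup.mem_top _
    simp [mem_borel, eL_val] at h1
  · obtain ⟨g, hgK, hg⟩ := SetLike.not_le_iff_exists.1 hK.not_ge
    have hU : ∀ t, eU t ∈ K := fun t => hK.le (by simp [mem_borel, eU_val])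
    refine generated N K hU fun t => ?_
    set c := (isUnit_of_red N hg).unit with hc
    have hdec := bruhat g c (isUnit_of_red N hg).unit_spec.symm
    have hcK : eL (c : RN N) ∈ K := by
      have h : eL (c : RN N) = (eU ((g.1 0 0 - 1) * (c⁻¹ : (RN N)ˣ)))⁻¹ * g *
          (eU ((g.1 1 1 - 1) * (c⁻¹ : (RN N)ˣ)))⁻¹ := by
        conv_rhs => arg 1; arg 2; rw [hdec]
        group
      rw [h]
      exact K.mul_mem (K.mul_mem (K.inv_mem (hU _)) hgK) (K.inv_mem (hU _))
    have h := K.pow_mem hcK ((t * (c⁻¹ : (RN N)ˣ)).val)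
    rw [eL_pow, ZMod.natCast_zmod_val, mul_assoc, Units.inv_mul, mul_one] at h
    exact h

theorem pow_near_one (X : Matrix (Fin 2) (Fin 2) (RN N)) :
    ∀ k : ℕ, ∃ Y, (1 + (5 : RN N) • X) ^ 5 ^ k = 1 + (5 : RN N) ^ (k + 1) • Y := by
  intro k
  induction k with
  | zero => exact ⟨X, by simp⟩
  | succ k ih =>
    obtain ⟨Y, hY⟩ := ih
    set c := (5 : RN N) ^ (k + 1) with hc
    obtain ⟨e, he⟩ : ∃ e, c * c = 5 * c * e := ⟨5 ^ k, by rw [hc]; ring⟩
    refine ⟨Y + (2 * c) • (Y * Y) + (2 * c * c) • (Y * Y * Y) + (c * c * c) • (Y * Y * Y * Y) +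
      (e * c * c * c) • (Y * Y * Y * Y * Y), ?_⟩
    have hexp : (1 + c • Y) ^ 5 = 1 + (5 * c) • Y + (10 * (c * c)) • (Y * Y) +
        (10 * (c * c * c)) • (Y * Y * Y) + (5 * (c * c * c * c)) • (Y * Y * Y * Y) +
        (c * c * c * c * c) • (Y * Y * Y * Y * Y) := by
      simp only [pow_succ, pow_zero, one_mul, add_mul, mul_add, mul_one, smul_mul_assoc,
        mul_smul_comm, smul_smul, mul_assoc]
      module
    rw [show (5 : ℕ) ^ (k + 1) = 5 ^ k * 5 from pow_succ 5 k, pow_mul, hY, hexp, show (5 : RN N) ^ (k + 1 + 1) = 5 * c by rw [hc]; ring]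
    simp only [smul_add, smul_smul]
    rw [show 5 * c * (2 * c) = 10 * (c * c) by ring, show 5 * c * (2 * c * c) = 10 * (c * c * c) by ring,
      show 5 * c * (c * c * c) = 5 * (c * c * c * c) by ring,
      show 5 * c * (e * c * c * c) = c * c * c * c * c by
        rw [show 5 * c * (e * c * c * c) = 5 * c * e * c * c * c by ring, ← he]]
    abel

/-- Upper left entry modulo five. -/
def diagHom : borel N →* ZMod 5 where
  toFun g := red N ((g : SpecialLinearGroup (Fin 2) (RN N)).1 0 0)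
  map_one' := by simp
  map_mul' := fun a b => by
    have hb := b.2
    rw [mem_borel] at hb
    simp [Matrix.mul_apply, hb]

theorem borel_solvable : Group.IsSolvable (borel N) := by
  set φ := (diagHom N).toHomUnits with hφ
  have hp : IsPGroup 5 φ.ker := by
    rintro ⟨⟨g, hg⟩, hk⟩
    rw [mem_borel] at hg
    have h00 : red N (g.1 0 0) = 1 := congrArg Units.val (MonoidHom.mem_ker.1 hk)
    have hdet : g.1 0 0 * g.1 1 1 - g.1 0 1 * g.1 1 0 = 1 := by
      rw [← Matrix.det_fin_two]; exact g.2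
    have h11 : red N (g.1 1 1) = 1 := by
      have := congrArg (red N) hdet
      simpa [hg, h00] using this
    -- the fifth power is congruent to one
    set σ := SpecialLinearGroup.map (n := Fin 2) (red N) with hσ
    have hσg : σ g = eU (red N (g.1 0 1)) := by
      apply sl_ext <;> simp [hσ, eU_val, hg, h00, h11]
    have h5 : σ (g ^ 5) = 1 := by
      rw [map_pow, hσg]
      apply sl_ext <;> simp [eU_val, pow_succ, Matrix.mul_apply] <;>
        (generalize red N (g.1 0 1) = a; revert a; decide)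
    have hentry : ∀ i j, ∃ y, (g ^ 5).1 i j - (1 : Matrix (Fin 2) (Fin 2) (RN N)) i j = 5 * y := by
      intro i j
      refine exists_mul_of_red N ?_
      have h : red N ((g ^ 5).1 i j) = (1 : Matrix (Fin 2) (Fin 2) (ZMod 5)) i j := by
        have := congrArg (fun s : SpecialLinearGroup (Fin 2) (ZMod 5) => s.1 i j) h5
        rw [Matrix.SpecialLinearGroup.coe_one] at this
        exact this
      rw [map_sub, h]
      fin_cases i <;> fin_cases j <;> simp
    choose X hX using hentry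
    have hgX : (g ^ 5).1 = 1 + (5 : RN N) • Matrix.of X := by
      ext i j
      simp [← hX i j]
    obtain ⟨Y, hY⟩ := pow_near_one N (Matrix.of X) N
    refine ⟨N + 1, Subtype.ext (Subtype.ext ?_)⟩
    have h : ((g ^ 5) ^ 5 ^ N).1 = 1 := by
      refine (Matrix.SpecialLinearGroup.coe_pow (g ^ 5) (5 ^ N)).trans ?_
      refine (congrArg (fun M : Matrix (Fin 2) (Fin 2) (RN N) => M ^ 5 ^ N) hgX).trans ?_
      rw [hY, show (5 : RN N) ^ (N + 1) = 0 by
        exact_mod_cast ZMod.natCast_self (5 ^ (N + 1)), zero_smul, add_zero]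
    show g ^ 5 ^ (N + 1) = 1
    have e : g ^ 5 ^ (N + 1) = (g ^ 5) ^ 5 ^ N := by
      rw [← pow_mul]; congr 1; exact pow_succ' 5 N
    exact e.trans (Subtype.ext h)
  have : Group.IsNilpotent φ.ker := hp.isNilpotent
  exact solvable_of_ker_le_range φ.ker.subtype φ (by rw [Subgroup.range_subtype])

theorem derived_large : ∀ n : ℕ, ∀ t : RN N,
    eU ((5 : RN N) ^ 3 ^ n * t) ∈ (derivedSeries (borel N) n).map (borel N).subtype ∧
    eL ((5 : RN N) ^ 3 ^ n * t) ∈ (derivedSeries (borel N) n).map (borel N).subtype := by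
  intro n
  induction n with
  | zero =>
    intro t
    rw [derivedSeries_zero, ← MonoidHom.range_eq_map, Subgroup.range_subtype]
    constructor
    · simp [mem_borel, eU_val]
    · simp only [mem_borel, eL_val, pow_zero, pow_one]
      simp
      exact Or.inl (by rw [map_ofNat]; decide)
  | succ n ih =>
    set k := 3 ^ n with hk
    set D := (derivedSeries (borel N) n).map (borel N).subtype with hD
    have hk0 : 0 < k := by rw [hk]; positivity
    have h5 : red N (5 : RN N) = 0 := by rw [map_ofNat]; decide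
    set a := (5 : RN N) ^ k with ha
    have hra : red N a = 0 := by rw [ha, map_pow, h5, zero_pow hk0.ne']
    obtain ⟨u, hu⟩ : ∃ u : (RN N)ˣ, (u : RN N) = 1 + a * a + a * a * (a * a) := by
      have h : IsUnit (1 + a * a + a * a * (a * a)) := isUnit_of_red N (by simp [hra])
      exact ⟨h.unit, h.unit_spec⟩
    have hDu : eD u ∈ D := by
      have hid : eD u = eL (a * (-(a * a) * (u⁻¹ : (RN N)ˣ))) *
          (eU a * eL a * (eU a)⁻¹ * (eL a)⁻¹) * eU (a * (a * a * (u⁻¹ : (RN N)ˣ))) := by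
        rw [eU_inv, eL_inv]
        have hui : (u : RN N) * (u⁻¹ : (RN N)ˣ) = 1 := Units.mul_inv u
        apply sl_ext <;> simp [eD_val, eU_val, eL_val, Matrix.mul_apply]
        · linear_combination hu
        · linear_combination (-(a * a * a)) * hui + (a * a * a * (u⁻¹ : (RN N)ˣ)) * hu
        · linear_combination (a * a * a) * hui + (-(a * a * a * (u⁻¹ : (RN N)ˣ))) * hu
        · linear_combination (1 - a * a + a ^ 6 * (u⁻¹ : (RN N)ˣ)) * hui +
            (-(1 - a * a + a ^ 6 * (u⁻¹ : (RN N)ˣ)) * (u⁻¹ : (RN N)ˣ)) * hu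
      rw [hid]
      have hU : eU a ∈ D := by simpa [ha] using (ih 1).1
      have hL : eL a ∈ D := by simpa [ha] using (ih 1).2
      exact D.mul_mem (D.mul_mem (ih _).2 (D.mul_mem (D.mul_mem (D.mul_mem hU hL) (D.inv_mem hU))
        (D.inv_mem hL))) (ih _).1
    have hcomm : ∀ x y, x ∈ D → y ∈ D →
        x * y * x⁻¹ * y⁻¹ ∈ (derivedSeries (borel N) (n + 1)).map (borel N).subtype := by
      rintro _ _ ⟨x, hx, rfl⟩ ⟨y, hy, rfl⟩
      refine ⟨x * y * x⁻¹ * y⁻¹, ?_, by simp⟩
      rw [derivedSeries_succ]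
      exact Subgroup.commutator_mem_commutator hx hy
    have hpow : (5 : RN N) ^ 3 ^ (n + 1) = a * a * a := by
      rw [show (3 : ℕ) ^ (n + 1) = k + k + k by rw [hk, pow_succ 3 n]; ring, ha]
      ring
    set w := (1 + a * a) * (2 + a * a + a * a * (a * a)) with hw
    have hwu : IsUnit w := isUnit_of_red N (by simp [hw, hra, map_ofNat]; decide)
    obtain ⟨w', hw'⟩ := hwu
    have hsq : (u : RN N) * u - 1 = a * a * (w' : RN N) := by rw [hw', hw, hu]; ring
    intro t
    constructor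
    · have h := hcomm _ _ hDu (ih ((w'⁻¹ : (RN N)ˣ) * t)).1
      rw [comm_eU, hsq] at h
      convert h using 2
      rw [hpow]
      linear_combination (-(a * a * a * t)) * (Units.mul_inv w')
    · have hui : (u : RN N) * (u⁻¹ : (RN N)ˣ) = 1 := Units.mul_inv u
      have hsq' : ((u⁻¹ : (RN N)ˣ) : RN N) * (u⁻¹ : (RN N)ˣ) - 1 =
          -(a * a * (w' : RN N)) * ((u⁻¹ : (RN N)ˣ) * (u⁻¹ : (RN N)ˣ)) := by
        rw [← hsq]
        linear_combination ((u : RN N) * (u⁻¹ : (RN N)ˣ) + 1) * hui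
      have h := hcomm _ _ hDu (ih (-((w'⁻¹ : (RN N)ˣ) * ((u : RN N) * u) * t))).2
      rw [comm_eL, hsq'] at h
      convert h using 2
      rw [hpow]
      linear_combination (-(a * a * a * t * ((u : RN N) * (u⁻¹ : (RN N)ˣ)) * ((u : RN N) * (u⁻¹ : (RN N)ˣ)))) *
        (Units.mul_inv w') + (-(a * a * a * t) * ((u : RN N) * (u⁻¹ : (RN N)ˣ) + 1)) * hui

end Five

/-- For every natural number d there is a finite perfect group with a solvable maximal subgroup whose d-th derived subgroup is nontrivial; so maximal subgroups of finite perfect groups can have arbitrarily long derived series. -/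
theorem result (d : ℕ) :
    ∃ (G : Type) (_ : Group G) (_ : Finite G) (H : Subgroup G), commutator G = ⊤ ∧ IsCoatom H ∧ Group.IsSolvable H ∧
      derivedSeries H d ≠ ⊥ := by
  refine ⟨SpecialLinearGroup (Fin 2) (RN (3 ^ d)), inferInstance, inferInstance, borel (3 ^ d),
    commutator_eq_top _, borel_isCoatom _, borel_solvable _, fun h => ?_⟩
  have h1 := (derived_large (3 ^ d) d 1).1
  rw [h, Subgroup.map_bot, Subgroup.mem_bot, mul_one] at h1
  have h2 : ((5 ^ 3 ^ d : ℕ) : RN (3 ^ d)) = 0 := by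
    have := congrArg (fun g : SpecialLinearGroup (Fin 2) (RN (3 ^ d)) => g.1 0 1) h1
    simpa [eU_val] using this
  rw [ZMod.natCast_eq_zero_iff] at h2
  have := (Nat.pow_dvd_pow_iff_le_right (by norm_num : 1 < 5)).1 h2
  omega

end Cfsg.Agent.S5896
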