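import Cfsg.Statements.S5902
import Cfsg.Agent.Lib.Maximal.LatticeComplement

set_option autoImplicit false
open Cfsg

namespace Cfsg.Agent.S5902

/-- Let G be a finite group, X a subgroup whose own subgroup lattice is complemented, and suppose X lies in exactly one maximal subgroup M of G. Then every subgroup H of G not contained in the normal core of M has a complement in the subgroup lattice of G (some C with H ⊔ C = G and H ⊓ C = 1); in particular the subgroup lattice of G modulo the normal core of M is complemented. -/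
theorem result {G : Type*} [Group G] [Finite G] (X M : Subgroup G)
    (hK : ComplementedLattice (Subgroup X))
    (hM : IsCoatom M) (hXM : X ≤ M) (huniq : ∀ M' : Subgroup G, IsCoatom M' → X ≤ M' → M' = M) :
    (∀ H : Subgroup G, ¬ H ≤ M.normalCore → ∃ C : Subgroup G, H ⊔ C = ⊤ ∧ H ⊓ C = ⊥) ∧
    ComplementedLattice (Subgroup (G ⧸ M.normalCore)) := by
  have h1 : ∀ H : Subgroup G, ¬ H ≤ M.normalCore → ∃ C : Subgroup G, H ⊔ C = ⊤ ∧ H ⊓ C = ⊥ := by
    intro H hH
    obtain ⟨h, hh, hhc⟩ := SetLike.not_le_iff_exists.1 hH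
    obtain ⟨g, hg⟩ : ∃ g : G, g * h * g⁻¹ ∉ M := not_forall.1 hhc
    refine CfsgLib.Maximal.exists_compl_of_map (MulAut.conj g) H ?_
    refine CfsgLib.Maximal.exists_compl_of_interval ⊥ X M bot_le ?_ huniq _ ?_ (inf_bot_eq _)
    · intro Y _ hYX
      obtain ⟨C, hC⟩ := hK.exists_isCompl (Y.subgroupOf X)
      have hYm : (Y.subgroupOf X).map X.subtype = Y := Subgroup.map_subgroupOf_eq_of_le hYX
      refine ⟨C.map X.subtype, bot_le, Subgroup.map_subtype_le _, ?_, ?_⟩
      · conv_lhs => rw [← hYm]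
        rw [← Subgroup.map_sup, hC.sup_eq_top, ← MonoidHom.range_eq_map, Subgroup.range_subtype]
      · conv_lhs => rw [← hYm]
        rw [← Subgroup.map_inf _ _ _ X.subtype_injective, hC.inf_eq_bot, Subgroup.map_bot]
    · exact fun hle => hg (hle ⟨h, hh, rfl⟩)
  refine ⟨h1, ⟨fun Q => ?_⟩⟩
  set π := QuotientGroup.mk' M.normalCore with hπ
  have hker : π.ker = M.normalCore := QuotientGroup.ker_mk' _
  have hsurj : Function.Surjective π := QuotientGroup.mk'_surjective _
  rcases eq_or_ne Q ⊥ with rfl | hQ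
  · exact ⟨⊤, isCompl_bot_top⟩
  have hne : ¬ Q.comap π ≤ M.normalCore := by
    intro hle
    apply hQ
    rw [← Subgroup.map_comap_eq_self_of_surjective hsurj Q, Subgroup.map_eq_bot_iff, hker]
    exact hle
  obtain ⟨C, hC1, hC2⟩ := h1 _ hne
  refine ⟨C.map π, ?_, ?_⟩
  · rw [disjoint_iff, eq_bot_iff]
    rintro q ⟨hq, c, hc, rfl⟩
    have hcb : c ∈ Q.comap π ⊓ C := ⟨hq, hc⟩
    rw [hC2, Subgroup.mem_bot] at hcb
    simp [hcb]
  · rw [codisjoint_iff, ← Subgroup.map_comap_eq_self_of_surjective hsurj Q, ← Subgroup.map_sup,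
      hC1, ← MonoidHom.range_eq_map, MonoidHom.range_eq_top]
    exact hsurj

end Cfsg.Agent.S5902
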