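import Cfsg.Statements.S5903
import Cfsg.Agent.Lib.Maximal.LatticeComplement

set_option autoImplicit false
open Cfsg

namespace Cfsg.Agent.S5903

/-- Let G be a finite simple group, X a subgroup lying in exactly one maximal subgroup M of G, and N a subgroup of prime order with N ≤ X that is central in M. If the subgroup lattice of X/N is complemented, then the subgroup lattice of G is complemented. -/
theorem result {G : Type*} [Group G] [Finite G] [IsSimpleGroup G] (X M N : Subgroup G)
    (hM : IsCoatom M) (hXM : X ≤ M) (huniq : ∀ M' : Subgroup G, IsCoatom M' → X ≤ M' → M' = M)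
    (hNX : N ≤ X) (hN : (Nat.card N).Prime) (hcen : ∀ n ∈ N, ∀ m ∈ M, m * n = n * m)
    [(N.subgroupOf X).Normal] (hK : ComplementedLattice (Subgroup (X ⧸ N.subgroupOf X))) :
    ComplementedLattice (Subgroup G) := by
  have : Fact (Nat.card N).Prime := ⟨hN⟩
  refine ⟨fun H => ?_⟩
  rcases eq_or_ne H ⊥ with rfl | hbot
  · exact ⟨⊤, isCompl_bot_top⟩
  rcases eq_or_ne H ⊤ with rfl | htop
  · exact ⟨⊥, isCompl_top_bot⟩
  suffices h : ∃ C : Subgroup G, H ⊔ C = ⊤ ∧ H ⊓ C = ⊥ by
    obtain ⟨C, h1, h2⟩ := h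
    exact ⟨C, disjoint_iff.2 h2, codisjoint_iff.2 h1⟩
  obtain ⟨g, hgM, hgN⟩ : ∃ g : G, ¬ H.map (MulAut.conj g).toMonoidHom ≤ M ∧
      ¬ N ≤ H.map (MulAut.conj g).toMonoidHom := by
    by_contra hcon
    push_neg at hcon
    -- every conjugate of `N` normalises `H`
    have key : ∀ g : G, ∀ n ∈ N, g⁻¹ * n * g ∈ Subgroup.normalizer (H : Set G) := by
      intro g n hn
      by_cases hle : H.map (MulAut.conj g).toMonoidHom ≤ M
      · rw [Subgroup.mem_normalizer_iff]
        have hfix : ∀ h ∈ H, (g⁻¹ * n * g) * h * (g⁻¹ * n * g)⁻¹ = h := by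
          intro h hh
          have hc : (g * h * g⁻¹) * n = n * (g * h * g⁻¹) := hcen n hn _ (hle ⟨h, hh, rfl⟩)
          calc (g⁻¹ * n * g) * h * (g⁻¹ * n * g)⁻¹
              = g⁻¹ * (n * (g * h * g⁻¹)) * n⁻¹ * g := by group
            _ = g⁻¹ * ((g * h * g⁻¹) * n) * n⁻¹ * g := by rw [hc]
            _ = h := by group
        intro h
        refine ⟨fun hh => by rw [hfix h hh]; exact hh, fun hh => ?_⟩
        have h2 := hfix _ hh
        have h3 : (g⁻¹ * n * g) * h * (g⁻¹ * n * g)⁻¹ = h := mul_left_cancel (mul_right_cancel h2)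
        rwa [h3] at hh
      · obtain ⟨h, hh, hhe⟩ := hcon g hle hn
        have : g⁻¹ * n * g = h := by rw [← hhe]; simp [mul_assoc]
        exact this ▸ Subgroup.le_normalizer hh
    have hN1 : N ≠ ⊥ := by
      rintro rfl
      exact hN.ne_one Subgroup.card_bot
    have hNn : Subgroup.normalClosure (N : Set G) ≤ Subgroup.normalizer (H : Set G) := by
      refine Subgroup.closure_le _ |>.2 ?_
      intro x hx
      obtain ⟨n, hn, hc⟩ := Group.mem_conjugatesOfSet_iff.1 hx
      obtain ⟨c, rfl⟩ := isConj_iff.1 hc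
      simpa using key c⁻¹ n hn
    have hnc : Subgroup.normalClosure (N : Set G) = ⊤ :=
      (Subgroup.normalClosure_normal.eq_bot_or_eq_top).resolve_left fun h =>
        hN1 (eq_bot_iff.2 (h ▸ Subgroup.subset_normalClosure))
    have hHn : H.Normal := Subgroup.normalizer_eq_top_iff.1 (top_le_iff.1 (hnc ▸ hNn))
    exact (hHn.eq_bot_or_eq_top).elim hbot htop
  refine CfsgLib.Maximal.exists_compl_of_map (MulAut.conj g) H ?_
  refine CfsgLib.Maximal.exists_compl_of_interval N X M hNX
    (CfsgLib.Maximal.interval_of_quotient N X hNX hK) huniq _ hgM ?_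
  rcases ((H.map (MulAut.conj g).toMonoidHom).subgroupOf N).eq_bot_or_eq_top_of_prime_card with h | h
  · rw [eq_bot_iff]
    rintro x ⟨hxH, hxN⟩
    have : (⟨x, hxN⟩ : N) ∈ (H.map (MulAut.conj g).toMonoidHom).subgroupOf N := hxH
    rw [h, Subgroup.mem_bot] at this
    simpa using congrArg Subtype.val this
  · exact absurd (fun x hx => (h ▸ Subgroup.mem_top (⟨x, hx⟩ : N) :
      (⟨x, hx⟩ : N) ∈ (H.map (MulAut.conj g).toMonoidHom).subgroupOf N)) hgN

end Cfsg.Agent.S5903
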