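import Cfsg.Statements.S5904

set_option autoImplicit false
open scoped Pointwise
open Cfsg

namespace Cfsg.Agent.S5904

/-- Let Ω be a finite set with more than two elements and O ⊆ Ω a subset with exactly as many elements as its complement. Then the setwise stabilizer of O in the symmetric group on Ω is not a maximal subgroup (it is properly contained in the stabilizer of the partition {O, Ω ∖ O}, which is proper). -/
theorem result {Ω : Type*} [Fintype Ω] [DecidableEq Ω] (hΩ : 2 < Fintype.card Ω)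
    (O : Set Ω) (hO : Nat.card O = Nat.card ↥Oᶜ) :
    ¬ IsCoatom (MulAction.stabilizer (Equiv.Perm Ω) O) := by
  classical
  intro hco
  obtain ⟨e⟩ := Finite.card_eq.1 hO
  -- an involution swapping `O` and its complement
  let τ : Equiv.Perm Ω := (Equiv.Set.sumCompl O).symm.trans
    ((Equiv.sumCongr e e.symm).trans ((Equiv.sumComm _ _).trans (Equiv.Set.sumCompl O)))
  have hτ1 : ∀ x ∈ O, τ x ∉ O := by
    intro x hx
    simp only [τ, Equiv.trans_apply, Equiv.Set.sumCompl_symm_apply_of_mem hx]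
    exact (e ⟨x, hx⟩).2
  have hτ2 : ∀ x, x ∉ O → τ x ∈ O := by
    intro x hx
    simp only [τ, Equiv.trans_apply, Equiv.Set.sumCompl_symm_apply_of_notMem hx]
    exact (e.symm ⟨x, hx⟩).2
  have hτ : ∀ x, (τ x ∈ O ↔ x ∉ O) := fun x =>
    ⟨fun h h' => hτ1 x h' h, hτ2 x⟩
  -- the stabiliser of the partition
  let K : Subgroup (Equiv.Perm Ω) :=
    { carrier := {g | ∀ x y, ((x ∈ O ↔ y ∈ O) ↔ (g x ∈ O ↔ g y ∈ O))}
      one_mem' := fun x y => Iff.rfl
      mul_mem' := fun {a b} ha hb x y => (hb x y).trans (ha (b x) (b y))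
      inv_mem' := fun {a} ha x y => by simpa using (ha (a⁻¹ x) (a⁻¹ y)).symm }
  have hstab : ∀ g, g ∈ MulAction.stabilizer (Equiv.Perm Ω) O ↔ ∀ x, (g x ∈ O ↔ x ∈ O) := fun g => by
    rw [MulAction.mem_stabilizer_set]; exact Iff.rfl
  have hle : MulAction.stabilizer (Equiv.Perm Ω) O ≤ K := by
    intro g hg x y
    rw [(hstab g).1 hg x, (hstab g).1 hg y]
  have hτK : τ ∈ K := fun x y => by rw [hτ x, hτ y]; tauto
  have hc : Nat.card O + Nat.card (↥Oᶜ) = Fintype.card Ω := by
    rw [← Nat.card_sum, Nat.card_congr (Equiv.Set.sumCompl O), Nat.card_eq_fintype_card]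
  have h2 : 1 < Nat.card O := by omega
  have hτS : τ ∉ MulAction.stabilizer (Equiv.Perm Ω) O := by
    intro h
    obtain ⟨⟨x, hx⟩⟩ : Nonempty O := (Nat.card_pos_iff.1 (by omega)).1
    exact hτ1 x hx (((hstab τ).1 h x).2 hx)
  have hKtop : K = ⊤ := hco.2 K (lt_of_le_of_ne hle fun h => hτS (h ▸ hτK))
  obtain ⟨⟨a, ha⟩, ⟨b, hb⟩, hab⟩ := (Finite.one_lt_card_iff_nontrivial.1 h2).exists_pair_ne
  have hab' : a ≠ b := fun h => hab (Subtype.ext h)
  have hsw : Equiv.swap b (τ b) ∈ K := hKtop ▸ Subgroup.mem_top _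
  have := (hsw a b).1 (by tauto)
  rw [Equiv.swap_apply_left, Equiv.swap_apply_of_ne_of_ne hab'
    (fun h : a = τ b => hτ1 b hb (h ▸ ha))] at this
  exact hτ1 b hb (this.1 ha)

end Cfsg.Agent.S5904
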