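import Cfsg.Statements.S5908
import Cfsg.Agent.Lib.ClassicalGroups.HermGroup

set_option autoImplicit false
open Cfsg

namespace Cfsg.Agent.S5908

/-- Addition table of the field with four elements `0, 1, w, w+1`. -/
def add4 (a b : Fin 4) : Fin 4 := ![![0, 1, 2, 3], ![1, 0, 3, 2], ![2, 3, 0, 1], ![3, 2, 1, 0]] a b

/-- Multiplication table of the field with four elements. -/
def mul4 (a b : Fin 4) : Fin 4 := ![![0, 0, 0, 0], ![0, 1, 2, 3], ![0, 2, 3, 1], ![0, 3, 1, 2]] a b

/-- A triple of codes. -/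
abbrev Col : Type := Fin 4 × Fin 4 × Fin 4

/-- The Hermitian product of two columns. -/
def dot4 (c d : Col) : Fin 4 :=
  add4 (add4 (mul4 c.1 (mul4 d.1 d.1)) (mul4 c.2.1 (mul4 d.2.1 d.2.1))) (mul4 c.2.2 (mul4 d.2.2 d.2.2))

/-- Linear combination of three columns. -/
def comb (c d e : Col) (t : Col) : Col :=
  (add4 (add4 (mul4 c.1 t.1) (mul4 d.1 t.2.1)) (mul4 e.1 t.2.2),
   add4 (add4 (mul4 c.2.1 t.1) (mul4 d.2.1 t.2.1)) (mul4 e.2.1 t.2.2),
   add4 (add4 (mul4 c.2.2 t.1) (mul4 d.2.2 t.2.1)) (mul4 e.2.2 t.2.2))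

/-- Determinant of three columns (the sign does not matter in characteristic two). -/
def det4 (c d e : Col) : Fin 4 :=
  add4 (add4 (add4 (mul4 c.1 (mul4 d.2.1 e.2.2)) (mul4 c.1 (mul4 e.2.1 d.2.2)))
    (add4 (mul4 d.1 (mul4 c.2.1 e.2.2)) (mul4 d.1 (mul4 e.2.1 c.2.2))))
    (add4 (mul4 e.1 (mul4 c.2.1 d.2.2)) (mul4 e.1 (mul4 d.2.1 c.2.2)))

/-- At most one non-zero entry. -/
def monoCol (c : Col) : Bool :=
  (c.2.1 == 0 && c.2.2 == 0) || (c.1 == 0 && c.2.2 == 0) || (c.1 == 0 && c.2.1 == 0)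

/-- The columns of norm one. -/
def unitCols : List Col :=
  (((List.finRange 4).flatMap fun a => (List.finRange 4).flatMap fun b =>
    (List.finRange 4).map fun c => (a, b, c))).filter fun c => dot4 c c == 1

theorem mem_unitCols : ∀ c : Col, dot4 c c = 1 → c ∈ unitCols := by
  decide +kernel

/-- Every special unitary matrix is monomial, or its square is monomial and not scalar. -/
theorem unitary_table : ∀ c ∈ unitCols, ∀ d ∈ unitCols, dot4 c d = 0 →
    ∀ e ∈ unitCols, dot4 c e = 0 → dot4 d e = 0 → det4 c d e = 1 →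
    (monoCol c && monoCol d && monoCol e) = true ∨
    (monoCol (comb c d e c) && monoCol (comb c d e d) && monoCol (comb c d e e)) = true ∧
      ¬ ((comb c d e c).2.1 = 0 ∧ (comb c d e c).2.2 = 0 ∧ (comb c d e d).1 = 0 ∧
        (comb c d e d).2.2 = 0 ∧ (comb c d e e).1 = 0 ∧ (comb c d e e).2.1 = 0 ∧
        (comb c d e c).1 = (comb c d e d).2.1 ∧ (comb c d e c).1 = (comb c d e e).2.2) := by
  decide +kernel

variable {F : Type*} [Field F]

/-- Monomial shape of a matrix. -/
def IsMono (A : Matrix (Fin 3) (Fin 3) F) : Prop := ∀ j, ∃ i, ∀ k, k ≠ i → A k j = 0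

theorem isMono_mul {A B : Matrix (Fin 3) (Fin 3) F} (hA : IsMono A) (hB : IsMono B) : IsMono (A * B) := by
  intro j
  obtain ⟨i, hi⟩ := hB j
  obtain ⟨m, hm⟩ := hA i
  refine ⟨m, fun k hk => ?_⟩
  rw [Matrix.mul_apply, Finset.sum_eq_single i (fun l _ hl => by rw [hi l hl, mul_zero])
    (fun h => absurd (Finset.mem_univ _) h), hm k hk, zero_mul]

theorem isMono_one : IsMono (1 : Matrix (Fin 3) (Fin 3) F) := fun j => ⟨j, fun _ hk => Matrix.one_apply_ne hk⟩

/-- The monomial subgroup. -/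
def monoGroup [Fintype F] : Subgroup (Cfsg.SU 3 F 2) where
  carrier := {g | IsMono g.1.1}
  one_mem' := isMono_one
  mul_mem' := fun {a b} ha hb => isMono_mul ha hb
  inv_mem' := fun {a} ha => by
    classical
    have hpow : ∀ n : ℕ, IsMono (a ^ n).1.1 := by
      intro n
      induction n with
      | zero => exact isMono_one
      | succ n ih => rw [pow_succ]; exact isMono_mul ih ha
    have : a⁻¹ = a ^ (orderOf a - 1) := by
      refine inv_eq_of_mul_eq_one_right ?_
      rw [← pow_succ', Nat.sub_add_cancel (orderOf_pos a), pow_orderOf_eq_one]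
    show IsMono (a⁻¹).1.1
    rw [this]
    exact hpow _

theorem exists_coding [Fintype F] (hF : Fintype.card F = 4) :
    ∃ φ : Fin 4 ≃ F, φ 0 = 0 ∧ φ 1 = 1 ∧ (∀ a b, φ (add4 a b) = φ a + φ b) ∧
      (∀ a b, φ (mul4 a b) = φ a * φ b) := by
  classical
  have h2 : (2 : F) = 0 := by
    have h : ((4 : ℕ) : F) = 0 := by rw [← hF]; exact FiniteField.cast_card_eq_zero F
    have h' : (2 : F) * 2 = 0 := by
      rw [← h]; norm_num
    exact mul_self_eq_zero.1 h'
  obtain ⟨w, hw⟩ : ∃ w : F, w ∉ ({0, 1} : Finset F) := by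
    obtain ⟨w, -, hw⟩ := Finset.exists_mem_notMem_of_card_lt_card
      (s := ({0, 1} : Finset F)) (t := Finset.univ)
      (by rw [Finset.card_univ, hF]; exact lt_of_le_of_lt Finset.card_le_two (by norm_num))
    exact ⟨w, hw⟩
  simp only [Finset.mem_insert, Finset.mem_singleton, not_or] at hw
  have h4 : w ^ 4 = w := by rw [← hF]; exact FiniteField.pow_card w
  have hrel : w * w = w + 1 := by
    have : w * (w - 1) * (w * w + w + 1) = 0 := by linear_combination h4
    rcases mul_eq_zero.1 this with h | h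
    · rcases mul_eq_zero.1 h with h | h
      · exact absurd h hw.1
      · exact absurd (sub_eq_zero.1 h) hw.2
    · linear_combination h - (w + 1) * h2
  have hinj : Function.Injective (![0, 1, w, w + 1] : Fin 4 → F) := by
    have e1 : w + 1 ≠ 0 := fun h => hw.2 (by linear_combination h - h2)
    have e2 : w + 1 ≠ 1 := fun h => hw.1 (by linear_combination h)
    have e3 : w + 1 ≠ w := fun h => one_ne_zero (α := F) (by linear_combination h)
    intro a b
    fin_cases a <;> fin_cases b <;>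
      simp [hw.1, hw.2, Ne.symm hw.1, Ne.symm hw.2, e1, e2, e3, Ne.symm e1, Ne.symm e2, Ne.symm e3]
  refine ⟨Equiv.ofBijective _ ((Fintype.bijective_iff_injective_and_card _).2 ⟨hinj, by simp [hF]⟩),
    rfl, rfl, ?_, ?_⟩
  · intro a b
    fin_cases a <;> fin_cases b <;> simp [add4] <;> first
      | linear_combination (-(1 : F)) * h2
      | linear_combination (-w) * h2
      | linear_combination (-(1 + w)) * h2
      | linear_combination (1 + w) * h2
      | linear_combination w * h2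
      | linear_combination h2
      | ring
  · intro a b
    fin_cases a <;> fin_cases b <;> simp [mul4] <;> first
      | linear_combination -hrel
      | linear_combination -hrel - w * h2
      | linear_combination -hrel - (w + 1) * h2

theorem key_dichotomy [Fintype F] (hF : Fintype.card F = 4) (g : Cfsg.SU 3 F 2) :
    g ∈ monoGroup ∨ (g ^ 2 ∈ monoGroup ∧ g ^ 2 ∉ Subgroup.center (Cfsg.SU 3 F 2)) := by
  classical
  obtain ⟨φ, h0, h1, hadd, hmul⟩ := exists_coding hF
  have hdef : ∀ u v, Cfsg.hermForm 3 F 2 (g.1.1.mulVec u) (g.1.1.mulVec v) = Cfsg.hermForm 3 F 2 u v :=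
    CfsgLib.ClassicalGroups.mem_SU_iff.1 g.2
  let col : Fin 3 → Col := fun j => (φ.symm (g.1.1 0 j), φ.symm (g.1.1 1 j), φ.symm (g.1.1 2 j))
  have hdot : ∀ j k, φ (dot4 (col j) (col k)) = if j = k then 1 else 0 := by
    intro j k
    have h := hdef (Pi.single j 1) (Pi.single k 1)
    simp only [Matrix.mulVec_single_one, Matrix.col_apply, Cfsg.hermForm, Fin.sum_univ_three] at h
    simp only [dot4, col, hadd, hmul, Equiv.apply_symm_apply]
    rw [show g.1.1 0 j * (g.1.1 0 k * g.1.1 0 k) + g.1.1 1 j * (g.1.1 1 k * g.1.1 1 k) +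
      g.1.1 2 j * (g.1.1 2 k * g.1.1 2 k) = g.1.1 0 j * g.1.1 0 k ^ 2 + g.1.1 1 j * g.1.1 1 k ^ 2 +
      g.1.1 2 j * g.1.1 2 k ^ 2 by ring, h]
    fin_cases j <;> fin_cases k <;> simp [Pi.single_apply]
  have hu : ∀ j, col j ∈ unitCols := fun j => mem_unitCols _ (φ.injective (by rw [hdot, if_pos rfl, h1]))
  have ho : ∀ j k, j ≠ k → dot4 (col j) (col k) = 0 := fun j k h =>
    φ.injective (by rw [hdot, if_neg h, h0])
  have hdet : det4 (col 0) (col 1) (col 2) = 1 := by
    apply φ.injective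
    have h2 : (2 : F) = 0 := by
      have h := hadd 1 1
      rw [show add4 1 1 = 0 from rfl, h0, h1] at h
      linear_combination -h
    have hg : g.1.1.det = 1 := g.1.2
    rw [Matrix.det_fin_three] at hg
    simp only [det4, col, hadd, hmul, Equiv.apply_symm_apply, h1]
    linear_combination hg + (g.1.1 0 0 * g.1.1 1 2 * g.1.1 2 1 + g.1.1 0 1 * g.1.1 1 0 * g.1.1 2 2 +
      g.1.1 0 2 * g.1.1 1 1 * g.1.1 2 0) * h2
  have hmono : ∀ (A : Matrix (Fin 3) (Fin 3) F) (c : Fin 3 → Col),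
      (∀ j, A 0 j = φ (c j).1 ∧ A 1 j = φ (c j).2.1 ∧ A 2 j = φ (c j).2.2) →
      (monoCol (c 0) && monoCol (c 1) && monoCol (c 2)) = true → IsMono A := by
    intro A c hA hc
    simp only [Bool.and_eq_true] at hc
    intro j
    have hj : monoCol (c j) = true := by fin_cases j <;> tauto
    simp only [monoCol, Bool.or_eq_true, Bool.and_eq_true, beq_iff_eq] at hj
    obtain ⟨a0, a1, a2⟩ := hA j
    rcases hj with (⟨p, r⟩ | ⟨p, r⟩) | ⟨p, r⟩
    · refine ⟨0, fun k hk => ?_⟩
      fin_cases k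
      · exact absurd rfl hk
      · simpa [p, h0] using a1
      · simpa [r, h0] using a2
    · refine ⟨1, fun k hk => ?_⟩
      fin_cases k
      · simpa [p, h0] using a0
      · exact absurd rfl hk
      · simpa [r, h0] using a2
    · refine ⟨2, fun k hk => ?_⟩
      fin_cases k
      · simpa [p, h0] using a0
      · simpa [r, h0] using a1
      · exact absurd rfl hk
  have hsq : ∀ j, (g ^ 2).1.1 0 j = φ (comb (col 0) (col 1) (col 2) (col j)).1 ∧
      (g ^ 2).1.1 1 j = φ (comb (col 0) (col 1) (col 2) (col j)).2.1 ∧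
      (g ^ 2).1.1 2 j = φ (comb (col 0) (col 1) (col 2) (col j)).2.2 := by
    intro j
    have hg2 : (g ^ 2).1.1 = g.1.1 * g.1.1 := by rw [pow_two]; rfl
    simp only [hg2, comb, col, hadd, hmul, Equiv.apply_symm_apply, Matrix.mul_apply, Fin.sum_univ_three,
      and_self]
  rcases unitary_table _ (hu 0) _ (hu 1) (ho 0 1 (by decide)) _ (hu 2) (ho 0 2 (by decide))
    (ho 1 2 (by decide)) hdet with h | ⟨h, hns⟩
  · exact Or.inl (hmono _ col (fun j => by simp [col]) h)
  · refine Or.inr ⟨hmono _ (fun j => comb (col 0) (col 1) (col 2) (col j)) hsq h, fun hc => hns ?_⟩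
    have hs := CfsgLib.ClassicalGroups.center_SU_scalar (F := F) (q := 2) (by rw [hF]; norm_num)
      (⟨g ^ 2, hc⟩ : Subgroup.center (Cfsg.SU 3 F 2))
    have e := fun (a b : Fin 4) (h : φ a = φ b) => φ.injective h
    refine ⟨e _ _ ?_, e _ _ ?_, e _ _ ?_, e _ _ ?_, e _ _ ?_, e _ _ ?_, e _ _ ?_, e _ _ ?_⟩
    · rw [h0, ← (hsq 0).2.1]; exact (hs 1 0).1 (by decide)
    · rw [h0, ← (hsq 0).2.2]; exact (hs 2 0).1 (by decide)
    · rw [h0, ← (hsq 1).1]; exact (hs 0 1).1 (by decide)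
    · rw [h0, ← (hsq 1).2.2]; exact (hs 2 1).1 (by decide)
    · rw [h0, ← (hsq 2).1]; exact (hs 0 2).1 (by decide)
    · rw [h0, ← (hsq 2).2.1]; exact (hs 1 2).1 (by decide)
    · rw [← (hsq 0).1, ← (hsq 1).2.1]; exact (hs 0 1).2
    · rw [← (hsq 0).1, ← (hsq 2).2.2]; exact (hs 0 2).2

theorem fourier_table : ∀ u v : Col,
    dot4 (comb (1, 1, 1) (1, 2, 3) (1, 3, 2) u) (comb (1, 1, 1) (1, 2, 3) (1, 3, 2) v) = dot4 u v := by
  decide +kernel

theorem exists_not_mono [Fintype F] (hF : Fintype.card F = 4) :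
    ∃ g : Cfsg.SU 3 F 2, g ∉ monoGroup := by
  obtain ⟨φ, h0, h1, hadd, hmul⟩ := exists_coding hF
  let A : Matrix (Fin 3) (Fin 3) F := !![1, 1, 1; 1, φ 2, φ 3; 1, φ 3, φ 2]
  have hA : A.det = 1 := by
    have e2 : φ (mul4 2 2) = φ 2 * φ 2 := hmul 2 2
    have e3 : φ (mul4 3 3) = φ 3 * φ 3 := hmul 3 3
    have e4 : φ (add4 2 3) = φ 2 + φ 3 := hadd 2 3
    have h2 : (2 : F) = 0 := by
      have h := hadd 1 1
      rw [show add4 1 1 = 0 from rfl, h0, h1] at h
      linear_combination -h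
    simp only [show mul4 2 2 = 3 from rfl, show mul4 3 3 = 2 from rfl, show add4 2 3 = 1 from rfl, h1]
      at e2 e3 e4
    simp only [A, Matrix.det_fin_three, Matrix.of_apply, Matrix.cons_val', Matrix.cons_val_zero,
      Matrix.cons_val_one, Matrix.cons_val_fin_one, Matrix.cons_val]
    linear_combination (-(1 : F)) * e2 + e3 + (-(1 : F)) * e4 + (-2 * φ 2 + φ 3) * h2
  obtain ⟨s, hs⟩ : ∃ s : Matrix.SpecialLinearGroup (Fin 3) F, s.1 = A := ⟨⟨A, hA⟩, rfl⟩
  have hmem : s ∈ Cfsg.SU 3 F 2 := by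
    rw [CfsgLib.ClassicalGroups.mem_SU_iff]
    intro u v
    rw [hs]
    have h := congrArg φ (fourier_table (φ.symm (u 0), φ.symm (u 1), φ.symm (u 2))
      (φ.symm (v 0), φ.symm (v 1), φ.symm (v 2)))
    simp only [dot4, comb, hadd, hmul, Equiv.apply_symm_apply, h1] at h
    simp only [Cfsg.hermForm, Matrix.mulVec, dotProduct, Fin.sum_univ_three, A, Matrix.of_apply,
      Matrix.cons_val', Matrix.cons_val_zero, Matrix.cons_val_one, Matrix.cons_val_fin_one, Matrix.cons_val,
      pow_two]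
    linear_combination h
  refine ⟨⟨_, hmem⟩, fun hm => ?_⟩
  obtain ⟨i, hi⟩ := hm 0
  rw [show ((⟨s, hmem⟩ : Cfsg.SU 3 F 2)).1.1 = A from hs] at hi
  fin_cases i
  · simpa [A] using hi 1 (by decide)
  · simpa [A] using hi 0 (by decide)
  · simpa [A] using hi 0 (by decide)

/-- The subgroup lattice of PSU₃(2) (the solvable group of order 72, realised over the field with 4 elements) is not complemented: some subgroup H has no subgroup X with H ⊔ X = ⊤ and H ⊓ X = ⊥. -/
theorem result {F : Type*} [Field F] [Fintype F] (hF : Fintype.card F = 4) :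
    ¬ ComplementedLattice (Subgroup (Cfsg.PSU 3 F 2)) := by
  intro hc
  obtain ⟨g0, hg0⟩ := exists_not_mono hF
  set Z := Subgroup.center (Cfsg.SU 3 F 2) with hZdef
  let π := QuotientGroup.mk' Z
  have hZ : Z ≤ monoGroup := fun z hz j => ⟨j, fun k hk =>
    (CfsgLib.ClassicalGroups.center_SU_scalar (F := F) (q := 2) (by rw [hF]; norm_num) ⟨z, hz⟩ k j).1 hk⟩
  have hmap : ∀ g, π g ∈ monoGroup.map π → g ∈ monoGroup := by
    rintro g ⟨m, hm, he⟩
    have hz : m⁻¹ * g ∈ Z := (QuotientGroup.eq).1 he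
    simpa using monoGroup.mul_mem hm (hZ hz)
  obtain ⟨X, hX⟩ := hc.exists_isCompl (monoGroup.map π)
  have hXM : X ≤ monoGroup.map π := by
    intro x hx
    obtain ⟨g, rfl⟩ := QuotientGroup.mk'_surjective Z x
    rcases key_dichotomy hF g with h | ⟨h, hn⟩
    · exact ⟨g, h, rfl⟩
    · exfalso
      apply hn
      have hbot : π (g ^ 2) ∈ monoGroup.map π ⊓ X := ⟨⟨_, h, rfl⟩, by rw [map_pow]; exact X.pow_mem hx 2⟩
      rw [hX.inf_eq_bot, Subgroup.mem_bot] at hbot
      exact (QuotientGroup.eq_one_iff _).1 hbot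
  have htop := hX.sup_eq_top
  rw [sup_eq_left.2 hXM] at htop
  exact hg0 (hmap g0 (htop ▸ Subgroup.mem_top _))

end Cfsg.Agent.S5908
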