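import Cfsg.Statements.S5910
import Cfsg.Agent.Lib.Maximal.BlockGroupAlt

set_option autoImplicit false
open Cfsg

namespace Cfsg.Agent.S5910

/-- Sum of three elements of the four-element affine plane. -/
def x3 (i j k : Fin 4) : Fin 4 :=
  ⟨((i : ℕ) ^^^ (j : ℕ) ^^^ (k : ℕ)) % 4, Nat.mod_lt _ (by norm_num)⟩

/-- The affine combination `p + q + r` on eight points. -/
def op (p q r : Fin 4 × Fin 2) : Fin 4 × Fin 2 := (x3 p.1 q.1 r.1, p.2 + q.2 + r.2)

/-- Permutations commuting with the affine combination. -/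
def affineGroup : Subgroup (Equiv.Perm (Fin 4 × Fin 2)) where
  carrier := {g | ∀ p q r, g (op p q r) = op (g p) (g q) (g r)}
  one_mem' := fun _ _ _ => rfl
  mul_mem' := fun {g h} hg hh p q r => by
    simp only [Equiv.Perm.mul_apply]; rw [hh, hg]
  inv_mem' := fun {g} hg p q r => by
    apply g.injective
    rw [hg]
    simp

theorem perm4_affine : ∀ s : Fin 4 → Fin 4, (∀ i j, s i = s j → i = j) →
    ∀ i j k, s (x3 i j k) = x3 (s i) (s j) (s k) := by
  decide +kernel

theorem shift_affine : ∀ d : Fin 4 → Fin 2, d 0 + d 1 + d 2 + d 3 = 0 →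
    ∀ i j k, d (x3 i j k) = d i + d j + d k := by
  decide +kernel

/-- Flip inside the blocks prescribed by `d`. -/
def flips (d : Fin 4 → Fin 2) : Equiv.Perm (Fin 4 × Fin 2) where
  toFun p := (p.1, p.2 + d p.1)
  invFun p := (p.1, p.2 + d p.1)
  left_inv p := by
    obtain ⟨i, c⟩ := p
    simp only [Prod.mk.injEq, true_and]
    generalize d i = e
    revert c e
    decide
  right_inv p := by
    obtain ⟨i, c⟩ := p
    simp only [Prod.mk.injEq, true_and]
    generalize d i = e
    revert c e
    decide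

theorem sign_flips : ∀ d : Fin 4 → Fin 2, Equiv.Perm.sign (flips d) = 1 → d 0 + d 1 + d 2 + d 3 = 0 := by
  decide +kernel

theorem sign_blockPerm (σ : Equiv.Perm (Fin 4)) :
    Equiv.Perm.sign (Equiv.prodCongr σ (1 : Equiv.Perm (Fin 2))) = 1 := by
  induction σ using Equiv.Perm.swap_induction_on with
  | one =>
    rw [show Equiv.prodCongr (1 : Equiv.Perm (Fin 4)) (1 : Equiv.Perm (Fin 2)) = 1 from
      Equiv.ext fun p => rfl, map_one]
  | swap_mul g x y hxy ih =>
    rw [show Equiv.prodCongr (Equiv.swap x y * g) (1 : Equiv.Perm (Fin 2)) =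
      Equiv.prodCongr (Equiv.swap x y) (1 : Equiv.Perm (Fin 2)) * Equiv.prodCongr g 1 from
      Equiv.ext fun p => rfl, map_mul, ih, mul_one]
    revert x y
    decide +kernel

theorem block_le_affine :
    CfsgLib.Maximal.blockGroup (Prod.fst : Fin 4 × Fin 2 → Fin 4) ⊓ alternatingGroup _ ≤ affineGroup := by
  intro g hg
  obtain ⟨hW, hA⟩ := hg
  replace hA : g ∈ alternatingGroup (Fin 4 × Fin 2) := hA
  replace hW : g ∈ CfsgLib.Maximal.blockGroup (Prod.fst : Fin 4 × Fin 2 → Fin 4) := hW
  rw [Equiv.Perm.mem_alternatingGroup] at hA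
  let s : Fin 4 → Fin 4 := fun i => (g (i, 0)).1
  have hs : ∀ i j, s i = s j → i = j := fun i j h => (hW (i, 0) (j, 0)).2 h
  let σ : Equiv.Perm (Fin 4) := Equiv.ofBijective s (Finite.injective_iff_bijective.1 hs)
  let d : Fin 4 → Fin 2 := fun i => (g (i, 0)).2
  have hg' : ∀ i c, g (i, c) = (s i, c + d i) := by
    intro i c
    fin_cases c
    · exact Prod.ext rfl (zero_add _).symm
    · have h1 : (g (i, 1)).1 = s i := ((hW (i, 0) (i, 1)).1 rfl).symm
      have h2 : (g (i, 1)).2 ≠ d i := fun h => by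
        simpa using g.injective (a₁ := (i, 1)) (a₂ := (i, 0)) (Prod.ext h1 h)
      refine Prod.ext h1 ?_
      revert h2
      show (g (i, 1)).2 ≠ d i → (g (i, 1)).2 = 1 + d i
      generalize (g (i, 1)).2 = a
      generalize d i = b
      revert a b
      decide
  have hdec : g = Equiv.prodCongr σ (1 : Equiv.Perm (Fin 2)) * flips d := by
    ext p
    · simp [hg' p.1 p.2, σ, flips]
    · simp [hg' p.1 p.2, σ, flips]
  have hd : d 0 + d 1 + d 2 + d 3 = 0 := sign_flips d (by
    rw [hdec, map_mul, sign_blockPerm, one_mul] at hA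
    exact hA)
  rintro ⟨i, a⟩ ⟨j, b⟩ ⟨k, c⟩
  rw [show op (i, a) (j, b) (k, c) = (x3 i j k, a + b + c) from rfl, hg', hg', hg', hg',
    perm4_affine s hs, shift_affine d hd]
  simp only [op, Prod.mk.injEq, true_and]
  abel

/-- An affine permutation breaking the pairs. -/
def mover : Equiv.Perm (Fin 4 × Fin 2) :=
  Equiv.swap (1, 0) (0, 1) * Equiv.swap (3, 0) (2, 1)

theorem mover_affine : mover ∈ affineGroup := by
  show ∀ p q r, mover (op p q r) = op (mover p) (mover q) (mover r)
  decide +kernel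

/-- A three-cycle that is not affine. -/
def breaker : Equiv.Perm (Fin 4 × Fin 2) :=
  Equiv.swap (1, 0) (2, 0) * Equiv.swap (0, 0) (1, 0)

theorem breaker_not : ∃ p q r, breaker (op p q r) ≠ op (breaker p) (breaker q) (breaker r) := by
  decide +kernel

/-- Let Ω be a set of eight points partitioned into four pairs. Then the group of even permutations preserving the partition, a copy of (S₂ wr S₄) ∩ A₈, is not maximal in the alternating group on Ω (it lies in an affine group AGL₃(2) of order 1344). -/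
theorem result {Ω : Type*} [Fintype Ω] [DecidableEq Ω] (h8 : Fintype.card Ω = 8)
    (f : Ω → Fin 4) (hf : ∀ i : Fin 4, Nat.card {x : Ω // f x = i} = 2) :
    ¬ IsCoatom ((Subgroup.closure {g : Equiv.Perm Ω | ∀ x y : Ω, f x = f y ↔ f (g x) = f (g y)} ⊓ alternatingGroup Ω).subgroupOf (alternatingGroup Ω)) := by
  rw [CfsgLib.Maximal.closure_eq_blockGroup]
  obtain ⟨e, he⟩ := CfsgLib.Maximal.exists_blockEquiv f hf
  intro hco
  let L : Subgroup (alternatingGroup Ω) :=
    (affineGroup.comap e.permCongrHom.toMonoidHom).subgroupOf (alternatingGroup Ω)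
  have hsgn : ∀ g : Equiv.Perm Ω, Equiv.Perm.sign (e.permCongrHom g) = Equiv.Perm.sign g :=
    fun g => Equiv.Perm.sign_permCongr _ _
  have hback : ∀ p, e.permCongrHom (e.symm.permCongrHom p) = p := fun p => by
    ext x <;> simp [Equiv.permCongrHom, Equiv.permCongr_apply]
  have hle : (CfsgLib.Maximal.blockGroup f ⊓ alternatingGroup Ω).subgroupOf (alternatingGroup Ω) ≤ L := by
    intro g hg
    refine block_le_affine ⟨fun x y => ?_, ?_⟩
    · simpa [Equiv.permCongrHom, Equiv.permCongr_apply, ← he] using hg.1 (e.symm x) (e.symm y)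
    · show e.permCongrHom g.1 ∈ alternatingGroup _
      rw [Equiv.Perm.mem_alternatingGroup, hsgn]
      exact Equiv.Perm.mem_alternatingGroup.1 g.2
  have hmem : ∀ p, Equiv.Perm.sign p = 1 → e.symm.permCongrHom p ∈ alternatingGroup Ω := fun p hp => by
    rw [Equiv.Perm.mem_alternatingGroup, ← hp]
    exact Equiv.Perm.sign_permCongr _ _
  have hm : (⟨_, hmem mover (by decide +kernel)⟩ : alternatingGroup Ω) ∈ L := by
    show e.permCongrHom (e.symm.permCongrHom mover) ∈ affineGroup
    rw [hback]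
    exact mover_affine
  have hne : (CfsgLib.Maximal.blockGroup f ⊓ alternatingGroup Ω).subgroupOf (alternatingGroup Ω) ≠ L := by
    intro h
    have hh := (h.ge hm).1 (e.symm (0, 0)) (e.symm (0, 1))
    simp [Equiv.permCongrHom, Equiv.permCongr_apply, ← he] at hh
    revert hh
    decide +kernel
  have htop := hco.2 L (lt_of_le_of_ne hle hne)
  have hb : (⟨_, hmem breaker (by decide +kernel)⟩ : alternatingGroup Ω) ∈ L := htop ▸ Subgroup.mem_top _
  have hb' : e.permCongrHom (e.symm.permCongrHom breaker) ∈ affineGroup := hb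
  rw [hback] at hb'
  obtain ⟨p, q, r, hpqr⟩ := breaker_not
  exact hpqr (hb' p q r)

end Cfsg.Agent.S5910
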