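import Cfsg.Statements.S5912
import Cfsg.Agent.Lib.Maximal.SymSix

set_option autoImplicit false
open Cfsg

namespace Cfsg.Agent.S5912

/-- The symmetric group on a 6-element set Ω has exactly two conjugacy classes of subgroups of index 6: there are two non-conjugate subgroups of index 6 (a point stabilizer and a transitive subgroup isomorphic to S₅), and every subgroup of index 6 is conjugate to one of them. -/
theorem result {Ω : Type*} [Fintype Ω] [DecidableEq Ω] (h6 : Fintype.card Ω = 6) :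
    ∃ H₁ H₂ : Subgroup (Equiv.Perm Ω), H₁.index = 6 ∧ H₂.index = 6 ∧
      (¬ ∃ g : Equiv.Perm Ω, Subgroup.map (MulAut.conj g).toMonoidHom H₁ = H₂) ∧
      ∀ H : Subgroup (Equiv.Perm Ω), H.index = 6 →
        ∃ g : Equiv.Perm Ω, Subgroup.map (MulAut.conj g).toMonoidHom H₁ = H ∨ Subgroup.map (MulAut.conj g).toMonoidHom H₂ = H := by
  classical
  obtain ⟨ρ, hρ, hall⟩ := CfsgLib.Maximal.exotic_six_family h6
  obtain ⟨x⟩ : Nonempty Ω := Fintype.card_pos_iff.1 (by omega)
  have hst : ∀ z : Ω, (MulAction.stabilizer (Equiv.Perm Ω) z).index = 6 := fun z => by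
    rw [MulAction.index_stabilizer_of_transitive, Nat.card_eq_fintype_card, h6]
  have hmap : ∀ (g : Equiv.Perm Ω) (z : Ω),
      Subgroup.map (MulAut.conj g).toMonoidHom (MulAction.stabilizer (Equiv.Perm Ω) z) =
        MulAction.stabilizer (Equiv.Perm Ω) (g z) := fun g z =>
    (MulAction.stabilizer_smul_eq_stabilizer_map_conj g z).symm
  refine ⟨MulAction.stabilizer (Equiv.Perm Ω) x,
    (MulAction.stabilizer (Equiv.Perm Ω) x).comap ρ.toMonoidHom, hst x,
    by rw [Subgroup.index_comap_of_surjective _ ρ.surjective, hst], ?_, fun H hH => ?_⟩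
  · rintro ⟨g, hg⟩
    rw [hmap] at hg
    exact hρ (g x) x hg.symm
  by_cases hex : ∃ z : Ω, H = MulAction.stabilizer (Equiv.Perm Ω) z
  · obtain ⟨z, rfl⟩ := hex
    exact ⟨Equiv.swap x z, Or.inl (by rw [hmap, Equiv.swap_apply_left])⟩
  · obtain ⟨z, rfl⟩ := hall H hH (fun z hz => hex ⟨z, hz⟩)
    refine ⟨ρ⁻¹ (Equiv.swap x z), Or.inr ?_⟩
    rw [← Equiv.swap_apply_left x z, ← hmap]
    ext s
    simp only [Subgroup.mem_map_equiv, Subgroup.mem_comap, MulEquiv.coe_toMonoidHom,
      MulAut.conj_symm_apply, map_mul, map_inv, Equiv.swap_apply_left]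
    rw [show ρ (ρ⁻¹ (Equiv.swap x z)) = Equiv.swap x z from ρ.apply_symm_apply _]

end Cfsg.Agent.S5912
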