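import Cfsg.Statements.S5914
import Cfsg.Agent.Lib.Maximal.CharSimple

set_option autoImplicit false
open Cfsg

namespace Cfsg.Agent.S5914

/-- A non-trivial finite group G is characteristically simple (its only characteristic subgroups are 1 and G) if and only if G is isomorphic to a direct power S^n (n ≥ 1) of some simple group S (possibly cyclic of prime order). -/
theorem result {G : Type*} [Group G] [Finite G] [Nontrivial G] :
    (∀ H : Subgroup G, H.Characteristic → H = ⊥ ∨ H = ⊤) ↔
    ∃ (S : Type) (_ : Group S) (_ : IsSimpleGroup S) (n : ℕ), 1 ≤ n ∧ Nonempty (G ≃* (Fin n → S)) := by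
  classical
  constructor
  · intro h
    obtain ⟨T, n, hT, hn, ⟨e⟩⟩ := CfsgLib.Maximal.exists_pi_equiv_of_charSimple h
    let e0 : Shrink.{0} T ≃* T := Shrink.mulEquiv
    have : IsSimpleGroup (Shrink.{0} T) := e0.isSimpleGroup_congr.mpr hT
    exact ⟨Shrink.{0} T, inferInstance, this, n, hn,
      ⟨e.trans (MulEquiv.piCongrRight fun _ => e0.symm)⟩⟩
  · rintro ⟨S, _, _, n, -, ⟨e⟩⟩ H hH
    have hchar : (H.map e.toMonoidHom).Characteristic := by
      rw [Subgroup.characteristic_iff_map_le]
      intro ψ
      have h1 := Subgroup.characteristic_iff_map_eq.1 hH ((e.trans ψ).trans e.symm)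
      rw [Subgroup.map_map]
      intro y hy
      obtain ⟨x, hx, rfl⟩ := hy
      have : ((e.trans ψ).trans e.symm) x ∈ H := by
        rw [← h1]; exact ⟨x, hx, rfl⟩
      exact ⟨_, this, by simp⟩
    rcases CfsgLib.Maximal.pi_simple_char (H.map e.toMonoidHom) with h | h
    · exact Or.inl ((Subgroup.map_eq_bot_iff_of_injective _ e.injective).1 h)
    · refine Or.inr (Subgroup.map_injective (f := e.toMonoidHom) e.injective ?_)
      rw [h, ← MonoidHom.range_eq_map, eq_comm, MonoidHom.range_eq_top]
      exact e.surjective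

end Cfsg.Agent.S5914
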