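import Cfsg.Statements.S5938
import Cfsg.Agent.Lib.PSL2.MaxExceptional
-- import your own Cfsg.Agent.* helpers here

set_option autoImplicit false
open Cfsg

namespace Cfsg.Agent.S5938

/-- Let p be a prime with p ≡ ±1 (mod 8) and F a field with p elements. Then PSL_2(F) has a maximal subgroup isomorphic to the symmetric group S_4. -/
theorem result {F : Type*} [Field F] [Fintype F] (p : ℕ) [Fact p.Prime] (hF : Fintype.card F = p) (hp : p % 8 = 1 ∨ p % 8 = 7) : ∃ H : Subgroup (Matrix.ProjectiveSpecialLinearGroup (Fin 2) F), IsCoatom H ∧ Nonempty (H ≃* Equiv.Perm (Fin 4)) := by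
  classical
  have hpp : p.Prime := Fact.out
  have hp2 := hpp.two_le
  obtain ⟨p', hp'⟩ := CharP.exists F
  have : Fact p'.Prime := ⟨CharP.char_is_prime F p'⟩
  have hodd : Odd (Fintype.card F) := by rw [hF, Nat.odd_iff]; omega
  have h2 := CfsgLib.PSL2.two_ne_zero_of_odd hodd
  have hsq : IsSquare (2 : F) := by rw [FiniteField.isSquare_two_iff, hF]; omega
  obtain ⟨H, ⟨e⟩⟩ := CfsgLib.PSL2.exists_symm_four_psl h2 hsq
  have hc : Nat.card H = 24 := by rw [Nat.card_congr e.toEquiv, Nat.card_perm, Nat.card_fin]; rfl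
  have hbig := CfsgLib.PSL2.lt_card_psl hodd (b := 7) (by omega) 24 (by norm_num) (by norm_num)
  refine ⟨H, CfsgLib.PSL2.isCoatom_of_overgroups ?_ (fun M hle hM => ?_), ⟨e⟩⟩
  · rintro rfl; rw [Subgroup.card_top] at hc; omega
  have hd := Subgroup.card_dvd_of_le hle
  obtain ⟨f, hf⟩ := CfsgLib.PSL2.exists_alt_four_hom hle
    (e.symm.toMonoidHom.comp (alternatingGroup (Fin 4)).subtype)
    (e.symm.injective.comp (Subgroup.subtype_injective _))
  rw [hc] at hd ⊢
  rcases CfsgLib.PSL2.alt_four_overgroup p' h2 f hf with ⟨⟨g⟩⟩ | ⟨⟨g⟩⟩ | ⟨⟨g⟩⟩ | ⟨S, hS⟩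
  · rw [Nat.card_congr g.toEquiv, CfsgLib.PSL2.card_alt_four]; omega
  · rw [Nat.card_congr g.toEquiv, Nat.card_perm, Nat.card_fin]; rfl
  · rw [Nat.card_congr g.toEquiv, CfsgLib.PSL2.card_alt_five] at hd; norm_num at hd
  · exact absurd (CfsgLib.PSL2.eq_top_of_model
      ((CfsgLib.PSL2.subfield_of_card_prime hpp hF S).trans hF.symm) hS) hM

end Cfsg.Agent.S5938
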