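import Cfsg.Statements.S5939
import Cfsg.Agent.Lib.PSL2.MaxExceptional
-- import your own Cfsg.Agent.* helpers here

set_option autoImplicit false
open Cfsg

namespace Cfsg.Agent.S5939

/-- Let p be a prime and F a finite field of characteristic p such that either F has p elements and p ≡ ±1 (mod 10), or F has p² elements and p ≡ ±3 (mod 10). Then PSL_2(F) has a maximal subgroup isomorphic to the alternating group A_5. -/
theorem result {F : Type*} [Field F] [Fintype F] (p : ℕ) [Fact p.Prime] [CharP F p] (h : (Fintype.card F = p ∧ (p % 10 = 1 ∨ p % 10 = 9)) ∨ (Fintype.card F = p ^ 2 ∧ (p % 10 = 3 ∨ p % 10 = 7))) : ∃ H : Subgroup (Matrix.ProjectiveSpecialLinearGroup (Fin 2) F), IsCoatom H ∧ Nonempty (H ≃* alternatingGroup (Fin 5)) := by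
  classical
  have hpp : p.Prime := Fact.out
  have hmod : Fintype.card F % 5 = 1 ∨ Fintype.card F % 5 = 4 := by
    rcases h with ⟨hc, hp⟩ | ⟨hc, hp⟩
    · omega
    · rw [hc, Nat.pow_mod]
      rcases (show p % 5 = 2 ∨ p % 5 = 3 by omega) with e | e <;> rw [e] <;> norm_num
  have hpo : p % 2 = 1 := by rcases h with ⟨-, hp⟩ | ⟨-, hp⟩ <;> omega
  have hp2 := hpp.two_le
  have hodd : Odd (Fintype.card F) := by
    rcases h with ⟨hc, -⟩ | ⟨hc, -⟩ <;> rw [hc]
    · exact Nat.odd_iff.2 hpo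
    · exact (Nat.odd_iff.2 hpo).pow
  have h2 := CfsgLib.PSL2.two_ne_zero_of_odd hodd
  obtain ⟨r, hr⟩ := CfsgLib.PSL2.exists_root_of_five (CfsgLib.PSL2.five_dvd_psl hodd hmod)
  obtain ⟨φ, hφ⟩ := CfsgLib.PSL2.exists_alt_five_psl hr
  let e := (MonoidHom.ofInjective hφ).symm
  have hc : Nat.card φ.range = 60 := by rw [Nat.card_congr e.toEquiv, CfsgLib.PSL2.card_alt_five]
  have hq9 : 9 ≤ Fintype.card F := by
    rcases h with ⟨hc, hp⟩ | ⟨hc, hp⟩ <;> rw [hc]
    · omega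
    · exact le_trans (show 9 ≤ 3 ^ 2 by norm_num) (Nat.pow_le_pow_left (by omega) 2)
  have hbig := CfsgLib.PSL2.lt_card_psl hodd (b := 9) hq9 60 (by norm_num) (by norm_num)
  refine ⟨φ.range, CfsgLib.PSL2.isCoatom_of_overgroups ?_ (fun M hle hM => ?_), ⟨e⟩⟩
  · intro ht; rw [ht, Subgroup.card_top] at hc; omega
  have hd := Subgroup.card_dvd_of_le hle
  obtain ⟨f, hf⟩ := CfsgLib.PSL2.exists_alt_four_hom hle
    (e.symm.toMonoidHom.comp CfsgLib.PSL2.altFourToFive)
    (e.symm.injective.comp CfsgLib.PSL2.altFourToFive_injective)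
  rw [hc] at hd ⊢
  rcases CfsgLib.PSL2.alt_four_overgroup p h2 f hf with ⟨⟨g⟩⟩ | ⟨⟨g⟩⟩ | ⟨⟨g⟩⟩ | ⟨S, hS⟩
  · rw [Nat.card_congr g.toEquiv, CfsgLib.PSL2.card_alt_four]; omega
  · rw [Nat.card_congr g.toEquiv, Nat.card_perm, Nat.card_fin]; norm_num [Nat.factorial]
  · rw [Nat.card_congr g.toEquiv, CfsgLib.PSL2.card_alt_five]
  · obtain ⟨m, hm, em⟩ := CfsgLib.PSL2.exists_degree S.subtype
    by_cases hS' : Fintype.card S = Fintype.card F
    · exact absurd (CfsgLib.PSL2.eq_top_of_model hS' hS) hM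
    exfalso
    rcases h with ⟨hcF, -⟩ | ⟨hcF, hp⟩
    · exact hS' ((CfsgLib.PSL2.subfield_of_card_prime hpp hcF S).trans hcF.symm)
    obtain ⟨a, ha, hSa⟩ := (Nat.dvd_prime_pow hpp).1 (show Fintype.card S ∣ p ^ 2 by
      rw [← hcF, ← em]; exact dvd_pow_self _ (by omega))
    have hS1 := Fintype.one_lt_card (α := S)
    have hSp : Fintype.card S = p := by
      interval_cases a
      · rw [pow_zero] at hSa; omega
      · rw [hSa, pow_one]
      · exact absurd (hSa.trans hcF.symm) hS'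
    have h5 : 5 ∣ Nat.gcd 2 (p - 1) * Nat.card M := ((show 5 ∣ 60 by norm_num).trans hd).mul_left _
    have hdvd : 5 ∣ 2 * ((p + 1) * (p * (p - 1))) := by
      rcases hS with ⟨⟨g⟩⟩ | ⟨⟨g⟩⟩ <;> rw [Nat.card_congr g.toEquiv] at h5
      · rw [← hSp, CfsgLib.PSL2.card_psl, hSp] at h5
        exact h5.mul_left _
      · rw [CfsgLib.PSL2.card_pgl, hSp] at h5
        exact h5.trans (Nat.mul_dvd_mul_right (Nat.gcd_dvd_left _ _) _)
    rcases (Nat.prime_five.dvd_mul).1 hdvd with h' | h'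
    · omega
    rcases (Nat.prime_five.dvd_mul).1 h' with h' | h'
    · omega
    rcases (Nat.prime_five.dvd_mul).1 h' with h' | h' <;> omega

end Cfsg.Agent.S5939
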