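import Cfsg.Statements.S5940
import Cfsg.Agent.Lib.PSL2.MaxExceptional
-- import your own Cfsg.Agent.* helpers here

set_option autoImplicit false
open Cfsg

namespace Cfsg.Agent.S5940

/-- Let p ≥ 5 be a prime with p ≡ ±3 (mod 8) and p ≢ ±1 (mod 10), and F a field with p elements. Then PSL_2(F) has a maximal subgroup isomorphic to the alternating group A_4. -/
theorem result {F : Type*} [Field F] [Fintype F] (p : ℕ) [Fact p.Prime] (hF : Fintype.card F = p) (h5 : 5 ≤ p) (h8 : p % 8 = 3 ∨ p % 8 = 5) (h10 : p % 10 ≠ 1 ∧ p % 10 ≠ 9) : ∃ H : Subgroup (Matrix.ProjectiveSpecialLinearGroup (Fin 2) F), IsCoatom H ∧ Nonempty (H ≃* alternatingGroup (Fin 4)) := by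
  classical
  have hpp : p.Prime := Fact.out
  obtain ⟨p', hp'⟩ := CharP.exists F
  have : Fact p'.Prime := ⟨CharP.char_is_prime F p'⟩
  have hodd : Odd (Fintype.card F) := by rw [hF, Nat.odd_iff]; omega
  have h2 := CfsgLib.PSL2.two_ne_zero_of_odd hodd
  have hsq : ¬ IsSquare (2 : F) := by rw [FiniteField.isSquare_two_iff, hF]; omega
  obtain ⟨H, ⟨e⟩⟩ := CfsgLib.PSL2.exists_alt_four_psl h2
  have hc : Nat.card H = 12 := by rw [Nat.card_congr e.toEquiv, CfsgLib.PSL2.card_alt_four]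
  have hbig := CfsgLib.PSL2.lt_card_psl hodd (b := 5) (by omega) 12 (by norm_num) (by norm_num)
  refine ⟨H, CfsgLib.PSL2.isCoatom_of_overgroups ?_ (fun M hle hM => ?_), ⟨e⟩⟩
  · rintro rfl; rw [Subgroup.card_top] at hc; omega
  obtain ⟨f, hf⟩ := CfsgLib.PSL2.exists_alt_four_hom hle e.symm.toMonoidHom e.symm.injective
  rw [hc]
  rcases CfsgLib.PSL2.alt_four_overgroup p' h2 f hf with ⟨⟨g⟩⟩ | ⟨⟨g⟩⟩ | ⟨⟨g⟩⟩ | ⟨S, hS⟩
  · rw [Nat.card_congr g.toEquiv, CfsgLib.PSL2.card_alt_four]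
  · exact absurd (CfsgLib.PSL2.isSquare_two_of_symm_four h2 (CfsgLib.PSL2.map_toPGL_le M)
      ((Subgroup.equivMapOfInjective M _
        Matrix.ProjectiveSpecialLinearGroup.toPGL_injective).symm.trans g)) hsq
  · exfalso
    have hM60 : Nat.card M = 60 := by rw [Nat.card_congr g.toEquiv, CfsgLib.PSL2.card_alt_five]
    have h5' : 5 ∣ Nat.card M := by rw [hM60]; norm_num
    rcases CfsgLib.PSL2.mod_five_of_dvd_psl hodd (h5'.trans M.card_subgroup_dvd_card) with h | h | h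
    · have hp5 : p = 5 :=
        ((Nat.prime_dvd_prime_iff_eq Nat.prime_five hpp).1 (hF ▸ Nat.dvd_of_mod_eq_zero h)).symm
      refine hM (Subgroup.eq_top_of_card_eq _ ?_)
      have h60 := CfsgLib.PSL2.psl_card_odd (F := F) hodd
      rw [hF, hp5] at h60
      omega
    all_goals omega
  · exact absurd (CfsgLib.PSL2.eq_top_of_model
      ((CfsgLib.PSL2.subfield_of_card_prime hpp hF S).trans hF.symm) hS) hM

end Cfsg.Agent.S5940
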