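import Cfsg.Statements.S5941
import Cfsg.Agent.Lib.PSL2.MaxSubfield
-- import your own Cfsg.Agent.* helpers here

set_option autoImplicit false
open Cfsg

namespace Cfsg.Agent.S5941

/-- Let K and F be finite fields of odd characteristic with #F = (#K)². Then PSL_2(F) has a maximal subgroup isomorphic to PGL_2(K). -/
theorem result {F K : Type*} [Field F] [Fintype F] [Field K] [Fintype K] (q : ℕ) (hK : Fintype.card K = q) (hF : Fintype.card F = q ^ 2) (hq : Odd q) : ∃ H : Subgroup (Matrix.ProjectiveSpecialLinearGroup (Fin 2) F), IsCoatom H ∧ Nonempty (H ≃* Matrix.ProjGenLinGroup (Fin 2) K) := by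
  subst hK
  obtain ⟨ι⟩ := CfsgLib.PSL2.exists_fieldHom hF.symm
  have h2 := Fintype.one_lt_card (α := K)
  have ho : Odd (Fintype.card F) := hF ▸ hq.pow
  obtain ⟨e⟩ := CfsgLib.PSL2.nonempty_pslSub_equiv_pgl ι ho hF.symm even_two
  exact ⟨_, CfsgLib.PSL2.isCoatom_pslSub ι Nat.prime_two hF.symm
    (by rw [Nat.odd_iff] at hq; omega), ⟨e⟩⟩

end Cfsg.Agent.S5941
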