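import Cfsg.Statements.S5945
import Cfsg.Agent.Lib.Maximal.SymSix

set_option autoImplicit false
open Cfsg

namespace Cfsg.Agent.S5945

/-- The symmetric group S_6 has exactly 12 subgroups of index 6; each of them is isomorphic to S_5, and at least one of them is not the stabilizer of any point. -/
theorem result : Nat.card {H : Subgroup (Equiv.Perm (Fin 6)) // H.index = 6} = 12 ∧ (∀ H : Subgroup (Equiv.Perm (Fin 6)), H.index = 6 → Nonempty (H ≃* Equiv.Perm (Fin 5))) ∧ ∃ H : Subgroup (Equiv.Perm (Fin 6)), H.index = 6 ∧ ∀ a : Fin 6, H ≠ MulAction.stabilizer (Equiv.Perm (Fin 6)) a := by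
  classical
  obtain ⟨ρ, hρ, hall⟩ := CfsgLib.Maximal.exotic_six_family (Ω := Fin 6) (by simp)
  have hst : ∀ z : Fin 6, (MulAction.stabilizer (Equiv.Perm (Fin 6)) z).index = 6 := fun z => by
    rw [MulAction.index_stabilizer_of_transitive, Nat.card_eq_fintype_card, Fintype.card_fin]
  have hex : ∀ z : Fin 6, ((MulAction.stabilizer (Equiv.Perm (Fin 6)) z).comap ρ.toMonoidHom).index = 6 :=
    fun z => by rw [Subgroup.index_comap_of_surjective _ ρ.surjective, hst]
  have hinj : Function.Injective (MulAction.stabilizer (Equiv.Perm (Fin 6)) : Fin 6 → Subgroup _) := by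
    intro a b hab
    by_contra hne
    obtain ⟨c, hca, hcb⟩ : ∃ c, c ≠ a ∧ c ≠ b := by
      clear hne hab
      revert a b
      decide
    have hmem : Equiv.swap b c ∈ MulAction.stabilizer (Equiv.Perm (Fin 6)) a := by
      rw [MulAction.mem_stabilizer_iff, Equiv.Perm.smul_def]
      exact Equiv.swap_apply_of_ne_of_ne hne hca.symm
    rw [hab, MulAction.mem_stabilizer_iff, Equiv.Perm.smul_def, Equiv.swap_apply_left] at hmem
    exact hcb hmem
  let F : Fin 6 ⊕ Fin 6 → {H : Subgroup (Equiv.Perm (Fin 6)) // H.index = 6} :=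
    Sum.elim (fun a => ⟨_, hst a⟩) (fun a => ⟨_, hex a⟩)
  have hF : Function.Bijective F := by
    refine ⟨?_, fun ⟨H, hH⟩ => ?_⟩
    · rintro (a | a) (b | b) hab <;> have h := congrArg Subtype.val hab <;>
        simp only [F, Sum.elim_inl, Sum.elim_inr] at h
      · rw [hinj h]
      · exact absurd h.symm (hρ a b)
      · exact absurd h (hρ b a)
      · rw [hinj (Subgroup.comap_injective ρ.surjective h)]
    · by_cases h : ∃ z : Fin 6, H = MulAction.stabilizer (Equiv.Perm (Fin 6)) z
      · obtain ⟨z, rfl⟩ := h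
        exact ⟨Sum.inl z, rfl⟩
      · obtain ⟨z, rfl⟩ := hall H hH (fun z hz => h ⟨z, hz⟩)
        exact ⟨Sum.inr z, rfl⟩
  refine ⟨?_, fun H hH => ?_, ⟨_, hex 0, fun a => hρ a 0⟩⟩
  · rw [← Nat.card_congr (Equiv.ofBijective F hF), Nat.card_sum, Nat.card_fin]
  have hiso : ∀ z : Fin 6, Nonempty (MulAction.stabilizer (Equiv.Perm (Fin 6)) z ≃* Equiv.Perm (Fin 5)) := by
    intro z
    have hrange : MulAction.stabilizer (Equiv.Perm (Fin 6)) z =
        (Equiv.Perm.ofSubtype (p := fun x : Fin 6 => x ≠ z)).range := by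
      ext g
      rw [MulAction.mem_stabilizer_iff, Equiv.Perm.smul_def]
      constructor
      · intro hg
        refine ⟨g.subtypePerm (fun x => not_congr ⟨fun h => g.injective (h.trans hg.symm), fun h => h ▸ hg⟩), ?_⟩
        exact Equiv.Perm.ofSubtype_subtypePerm _ (fun x hx h => hx (h ▸ hg))
      · rintro ⟨t, rfl⟩
        exact Equiv.Perm.ofSubtype_apply_of_not_mem _ (by simp)
    exact ⟨((MulEquiv.subgroupCongr hrange).trans
      (MonoidHom.ofInjective Equiv.Perm.ofSubtype_injective).symm).trans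
      ((finSuccAboveEquiv z).symm.permCongrHom)⟩
  obtain ⟨⟨a | a, ha⟩⟩ : Nonempty {s // F s = ⟨H, hH⟩} := ⟨⟨_, (hF.2 ⟨H, hH⟩).choose_spec⟩⟩
  · have h : MulAction.stabilizer (Equiv.Perm (Fin 6)) a = H := congrArg Subtype.val ha
    exact h ▸ hiso a
  · have h : (MulAction.stabilizer (Equiv.Perm (Fin 6)) a).comap ρ.toMonoidHom = H := congrArg Subtype.val ha
    obtain ⟨e⟩ := hiso a
    refine h ▸ ⟨MulEquiv.trans ?_ e⟩
    exact ((MulEquiv.subgroupMap ρ _).trans
      (MulEquiv.subgroupCongr (Subgroup.map_comap_eq_self_of_surjective ρ.surjective _)))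

end Cfsg.Agent.S5945
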