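import Cfsg.Statements.S5947
import Cfsg.Agent.Lib.Maximal.AbelianLinear

set_option autoImplicit false
open Cfsg

namespace Cfsg.Agent.S5947

/-- Let F ⊆ K be finite fields with |F| = q and [K : F] = n ≥ 2, regard K as an n-dimensional F-vector space, and let M ≤ GL_F(K) be the Singer group of multiplications by non-zero elements of K (cyclic of order q^n − 1). Assume (n, q) ≠ (6, 2), and that it is not the case that n = 2 with q a prime such that q + 1 is a power of 2. Then every abelian subgroup of GL_F(K) of order q^n − 1 is conjugate to M. -/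
theorem result {F K : Type*} [Field F] [Fintype F] [Field K] [Fintype K] [Algebra F K] (n : ℕ) (hn : 2 ≤ n) (hdim : Module.finrank F K = n)
    (hex1 : ¬ (n = 6 ∧ Fintype.card F = 2))
    (hex2 : ¬ (n = 2 ∧ (Fintype.card F).Prime ∧ ∃ a : ℕ, Fintype.card F + 1 = 2 ^ a))
    (U : Subgroup (Module.End F K)ˣ) (hU : IsMulCommutative U) (hcard : Nat.card U = Fintype.card K - 1) :
    ∃ g : (Module.End F K)ˣ, U.map (MulAut.conj g).toMonoidHom = (Units.map ((Algebra.lmul F K : K →ₐ[F] Module.End F K) : K →* Module.End F K)).range := by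
  classical
  have hUc : ∀ a ∈ U, ∀ b ∈ U, a * b = b * a := fun a ha b hb =>
    congrArg Subtype.val (hU.is_comm.comm (⟨a, ha⟩ : U) ⟨b, hb⟩)
  have hK : Fintype.card K = Fintype.card F ^ n := by rw [← hdim]; exact Module.card_eq_pow_finrank
  have hc : (Nat.card U : F) ≠ 0 := by
    have hq : 1 ≤ Fintype.card F ^ n := Nat.one_le_pow _ _ Fintype.card_pos
    rw [hcard, hK, Nat.cast_sub hq, Nat.cast_pow, Nat.cast_one, FiniteField.cast_card_eq_zero,
      zero_pow (by omega), zero_sub]
    exact neg_ne_zero.2 one_ne_zero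
  have hirr : ∀ W : Submodule F K, CfsgLib.Maximal.InvUnder U W → W = ⊥ ∨ W = ⊤ := by
    intro W hW
    by_contra hne
    rw [not_or] at hne
    have := (CfsgLib.Maximal.card_abelian_bound n U hUc hc hdim (by omega)).2 W hW hne.1 hne.2
    omega
  set A := CfsgLib.Maximal.spanAlg U with hA
  have hbij := CfsgLib.Maximal.spanAlg_bijective U hUc hirr (one_ne_zero : (1 : K) ≠ 0)
  let ψ : A ≃ₗ[F] K := LinearEquiv.ofBijective ((LinearMap.applyₗ (1 : K)).comp A.toSubmodule.subtype) hbij
  let cr : CommRing A :=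
    { (inferInstance : Ring A) with
      mul_comm := fun a b => Subtype.ext (CfsgLib.Maximal.spanAlg_comm U hUc a.2 b.2) }
  have hdiv : ∀ a : A, a ≠ 0 → ∃ b : A, a * b = 1 := by
    intro a ha
    have hinj : Function.Injective (a : Module.End F K) := by
      rw [← LinearMap.ker_eq_bot]
      refine (hirr _ fun u hu x hx => ?_).resolve_right fun h => ?_
      · rw [LinearMap.mem_ker] at hx ⊢
        rw [← Module.End.mul_apply,
          CfsgLib.Maximal.spanAlg_comm U hUc a.2 (CfsgLib.Maximal.mem_spanAlg_of_mem hu),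
          Module.End.mul_apply, hx, map_zero]
      · exact ha (Subtype.ext (LinearMap.ker_eq_top.1 h))
    obtain ⟨x, hx⟩ := (Finite.injective_iff_surjective.1 hinj) 1
    obtain ⟨b, hb⟩ := hbij.2 x
    exact ⟨b, hbij.1 (show (a : Module.End F K) ((b : Module.End F K) 1) = 1 by
      rw [show (b : Module.End F K) 1 = x from hb, hx])⟩
  have : Nontrivial A := ψ.toEquiv.nontrivial
  let fld : Field A := IsField.toField ⟨exists_pair_ne A, cr.mul_comm, fun {a} ha => hdiv a ha⟩
  let alg : Algebra F A := Algebra.ofModule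
    (fun r a b => Subtype.ext (Algebra.smul_mul_assoc r (a : Module.End F K) b))
    (fun r a b => Subtype.ext (Algebra.mul_smul_comm r (a : Module.End F K) b))
  have : Finite A := Finite.of_equiv K ψ.symm.toEquiv
  have hfr : Module.finrank F A = Module.finrank F K := ψ.finrank_eq
  obtain ⟨φ⟩ := FiniteField.nonempty_algHom_of_finrank_dvd (F := F) (K := A) (L := K) (dvd_of_eq hfr)
  have hφ : Function.Bijective φ := (Nat.bijective_iff_injective_and_card _).2
    ⟨φ.injective, Nat.card_congr ψ.toEquiv⟩
  let g : K ≃ₗ[F] K := ψ.symm.trans (LinearEquiv.ofBijective φ.toLinearMap hφ)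
  let gu : (Module.End F K)ˣ := (LinearMap.GeneralLinearGroup.generalLinearEquiv F K).symm g
  refine ⟨gu, Subgroup.eq_of_le_of_card_ge ?_ ?_⟩
  · rintro _ ⟨u, hu, rfl⟩
    let au : A := ⟨u.val, CfsgLib.Maximal.mem_spanAlg_of_mem hu⟩
    have hau : φ au ≠ 0 := by
      intro h
      have h0 : au = 0 := φ.injective (h.trans (map_zero φ).symm)
      have h1 : u.val = 0 := congrArg Subtype.val h0
      exact u.ne_zero h1
    refine ⟨Units.mk0 _ hau, Units.ext (LinearMap.ext fun k => ?_)⟩
    obtain ⟨a, rfl⟩ : ∃ a, g (ψ a) = k := ⟨ψ.symm (g.symm k), by simp⟩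
    change φ au * g (ψ a) = g (u.val (g.symm (g (ψ a))))
    rw [g.symm_apply_apply]
    have h1 : u.val (ψ a) = ψ (au * a) := rfl
    rw [h1]
    simp only [g, LinearEquiv.trans_apply, LinearEquiv.symm_apply_apply]
    exact (map_mul φ au a).symm
  · rw [Nat.card_congr (Subgroup.equivMapOfInjective U _ (MulAut.conj gu).injective).symm.toEquiv, hcard,
      ← Nat.card_congr (MonoidHom.ofInjective (Units.map_injective (fun a b hab => ?_))).toEquiv,
      Nat.card_units, Nat.card_eq_fintype_card]
    simpa using congrArg (fun f : Module.End F K => f 1) hab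

end Cfsg.Agent.S5947
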