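import Cfsg.Statements.S5952
-- import your own Cfsg.Agent.* helpers here

set_option autoImplicit false
open Cfsg

namespace Cfsg.Agent.S5952

open Submodule Module

/-- Some subspace of each smaller dimension. -/
lemma exists_le_finrank {F V : Type*} [Field F] [AddCommGroup V] [Module F V] [FiniteDimensional F V]
    (E : Submodule F V) {j : ℕ} (hj : j ≤ finrank F ↥E) :
    ∃ E' ≤ E, finrank F ↥E' = j := by
  obtain ⟨b, hb⟩ : ∃ b : Fin j → E, LinearIndependent F b :=
    ⟨_, (Module.finBasis F E).linearIndependent.comp (Fin.castLE hj) (Fin.castLE_injective hj)⟩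
  refine ⟨(span F (Set.range b)).map E.subtype, E.map_subtype_le _, ?_⟩
  rw [finrank_map_subtype_eq, finrank_span_eq_card hb, Fintype.card_fin]

/-- One step of the filtration. -/
lemma step {F V : Type*} [Field F] [AddCommGroup V] [Module F V] [FiniteDimensional F V]
    (f : V →ₗ[F] V) {B U W : Submodule F V} {a : ℕ} (hB : B.map f ≤ B) (hUi : U.map f ≤ U) (hW : W.map f ≤ W)
    (hd : Disjoint B U) (hUd : finrank F ↥U = a)
    (hU : ∀ X : Submodule F V, X ≤ U → X.map f ≤ X → X = ⊥ ∨ X = U) :
    finrank F ↥(W ⊓ (B ⊔ U)) = finrank F ↥(W ⊓ B) ∨ finrank F ↥(W ⊓ (B ⊔ U)) = finrank F ↥(W ⊓ B) + a := by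
  have hBU : (B ⊔ U).map f ≤ B ⊔ U := by
    rw [Submodule.map_sup]; exact sup_le_sup hB hUi
  set Z := (W ⊓ (B ⊔ U)) ⊔ B with hZ
  have hZi : Z.map f ≤ Z := by
    rw [hZ, Submodule.map_sup]
    exact sup_le_sup ((Submodule.map_inf_le f).trans (inf_le_inf hW hBU)) hB
  have hmod : B ⊔ U ⊓ Z = Z := by
    rw [← sup_inf_assoc_of_le U (le_sup_right : B ≤ Z), inf_eq_right]
    exact sup_le inf_le_right le_sup_left
  have hinf : W ⊓ (B ⊔ U) ⊓ B = W ⊓ B := by
    rw [inf_assoc, inf_eq_right.2 (le_sup_left : B ≤ B ⊔ U)]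
  have key := Submodule.finrank_sup_add_finrank_inf_eq (W ⊓ (B ⊔ U)) B
  rw [← hZ, hinf] at key
  rcases hU (U ⊓ Z) inf_le_left ((Submodule.map_inf_le f).trans (inf_le_inf hUi hZi)) with h | h
  · rw [h, sup_bot_eq] at hmod
    rw [← hmod] at key
    left; omega
  · rw [h] at hmod
    have h2 := Submodule.finrank_sup_add_finrank_inf_eq B U
    rw [hd.eq_bot, finrank_bot, hmod, hUd] at h2
    right; omega

/-- Which dimensions of invariant subspaces a semisimple linear map has. Let `V` be a finite-dimensional vector space over a field `F` and `f` an invertible semisimple linear map of `V`. Suppose `V` is the internal direct sum of the fixed space `C_V(f)` (the eigenspace for 1) and subspaces `U_1, …, U_s`, each `f`-invariant of dimension `a ≥ 1` on which `f` acts irreducibly (no `f`-invariant subspaces other than 0 and `U_j`). Let `0 < m < dim V` and `ℓ = m mod a`. Then `f` leaves some `m`-dimensional subspace invariant if and only if `dim C_V(f) ≥ m`, or `a ≤ m` and `dim C_V(f) ≥ ℓ`. -/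
theorem result {F V : Type*} [Field F] [AddCommGroup V] [Module F V]
    [FiniteDimensional F V] (f : V →ₗ[F] V) (hf : Function.Bijective f) (hss : Module.End.IsSemisimple f)
    {s a : ℕ} (ha : 1 ≤ a) (U : Fin s → Submodule F V)
    (hUinv : ∀ j, (U j).map f ≤ U j) (hUdim : ∀ j, Module.finrank F ↥(U j) = a)
    (hUirr : ∀ j, ∀ W : Submodule F V, W ≤ U j → W.map f ≤ W → W = ⊥ ∨ W = U j)
    (hdec : DirectSum.IsInternal (fun o : Option (Fin s) => o.elim (Module.End.eigenspace f 1) U))
    (m : ℕ) (hm : 0 < m) (hmV : m < Module.finrank F V) :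
    (∃ W : Submodule F V, Module.finrank F ↥W = m ∧ W.map f ≤ W) ↔
    (m ≤ Module.finrank F ↥(Module.End.eigenspace f 1) ∨
      (a ≤ m ∧ m % a ≤ Module.finrank F ↥(Module.End.eigenspace f 1))) := by
  classical
  set E := Module.End.eigenspace f 1 with hE
  have hfE : ∀ E' ≤ E, E'.map f ≤ E' := by
    rintro E' hle _ ⟨v, hv, rfl⟩
    have := Module.End.mem_eigenspace_iff.1 (hle hv)
    simpa [this] using hv
  have hind := hdec.submodule_iSupIndep
  have htop := hdec.submodule_iSup_eq_top
  have hdisj : ∀ (S : Finset (Fin s)) (E' : Submodule F V) (j : Fin s), E' ≤ E → j ∉ S →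
      Disjoint (E' ⊔ S.sup U) (U j) := by
    intro S E' j hle hj
    refine ((hind (some j)).symm).mono_left (sup_le ?_ (Finset.sup_le fun i hi => ?_))
    · exact hle.trans (le_iSup₂_of_le (f := fun o (_ : o ≠ some j) => o.elim E U) none (by simp) le_rfl)
    · exact le_iSup₂_of_le (f := fun o (_ : o ≠ some j) => o.elim E U) (some i)
        (fun h => hj (Option.some.inj h ▸ hi)) le_rfl
  have hinv : ∀ (S : Finset (Fin s)) (E' : Submodule F V), E' ≤ E →
      (E' ⊔ S.sup U).map f ≤ E' ⊔ S.sup U := by
    intro S E' hle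
    rw [Submodule.map_sup]
    refine sup_le_sup (hfE _ hle) ?_
    rw [Submodule.map_le_iff_le_comap]
    exact Finset.sup_le fun i hi =>
      (Submodule.map_le_iff_le_comap.1 (hUinv i)).trans (Submodule.comap_mono (Finset.le_sup hi))
  have hdim : ∀ (S : Finset (Fin s)) (E' : Submodule F V), E' ≤ E →
      finrank F ↥(E' ⊔ S.sup U) = finrank F ↥E' + S.card * a := by
    intro S E' hle
    induction S using Finset.induction_on with
    | empty => rw [Finset.sup_empty, sup_bot_eq, Finset.card_empty, Nat.zero_mul, Nat.add_zero]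
    | @insert j S hj ih =>
      have h2 := Submodule.finrank_sup_add_finrank_inf_eq (E' ⊔ S.sup U) (U j)
      rw [(hdisj S E' j hle hj).eq_bot, finrank_bot, hUdim, ih] at h2
      rw [Finset.sup_insert, sup_left_comm, sup_comm (U j), Finset.card_insert_of_notMem hj, Nat.succ_mul]
      omega
  have hall : E ⊔ (Finset.univ : Finset (Fin s)).sup U = ⊤ := by
    rw [eq_top_iff, ← htop]
    refine iSup_le fun o => ?_
    cases o with
    | none => exact le_sup_left
    | some j => exact le_sup_of_le_right (Finset.le_sup (Finset.mem_univ j))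
  have htot : finrank F V = finrank F ↥E + s * a := by
    have := hdim Finset.univ E le_rfl
    rw [hall, finrank_top, Finset.card_univ, Fintype.card_fin] at this
    exact this
  constructor
  · rintro ⟨W, hWd, hW⟩
    have : ∀ S : Finset (Fin s), ∃ k : ℕ, finrank F ↥(W ⊓ (E ⊔ S.sup U)) = finrank F ↥(W ⊓ E) + k * a := by
      intro S
      induction S using Finset.induction_on with
      | empty => exact ⟨0, by rw [Finset.sup_empty, sup_bot_eq, Nat.zero_mul, Nat.add_zero]⟩
      | @insert j S hj ih =>
        obtain ⟨k, hk⟩ := ih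
        rw [Finset.sup_insert, sup_left_comm, sup_comm (U j)]
        rcases step f (hinv S E le_rfl) (hUinv j) hW (hdisj S E j le_rfl hj) (hUdim j) (hUirr j) with h | h
        · exact ⟨k, h.trans hk⟩
        · exact ⟨k + 1, by rw [h, hk, Nat.succ_mul]; omega⟩
    obtain ⟨k, hk⟩ := this Finset.univ
    rw [hall, inf_top_eq, hWd] at hk
    have hle : finrank F ↥(W ⊓ E) ≤ finrank F ↥E := Submodule.finrank_mono inf_le_right
    rcases Nat.eq_zero_or_pos k with rfl | hk0
    · left; omega
    · right
      have : a ≤ k * a := Nat.le_mul_of_pos_left a hk0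
      refine ⟨by omega, ?_⟩
      rw [hk, Nat.add_mul_mod_self_right]
      exact (Nat.mod_le _ _).trans hle
  · rintro (h | ⟨ham, h⟩)
    · obtain ⟨E', hle, hd⟩ := exists_le_finrank E h
      exact ⟨E', hd, hfE E' hle⟩
    · have hk : ∃ k : ℕ, k ≤ s ∧ k * a ≤ m ∧ m ≤ k * a + finrank F ↥E := by
        rcases le_total (m / a) s with h1 | h1
        · refine ⟨m / a, h1, Nat.div_mul_le_self m a, ?_⟩
          have := Nat.div_add_mod' m a
          omega
        · exact ⟨s, le_rfl, (Nat.mul_le_mul_right a h1).trans (Nat.div_mul_le_self m a), by omega⟩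
      obtain ⟨k, hks, hka, hkm⟩ := hk
      obtain ⟨S, -, hS⟩ := Finset.exists_subset_card_eq (s := (Finset.univ : Finset (Fin s))) (n := k) (by simpa using hks)
      obtain ⟨E', hle, hd⟩ := exists_le_finrank E (j := m - k * a) (by omega)
      refine ⟨E' ⊔ S.sup U, ?_, hinv S E' hle⟩
      rw [hdim S E' hle, hd, hS]
      omega

end Cfsg.Agent.S5952
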