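import Cfsg.Statements.S5953
import Cfsg.Agent.Lib.PrimeElusive.UnitFixOrbit
import Cfsg.Agent.Lib.PrimeElusive.UnitFixDiag
import Cfsg.Agent.Lib.Maximal99.OrderR
-- import your own Cfsg.Agent.* helpers here

set_option autoImplicit false
set_option linter.unusedSectionVars false
open scoped MatrixGroups
open Cfsg

namespace Cfsg.Agent.S5953

open Matrix CfsgLib.PrimeClasses CfsgLib.PrimeElusive CfsgLib.GeomClasses
open CfsgLib.PrimeElusive.UnitFix (HasTI IsU)

variable {F : Type*} [Field F] [Fintype F] {q n m r : ℕ}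

/-- The property in the statement. -/
def All (F : Type*) [Field F] [Fintype F] (q n m r : ℕ) : Prop :=
  ∀ X : Matrix (Fin n) (Fin n) F, IsU q X → X.det = 1 → (∃ z : F, X ^ r = z • 1) →
    (∀ z : F, X ≠ z • 1) → HasTI q m X

theorem all_iff (hq : Fintype.card F = q ^ 2) :
    (∀ x : Matrix.SpecialLinearGroup (Fin n) F, x ∈ Cfsg.SU n F q →
      (∃ z : F, ((x ^ r : Matrix.SpecialLinearGroup (Fin n) F) : Matrix (Fin n) (Fin n) F) = z • (1 : Matrix (Fin n) (Fin n) F)) →
      (∀ z : F, (x : Matrix (Fin n) (Fin n) F) ≠ z • (1 : Matrix (Fin n) (Fin n) F)) →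
      ∃ W : Submodule F (Fin n → F), Module.finrank F ↥W = m ∧ (∀ u ∈ W, ∀ v ∈ W, Cfsg.hermForm n F q u v = 0) ∧
        W.map (Matrix.toLin' (x : Matrix (Fin n) (Fin n) F)) ≤ W) ↔ All F q n m r := by
  constructor
  · intro h X hX hdet hz hns
    let x : Matrix.SpecialLinearGroup (Fin n) F := ⟨X, hdet⟩
    obtain ⟨z, hz⟩ := hz
    obtain ⟨W, h1, h2, h3⟩ := h x (fun u v => (UnitFix.isU_iff_herm hq).1 hX u v)
      ⟨z, (Matrix.SpecialLinearGroup.coe_pow x r).trans hz⟩ hns
    exact ⟨W, h1, h2, UnitFix.map_le_iff.1 h3⟩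
  · intro h x hx hz hns
    obtain ⟨W, h1, h2, h3⟩ := h x ((UnitFix.isU_iff_herm hq).2 hx) x.2
      (by rw [← Matrix.SpecialLinearGroup.coe_pow]; exact hz) hns
    exact ⟨W, h1, h2, UnitFix.map_le_iff.2 h3⟩

/-- An element with an `r`-th root of the scalar. -/
theorem scale (hq : Fintype.card F = q ^ 2) {X : Matrix (Fin n) (Fin n) F} (hX : IsU q X) {z t : F}
    (hz : X ^ r = z • 1) (ht : t ^ (q + 1) = 1) (htr : t ^ r = z) :
    IsU q (t⁻¹ • X) ∧ (t⁻¹ • X) ^ r = 1 ∧ t • (t⁻¹ • X) = X := by
  have ht0 : t ≠ 0 := fun h => by rw [h, zero_pow (by omega)] at ht; exact zero_ne_one ht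
  refine ⟨(UnitFix.isU_smul_iff (by rw [inv_pow, ht, inv_one])).2 hX, ?_, ?_⟩
  · rw [_root_.smul_pow, hz, smul_smul, inv_pow, htr, inv_mul_cancel₀ ?_, one_smul]
    rw [← htr]
    exact pow_ne_zero _ ht0
  · rw [smul_smul, mul_inv_cancel₀ ht0, one_smul]

theorem scalar_norm (hq : Fintype.card F = q ^ 2) (hn : 0 < n) {X : Matrix (Fin n) (Fin n) F} (hX : IsU q X)
    {z : F} (hz : X ^ r = z • 1) : z ^ (q + 1) = 1 :=
  UnitFix.norm_of_scalar hq hn (hz ▸ hX.pow hq r)

theorem zmod_two : ∀ a : ZMod 2, a = 0 ∨ a = 1 := by decide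

theorem exists_le_sum {α : Type*} [Fintype α] (f : α → ℕ) : ∀ a, a ≤ ∑ x, f x →
    ∃ d : α → ℕ, (∀ x, d x ≤ f x) ∧ ∑ x, d x = a := by
  classical
  intro a
  induction a with
  | zero => exact fun _ => ⟨0, fun x => Nat.zero_le _, by simp⟩
  | succ a ih =>
    intro h
    obtain ⟨d, hd, hds⟩ := ih (by omega)
    obtain ⟨x, hx⟩ : ∃ x, d x < f x := by
      by_contra hno
      push Not at hno
      have := Finset.sum_le_sum fun x (_ : x ∈ Finset.univ) => hno x
      omega
    refine ⟨d + Pi.single x 1, fun y => ?_, ?_⟩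
    · by_cases hy : y = x
      · subst hy; simp; omega
      · simp [hy, hd y]
    · simp [Finset.sum_add_distrib, hds]

section Odd

/-- `r ∤ q + 1`, odd. -/
theorem semisimple (hq : Fintype.card F = q ^ 2) [hr : Fact r.Prime] (hr2 : r ≠ 2) (hrK : (r : F) ≠ 0)
    (hd : ¬ r ∣ q + 1) (hm : 1 ≤ m) (hmn : 2 * m ≤ n)
    (hj : ∃ j, n - 2 * m < j ∧ j ≤ n ∧ (-(q : ZMod r)) ^ j = 1)
    (i b c : ℕ) (hi : i = orderOf (q : ZMod r)) (hb : b = if Even i then i / 2 else i)
    (hc : c = if i % 4 = 0 then i else if i % 4 = 2 then i / 2 else 2 * i) :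
    All F q n m r ↔ (b ≤ m ∧ 2 * (m % b) ≤ n % c ∧ (i % 4 = 2 → (r - 1) / b + 2 * (m / b) ≤ n / b)) := by
  classical
  obtain ⟨ζ, hζ, hgen⟩ := CfsgLib.PrimeClasses.exists_root (K := F) hrK
  set g := gOrb hq hrK with hgdef
  have hbb : orderOf (Fintype.card F : ZMod r) = b := by
    rw [orbit_size_eq_b hq hrK hi rfl, hb]
    rcases Nat.even_or_odd i with h | h
    · rw [if_pos h, if_neg (Nat.not_odd_iff_even.2 h)]
    · rw [if_pos h, if_neg (Nat.not_even_iff_odd.2 h)]
  have hb0 : 0 < b := hbb ▸ orbit_size_pos hrK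
  have hi0 : 0 < i := Nat.pos_of_ne_zero fun h0 => by
    rw [hb, h0] at hb0; simp at hb0
  have hg : g = 1 ↔ i % 4 = 2 := gOrb_eq_one_iff hq hrK hr2 hi
  have hcb : c = if g = 1 then b else 2 * b := by
    rw [hb, hc]
    by_cases h2 : i % 4 = 2
    · rw [if_neg (by omega), if_pos h2, if_pos (hg.2 h2), if_pos (Nat.even_iff.2 (by omega))]
    · rw [if_neg h2, if_neg (fun h => h2 (hg.1 h))]
      rcases Nat.even_or_odd i with he | ho
      · rw [Nat.even_iff] at he
        rw [if_pos (by omega), if_pos (Nat.even_iff.2 he)]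
        omega
      · rw [Nat.odd_iff] at ho
        rw [if_neg (by omega), if_neg (by rw [Nat.not_even_iff]; exact ho)]
  have hcd : ∀ j, (-(q : ZMod r)) ^ j = 1 → c ∣ j := by
    intro j hjq
    have h1 : b ∣ j := by
      rw [← hbb]
      refine orderOf_dvd_of_pow_eq_one ?_
      rw [hq, Nat.cast_pow, ← neg_sq, ← pow_mul, mul_comm, pow_mul, hjq, one_pow]
    rw [hcb]
    by_cases h2 : g = 1
    · rw [if_pos h2]; exact h1
    · rw [if_neg h2]
      have h4 : i % 4 ≠ 2 := fun h => h2 (hg.2 h)
      obtain ⟨l, rfl⟩ := h1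
      rcases Nat.even_or_odd l with ⟨l', rfl⟩ | hl
      · exact ⟨l', by ring⟩
      · exfalso
        rcases Nat.even_or_odd i with he | ho
        · rw [if_pos he] at hb
          have hbe : Even b := by rw [Nat.even_iff] at he ⊢; omega
          have hbl : Even (b * l) := hbe.mul_right l
          rw [hbl.neg_pow] at hjq
          have hdi : i ∣ b * l := hi ▸ orderOf_dvd_of_pow_eq_one hjq
          rw [show i = 2 * b by rw [Nat.even_iff] at he; omega, mul_comm 2 b] at hdi
          exact Nat.not_even_iff_odd.2 hl (even_iff_two_dvd.2 (Nat.dvd_of_mul_dvd_mul_left hb0 hdi))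
        · rw [if_neg (Nat.not_even_iff_odd.2 ho)] at hb
          subst hb
          have hqb : (q : ZMod r) ^ (b * l) = 1 := by rw [pow_mul, hi, pow_orderOf_eq_one, one_pow]
          rw [(ho.mul hl).neg_pow, hqb] at hjq
          have h20 : ((2 : ℕ) : ZMod r) = 0 := by push_cast; linear_combination -hjq
          exact hr2 ((Nat.prime_dvd_prime_iff_eq hr.out Nat.prime_two).1 ((ZMod.natCast_eq_zero_iff _ _).1 h20))
  obtain ⟨j, hj1, hj2, hj3⟩ := hj
  have hcj := hcd j hj3
  have hc0 : 0 < c := by rw [hcb]; split_ifs <;> omega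
  have hR : Fintype.card (Orbits hrK) * b = r - 1 := hbb ▸ card_orbits hrK
  -- the witnesses
  have witness : All F q n m r → ∀ d : Orbits hrK → ℕ, IsSym g d → d ≠ 0 → b * ∑ ω, d ω ≤ n →
      ∃ cA : Orbits hrK → ℕ, (∀ ω, cA ω + cA (g * ω) ≤ d ω) ∧ b * ∑ ω, cA ω ≤ m ∧
        2 * (m - b * ∑ ω, cA ω) + b * ∑ ω, d ω ≤ n := by
    intro hall d hd' hd0 hdn
    obtain ⟨X, hX, hXu, hXc⟩ := UnitFix.realised_of_le hζ hq hr2 hi hd' (n := n) (by rw [hbb]; exact hdn)
    have hXu' : IsU q X := hXu
    have hdet : X.det = 1 := by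
      have h1 : X.det ^ r = 1 := by rw [← Matrix.det_pow, hX, Matrix.det_one]
      have := pow_gcd_eq_one.2 ⟨h1, hXu'.det_pow hq⟩
      rwa [((Nat.Prime.coprime_iff_not_dvd hr.out).2 hd).gcd_eq_one, pow_one] at this
    have hns : ∀ z : F, X ≠ z • 1 := by
      intro z hz
      have hn0 : 0 < n := by omega
      have h1 : z ^ (q + 1) = 1 := UnitFix.norm_of_scalar hq hn0 (hz ▸ hXu')
      have h2 : z ^ r = 1 := by
        have h3 := congrArg (fun M : Matrix (Fin n) (Fin n) F => M ⟨0, hn0⟩ ⟨0, hn0⟩) hX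
        simpa [hz, _root_.smul_pow] using h3
      have h4 := pow_gcd_eq_one.2 ⟨h2, h1⟩
      rw [((Nat.Prime.coprime_iff_not_dvd hr.out).2 hd).gcd_eq_one, pow_one] at h4
      rw [h4, one_smul] at hz
      rw [hz, orbitMult_one hζ hrK] at hXc
      exact hd0 hXc.symm
    have := UnitFix.exists_tuple_of_TI hζ hq hrK hX hXu' (hall X hXu' hdet ⟨1, by rw [hX, one_smul]⟩ hns)
    rw [hbb, hXc] at this
    exact this
  have hjle : j ≤ c * (n / c) := by
    obtain ⟨l, hl⟩ := hcj
    rw [hl] at hj2 ⊢
    exact Nat.mul_le_mul_left c ((Nat.le_div_iff_mul_le hc0).2 (by rw [mul_comm]; exact hj2))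
  constructor
  · intro hall
    let blk : Orbits hrK → ℕ := if g = 1 then Pi.single 1 1 else Pi.single 1 1 + Pi.single g 1
    have hblk : IsSym g blk ∧ b * ∑ ω, blk ω = c := by
      by_cases h2 : g = 1
      · rw [hcb]
        simp only [blk, if_pos h2]
        exact ⟨fun ω => by rw [h2, one_mul], by simp⟩
      · rw [hcb]
        simp only [blk, if_neg h2]
        refine ⟨fun ω => ?_, by simp [Finset.sum_add_distrib]; ring⟩
        have hgg : g * g = 1 := gOrb_sq hq hrK
        have a1 : g * ω = 1 ↔ ω = g :=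
          ⟨fun h => by rw [← one_mul ω, ← hgg, mul_assoc, h, mul_one], fun h => by rw [h, hgg]⟩
        have a2 : g * ω = g ↔ ω = 1 := mul_eq_left
        simp only [Pi.add_apply, Pi.single_apply, a1, a2]
        omega
    have hN1 : 1 ≤ n / c := (Nat.one_le_div_iff hc0).2 (by
      rcases Nat.eq_zero_or_pos j with h0 | h0
      · omega
      · exact (Nat.le_of_dvd h0 hcj).trans hj2)
    obtain ⟨cA, -, h2, h3⟩ := witness hall (fun ω => (n / c) * blk ω) (fun ω => by simp [hblk.1 ω]) (fun h0 => by
      have := congrArg (fun f : Orbits hrK → ℕ => b * ∑ ω, f ω) h0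
      simp only [← Finset.mul_sum, Pi.zero_apply, Finset.sum_const_zero, mul_zero] at this
      rw [mul_left_comm, hblk.2] at this
      have := Nat.mul_pos hN1 hc0
      omega) (by rw [← Finset.mul_sum, mul_left_comm, hblk.2]; exact Nat.div_mul_le_self n c)
    rw [← Finset.mul_sum, mul_left_comm, hblk.2] at h3
    have hmb : 2 * (m % b) ≤ n % c := by
      have h4 : ∑ ω, cA ω ≤ m / b := (Nat.le_div_iff_mul_le hb0).2 (by rw [mul_comm]; exact h2)
      have h5 := Nat.mul_le_mul_left b h4
      have := Nat.div_add_mod m b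
      have := Nat.div_add_mod n c
      rw [mul_comm (n / c) c] at h3
      omega
    have hbm : b ≤ m := by
      by_contra hlt
      rw [Nat.mod_eq_of_lt (by omega : m < b)] at hmb
      have := Nat.div_add_mod n c
      omega
    refine ⟨hbm, hmb, fun h4 => ?_⟩
    have hg1 := hg.2 h4
    rw [← hR, Nat.mul_div_cancel _ hb0]
    obtain ⟨T, hT⟩ : ∃ T : Finset (Orbits hrK), T.card = min (Fintype.card (Orbits hrK)) (n / b) := by
      obtain ⟨T, -, hT⟩ := Finset.exists_subset_card_eq (s := (Finset.univ : Finset (Orbits hrK)))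
        (n := min (Fintype.card (Orbits hrK)) (n / b)) (by rw [Finset.card_univ]; exact min_le_left _ _)
      exact ⟨T, hT⟩
    have hc' : c = b := by rw [hcb, if_pos hg1]
    have hsum : ∑ ω, (if ω ∈ T then 1 else 0) = T.card := by simp
    have hTn : b * T.card ≤ n := by
      refine le_trans (Nat.mul_le_mul_left b (hT ▸ min_le_right _ _)) ?_
      rw [mul_comm]; exact Nat.div_mul_le_self n b
    have hTpos : 0 < T.card := by
      rw [hT]
      exact lt_min Fintype.card_pos (by rw [← hc']; omega)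
    obtain ⟨cA, h1, h2, h3⟩ := witness hall (fun ω => if ω ∈ T then 1 else 0) (fun ω => by simp [hg1])
      (fun h0 => by
        obtain ⟨ω, hω⟩ := Finset.card_pos.1 hTpos
        simpa [hω] using congrFun h0 ω) (by rw [hsum]; exact hTn)
    have hA : ∀ ω, cA ω = 0 := fun ω => by
      have := h1 ω
      rw [hg1, one_mul] at this
      split_ifs at this <;> omega
    simp only [hA, Finset.sum_const_zero, mul_zero, Nat.sub_zero, hsum, hT] at h3
    have hM : b * (m / b) ≤ m := by rw [mul_comm]; exact Nat.div_mul_le_self m b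
    rcases le_total (Fintype.card (Orbits hrK)) (n / b) with h5 | h5
    · rw [min_eq_left h5] at h3
      refine (Nat.le_div_iff_mul_le hb0).2 ?_
      rw [mul_comm, mul_add, mul_left_comm]
      omega
    · rw [min_eq_right h5] at h3
      have := Nat.div_add_mod n b
      have := Nat.mod_lt n hb0
      omega
  · rintro ⟨hbm, hmb, hcase⟩ X hXu hdet ⟨z, hz⟩ -
    have hn0 : 0 < n := by omega
    obtain ⟨t, ht, htr⟩ := (UnitFix.exists_root_norm hq hr2 (scalar_norm hq hn0 hXu hz)).resolve_right fun h => hd h.1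
    obtain ⟨hYu, hY, hXY⟩ := scale hq hXu hz ht htr
    rw [← hXY]
    refine UnitFix.HasTI.smul ?_ t
    rw [UnitFix.hasTI_iff hζ hq hr2 hrK hmn hi hgen hY hYu, hbb]
    set d := orbitMult hζ hrK (t⁻¹ • X)
    have hsym : IsSym g d := GU_isSym hζ hq hrK hY hYu
    have hdn : b * ∑ ω, d ω ≤ n := by
      have := weight_orbitMult_le hζ hrK hY
      rwa [hbb, Fintype.card_fin] at this
    let f := Fintype.equivFin (Orbits hrK)
    -- half of the tuple
    obtain ⟨top, htop, htop2, htopc⟩ : ∃ top : Orbits hrK → ℕ, (∀ ω, top ω + top (g * ω) ≤ d ω) ∧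
        (g ≠ 1 → 2 * ∑ ω, top ω = ∑ ω, d ω) ∧
        (g = 1 → ∑ ω, d ω ≤ 2 * ∑ ω, top ω + Fintype.card (Orbits hrK)) := by
      by_cases h1 : g = 1
      · refine ⟨fun ω => d ω / 2, fun ω => by simp only [h1, one_mul]; omega, fun h => absurd h1 h, fun _ => ?_⟩
        rw [Finset.mul_sum, Fintype.card_eq_sum_ones, ← Finset.sum_add_distrib]
        exact Finset.sum_le_sum fun ω _ => by omega
      · have hne : ∀ ω, (f (g * ω) : ℕ) ≠ f ω := fun ω h => h1 (mul_eq_right.1 (f.injective (Fin.ext h)))
        have hgg : ∀ ω, g * (g * ω) = ω := fun ω => by rw [← mul_assoc, gOrb_sq, one_mul]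
        refine ⟨fun ω => if (f ω : ℕ) < f (g * ω) then d ω else 0, fun ω => ?_, fun _ => ?_, fun h => absurd h h1⟩
        · have := hne ω
          simp only [hgg, hsym ω]
          split_ifs <;> omega
        · rw [two_mul]
          conv_lhs => arg 2; rw [← Equiv.sum_comp (Equiv.mulLeft g)]
          rw [← Finset.sum_add_distrib]
          refine Finset.sum_congr rfl fun ω _ => ?_
          have := hne ω
          simp only [Equiv.coe_mulLeft, hgg, hsym ω]
          split_ifs <;> omega
    obtain ⟨cA, hcA, hcAs⟩ := exists_le_sum top (min (∑ ω, top ω) (m / b)) (min_le_left _ _)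
    refine ⟨cA, fun ω => (Nat.add_le_add (hcA ω) (hcA _)).trans (htop ω), ?_, ?_⟩
    · rw [hcAs]
      refine (Nat.mul_le_mul_left b (min_le_right _ _)).trans ?_
      rw [mul_comm]; exact Nat.div_mul_le_self m b
    · rw [hcAs]
      have hm1 := Nat.div_add_mod m b
      have hn1 := Nat.div_add_mod n c
      have hbd : b * ∑ ω, d ω ≤ c * (n / c) := by
        by_cases h1 : g = 1
        · have hc' : c = b := by rw [hcb, if_pos h1]
          rw [hc']
          exact Nat.mul_le_mul_left b ((Nat.le_div_iff_mul_le hb0).2 (by rw [mul_comm]; exact hdn))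
        · have hc' : c = 2 * b := by rw [hcb, if_neg h1]
          rw [← htop2 h1, mul_left_comm, ← mul_assoc, ← hc']
          refine Nat.mul_le_mul_left c ((Nat.le_div_iff_mul_le hc0).2 ?_)
          rw [hc', mul_comm, mul_assoc, mul_left_comm, htop2 h1]
          exact hdn
      rcases le_total (∑ ω, top ω) (m / b) with h5 | h5
      · rw [min_eq_left h5]
        by_cases h1 : g = 1
        · have h6 := htopc h1
          have h7 := hcase (hg.1 h1)
          rw [← hR, Nat.mul_div_cancel _ hb0] at h7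
          have h8 := Nat.mul_le_mul_left b h7
          have h9 := Nat.mul_le_mul_left b h6
          have hc' : c = b := by rw [hcb, if_pos h1]
          have h10 := Nat.mul_le_mul_left b h5
          rw [mul_add, mul_left_comm] at h8 h9
          rw [hc'] at hmb hn1
          omega
        · have h6 := htop2 h1
          have h9 : b * ∑ ω, d ω = 2 * (b * ∑ ω, top ω) := by rw [← h6]; ring
          have h10 := Nat.mul_le_mul_left b h5
          omega
      · rw [min_eq_right h5]
        omega

end Odd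

/-- `r` odd dividing `q + 1`. -/
theorem semisimple_two (hq : Fintype.card F = q ^ 2) [hr : Fact r.Prime] (hr2 : r ≠ 2) (hd : r ∣ q + 1)
    (hm : 1 ≤ m) (hn : 3 ≤ n) (hmn : 2 * m ≤ n) :
    All F q n m r ↔ (r - 1 + 2 * m ≤ n ∧ (r ∣ m ∨ padicValNat r n ≤ padicValNat r (q + 1))) := by
  classical
  obtain ⟨ζ, hζ⟩ := UnitFix.exists_prim hq hd
  have hr3 : 3 ≤ r := by have := hr.out.two_le; omega
  constructor
  · intro hall
    refine ⟨?_, ?_⟩
    · by_contra hlt
      -- distinct eigenvalues except one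
      set h := (n - 2 * m + 2) / 2
      have hh : 2 * h < r := by
        obtain ⟨l, hl⟩ := hr.out.odd_of_ne_two hr2
        omega
      let v : ℕ → ℤ := fun i => if i < 2 * h then (if i % 2 = 0 then ((i / 2 + 1 : ℕ) : ℤ) else -((i / 2 + 1 : ℕ) : ℤ)) else 0
      let e : Fin n → ZMod r := fun i => ((v i : ℤ) : ZMod r)
      have hsum : ∑ i, e i = 0 := by
        rw [show (∑ i, e i) = ∑ i ∈ Finset.range n, ((v i : ℤ) : ZMod r) from
          Fin.sum_univ_eq_sum_range (fun i => ((v i : ℤ) : ZMod r)) n,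
          ← Finset.sum_subset (Finset.range_mono (show 2 * h ≤ n by omega)) fun i _ hi => by
            rw [Finset.mem_range] at hi; simp [v, hi]]
        have hk : ∀ k, k ≤ h → ∑ i ∈ Finset.range (2 * k), ((v i : ℤ) : ZMod r) = 0 := by
          intro k
          induction k with
          | zero => simp
          | succ k ih =>
            intro hk
            rw [show 2 * (k + 1) = 2 * k + 1 + 1 by ring, Finset.sum_range_succ, Finset.sum_range_succ, ih (by omega)]
            simp only [v, show 2 * k < 2 * h by omega, show 2 * k + 1 < 2 * h by omega, if_true,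
              show 2 * k % 2 = 0 by omega, show ¬ (2 * k + 1) % 2 = 0 by omega, if_false,
              show (2 * k + 1) / 2 = 2 * k / 2 by omega]
            push_cast
            ring
        exact hk h le_rfl
      have hinj : ∀ i j : ℕ, ((v i : ℤ) : ZMod r) = ((v j : ℤ) : ZMod r) → v i = v j := by
        intro i j hij
        have h1 := (ZMod.intCast_eq_intCast_iff_dvd_sub _ _ r).1 hij
        have hbd : ∀ i, -(h : ℤ) ≤ v i ∧ v i ≤ h := fun i => by
          simp only [v]; split_ifs <;> omega
        have h2 := hbd i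
        have h3 := hbd j
        have := Int.eq_zero_of_abs_lt_dvd h1 (abs_lt.2 ⟨by omega, by omega⟩)
        omega
      set D : Matrix (Fin n) (Fin n) F := Matrix.diagonal fun i => rootChar hζ (e i) with hD
      have hDr : D ^ r = 1 := by
        rw [hD, Matrix.diagonal_pow, ← Matrix.diagonal_one]
        congr 1; funext i; exact rootChar_pow_self hζ _
      have hTI := hall D (UnitFix.isU_diagonal hq _ fun i => UnitFix.rootChar_norm hζ hd (e i))
        (by rw [hD, Matrix.det_diagonal, ← FormTests.rootChar_sum, hsum, AddChar.map_zero_eq_one])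
        ⟨1, by rw [hDr, one_smul]⟩ (fun z hz => by
          have h0 := congrArg (fun M : Matrix (Fin n) (Fin n) F => M ⟨0, by omega⟩ ⟨0, by omega⟩) hz
          have h1 := congrArg (fun M : Matrix (Fin n) (Fin n) F => M ⟨1, by omega⟩ ⟨1, by omega⟩) hz
          simp only [hD, Matrix.diagonal_apply_eq, Matrix.smul_apply, Matrix.one_apply_eq, smul_eq_mul, mul_one] at h0 h1
          have := hinj _ _ (FormTests.rootChar_injective hζ (h0.trans h1.symm))
          simp only [v] at this
          split_ifs at this <;> omega)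
      have := UnitFix.le_of_diag hq _ (Finset.univ.filter fun i : Fin n => (i : ℕ) < 2 * h) (fun i hi j hji heq => by
        rw [Finset.mem_filter] at hi
        have := hinj _ _ (FormTests.rootChar_injective hζ heq)
        have hji' : (j : ℕ) ≠ i := fun e => hji (Fin.ext e)
        simp only [v] at this
        split_ifs at this <;> omega) hTI
      rw [Fin.card_filter_val_lt] at this
      omega
    · by_contra hcon
      push Not at hcon
      obtain ⟨hrm, hlt⟩ := hcon
      obtain ⟨w, hw⟩ : r ∣ n := dvd_of_one_le_padicValNat (by omega)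
      have hvw : padicValNat r (q + 1) ≤ padicValNat r w := by
        rw [hw, padicValNat.mul hr.out.ne_zero (by intro h0; rw [h0] at hw; omega), padicValNat_self] at hlt
        omega
      obtain ⟨z, hz, hzw, hno⟩ := UnitFix.exists_no_root hq hr2 hd (Or.inr hvw)
      obtain ⟨M, hMu, hMr, hMd, -, -⟩ := UnitFix.exists_kummer_model hq hr2 hw hz
      obtain ⟨W, hWd, -, hWX⟩ := hall M hMu (hMd.trans hzw) ⟨z, hMr⟩ (fun c hc => by
        have := congrArg (fun N : Matrix (Fin n) (Fin n) F => N ⟨0, by omega⟩ ⟨0, by omega⟩) hMr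
        simp only [hc, _root_.smul_pow, one_pow, Matrix.smul_apply, Matrix.one_apply_eq, smul_eq_mul, mul_one] at this
        exact hno c this)
      exact hrm (hWd ▸ UnitFix.dvd_of_kummer hr.out hno hMr hWX)
  · rintro ⟨hnm, hor⟩ X hXu hdet ⟨z, hz⟩ -
    have hzn := scalar_norm hq (by omega) hXu hz
    rcases UnitFix.exists_root_norm hq hr2 hzn with ⟨t, ht, htr⟩ | ⟨-, hno⟩
    · obtain ⟨hYu, hY, hXY⟩ := scale hq hXu hz ht htr
      rw [← hXY]
      refine UnitFix.HasTI.smul ?_ t
      obtain ⟨g, hg, e, he⟩ := UnitFix.exists_diag_conj hq hd hζ hY hYu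
      rw [he]
      refine UnitFix.HasTI.conj ?_ hg
      obtain ⟨π, -, hπ, hπe⟩ := UnitFix.exists_pairs e m Finset.univ (Or.inl (by
        rw [ZMod.card, Finset.card_univ, Fintype.card_fin]; omega))
      rw [← monomial'_one]
      exact UnitFix.hasTI_monomial hq 1 _ π hπ id (fun k => rootChar hζ (e (π k 0))) (fun k j => rfl) fun k j => by
        fin_cases j
        · rfl
        · exact congrArg _ (hπe k).symm
    · obtain ⟨w, hw, hXd, hXT, -⟩ := UnitFix.exists_kummer_conj' hq hr2 hzn hno hz hXu
      have hw0 : w ≠ 0 := fun h => by rw [h] at hw; omega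
      have hv := UnitFix.le_val_of_no_root hq hzn hw0 (hXd.symm.trans hdet) hno
      obtain ⟨k, hk⟩ : r ∣ m := hor.resolve_right (by
        rw [hw, padicValNat.mul hr.out.ne_zero hw0, padicValNat_self]; omega)
      rw [hk]
      refine hXT k ?_
      rw [hk, hw, mul_left_comm] at hmn
      exact Nat.le_of_mul_le_mul_left hmn hr.out.pos

theorem two_case (hq : Fintype.card F = q ^ 2) (h2 : (2 : F) ≠ 0) (hn : 3 ≤ n) (hmn : 2 * m ≤ n) :
    All F q n m 2 ↔ (2 * m < n ∨ padicValNat 2 (q + 1) ≤ padicValNat 2 n) := by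
  classical
  haveI : Fact (Nat.Prime 2) := ⟨Nat.prime_two⟩
  have hchar : ringChar F ≠ 2 := fun hc => h2 (by exact_mod_cast (ringChar.spec F 2).2 (by rw [hc]))
  have hqodd : Odd q := by
    have h := FiniteField.odd_card_of_char_ne_two hchar
    rw [hq, ← Nat.odd_iff] at h
    exact (Nat.odd_pow_iff two_ne_zero).1 h
  have hd : 2 ∣ q + 1 := even_iff_two_dvd.1 hqodd.add_one
  obtain ⟨ζ, hζ⟩ := UnitFix.exists_prim hq hd
  constructor
  · intro hall
    by_contra hcon
    push Not at hcon
    obtain ⟨hnm, hlt⟩ := hcon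
    obtain ⟨g, hg⟩ := IsCyclic.exists_generator (α := Fˣ)
    have hog : orderOf g = Nat.card Fˣ := orderOf_eq_card_of_forall_mem_zpowers hg
    set v := padicValNat 2 n
    have hdv : 2 ^ (v + 1) ∣ q + 1 := (padicValNat_dvd_iff_le (by omega)).2 hlt
    obtain ⟨c, hc⟩ : 2 ^ (v + 1) ∣ Nat.card Fˣ := by
      rw [Nat.card_units, Nat.card_eq_fintype_card, hq, show q ^ 2 - 1 = (q + 1) * (q - 1) by
        rw [← Nat.sq_sub_sq, one_pow]]
      exact hdv.trans (dvd_mul_right _ _)
    have hpos : 0 < c := Nat.pos_of_ne_zero fun hc0 => by rw [hc0, mul_zero] at hc; exact Nat.card_pos.ne' hc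
    have hu : orderOf (g ^ c) = 2 ^ (v + 1) := by
      rw [orderOf_pow' g (by omega), hog, hc, Nat.gcd_mul_left_left, Nat.mul_div_cancel _ hpos]
    set t : F := ((g ^ c : Fˣ) : F)
    have ht : t ^ (q + 1) = 1 := by
      rw [← Units.val_pow_eq_pow_val, orderOf_dvd_iff_pow_eq_one.1 (hu ▸ hdv), Units.val_one]
    have htn : t ^ n = -1 := by
      have h1 : (t ^ n) * (t ^ n) = 1 := by
        rw [← pow_add, ← two_mul, ← Units.val_pow_eq_pow_val, orderOf_dvd_iff_pow_eq_one.1, Units.val_one]
        rw [hu, pow_succ, mul_comm]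
        exact mul_dvd_mul_left 2 pow_padicValNat_dvd
      refine (mul_self_eq_one_iff.1 h1).resolve_left fun h1' => ?_
      have h2' : orderOf (g ^ c) ∣ n := orderOf_dvd_of_pow_eq_one (Units.ext (by push_cast; exact h1'))
      rw [hu] at h2'
      exact pow_succ_padicValNat_not_dvd (by omega) h2'
    have ht0 : t ≠ 0 := Units.ne_zero _
    let d : Fin n → F := fun i => if i = ⟨0, by omega⟩ then -t else t
    have hdn : ∀ i, d i ^ (q + 1) = 1 := fun i => by
      simp only [d]; split_ifs
      · rw [neg_pow, (hqodd.add_one).neg_one_pow, ht, one_mul]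
      · exact ht
    have hne : -t ≠ t := fun h => ht0 ((mul_eq_zero.1 (show (2 : F) * t = 0 by linear_combination -h)).resolve_left h2)
    have hprod : ∏ i, d i = 1 := by
      have e : d = fun i => t * if i = ⟨0, by omega⟩ then -1 else 1 := funext fun i => by
        simp only [d]; split_ifs <;> ring
      rw [e, Finset.prod_mul_distrib, Finset.prod_const, Finset.prod_ite_eq', Finset.card_univ, Fintype.card_fin, htn]
      simp
    have hTI := hall (Matrix.diagonal d) (UnitFix.isU_diagonal hq d hdn) (by rw [Matrix.det_diagonal, hprod])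
      ⟨t * t, by
        rw [Matrix.diagonal_pow, Matrix.smul_one_eq_diagonal]
        congr 1
        funext i
        simp only [d, Pi.pow_apply]
        split_ifs <;> ring⟩ (fun z hz => by
        have h0 := congrArg (fun M : Matrix (Fin n) (Fin n) F => M ⟨0, by omega⟩ ⟨0, by omega⟩) hz
        have h1 := congrArg (fun M : Matrix (Fin n) (Fin n) F => M ⟨1, by omega⟩ ⟨1, by omega⟩) hz
        simp [d] at h0 h1
        exact hne (h0.trans h1.symm))
    have := UnitFix.le_of_diag hq d {⟨0, by omega⟩} (fun i hi j hji => by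
      rw [Finset.mem_singleton] at hi
      subst hi
      simp only [d, if_neg hji, if_true]
      exact hne.symm) hTI
    rw [Finset.card_singleton] at this
    omega
  · rintro hcase X hXu hdet ⟨z, hz⟩ -
    have hzn := scalar_norm hq (by omega) hXu hz
    obtain ⟨s, rfl⟩ : ∃ s : F, s ^ 2 = z := by
      have hz0 : z ≠ 0 := fun h => by rw [h, zero_pow (by omega)] at hzn; exact zero_ne_one hzn
      obtain ⟨s, hs⟩ := (FiniteField.isSquare_iff hchar hz0).2 (by
        obtain ⟨l, hl⟩ := hqodd
        rw [hq, show q ^ 2 / 2 = (q + 1) * l by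
          have : q ^ 2 = 2 * ((q + 1) * l) + 1 := by rw [hl]; ring
          omega]
        rw [pow_mul, hzn, one_pow])
      exact ⟨s, by rw [hs, pow_two]⟩
    have hs1 : (s ^ (q + 1)) * s ^ (q + 1) = 1 := by rw [← pow_add, ← two_mul, pow_mul, hzn]
    rcases mul_self_eq_one_iff.1 hs1 with hs | hs
    · obtain ⟨hYu, hY, hXY⟩ := scale hq hXu hz hs rfl
      obtain ⟨g, hg, e, he⟩ := UnitFix.exists_diag_conj hq hd hζ hY hYu
      have hev : 2 * m < n ∨ ∀ v, Even ((Finset.univ : Finset (Fin n)).filter fun i => e i = v).card := by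
        refine hcase.imp_right fun hv v => ?_
        have hsn : s ^ n = 1 := by
          have h1 : s ^ (2 * n) = 1 := by
            have := congrArg Matrix.det hz
            rw [Matrix.det_pow, hdet, one_pow, Matrix.det_smul, Matrix.det_one, mul_one, Fintype.card_fin] at this
            rw [pow_mul, ← this]
          have h3 : Nat.gcd (2 * n) (q + 1) ∣ n := by
            obtain ⟨n', hn'⟩ : 2 ^ padicValNat 2 (q + 1) ∣ n :=
              (pow_dvd_pow 2 hv).trans pow_padicValNat_dvd
            obtain ⟨o, ho⟩ := pow_padicValNat_dvd (p := 2) (n := q + 1)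
            have hodd : Nat.Coprime 2 o := (Nat.Prime.coprime_iff_not_dvd Nat.prime_two).2 fun h => by
              refine pow_succ_padicValNat_not_dvd (p := 2) (show q + 1 ≠ 0 by omega) ?_
              obtain ⟨o', rfl⟩ := h
              exact ⟨o', by conv_lhs => rw [ho]
                            ring⟩
            set V := 2 ^ padicValNat 2 (q + 1)
            rw [ho, hn', mul_left_comm, Nat.gcd_mul_left, Nat.Coprime.gcd_mul_left_cancel n' hodd]
            exact mul_dvd_mul_left _ (Nat.gcd_dvd_left _ _)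
          obtain ⟨l, hl⟩ := h3
          rw [hl, pow_mul, pow_gcd_eq_one.2 ⟨h1, hs⟩, one_pow]
        have hsum : ∑ i, e i = 0 := by
          refine FormTests.rootChar_injective hζ ?_
          rw [AddChar.map_zero_eq_one, FormTests.rootChar_sum, ← Matrix.det_diagonal]
          have h4 := congrArg Matrix.det he
          rw [Matrix.det_smul, hdet, mul_one, Fintype.card_fin, inv_pow, hsn, inv_one,
            Matrix.det_mul_right_comm, ← Units.val_mul, mul_inv_cancel, Units.val_one, Matrix.one_mul] at h4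
          exact h4.symm
        have h01 := zmod_two
        have hcnt : ∑ i, e i = (((Finset.univ : Finset (Fin n)).filter fun i => e i = 1).card : ZMod 2) := by
          rw [← Finset.sum_boole]
          refine Finset.sum_congr rfl fun i _ => ?_
          rcases h01 (e i) with h | h <;> simp [h]
        have h1 : Even ((Finset.univ : Finset (Fin n)).filter fun i => e i = 1).card := by
          rw [even_iff_two_dvd, ← ZMod.natCast_eq_zero_iff, ← hcnt, hsum]
        rcases h01 v with rfl | rfl
        · have hn2 : Even n := by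
            rw [even_iff_two_dvd]
            refine dvd_trans ?_ (pow_padicValNat_dvd (p := 2) (n := n))
            have := one_le_padicValNat_of_dvd (show q + 1 ≠ 0 by omega) hd
            exact dvd_pow_self 2 (by omega)
          have h5 := Finset.card_filter_add_card_filter_not (s := (Finset.univ : Finset (Fin n))) (fun i => e i = 1)
          rw [Finset.card_univ, Fintype.card_fin] at h5
          have h6 : ((Finset.univ : Finset (Fin n)).filter fun i => ¬ e i = 1) =
              (Finset.univ : Finset (Fin n)).filter fun i => e i = 0 := by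
            refine Finset.filter_congr fun i _ => ?_
            rcases h01 (e i) with h | h <;> simp [h]
          rw [h6] at h5
          have h7 : Even (((Finset.univ : Finset (Fin n)).filter fun i => e i = 1).card +
            ((Finset.univ : Finset (Fin n)).filter fun i => e i = 0).card) := by rw [h5]; exact hn2
          exact (Nat.even_add.1 h7).1 h1
        · exact h1
      rw [← hXY]
      refine UnitFix.HasTI.smul ?_ s
      rw [he]
      refine UnitFix.HasTI.conj ?_ hg
      obtain ⟨π, -, hπ, hπe⟩ := UnitFix.exists_pairs e m Finset.univ (by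
        rw [ZMod.card, Finset.card_univ, Fintype.card_fin]
        rcases hev with h | h
        · exact Or.inl (by omega)
        · exact Or.inr ⟨h, hmn⟩)
      rw [← monomial'_one]
      exact UnitFix.hasTI_monomial hq 1 _ π hπ id (fun k => rootChar hζ (e (π k 0))) (fun k j => rfl) fun k j => by
        fin_cases j
        · rfl
        · exact congrArg _ (hπe k).symm
    · -- both eigenspaces are totally isotropic
      have hu := UnitPow.isUnitaryForm_hermForm hq n
      have hiso := (UnitFix.isU_iff_herm hq).1 hXu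
      have hs0 : s ≠ 0 := fun h => by rw [h, zero_pow (by omega)] at hs; exact neg_ne_zero.2 one_ne_zero hs.symm
      have hti : ∀ a : F, a ^ (q + 1) = -1 →
          ∀ u ∈ LinearMap.ker (Matrix.toLin' X - a • 1), ∀ v ∈ LinearMap.ker (Matrix.toLin' X - a • 1),
            Cfsg.hermForm n F q u v = 0 := by
        intro a ha u hu' v hv
        have e : ∀ w ∈ LinearMap.ker (Matrix.toLin' X - a • 1), X *ᵥ w = a • w := fun w hw => by
          rwa [LinearMap.mem_ker, LinearMap.sub_apply, sub_eq_zero, Matrix.toLin'_apply] at hw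
        have h1 := hiso u v
        rw [e u hu', e v hv, Unit.smul_left hu, Unit.smul_right hu, UnitPow.conj_apply, ← mul_assoc, ← pow_succ', ha,
          neg_one_mul] at h1
        exact (mul_eq_zero.1 (show (2 : F) * Cfsg.hermForm n F q u v = 0 by linear_combination -h1)).resolve_left h2
      set A := LinearMap.ker (Matrix.toLin' X - s • 1)
      set B := LinearMap.ker (Matrix.toLin' X - (-s) • 1)
      have hA := hti s hs
      have hB := hti (-s) (by rw [neg_pow, (hqodd.add_one).neg_one_pow, hs, one_mul])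
      have hsup : A ⊔ B = ⊤ := by
        refine eq_top_iff.2 fun v _ => ?_
        have hXX : X *ᵥ (X *ᵥ v) = s ^ 2 • v := by
          rw [Matrix.mulVec_mulVec, ← pow_two, hz, Matrix.smul_mulVec, Matrix.one_mulVec]
        have e : v = (2 * s)⁻¹ • (X *ᵥ v + s • v) + (2 * s)⁻¹ • (s • v - X *ᵥ v) := by
          rw [← smul_add, show X *ᵥ v + s • v + (s • v - X *ᵥ v) = (2 * s) • v by module, smul_smul,
            inv_mul_cancel₀ (mul_ne_zero h2 hs0), one_smul]
        rw [e]
        refine Submodule.add_mem_sup (Submodule.smul_mem _ _ ?_) (Submodule.smul_mem _ _ ?_)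
        · rw [LinearMap.mem_ker, LinearMap.sub_apply, Matrix.toLin'_apply, Matrix.mulVec_add, Matrix.mulVec_smul, hXX,
            LinearMap.smul_apply, Module.End.one_apply]
          module
        · rw [LinearMap.mem_ker, LinearMap.sub_apply, Matrix.toLin'_apply, Matrix.mulVec_sub, Matrix.mulVec_smul, hXX,
            LinearMap.smul_apply, Module.End.one_apply]
          module
      have hle : ∀ C : Submodule F (Fin n → F), (∀ u ∈ C, ∀ v ∈ C, Cfsg.hermForm n F q u v = 0) →
          2 * Module.finrank F C ≤ n := fun C hC => by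
        have h1 := Submodule.finrank_mono
          (show C ≤ Unit.perp hu C from fun x hx => (Unit.mem_perp hu).2 fun y hy => hC x hx y hy)
        have h3 := Unit.finrank_perp hu C
        rw [Fintype.card_fin] at h3
        omega
      have h1 := Submodule.finrank_sup_add_finrank_inf_eq A B
      rw [hsup, finrank_top, Module.finrank_fin_fun] at h1
      have hdA := hle A hA
      have hdB := hle B hB
      obtain ⟨W, -, hWA, hWd⟩ := exists_subspace_between (F := F) (bot_le : ⊥ ≤ A) (d := m)
        (by rw [finrank_bot]; omega) (by omega)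
      refine ⟨W, hWd, fun u hu' v hv => hA u (hWA hu') v (hWA hv), fun v hv => ?_⟩
      have := hWA hv
      rw [LinearMap.mem_ker, LinearMap.sub_apply, sub_eq_zero, Matrix.toLin'_apply] at this
      rw [this]
      exact W.smul_mem s hv

/-- Elements of prime order of PSU_n(q) with no fixed totally isotropic `m`-space. Here `T = PSU_n(q)` (`n ≥ 3`, `(n, q) ≠ (3, 2)`), realised through the matrices of determinant 1 over the field `F` with `q²` elements preserving the Hermitian form `h(u, v) = Σ u_i v_i^q`; an element of `T` of prime order `r` is such a matrix `x` with `x^r` scalar and `x` not scalar. For `r ≠ p` let `i` be the multiplicative order of `q` modulo `r`, `b = i/2` for `i` even and `b = i` for `i` odd, `c = i, i/2, 2i` according as `i ≡ 0, 2 (mod 4)` or `i` odd, and write `k = n mod c`, `ℓ = m mod b`, `ℓ' = m mod c`, `n' = ⌊n/b⌋`, `m' = ⌊m/b⌋`, `s = (r−1)/b`; `(a)_r` is the `r`-part of `a`. Let `1 ≤ m ≤ n/2` and let `r` be a prime dividing the number of totally isotropic `m`-spaces.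 Then every element of `T` of order `r` fixes a totally isotropic `m`-space if and only if either (i) `r = 2`, `p ≠ 2`, and (`m < n/2` or `(q+1)_2 ≤ (n)_2`); or (ii) `r ≠ p`, `r > 2`, `b ≤ m`, `k ≥ 2ℓ`, and either `i ≢ 2 (mod 4)`, or `i ≡ 2 (mod 4)`, `n' − 2m' ≥ s` and (`i > 2`, or `i = 2` and (`r ∣ m` or `(q+1)_r ≥ (n)_r`)). -/
theorem result {F : Type*} [Field F] [Fintype F] {p : ℕ} [Fact p.Prime] [CharP F p] {q : ℕ} (hq : Fintype.card F = q ^ 2)
    (n m : ℕ) (hn : 3 ≤ n) (hT : (n, q) ≠ (3, 2)) (hm : 1 ≤ m) (hmn : 2 * m ≤ n)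
    (r : ℕ) [Fact r.Prime]
    (hrΩ : r ∣ Nat.card {W : Submodule F (Fin n → F) // Module.finrank F ↥W = m ∧ (∀ u ∈ W, ∀ v ∈ W, Cfsg.hermForm n F q u v = 0)})
    (i b c : ℕ) (hi : i = orderOf (q : ZMod r)) (hb : b = if Even i then i / 2 else i)
    (hc : c = if i % 4 = 0 then i else if i % 4 = 2 then i / 2 else 2 * i) :
    (∀ x : Matrix.SpecialLinearGroup (Fin n) F, x ∈ Cfsg.SU n F q →
      (∃ z : F, ((x ^ r : Matrix.SpecialLinearGroup (Fin n) F) : Matrix (Fin n) (Fin n) F) = z • (1 : Matrix (Fin n) (Fin n) F)) →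
      (∀ z : F, (x : Matrix (Fin n) (Fin n) F) ≠ z • (1 : Matrix (Fin n) (Fin n) F)) →
      ∃ W : Submodule F (Fin n → F), Module.finrank F ↥W = m ∧ (∀ u ∈ W, ∀ v ∈ W, Cfsg.hermForm n F q u v = 0) ∧
        W.map (Matrix.toLin' (x : Matrix (Fin n) (Fin n) F)) ≤ W) ↔
    ((r = 2 ∧ p ≠ 2 ∧ (2 * m < n ∨ padicValNat 2 (q + 1) ≤ padicValNat 2 n)) ∨
     (r ≠ p ∧ 2 < r ∧ b ≤ m ∧ 2 * (m % b) ≤ n % c ∧
       (i % 4 ≠ 2 ∨ (i % 4 = 2 ∧ (r - 1) / b + 2 * (m / b) ≤ n / b ∧
         (2 < i ∨ (i = 2 ∧ (r ∣ m ∨ padicValNat r n ≤ padicValNat r (q + 1)))))))) := by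
  classical
  obtain ⟨hrp, hj⟩ := UnitFix.of_dvd_count hq (p := p) hmn hrΩ
  rw [all_iff hq]
  have hrK : (r : F) ≠ 0 := CfsgLib.OrderR.cast_ne_zero (F := F) (p := p) hrp
  have hrprime : r.Prime := Fact.out
  by_cases hr2 : r = 2
  · subst hr2
    rw [two_case hq (by exact_mod_cast hrK) hn hmn]
    constructor
    · exact fun h => Or.inl ⟨rfl, Ne.symm hrp, h⟩
    · rintro (⟨-, -, h⟩ | ⟨-, h, -⟩)
      · exact h
      · omega
  have hr3 : 2 < r := by have := hrprime.two_le; omega
  by_cases hd : r ∣ q + 1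
  · -- `i = 2`
    have hqm : (q : ZMod r) = -1 := by
      rw [← ZMod.natCast_eq_zero_iff, Nat.cast_add, Nat.cast_one] at hd
      exact eq_neg_of_add_eq_zero_left hd
    have hne : (-1 : ZMod r) ≠ 1 := fun h => by
      have h20 : ((2 : ℕ) : ZMod r) = 0 := by push_cast; linear_combination -h
      exact hr2 ((Nat.prime_dvd_prime_iff_eq hrprime Nat.prime_two).1 ((ZMod.natCast_eq_zero_iff _ _).1 h20))
    have hi2 : i = 2 := by
      rw [hi, hqm]
      exact orderOf_eq_prime (by rw [neg_one_sq]) hne
    subst hi2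
    simp at hb hc
    subst hb; subst hc
    rw [semisimple_two hq hr2 hd hm hn hmn]
    constructor
    · rintro ⟨h1, h2⟩
      exact Or.inr ⟨hrp, hr3, hm, by simp [Nat.mod_one], Or.inr ⟨rfl, by simpa using h1, Or.inr ⟨rfl, h2⟩⟩⟩
    · rintro (⟨h, -⟩ | ⟨-, -, -, -, h | ⟨-, h, h' | ⟨-, h'⟩⟩⟩)
      · exact absurd h hr2
      · simp at h
      · omega
      · exact ⟨by simpa using h, h'⟩
  · rw [semisimple hq hr2 hrK hd hm hmn hj i b c hi hb hc]
    have hi2 : i ≠ 2 := fun h2 => by
      refine hd ?_
      rw [← ZMod.natCast_eq_zero_iff, Nat.cast_add, Nat.cast_one]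
      have h1 : (q : ZMod r) * q = 1 := by rw [← pow_two, ← h2, hi, pow_orderOf_eq_one]
      rcases mul_self_eq_one_iff.1 h1 with h3 | h3
      · rw [hi, h3, orderOf_one] at h2; omega
      · rw [h3, neg_add_cancel]
    constructor
    · rintro ⟨h1, h2, h3⟩
      refine Or.inr ⟨hrp, hr3, h1, h2, ?_⟩
      by_cases h4 : i % 4 = 2
      · exact Or.inr ⟨h4, h3 h4, Or.inl (by omega)⟩
      · exact Or.inl h4
    · rintro (⟨h, -⟩ | ⟨-, -, h1, h2, h3⟩)
      · exact absurd h hr2
      · refine ⟨h1, h2, fun h4 => ?_⟩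
        rcases h3 with h3 | ⟨-, h3, -⟩
        · exact absurd h4 h3
        · exact h3

end Cfsg.Agent.S5953
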