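import Cfsg.Statements.S5954
import Cfsg.Agent.Lib.PrimeElusive.UnitFixND
import Cfsg.Agent.Lib.Maximal99.OrderR
import Cfsg.Agent.Lib.UnitaryUnip.SelfAdjoint
import Cfsg.Agent.Lib.UnitaryUnip.Regular
-- import your own Cfsg.Agent.* helpers here

set_option autoImplicit false
set_option linter.unusedSectionVars false
open scoped MatrixGroups
open Cfsg

namespace Cfsg.Agent.S5954

open Matrix CfsgLib.PrimeClasses CfsgLib.PrimeElusive CfsgLib.GeomClasses CfsgLib.RankProfile Cfsg.Agent.Jordan57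
open CfsgLib.PrimeElusive.UnitFix (HasND IsU)

variable {F : Type*} [Field F] [Fintype F] {q n m r : ℕ}

/-- The property in the statement. -/
def All (F : Type*) [Field F] [Fintype F] (q n m r : ℕ) : Prop :=
  ∀ X : Matrix (Fin n) (Fin n) F, IsU q X → X.det = 1 → (∃ z : F, X ^ r = z • 1) →
    (∀ z : F, X ≠ z • 1) → HasND q m X

theorem all_iff (hq : Fintype.card F = q ^ 2) :
    (∀ x : Matrix.SpecialLinearGroup (Fin n) F, x ∈ Cfsg.SU n F q →
      (∃ z : F, ((x ^ r : Matrix.SpecialLinearGroup (Fin n) F) : Matrix (Fin n) (Fin n) F) = z • (1 : Matrix (Fin n) (Fin n) F)) →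
      (∀ z : F, (x : Matrix (Fin n) (Fin n) F) ≠ z • (1 : Matrix (Fin n) (Fin n) F)) →
      ∃ W : Submodule F (Fin n → F), Module.finrank F ↥W = m ∧ (∀ u ∈ W, u ≠ 0 → ∃ v ∈ W, Cfsg.hermForm n F q u v ≠ 0) ∧
        W.map (Matrix.toLin' (x : Matrix (Fin n) (Fin n) F)) ≤ W) ↔ All F q n m r := by
  constructor
  · intro h X hX hdet hz hns
    let x : Matrix.SpecialLinearGroup (Fin n) F := ⟨X, hdet⟩
    obtain ⟨z, hz⟩ := hz
    obtain ⟨W, h1, h2, h3⟩ := h x (fun u v => (UnitFix.isU_iff_herm hq).1 hX u v)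
      ⟨z, (Matrix.SpecialLinearGroup.coe_pow x r).trans hz⟩ hns
    exact ⟨W, h1, h2, UnitFix.map_le_iff.1 h3⟩
  · intro h x hx hz hns
    obtain ⟨W, h1, h2, h3⟩ := h x ((UnitFix.isU_iff_herm hq).2 hx) x.2
      (by rw [← Matrix.SpecialLinearGroup.coe_pow]; exact hz) hns
    exact ⟨W, h1, h2, UnitFix.map_le_iff.2 h3⟩

/-- An element with an `r`-th root of the scalar. -/
theorem scale {X : Matrix (Fin n) (Fin n) F} (hX : IsU q X) {z t : F}
    (hz : X ^ r = z • 1) (ht : t ^ (q + 1) = 1) (htr : t ^ r = z) :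
    IsU q (t⁻¹ • X) ∧ (t⁻¹ • X) ^ r = 1 ∧ t • (t⁻¹ • X) = X := by
  have ht0 : t ≠ 0 := fun h => by rw [h, zero_pow (by omega)] at ht; exact zero_ne_one ht
  refine ⟨(UnitFix.isU_smul_iff (by rw [inv_pow, ht, inv_one])).2 hX, ?_, ?_⟩
  · rw [_root_.smul_pow, hz, smul_smul, inv_pow, htr, inv_mul_cancel₀ ?_, one_smul]
    rw [← htr]
    exact pow_ne_zero _ ht0
  · rw [smul_smul, mul_inv_cancel₀ ht0, one_smul]

theorem scalar_norm (hq : Fintype.card F = q ^ 2) (hn : 0 < n) {X : Matrix (Fin n) (Fin n) F} (hX : IsU q X)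
    {z : F} (hz : X ^ r = z • 1) : z ^ (q + 1) = 1 :=
  UnitFix.norm_of_scalar hq hn (hz ▸ hX.pow hq r)

theorem exists_le_sum {α : Type*} [Fintype α] (f : α → ℕ) : ∀ a, a ≤ ∑ x, f x →
    ∃ d : α → ℕ, (∀ x, d x ≤ f x) ∧ ∑ x, d x = a := by
  classical
  intro a
  induction a with
  | zero => exact fun _ => ⟨0, fun x => Nat.zero_le _, by simp⟩
  | succ a ih =>
    intro h
    obtain ⟨d, hd, hds⟩ := ih (by omega)
    obtain ⟨x, hx⟩ : ∃ x, d x < f x := by
      by_contra hno
      push Not at hno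
      have := Finset.sum_le_sum fun x (_ : x ∈ Finset.univ) => hno x
      omega
    refine ⟨d + Pi.single x 1, fun y => ?_, ?_⟩
    · by_cases hy : y = x
      · subst hy; simp; omega
      · simp [hy, hd y]
    · simp [Finset.sum_add_distrib, hds]

/-- `r ∤ q + 1`, odd. -/
theorem semisimple (hq : Fintype.card F = q ^ 2) [hr : Fact r.Prime] (hr2 : r ≠ 2) (hrK : (r : F) ≠ 0)
    (hd : ¬ r ∣ q + 1) (hm : 1 ≤ m) (hmn : 2 * m < n)
    (hj : ∃ j, n - m < j ∧ j ≤ n ∧ (-(q : ZMod r)) ^ j = 1)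
    (i b c : ℕ) (hi : i = orderOf (q : ZMod r)) (hb : b = if Even i then i / 2 else i)
    (hc : c = if i % 4 = 0 then i else if i % 4 = 2 then i / 2 else 2 * i) :
    All F q n m r ↔ (c ≤ m ∧ m % c ≤ n % c) := by
  classical
  obtain ⟨ζ, hζ, hgen⟩ := CfsgLib.PrimeClasses.exists_root (K := F) hrK
  set g := gOrb hq hrK with hgdef
  have hbb : orderOf (Fintype.card F : ZMod r) = b := by
    rw [orbit_size_eq_b hq hrK hi rfl, hb]
    rcases Nat.even_or_odd i with h | h
    · rw [if_pos h, if_neg (Nat.not_odd_iff_even.2 h)]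
    · rw [if_pos h, if_neg (Nat.not_even_iff_odd.2 h)]
  have hb0 : 0 < b := hbb ▸ orbit_size_pos hrK
  have hg : g = 1 ↔ i % 4 = 2 := gOrb_eq_one_iff hq hrK hr2 hi
  have hcb : c = if g = 1 then b else 2 * b := by
    rw [hb, hc]
    by_cases h2 : i % 4 = 2
    · rw [if_neg (by omega), if_pos h2, if_pos (hg.2 h2), if_pos (Nat.even_iff.2 (by omega))]
    · rw [if_neg h2, if_neg (fun h => h2 (hg.1 h))]
      rcases Nat.even_or_odd i with he | ho
      · rw [Nat.even_iff] at he
        rw [if_pos (by omega), if_pos (Nat.even_iff.2 he)]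
        omega
      · rw [Nat.odd_iff] at ho
        rw [if_neg (by omega), if_neg (by rw [Nat.not_even_iff]; exact ho)]
  have hcd : ∀ j, (-(q : ZMod r)) ^ j = 1 → c ∣ j := by
    intro j hjq
    have h1 : b ∣ j := by
      rw [← hbb]
      refine orderOf_dvd_of_pow_eq_one ?_
      rw [hq, Nat.cast_pow, ← neg_sq, ← pow_mul, mul_comm, pow_mul, hjq, one_pow]
    rw [hcb]
    by_cases h2 : g = 1
    · rw [if_pos h2]; exact h1
    · rw [if_neg h2]
      have h4 : i % 4 ≠ 2 := fun h => h2 (hg.2 h)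
      obtain ⟨l, rfl⟩ := h1
      rcases Nat.even_or_odd l with ⟨l', rfl⟩ | hl
      · exact ⟨l', by ring⟩
      · exfalso
        rcases Nat.even_or_odd i with he | ho
        · rw [if_pos he] at hb
          have hbe : Even b := by rw [Nat.even_iff] at he ⊢; omega
          have hbl : Even (b * l) := hbe.mul_right l
          rw [hbl.neg_pow] at hjq
          have hdi : i ∣ b * l := hi ▸ orderOf_dvd_of_pow_eq_one hjq
          rw [show i = 2 * b by rw [Nat.even_iff] at he; omega, mul_comm 2 b] at hdi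
          exact Nat.not_even_iff_odd.2 hl (even_iff_two_dvd.2 (Nat.dvd_of_mul_dvd_mul_left hb0 hdi))
        · rw [if_neg (Nat.not_even_iff_odd.2 ho)] at hb
          subst hb
          have hqb : (q : ZMod r) ^ (b * l) = 1 := by rw [pow_mul, hi, pow_orderOf_eq_one, one_pow]
          rw [(ho.mul hl).neg_pow, hqb] at hjq
          have h20 : ((2 : ℕ) : ZMod r) = 0 := by push_cast; linear_combination -hjq
          exact hr2 ((Nat.prime_dvd_prime_iff_eq hr.out Nat.prime_two).1 ((ZMod.natCast_eq_zero_iff _ _).1 h20))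
  obtain ⟨j, hj1, hj2, hj3⟩ := hj
  obtain ⟨l, rfl⟩ := hcd j hj3
  have hc0 : 0 < c := by rw [hcb]; split_ifs <;> omega
  have hjle : c * l ≤ c * (n / c) :=
    Nat.mul_le_mul_left c ((Nat.le_div_iff_mul_le hc0).2 (by rw [mul_comm]; exact hj2))
  have hn1 := Nat.div_add_mod n c
  have hm1 := Nat.div_add_mod m c
  -- tuples are made of blocks of size `c`
  have hblocks : ∀ d : Orbits hrK → ℕ, IsSym g d → c ∣ b * ∑ ω, d ω := by
    intro d hd'
    by_cases h1 : g = 1
    · rw [hcb, if_pos h1]; exact dvd_mul_right _ _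
    · have := Fintype.ofFinite (Orbits hrK ⧸ Subgroup.zpowers g)
      rw [hcb, if_neg h1, sum_sym (gOrb_sq hq hrK) h1 hd']
      exact ⟨∑ a : Orbits hrK ⧸ Subgroup.zpowers g, d a.out, by ring⟩
  constructor
  · intro hall
    have hmod : m % c ≤ n % c := by
      let blk : Orbits hrK → ℕ := if g = 1 then Pi.single 1 1 else Pi.single 1 1 + Pi.single g 1
      have hblk : IsSym g blk ∧ b * ∑ ω, blk ω = c := by
        by_cases h2 : g = 1
        · rw [hcb]
          simp only [blk, if_pos h2]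
          exact ⟨fun ω => by rw [h2, one_mul], by simp⟩
        · rw [hcb]
          simp only [blk, if_neg h2]
          refine ⟨fun ω => ?_, by simp [Finset.sum_add_distrib]; ring⟩
          have hgg : g * g = 1 := gOrb_sq hq hrK
          have a1 : g * ω = 1 ↔ ω = g :=
            ⟨fun h => by rw [← one_mul ω, ← hgg, mul_assoc, h, mul_one], fun h => by rw [h, hgg]⟩
          have a2 : g * ω = g ↔ ω = 1 := mul_eq_left
          simp only [Pi.add_apply, Pi.single_apply, a1, a2]
          omega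
      have hN1 : 1 ≤ n / c := (Nat.one_le_div_iff hc0).2 (by
        rcases Nat.eq_zero_or_pos l with h0 | h0
        · subst h0; omega
        · exact (Nat.le_mul_of_pos_right c h0).trans hj2)
      set d : Orbits hrK → ℕ := fun ω => (n / c) * blk ω
      have hds : b * ∑ ω, d ω = n / c * c := by
        show b * ∑ ω, n / c * blk ω = _
        rw [← Finset.mul_sum, mul_left_comm, hblk.2]
      obtain ⟨X, hX, hXu, hXc⟩ := UnitFix.realised_of_le hζ hq hr2 hi (c := d) (n := n)
        (fun ω => congrArg (n / c * ·) (hblk.1 ω)) (by rw [hbb, hds]; exact Nat.div_mul_le_self n c)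
      have hXu' : IsU q X := hXu
      have hdet : X.det = 1 := by
        have h1 : X.det ^ r = 1 := by rw [← Matrix.det_pow, hX, Matrix.det_one]
        have := pow_gcd_eq_one.2 ⟨h1, hXu'.det_pow hq⟩
        rwa [((Nat.Prime.coprime_iff_not_dvd hr.out).2 hd).gcd_eq_one, pow_one] at this
      have hns : ∀ z : F, X ≠ z • 1 := by
        intro z hz
        have hn0 : 0 < n := by omega
        have h1 : z ^ (q + 1) = 1 := UnitFix.norm_of_scalar hq hn0 (hz ▸ hXu')
        have h2 : z ^ r = 1 := by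
          have h3 := congrArg (fun M : Matrix (Fin n) (Fin n) F => M ⟨0, hn0⟩ ⟨0, hn0⟩) hX
          simpa [hz, _root_.smul_pow] using h3
        have h4 := pow_gcd_eq_one.2 ⟨h2, h1⟩
        rw [((Nat.Prime.coprime_iff_not_dvd hr.out).2 hd).gcd_eq_one, pow_one] at h4
        rw [h4, one_smul] at hz
        rw [hz, orbitMult_one hζ hrK] at hXc
        have h5 := Nat.mul_pos hN1 hc0
        rw [← hds, ← hXc] at h5
        simp at h5
      obtain ⟨c₁, c₂, hs₁, hs₂, h₁, h₂, hsum⟩ := UnitFix.split_of_ND hζ hq hrK (k := n - m)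
        (show n = m + (n - m) by omega) hX hXu' (hall X hXu' hdet ⟨1, by rw [hX, one_smul]⟩ hns)
      rw [hbb] at h₁ h₂
      obtain ⟨a₁, ha₁⟩ := hblocks c₁ hs₁
      obtain ⟨a₂, ha₂⟩ := hblocks c₂ hs₂
      rw [ha₁] at h₁
      rw [ha₂] at h₂
      have h6 : c * a₁ ≤ c * (m / c) :=
        Nat.mul_le_mul_left c ((Nat.le_div_iff_mul_le hc0).2 (by rw [mul_comm]; exact h₁))
      have h7 : n / c * c = c * a₁ + c * a₂ := by
        rw [← hds, ← hXc, hsum, ← ha₁, ← ha₂]
        simp [Finset.sum_add_distrib, mul_add]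
      rw [mul_comm (n / c) c] at h7
      omega
    refine ⟨?_, hmod⟩
    by_contra hlt
    rw [Nat.mod_eq_of_lt (by omega : m < c)] at hmod
    omega
  · rintro ⟨hcm, hmod⟩ X hXu hdet ⟨z, hz⟩ -
    obtain ⟨t, ht, htr⟩ :=
      (UnitFix.exists_root_norm hq hr2 (scalar_norm hq (by omega) hXu hz)).resolve_right fun h => hd h.1
    obtain ⟨hYu, hY, hXY⟩ := scale hXu hz ht htr
    rw [← hXY]
    refine UnitFix.HasND.smul ?_ t
    set d := orbitMult hζ hrK (t⁻¹ • X)
    have hsym : IsSym g d := GU_isSym hζ hq hrK hY hYu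
    have hdn : b * ∑ ω, d ω ≤ n := by
      have := weight_orbitMult_le hζ hrK hY
      rwa [hbb, Fintype.card_fin] at this
    obtain ⟨B, hB⟩ := hblocks d hsym
    let f := Fintype.equivFin (Orbits hrK)
    -- a block count for a part
    obtain ⟨c₁, hle, hs₁, hc₁⟩ : ∃ c₁ : Orbits hrK → ℕ, (∀ ω, c₁ ω ≤ d ω) ∧ IsSym g c₁ ∧
        b * ∑ ω, c₁ ω = c * min B (m / c) := by
      by_cases h1 : g = 1
      · have hc' : c = b := by rw [hcb, if_pos h1]
        rw [hc'] at hB
        have hBd : B = ∑ ω, d ω := (Nat.eq_of_mul_eq_mul_left hb0 hB).symm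
        obtain ⟨c₁, hc₁, hcs⟩ := exists_le_sum d (min B (m / c)) (hBd ▸ min_le_left _ _)
        exact ⟨c₁, hc₁, fun ω => by rw [h1, one_mul], by rw [hcs, ← hc']⟩
      · have hc' : c = 2 * b := by rw [hcb, if_neg h1]
        rw [hc', mul_comm 2 b, mul_assoc] at hB
        have hBd : ∑ ω, d ω = 2 * B := Nat.eq_of_mul_eq_mul_left hb0 hB
        have hne : ∀ ω, (f (g * ω) : ℕ) ≠ f ω := fun ω h => h1 (mul_eq_right.1 (f.injective (Fin.ext h)))
        have hgg : ∀ ω, g * (g * ω) = ω := fun ω => by rw [← mul_assoc, gOrb_sq, one_mul]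
        set top : Orbits hrK → ℕ := fun ω => if (f ω : ℕ) < f (g * ω) then d ω else 0 with htopd
        have htop : ∀ ω, top ω + top (g * ω) = d ω := fun ω => by
          have := hne ω
          simp only [top, hgg, hsym ω]
          split_ifs <;> omega
        have hshift : ∀ h : Orbits hrK → ℕ, ∑ ω, h (g * ω) = ∑ ω, h ω := fun h =>
          Fintype.sum_equiv (Equiv.mulLeft g) _ _ fun ω => rfl
        have htops : ∑ ω, top ω = B := by
          have h3 : ∑ ω, top ω + ∑ ω, top (g * ω) = ∑ ω, d ω := by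
            rw [← Finset.sum_add_distrib]; exact Finset.sum_congr rfl fun ω _ => htop ω
          rw [hshift] at h3
          omega
        obtain ⟨c₀, hc₀, hcs⟩ := exists_le_sum top (min B (m / c)) (htops ▸ min_le_left _ _)
        refine ⟨fun ω => c₀ ω + c₀ (g * ω), fun ω => ?_, fun ω => ?_, ?_⟩
        · rw [← htop ω]; exact Nat.add_le_add (hc₀ _) (hc₀ _)
        · simp only [hgg]; exact add_comm _ _
        · rw [Finset.sum_add_distrib, hshift, hcs, hc']
          ring
    refine UnitFix.hasND_of_split hζ hq hr2 hrK hi hgen (show n = m + (n - m) by omega) hY hYu c₁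
      (fun ω => d ω - c₁ ω) hs₁ (fun ω => congrArg₂ (· - ·) (hsym ω) (hs₁ ω)) ?_ ?_
      (funext fun ω => (Nat.add_sub_cancel' (hle ω)).symm)
    · rw [hbb, hc₁]
      exact (Nat.mul_le_mul_left c (min_le_right _ _)).trans (by omega)
    · rw [hbb]
      have h2 : b * ∑ ω, (d ω - c₁ ω) + b * ∑ ω, c₁ ω = b * ∑ ω, d ω := by
        rw [← mul_add, ← Finset.sum_add_distrib]
        exact congrArg _ (Finset.sum_congr rfl fun ω _ => Nat.sub_add_cancel (hle ω))
      rw [hc₁, hB] at h2
      rw [hB] at hdn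
      have h3 : c * B ≤ c * (n / c) :=
        Nat.mul_le_mul_left c ((Nat.le_div_iff_mul_le hc0).2 (by rw [mul_comm]; exact hdn))
      rcases le_total B (m / c) with h5 | h5
      · rw [min_eq_left h5] at h2; omega
      · rw [min_eq_right h5] at h2; omega

/-- A diagonalisable unitary element fixes every kind of non-degenerate subspace. -/
theorem hasND_of_diag (hq : Fintype.card F = q ^ 2) [hr : Fact r.Prime] (hd : r ∣ q + 1) (hmn : m ≤ n)
    {Y : Matrix (Fin n) (Fin n) F} (hY : Y ^ r = 1) (hYu : IsU q Y) : HasND q m Y := by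
  obtain ⟨ζ, hζ⟩ := UnitFix.exists_prim hq hd
  obtain ⟨g, hg, e, rfl⟩ := UnitFix.exists_diag_conj hq hd hζ hY hYu
  refine UnitFix.HasND.conj ?_ hg
  rw [← monomial'_one]
  exact UnitFix.hasND_monomial hq 1 _ (Finset.univ.filter fun i : Fin n => (i : ℕ) < m)
    (by rw [Fin.card_filter_val_lt]; omega) fun i hi => hi

/-- `r` odd dividing `q + 1`. -/
theorem semisimple_two (hq : Fintype.card F = q ^ 2) [hr : Fact r.Prime] (hr2 : r ≠ 2) (hd : r ∣ q + 1)
    (hn : 3 ≤ n) (hmn : 2 * m < n) :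
    All F q n m r ↔ (r ∣ m ∨ padicValNat r n ≤ padicValNat r (q + 1)) := by
  classical
  constructor
  · intro hall
    by_contra hcon
    push Not at hcon
    obtain ⟨hrm, hlt⟩ := hcon
    obtain ⟨w, hw⟩ : r ∣ n := dvd_of_one_le_padicValNat (by omega)
    have hvw : padicValNat r (q + 1) ≤ padicValNat r w := by
      rw [hw, padicValNat.mul hr.out.ne_zero (by intro h0; rw [h0] at hw; omega), padicValNat_self] at hlt
      omega
    obtain ⟨z, hz, hzw, hno⟩ := UnitFix.exists_no_root hq hr2 hd (Or.inr hvw)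
    obtain ⟨M, hMu, hMr, hMd, -, -⟩ := UnitFix.exists_kummer_model hq hr2 hw hz
    obtain ⟨W, hWd, -, hWX⟩ := hall M hMu (hMd.trans hzw) ⟨z, hMr⟩ (fun c hc => by
      have := congrArg (fun N : Matrix (Fin n) (Fin n) F => N ⟨0, by omega⟩ ⟨0, by omega⟩) hMr
      simp only [hc, _root_.smul_pow, one_pow, Matrix.smul_apply, Matrix.one_apply_eq, smul_eq_mul, mul_one] at this
      exact hno c this)
    exact hrm (hWd ▸ UnitFix.dvd_of_kummer hr.out hno hMr hWX)
  · rintro hor X hXu hdet ⟨z, hz⟩ -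
    have hzn := scalar_norm hq (by omega) hXu hz
    rcases UnitFix.exists_root_norm hq hr2 hzn with ⟨t, ht, htr⟩ | ⟨-, hno⟩
    · obtain ⟨hYu, hY, hXY⟩ := scale hXu hz ht htr
      rw [← hXY]
      exact UnitFix.HasND.smul (hasND_of_diag hq hd (by omega) hY hYu) t
    · obtain ⟨w, hw, hXd, -, hXN⟩ := UnitFix.exists_kummer_conj' hq hr2 hzn hno hz hXu
      have hw0 : w ≠ 0 := fun h => by rw [h] at hw; omega
      have hv := UnitFix.le_val_of_no_root hq hzn hw0 (hXd.symm.trans hdet) hno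
      obtain ⟨k, hk⟩ : r ∣ m := hor.resolve_right (by
        rw [hw, padicValNat.mul hr.out.ne_zero hw0, padicValNat_self]; omega)
      rw [hk]
      refine hXN k (Nat.le_of_mul_le_mul_left ?_ hr.out.pos)
      omega

/-- A totally isotropic subspace of a non-degenerate one has at most half its dimension. -/
theorem two_mul_le_of_iso (hq : Fintype.card F = q ^ 2) {W C : Submodule F (Fin n → F)}
    (hW : ∀ u ∈ W, u ≠ 0 → ∃ v ∈ W, Cfsg.hermForm n F q u v ≠ 0) (hCW : C ≤ W)
    (hC : ∀ u ∈ C, ∀ v ∈ C, Cfsg.hermForm n F q u v = 0) : 2 * Module.finrank F C ≤ Module.finrank F W := by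
  set hu := UnitPow.isUnitaryForm_hermForm hq n
  obtain ⟨hc, -⟩ := UnitFix.perp_nondeg hq hW
  have hdis : C ⊓ Unit.perp hu W = ⊥ := (hc.disjoint.mono_left hCW).eq_bot
  have hle : C ⊔ Unit.perp hu W ≤ Unit.perp hu C := sup_le
    (fun x hx => (Unit.mem_perp hu).2 fun y hy => hC x hx y hy)
    (fun x hx => (Unit.mem_perp hu).2 fun y hy => (Unit.mem_perp hu).1 hx y (hCW hy))
  have h1 := Submodule.finrank_sup_add_finrank_inf_eq C (Unit.perp hu W)
  rw [hdis, finrank_bot] at h1
  have h2 := Submodule.finrank_mono hle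
  have h3 := Unit.finrank_perp hu C
  have h4 := Unit.finrank_perp hu W
  omega

/-- The element with square `s²`, `s ^ (q + 1) = -1`. -/
theorem exists_two_model (hq : Fintype.card F = q ^ 2) {w : ℕ} (hw : 0 < w) {z : F} (hz : z ^ (q + 1) = 1)
    (hdet : (-z) ^ w = 1) :
    ∃ X : Matrix (Fin (2 * w)) (Fin (2 * w)) F,
      IsU q X ∧ X.det = 1 ∧ X ^ 2 = z • 1 ∧ ∀ c : F, X ≠ c • 1 := by
  classical
  obtain ⟨τ, hτ, -, -⟩ := CfsgLib.UnitaryEmbed.exists_conj hq
  let B : Matrix (Fin 2) (Fin 2) F := !![0, z; 1, 0]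
  let D : Matrix (Fin 2 × Fin w) (Fin 2 × Fin w) F := Matrix.blockDiagonal fun _ => B
  let e : Fin 2 × Fin w ≃ Fin (2 * w) := finProdFinEquiv
  refine ⟨Matrix.reindex e e D, ?_, ?_, ?_, fun c hc => ?_⟩
  · have h1 : ((B.map τ)ᵀ) * B = 1 := by
      have hz' : z ^ q * z = 1 := by rw [← pow_succ]; exact hz
      ext i j
      fin_cases i <;> fin_cases j <;> simp [B, Matrix.mul_apply, Fin.sum_univ_two, hτ z, hz']
    show CfsgLib.IsomConj.ctr q _ * _ = 1
    have h2 : CfsgLib.IsomConj.ctr q (Matrix.reindex e e D) =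
        Matrix.reindex e e (Matrix.blockDiagonal fun _ => (B.map τ)ᵀ) := by
      rw [← Matrix.blockDiagonal_transpose, ← Matrix.blockDiagonal_map _ _ (map_zero τ)]
      ext a b
      simp [CfsgLib.IsomConj.ctr, hτ, D]
    rw [h2, Matrix.reindex_apply, Matrix.reindex_apply, Matrix.submatrix_mul_equiv, ← Matrix.blockDiagonal_mul]
    simp only [h1]
    rw [show (fun _ : Fin w => (1 : Matrix (Fin 2) (Fin 2) F)) = 1 from rfl, Matrix.blockDiagonal_one,
      Matrix.submatrix_one_equiv]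
  · rw [Matrix.det_reindex_self, Matrix.det_blockDiagonal]
    simp [B, Matrix.det_fin_two, hdet]
  · have hBB : B * B = z • 1 := by
      ext i j
      fin_cases i <;> fin_cases j <;> simp [B, Matrix.mul_apply, Fin.sum_univ_two]
    rw [pow_two, Matrix.reindex_apply, Matrix.submatrix_mul_equiv, ← Matrix.blockDiagonal_mul]
    simp only [hBB]
    rw [show (fun _ : Fin w => z • (1 : Matrix (Fin 2) (Fin 2) F)) = z • (1 : Fin w → Matrix (Fin 2) (Fin 2) F) from rfl,
      Matrix.blockDiagonal_smul, Matrix.blockDiagonal_one]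
    ext a b
    simp [Matrix.one_apply]
  · have := congrArg (fun M : Matrix (Fin (2 * w)) (Fin (2 * w)) F => M (e (1, ⟨0, hw⟩)) (e (0, ⟨0, hw⟩))) hc
    simp [D, B, e, -finProdFinEquiv_apply_val, -finProdFinEquiv_symm_apply, Matrix.blockDiagonal_apply,
      Matrix.one_apply] at this

theorem exists_sqrt (hq : Fintype.card F = q ^ 2) (hqodd : Odd q) (hchar : ringChar F ≠ 2) {z : F}
    (hz : z ^ (q + 1) = 1) : ∃ s : F, s ^ 2 = z := by
  have hz0 : z ≠ 0 := fun h => by rw [h, zero_pow (by omega)] at hz; exact zero_ne_one hz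
  obtain ⟨s, hs⟩ := (FiniteField.isSquare_iff hchar hz0).2 (by
    obtain ⟨l, hl⟩ := hqodd
    rw [hq, show q ^ 2 / 2 = (q + 1) * l by
      have : q ^ 2 = 2 * ((q + 1) * l) + 1 := by rw [hl]; ring
      omega]
    rw [pow_mul, hz, one_pow])
  exact ⟨s, by rw [hs, pow_two]⟩

theorem two_case (hq : Fintype.card F = q ^ 2) (h2 : (2 : F) ≠ 0) (hn : 3 ≤ n) (hmn : 2 * m < n) :
    All F q n m 2 ↔ (Odd n ∨ Even m ∨ (padicValNat 2 n ≤ padicValNat 2 (q + 1) ∧ q % 4 = 3)) := by
  classical
  haveI : Fact (Nat.Prime 2) := ⟨Nat.prime_two⟩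
  have hchar : ringChar F ≠ 2 := fun hc => h2 (by exact_mod_cast (ringChar.spec F 2).2 (by rw [hc]))
  have hqodd : Odd q := by
    have h := FiniteField.odd_card_of_char_ne_two hchar
    rw [hq, ← Nat.odd_iff] at h
    exact (Nat.odd_pow_iff two_ne_zero).1 h
  have hd : 2 ∣ q + 1 := even_iff_two_dvd.1 hqodd.add_one
  have hu := UnitPow.isUnitaryForm_hermForm hq n
  -- the eigenspaces of an element with square `s²`
  have heig : ∀ (X : Matrix (Fin n) (Fin n) F) (s : F), IsU q X → X ^ 2 = s ^ 2 • 1 → s ^ (q + 1) = -1 →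
      ∃ A B : Submodule F (Fin n → F), (∀ v ∈ A, X *ᵥ v = s • v) ∧ (∀ v ∈ B, X *ᵥ v = (-s) • v) ∧
        (∀ u ∈ A, ∀ v ∈ A, Cfsg.hermForm n F q u v = 0) ∧ (∀ u ∈ B, ∀ v ∈ B, Cfsg.hermForm n F q u v = 0) ∧
        Disjoint A B ∧ ∀ v, ∃ a ∈ A, ∃ b ∈ B, a + b = v ∧
          a = (2 * s)⁻¹ • (X *ᵥ v + s • v) ∧ b = (2 * s)⁻¹ • (s • v - X *ᵥ v) := by
    intro X s hXu hz hs
    have hiso := (UnitFix.isU_iff_herm hq).1 hXu
    have hs0 : s ≠ 0 := fun h => by rw [h, zero_pow (by omega)] at hs; exact neg_ne_zero.2 one_ne_zero hs.symm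
    have he : ∀ a : F, ∀ w ∈ LinearMap.ker (Matrix.toLin' X - a • 1), X *ᵥ w = a • w := fun a w hw => by
      rwa [LinearMap.mem_ker, LinearMap.sub_apply, sub_eq_zero, Matrix.toLin'_apply] at hw
    have hti : ∀ a : F, a ^ (q + 1) = -1 →
        ∀ u ∈ LinearMap.ker (Matrix.toLin' X - a • 1), ∀ v ∈ LinearMap.ker (Matrix.toLin' X - a • 1),
          Cfsg.hermForm n F q u v = 0 := by
      intro a ha u hu' v hv
      have h1 := hiso u v
      rw [he a u hu', he a v hv, Unit.smul_left hu, Unit.smul_right hu, UnitPow.conj_apply, ← mul_assoc,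
        ← pow_succ', ha, neg_one_mul] at h1
      exact (mul_eq_zero.1 (show (2 : F) * Cfsg.hermForm n F q u v = 0 by linear_combination -h1)).resolve_left h2
    refine ⟨_, _, he s, he (-s), hti s hs, hti (-s) (by rw [neg_pow, (hqodd.add_one).neg_one_pow, hs, one_mul]), ?_, ?_⟩
    · rw [Submodule.disjoint_def]
      intro v hv hv'
      have h1 := (he s v hv).symm.trans (he (-s) v hv')
      have h3 : (2 * s) • v = 0 := by
        rw [two_mul, add_smul]
        nth_rewrite 2 [h1]
        rw [← add_smul, add_neg_cancel, zero_smul]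
      exact (smul_eq_zero.1 h3).resolve_left (mul_ne_zero h2 hs0)
    · intro v
      have hXX : X *ᵥ (X *ᵥ v) = s ^ 2 • v := by
        rw [Matrix.mulVec_mulVec, ← pow_two, hz, Matrix.smul_mulVec, Matrix.one_mulVec]
      refine ⟨_, Submodule.smul_mem _ _ ?_, _, Submodule.smul_mem _ _ ?_, ?_, rfl, rfl⟩
      · rw [LinearMap.mem_ker, LinearMap.sub_apply, Matrix.toLin'_apply, Matrix.mulVec_add, Matrix.mulVec_smul, hXX,
          LinearMap.smul_apply, Module.End.one_apply]
        module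
      · rw [LinearMap.mem_ker, LinearMap.sub_apply, Matrix.toLin'_apply, Matrix.mulVec_sub, Matrix.mulVec_smul, hXX,
          LinearMap.smul_apply, Module.End.one_apply]
        module
      · rw [← smul_add, show X *ᵥ v + s • v + (s • v - X *ᵥ v) = (2 * s) • v by module, smul_smul,
          inv_mul_cancel₀ (mul_ne_zero h2 hs0), one_smul]
  constructor
  · intro hall
    by_contra hcon
    rw [not_or, not_or, Nat.not_odd_iff_even, Nat.not_even_iff_odd, not_and] at hcon
    obtain ⟨⟨w, hw⟩, hmodd, hvq⟩ := hcon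
    rw [← two_mul] at hw
    subst hw
    have hq4 : q % 4 = 1 ∨ q % 4 = 3 := by rw [Nat.odd_iff] at hqodd; omega
    have hvn : padicValNat 2 (2 * w) = 1 + padicValNat 2 w := by
      rw [padicValNat.mul two_ne_zero (by omega), padicValNat_self]
    have hv1 : q % 4 = 1 → padicValNat 2 (q + 1) = 1 := fun h => by
      have h1 : padicValNat 2 (q + 1) = padicValNat 2 2 + padicValNat 2 ((q + 1) / 2) := by
        rw [← padicValNat.mul two_ne_zero (by omega), Nat.mul_div_cancel' hd]
      rw [h1, padicValNat_self, padicValNat.eq_zero_of_not_dvd (by omega : ¬ 2 ∣ (q + 1) / 2)]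
    -- the scalar
    obtain ⟨s, hs, hdet⟩ : ∃ s : F, s ^ (q + 1) = -1 ∧ (-(s ^ 2)) ^ w = 1 := by
      by_cases hA : q % 4 = 1 ∧ padicValNat 2 w = 0
      · obtain ⟨hA1, hA2⟩ := hA
        obtain ⟨s, hs⟩ : IsSquare (-1 : F) := by
          rw [FiniteField.isSquare_neg_one_iff, hq, Nat.pow_mod, hA1]; decide
        refine ⟨s, ?_, by rw [pow_two, ← hs, neg_neg, one_pow]⟩
        rw [show q + 1 = 2 * ((q + 1) / 2) by omega, pow_mul, pow_two, ← hs]
        exact Odd.neg_one_pow (Nat.odd_iff.2 (by omega))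
      · have hlt : padicValNat 2 (q + 1) ≤ padicValNat 2 w := by
          rcases hq4 with h | h
          · have := hv1 h
            have : padicValNat 2 w ≠ 0 := fun h0 => hA ⟨h, h0⟩
            omega
          · have : ¬ padicValNat 2 (2 * w) ≤ padicValNat 2 (q + 1) := fun hle => hvq hle h
            omega
        set e := padicValNat 2 (q + 1)
        obtain ⟨g, hg⟩ := IsCyclic.exists_generator (α := Fˣ)
        have hog : orderOf g = Nat.card Fˣ := orderOf_eq_card_of_forall_mem_zpowers hg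
        obtain ⟨c, hc⟩ : 2 ^ (e + 1) ∣ Nat.card Fˣ := by
          rw [Nat.card_units, Nat.card_eq_fintype_card, hq, show q ^ 2 - 1 = (q + 1) * (q - 1) by
            rw [← Nat.sq_sub_sq, one_pow], pow_succ]
          exact Nat.mul_dvd_mul pow_padicValNat_dvd (by rw [Nat.odd_iff] at hqodd; omega)
        have hpos : 0 < c := Nat.pos_of_ne_zero fun hc0 => by rw [hc0, mul_zero] at hc; exact Nat.card_pos.ne' hc
        have hou : orderOf (g ^ c) = 2 ^ (e + 1) := by
          rw [orderOf_pow' g (by omega), hog, hc, Nat.gcd_mul_left_left, Nat.mul_div_cancel _ hpos]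
        refine ⟨((g ^ c : Fˣ) : F), ?_, ?_⟩
        · have h1 : ((g ^ c : Fˣ) : F) ^ (q + 1) * ((g ^ c : Fˣ) : F) ^ (q + 1) = 1 := by
            rw [← pow_add, ← two_mul, ← Units.val_pow_eq_pow_val, orderOf_dvd_iff_pow_eq_one.1, Units.val_one]
            rw [hou, pow_succ, mul_comm]
            exact mul_dvd_mul_left 2 pow_padicValNat_dvd
          refine (mul_self_eq_one_iff.1 h1).resolve_left fun h1' => ?_
          have h2' : orderOf (g ^ c) ∣ q + 1 := orderOf_dvd_of_pow_eq_one (Units.ext (by push_cast; exact h1'))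
          rw [hou] at h2'
          exact pow_succ_padicValNat_not_dvd (by omega) h2'
        · have he1 : 1 ≤ e := one_le_padicValNat_of_dvd (by omega) hd
          have hwe : 2 ^ e ∣ w := (pow_dvd_pow 2 hlt).trans pow_padicValNat_dvd
          have hwev : Even w := even_iff_two_dvd.2 ((dvd_pow_self 2 (by omega : e ≠ 0)).trans hwe)
          rw [hwev.neg_pow, ← pow_mul, ← Units.val_pow_eq_pow_val, orderOf_dvd_iff_pow_eq_one.1, Units.val_one]
          rw [hou, pow_succ, mul_comm]
          exact mul_dvd_mul_left 2 hwe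
    have hz : (s ^ 2) ^ (q + 1) = 1 := by rw [← pow_mul, mul_comm, pow_mul, hs, neg_one_sq]
    obtain ⟨X, hXu, hXd, hX2, hXs⟩ := exists_two_model hq (show 0 < w by omega) hz hdet
    obtain ⟨W, hWd, hW, hWX⟩ := hall X hXu hXd ⟨_, hX2⟩ hXs
    obtain ⟨A, B, hA, hB, hAi, hBi, hAB, hdec⟩ := heig X s hXu hX2 hs
    have hsup : W ≤ (W ⊓ A) ⊔ (W ⊓ B) := by
      intro v hv
      obtain ⟨a, ha, b, hb, rfl, hae, hbe⟩ := hdec v
      refine Submodule.add_mem_sup ⟨?_, ha⟩ ⟨?_, hb⟩
      · rw [hae]; exact W.smul_mem _ (W.add_mem (hWX _ hv) (W.smul_mem _ hv))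
      · rw [hbe]; exact W.smul_mem _ (W.sub_mem (W.smul_mem _ hv) (hWX _ hv))
    have h1 := two_mul_le_of_iso hq hW (inf_le_left : W ⊓ A ≤ W) fun u hu' v hv => hAi u hu'.2 v hv.2
    have h2' := two_mul_le_of_iso hq hW (inf_le_left : W ⊓ B ≤ W) fun u hu' v hv => hBi u hu'.2 v hv.2
    have h3 := (Submodule.finrank_mono hsup).trans (Submodule.finrank_add_le_finrank_add_finrank _ _)
    obtain ⟨l, hl⟩ := hmodd
    omega
  · rintro hcase X hXu hdet ⟨z, hz⟩ -
    have hzn := scalar_norm hq (by omega) hXu hz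
    obtain ⟨s, rfl⟩ := exists_sqrt hq hqodd hchar hzn
    have hs1 : (s ^ (q + 1)) * s ^ (q + 1) = 1 := by rw [← pow_add, ← two_mul, pow_mul, hzn]
    rcases mul_self_eq_one_iff.1 hs1 with hs | hs
    · obtain ⟨hYu, hY, hXY⟩ := scale hXu hz hs rfl
      rw [← hXY]
      exact UnitFix.HasND.smul (hasND_of_diag hq hd (by omega) hY hYu) s
    obtain ⟨A, B, hA, hB, hAi, hBi, hAB, hdec⟩ := heig X s hXu hz hs
    have hle : ∀ C : Submodule F (Fin n → F), (∀ u ∈ C, ∀ v ∈ C, Cfsg.hermForm n F q u v = 0) →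
        2 * Module.finrank F C ≤ n := fun C hC => by
      have h1 := Submodule.finrank_mono
        (show C ≤ Unit.perp hu C from fun x hx => (Unit.mem_perp hu).2 fun y hy => hC x hx y hy)
      have h3 := Unit.finrank_perp hu C
      rw [Fintype.card_fin] at h3
      omega
    have hsup : A ⊔ B = ⊤ := eq_top_iff.2 fun v _ => by
      obtain ⟨a, ha, b, hb, rfl, -⟩ := hdec v
      exact Submodule.add_mem_sup ha hb
    have h1 := Submodule.finrank_sup_add_finrank_inf_eq A B
    rw [hsup, finrank_top, Module.finrank_fin_fun, hAB.eq_bot, finrank_bot] at h1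
    have hdA := hle A hAi
    have hdB := hle B hBi
    set w := Module.finrank F A
    have hnw : n = 2 * w := by omega
    have P : UnitPair.IsPolarPair q w A B := ⟨rfl, by omega, hAi, hBi, hAB⟩
    obtain ⟨Φ, hΦ, hΦ₀, hΦ₁⟩ := UnitPair.exists_coord hq P hnw
    have hXΦ : ∀ a, X *ᵥ Φ a = Φ (Sum.elim (fun i => s * a (Sum.inl i)) (fun i => -s * a (Sum.inr i))) := fun a => by
      have ha : a = Sum.elim (a ∘ Sum.inl) (0 : Fin w → F) + Sum.elim (0 : Fin w → F) (a ∘ Sum.inr) := by
        funext x; rcases x with x | x <;> simp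
      have hb : (Sum.elim (fun i => s * a (Sum.inl i)) (fun i => -s * a (Sum.inr i)) : Fin w ⊕ Fin w → F) =
          s • Sum.elim (a ∘ Sum.inl) (0 : Fin w → F) + (-s) • Sum.elim (0 : Fin w → F) (a ∘ Sum.inr) := by
        funext x; rcases x with x | x <;> simp
      rw [hb]
      conv_lhs => rw [ha]
      rw [map_add, map_add, map_smul, map_smul, Matrix.mulVec_add, hA _ (hΦ₀ _), hB _ (hΦ₁ _)]
    have hdetz : (-(s ^ 2)) ^ w = 1 := by
      have hconj : Matrix.toLin' X = Φ.toLinearMap ∘ₗ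
          Matrix.toLin' (Matrix.diagonal (Sum.elim (fun _ => s) (fun _ => -s) : Fin w ⊕ Fin w → F)) ∘ₗ
          Φ.symm.toLinearMap := LinearMap.ext fun v => by
        obtain ⟨a, rfl⟩ := Φ.surjective v
        simp only [LinearMap.comp_apply, LinearEquiv.coe_coe, Φ.symm_apply_apply, Matrix.toLin'_apply, hXΦ]
        congr 1
        funext x
        rw [Matrix.mulVec_diagonal]
        rcases x with x | x <;> simp
      have h4 := congrArg LinearMap.det hconj
      rw [LinearMap.det_toLin', hdet, LinearMap.det_conj, LinearMap.det_toLin', Matrix.det_diagonal,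
        Fintype.prod_sum_type] at h4
      simp only [Sum.elim_inl, Sum.elim_inr, Finset.prod_const, Finset.card_univ, Fintype.card_fin] at h4
      rw [h4, ← mul_pow]
      congr 1
      ring
    obtain ⟨j, hj⟩ : Even m := by
      refine (hcase.resolve_left (Nat.not_odd_iff_even.2 ⟨w, by omega⟩)).resolve_right ?_
      rintro ⟨hv, hq3⟩
      rw [hnw, padicValNat.mul two_ne_zero (by omega), padicValNat_self] at hv
      obtain ⟨H, hH⟩ : ∃ H, q + 1 = 2 * H := hd
      have hHev : Even H := Nat.even_iff.2 (by omega)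
      have hvH : padicValNat 2 w ≤ padicValNat 2 H := by
        rw [hH, padicValNat.mul two_ne_zero (by omega), padicValNat_self] at hv
        omega
      obtain ⟨w', hw'⟩ := pow_padicValNat_dvd (p := 2) (n := w)
      obtain ⟨H', hH'⟩ : 2 ^ padicValNat 2 w ∣ H := (pow_dvd_pow 2 hvH).trans pow_padicValNat_dvd
      have hw'odd : Odd w' := Nat.not_even_iff_odd.1 fun ⟨k, hk⟩ => by
        refine pow_succ_padicValNat_not_dvd (p := 2) (show w ≠ 0 by omega) ⟨k, ?_⟩
        conv_lhs => rw [hw', hk]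
        ring
      have h5 : (-(s ^ 2)) ^ H = -1 := by rw [hHev.neg_pow, ← pow_mul, ← hH, hs]
      have h6 : ((-(s ^ 2)) ^ H) ^ w' = ((-(s ^ 2)) ^ w) ^ H' := by
        rw [← pow_mul, ← pow_mul]
        congr 1
        conv_lhs => rw [hH']
        conv_rhs => rw [hw']
        ring
      rw [h5, hdetz, hw'odd.neg_one_pow, one_pow] at h6
      exact h2 (by linear_combination -h6)
    -- the fixed subspace
    let cst : Fin j ⊕ Fin j → Fin w ⊕ Fin w := Sum.map (Fin.castLE (by omega)) (Fin.castLE (by omega))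
    have hcst : Function.Injective cst := (Fin.castLE_injective _).sumMap (Fin.castLE_injective _)
    let ext₀ : (Fin j ⊕ Fin j → F) →ₗ[F] (Fin w ⊕ Fin w → F) := Function.ExtendByZero.linearMap F cst
    have hext : ∀ a x, ext₀ a (cst x) = a x := fun a x => hcst.extend_apply a 0 x
    have hext0 : ∀ a y, (¬ ∃ x, cst x = y) → ext₀ a y = 0 := fun a y hy => Function.extend_apply' _ _ _ hy
    have hinj : Function.Injective ext₀ := fun a b hab => funext fun x => by rw [← hext a x, hab, hext]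
    refine ⟨LinearMap.range (Φ.toLinearMap ∘ₗ ext₀), ?_, ?_, ?_⟩
    · rw [LinearMap.finrank_range_of_inj (f := Φ.toLinearMap ∘ₗ ext₀) (Φ.injective.comp hinj), Module.finrank_fintype_fun_eq_card,
        Fintype.card_sum, Fintype.card_fin]
      omega
    · rintro _ ⟨a, rfl⟩ hne
      have ha : a ≠ 0 := fun h => hne (by rw [h, map_zero])
      obtain ⟨x, hx⟩ := Function.ne_iff.1 ha
      have hq0 : q ≠ 0 := fun h => by rw [h] at hqodd; simp at hqodd
      refine ⟨_, LinearMap.mem_range_self _ (Pi.single x.swap 1), ?_⟩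
      simp only [LinearMap.comp_apply, LinearEquiv.coe_coe]
      rw [hΦ]
      have hsw : ∀ y, ext₀ (Pi.single x.swap 1) y = if y = cst x.swap then 1 else 0 := fun y => by
        by_cases hy : ∃ t, cst t = y
        · obtain ⟨t, rfl⟩ := hy
          rw [hext, Pi.single_apply]
          simp [hcst.eq_iff]
        · rw [hext0 _ _ hy, if_neg fun h => hy ⟨_, h.symm⟩]
      rcases x with x | x
      · have e : cst (Sum.swap (Sum.inl x)) = Sum.inr (Fin.castLE (by omega) x) := rfl
        rw [Finset.sum_eq_single (Fin.castLE (by omega) x) (fun b _ hb => by rw [hsw, hsw, e]; simp [hb, hq0]) (by simp)]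
        rw [hsw, hsw, e]
        simp only [if_true, one_pow, mul_one, reduceCtorEq, if_false, zero_pow hq0, mul_zero, add_zero]
        rw [show (Sum.inl (Fin.castLE (by omega) x) : Fin w ⊕ Fin w) = cst (Sum.inl x) from rfl, hext]
        exact hx
      · have e : cst (Sum.swap (Sum.inr x)) = Sum.inl (Fin.castLE (by omega) x) := rfl
        rw [Finset.sum_eq_single (Fin.castLE (by omega) x) (fun b _ hb => by rw [hsw, hsw, e]; simp [hb, hq0]) (by simp)]
        rw [hsw, hsw, e]
        simp only [if_true, one_pow, mul_one, reduceCtorEq, if_false, zero_pow hq0, mul_zero, zero_add]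
        rw [show (Sum.inr (Fin.castLE (by omega) x) : Fin w ⊕ Fin w) = cst (Sum.inr x) from rfl, hext]
        exact hx
    · rintro _ ⟨a, rfl⟩
      refine ⟨Sum.elim (fun i => s * a (Sum.inl i)) (fun i => -s * a (Sum.inr i)), ?_⟩
      simp only [LinearMap.comp_apply, LinearEquiv.coe_coe, hXΦ]
      congr 1
      funext y
      by_cases hy : ∃ t, cst t = y
      · obtain ⟨t, rfl⟩ := hy
        rw [hext]
        rcases t with t | t
        · show s * a (Sum.inl t) = s * ext₀ a (cst (Sum.inl t))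
          rw [hext]
        · show -s * a (Sum.inr t) = -s * ext₀ a (cst (Sum.inr t))
          rw [hext]
      · rw [hext0 _ _ hy]
        rcases y with y | y <;> simp [hext0 _ _ hy]

section Unipotent

variable {p : ℕ} [Fact p.Prime] [CharP F p]

/-- Every unipotent type occurs among the unitary matrices. -/
theorem exists_GU_profile (hq : Fintype.card F = q ^ 2) (μ : Multiset ℕ) (hμ : μ.sum = n) :
    ∃ x : GL (Fin n) F, IsU q (x : Matrix (Fin n) (Fin n) F) ∧ IsNilpotent (nilPart x) ∧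
      ∀ k, Module.finrank F (LinearMap.range (nilPart x ^ k)) = partProfile μ k := by
  obtain ⟨g, hg, hgp⟩ := exists_unip_of_parts (F := F) μ hμ
  have hnil : IsNilpotent ((g : Matrix (Fin n) (Fin n) F) - 1) := by
    obtain ⟨j, hj⟩ := hg
    refine ⟨j, ?_⟩
    rwa [nilPart_pow, ← Matrix.toLin'_apply', LinearEquiv.map_eq_zero_iff] at hj
  obtain ⟨x, hx⟩ := CfsgLib.UnitaryUnip.exists_GU_isConj hq g hnil
  obtain ⟨c, hc⟩ := isConj_iff.1 hx.symm
  have hprof : ∀ k, Module.finrank F (LinearMap.range (nilPart (x : GL (Fin n) F) ^ k)) = partProfile μ k :=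
    fun k => by rw [← hc, nilPart_conj]; exact hgp k
  refine ⟨x, UnitFix.isU_coe hq x.2, ⟨n, LinearMap.range_eq_bot.1 (Submodule.finrank_eq_zero.1 ?_)⟩, hprof⟩
  rw [hprof, partProfile_eq_zero fun a ha => hμ ▸ Multiset.le_sum_of_mem ha]

theorem unipotent (hq : Fintype.card F = q ^ 2) (hm : 1 ≤ m) (hmn : 2 * m < n) :
    All F q n m p ↔ ∀ μ : Multiset ℕ, (∀ a ∈ μ, 0 < a ∧ a ≤ p) → μ.sum = n → ∃ ν : Multiset ℕ, ν ≤ μ ∧ ν.sum = m := by
  classical
  have hu := UnitPow.isUnitaryForm_hermForm hq n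
  constructor
  · intro hall μ hμ hμn
    by_cases h1 : ∀ a ∈ μ, a ≤ 1
    · have hrep : μ = Multiset.replicate n 1 := by
        have h : μ = Multiset.replicate (Multiset.card μ) 1 :=
          Multiset.eq_replicate_card.2 fun a ha => le_antisymm (h1 a ha) (hμ a ha).1
        rw [h, Multiset.sum_replicate, smul_eq_mul, mul_one] at hμn
        rw [h, hμn]
      exact ⟨Multiset.replicate m 1, by rw [hrep]; exact (Multiset.replicate_le_replicate 1).2 (by omega), by simp⟩
    obtain ⟨x, hxu, hxn, hxp⟩ := exists_GU_profile hq μ hμn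
    have hxpow : x ^ p = 1 := by
      rw [pow_eq_one_iff_nilPart, ← LinearMap.range_eq_bot, ← Submodule.finrank_eq_zero, hxp,
        partProfile_eq_zero fun a ha => (hμ a ha).2]
    have hdet : (x : Matrix (Fin n) (Fin n) F).det = 1 := CfsgLib.UnitaryUnip.det_eq_one_of_unipotent (p := p) (by
      obtain ⟨j, hj⟩ := hxn
      refine ⟨j, ?_⟩
      rwa [nilPart_pow, ← Matrix.toLin'_apply', LinearEquiv.map_eq_zero_iff] at hj)
    obtain ⟨W, hWd, hW, hWX⟩ := hall _ hxu hdet
      ⟨1, by rw [one_smul, ← Units.val_pow_eq_pow_val, hxpow, Units.val_one]⟩ (fun z hz => h1 (by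
        have hn0 : 0 < n := by omega
        have hzp : z ^ p = 1 := by
          have := congrArg (fun M : Matrix (Fin n) (Fin n) F => M ⟨0, hn0⟩ ⟨0, hn0⟩)
            ((Units.val_pow_eq_pow_val x p).symm.trans (congrArg Units.val hxpow))
          simpa [hz, _root_.smul_pow] using this
        have hz1 : z = 1 := sub_eq_zero.1 (eq_zero_of_pow_eq_zero
          (show (z - 1) ^ p = 0 by rw [sub_pow_char, hzp, one_pow, sub_self]))
        rw [hz1, one_smul] at hz
        have h2 := hxp 1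
        rw [(nilPart_eq_zero_iff x).2 (Units.ext hz), pow_one, LinearMap.range_zero, finrank_bot] at h2
        exact partProfile_eq_zero_iff.1 h2.symm))
    have hinv : ∀ U : Submodule F (Fin n → F), (∀ v ∈ U, (x : Matrix (Fin n) (Fin n) F) *ᵥ v ∈ U) →
        U.map (nilPart x) ≤ U := fun U hU => by
      rintro _ ⟨v, hv, rfl⟩
      rw [nilPart, Matrix.mulVecLin_apply, Matrix.sub_mulVec, Matrix.one_mulVec]
      exact U.sub_mem (hU v hv) hv
    obtain ⟨ν, ν', hμν, hν, -⟩ := exists_sub_partition (nilPart x) (fun a ha => (hμ a ha).1)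
      (fun k => by rw [imDim_top, hxp]) (hinv W hWX) (hinv _ (UnitFix.perp_invariant hq hxu hWX))
      (UnitFix.perp_nondeg hq hW).1
    refine ⟨ν, hμν ▸ Multiset.le_add_right ν ν', ?_⟩
    have := hν 0
    rwa [partProfile_zero, imDim_zero, hWd] at this
  · rintro hpart X hXu hdet ⟨z, hz⟩ -
    have hzn := scalar_norm hq (by omega) hXu hz
    obtain ⟨t, rfl⟩ : ∃ t : F, t ^ p = z := by
      have hinj : Function.Injective fun t : F => t ^ p := fun a b hab => sub_eq_zero.1 (eq_zero_of_pow_eq_zero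
        (show (a - b) ^ p = 0 by rw [sub_pow_char]; exact sub_eq_zero.2 hab))
      exact (Finite.injective_iff_surjective.1 hinj) z
    have ht : t ^ (q + 1) = 1 := sub_eq_zero.1 (eq_zero_of_pow_eq_zero
      (show (t ^ (q + 1) - 1) ^ p = 0 by
        rw [sub_pow_char, one_pow, ← pow_mul, mul_comm, pow_mul, hzn, sub_self]))
    obtain ⟨hYu, hY, hXY⟩ := scale hXu hz ht rfl
    rw [← hXY]
    refine UnitFix.HasND.smul ?_ t
    obtain ⟨y, hy, hyY⟩ := hYu.gl hq
    rw [← hyY] at hY hYu ⊢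
    have hyp : nilPart y ^ p = 0 := (pow_eq_one_iff_nilPart y).1 (Units.ext (by push_cast; exact hY))
    obtain ⟨μ, hμ, hμp⟩ := exists_partition_of_convex p (imDim (nilPart y) ⊤)
      (imDim_convex (nilPart y) le_top) (fun k hk => by
        rw [imDim_top, pow_eq_zero_of_le hk hyp, LinearMap.range_zero, finrank_bot])
    have hμn : μ.sum = n := by
      have := hμp 0
      rwa [partProfile_zero, imDim_zero, finrank_top, Module.finrank_fin_fun] at this
    obtain ⟨ν, hν, hνm⟩ := hpart μ hμ hμn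
    obtain ⟨ν', rfl⟩ := Multiset.le_iff_exists_add.1 hν
    obtain ⟨k, rfl⟩ : ∃ k, n = m + k := ⟨n - m, by omega⟩
    rw [Multiset.sum_add, hνm] at hμn
    obtain ⟨x₁, hu₁, -, hp₁⟩ := exists_GU_profile hq ν hνm
    obtain ⟨x₂, hu₂, -, hp₂⟩ := exists_GU_profile hq ν' (show ν'.sum = k by omega)
    obtain ⟨M, hM, hMe⟩ := (UnitFix.reindex_blocks_isU hq hu₁ hu₂).gl hq
    have hrank : ∀ i, Module.finrank F (LinearMap.range (nilPart M ^ i)) = partProfile (ν + ν') i := fun i => by
      rw [nilPart_pow, hMe, ← CfsgLib.PrimeClasses.reindex_one (K := F) (a := m) (b := k),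
        show Matrix.reindex finSumFinEquiv finSumFinEquiv (Matrix.fromBlocks (x₁ : Matrix (Fin m) (Fin m) F) 0 0
            (x₂ : Matrix (Fin k) (Fin k) F)) - Matrix.reindex finSumFinEquiv finSumFinEquiv 1 =
          Matrix.reindex finSumFinEquiv finSumFinEquiv
            (Matrix.fromBlocks (x₁ : Matrix (Fin m) (Fin m) F) 0 0 (x₂ : Matrix (Fin k) (Fin k) F) - 1) from rfl,
        show Matrix.fromBlocks (x₁ : Matrix (Fin m) (Fin m) F) 0 0 (x₂ : Matrix (Fin k) (Fin k) F) - 1 =
          Matrix.fromBlocks ((x₁ : Matrix (Fin m) (Fin m) F) - 1) 0 0 ((x₂ : Matrix (Fin k) (Fin k) F) - 1) by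
            ext (a | a) (b | b) <;> simp [Matrix.one_apply],
        CfsgLib.PrimeClasses.reindex_pow,
        CfsgLib.PrimeClasses.fromBlocks_pow, partProfile_add, ← hp₁, ← hp₂, nilPart_pow, nilPart_pow]
      show (Matrix.reindex _ _ _).rank = Matrix.rank _ + Matrix.rank _
      rw [Matrix.rank_reindex, CfsgLib.PrimeClasses.rank_fromBlocks_diag]
    have hMnil : IsNilpotent (nilPart M) := ⟨p, LinearMap.range_eq_bot.1 (Submodule.finrank_eq_zero.1 (by
      rw [hrank, partProfile_eq_zero fun a ha => (hμ a ha).2]))⟩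
    have hconj : IsConj M y := isConj_of_profile hMnil ⟨p, hyp⟩ fun i => by
      rw [hrank, hμp i, imDim_top]
    obtain ⟨c, hc⟩ := isConj_iff.1 hconj
    obtain ⟨g, hg, hgy⟩ := UnitFix.exists_GU_conj hq (UnitFix.isU_coe hq hM) hYu ⟨c, by
      rw [← hc, Units.val_mul, Units.val_mul, Matrix.mul_assoc, Units.inv_mul, Matrix.mul_one]⟩
    rw [hgy, hMe]
    exact (UnitFix.hasND_blocks hq _ _).conj hg

theorem parts_two (hm : 1 ≤ m) (hmn : 2 * m < n) :
    (∀ μ : Multiset ℕ, (∀ a ∈ μ, 0 < a ∧ a ≤ 2) → μ.sum = n → ∃ ν : Multiset ℕ, ν ≤ μ ∧ ν.sum = m) ↔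
      (Odd n ∨ Even m) := by
  constructor
  · intro h
    rcases Nat.even_or_odd n with hn | hn
    · obtain ⟨w, hw⟩ := hn
      obtain ⟨ν, hν, hs⟩ := h (Multiset.replicate w 2) (fun a ha => by
        rw [Multiset.eq_of_mem_replicate ha]; omega) (by simp; omega)
      obtain ⟨l, -, rfl⟩ := Multiset.le_replicate_iff.1 hν
      refine Or.inr ⟨l, ?_⟩
      rw [← hs, Multiset.sum_replicate, smul_eq_mul]
      ring
    · exact Or.inl hn
  · intro hor μ hμ hs
    have hsplit : μ = Multiset.replicate (μ.count 2) 2 + Multiset.replicate (μ.count 1) 1 := by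
      refine Multiset.ext.2 fun a => ?_
      rw [Multiset.count_add, Multiset.count_replicate, Multiset.count_replicate]
      by_cases ha : a ∈ μ
      · have := hμ a ha
        obtain rfl | rfl : a = 1 ∨ a = 2 := by omega
        · simp
        · simp
      · rw [Multiset.count_eq_zero_of_notMem ha]
        by_cases h2 : (2 : ℕ) = a
        · subst h2; simp [Multiset.count_eq_zero_of_notMem ha]
        · by_cases h1 : (1 : ℕ) = a
          · subst h1; simp [Multiset.count_eq_zero_of_notMem ha]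
          · simp [h1, h2]
    set A := μ.count 2
    set B := μ.count 1
    have hs' : n = 2 * A + B := by
      rw [← hs, hsplit]
      simp [mul_comm]
    obtain ⟨x, y, hx, hy, hxy⟩ : ∃ x y, x ≤ A ∧ y ≤ B ∧ 2 * x + y = m := by
      have hpar : m % 2 = 0 ∨ n % 2 = 1 := by
        rcases hor with h | h
        · exact Or.inr (Nat.odd_iff.1 h)
        · exact Or.inl (Nat.even_iff.1 h)
      exact ⟨min A (m / 2), m - 2 * min A (m / 2), min_le_left _ _, by omega, by omega⟩
    refine ⟨Multiset.replicate x 2 + Multiset.replicate y 1, ?_, by simp; omega⟩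
    rw [hsplit]
    exact add_le_add ((Multiset.replicate_le_replicate 2).2 hx) ((Multiset.replicate_le_replicate 1).2 hy)

end Unipotent

/-- Elements of prime order of PSU_n(q) with no fixed nondegenerate `m`-space. Here `T = PSU_n(q)` (`n ≥ 3`, `(n, q) ≠ (3, 2)`), realised through the matrices of determinant 1 over the field `F` with `q²` elements preserving the Hermitian form `h(u, v) = Σ u_i v_i^q`; an element of `T` of prime order `r` is such a matrix `x` with `x^r` scalar and `x` not scalar. For `r ≠ p` let `i` be the multiplicative order of `q` modulo `r`, `b = i/2` for `i` even and `b = i` for `i` odd, `c = i, i/2, 2i` according as `i ≡ 0, 2 (mod 4)` or `i` odd, and write `k = n mod c`, `ℓ = m mod b`, `ℓ' = m mod c`, `n' = ⌊n/b⌋`, `m' = ⌊m/b⌋`, `s = (r−1)/b`; `(a)_r` is the `r`-part of `a`. Let `1 ≤ m < n/2` and let `r` be a prime dividing the number of nondegenerate `m`-spaces. Then every element of `T` of order `r` fixes a nondegenerate `m`-space if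 and only if one of: (i) `r = p > 2` and every partition of `n` into parts of size at most `p` contains (as a sub-multiset) a partition of `m`; (ii) `r = p = 2` and (`n` is odd or `m` is even); (iii) `r = 2 ≠ p` and (`n` is odd, or `m` is even, or `(q+1)_2 ≥ (n)_2` and `q ≡ 3 (mod 4)`); (iv) `r ≠ p`, `r > 2`, and either `i ≠ 2`, `c ≤ m` and `k ≥ ℓ'`, or `i = 2` and (`r ∣ m` or `(q+1)_r ≥ (n)_r`). -/
theorem result {F : Type*} [Field F] [Fintype F] {p : ℕ} [Fact p.Prime] [CharP F p] {q : ℕ} (hq : Fintype.card F = q ^ 2)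
    (n m : ℕ) (hn : 3 ≤ n) (hT : (n, q) ≠ (3, 2)) (hm : 1 ≤ m) (hmn : 2 * m < n)
    (r : ℕ) [Fact r.Prime]
    (hrΩ : r ∣ Nat.card {W : Submodule F (Fin n → F) // Module.finrank F ↥W = m ∧ (∀ u ∈ W, u ≠ 0 → ∃ v ∈ W, Cfsg.hermForm n F q u v ≠ 0)})
    (i b c : ℕ) (hi : i = orderOf (q : ZMod r)) (hb : b = if Even i then i / 2 else i)
    (hc : c = if i % 4 = 0 then i else if i % 4 = 2 then i / 2 else 2 * i) :
    (∀ x : Matrix.SpecialLinearGroup (Fin n) F, x ∈ Cfsg.SU n F q →
      (∃ z : F, ((x ^ r : Matrix.SpecialLinearGroup (Fin n) F) : Matrix (Fin n) (Fin n) F) = z • (1 : Matrix (Fin n) (Fin n) F)) →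
      (∀ z : F, (x : Matrix (Fin n) (Fin n) F) ≠ z • (1 : Matrix (Fin n) (Fin n) F)) →
      ∃ W : Submodule F (Fin n → F), Module.finrank F ↥W = m ∧ (∀ u ∈ W, u ≠ 0 → ∃ v ∈ W, Cfsg.hermForm n F q u v ≠ 0) ∧
        W.map (Matrix.toLin' (x : Matrix (Fin n) (Fin n) F)) ≤ W) ↔
    ((r = p ∧ 2 < p ∧ (∀ μ : Multiset ℕ, (∀ a ∈ μ, 0 < a ∧ a ≤ p) → μ.sum = n → ∃ ν : Multiset ℕ, ν ≤ μ ∧ ν.sum = m)) ∨
     (r = p ∧ p = 2 ∧ (Odd n ∨ Even m)) ∨
     (r = 2 ∧ p ≠ 2 ∧ (Odd n ∨ Even m ∨ (padicValNat 2 n ≤ padicValNat 2 (q + 1) ∧ q % 4 = 3))) ∨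
     (r ≠ p ∧ 2 < r ∧ ((i ≠ 2 ∧ c ≤ m ∧ m % c ≤ n % c) ∨ (i = 2 ∧ (r ∣ m ∨ padicValNat r n ≤ padicValNat r (q + 1)))))) := by
  classical
  rw [all_iff hq]
  have hrprime : r.Prime := Fact.out
  have hpprime : p.Prime := Fact.out
  by_cases hrp : r = p
  · subst hrp
    rw [unipotent hq hm hmn]
    by_cases hr2 : r = 2
    · subst hr2
      rw [parts_two hm hmn]
      constructor
      · exact fun h => Or.inr (Or.inl ⟨rfl, rfl, h⟩)
      · rintro (⟨-, h, -⟩ | ⟨-, -, h⟩ | ⟨-, h, -⟩ | ⟨h, -⟩)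
        · omega
        · exact h
        · exact absurd rfl h
        · exact absurd rfl h
    · constructor
      · exact fun h => Or.inl ⟨rfl, by have := hrprime.two_le; omega, h⟩
      · rintro (⟨-, -, h⟩ | ⟨-, h, -⟩ | ⟨h, -⟩ | ⟨h, -⟩)
        · exact h
        · exact absurd h hr2
        · exact absurd h hr2
        · exact absurd rfl h
  have hrK : (r : F) ≠ 0 := CfsgLib.OrderR.cast_ne_zero (F := F) (p := p) hrp
  by_cases hr2 : r = 2
  · subst hr2
    rw [two_case hq (by exact_mod_cast hrK) hn hmn]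
    constructor
    · exact fun h => Or.inr (Or.inr (Or.inl ⟨rfl, Ne.symm hrp, h⟩))
    · rintro (⟨h, -⟩ | ⟨h, -⟩ | ⟨-, -, h⟩ | ⟨-, h, -⟩)
      · exact absurd h hrp
      · exact absurd h hrp
      · exact h
      · omega
  have hr3 : 2 < r := by have := hrprime.two_le; omega
  by_cases hd : r ∣ q + 1
  · have hqm : (q : ZMod r) = -1 := by
      rw [← ZMod.natCast_eq_zero_iff, Nat.cast_add, Nat.cast_one] at hd
      exact eq_neg_of_add_eq_zero_left hd
    have hne : (-1 : ZMod r) ≠ 1 := fun h => by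
      have h20 : ((2 : ℕ) : ZMod r) = 0 := by push_cast; linear_combination -h
      exact hr2 ((Nat.prime_dvd_prime_iff_eq hrprime Nat.prime_two).1 ((ZMod.natCast_eq_zero_iff _ _).1 h20))
    have hi2 : i = 2 := by
      rw [hi, hqm]
      exact orderOf_eq_prime (by rw [neg_one_sq]) hne
    rw [semisimple_two hq hr2 hd hn hmn]
    constructor
    · exact fun h => Or.inr (Or.inr (Or.inr ⟨hrp, hr3, Or.inr ⟨hi2, h⟩⟩))
    · rintro (⟨h, -⟩ | ⟨h, -⟩ | ⟨h, -⟩ | ⟨-, -, ⟨h, -⟩ | ⟨-, h⟩⟩)
      · exact absurd h hrp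
      · exact absurd h hrp
      · exact absurd h hr2
      · exact absurd hi2 h
      · exact h
  · have hrq : ¬ r ∣ q := fun h => by
      obtain ⟨f, -, hf⟩ := FiniteField.card F p
      exact hrp ((Nat.prime_dvd_prime_iff_eq hrprime hpprime).1
        (hrprime.dvd_of_dvd_pow (n := (f : ℕ)) (hf ▸ hq ▸ dvd_pow h two_ne_zero)))
    have hj := UnitFix.of_dvd_countND hq hrq (show m ≤ n by omega) hrΩ
    rw [semisimple hq hr2 hrK hd hm hmn hj i b c hi hb hc]
    have hi2 : i ≠ 2 := fun h2 => by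
      refine hd ?_
      rw [← ZMod.natCast_eq_zero_iff, Nat.cast_add, Nat.cast_one]
      have h1 : (q : ZMod r) * q = 1 := by rw [← pow_two, ← h2, hi, pow_orderOf_eq_one]
      rcases mul_self_eq_one_iff.1 h1 with h3 | h3
      · rw [hi, h3, orderOf_one] at h2; omega
      · rw [h3, neg_add_cancel]
    constructor
    · exact fun h => Or.inr (Or.inr (Or.inr ⟨hrp, hr3, Or.inl ⟨hi2, h⟩⟩))
    · rintro (⟨h, -⟩ | ⟨h, -⟩ | ⟨h, -⟩ | ⟨-, -, ⟨-, h⟩ | ⟨h, -⟩⟩)
      · exact absurd h hrp
      · exact absurd h hrp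
      · exact absurd h hr2
      · exact h
      · exact absurd h hi2

end Cfsg.Agent.S5954
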