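import Cfsg.Statements.S5960
import Cfsg.Agent.Lib.Sp.Decomp
-- import your own Cfsg.Agent.* helpers here

set_option autoImplicit false
open scoped MatrixGroups
open Cfsg

namespace Cfsg.Agent.S5960

open Module Matrix
open LinearMap (BilinForm)

section planes

variable {F : Type*} [Field F] {V : Type*} [AddCommGroup V] [Module F V] [FiniteDimensional F V]

/-- The permutation of the planes induced by an involution. -/
def flip {f s : ℕ} : Fin f ⊕ Fin s × Bool → Fin f ⊕ Fin s × Bool :=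
  Sum.map id (fun p => (p.1, !p.2))

lemma flip_flip {f s : ℕ} (k : Fin f ⊕ Fin s × Bool) : flip (flip k) = k := by
  rcases k with i | ⟨i, b⟩ <;> simp [flip]

/-- The Gram matrix of a hyperbolic pair. -/
def gram (a b : Bool) : F := if a then (if b then 0 else -1) else (if b then 1 else 0)

/-- A system of hyperbolic pairs spanning mutually orthogonal planes permuted by `T`. -/
structure Planes (B : BilinForm F V) (T : V →ₗ[F] V) (U : Submodule F V) where
  f : ℕ
  s : ℕ
  e : (Fin f ⊕ Fin s × Bool) → Bool → V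
  mem : ∀ k b, e k b ∈ U
  gram_eq : ∀ k l a b, B (e k a) (e l b) = if k = l then gram a b else 0
  map : ∀ k b, T (e k b) ∈ Submodule.span F {e (flip k) false, e (flip k) true}
  dim : finrank F U = 2 * (f + 2 * s)

variable (B : BilinForm F V) (hA : B.IsAlt)
include hA

/-- The complement of a hyperbolic pair inside a nondegenerate subspace. -/
lemma split (U : Submodule F V) (hU : ∀ x ∈ U, (∀ y ∈ U, B x y = 0) → x = 0) (v w : V) (hv : v ∈ U) (hw : w ∈ U)
    (h : B v w = 1) :
    (∀ x ∈ U ⊓ LinearMap.ker (B v) ⊓ LinearMap.ker (B w),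
      (∀ y ∈ U ⊓ LinearMap.ker (B v) ⊓ LinearMap.ker (B w), B x y = 0) → x = 0) ∧
    finrank F U = finrank F ↥(U ⊓ LinearMap.ker (B v) ⊓ LinearMap.ker (B w)) + 2 := by
  set U' := U ⊓ LinearMap.ker (B v) ⊓ LinearMap.ker (B w) with hU'
  have hflip : ∀ x y, B y x = -B x y := CfsgLib.Sp.alt_flip hA
  have hwv : B w v = -1 := by rw [hflip v w, h]
  refine ⟨fun x hx hall => hU x (Submodule.mem_inf.1 (Submodule.mem_inf.1 hx).1).1 fun y hy => ?_, ?_⟩
  · obtain ⟨⟨-, hxv⟩, hxw⟩ : (x ∈ U ∧ B v x = 0) ∧ B w x = 0 := by simpa [hU'] using hx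
    have hy' : y - B y w • v + B y v • w ∈ U' := by
      refine Submodule.mem_inf.2 ⟨Submodule.mem_inf.2 ⟨?_, ?_⟩, ?_⟩
      · exact U.add_mem (U.sub_mem hy (U.smul_mem _ hv)) (U.smul_mem _ hw)
      · simp [hA.self_eq_zero v, h, hflip y v]
      · simp [hA.self_eq_zero w, hwv, hflip y w]
    have := hall _ hy'
    simp [hflip v x, hxv, hflip w x, hxw] at this
    exact this
  · let g : U →ₗ[F] F × F := ((B v).prod (B w)).comp U.subtype
    have hg : Function.Surjective g := fun p => ⟨⟨(-p.2) • v + p.1 • w, U.add_mem (U.smul_mem _ hv) (U.smul_mem _ hw)⟩, by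
      simp [g, hA.self_eq_zero v, hA.self_eq_zero w, h, hwv]⟩
    have hker : LinearMap.ker g = U'.comap U.subtype := by
      ext x
      simp [g, hU', Prod.ext_iff]
    have hd := LinearMap.finrank_range_add_finrank_ker g
    have e : finrank F (LinearMap.ker g) = finrank F U' := by
      rw [hker]
      exact (Submodule.comapSubtypeEquivOfLe (inf_le_left.trans inf_le_left : U' ≤ U)).finrank_eq
    rw [LinearMap.range_eq_top.2 hg, finrank_top, Module.finrank_prod, Module.finrank_self, e] at hd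
    omega

variable (T : V →ₗ[F] V) (z : F) (hTB : ∀ v w, B (T v) (T w) = B v w) (hT : ∀ v, T (T v) = z • v) (hz : z * z = 1)
include hTB hT hz

/-- An invariant plane, or a plane orthogonal to its image. -/
lemma exists_plane (U : Submodule F V) (hTU : ∀ x ∈ U, T x ∈ U) (hU : ∀ x ∈ U, (∀ y ∈ U, B x y = 0) → x = 0)
    (hne : U ≠ ⊥) :
    ∃ v w, v ∈ U ∧ w ∈ U ∧ B v w = 1 ∧
      ((T v ∈ Submodule.span F {v, w} ∧ T w ∈ Submodule.span F {v, w}) ∨
       (B v (T v) = 0 ∧ B v (T w) = 0 ∧ B w (T v) = 0 ∧ B w (T w) = 0)) := by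
  have hz0 : z ≠ 0 := left_ne_zero_of_mul (a := z) (b := z) (by rw [hz]; exact one_ne_zero)
  have hflip : ∀ x y, B y x = -B x y := CfsgLib.Sp.alt_flip hA
  obtain ⟨x₀, hx₀, hx₀0⟩ := U.exists_mem_ne_zero_of_ne_bot hne
  by_cases hcase : ∃ v ∈ U, B v (T v) ≠ 0
  · obtain ⟨v, hv, hvT⟩ := hcase
    refine ⟨v, (B v (T v))⁻¹ • T v, hv, U.smul_mem _ (hTU v hv), by simp [hvT], Or.inl ⟨?_, ?_⟩⟩
    · exact Submodule.mem_span_pair.2 ⟨0, B v (T v), by rw [zero_smul, zero_add, smul_inv_smul₀ hvT]⟩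
    · exact Submodule.mem_span_pair.2 ⟨(B v (T v))⁻¹ * z, 0, by rw [map_smul, hT, zero_smul, add_zero, smul_smul]⟩
  push Not at hcase
  have hswap : ∀ v ∈ U, ∀ w ∈ U, B (T v) w = B v (T w) := by
    intro v hv w hw
    have h := hcase (v + w) (U.add_mem hv hw)
    simp only [map_add, LinearMap.add_apply, hcase v hv, hcase w hw] at h
    rw [hflip w (T v)]
    linear_combination -h
  have hz1 : z = 1 := by
    by_contra hne1
    refine hx₀0 (hU x₀ hx₀ fun y hy => ?_)
    have e : ∀ a ∈ U, ∀ b ∈ U, B a (T b) = z * B a (T b) := by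
      intro a ha b hb
      conv_lhs => rw [← hswap a ha b hb, ← hTB (T a) b, hT, map_smul, LinearMap.smul_apply, smul_eq_mul]
    have := e x₀ hx₀ (T y) (hTU y hy)
    rw [hT, map_smul, smul_eq_mul] at this
    have h' : (1 - z) * z * B x₀ y = 0 := by linear_combination this
    simpa [sub_ne_zero.2 (Ne.symm hne1), hz0] using h'
  subst hz1
  simp only [one_smul] at hT
  by_cases h2 : (2 : F) = 0
  · by_cases hfix : ∀ x ∈ U, T x = x
    · obtain ⟨y, hy, hxy⟩ : ∃ y ∈ U, B x₀ y ≠ 0 := by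
        by_contra h
        push Not at h
        exact hx₀0 (hU x₀ hx₀ h)
      refine ⟨x₀, (B x₀ y)⁻¹ • y, hx₀, U.smul_mem _ hy, by simp [hxy], Or.inl ⟨?_, ?_⟩⟩
      · rw [hfix x₀ hx₀]; exact Submodule.subset_span (by simp)
      · rw [map_smul, hfix y hy]; exact Submodule.subset_span (by simp)
    push Not at hfix
    obtain ⟨v, hv, hne'⟩ := hfix
    obtain ⟨x, hx, hxu⟩ : ∃ x ∈ U, B (T v) x = 1 := by
      obtain ⟨x, hx, hxu⟩ : ∃ x ∈ U, B (T v) x ≠ 0 := by
        by_contra h
        push Not at h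
        have h0 : T v = 0 := hU _ (hTU v hv) h
        apply hne'
        rw [h0]
        have := hT v
        rw [h0, map_zero] at this
        exact this
      exact ⟨(B (T v) x)⁻¹ • x, U.smul_mem _ hx, by simp [hxu]⟩
    set v' := v - B v x • T v with hv'
    have hv'0 : v' ≠ 0 := by
      intro h0
      rw [hv', sub_eq_zero] at h0
      set c := B v x
      have e := hT v
      have hTv : T v = c • v := by
        conv_lhs => rw [h0]
        rw [map_smul, hT]
      rw [hTv, map_smul, hTv, smul_smul] at e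
      have hv0 : v ≠ 0 := fun h => hne' (by rw [h, map_zero])
      have hc : c * c = 1 := smul_left_injective F hv0 (by simpa using e)
      refine hne' ?_
      rw [hTv]
      rcases mul_self_eq_one_iff.1 hc with h | h
      · rw [h, one_smul]
      · rw [h, show (-1 : F) = 1 by linear_combination (-1 : F) * h2, one_smul]
    obtain ⟨y, hy, hyv⟩ : ∃ y ∈ U, B v' y ≠ 0 := by
      by_contra h
      push Not at h
      exact hv'0 (hU _ (U.sub_mem hv (U.smul_mem _ (hTU v hv))) h)
    set w := (B v' y)⁻¹ • (y - B (T v) y • x) with hw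
    have hwU : w ∈ U := U.smul_mem _ (U.sub_mem hy (U.smul_mem _ hx))
    have hw1 : B v w = 1 := by
      have e : B v (y - B (T v) y • x) = B v' y := by
        simp [hv']; ring
      rw [hw, map_smul, smul_eq_mul, e, inv_mul_cancel₀ hyv]
    have hw2 : B (T v) w = 0 := by
      rw [hw, map_smul, map_sub (B (T v)), map_smul (B (T v)), hxu, smul_eq_mul, smul_eq_mul, mul_one, sub_self, mul_zero]
    refine ⟨v, w, hv, hwU, hw1, Or.inr ⟨hcase v hv, ?_, ?_, hcase w hwU⟩⟩
    · rw [← hswap v hv w hwU, hw2]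
    · rw [hflip (T v) w, hw2, neg_zero]
  · obtain ⟨u, hu, hu0, lam, hlam, hTu⟩ : ∃ u ∈ U, u ≠ 0 ∧ ∃ lam : F, lam * lam = 1 ∧ T u = lam • u := by
      by_cases h : x₀ + T x₀ = 0
      · exact ⟨x₀, hx₀, hx₀0, -1, by norm_num, by rw [neg_smul, one_smul, eq_neg_iff_add_eq_zero, add_comm, h]⟩
      · exact ⟨x₀ + T x₀, U.add_mem hx₀ (hTU _ hx₀), h, 1, by norm_num, by rw [map_add, hT, one_smul, add_comm]⟩
    obtain ⟨y, hy, huy⟩ : ∃ y ∈ U, B u y ≠ 0 := by
      by_contra h
      push Not at h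
      exact hu0 (hU u hu h)
    set y' := y + lam • T y with hy'
    have hTy : T y' = lam • y' := by
      rw [hy', map_add, map_smul, hT, smul_add, smul_smul, hlam, one_smul, add_comm]
    have hBy : B u y' = 2 * B u y := by
      have e : B u (T y) = lam * B u y := by
        rw [← hTB u (T y), hT, hTu, map_smul, LinearMap.smul_apply, smul_eq_mul]
      rw [hy', map_add, map_smul, e, smul_eq_mul, ← mul_assoc, hlam, one_mul, two_mul]
    refine ⟨u, (B u y')⁻¹ • y', hu, U.smul_mem _ (U.add_mem hy (U.smul_mem _ (hTU y hy))),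
      by rw [map_smul, smul_eq_mul, inv_mul_cancel₀ (by rw [hBy]; exact mul_ne_zero h2 huy)], Or.inl ⟨?_, ?_⟩⟩
    · rw [hTu]; exact Submodule.smul_mem _ _ (Submodule.subset_span (by simp))
    · rw [map_smul, hTy, smul_comm]; exact Submodule.smul_mem _ _ (Submodule.subset_span (by simp))

lemma exists_planes (m : ℕ) : ∀ U : Submodule F V, finrank F U = m → (∀ x ∈ U, T x ∈ U) →
    (∀ x ∈ U, (∀ y ∈ U, B x y = 0) → x = 0) → Nonempty (Planes B T U) := by
  have hz0 : z ≠ 0 := left_ne_zero_of_mul (a := z) (b := z) (by rw [hz]; exact one_ne_zero)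
  have hflip : ∀ x y, B y x = -B x y := CfsgLib.Sp.alt_flip hA
  have hgram : ∀ v w, B v w = 1 → ∀ a b : Bool, B (cond a w v) (cond b w v) = gram a b := by
    intro v w h a b
    cases a <;> cases b <;> simp [gram, hA.self_eq_zero v, hA.self_eq_zero w, h, hflip v w]
  induction m using Nat.strong_induction_on with
  | _ m ih =>
  intro U hm hTU hU
  by_cases hne : U = ⊥
  · exact ⟨{ f := 0, s := 0, e := fun k => (IsEmpty.false k).elim, mem := fun k => (IsEmpty.false k).elim,
             gram_eq := fun k => (IsEmpty.false k).elim, map := fun k => (IsEmpty.false k).elim,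
             dim := by rw [hne, finrank_bot] }⟩
  obtain ⟨v, w, hv, hw, hvw, hcases⟩ := exists_plane B hA T z hTB hT hz U hTU hU hne
  obtain ⟨hU', hd'⟩ := split B hA U hU v w hv hw hvw
  set U' := U ⊓ LinearMap.ker (B v) ⊓ LinearMap.ker (B w) with hU'def
  have mem' : ∀ x, x ∈ U' ↔ (x ∈ U ∧ B v x = 0) ∧ B w x = 0 := fun x => by simp [hU'def]
  have pull : ∀ a x, B (T a) x = 0 → B a (T x) = 0 := by
    intro a x h
    have := hTB (T a) x
    rw [hT, map_smul, LinearMap.smul_apply, smul_eq_mul, h] at this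
    exact (mul_eq_zero.1 this).resolve_left hz0
  rcases hcases with ⟨hTv, hTw⟩ | ⟨h1, h2, h3, h4⟩
  · have hTU' : ∀ x ∈ U', T x ∈ U' := by
      intro x hx
      obtain ⟨⟨hxU, hxv⟩, hxw⟩ := (mem' x).1 hx
      refine (mem' _).2 ⟨⟨hTU x hxU, pull v x ?_⟩, pull w x ?_⟩
      · obtain ⟨a, b, hab⟩ := Submodule.mem_span_pair.1 hTv
        simp [← hab, hxv, hxw]
      · obtain ⟨a, b, hab⟩ := Submodule.mem_span_pair.1 hTw
        simp [← hab, hxv, hxw]
    obtain ⟨P⟩ := ih (finrank F U') (by omega) U' rfl hTU' hU'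
    have hop : ∀ k b, B v (P.e k b) = 0 ∧ B w (P.e k b) = 0 := fun k b =>
      ⟨((mem' _).1 (P.mem k b)).1.2, ((mem' _).1 (P.mem k b)).2⟩
    let e : (Fin (P.f + 1) ⊕ Fin P.s × Bool) → Bool → V :=
      Sum.elim (Fin.cons (α := fun _ => Bool → V) (fun b => cond b w v) (fun i => P.e (.inl i))) (fun p => P.e (.inr p))
    have hsucc : ∀ k : Fin P.f ⊕ Fin P.s × Bool, e (Sum.map Fin.succ id k) = P.e k := by
      rintro (i | p) <;> simp [e]
    have hk : ∀ k : Fin (P.f + 1) ⊕ Fin P.s × Bool, k = .inl 0 ∨ ∃ k', k = Sum.map Fin.succ id k' := by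
      rintro (i | p)
      · rcases Fin.eq_zero_or_eq_succ i with rfl | ⟨i', rfl⟩
        · exact Or.inl rfl
        · exact Or.inr ⟨.inl i', rfl⟩
      · exact Or.inr ⟨.inr p, rfl⟩
    have hne0 : ∀ k : Fin P.f ⊕ Fin P.s × Bool, (Sum.inl 0 : Fin (P.f + 1) ⊕ Fin P.s × Bool) ≠ Sum.map Fin.succ id k := by
      rintro (i | p) h
      · exact Fin.succ_ne_zero i (Sum.inl.inj h).symm
      · simp at h
    have he0 : ∀ b, e (.inl 0) b = cond b w v := fun b => by simp [e]
    have hor : ∀ a k b, B (e (.inl 0) a) (P.e k b) = 0 := fun a k b => by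
      rw [he0]; cases a <;> simp [(hop k b).1, (hop k b).2]
    refine ⟨{ f := P.f + 1, s := P.s, e := e, mem := fun k b => ?_, gram_eq := fun k l a b => ?_,
              map := fun k b => ?_, dim := by have := P.dim; omega }⟩
    · rcases hk k with rfl | ⟨k', rfl⟩
      · rw [he0]; cases b <;> assumption
      · rw [hsucc]; exact ((mem' _).1 (P.mem k' b)).1.1
    · rcases hk k with rfl | ⟨k', rfl⟩ <;> rcases hk l with rfl | ⟨l', rfl⟩
      · rw [he0, he0, if_pos rfl]; exact hgram v w hvw a b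
      · rw [if_neg (hne0 l'), hsucc]; exact hor a l' b
      · rw [if_neg (hne0 k').symm, hsucc, hflip, hor b k' a, neg_zero]
      · rw [hsucc, hsucc, P.gram_eq]
        exact if_congr ((Sum.map_injective.2 ⟨Fin.succ_injective _, Function.injective_id⟩).eq_iff).symm rfl rfl
    · rcases hk k with rfl | ⟨k', rfl⟩
      · rw [show flip (Sum.inl 0 : Fin (P.f + 1) ⊕ Fin P.s × Bool) = Sum.inl 0 from rfl, he0, he0, he0]
        cases b
        · exact hTv
        · exact hTw
      · rw [show flip (Sum.map Fin.succ id k') = Sum.map Fin.succ id (flip k') by rcases k' with i | p <;> rfl,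
          hsucc, hsucc]
        exact P.map k' b
  · -- a plane and its image
    have hv' : T v ∈ U' := (mem' _).2 ⟨⟨hTU v hv, h1⟩, h3⟩
    have hw' : T w ∈ U' := (mem' _).2 ⟨⟨hTU w hw, h2⟩, h4⟩
    obtain ⟨hU'', hd''⟩ := split B hA U' hU' (T v) (T w) hv' hw' ((hTB v w).trans hvw)
    set U'' := U' ⊓ LinearMap.ker (B (T v)) ⊓ LinearMap.ker (B (T w)) with hU''def
    have mem'' : ∀ x, x ∈ U'' ↔ (x ∈ U' ∧ B (T v) x = 0) ∧ B (T w) x = 0 := fun x => by simp [hU''def]
    have hTU'' : ∀ x ∈ U'', T x ∈ U'' := by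
      intro x hx
      obtain ⟨⟨hxU, hx1⟩, hx2⟩ := (mem'' x).1 hx
      obtain ⟨⟨hxU, hxv⟩, hxw⟩ := (mem' x).1 hxU
      refine (mem'' _).2 ⟨⟨(mem' _).2 ⟨⟨hTU x hxU, pull v x hx1⟩, pull w x hx2⟩, ?_⟩, ?_⟩
      · rw [hTB, hxv]
      · rw [hTB, hxw]
    obtain ⟨P⟩ := ih (finrank F U'') (by omega) U'' rfl hTU'' hU''
    have hop : ∀ k b, (B v (P.e k b) = 0 ∧ B w (P.e k b) = 0) ∧ B (T v) (P.e k b) = 0 ∧ B (T w) (P.e k b) = 0 :=
      fun k b => by
        obtain ⟨⟨hU1, e1⟩, e2⟩ := (mem'' _).1 (P.mem k b)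
        exact ⟨⟨((mem' _).1 hU1).1.2, ((mem' _).1 hU1).2⟩, e1, e2⟩
    let pr : Bool → Bool → V := fun c b => cond c (T (cond b w v)) (cond b w v)
    let e : (Fin P.f ⊕ Fin (P.s + 1) × Bool) → Bool → V :=
      Sum.elim (fun i => P.e (.inl i)) (fun p => Fin.cons (α := fun _ => Bool → V) (pr p.2) (fun i => P.e (.inr (i, p.2))) p.1)
    let ι : Fin P.f ⊕ Fin P.s × Bool → Fin P.f ⊕ Fin (P.s + 1) × Bool := Sum.map id (Prod.map Fin.succ id)
    have hsucc : ∀ k, e (ι k) = P.e k := by
      rintro (i | ⟨i, c⟩) <;> simp [e, ι]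
    have hk : ∀ k : Fin P.f ⊕ Fin (P.s + 1) × Bool, (∃ c, k = .inr (0, c)) ∨ ∃ k', k = ι k' := by
      rintro (i | ⟨i, c⟩)
      · exact Or.inr ⟨.inl i, rfl⟩
      · rcases Fin.eq_zero_or_eq_succ i with rfl | ⟨i', rfl⟩
        · exact Or.inl ⟨c, rfl⟩
        · exact Or.inr ⟨.inr (i', c), rfl⟩
    have hne0 : ∀ c k, (Sum.inr (0, c) : Fin P.f ⊕ Fin (P.s + 1) × Bool) ≠ ι k := by
      rintro c (i | ⟨i, c'⟩) h
      · simp [ι] at h
      · simp [ι] at h
        exact Fin.succ_ne_zero i h.1.symm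
    have he0 : ∀ c b, e (.inr (0, c)) b = pr c b := fun c b => by simp [e]
    have hpp : ∀ a b, B (cond a w v) (T (cond b w v)) = 0 := fun a b => by cases a <;> cases b <;> assumption
    have hor : ∀ c a k b, B (e (.inr (0, c)) a) (P.e k b) = 0 := fun c a k b => by
      rw [he0]
      cases c <;> cases a <;> simp [pr, (hop k b).1.1, (hop k b).1.2, (hop k b).2.1, (hop k b).2.2]
    refine ⟨{ f := P.f, s := P.s + 1, e := e, mem := fun k b => ?_, gram_eq := fun k l a b => ?_,
              map := fun k b => ?_, dim := by have := P.dim; omega }⟩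
    · rcases hk k with ⟨c, rfl⟩ | ⟨k', rfl⟩
      · rw [he0]; cases c <;> cases b <;> first | exact hv | exact hw | exact hTU v hv | exact hTU w hw
      · rw [hsucc]; exact ((mem' _).1 ((mem'' _).1 (P.mem k' b)).1.1).1.1
    · rcases hk k with ⟨c, rfl⟩ | ⟨k', rfl⟩ <;> rcases hk l with ⟨c', rfl⟩ | ⟨l', rfl⟩
      · rw [he0, he0]
        cases c <;> cases c'
        · rw [if_pos rfl]; exact hgram v w hvw a b
        · rw [if_neg (by simp)]; exact hpp a b
        · rw [if_neg (by simp), hflip]; exact neg_eq_zero.2 (hpp b a)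
        · rw [if_pos rfl]; exact (hTB _ _).trans (hgram v w hvw a b)
      · rw [if_neg (hne0 c l'), hsucc]; exact hor c a l' b
      · rw [if_neg (hne0 c' k').symm, hsucc, hflip, hor c' b k' a, neg_zero]
      · rw [hsucc, hsucc, P.gram_eq]
        refine if_congr (Function.Injective.eq_iff ?_).symm rfl rfl
        exact Sum.map_injective.2 ⟨Function.injective_id, (Fin.succ_injective _).prodMap Function.injective_id⟩
    · rcases hk k with ⟨c, rfl⟩ | ⟨k', rfl⟩
      · rw [show flip (Sum.inr (0, c) : Fin P.f ⊕ Fin (P.s + 1) × Bool) = Sum.inr (0, !c) from rfl, he0, he0, he0]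
        cases c <;> cases b <;> simp only [pr, Bool.not_false, Bool.not_true, cond_true, cond_false, hT]
        · exact Submodule.subset_span (by simp)
        · exact Submodule.subset_span (by simp)
        · exact Submodule.smul_mem _ _ (Submodule.subset_span (by simp))
        · exact Submodule.smul_mem _ _ (Submodule.subset_span (by simp))
      · rw [show flip (ι k') = ι (flip k') by rcases k' with i | ⟨i, c⟩ <;> rfl, hsucc, hsucc]
        exact P.map k' b

end planes

/-- Planes, `f` of them fixed and `s` pairs swapped, can be grouped in `t` blocks of `h` planes each. -/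
lemma exists_blocks {h : ℕ} (hh : 0 < h) (t : ℕ) : ∀ f s : ℕ, f + 2 * s = t * h →
    ∃ (β : Fin f ⊕ Fin s × Bool → Fin t) (σ : Fin t → Fin t), (∀ j, σ (σ j) = j) ∧
      (∀ k, β (flip k) = σ (β k)) ∧ ∀ j, (∑ k, if β k = j then 1 else 0) = h := by
  induction t using Nat.strong_induction_on with
  | _ t ih =>
  intro f s hfs
  rcases Nat.eq_zero_or_pos t with rfl | ht
  · rw [Nat.zero_mul] at hfs
    obtain rfl : f = 0 := by omega
    obtain rfl : s = 0 := by omega
    exact ⟨fun k => (IsEmpty.false k).elim, id, fun j => j.elim0, fun k => (IsEmpty.false k).elim, fun j => j.elim0⟩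
  obtain ⟨t, rfl⟩ : ∃ t', t = t' + 1 := ⟨t - 1, by omega⟩
  rw [add_mul, one_mul] at hfs
  by_cases hu : h - 2 * min s (h / 2) ≤ f
  · obtain ⟨u, hu1, hu2, hu3⟩ : ∃ u, u ≤ s ∧ 2 * u ≤ h ∧ h - 2 * u ≤ f := ⟨_, min_le_left _ _, by omega, hu⟩
    clear hu
    obtain ⟨s', rfl⟩ : ∃ s', s = u + s' := ⟨s - u, by omega⟩
    obtain ⟨g, hg⟩ : ∃ g, g = h - 2 * u := ⟨_, rfl⟩
    obtain ⟨f', rfl⟩ : ∃ f', f = g + f' := ⟨f - g, by omega⟩
    obtain ⟨β, σ, hσ, hβ, hcard⟩ := ih t (by omega) f' s' (by omega)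
    let β' : Fin (g + f') ⊕ Fin (u + s') × Bool → Fin (t + 1) :=
      Sum.elim (Fin.addCases (fun _ => 0) (fun i => (β (.inl i)).succ))
        (fun p => Fin.addCases (fun _ => 0) (fun i => (β (.inr (i, p.2))).succ) p.1)
    refine ⟨β', Fin.cases 0 (fun j => (σ j).succ), fun j => ?_, fun k => ?_, fun j => ?_⟩
    · refine Fin.cases ?_ (fun j => ?_) j <;> simp [hσ]
    · rcases k with i | ⟨i, b⟩
      · refine Fin.addCases (fun i => ?_) (fun i => ?_) i
        · simp [β', flip]
        · have := hβ (.inl i)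
          simp [flip] at this
          simp [β', flip, ← this]
      · refine Fin.addCases (fun i => ?_) (fun i => ?_) i
        · simp [β', flip]
        · have := hβ (.inr (i, b))
          simp [flip] at this
          simp [β', flip, ← this]
    · have n1 : ∀ j : Fin t, (1 : Fin (t + 1 + 1)) ≠ j.succ.succ := fun j => by simp [Fin.ext_iff]
      have n2 : ∀ j : Fin t, j.succ.succ ≠ (1 : Fin (t + 1 + 1)) := fun j => (n1 j).symm
      refine Fin.cases ?_ (fun j => ?_) j
      · simp [β', Fintype.sum_sum_type, Fintype.sum_prod_type, Fin.sum_univ_add, Fin.succ_ne_zero, -Finset.sum_boole, -Fin.succ_zero_eq_one]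
        omega
      · have := hcard j
        simp [Fintype.sum_sum_type, Fintype.sum_prod_type, -Finset.sum_boole] at this
        simp [β', Fintype.sum_sum_type, Fintype.sum_prod_type, Fin.sum_univ_add, (Fin.succ_ne_zero j).symm, -Finset.sum_boole]
        omega
  · have hf : f = 0 := by omega
    subst hf
    have ht1 : t ≠ 0 := by rintro rfl; rw [Nat.zero_mul] at hfs; omega
    obtain ⟨t, rfl⟩ : ∃ t', t = t' + 1 := ⟨t - 1, by omega⟩
    rw [add_mul, one_mul] at hfs
    obtain ⟨s', rfl⟩ : ∃ s', s = h + s' := ⟨s - h, by omega⟩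
    obtain ⟨β, σ, hσ, hβ, hcard⟩ := ih t (by omega) 0 s' (by omega)
    let β' : Fin 0 ⊕ Fin (h + s') × Bool → Fin (t + 1 + 1) :=
      Sum.elim (fun i => i.elim0)
        (fun p => Fin.addCases (fun _ => cond p.2 (Fin.succ 0) 0) (fun i => (β (.inr (i, p.2))).succ.succ) p.1)
    refine ⟨β', Fin.cases (Fin.succ 0) (Fin.cases 0 (fun j => (σ j).succ.succ)), fun j => ?_, fun k => ?_, fun j => ?_⟩
    · refine Fin.cases ?_ (fun j => ?_) j
      · rfl
      · refine Fin.cases ?_ (fun j => ?_) j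
        · rfl
        · simp [hσ]
    · rcases k with i | ⟨i, b⟩
      · exact i.elim0
      refine Fin.addCases (fun i => ?_) (fun i => ?_) i
      · cases b
        · simp [β', flip]
        · simp only [β', flip, Sum.map_inr, Sum.elim_inr, Fin.addCases_left, Bool.not_true, cond_false, cond_true]
          rfl
      · have := hβ (.inr (i, b))
        simp [flip] at this
        simp [β', flip, ← this]
    · have n1 : ∀ j : Fin t, (1 : Fin (t + 1 + 1)) ≠ j.succ.succ := fun j => by simp [Fin.ext_iff]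
      have n2 : ∀ j : Fin t, j.succ.succ ≠ (1 : Fin (t + 1 + 1)) := fun j => (n1 j).symm
      refine Fin.cases ?_ (fun j => ?_) j
      · simp [β', Fintype.sum_sum_type, Fintype.sum_prod_type, Fin.sum_univ_add, Fin.succ_ne_zero, -Finset.sum_boole, -Fin.succ_zero_eq_one]
      · refine Fin.cases ?_ (fun j => ?_) j
        · simp [β', Fintype.sum_sum_type, Fintype.sum_prod_type, Fin.sum_univ_add, -Fin.succ_zero_eq_one, -Finset.sum_boole,
            Fin.succ_ne_zero, (Fin.succ_ne_zero _).symm, n2]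
        · have := hcard j
          simp [Fintype.sum_sum_type, Fintype.sum_prod_type, -Finset.sum_boole] at this
          simp [β', Fintype.sum_sum_type, Fintype.sum_prod_type, Fin.sum_univ_add, (Fin.succ_ne_zero _).symm, n1,
            -Fin.succ_zero_eq_one, -Finset.sum_boole]
          omega


/-- Involutions of PSp_n(q) and imprimitive subgroups. Here `T = PSp_n(q)`, `n = 2d ≥ 4`, `(n, q) ≠ (4, 2)`, realised through the symplectic matrices over the field `F` with `q` elements and the standard alternating form; `n = a·t` with `a` even and `t ≥ 2`, and Ω is the (nonempty) set of orthogonal decompositions of `F^n` into `t` nondegenerate subspaces of dimension `a` (unordered; counted as ordered ones divided by `t!`), whose stabilizers are the imprimitive subgroups of type Sp_a(q) ≀ S_t (maximality is not assumed); an element of `T` of prime order `r` (a symplectic matrix `x` with `x^r` scalar, `x` not scalar) fixes a point of Ω when it permutes the summands of some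 such decomposition. If the number of such decompositions is even, then every involution of `T` stabilizes one of them (the action is 2-elusive). -/
theorem result {F : Type*} [Field F] [Fintype F] {p : ℕ} [Fact p.Prime] [CharP F p] {q : ℕ} (hq : Fintype.card F = q)
    (d : ℕ) (hd : 2 ≤ d) (hT : (d, q) ≠ (2, 2))
    (a t : ℕ) (hat : 2 * d = a * t) (ha : 2 ≤ a) (hae : Even a) (ht : 2 ≤ t) (hΩ : 2 ∣ Nat.card {D : Fin t → Submodule F (Fin d ⊕ Fin d → F) // (Cfsg.Geo.IsMDecomposition a D ∧ (∀ j, ∀ u ∈ D j, u ≠ 0 → ∃ v ∈ D j, Cfsg.sympForm d F u v ≠ 0) ∧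
          (∀ j j', j ≠ j' → ∀ u ∈ D j, ∀ v ∈ D j', Cfsg.sympForm d F u v = 0))} / Nat.factorial t)
    (x : ↥(Matrix.symplecticGroup (Fin d) F))
    (hx1 : ∃ z : F, ((x ^ 2 : ↥(Matrix.symplecticGroup (Fin d) F)) : Matrix (Fin d ⊕ Fin d) (Fin d ⊕ Fin d) F) = z • (1 : Matrix (Fin d ⊕ Fin d) (Fin d ⊕ Fin d) F))
    (hx2 : ∀ z : F, (x : Matrix (Fin d ⊕ Fin d) (Fin d ⊕ Fin d) F) ≠ z • (1 : Matrix (Fin d ⊕ Fin d) (Fin d ⊕ Fin d) F)) :
    ∃ D : Fin t → Submodule F (Fin d ⊕ Fin d → F), (Cfsg.Geo.IsMDecomposition a D ∧ (∀ j, ∀ u ∈ D j, u ≠ 0 → ∃ v ∈ D j, Cfsg.sympForm d F u v ≠ 0) ∧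
          (∀ j j', j ≠ j' → ∀ u ∈ D j, ∀ v ∈ D j', Cfsg.sympForm d F u v = 0)) ∧
        ∃ σ : Equiv.Perm (Fin t), ∀ j, (D j).map (Matrix.toLin' (x : Matrix (Fin d ⊕ Fin d) (Fin d ⊕ Fin d) F)) = D (σ j) := by
  classical
  obtain ⟨z, hz⟩ := hx1
  set B := CfsgLib.Sp.sympBilin d F with hBdef
  have hA : B.IsAlt := CfsgLib.Sp.sympBilin_isAlt
  set T : (Fin d ⊕ Fin d → F) →ₗ[F] (Fin d ⊕ Fin d → F) := Matrix.toLin' (x : Matrix (Fin d ⊕ Fin d) (Fin d ⊕ Fin d) F) with hTdef
  have hTB : ∀ v w, B (T v) (T w) = B v w := fun v w => by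
    rw [hTdef, Matrix.toLin'_apply, Matrix.toLin'_apply, hBdef, CfsgLib.Sp.sympBilin_apply, CfsgLib.Sp.sympBilin_apply]
    exact CfsgLib.Sp.mem_symplecticGroup_iff.1 x.2 v w
  have hT : ∀ v, T (T v) = z • v := fun v => by
    rw [hTdef, Matrix.toLin'_apply, Matrix.toLin'_apply, Matrix.mulVec_mulVec, ← pow_two, ← SubmonoidClass.coe_pow, hz,
      Matrix.smul_mulVec, Matrix.one_mulVec]
  have hsep : ∀ v, (∀ w, B v w = 0) → v = 0 := CfsgLib.Sp.sympBilin_separatingLeft
  have hz1 : z * z = 1 := by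
    set v₀ : Fin d ⊕ Fin d → F := Pi.single (Sum.inl ⟨0, by omega⟩) 1 with hv₀
    obtain ⟨w, hw⟩ : ∃ w, B v₀ w ≠ 0 := by
      by_contra h
      push Not at h
      have := congrFun (hsep _ h) (Sum.inl ⟨0, by omega⟩)
      simp [hv₀] at this
    have := (hTB (T v₀) (T w)).trans (hTB v₀ w)
    rw [hT, hT, map_smul, map_smul, LinearMap.smul_apply, smul_eq_mul, smul_eq_mul, ← mul_assoc] at this
    exact (mul_left_eq_self₀.1 this).resolve_right hw
  obtain ⟨P⟩ := exists_planes B hA T z hTB hT hz1 _ ⊤ rfl (fun _ _ => Submodule.mem_top)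
    (fun v _ hv => hsep v fun w => hv w Submodule.mem_top)
  obtain ⟨h, rfl⟩ := hae
  have hd' : P.f + 2 * P.s = t * h := by
    have := P.dim
    rw [finrank_top, Module.finrank_pi, Fintype.card_sum, Fintype.card_fin] at this
    rw [add_mul] at hat
    rw [mul_comm t h]
    omega
  obtain ⟨β, σ, hσ, hβ, hcard⟩ := exists_blocks (by omega : 0 < h) t P.f P.s hd'
  set e : (Fin P.f ⊕ Fin P.s × Bool) × Bool → (Fin d ⊕ Fin d → F) := fun p => P.e p.1 p.2 with he
  have hdual : ∀ (p q : (Fin P.f ⊕ Fin P.s × Bool) × Bool),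
      B (e p) (e (q.1, !q.2)) = if p = q then (if q.2 then (-1 : F) else 1) else 0 := by
    rintro ⟨k, a⟩ ⟨l, b⟩
    simp only [he, P.gram_eq]
    by_cases hkl : k = l
    · subst hkl
      cases a <;> cases b <;> simp [gram]
    · simp [hkl]
  have hli : LinearIndependent F e := by
    rw [Fintype.linearIndependent_iff]
    intro g hg q
    have h1 := congrArg (fun v => B v (e (q.1, !q.2))) hg
    simp only [map_sum, map_smul, LinearMap.sum_apply, LinearMap.smul_apply, hdual, smul_eq_mul, mul_ite, mul_zero,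
      Finset.sum_ite_eq', Finset.mem_univ, if_true, map_zero, LinearMap.zero_apply] at h1
    split_ifs at h1 <;> simpa using h1
  let D : Fin t → Submodule F (Fin d ⊕ Fin d → F) := fun j => Submodule.span F (e '' {p | β p.1 = j})
  have hdim : ∀ j, Module.finrank F (D j) = h + h := by
    intro j
    have hset : e '' {p | β p.1 = j} = Set.range (e ∘ (Subtype.val : {p // β p.1 = j} → _)) := by
      rw [Set.range_comp, Subtype.range_coe_subtype]
    show Module.finrank F (Submodule.span F (e '' {p | β p.1 = j})) = _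
    rw [hset, finrank_span_eq_card (hli.comp _ Subtype.val_injective), Fintype.card_subtype, Finset.card_filter,
      Fintype.sum_prod_type]
    simp only [Fintype.sum_bool, Finset.sum_add_distrib, hcard j]
  have horth : ∀ j j', j ≠ j' → ∀ u ∈ D j, ∀ v ∈ D j', B u v = 0 := by
    intro j j' hj u hu v hv
    refine LinearMap.eqOn_span (f := B u) (g := 0) ?_ hv
    rintro _ ⟨q, hq, rfl⟩
    show B u (e q) = 0
    refine LinearMap.eqOn_span (f := B.flip (e q)) (g := 0) ?_ hu
    rintro _ ⟨p, hp, rfl⟩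
    show B (P.e p.1 p.2) (P.e q.1 q.2) = 0
    rw [P.gram_eq, if_neg]
    intro hpq
    exact hj (by rw [← (hp : β p.1 = j), hpq]; exact hq)
  have hnd : ∀ j, ∀ u ∈ D j, (∀ v ∈ D j, B u v = 0) → u = 0 := by
    intro j u hu hall
    have hset : e '' {p | β p.1 = j} = Set.range (e ∘ (Subtype.val : {p // β p.1 = j} → _)) := by
      rw [Set.range_comp, Subtype.range_coe_subtype]
    change u ∈ Submodule.span F (e '' {p | β p.1 = j}) at hu
    rw [hset, Submodule.mem_span_range_iff_exists_fun] at hu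
    obtain ⟨g, rfl⟩ := hu
    refine Finset.sum_eq_zero fun q _ => ?_
    have h1 := hall (e (q.1.1, !q.1.2)) (Submodule.subset_span ⟨(q.1.1, !q.1.2), q.2, rfl⟩)
    simp only [map_sum, map_smul, LinearMap.sum_apply, LinearMap.smul_apply, Function.comp_apply, hdual, smul_eq_mul,
      mul_ite, mul_zero] at h1
    rw [Finset.sum_eq_single q (fun p _ hp => if_neg fun hpq => hp (Subtype.ext hpq)) (by simp), if_pos rfl] at h1
    have hg0 : g q = 0 := by split_ifs at h1 <;> simpa using h1
    rw [hg0, zero_smul]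
  have hsup : iSup D = ⊤ := by
    rw [eq_top_iff, ← hli.span_eq_top_of_card_eq_finrank' (by
      rw [Module.finrank_pi]
      simp only [Fintype.card_sum, Fintype.card_prod, Fintype.card_bool, Fintype.card_fin]
      have := P.dim
      rw [finrank_top, Module.finrank_pi, Fintype.card_sum, Fintype.card_fin] at this
      omega), Submodule.span_le]
    rintro _ ⟨p, rfl⟩
    exact (le_iSup D (β p.1)) (Submodule.subset_span ⟨p, rfl, rfl⟩)
  refine ⟨D, ⟨⟨ht, by omega, hdim, ?_, hsup⟩, fun j u hu hu0 => ?_, fun j j' hj u hu v hv => ?_⟩,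
    Function.Involutive.toPerm σ hσ, fun j => ?_⟩
  · intro j
    rw [Submodule.disjoint_def]
    intro u hu hu'
    refine hnd j u hu fun v hv => ?_
    refine (iSup₂_le (fun j' (hj' : j' ≠ j) => fun w hw => ?_) :
      (⨆ j', ⨆ _ : j' ≠ j, D j') ≤ LinearMap.ker (B.flip v)) hu'
    exact horth j' j hj' w hw v hv
  · by_contra hcon
    push Not at hcon
    exact hu0 (hnd j u hu fun v hv => by rw [hBdef, CfsgLib.Sp.sympBilin_apply]; exact hcon v hv)
  · rw [← CfsgLib.Sp.sympBilin_apply]; exact horth j j' hj u hu v hv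
  · have hinj : Function.Injective T := fun u v huv => by
      have := congrArg T huv
      rw [hT, hT] at this
      exact smul_right_injective _ (left_ne_zero_of_mul (a := z) (b := z) (by rw [hz1]; exact one_ne_zero)) this
    refine Submodule.eq_of_le_of_finrank_le ?_ ?_
    · rw [Submodule.map_span_le]
      rintro _ ⟨p, hp, rfl⟩
      refine Submodule.span_mono ?_ (P.map p.1 p.2)
      have hfl : β (flip p.1) = σ j := by rw [hβ, (hp : β p.1 = j)]
      rintro _ (rfl | rfl)
      · exact ⟨(flip p.1, false), hfl, rfl⟩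
      · exact ⟨(flip p.1, true), hfl, rfl⟩
    · rw [(Submodule.equivMapOfInjective T hinj (D j)).finrank_eq.symm, hdim, hdim]

end Cfsg.Agent.S5960
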