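import Cfsg.Statements.S5956
import Cfsg.Agent.Lib.Maximal99.SympWitness
import Cfsg.Agent.Lib.Maximal99.SympJordan
import Cfsg.Agent.Helper57JordanTypes
import Cfsg.Agent.S0776
import Cfsg.Agent.S5960
import Cfsg.Agent.Lib.SpecSp.Blocks
-- import your own Cfsg.Agent.* helpers here

set_option autoImplicit false
open scoped MatrixGroups
open Cfsg

namespace Cfsg.Agent.S5956

open Module
open LinearMap (BilinForm)
open CfsgLib.SympSemiR (Nd)
open CfsgLib.Sp (sympBilin)

section planes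

variable {F : Type*} [Field F] {V : Type*} [AddCommGroup V] [Module F V] [FiniteDimensional F V]
  {B : BilinForm F V} (hA : B.IsAlt) {T : V →ₗ[F] V}
include hA

lemma nd_pair {v w : V} (h : B v w ≠ 0) :
    Nd B (Submodule.span F {v, w}) ∧ finrank F ↥(Submodule.span F {v, w}) = 2 := by
  have h' : B w v ≠ 0 := by rw [CfsgLib.Sp.alt_flip hA v w]; simpa using h
  refine ⟨fun x hx hall => ?_, ?_⟩
  · obtain ⟨a, b, rfl⟩ := Submodule.mem_span_pair.1 hx
    have h1 := hall v (Submodule.subset_span (by simp))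
    have h2 := hall w (Submodule.subset_span (by simp))
    simp only [map_add, map_smul, LinearMap.add_apply, LinearMap.smul_apply, smul_eq_mul, hA.self_eq_zero v,
      hA.self_eq_zero w, mul_zero, zero_add, add_zero, mul_eq_zero, h, h', or_false] at h1 h2
    simp [h1, h2]
  · have hli : LinearIndependent F ![v, w] := LinearIndependent.pair_iff.2 fun s t hst => by
      have h1 := congrArg (fun x => B x v) hst
      have h2 := congrArg (fun x => B x w) hst
      simp only [map_add, map_smul, LinearMap.add_apply, LinearMap.smul_apply, smul_eq_mul, hA.self_eq_zero v,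
        hA.self_eq_zero w, mul_zero, zero_add, add_zero, mul_eq_zero, h, h', or_false, map_zero,
        LinearMap.zero_apply] at h1 h2
      exact ⟨h2, h1⟩
    rw [show ({v, w} : Set V) = Set.range ![v, w] by simp [Set.pair_comm], finrank_span_eq_card hli, Fintype.card_fin]

open Cfsg.Agent.S5960 (Planes flip gram) in
/-- Fixed planes and swapped pairs give invariant subspaces of all admissible dimensions. -/
lemma exists_of_planes {U : Submodule F V} (P : Planes B T U) {m' : ℕ} (hm : m' ≤ P.f + 2 * P.s)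
    (hpar : Even m' ∨ 0 < P.f) :
    ∃ W ≤ U, Nd B W ∧ (∀ x ∈ W, T x ∈ W) ∧ finrank F W = 2 * m' := by
  classical
  obtain ⟨f', s', hf, hs, hsum⟩ : ∃ f' s', f' ≤ P.f ∧ s' ≤ P.s ∧ f' + 2 * s' = m' :=
    ⟨m' - 2 * min P.s (m' / 2), min P.s (m' / 2), by
      rcases hpar with h | h
      · rw [Nat.even_iff] at h; omega
      · omega,
      min_le_left _ _, by omega⟩
  let ι : Fin f' ⊕ Fin s' × Bool → Fin P.f ⊕ Fin P.s × Bool := Sum.map (Fin.castLE hf) (Prod.map (Fin.castLE hs) id)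
  have hι : Function.Injective ι :=
    Sum.map_injective.2 ⟨Fin.castLE_injective hf, (Fin.castLE_injective hs).prodMap Function.injective_id⟩
  have hfl : ∀ k, flip (ι k) = ι (flip k) := by rintro (i | ⟨i, b⟩) <;> rfl
  let e : (Fin f' ⊕ Fin s' × Bool) × Bool → V := fun p => P.e (ι p.1) p.2
  have hdual : ∀ (p q : (Fin f' ⊕ Fin s' × Bool) × Bool),
      B (e p) (e (q.1, !q.2)) = if p = q then (if q.2 then (-1 : F) else 1) else 0 := by
    rintro ⟨k, a⟩ ⟨l, b⟩
    simp only [e, P.gram_eq, hι.eq_iff]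
    by_cases hkl : k = l
    · subst hkl
      cases a <;> cases b <;> simp [gram]
    · simp [hkl]
  have key : ∀ g : (Fin f' ⊕ Fin s' × Bool) × Bool → F, (∀ q, B (∑ p, g p • e p) (e q) = 0) → g = 0 := by
    intro g hg
    funext q
    have h1 := hg (q.1, !q.2)
    simp only [map_sum, map_smul, LinearMap.sum_apply, LinearMap.smul_apply, hdual, smul_eq_mul, mul_ite, mul_zero,
      Finset.sum_ite_eq', Finset.mem_univ, if_true] at h1
    split_ifs at h1 <;> simpa using h1
  have hli : LinearIndependent F e := Fintype.linearIndependent_iff.2 fun g hg q =>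
    congrFun (key g fun q => by rw [hg, map_zero, LinearMap.zero_apply]) q
  refine ⟨Submodule.span F (Set.range e), Submodule.span_le.2 ?_, fun x hx hall => ?_, fun x hx => ?_, ?_⟩
  · rintro _ ⟨p, rfl⟩
    exact P.mem _ _
  · obtain ⟨g, rfl⟩ := (Submodule.mem_span_range_iff_exists_fun F).1 hx
    rw [key g fun q => hall _ (Submodule.subset_span ⟨q, rfl⟩)]
    simp
  · refine (Submodule.span_le.2 ?_ : Submodule.span F (Set.range e) ≤ (Submodule.span F (Set.range e)).comap T) hx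
    rintro _ ⟨⟨k, b⟩, rfl⟩
    refine Submodule.span_mono ?_ (P.map (ι k) b)
    rintro _ (rfl | rfl)
    · exact ⟨(flip k, false), by simp only [e, hfl]⟩
    · exact ⟨(flip k, true), by simp only [e, hfl]⟩
  · rw [finrank_span_eq_card hli]
    simp only [Fintype.card_prod, Fintype.card_sum, Fintype.card_fin, Fintype.card_bool]
    omega

omit [FiniteDimensional F V] in
lemma perp_inv (z : F) (hTB : ∀ v w, B (T v) (T w) = B v w) (hT : ∀ v, T (T v) = z • v) (hz : z * z = 1)
    {W : Submodule F V} (hW : ∀ x ∈ W, T x ∈ W) : ∀ x ∈ B.orthogonal W, T x ∈ B.orthogonal W := by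
  intro x hx w hw
  show B w (T x) = 0
  have h : w = T (T (z • w)) := by rw [hT, smul_smul, hz, one_smul]
  rw [h, hTB]
  exact hx _ (hW _ (W.smul_mem z hw))

/-- In odd characteristic there is an invariant plane. -/
lemma exists_fixed_plane (h2 : (2 : F) ≠ 0) (z : F) (hTB : ∀ v w, B (T v) (T w) = B v w)
    (hT : ∀ v, T (T v) = z • v) (hz : z * z = 1) {U : Submodule F V} (hTU : ∀ x ∈ U, T x ∈ U) (hU : Nd B U)
    (hne : U ≠ ⊥) : ∃ W ≤ U, Nd B W ∧ (∀ x ∈ W, T x ∈ W) ∧ finrank F W = 2 := by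
  obtain ⟨v, w, hv, hw, hvw, hcases⟩ := Cfsg.Agent.S5960.exists_plane B hA T z hTB hT hz U hTU hU hne
  have mk : ∀ x y, x ∈ U → y ∈ U → B x y ≠ 0 → T x ∈ Submodule.span F {x, y} → T y ∈ Submodule.span F {x, y} →
      ∃ W ≤ U, Nd B W ∧ (∀ x ∈ W, T x ∈ W) ∧ finrank F W = 2 := by
    intro x y hx hy hxy hTx hTy
    obtain ⟨h1, h3⟩ := nd_pair hA hxy
    refine ⟨_, Submodule.span_le.2 (Set.insert_subset hx (Set.singleton_subset_iff.2 hy)), h1, fun u hu => ?_, h3⟩
    obtain ⟨a, b, rfl⟩ := Submodule.mem_span_pair.1 hu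
    rw [map_add, map_smul, map_smul]
    exact add_mem (Submodule.smul_mem _ a hTx) (Submodule.smul_mem _ b hTy)
  rcases hcases with ⟨hTv, hTw⟩ | ⟨h1, h1', h3, h4⟩
  · exact mk v w hv hw (by rw [hvw]; exact one_ne_zero) hTv hTw
  have hflip : ∀ x y, B y x = -B x y := CfsgLib.Sp.alt_flip hA
  have h4' : B (T w) w = 0 := by rw [hflip w (T w), h4, neg_zero]
  have h3' : B (T v) w = 0 := by rw [hflip w (T v), h3, neg_zero]
  have hTT : B (T v) (T w) = 1 := (hTB v w).trans hvw
  by_cases hz1 : z = 1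
  · subst hz1
    refine mk (v + T v) (w + T w) (U.add_mem hv (hTU v hv)) (U.add_mem hw (hTU w hw)) ?_ ?_ ?_
    · simp only [map_add, LinearMap.add_apply, hvw, hTT, h1', h3', add_zero, zero_add, one_add_one_eq_two]
      exact h2
    · rw [map_add, hT, one_smul, add_comm]; exact Submodule.subset_span (by simp)
    · rw [map_add, hT, one_smul, add_comm (T w)]; exact Submodule.subset_span (by simp)
  · have hz' : z = -1 := (mul_self_eq_one_iff.1 hz).resolve_left hz1
    refine mk (v + T w) (T (v + T w)) (U.add_mem hv (hTU w hw)) (hTU _ (U.add_mem hv (hTU w hw))) ?_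
      (Submodule.subset_span (by simp)) ?_
    · have hwv : B (T w) (T v) = -1 := by rw [hflip (T v) (T w), hTT]
      simp only [map_add, hT, map_smul, LinearMap.add_apply, h1, hvw, hwv, h4', smul_eq_mul, hz']
      intro h0
      exact h2 (by linear_combination -h0)
    · rw [hT]; exact Submodule.smul_mem _ _ (Submodule.subset_span (by simp))

end planes

section count

variable {F : Type*} [Field F] [Fintype F] {q r : ℕ} [Fact r.Prime]

/-- A prime dividing the number of non-degenerate `2h`-spaces divides a late factor of the group order. -/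
lemma dvd_of_dvd_count (hq : Fintype.card F = q) (hrq : ¬ r ∣ q) {d h : ℕ} (hh : h ≤ d)
    (hdvd : r ∣ Nat.card {W : Submodule F (Fin d ⊕ Fin d → F) // finrank F ↥W = 2 * h ∧ Nd (sympBilin d F) W}) :
    ∃ j, d - h < j ∧ j ≤ d ∧ r ∣ q ^ (2 * j) - 1 := by
  classical
  have hA : (sympBilin d F).IsAlt := CfsgLib.Sp.sympBilin_isAlt
  set S := {W : Submodule F (Fin d ⊕ Fin d → F) // finrank F ↥W = 2 * h ∧ Nd (sympBilin d F) W} with hS
  have : Nonempty S := by
    by_contra hemp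
    haveI := not_nonempty_iff.1 hemp
    obtain ⟨W, -, hW, -, hWd⟩ := CfsgLib.SympSemiR.exists_sub hA (T' := 1) (c' := 2) (s := 2) (fun v w => rfl)
      (one_pow 2) (CfsgLib.SympWitness.nd_top d) (fun x hx => hx) (fun U _ hU _ hne => by
        obtain ⟨W, h1, h2, h3⟩ := CfsgLib.SympSemiR.exists_plane hA hU hne
        exact ⟨W, h1, h2, fun x hx => hx, h3⟩) h (by simp [Module.finrank_fintype_fun_eq_card]; omega)
    exact IsEmpty.false (⟨W, by rw [hWd, mul_comm], hW⟩ : S)
  obtain ⟨W₀⟩ := this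
  let act : ↥(Matrix.symplecticGroup (Fin d) F) → S → S := fun g W =>
    ⟨W.1.map (CfsgLib.Sp.toEquiv d F g).toLinearMap, by rw [LinearEquiv.finrank_map_eq]; exact W.2.1, by
      rintro _ ⟨u, hu, rfl⟩ hall
      have hu0 : u = 0 := W.2.2 u hu fun v hv => by
        rw [← CfsgLib.Sp.toEquiv_mem_isom g u v]
        exact hall _ (Submodule.mem_map_of_mem hv)
      rw [hu0, map_zero]⟩
  letI : MulAction ↥(Matrix.symplecticGroup (Fin d) F) S :=
    { smul := act
      one_smul := fun W => Subtype.ext (by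
        show W.1.map (CfsgLib.Sp.toEquiv d F 1).toLinearMap = W.1
        rw [map_one]; exact Submodule.map_id _)
      mul_smul := fun g g' W => Subtype.ext (by
        show W.1.map (CfsgLib.Sp.toEquiv d F (g * g')).toLinearMap = (W.1.map _).map _
        rw [← Submodule.map_comp, map_mul]; rfl) }
  have hone : MulAction.orbit ↥(Matrix.symplecticGroup (Fin d) F) W₀ = Set.univ := Set.eq_univ_of_forall fun W => by
    have hstd : ∀ W : S, ∃ φ : (Fin h ⊕ Fin h → F) ≃ₗ[F] W.1,
        ∀ u v, sympBilin d F (φ u) (φ v) = sympForm h F u v := fun W =>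
      CfsgLib.Sp.exists_std_equiv ((sympBilin d F).restrict W.1) (fun v => hA v)
        (fun u hu => Subtype.ext (W.2.2 u u.2 fun v hv => hu ⟨v, hv⟩)) W.2.1
    obtain ⟨φ, hφ⟩ := hstd W₀
    obtain ⟨ψ, hψ⟩ := hstd W
    let x : Fin (h + h) → Fin d ⊕ Fin d → F := fun i => (φ (Pi.single (finSumFinEquiv.symm i) 1) : Fin d ⊕ Fin d → F)
    let y : Fin (h + h) → Fin d ⊕ Fin d → F := fun i => (ψ (Pi.single (finSumFinEquiv.symm i) 1) : Fin d ⊕ Fin d → F)
    have hli : ∀ (W : S) (φ : (Fin h ⊕ Fin h → F) ≃ₗ[F] W.1), LinearIndependent F fun i : Fin (h + h) =>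
        (φ (Pi.single (finSumFinEquiv.symm i) 1) : Fin d ⊕ Fin d → F) := fun W φ =>
      (((Pi.linearIndependent_single_one _ F).comp _ finSumFinEquiv.symm.injective).map' φ.toLinearMap
        (LinearEquiv.ker φ)).map' W.1.subtype (Submodule.ker_subtype _)
    obtain ⟨A, hA'⟩ := CfsgLib.Sp.witt_matrix x y (hli W₀ φ) (hli W ψ) fun i j => by
      rw [← CfsgLib.Sp.sympBilin_apply, ← CfsgLib.Sp.sympBilin_apply]
      exact (hφ _ _).trans (hψ _ _).symm
    refine ⟨A, Subtype.ext (Submodule.eq_of_le_of_finrank_le ?_ (by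
      show finrank F W.1 ≤ finrank F ↥(W₀.1.map _)
      rw [LinearEquiv.finrank_map_eq, W.2.1, W₀.2.1]))⟩
    show W₀.1.map (CfsgLib.Sp.toEquiv d F A).toLinearMap ≤ W.1
    have hspan : W₀.1 = Submodule.span F (Set.range x) := by
      refine (Submodule.eq_of_le_of_finrank_le (Submodule.span_le.2 (by rintro _ ⟨i, rfl⟩; exact (φ _).2)) ?_).symm
      rw [finrank_span_eq_card (hli W₀ φ), Fintype.card_fin, W₀.2.1]
      omega
    rw [hspan, Submodule.map_span_le]
    rintro _ ⟨i, rfl⟩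
    simp only [LinearEquiv.coe_coe, CfsgLib.Sp.toEquiv_apply, hA' i]
    exact (ψ _).2
  have hstab : MulAction.stabilizer ↥(Matrix.symplecticGroup (Fin d) F) W₀ =
      Cfsg.stabilizing (Cfsg.spToMat d F) (W₀.1 : Set (Fin d ⊕ Fin d → F)) := by
    ext A
    constructor
    · intro hA' v
      have h' : W₀.1.map (CfsgLib.Sp.toEquiv d F A).toLinearMap = W₀.1 := congrArg Subtype.val hA'
      constructor
      · intro hv
        show CfsgLib.Sp.toEquiv d F A v ∈ W₀.1
        have := Submodule.mem_map_of_mem (f := (CfsgLib.Sp.toEquiv d F A).toLinearMap) hv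
        rwa [h'] at this
      · intro hv
        have hv' : CfsgLib.Sp.toEquiv d F A v ∈ W₀.1 := hv
        rw [← h'] at hv'
        obtain ⟨u, hu, huv⟩ := hv'
        rw [← (CfsgLib.Sp.toEquiv d F A).injective huv]
        exact hu
    · intro hA'
      refine Subtype.ext (Submodule.eq_of_le_of_finrank_le ?_ (by
        show finrank F W₀.1 ≤ finrank F ↥(W₀.1.map _)
        rw [LinearEquiv.finrank_map_eq]))
      rintro _ ⟨u, hu, rfl⟩
      exact (hA' u).1 hu
  obtain ⟨e⟩ := Cfsg.Agent.S0776.result d h hh W₀.1 W₀.2.1 fun u hu hall => W₀.2.2 u hu fun v hv => by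
    rw [CfsgLib.Sp.sympBilin_apply]
    exact hall v hv
  have hc := MulAction.index_stabilizer ↥(Matrix.symplecticGroup (Fin d) F) W₀
  rw [hone, Set.ncard_univ] at hc
  have hmul := Subgroup.index_mul_card (MulAction.stabilizer ↥(Matrix.symplecticGroup (Fin d) F) W₀)
  rw [hc, hstab, Nat.card_congr e.toEquiv, Nat.card_prod, CfsgLib.Sp.card_symplecticGroup hq,
    CfsgLib.Sp.card_symplecticGroup hq, CfsgLib.Sp.card_symplecticGroup hq, CfsgLib.Sp.prod_split q d h hh] at hmul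
  set P := ∏ i ∈ Finset.range (d - h), (q ^ (2 * (i + 1)) - 1) with hP
  have hP0 : 0 < P := Finset.prod_pos fun i _ => by
    have : 1 < q ^ (2 * (i + 1)) := Nat.one_lt_pow (by omega) (hq ▸ Fintype.one_lt_card)
    omega
  set Q := ∏ i ∈ Finset.range h, (q ^ (2 * (d - i)) - 1) with hQ
  have heq : Nat.card S * (q ^ h ^ 2 * (∏ i ∈ Finset.range h, (q ^ (2 * (i + 1)) - 1)) * q ^ (d - h) ^ 2) * P =
      q ^ d ^ 2 * Q * P := by
    linear_combination hmul
  have hdvdQ : r ∣ q ^ d ^ 2 * Q := Nat.eq_of_mul_eq_mul_right hP0 heq ▸ hdvd.mul_right _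
  rcases (Fact.out : r.Prime).dvd_mul.1 hdvdQ with h' | h'
  · exact absurd ((Fact.out : r.Prime).dvd_of_dvd_pow h') hrq
  · obtain ⟨i, hi, hdi⟩ := (Prime.dvd_finsetProd_iff (Fact.out : r.Prime).prime _).1 h'
    have hi' := Finset.mem_range.1 hi
    exact ⟨d - i, by omega, by omega, hdi⟩

end count

section cases

variable {F : Type*} [Field F] {d m : ℕ}

/-- The property in the statement. -/
def All (F : Type*) [Field F] (d m r : ℕ) : Prop :=
  ∀ x : ↥(Matrix.symplecticGroup (Fin d) F),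
    (∃ z : F, ((x ^ r : ↥(Matrix.symplecticGroup (Fin d) F)) : Matrix (Fin d ⊕ Fin d) (Fin d ⊕ Fin d) F) = z • (1 : Matrix (Fin d ⊕ Fin d) (Fin d ⊕ Fin d) F)) →
    (∀ z : F, (x : Matrix (Fin d ⊕ Fin d) (Fin d ⊕ Fin d) F) ≠ z • (1 : Matrix (Fin d ⊕ Fin d) (Fin d ⊕ Fin d) F)) →
    ∃ W : Submodule F (Fin d ⊕ Fin d → F), finrank F ↥W = m ∧ (∀ u ∈ W, u ≠ 0 → ∃ v ∈ W, Cfsg.sympForm d F u v ≠ 0) ∧
      W.map (Matrix.toLin' (x : Matrix (Fin d ⊕ Fin d) (Fin d ⊕ Fin d) F)) ≤ W

lemma nd_iff' (W : Submodule F (Fin d ⊕ Fin d → F)) :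
    (∀ u ∈ W, u ≠ 0 → ∃ v ∈ W, Cfsg.sympForm d F u v ≠ 0) ↔ Nd (sympBilin d F) W := by
  simp only [Nd, CfsgLib.Sp.sympBilin_apply]
  refine forall₂_congr fun u _ => ⟨fun h h' => by_contra fun hu => ?_, fun h hu => by_contra fun h' => ?_⟩
  · obtain ⟨v, hv, hne⟩ := h hu
    exact hne (h' v hv)
  · push Not at h'
    exact hu (h h')

/-- An invariant subspace of `z • T` is one of `T`. -/
lemma map_le_of_smul {z : F} (hz : z ≠ 0) {T : Module.End F (Fin d ⊕ Fin d → F)}
    {W : Submodule F (Fin d ⊕ Fin d → F)} (h : ∀ x ∈ W, (z • T) x ∈ W) : W.map T ≤ W := by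
  rintro _ ⟨v, hv, rfl⟩
  have := W.smul_mem z⁻¹ (h v hv)
  rwa [LinearMap.smul_apply, inv_smul_smul₀ hz] at this

lemma toLin'_pow_eq {r : ℕ} {x : ↥(Matrix.symplecticGroup (Fin d) F)} {z : F}
    (hx : ((x ^ r : ↥(Matrix.symplecticGroup (Fin d) F)) : Matrix (Fin d ⊕ Fin d) (Fin d ⊕ Fin d) F) = z • 1) :
    (Matrix.toLin' (x : Matrix (Fin d ⊕ Fin d) (Fin d ⊕ Fin d) F) : Module.End F (Fin d ⊕ Fin d → F)) ^ r = z • 1 := by
  rw [← Matrix.toLin'_pow, ← SubmonoidClass.coe_pow, hx, map_smul, Matrix.toLin'_one]; rfl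

/-- Odd `p = r`. -/
theorem unipotent_odd [Fintype F] {p : ℕ} [Fact p.Prime] [CharP F p] (hp : p ≠ 2) (hd : 0 < d) (hme : Even m)
    (hmd : m < d) :
    All F d m p ↔ ∀ μ : Multiset ℕ, (∀ a ∈ μ, 0 < a ∧ a ≤ p) → (∀ a : ℕ, Odd a → Even (μ.count a)) → μ.sum = 2 * d →
      ∃ ν : Multiset ℕ, ν ≤ μ ∧ ν.sum = m ∧ ∀ a : ℕ, Odd a → Even (ν.count a) := by
  classical
  have h2 : (2 : F) ≠ 0 := by
    intro h
    have : (p : ℕ) ∣ 2 := (CharP.cast_eq_zero_iff F p 2).1 (by exact_mod_cast h)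
    exact hp ((Nat.prime_dvd_prime_iff_eq Fact.out Nat.prime_two).1 this)
  have hpodd : Odd p := (Fact.out : p.Prime).odd_of_ne_two hp
  have hA : (sympBilin d F).IsAlt := CfsgLib.Sp.sympBilin_isAlt
  have hn : finrank F (Fin d ⊕ Fin d → F) = 2 * d := by
    rw [Module.finrank_fintype_fun_eq_card, Fintype.card_sum, Fintype.card_fin, two_mul]
  constructor
  · intro hall μ hμ hodd hsum
    by_cases h1 : ∀ a ∈ μ, a = 1
    · have hrep : μ = Multiset.replicate (2 * d) 1 := by
        have hμ1 : μ = Multiset.replicate (Multiset.card μ) 1 := Multiset.eq_replicate_card.2 h1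
        have hcard : μ.sum = Multiset.card μ := by
          conv_lhs => rw [hμ1]
          simp
        rw [← hsum, hcard]
        exact hμ1
      refine ⟨Multiset.replicate m 1, hrep ▸ (Multiset.replicate_le_replicate 1).2 (by omega), by simp, fun a _ => ?_⟩
      rw [Multiset.count_replicate]
      split_ifs
      · exact hme
      · exact Even.zero
    have hP : Cfsg.Agent.JordanForm57.HasSp F μ := by
      refine Cfsg.Agent.JordanForm57.partition_induction (G := fun a => Even a ∧ 0 < a) Cfsg.Agent.JordanForm57.hasSp_zero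
        (fun _ _ => Cfsg.Agent.JordanForm57.HasSp.add) Cfsg.Agent.JordanForm57.hasSp_pair (fun a ha => ?_) _ (fun e he => ?_)
      · obtain ⟨⟨b, rfl⟩, hb⟩ := ha
        rw [← two_mul]
        exact Cfsg.Agent.JordanForm57.hasSp_even (by omega)
      · rcases Nat.eq_zero_or_pos e with rfl | he0
        · rw [Multiset.count_eq_zero_of_notMem fun h => (hμ 0 h).1.false]; exact Even.zero
        · exact hodd e (Nat.not_even_iff_odd.1 fun h => he ⟨h, he0⟩)
    obtain ⟨ι, hι, hι', A, hAmem, hr⟩ := hP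
    have hc := Cfsg.Agent.JordanForm57.card_of_profile hr
    rw [hsum, Fintype.card_sum] at hc
    let e0 : Fin d ≃ ι := Fintype.equivOfCardEq (by simp; omega)
    let x : ↥(Matrix.symplecticGroup (Fin d) F) := ⟨_, Cfsg.Agent.JordanForm57.submatrix_mem_symplectic hAmem e0⟩
    set T : Module.End F (Fin d ⊕ Fin d → F) := Matrix.toLin' (x : Matrix (Fin d ⊕ Fin d) (Fin d ⊕ Fin d) F) with hTdef
    have hprof : ∀ k, CfsgLib.RankProfile.imDim (T - 1) ⊤ k = CfsgLib.RankProfile.partProfile μ k := by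
      intro k
      rw [CfsgLib.RankProfile.imDim_top, hTdef, Matrix.toLin'_apply', Cfsg.Agent.JordanForm57.pow_mulVecLin]
      show ((A.submatrix (Equiv.sumCongr e0 e0) (Equiv.sumCongr e0 e0) - 1) ^ k).rank = _
      rw [Cfsg.Agent.JordanForm57.rank_sub_one_pow_submatrix, hr]
    have hTp : T ^ p = 1 := by
      haveI : ExpChar F p := ExpChar.prime Fact.out
      have h := congrArg (Polynomial.aeval (R := F) T) (sub_pow_char (p := p) (Polynomial.X : Polynomial F) 1)
      have h0 : (T - 1) ^ p = 0 := by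
        have := hprof p
        rwa [CfsgLib.RankProfile.partProfile_eq_zero (fun a ha => (hμ a ha).2), CfsgLib.RankProfile.imDim_top,
          Submodule.finrank_eq_zero, LinearMap.range_eq_bot] at this
      simp [h0] at h
      exact sub_eq_zero.1 h.symm
    have hxp : ((x ^ p : ↥(Matrix.symplecticGroup (Fin d) F)) : Matrix (Fin d ⊕ Fin d) (Fin d ⊕ Fin d) F) = (1 : F) • 1 := by
      rw [one_smul, SubmonoidClass.coe_pow]
      apply Matrix.toLin'.injective
      rw [Matrix.toLin'_pow, ← hTdef, hTp, Matrix.toLin'_one]; rfl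
    obtain ⟨W, hWd, hWn, hWT⟩ := hall x ⟨1, hxp⟩ fun z hz => by
      have hTz : T = z • 1 := by rw [hTdef, hz, map_smul, Matrix.toLin'_one]; rfl
      have hz1 : z = 1 := by
        have hzp : z ^ p = 1 := by
          have := congrArg (fun M : Matrix (Fin d ⊕ Fin d) (Fin d ⊕ Fin d) F => M (.inl ⟨0, hd⟩) (.inl ⟨0, hd⟩)) hxp
          simpa [hz, _root_.smul_pow] using this
        haveI : ExpChar F p := ExpChar.prime Fact.out
        exact frobenius_inj F p (by simpa [frobenius_def] using hzp)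
      apply h1
      intro a ha
      have h0 : CfsgLib.RankProfile.partProfile μ 1 = 0 := by
        rw [← hprof, hTz, hz1, one_smul, sub_self, CfsgLib.RankProfile.imDim_top, pow_one, LinearMap.range_zero,
          finrank_bot]
      have := (hμ a ha).1
      have h' : a - 1 ≤ CfsgLib.RankProfile.partProfile μ 1 :=
        Multiset.le_sum_of_mem (Multiset.mem_map_of_mem (fun a => a - 1) ha)
      omega
    have hTW : ∀ v ∈ W, T v ∈ W := fun v hv => hWT (Submodule.mem_map_of_mem hv)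
    have hW := (nd_iff' W).1 hWn
    have hTB := CfsgLib.SympWitness.isometry x
    obtain ⟨hW', hW'd⟩ := CfsgLib.SympSemiR.nd_inf_orth hA (CfsgLib.SympWitness.nd_top d) hW le_top
    have hTW' : ∀ v ∈ (⊤ : Submodule F _) ⊓ (sympBilin d F).orthogonal W, T v ∈ (⊤ : Submodule F _) ⊓ (sympBilin d F).orthogonal W :=
      fun v hv => ⟨Submodule.mem_top, CfsgLib.SympSemiR.orth_inv hA hTB hTp hTW v hv.2⟩
    obtain ⟨μ₁, hμ₁, ho₁, hp₁, -⟩ := CfsgLib.SympJordan.exists_parts hA hTB hTp h2 W hW hTW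
    obtain ⟨μ₂, hμ₂, -, hp₂, -⟩ := CfsgLib.SympJordan.exists_parts hA hTB hTp h2 _ hW' hTW'
    have hdisj : Disjoint W (⊤ ⊓ (sympBilin d F).orthogonal W) := Submodule.disjoint_def.2 fun v hv hv' =>
      hW v hv fun y hy => (CfsgLib.SympSemiR.mem_orth hA).1 hv'.2 y hy
    have hsup : W ⊔ (⊤ ⊓ (sympBilin d F).orthogonal W) = ⊤ := Submodule.eq_top_of_finrank_eq (by
      have := Submodule.finrank_sup_add_finrank_inf_eq W (⊤ ⊓ (sympBilin d F).orthogonal W)
      rw [hdisj.eq_bot, finrank_bot, add_zero] at this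
      rw [this, ← hW'd, finrank_top])
    have hmapN : ∀ W : Submodule F (Fin d ⊕ Fin d → F), (∀ v ∈ W, T v ∈ W) → W.map (T - 1) ≤ W := by
      rintro W hW _ ⟨v, hv, rfl⟩
      exact W.sub_mem (hW v hv) hv
    have heq : μ = μ₁ + μ₂ := by
      have hsum' : ∀ k, CfsgLib.RankProfile.partProfile μ k = CfsgLib.RankProfile.partProfile (μ₁ + μ₂) k := fun k => by
        rw [CfsgLib.RankProfile.partProfile_add, ← hp₁, ← hp₂, ← CfsgLib.RankProfile.imDim_add _ (hmapN _ hTW) (hmapN _ hTW') hdisj,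
          hsup, hprof]
      refine Multiset.ext.2 fun a => ?_
      cases a with
      | zero =>
        rw [Multiset.count_eq_zero_of_notMem (fun h => (hμ 0 h).1.false), Multiset.count_eq_zero_of_notMem]
        intro h
        rcases Multiset.mem_add.1 h with h | h
        · exact (hμ₁ 0 h).1.false
        · exact (hμ₂ 0 h).1.false
      | succ a =>
        have e1 := CfsgLib.RankProfile.count_partProfile μ a
        have e2 := CfsgLib.RankProfile.count_partProfile (μ₁ + μ₂) a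
        rw [hsum', hsum', hsum'] at e1
        omega
    refine ⟨μ₁, heq ▸ Multiset.le_add_right _ _, ?_, ho₁⟩
    rw [← CfsgLib.RankProfile.partProfile_zero, ← hp₁, CfsgLib.RankProfile.imDim_zero, hWd]
  · rintro hR x ⟨z, hz⟩ -
    obtain ⟨hz1, hu⟩ := CfsgLib.SympWitness.exists_unsigned hd hpodd x hz
    set S : Module.End F (Fin d ⊕ Fin d → F) :=
      z • Matrix.toLin' (x : Matrix (Fin d ⊕ Fin d) (Fin d ⊕ Fin d) F) with hS
    obtain ⟨hSp, hSB⟩ := hu S hS
    obtain ⟨μ, hμ, hodd, hprof, hsub⟩ := CfsgLib.SympJordan.exists_parts hA hSB hSp h2 ⊤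
      (CfsgLib.SympWitness.nd_top d) (fun _ _ => Submodule.mem_top)
    have hsum : μ.sum = 2 * d := by
      rw [← CfsgLib.RankProfile.partProfile_zero, ← hprof, CfsgLib.RankProfile.imDim_zero, finrank_top, hn]
    obtain ⟨ν, hν, hνs, hνo⟩ := hR μ hμ hodd hsum
    obtain ⟨W, -, hW, hTW, hWd⟩ := hsub ν hν hνo
    exact ⟨W, hWd.trans hνs, (nd_iff' W).2 hW,
      map_le_of_smul (left_ne_zero_of_mul (a := z) (b := z) (by rw [hz1]; exact one_ne_zero)) hTW⟩

/-- Involutions: subspaces. -/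
theorem exists_two (hd : 0 < d) (hme : Even m) (hmd : m < d)
    (hpar : (2 : F) ≠ 0 ∨ Odd d ∨ m % 4 = 0)
    (x : ↥(Matrix.symplecticGroup (Fin d) F)) {z : F}
    (hx : ((x ^ 2 : ↥(Matrix.symplecticGroup (Fin d) F)) : Matrix (Fin d ⊕ Fin d) (Fin d ⊕ Fin d) F) = z • 1) :
    ∃ W : Submodule F (Fin d ⊕ Fin d → F), finrank F ↥W = m ∧ (∀ u ∈ W, u ≠ 0 → ∃ v ∈ W, Cfsg.sympForm d F u v ≠ 0) ∧
      W.map (Matrix.toLin' (x : Matrix (Fin d ⊕ Fin d) (Fin d ⊕ Fin d) F)) ≤ W := by
  obtain ⟨m', rfl⟩ := hme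
  have hA : (sympBilin d F).IsAlt := CfsgLib.Sp.sympBilin_isAlt
  set T : Module.End F (Fin d ⊕ Fin d → F) := Matrix.toLin' (x : Matrix (Fin d ⊕ Fin d) (Fin d ⊕ Fin d) F) with hTdef
  have hTB := CfsgLib.SympWitness.isometry x
  have hT : ∀ v, T (T v) = z • v := fun v => by
    have := LinearMap.congr_fun (toLin'_pow_eq hx) v
    rwa [← hTdef, pow_two, Module.End.mul_apply, LinearMap.smul_apply, Module.End.one_apply] at this
  have hz : z * z = 1 := by
    obtain ⟨v₁, hv₁⟩ : ∃ v₁ : Fin d ⊕ Fin d → F, v₁ ≠ 0 :=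
      ⟨Pi.single (Sum.inl ⟨0, hd⟩) 1, fun h => one_ne_zero (α := F) (by simpa using congrFun h (Sum.inl ⟨0, hd⟩))⟩
    obtain ⟨w₁, hw₁⟩ : ∃ w, sympBilin d F v₁ w ≠ 0 := by
      by_contra h
      push Not at h
      exact hv₁ (CfsgLib.Sp.sympBilin_separatingLeft _ h)
    have := (hTB (T v₁) (T w₁)).trans (hTB v₁ w₁)
    rw [← hTdef, hT, hT, map_smul, map_smul, LinearMap.smul_apply, smul_eq_mul, smul_eq_mul, ← mul_assoc] at this
    exact (mul_left_eq_self₀.1 this).resolve_right hw₁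
  have hndT := CfsgLib.SympWitness.nd_top (F := F) d
  have hn : finrank F ↥(⊤ : Submodule F (Fin d ⊕ Fin d → F)) = 2 * d := by
    rw [finrank_top, Module.finrank_fintype_fun_eq_card, Fintype.card_sum, Fintype.card_fin, two_mul]
  have use : ∀ W : Submodule F (Fin d ⊕ Fin d → F), Nd (sympBilin d F) W → (∀ v ∈ W, T v ∈ W) →
      finrank F W = m' + m' → ∃ W : Submodule F (Fin d ⊕ Fin d → F), finrank F ↥W = m' + m' ∧
        (∀ u ∈ W, u ≠ 0 → ∃ v ∈ W, Cfsg.sympForm d F u v ≠ 0) ∧ W.map T ≤ W :=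
    fun W h1 h2 h3 => ⟨W, h3, (nd_iff' W).2 h1, by rintro _ ⟨v, hv, rfl⟩; exact h2 v hv⟩
  obtain ⟨P⟩ := Cfsg.Agent.S5960.exists_planes (sympBilin d F) hA T z hTB hT hz _ ⊤ rfl (fun _ _ => Submodule.mem_top) hndT
  have hPd : P.f + 2 * P.s = d := by have := P.dim; omega
  by_cases hcan : Even m' ∨ 0 < P.f
  · obtain ⟨W, -, h1, h2, h3⟩ := exists_of_planes hA P (m' := m') (by omega) hcan
    exact use W h1 h2 (by rw [h3]; omega)
  · rw [not_or] at hcan
    obtain ⟨hmo, hf⟩ := hcan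
    rw [Nat.even_iff] at hmo
    have h2 : (2 : F) ≠ 0 := hpar.resolve_right fun h => by
      rw [Nat.odd_iff] at h
      omega
    obtain ⟨W₀, -, hW₀, hTW₀, hW₀d⟩ := exists_fixed_plane hA h2 z hTB hT hz (fun _ _ => Submodule.mem_top) hndT
      (fun e => by rw [e, finrank_bot] at hn; omega)
    obtain ⟨hU, hUd⟩ := CfsgLib.SympSemiR.nd_inf_orth hA hndT hW₀ le_top
    have hTU : ∀ v ∈ (⊤ : Submodule F _) ⊓ (sympBilin d F).orthogonal W₀, T v ∈ (⊤ : Submodule F _) ⊓ (sympBilin d F).orthogonal W₀ :=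
      fun v hv => ⟨Submodule.mem_top, perp_inv hA z hTB hT hz hTW₀ v hv.2⟩
    obtain ⟨P'⟩ := Cfsg.Agent.S5960.exists_planes (sympBilin d F) hA T z hTB hT hz _ _ rfl hTU hU
    obtain ⟨W₁, hW₁U, hW₁, hTW₁, hW₁d⟩ := exists_of_planes hA P' (m' := m' - 1) (by have := P'.dim; omega)
      (Or.inl (by rw [Nat.even_iff]; omega))
    obtain ⟨hW, hWd⟩ := CfsgLib.SympSemiR.nd_sup hA hW₀ hW₁ fun u hu v hv => (hW₁U hv).2 u hu
    refine use (W₀ ⊔ W₁) hW (fun v hv => ?_) (by rw [hWd, hW₀d, hW₁d]; omega)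
    obtain ⟨a, ha, b, hb, rfl⟩ := Submodule.mem_sup.1 hv
    rw [map_add]
    exact add_mem (Submodule.mem_sup_left (hTW₀ a ha)) (Submodule.mem_sup_right (hTW₁ b hb))

set_option maxHeartbeats 1000000 in
/-- An involution in characteristic two without invariant planes. -/
theorem of_char_two [CharP F 2] (hd : 0 < d) (hde : Even d) (hall : All F d m 2) : m % 4 = 0 := by
  classical
  obtain ⟨e, rfl⟩ := hde
  have h2 : (2 : F) = 0 := CharTwo.two_eq_zero
  let π : Fin (e + e) ≃ Fin e ⊕ Fin e := finSumFinEquiv.symm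
  let M : Matrix (Fin (e + e)) (Fin (e + e)) F := Matrix.reindexAlgEquiv F F π.symm (Matrix.fromBlocks 0 1 0 0)
  let H : Matrix (Fin (e + e)) (Fin (e + e)) F := Matrix.reindexAlgEquiv F F π.symm (Matrix.fromBlocks 0 0 1 0)
  have hMH : M * H + H * M = 1 := by
    simp only [M, H, ← map_mul, ← map_add, Matrix.fromBlocks_multiply, Matrix.fromBlocks_add, mul_one, mul_zero,
      one_mul, zero_mul, add_zero, zero_add, Matrix.fromBlocks_one, map_one]
  have hMM : M * M = 0 := by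
    simp only [M, ← map_mul, Matrix.fromBlocks_multiply, mul_zero, zero_mul, add_zero, Matrix.fromBlocks_zero, map_zero]
  have hsq : (1 + M) * (1 + M) = 1 := by
    rw [add_mul, one_mul, mul_add, mul_one, hMM, add_zero, add_assoc, ← two_smul F M, h2, zero_smul, add_zero]
  let A : Matrix.GeneralLinearGroup (Fin (e + e)) F := ⟨1 + M, 1 + M, hsq, hsq⟩
  let x : ↥(Matrix.symplecticGroup (Fin (e + e)) F) := CfsgLib.SpecSp.glEmb (e + e) A
  have hx2 : x ^ 2 = 1 := by
    have hA2 : A ^ 2 = 1 := by rw [pow_two]; exact Units.ext hsq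
    rw [← map_pow, hA2, map_one]
  set T : Module.End F (Fin (e + e) ⊕ Fin (e + e) → F) :=
    Matrix.toLin' (x : Matrix (Fin (e + e) ⊕ Fin (e + e)) (Fin (e + e) ⊕ Fin (e + e)) F) with hTdef
  set N := T - 1 with hN
  let Hh : (Fin (e + e) ⊕ Fin (e + e) → F) → (Fin (e + e) ⊕ Fin (e + e) → F) := fun v =>
    Sum.elim (H.mulVec (v ∘ Sum.inl)) (H.transpose.mulVec (v ∘ Sum.inr))
  have hxmat : (x : Matrix (Fin (e + e) ⊕ Fin (e + e)) (Fin (e + e) ⊕ Fin (e + e)) F) =
      Matrix.fromBlocks (1 + M) 0 0 (1 + M).transpose := rfl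
  have hNv : ∀ v, N v = Sum.elim (M.mulVec (v ∘ Sum.inl)) (M.transpose.mulVec (v ∘ Sum.inr)) := fun v => by
    rw [hN, LinearMap.sub_apply, Module.End.one_apply, hTdef, Matrix.toLin'_apply, hxmat, Matrix.fromBlocks_mulVec]
    funext s
    rcases s with s | s <;> simp [Matrix.add_mulVec]
  have hhom : ∀ v, N (Hh v) + Hh (N v) = v := fun v => by
    have e1 := congrArg (fun X : Matrix (Fin (e + e)) (Fin (e + e)) F => X.mulVec (v ∘ Sum.inl)) hMH
    have e2 := congrArg (fun X : Matrix (Fin (e + e)) (Fin (e + e)) F => X.transpose.mulVec (v ∘ Sum.inr)) hMH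
    simp only [Matrix.transpose_add, Matrix.transpose_mul, Matrix.transpose_one, Matrix.add_mulVec, ← Matrix.mulVec_mulVec,
      Matrix.one_mulVec] at e1 e2
    rw [hNv, hNv]
    funext s
    rcases s with s | s
    · simpa [Hh] using congrFun e1 s
    · have := congrFun e2 s
      simpa [Hh, add_comm] using this
  have hNN : ∀ v, N (N v) = 0 := fun v => by
    rw [hNv, hNv]
    funext s
    rcases s with s | s <;> simp [Matrix.mulVec_mulVec, hMM, ← Matrix.transpose_mul]
  obtain ⟨W, hWd, hWn, hWT⟩ := hall x ⟨1, by rw [hx2, OneMemClass.coe_one, one_smul]⟩ fun z hz => by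
    have hTz : ∀ v, N v = (z - 1) • v := fun v => by
      rw [hN, LinearMap.sub_apply, Module.End.one_apply, hTdef, hz, map_smul, Matrix.toLin'_one, LinearMap.smul_apply,
        sub_smul, one_smul]
      rfl
    have h0 := hNN (Pi.single (Sum.inl ⟨0, hd⟩) 1)
    rw [hTz, hTz, smul_smul, smul_eq_zero] at h0
    have hz0 : (z - 1) * (z - 1) = 0 := h0.resolve_right fun h => one_ne_zero (α := F) (by
      simpa using congrFun h (Sum.inl ⟨0, hd⟩))
    have hN0 : ∀ v, N v = 0 := fun v => by rw [hTz, mul_self_eq_zero.1 hz0, zero_smul]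
    have := hhom (Pi.single (Sum.inl ⟨0, hd⟩) 1)
    rw [hN0, hN0, zero_add] at this
    exact one_ne_zero (α := F) (by simpa [Hh] using (congrFun this (Sum.inl ⟨0, hd⟩)).symm)
  have hA : (sympBilin (e + e) F).IsAlt := CfsgLib.Sp.sympBilin_isAlt
  have hTB : ∀ v w, sympBilin (e + e) F (T v) (T w) = sympBilin (e + e) F v w := CfsgLib.SympWitness.isometry x
  have hTr : T ^ 2 = 1 := by
    rw [hTdef, ← Matrix.toLin'_pow, ← SubmonoidClass.coe_pow, hx2, OneMemClass.coe_one, Matrix.toLin'_one]; rfl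
  let β : BilinForm F (Fin (e + e) ⊕ Fin (e + e) → F) := (sympBilin (e + e) F).comp N LinearMap.id
  have hβ : ∀ u v, β u v = sympBilin (e + e) F (N u) v := fun u v => rfl
  have hβA : β.IsAlt := fun v => by
    rw [hβ, CfsgLib.Sp.sympBilin_apply, CfsgLib.Sp.sympForm_eq_sum, hNv, Finset.sum_sub_distrib, sub_eq_zero]
    show (M.transpose.mulVec (v ∘ Sum.inr)) ⬝ᵥ (v ∘ Sum.inl) = (M.mulVec (v ∘ Sum.inl)) ⬝ᵥ (v ∘ Sum.inr)
    rw [Matrix.mulVec_transpose, ← Matrix.dotProduct_mulVec, dotProduct_comm]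
  haveI : Fact (Nat.Prime 2) := ⟨Nat.prime_two⟩
  have hTW : ∀ v ∈ W, T v ∈ W := fun v hv => hWT (Submodule.mem_map_of_mem hv)
  have hW := (nd_iff' W).1 hWn
  have hNW : ∀ v ∈ W, N v ∈ W := fun v hv => W.sub_mem (hTW v hv) hv
  obtain ⟨hW', hW'd⟩ := CfsgLib.SympSemiR.nd_inf_orth hA (CfsgLib.SympWitness.nd_top (e + e)) hW le_top
  have hsup : ∀ y, ∃ y₁ ∈ W, ∃ y₂ ∈ (⊤ : Submodule F _) ⊓ (sympBilin (e + e) F).orthogonal W, y₁ + y₂ = y := by
    intro y
    obtain ⟨hs, hsd⟩ := CfsgLib.SympSemiR.nd_sup hA hW hW' fun u hu v hv => hv.2 u hu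
    have htop : W ⊔ ((⊤ : Submodule F _) ⊓ (sympBilin (e + e) F).orthogonal W) = ⊤ :=
      Submodule.eq_top_of_finrank_eq (by rw [hsd, ← hW'd, finrank_top])
    exact Submodule.mem_sup.1 (by rw [htop]; exact Submodule.mem_top)
  have hker : ∀ v ∈ W, N v = 0 → v ∈ W.map N := by
    intro v hv hv0
    have hh := hhom v
    rw [hv0, show Hh 0 = 0 by funext s; rcases s with s | s <;> simp [Hh, Matrix.mulVec_zero], add_zero] at hh
    obtain ⟨y₁, hy₁, y₂, hy₂, hy⟩ := hsup (Hh v)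
    have h2' : N y₂ ∈ (sympBilin (e + e) F).orthogonal W := by
      rw [hN, LinearMap.sub_apply, Module.End.one_apply]
      exact Submodule.sub_mem _ (CfsgLib.SympSemiR.orth_inv hA hTB hTr hTW y₂ hy₂.2) hy₂.2
    have h3 : N y₂ = v - N y₁ := by rw [← hh, ← hy, map_add, add_sub_cancel_left]
    have h4 : N y₂ = 0 := hW _ (h3 ▸ W.sub_mem hv (hNW y₁ hy₁)) fun u hu => (CfsgLib.SympSemiR.mem_orth hA).1 h2' u hu
    exact ⟨y₁, hy₁, by rw [← hh, ← hy, map_add, h4, add_zero]⟩
  obtain ⟨C, hC⟩ := Submodule.exists_isCompl ((W ⊓ LinearMap.ker N).comap W.subtype)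
  let C' := C.map W.subtype
  have hC'd : finrank F C' = finrank F C := (Submodule.equivMapOfInjective _ W.injective_subtype C).finrank_eq.symm
  have hndC : CfsgLib.SympSemiR.Nd β C' := by
    rintro _ ⟨u, hu, rfl⟩ hall'
    have hall'' : ∀ v : W, sympBilin (e + e) F (N u.1) v.1 = 0 := by
      intro v
      obtain ⟨k, hk, c, hc, rfl⟩ := Submodule.mem_sup.1 (hC.sup_eq_top ▸ (Submodule.mem_top : v ∈ ⊤))
      have hk0 : N (k : Fin (e + e) ⊕ Fin (e + e) → F) = 0 := hk.2
      have e1 : β u.1 k.1 = 0 := by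
        rw [CfsgLib.Sp.alt_flip hβA k.1 u.1, hβ, hk0, map_zero, LinearMap.zero_apply, neg_zero]
      rw [Submodule.coe_add, map_add, ← hβ, ← hβ, e1, zero_add]
      exact hall' _ ⟨c, hc, rfl⟩
    have hN0 : N u.1 = 0 := hW _ (hNW _ u.2) fun v hv => hall'' ⟨v, hv⟩
    have : u = 0 := Submodule.disjoint_def.1 hC.disjoint u ⟨u.2, hN0⟩ hu
    rw [this, map_zero]
  obtain ⟨g, hg⟩ := CfsgLib.SympSemiR.nd_even hβA hndC
  have hdC := Submodule.finrank_add_eq_of_isCompl hC
  rw [(Submodule.comapSubtypeEquivOfLe (inf_le_left : W ⊓ LinearMap.ker N ≤ W)).finrank_eq, hWd] at hdC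
  have hrn := LinearMap.finrank_range_add_finrank_ker (N.domRestrict W)
  have hk : LinearMap.ker (N.domRestrict W) = (W ⊓ LinearMap.ker N).comap W.subtype := by
    ext v
    rw [LinearMap.mem_ker, Submodule.mem_comap, LinearMap.domRestrict_apply, Submodule.mem_inf, LinearMap.mem_ker]
    exact ⟨fun h => ⟨v.2, h⟩, fun h => h.2⟩
  rw [LinearMap.range_domRestrict, hk,
    (Submodule.comapSubtypeEquivOfLe (inf_le_left : W ⊓ LinearMap.ker N ≤ W)).finrank_eq, hWd] at hrn
  have heq : W.map N = W ⊓ LinearMap.ker N := by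
    refine le_antisymm ?_ fun v hv => hker v hv.1 hv.2
    rintro _ ⟨v, hv, rfl⟩
    exact ⟨hNW v hv, hNN v⟩
  rw [heq] at hrn
  omega

/-- Odd `r ≠ p`. -/
theorem semisimple [Fintype F] {p : ℕ} [Fact p.Prime] [CharP F p] {q : ℕ} (hq : Fintype.card F = q) (hd : 0 < d)
    (hme : Even m) (hm : 0 < m) (hmd : m < d) {r : ℕ} [Fact r.Prime] (hr2 : r ≠ 2) (hrp : r ≠ p)
    (hΩ : r ∣ Nat.card {W : Submodule F (Fin d ⊕ Fin d → F) // finrank F ↥W = m ∧ (∀ u ∈ W, u ≠ 0 → ∃ v ∈ W, Cfsg.sympForm d F u v ≠ 0)})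
    (i c : ℕ) (hi : i = orderOf (q : ZMod r)) (hc : c = if Even i then i else 2 * i) :
    All F d m r ↔ c ≤ m ∧ m % c ≤ 2 * d % c := by
  classical
  have hr0 : (r : F) ≠ 0 := CfsgLib.OrderR.cast_ne_zero (p := p) hrp
  have hrq : (q : ZMod r) ≠ 0 := CfsgLib.OrderR.natCast_ne_zero_of_card hq hrp
  have hi0 : 0 < i := hi ▸ (orderOf_pos_iff.2 (isOfFinOrder_iff_pow_eq_one.2
    ⟨r - 1, by have := (Fact.out : r.Prime).two_le; omega, ZMod.pow_card_sub_one_eq_one hrq⟩))
  have hrodd := (Fact.out : r.Prime).odd_of_ne_two hr2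
  have hce : Even c := by
    rw [hc]
    split_ifs with he
    · exact he
    · exact even_two_mul i
  have hc0 : 0 < c := by rw [hc]; split_ifs <;> omega
  have hA : (sympBilin d F).IsAlt := CfsgLib.Sp.sympBilin_isAlt
  have hndT := CfsgLib.SympWitness.nd_top (F := F) d
  have hn : finrank F (Fin d ⊕ Fin d → F) = 2 * d := by
    rw [Module.finrank_fintype_fun_eq_card, Fintype.card_sum, Fintype.card_fin, two_mul]
  obtain ⟨h, hh⟩ := hme.two_dvd
  have hΩ' : r ∣ Nat.card {W : Submodule F (Fin d ⊕ Fin d → F) // finrank F ↥W = 2 * h ∧ Nd (sympBilin d F) W} := by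
    rw [← hh, ← Nat.card_congr (Equiv.subtypeEquivRight fun W => and_congr_right fun _ => nd_iff' W)]
    exact hΩ
  obtain ⟨j, hj1, hj2, hj⟩ := dvd_of_dvd_count hq (fun hd' => hrq ((ZMod.natCast_eq_zero_iff q r).2 hd')) (by omega) hΩ'
  have hcj : c ∣ 2 * j := by
    have hi2 : i ∣ 2 * j := hi ▸ (CfsgLib.OrderR.orderOf_dvd_iff (by rw [← hq]; exact Fintype.card_pos)).2 hj
    rw [hc]
    split_ifs with he
    · exact hi2
    · exact mul_dvd_mul_left 2 ((Nat.coprime_two_right.2 (Nat.not_even_iff_odd.1 he)).dvd_of_dvd_mul_left hi2)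
  have hcd : c ≤ 2 * d := (Nat.le_of_dvd (by omega) hcj).trans (by omega)
  constructor
  · intro hall
    set E := 2 * d / c with hE
    have hEk : c * E + 2 * d % c = 2 * d := Nat.div_add_mod (2 * d) c
    have hE0 : 0 < E := Nat.div_pos hcd hc0
    rw [mul_comm c E] at hEk
    obtain ⟨k, hk⟩ : ∃ k, E * c + 2 * k = 2 * d := by
      obtain ⟨w, hw⟩ := (Nat.even_sub (show E * c ≤ 2 * d by omega)).2 (iff_of_true (even_two_mul d) (hce.mul_left E))
      exact ⟨w, by omega⟩
    obtain ⟨x, hx, hrank⟩ := CfsgLib.SympWitness.exists_witness hq hi hc hr0 hrq hk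
    set T : Module.End F (Fin d ⊕ Fin d → F) :=
      Matrix.toLin' (x : Matrix (Fin d ⊕ Fin d) (Fin d ⊕ Fin d) F) with hTdef
    have hTB := CfsgLib.SympWitness.isometry x
    have hxr : ((x ^ r : ↥(Matrix.symplecticGroup (Fin d) F)) : Matrix (Fin d ⊕ Fin d) (Fin d ⊕ Fin d) F) = (1 : F) • 1 := by
      rw [hx, OneMemClass.coe_one, one_smul]
    have hTr : T ^ r = 1 := by rw [hTdef, toLin'_pow_eq hxr, one_smul]
    obtain ⟨W, hWd, hWn, hWT⟩ := hall x ⟨1, hxr⟩ fun z hz => by
      have hTz : T = z • 1 := by rw [hTdef, hz, map_smul, Matrix.toLin'_one]; rfl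
      have h0 : T - 1 = 0 := by
        refine LinearMap.ext fun v => ?_
        by_contra hne
        have hv : (T - 1) v ∈ LinearMap.range (T - 1) := ⟨v, rfl⟩
        have hv' : (T - 1) v ∈ LinearMap.ker (T - 1) := by
          by_cases hz1 : z = 1
          · rw [hTz, hz1, one_smul, sub_self]; simp
          · exfalso
            have hinj : LinearMap.ker (T - 1) = ⊥ := (Submodule.eq_bot_iff _).2 fun u hu => by
              rw [LinearMap.mem_ker, hTz, LinearMap.sub_apply, LinearMap.smul_apply, Module.End.one_apply] at hu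
              have : (z - 1) • u = 0 := by rw [sub_smul, one_smul]; exact hu
              exact (smul_eq_zero.1 this).resolve_left (sub_ne_zero.2 hz1)
            have hker0 := LinearMap.finrank_range_add_finrank_ker (T - 1)
            rw [hrank, hinj, finrank_bot, hn] at hker0
            -- a scalar isometry of odd order is trivial
            have hz2 : z * z = 1 := by
              obtain ⟨u₁, hu₁⟩ : ∃ u₁ : Fin d ⊕ Fin d → F, u₁ ≠ 0 :=
                ⟨Pi.single (Sum.inl ⟨0, hd⟩) 1, fun h => one_ne_zero (α := F) (by simpa using congrFun h (Sum.inl ⟨0, hd⟩))⟩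
              obtain ⟨w₁, hw₁⟩ : ∃ w, sympBilin d F u₁ w ≠ 0 := by
                by_contra h
                push Not at h
                exact hu₁ (CfsgLib.Sp.sympBilin_separatingLeft _ h)
              have := hTB u₁ w₁
              rw [← hTdef, hTz] at this
              simp [← mul_assoc] at this
              exact (mul_left_eq_self₀.1 this).resolve_right hw₁
            have hzr : z ^ r = 1 := by
              have := congrArg (fun M : Matrix (Fin d ⊕ Fin d) (Fin d ⊕ Fin d) F => M (.inl ⟨0, hd⟩) (.inl ⟨0, hd⟩)) hxr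
              simpa [hz, _root_.smul_pow] using this
            obtain ⟨s, hs⟩ := hrodd
            rw [hs, pow_succ, pow_mul, pow_two, hz2, one_pow, one_mul] at hzr
            exact hz1 hzr
        exact hne (Submodule.disjoint_def.1 (CfsgLib.OrderR.disjoint_fix_move T hTr hr0) _ hv' hv)
      rw [h0, LinearMap.range_zero, finrank_bot] at hrank
      exact (Nat.mul_pos hE0 hc0).ne hrank
    have hW := (nd_iff' W).1 hWn
    have hTW : ∀ v ∈ W, T v ∈ W := fun v hv => hWT (Submodule.mem_map_of_mem hv)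
    have hsupW := CfsgLib.SympSemiR.inf_fix_sup_map hTr hr0 hTW
    have hle : W.map (T - 1) ≤ W := by rintro _ ⟨v, hv, rfl⟩; exact W.sub_mem (hTW v hv) hv
    have hTM : ∀ v ∈ W.map (T - 1), T v ∈ W.map (T - 1) := by
      rintro _ ⟨v, hv, rfl⟩
      exact ⟨T v, hTW v hv, by simp⟩
    have hndM : Nd (sympBilin d F) (W.map (T - 1)) := by
      intro u hu hall'
      refine hW u (hle hu) fun v hv => ?_
      rw [← hsupW] at hv
      obtain ⟨v₁, hv₁, v₂, hv₂, rfl⟩ := Submodule.mem_sup.1 hv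
      rw [map_add, hall' v₂ hv₂, CfsgLib.Sp.alt_flip hA v₁ u,
        CfsgLib.SympSemiR.fix_orth_move hTB hv₁.2 (LinearMap.map_le_range hu), neg_zero, add_zero]
    obtain ⟨e₁, he₁⟩ := CfsgLib.SympSemiR.dvd_finrank_moved hA hTB hTr hq hi hc hndM hTM fun v hv hv1 =>
      Submodule.disjoint_def.1 (CfsgLib.OrderR.disjoint_fix_move T hTr hr0) v
        (by rw [LinearMap.mem_ker, LinearMap.sub_apply, Module.End.one_apply, sub_eq_zero]; exact hv1)
        (LinearMap.map_le_range hv)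
    have hdim : finrank F ↥(W ⊓ LinearMap.ker (T - 1)) + c * e₁ = m := by
      have h1 := Submodule.finrank_sup_add_finrank_inf_eq (W ⊓ LinearMap.ker (T - 1)) (W.map (T - 1))
      rw [hsupW, ((CfsgLib.OrderR.disjoint_fix_move T hTr hr0).mono inf_le_right LinearMap.map_le_range).eq_bot,
        finrank_bot, add_zero, hWd, he₁] at h1
      exact h1.symm
    have hker := LinearMap.finrank_range_add_finrank_ker (T - 1)
    rw [hrank, hn] at hker
    have hKle : finrank F ↥(W ⊓ LinearMap.ker (T - 1)) ≤ 2 * d % c :=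
      (Submodule.finrank_mono inf_le_right).trans (by omega)
    have hmod := Nat.mod_lt (2 * d) hc0
    rcases Nat.eq_zero_or_pos e₁ with rfl | he₁0
    · exfalso
      rw [mul_zero, add_zero] at hdim
      obtain ⟨l, hl⟩ := hcj
      have hEl : E < l := Nat.lt_of_mul_lt_mul_left (show c * E < c * l by rw [mul_comm c E]; omega)
      have : c * (E + 1) ≤ c * l := Nat.mul_le_mul_left c hEl
      rw [mul_add, mul_one, mul_comm c E] at this
      omega
    · have hcm : c ≤ m := by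
        have : c * 1 ≤ c * e₁ := Nat.mul_le_mul_left c he₁0
        omega
      refine ⟨hcm, ?_⟩
      rw [← hdim, Nat.add_mul_mod_self_left, Nat.mod_eq_of_lt (hKle.trans_lt hmod)]
      exact hKle
  · rintro ⟨-, hmod⟩ x ⟨z, hz⟩ -
    obtain ⟨hz1, hu⟩ := CfsgLib.SympWitness.exists_unsigned hd hrodd x hz
    set S : Module.End F (Fin d ⊕ Fin d → F) :=
      z • Matrix.toLin' (x : Matrix (Fin d ⊕ Fin d) (Fin d ⊕ Fin d) F) with hS
    obtain ⟨hSr, hSB⟩ := hu S hS
    obtain ⟨hndK, hndR⟩ := CfsgLib.SympSemiR.nd_fix_move hA hSB hSr hr0 hndT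
    have hTR : ∀ v ∈ LinearMap.range (S - 1), S v ∈ LinearMap.range (S - 1) := by
      rintro _ ⟨w, rfl⟩
      exact ⟨S w, by simp⟩
    have hTK : ∀ U ≤ LinearMap.ker (S - 1), ∀ v ∈ U, S v ∈ U := fun U hU v hv => by
      have h1 : S v = v := by simpa [sub_eq_zero] using hU hv
      rw [h1]; exact hv
    have hfix : ∀ v ∈ LinearMap.range (S - 1), S v = v → v = 0 := fun v hv hv1 =>
      Submodule.disjoint_def.1 (CfsgLib.OrderR.disjoint_fix_move S hSr hr0) v
        (by rw [LinearMap.mem_ker, LinearMap.sub_apply, Module.End.one_apply, sub_eq_zero]; exact hv1) hv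
    obtain ⟨e, he⟩ := CfsgLib.SympSemiR.dvd_finrank_moved hA hSB hSr hq hi hc hndR hTR hfix
    rw [mul_comm] at he
    have hsum : e * c + finrank F ↥(LinearMap.ker (S - 1)) = 2 * d := by
      have := LinearMap.finrank_range_add_finrank_ker (S - 1)
      rwa [he, hn] at this
    obtain ⟨e₁, he₁e, he₁m, hcase⟩ : ∃ e₁, e₁ ≤ e ∧ e₁ ≤ m / c ∧ (e₁ = e ∨ e₁ = m / c) :=
      ⟨min e (m / c), min_le_left _ _, min_le_right _ _, min_choice _ _⟩
    have hle : e₁ * c ≤ m := (Nat.mul_le_mul_right c he₁m).trans (Nat.div_mul_le_self m c)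
    obtain ⟨g, hg⟩ : ∃ g, m = e₁ * c + g * 2 := by
      obtain ⟨w, hw⟩ := (Nat.even_sub hle).2 (iff_of_true hme (hce.mul_left e₁))
      exact ⟨w, by omega⟩
    have hgK : g * 2 ≤ finrank F ↥(LinearMap.ker (S - 1)) := by
      rcases hcase with rfl | rfl
      · omega
      · have h1 := Nat.div_add_mod' m c
        have h2 := Nat.div_add_mod' (2 * d) c
        have h3 : e * c ≤ 2 * d / c * c := Nat.mul_le_mul_right c ((Nat.le_div_iff_mul_le hc0).2 (by omega))
        omega
    obtain ⟨W₁, hW₁R, hW₁, hTW₁, hW₁d⟩ := CfsgLib.SympSemiR.exists_sub (c' := c) hA hSB hSr hndR hTR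
      (fun U hU hndU hTU hne => CfsgLib.SympSemiR.exists_piece hA hSB hSr hq hi hc hr2 hi0 hr0 hndU hTU
        (fun v hv => hfix v (hU hv)) hne) e₁ (by rw [he]; exact Nat.mul_le_mul_right c he₁e)
    obtain ⟨W₂, hW₂K, hW₂, -, hW₂d⟩ := CfsgLib.SympSemiR.exists_sub (c' := 2) hA hSB hSr hndK (hTK _ le_rfl)
      (fun U hU hndU _ hne => by
        obtain ⟨W, h1, h2, h3⟩ := CfsgLib.SympSemiR.exists_plane hA hndU hne
        exact ⟨W, h1, h2, hTK W (h1.trans hU), h3⟩) g hgK
    obtain ⟨hW, hWd⟩ := CfsgLib.SympSemiR.nd_sup hA hW₁ hW₂ fun u hu v hv => by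
      rw [CfsgLib.Sp.alt_flip hA v u, CfsgLib.SympSemiR.fix_orth_move hSB (hW₂K hv) (hW₁R hu), neg_zero]
    refine ⟨W₁ ⊔ W₂, by rw [hWd, hW₁d, hW₂d, hg], (nd_iff' _).2 hW, map_le_of_smul
      (left_ne_zero_of_mul (a := z) (b := z) (by rw [hz1]; exact one_ne_zero)) fun v hv => ?_⟩
    obtain ⟨u₁, hu₁, u₂, hu₂, rfl⟩ := Submodule.mem_sup.1 hv
    rw [← hS, map_add]
    exact add_mem (Submodule.mem_sup_left (hTW₁ u₁ hu₁)) (Submodule.mem_sup_right (hTK W₂ hW₂K u₂ hu₂))

end cases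

/-- Elements of prime order of PSp_n(q) with no fixed nondegenerate `m`-space. Here `T = PSp_n(q)` with `n = 2d ≥ 4`, `(n, q) ≠ (4, 2)`, realised through the symplectic matrices over the field `F` with `q` elements (preserving the standard alternating form); an element of `T` of prime order `r` is such a matrix `x` with `x^r` scalar and `x` not scalar. For `r ≠ p` let `i` be the multiplicative order of `q` modulo `r`, `c = i` for `i` even and `c = 2i` for `i` odd, and write `k = n mod c`, `ℓ = m mod i`, `ℓ' = m mod c`, `n' = ⌊n/i⌋`, `m' = ⌊m/i⌋`, `t = (r−1)/i`. Let `m` be even with `2 ≤ m < n/2` and let `r` be a prime dividing the number of nondegenerate `m`-spaces. Then every element of `T` of order `r` fixes a nondegenerate `m`-space if and only if one of: (i) `r = p > 2` and every partition of `n` into parts of size at most `p` in which every odd part has even multiplicity contains (as a sub-multiset) a partition of `m` in which every odd part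 has even multiplicity; (ii) `r = p = 2` and (`n ≡ 2 (mod 4)` or `m ≡ 0 (mod 4)`); (iii) `r = 2 ≠ p`; (iv) `r ≠ p`, `r > 2`, `c ≤ m` and `k ≥ ℓ'`. -/
theorem result {F : Type*} [Field F] [Fintype F] {p : ℕ} [Fact p.Prime] [CharP F p] {q : ℕ} (hq : Fintype.card F = q)
    (d m : ℕ) (hd : 2 ≤ d) (hT : (d, q) ≠ (2, 2)) (hm : 2 ≤ m) (hme : Even m) (hmd : m < d)
    (r : ℕ) [Fact r.Prime]
    (hrΩ : r ∣ Nat.card {W : Submodule F (Fin d ⊕ Fin d → F) // Module.finrank F ↥W = m ∧ (∀ u ∈ W, u ≠ 0 → ∃ v ∈ W, Cfsg.sympForm d F u v ≠ 0)})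
    (i c : ℕ) (hi : i = orderOf (q : ZMod r)) (hc : c = if Even i then i else 2 * i) :
    (∀ x : ↥(Matrix.symplecticGroup (Fin d) F),
      (∃ z : F, ((x ^ r : ↥(Matrix.symplecticGroup (Fin d) F)) : Matrix (Fin d ⊕ Fin d) (Fin d ⊕ Fin d) F) = z • (1 : Matrix (Fin d ⊕ Fin d) (Fin d ⊕ Fin d) F)) →
      (∀ z : F, (x : Matrix (Fin d ⊕ Fin d) (Fin d ⊕ Fin d) F) ≠ z • (1 : Matrix (Fin d ⊕ Fin d) (Fin d ⊕ Fin d) F)) →
      ∃ W : Submodule F (Fin d ⊕ Fin d → F), Module.finrank F ↥W = m ∧ (∀ u ∈ W, u ≠ 0 → ∃ v ∈ W, Cfsg.sympForm d F u v ≠ 0) ∧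
        W.map (Matrix.toLin' (x : Matrix (Fin d ⊕ Fin d) (Fin d ⊕ Fin d) F)) ≤ W) ↔
    ((r = p ∧ 2 < p ∧ (∀ μ : Multiset ℕ, (∀ a ∈ μ, 0 < a ∧ a ≤ p) → (∀ a : ℕ, Odd a → Even (μ.count a)) → μ.sum = 2 * d →
        ∃ ν : Multiset ℕ, ν ≤ μ ∧ ν.sum = m ∧ ∀ a : ℕ, Odd a → Even (ν.count a))) ∨
     (r = p ∧ p = 2 ∧ ((2 * d) % 4 = 2 ∨ m % 4 = 0)) ∨
     (r = 2 ∧ p ≠ 2) ∨
     (r ≠ p ∧ 2 < r ∧ c ≤ m ∧ m % c ≤ (2 * d) % c)) := by
  classical
  change All F d m r ↔ _
  rcases eq_or_ne r p with hrp | hrp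
  · subst hrp
    rcases eq_or_ne r 2 with hr2 | hr2
    · subst hr2
      constructor
      · intro hall
        refine Or.inr (Or.inl ⟨rfl, rfl, ?_⟩)
        rcases Nat.even_or_odd d with hde | hdo
        · exact Or.inr (of_char_two (by omega) hde hall)
        · left
          rw [Nat.odd_iff] at hdo
          omega
      · rintro (⟨-, h, -⟩ | ⟨-, -, h⟩ | ⟨-, h⟩ | ⟨h, -⟩)
        · omega
        · rintro x ⟨z, hz⟩ -
          refine exists_two (by omega) hme hmd (Or.inr ?_) x hz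
          rcases h with h | h
          · exact Or.inl (Nat.odd_iff.2 (by omega))
          · exact Or.inr h
        · exact absurd rfl h
        · exact absurd rfl h
    · have h3 : 2 < r := lt_of_le_of_ne (Fact.out : r.Prime).two_le (Ne.symm hr2)
      rw [unipotent_odd hr2 (by omega) hme hmd]
      constructor
      · exact fun h => Or.inl ⟨rfl, h3, h⟩
      · rintro (⟨-, -, h⟩ | ⟨-, h, -⟩ | ⟨h, -⟩ | ⟨h, -⟩)
        · exact h
        · omega
        · omega
        · exact absurd rfl h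
  · rcases eq_or_ne r 2 with hr2 | hr2
    · subst hr2
      refine iff_of_true ?_ (Or.inr (Or.inr (Or.inl ⟨rfl, Ne.symm hrp⟩)))
      rintro x ⟨z, hz⟩ -
      refine exists_two (by omega) hme hmd (Or.inl ?_) x hz
      exact_mod_cast CfsgLib.OrderR.cast_ne_zero (F := F) (p := p) hrp
    · rw [semisimple hq (by omega) hme (by omega) hmd hr2 hrp hrΩ i c hi hc]
      constructor
      · rintro ⟨h1, h2⟩
        exact Or.inr (Or.inr (Or.inr ⟨hrp, lt_of_le_of_ne (Fact.out : r.Prime).two_le (Ne.symm hr2), h1, h2⟩))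
      · rintro (⟨h, -⟩ | ⟨h, -⟩ | ⟨h, -⟩ | ⟨-, -, h⟩)
        · exact absurd h hrp
        · exact absurd h hrp
        · exact absurd h hr2
        · exact h

end Cfsg.Agent.S5956
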