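import Cfsg.Statements.S5955
import Cfsg.Agent.Lib.Maximal99.SympClasses
import Cfsg.Agent.Lib.Maximal99.SquareScalar
import Cfsg.Agent.S5956
-- import your own Cfsg.Agent.* helpers here

set_option autoImplicit false
open scoped MatrixGroups
open Cfsg

namespace Cfsg.Agent.S5955

open Module
open LinearMap (BilinForm)
open CfsgLib.SympSemiR (Nd)
open CfsgLib.SympIsotropic (Ti)
open CfsgLib.Sp (sympBilin)

variable {F : Type*} [Field F] {d m : ℕ}

/-- The property in the statement. -/
def All (F : Type*) [Field F] (d m r : ℕ) : Prop :=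
  ∀ x : ↥(Matrix.symplecticGroup (Fin d) F),
    (∃ z : F, ((x ^ r : ↥(Matrix.symplecticGroup (Fin d) F)) : Matrix (Fin d ⊕ Fin d) (Fin d ⊕ Fin d) F) = z • (1 : Matrix (Fin d ⊕ Fin d) (Fin d ⊕ Fin d) F)) →
    (∀ z : F, (x : Matrix (Fin d ⊕ Fin d) (Fin d ⊕ Fin d) F) ≠ z • (1 : Matrix (Fin d ⊕ Fin d) (Fin d ⊕ Fin d) F)) →
    ∃ W : Submodule F (Fin d ⊕ Fin d → F), finrank F ↥W = m ∧ (∀ u ∈ W, ∀ v ∈ W, Cfsg.sympForm d F u v = 0) ∧
      W.map (Matrix.toLin' (x : Matrix (Fin d ⊕ Fin d) (Fin d ⊕ Fin d) F)) ≤ W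

lemma ti_iff (W : Submodule F (Fin d ⊕ Fin d → F)) :
    (∀ u ∈ W, ∀ v ∈ W, Cfsg.sympForm d F u v = 0) ↔ Ti (sympBilin d F) W := by
  simp only [Ti, CfsgLib.Sp.sympBilin_apply]

lemma finrank_std : finrank F (Fin d ⊕ Fin d → F) = 2 * d := by
  rw [Module.finrank_fintype_fun_eq_card, Fintype.card_sum, Fintype.card_fin, two_mul]

/-- A prime dividing the number of isotropic subspaces divides a late factor of the group order. -/
lemma dvd_of_dvd_count [Fintype F] {q r : ℕ} [Fact r.Prime] (hq : Fintype.card F = q) (hmd : m ≤ d)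
    (h : r ∣ Nat.card {W : Submodule F (Fin d ⊕ Fin d → F) // finrank F ↥W = m ∧ (∀ u ∈ W, ∀ v ∈ W, Cfsg.sympForm d F u v = 0)}) :
    ∃ j, d - m < j ∧ j ≤ d ∧ r ∣ q ^ (2 * j) - 1 := by
  classical
  set S := {W : Submodule F (Fin d ⊕ Fin d → F) // finrank F ↥W = m ∧ (∀ u ∈ W, ∀ v ∈ W, Cfsg.sympForm d F u v = 0)}
  let f : CfsgLib.Sp.isoTuples d F m → S := fun x => ⟨Submodule.span F (Set.range x.1),
    by rw [finrank_span_eq_card x.2.1, Fintype.card_fin], fun u hu v hv => by
      rw [← CfsgLib.Sp.sympBilin_apply]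
      exact (CfsgLib.Sp.span_le_orthSpan x.2.2 hv) u hu⟩
  have hfib : ∀ W : S, Nat.card {x // f x = W} = ∏ j : Fin m, (q ^ m - q ^ (j : ℕ)) := by
    intro W
    have e : {x // f x = W} ≃ {s : Fin m → W.1 // LinearIndependent F s} :=
      { toFun := fun x => ⟨fun j => ⟨x.1.1 j, by
            have := congrArg Subtype.val x.2
            rw [← this]
            exact Submodule.subset_span ⟨j, rfl⟩⟩, LinearIndependent.of_comp W.1.subtype x.1.2.1⟩
        invFun := fun s => ⟨⟨fun j => (s.1 j : Fin d ⊕ Fin d → F),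
            s.2.map' W.1.subtype (Submodule.ker_subtype _), fun a b => W.2.2 _ (s.1 a).2 _ (s.1 b).2⟩,
          Subtype.ext (Submodule.eq_of_le_of_finrank_le (Submodule.span_le.2 (by rintro _ ⟨j, rfl⟩; exact (s.1 j).2))
            (by
              show finrank F W.1 ≤ finrank F ↥(Submodule.span F (Set.range (W.1.subtype ∘ s.1)))
              rw [finrank_span_eq_card (s.2.map' W.1.subtype (Submodule.ker_subtype _)), Fintype.card_fin, W.2.1]))⟩
        left_inv := fun _ => rfl
        right_inv := fun _ => rfl }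
    rw [Nat.card_congr e, card_linearIndependent W.2.1.ge, W.2.1, hq]
  have : Fintype S := Fintype.ofFinite _
  have hcard : Nat.card (CfsgLib.Sp.isoTuples d F m) = Nat.card S * ∏ j : Fin m, (q ^ m - q ^ (j : ℕ)) := by
    rw [← Nat.card_congr (Equiv.sigmaFiberEquiv f), Nat.card_sigma, Finset.sum_congr rfl fun W _ => hfib W,
      Finset.sum_const, Finset.card_univ, smul_eq_mul, ← Nat.card_eq_fintype_card]
  rw [CfsgLib.Sp.card_isoTuples hq, CfsgLib.Sp.prod_isoTuples q d m hmd] at hcard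
  have hG : ∏ j : Fin m, (q ^ m - q ^ (j : ℕ)) = q ^ m.choose 2 * ∏ j ∈ Finset.range m, (q ^ (m - j) - 1) := by
    rw [Fin.prod_univ_eq_prod_range (fun j => q ^ m - q ^ j), Nat.choose_two_right, ← Finset.sum_range_id,
      ← Finset.prod_pow_eq_pow_sum, ← Finset.prod_mul_distrib]
    refine Finset.prod_congr rfl fun j hj => ?_
    rw [Finset.mem_range] at hj
    rw [Nat.mul_sub, mul_one, ← pow_add, Nat.add_sub_cancel' hj.le]
  rw [hG, mul_left_comm] at hcard
  have hQ := Nat.eq_of_mul_eq_mul_left (pow_pos (hq ▸ Fintype.card_pos : 0 < q) _) hcard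
  have hr : r ∣ ∏ j ∈ Finset.range m, (q ^ (2 * (d - j)) - 1) := hQ ▸ h.mul_right _
  obtain ⟨j, hj, hdj⟩ := (Prime.dvd_finsetProd_iff (Fact.out : r.Prime).prime _).1 hr
  have := Finset.mem_range.1 hj
  exact ⟨d - j, by omega, by omega, hdj⟩

section two

variable {V : Type*} [AddCommGroup V] [Module F V] [FiniteDimensional F V] {B : BilinForm F V} (hA : B.IsAlt)
  {T : V →ₗ[F] V}
include hA

/-- Isotropic invariant subspaces of a map with square `-1`. -/
lemma exists_ti_pairs [Fintype F] (h2 : (2 : F) ≠ 0) (hns : ¬ IsSquare (-1 : F))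
    (hTB : ∀ v w, B (T v) (T w) = B v w) (hT : ∀ v, T (T v) = (-1 : F) • v) :
    ∀ (s : ℕ) (U : Submodule F V), Nd B U → (∀ x ∈ U, T x ∈ U) → 4 * s ≤ finrank F U →
      ∃ W ≤ U, (∀ x ∈ W, T x ∈ W) ∧ Ti B W ∧ finrank F W = 2 * s := by
  intro s
  induction s with
  | zero =>
    exact fun U _ _ _ => ⟨⊥, bot_le, fun x hx => by rw [(Submodule.mem_bot F).1 hx, map_zero]; exact Submodule.zero_mem _,
      fun u hu v _ => by rw [(Submodule.mem_bot F).1 hu]; simp, by rw [mul_zero, finrank_bot]⟩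
  | succ s ih =>
    intro U hU hTU hd
    have hz : (-1 : F) * -1 = 1 := by ring
    obtain ⟨P₁, hP₁U, hP₁, hTP₁, hP₁d⟩ := S5956.exists_fixed_plane hA h2 (-1) hTB hT hz hTU hU
      fun e => by rw [e, finrank_bot] at hd; omega
    obtain ⟨hU₁, hU₁d⟩ := CfsgLib.SympSemiR.nd_inf_orth hA hU hP₁ hP₁U
    have hTU₁ : ∀ x ∈ U ⊓ B.orthogonal P₁, T x ∈ U ⊓ B.orthogonal P₁ := fun x hx =>
      ⟨hTU x hx.1, S5956.perp_inv hA (-1) hTB hT hz hTP₁ x hx.2⟩
    obtain ⟨P₂, hP₂U, hP₂, hTP₂, hP₂d⟩ := S5956.exists_fixed_plane hA h2 (-1) hTB hT hz hTU₁ hU₁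
      fun e => by rw [e, finrank_bot] at hU₁d; omega
    obtain ⟨hP, hPd⟩ := CfsgLib.SympSemiR.nd_sup hA hP₁ hP₂ fun u hu v hv => (hP₂U hv).2 u hu
    have hTP : ∀ x ∈ P₁ ⊔ P₂, T x ∈ P₁ ⊔ P₂ := fun x hx => by
      obtain ⟨a, ha, b, hb, rfl⟩ := Submodule.mem_sup.1 hx
      rw [map_add]
      exact add_mem (Submodule.mem_sup_left (hTP₁ a ha)) (Submodule.mem_sup_right (hTP₂ b hb))
    have hPU : P₁ ⊔ P₂ ≤ U := sup_le hP₁U (hP₂U.trans inf_le_left)
    obtain ⟨hU', hU'd⟩ := CfsgLib.SympSemiR.nd_inf_orth hA hU hP hPU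
    obtain ⟨W', hW'U, hTW', hW', hW'd⟩ := ih _ hU'
      (fun x hx => ⟨hTU x hx.1, S5956.perp_inv hA (-1) hTB hT hz hTP x hx.2⟩) (by omega)
    have key : ∀ v, v ≠ 0 → ∀ a b : F, a • v + b • T v = 0 → a = 0 ∧ b = 0 := by
      intro v hv a b hab
      have h1 := congrArg T hab
      rw [map_add, map_smul, map_smul, hT, map_zero, smul_smul] at h1
      have h3 : (a * a + b * b) • v = 0 := by
        have : a • (a • v + b • T v) - b • (a • T v + (b * -1) • v) = 0 := by rw [hab, h1, smul_zero, smul_zero, sub_zero]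
        rw [← this]; module
      have h4 : a * a + b * b = 0 := (smul_eq_zero.1 h3).resolve_right hv
      by_cases hb : b = 0
      · subst hb
        exact ⟨mul_self_eq_zero.1 (by linear_combination h4), rfl⟩
      · exact absurd ⟨a / b, by field_simp; linear_combination -h4⟩ hns
    have hself : ∀ P : Submodule F V, Nd B P → (∀ x ∈ P, T x ∈ P) → finrank F P = 2 → ∃ v ∈ P, v ≠ 0 ∧ B v (T v) ≠ 0 := by
      intro P hP hTP hPd
      obtain ⟨v, hv, hv0⟩ := P.exists_mem_ne_zero_of_ne_bot fun e => by rw [e, finrank_bot] at hPd; omega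
      refine ⟨v, hv, hv0, fun h0 => hv0 (hP v hv fun w hw => ?_)⟩
      have hli : LinearIndependent F ![v, T v] := LinearIndependent.pair_iff.2 (key v hv0)
      have hspan : Submodule.span F (Set.range ![v, T v]) = P :=
        Submodule.eq_of_le_of_finrank_le (Submodule.span_le.2 (by
          rintro _ ⟨j, rfl⟩
          fin_cases j
          · exact hv
          · exact hTP v hv)) (by rw [finrank_span_eq_card hli, Fintype.card_fin, hPd])
      rw [← hspan, Submodule.mem_span_range_iff_exists_fun] at hw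
      obtain ⟨co, rfl⟩ := hw
      simp [Fin.sum_univ_two, hA.self_eq_zero v, h0]
    obtain ⟨v₁, hv₁, hv₁0, hc₁⟩ := hself P₁ hP₁ hTP₁ hP₁d
    obtain ⟨v₂, hv₂, hv₂0, hc₂⟩ := hself P₂ hP₂ hTP₂ hP₂d
    set C := -(B v₂ (T v₂) / B v₁ (T v₁)) with hC
    have hodd : Fintype.card F % 2 = 1 := FiniteField.odd_card_of_char_ne_two fun hc =>
      h2 (by exact_mod_cast (ringChar.spec F 2).2 (by rw [hc]))
    obtain ⟨α, β, hαβ⟩ := FiniteField.exists_root_sum_quadratic (f := (Polynomial.X ^ 2 : Polynomial F))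
      (g := Polynomial.X ^ 2 - Polynomial.C C) (by simp) (by rw [Polynomial.degree_X_pow_sub_C two_pos]; rfl) hodd
    simp only [Polynomial.eval_pow, Polynomial.eval_X, Polynomial.eval_sub, Polynomial.eval_C] at hαβ
    set v := α • v₁ + β • T v₁ + v₂ with hv
    have horth : ∀ a ∈ P₁, ∀ b ∈ P₂, B a b = 0 := fun a ha b hb => (hP₂U hb).2 a ha
    have horth' : ∀ a ∈ P₁, ∀ b ∈ P₂, B b a = 0 := fun a ha b hb => by
      rw [CfsgLib.Sp.alt_flip hA a b, horth a ha b hb, neg_zero]
    have hvv : B v (T v) = 0 := by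
      have e5 : B (T v₁) v₁ = -B v₁ (T v₁) := CfsgLib.Sp.alt_flip hA v₁ (T v₁)
      have e1 := horth v₁ hv₁ _ (hTP₂ v₂ hv₂)
      have e2 := horth (T v₁) (hTP₁ v₁ hv₁) _ (hTP₂ v₂ hv₂)
      have e3 := horth' _ hv₁ v₂ hv₂
      have e4 := horth' _ (hTP₁ v₁ hv₁) v₂ hv₂
      simp only [hv, map_add, map_smul, hT, LinearMap.add_apply, LinearMap.smul_apply, smul_eq_mul, e1, e2, e3, e4, e5,
        hA.self_eq_zero v₁, hA.self_eq_zero (T v₁)]
      have hCc : C * B v₁ (T v₁) = -B v₂ (T v₂) := by rw [hC, neg_mul, div_mul_cancel₀ _ hc₁]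
      linear_combination B v₁ (T v₁) * hαβ + hCc
    have hvP : v ∈ P₁ ⊔ P₂ := add_mem (Submodule.mem_sup_left (add_mem (P₁.smul_mem _ hv₁) (P₁.smul_mem _ (hTP₁ v₁ hv₁))))
      (Submodule.mem_sup_right hv₂)
    have hv0 : v ≠ 0 := fun e => hc₂ (by
      have h0 := congrArg (fun w => B w (T v₂)) e
      simpa [hv, horth v₁ hv₁ _ (hTP₂ v₂ hv₂), horth (T v₁) (hTP₁ v₁ hv₁) _ (hTP₂ v₂ hv₂)] using h0)
    have hli : LinearIndependent F ![v, T v] := LinearIndependent.pair_iff.2 (key v hv0)
    set X := Submodule.span F (Set.range ![v, T v]) with hX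
    have hXP : X ≤ P₁ ⊔ P₂ := Submodule.span_le.2 (by
      rintro _ ⟨j, rfl⟩
      fin_cases j
      · exact hvP
      · exact hTP v hvP)
    have hXti : Ti B X := by
      intro a ha b hb
      obtain ⟨co, rfl⟩ := (Submodule.mem_span_range_iff_exists_fun F).1 ha
      obtain ⟨co', rfl⟩ := (Submodule.mem_span_range_iff_exists_fun F).1 hb
      simp [Fin.sum_univ_two, hA.self_eq_zero v, hA.self_eq_zero (T v), hvv, CfsgLib.Sp.alt_flip hA v (T v)]
    refine ⟨X ⊔ W', sup_le (hXP.trans hPU) (hW'U.trans inf_le_left), fun x hx => ?_,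
      CfsgLib.SympIsotropic.ti_sup hA hXti hW' fun u hu w hw => (hW'U hw).2 u (hXP hu), ?_⟩
    · obtain ⟨a, ha, b, hb, rfl⟩ := Submodule.mem_sup.1 hx
      rw [map_add]
      refine add_mem (Submodule.mem_sup_left ?_) (Submodule.mem_sup_right (hTW' b hb))
      obtain ⟨co, rfl⟩ := (Submodule.mem_span_range_iff_exists_fun F).1 ha
      simp only [Fin.sum_univ_two, map_add, map_smul, Matrix.cons_val_zero, Matrix.cons_val_one, hT]
      exact add_mem (X.smul_mem _ (Submodule.subset_span ⟨1, rfl⟩))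
        (X.smul_mem _ (X.smul_mem _ (Submodule.subset_span ⟨0, rfl⟩)))
    · have hd' : X ⊓ W' = ⊥ := (Submodule.eq_bot_iff _).2 fun x hx => hP x (hXP hx.1) fun y hy =>
        (CfsgLib.SympSemiR.mem_orth hA).1 (hW'U hx.2).2 y hy
      have := Submodule.finrank_sup_add_finrank_inf_eq X W'
      rw [hd', finrank_bot, add_zero, hX, finrank_span_eq_card hli, Fintype.card_fin, hW'd] at this
      rw [hX, this]
      ring

end two

set_option maxHeartbeats 1000000 in
/-- `r = 2 ≠ p`. -/
theorem involutions [Fintype F] {q : ℕ} (hq : Fintype.card F = q) (h2 : (2 : F) ≠ 0) (hd : 0 < d) (hmd : m ≤ d) :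
    All F d m 2 ↔ (Even m ∨ q % 4 = 1) := by
  classical
  have hA : (sympBilin d F).IsAlt := CfsgLib.Sp.sympBilin_isAlt
  have hndT := CfsgLib.SympWitness.nd_top (F := F) d
  have hq2 : q % 2 = 1 := hq ▸ FiniteField.odd_card_of_char_ne_two fun hc =>
    h2 (by exact_mod_cast (ringChar.spec F 2).2 (by rw [hc]))
  constructor
  · intro hall
    by_contra hcon
    push Not at hcon
    obtain ⟨hme, hq4⟩ := hcon
    have hns : ¬ IsSquare (-1 : F) := fun h => by
      rw [FiniteField.isSquare_neg_one_iff, hq] at h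
      omega
    let x : ↥(Matrix.symplecticGroup (Fin d) F) := ⟨Matrix.J (Fin d) F, SymplecticGroup.J_mem _ _⟩
    have hx2 : ((x ^ 2 : ↥(Matrix.symplecticGroup (Fin d) F)) : Matrix (Fin d ⊕ Fin d) (Fin d ⊕ Fin d) F) = (-1 : F) • 1 := by
      rw [SubmonoidClass.coe_pow, pow_two]
      show Matrix.J (Fin d) F * Matrix.J (Fin d) F = _
      rw [Matrix.J_squared, neg_one_smul]
    obtain ⟨W, hWd, -, hWT⟩ := hall x ⟨-1, hx2⟩ fun z hz => by
      have h1 := congrArg (fun M : Matrix (Fin d ⊕ Fin d) (Fin d ⊕ Fin d) F => M (.inr ⟨0, hd⟩) (.inl ⟨0, hd⟩)) hz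
      simp [x, Matrix.J] at h1
    have hTW : ∀ v ∈ W, Matrix.toLin' (x : Matrix (Fin d ⊕ Fin d) (Fin d ⊕ Fin d) F) v ∈ W :=
      fun v hv => hWT (Submodule.mem_map_of_mem hv)
    obtain ⟨s, b, -, -, -, -, -⟩ := CfsgLib.SquareScalar.hasPairBasis_of_not_square
      ((Matrix.toLin' (x : Matrix (Fin d ⊕ Fin d) (Fin d ⊕ Fin d) F)).restrict hTW) (-1) (fun v => Subtype.ext (by
        have := LinearMap.congr_fun (S5956.toLin'_pow_eq hx2) (v : Fin d ⊕ Fin d → F)
        rw [pow_two, Module.End.mul_apply, LinearMap.smul_apply, Module.End.one_apply] at this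
        exact this)) hns
    have := Module.finrank_eq_card_basis b
    rw [hWd] at this
    simp only [Fintype.card_sum, Fintype.card_prod, Fintype.card_fin, Fintype.card_bool, add_zero] at this
    exact hme ⟨s, by omega⟩
  · rintro hR x ⟨z, hz⟩ -
    set T : Module.End F (Fin d ⊕ Fin d → F) := Matrix.toLin' (x : Matrix (Fin d ⊕ Fin d) (Fin d ⊕ Fin d) F) with hTdef
    have hTB : ∀ v w, sympBilin d F (T v) (T w) = sympBilin d F v w := CfsgLib.SympWitness.isometry x
    have hT : ∀ v, T (T v) = z • v := fun v => by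
      have := LinearMap.congr_fun (S5956.toLin'_pow_eq hz) v
      rwa [← hTdef, pow_two, Module.End.mul_apply, LinearMap.smul_apply, Module.End.one_apply] at this
    have hz1 : z * z = 1 := by
      obtain ⟨v₁, hv₁⟩ : ∃ v₁ : Fin d ⊕ Fin d → F, v₁ ≠ 0 :=
        ⟨Pi.single (Sum.inl ⟨0, hd⟩) 1, fun h => one_ne_zero (α := F) (by simpa using congrFun h (Sum.inl ⟨0, hd⟩))⟩
      obtain ⟨w₁, hw₁⟩ : ∃ w, sympBilin d F v₁ w ≠ 0 := by
        by_contra h
        push Not at h
        exact hv₁ (CfsgLib.Sp.sympBilin_separatingLeft _ h)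
      have := (hTB (T v₁) (T w₁)).trans (hTB v₁ w₁)
      rw [hT, hT, map_smul, map_smul, LinearMap.smul_apply, smul_eq_mul, smul_eq_mul, ← mul_assoc] at this
      exact (mul_left_eq_self₀.1 this).resolve_right hw₁
    have done : ∀ W : Submodule F (Fin d ⊕ Fin d → F), finrank F W = m → Ti (sympBilin d F) W → (∀ v ∈ W, T v ∈ W) →
        ∃ W : Submodule F (Fin d ⊕ Fin d → F), finrank F ↥W = m ∧ (∀ u ∈ W, ∀ v ∈ W, Cfsg.sympForm d F u v = 0) ∧
          W.map T ≤ W :=
      fun W h1 h2 h3 => ⟨W, h1, (ti_iff W).2 h2, by rintro _ ⟨v, hv, rfl⟩; exact h3 v hv⟩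
    rcases mul_self_eq_one_iff.1 hz1 with rfl | rfl
    · haveI : Fact (Nat.Prime 2) := ⟨Nat.prime_two⟩
      have hT2 : T ^ 2 = 1 := LinearMap.ext fun v => by rw [pow_two, Module.End.mul_apply, hT, one_smul]; rfl
      have h20 : ((2 : ℕ) : F) ≠ 0 := by exact_mod_cast h2
      obtain ⟨hK, hR'⟩ := CfsgLib.SympSemiR.nd_fix_move hA hTB hT2 h20 hndT
      obtain ⟨a, ha⟩ := CfsgLib.SympSemiR.nd_even hA hK
      obtain ⟨b, hb⟩ := CfsgLib.SympSemiR.nd_even hA hR'
      have hab := LinearMap.finrank_range_add_finrank_ker (T - 1)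
      rw [ha, hb, finrank_std] at hab
      obtain ⟨W₁, hW₁, hW₁ti, hW₁d⟩ := CfsgLib.SympIsotropic.exists_ti hA (min m a) _ hK (by omega)
      obtain ⟨W₂, hW₂, hW₂ti, hW₂d⟩ := CfsgLib.SympIsotropic.exists_ti hA (m - min m a) _ hR' (by omega)
      refine done (W₁ ⊔ W₂) ?_ (CfsgLib.SympIsotropic.ti_sup hA hW₁ti hW₂ti fun u hu v hv =>
        CfsgLib.SympSemiR.fix_orth_move hTB (hW₁ hu) (hW₂ hv)) fun v hv => ?_
      · have := Submodule.finrank_sup_add_finrank_inf_eq W₁ W₂
        rw [((CfsgLib.OrderR.disjoint_fix_move T hT2 h20).mono hW₁ hW₂).eq_bot, finrank_bot, add_zero, hW₁d, hW₂d] at this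
        omega
      · obtain ⟨u, hu, w, hw, rfl⟩ := Submodule.mem_sup.1 hv
        have h1 : T u = u := by simpa [sub_eq_zero] using hW₁ hu
        have h2' : T w = -w := by
          obtain ⟨y, rfl⟩ := hW₂ hw
          simp [hT]
        rw [map_add, h1, h2']
        exact add_mem (Submodule.mem_sup_left hu) (Submodule.mem_sup_right (W₂.neg_mem hw))
    · by_cases hsq : IsSquare (-1 : F)
      · obtain ⟨l, hl⟩ := hsq
        have hti : ∀ μ : F, μ * μ = -1 → Ti (sympBilin d F) (LinearMap.ker (T - μ • 1)) := by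
          intro μ hμ u hu v hv
          rw [LinearMap.mem_ker, LinearMap.sub_apply, LinearMap.smul_apply, Module.End.one_apply, sub_eq_zero] at hu hv
          have := hTB u v
          rw [hu, hv, map_smul, map_smul, LinearMap.smul_apply, smul_eq_mul, smul_eq_mul, ← mul_assoc, hμ] at this
          have h0 : (2 : F) * sympBilin d F u v = 0 := by linear_combination -this
          exact (mul_eq_zero.1 h0).resolve_left h2
        have hl' : -l * -l = -1 := by rw [neg_mul_neg]; exact hl.symm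
        have hsup : LinearMap.ker (T - l • 1) ⊔ LinearMap.ker (T - (-l) • 1) = ⊤ := by
          refine Submodule.eq_top_iff'.2 fun v => Submodule.mem_sup.2
            ⟨(2 * l)⁻¹ • (T v + l • v), Submodule.smul_mem _ _ ?_, (2 * l)⁻¹ • (l • v - T v), Submodule.smul_mem _ _ ?_, ?_⟩
          · rw [LinearMap.mem_ker, LinearMap.sub_apply, map_add, map_smul, hT, LinearMap.smul_apply, Module.End.one_apply, hl,
              smul_add, smul_smul]
            abel
          · rw [LinearMap.mem_ker, LinearMap.sub_apply, map_sub, map_smul, hT, LinearMap.smul_apply, Module.End.one_apply, hl,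
              smul_sub, smul_smul, neg_smul, neg_mul]
            module
          · have hl0 : l ≠ 0 := by rintro rfl; simp at hl
            rw [← smul_add, show T v + l • v + (l • v - T v) = (2 * l) • v by module, smul_smul,
              inv_mul_cancel₀ (mul_ne_zero h2 hl0), one_smul]
        have h1 := CfsgLib.SympIsotropic.two_mul_le hA hndT le_top (hti l hl.symm)
        have h2' := CfsgLib.SympIsotropic.two_mul_le hA hndT le_top (hti (-l) hl')
        have h3 := Submodule.finrank_add_le_finrank_add_finrank (LinearMap.ker (T - l • 1)) (LinearMap.ker (T - (-l) • 1))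
        rw [hsup] at h3
        rw [finrank_top, finrank_std] at h1 h2' h3
        let b := Module.finBasis F (LinearMap.ker (T - l • 1))
        have hmle : m ≤ finrank F (LinearMap.ker (T - l • 1)) := by omega
        let w : Fin m → (Fin d ⊕ Fin d → F) := fun j => (b (Fin.castLE hmle j) : Fin d ⊕ Fin d → F)
        have hw : LinearIndependent F w :=
          (b.linearIndependent.comp _ (Fin.castLE_injective hmle)).map' (LinearMap.ker (T - l • 1)).subtype (Submodule.ker_subtype _)
        have hle : Submodule.span F (Set.range w) ≤ LinearMap.ker (T - l • 1) :=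
          Submodule.span_le.2 (by rintro _ ⟨j, rfl⟩; exact (b _).2)
        refine done _ (by rw [finrank_span_eq_card hw, Fintype.card_fin]) (fun u hu v hv => hti l hl.symm u (hle hu) v (hle hv))
          fun v hv => ?_
        have := hle hv
        rw [LinearMap.mem_ker, LinearMap.sub_apply, LinearMap.smul_apply, Module.End.one_apply, sub_eq_zero] at this
        rw [this]
        exact Submodule.smul_mem _ _ hv
      · have hme : Even m := hR.resolve_right fun h4 => hsq (by
          rw [FiniteField.isSquare_neg_one_iff, hq]; omega)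
        obtain ⟨s, rfl⟩ := hme
        obtain ⟨W, -, hTW, hW, hWd⟩ := exists_ti_pairs hA h2 hsq hTB hT s ⊤ hndT (fun _ _ => Submodule.mem_top)
          (by rw [finrank_top, finrank_std]; omega)
        exact done W (by omega) hW hTW

set_option maxHeartbeats 1000000 in
/-- `r ≠ p` odd. -/
theorem semisimple [Fintype F] {p : ℕ} [Fact p.Prime] [CharP F p] {q : ℕ} (hq : Fintype.card F = q) (hd : 0 < d)
    (hm : 0 < m) (hmd : m ≤ d) {r : ℕ} [Fact r.Prime] (hr2 : r ≠ 2) (hrp : r ≠ p)
    (hj0 : ∃ j, d - m < j ∧ j ≤ d ∧ r ∣ q ^ (2 * j) - 1)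
    (i c : ℕ) (hi : i = orderOf (q : ZMod r)) (hc : c = if Even i then i else 2 * i) :
    All F d m r ↔ i ≤ m ∧ 2 * (m % i) ≤ 2 * d % c ∧ (Odd i ∨ (r - 1) / i + 2 * (m / i) ≤ 2 * d / i) := by
  classical
  have hr0 : (r : F) ≠ 0 := CfsgLib.OrderR.cast_ne_zero (p := p) hrp
  have hrq : (q : ZMod r) ≠ 0 := CfsgLib.OrderR.natCast_ne_zero_of_card hq hrp
  have hi0 : 0 < i := hi ▸ (orderOf_pos_iff.2 (isOfFinOrder_iff_pow_eq_one.2
    ⟨r - 1, by have := (Fact.out : r.Prime).two_le; omega, ZMod.pow_card_sub_one_eq_one hrq⟩))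
  have hidvd : i ∣ r - 1 := hi ▸ orderOf_dvd_of_pow_eq_one (ZMod.pow_card_sub_one_eq_one hrq)
  have ht0 : 0 < (r - 1) / i := Nat.div_pos (Nat.le_of_dvd (by have := (Fact.out : r.Prime).two_le; omega) hidvd) hi0
  have hti : (r - 1) / i * i = r - 1 := Nat.div_mul_cancel hidvd
  have hrodd := (Fact.out : r.Prime).odd_of_ne_two hr2
  have hce : Even c := by
    rw [hc]
    split_ifs with he
    · exact he
    · exact even_two_mul i
  have hc0 : 0 < c := by rw [hc]; split_ifs <;> omega
  have hA : (sympBilin d F).IsAlt := CfsgLib.Sp.sympBilin_isAlt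
  have hndT := CfsgLib.SympWitness.nd_top (F := F) d
  obtain ⟨j₀, hj1, hj2, hj⟩ := hj0
  have hcj : c ∣ 2 * j₀ := by
    have hi2 : i ∣ 2 * j₀ := hi ▸ (CfsgLib.OrderR.orderOf_dvd_iff (by rw [← hq]; exact Fintype.card_pos)).2 hj
    rw [hc]
    split_ifs with he
    · exact hi2
    · exact mul_dvd_mul_left 2 ((Nat.coprime_two_right.2 (Nat.not_even_iff_odd.1 he)).dvd_of_dvd_mul_left hi2)
  have hcd : c ≤ 2 * d := (Nat.le_of_dvd (by omega) hcj).trans (by omega)
  constructor
  · intro hall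
    set E := 2 * d / c with hE
    have hEk : E * c + 2 * d % c = 2 * d := Nat.div_add_mod' (2 * d) c
    have hE0 : 0 < E := Nat.div_pos hcd hc0
    have hmodc := Nat.mod_lt (2 * d) hc0
    -- the decomposition `m = a + j i` yields both conditions
    have fin : ∀ a j k, m = a + j * i → a ≤ k → 2 * k = 2 * d % c → i ≤ m ∧ 2 * (m % i) ≤ 2 * d % c := by
      intro a j k h1 h2 h3
      rcases Nat.eq_zero_or_pos j with rfl | hj0'
      · exfalso
        obtain ⟨l, hl⟩ := hcj
        rw [zero_mul, add_zero] at h1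
        have hEl : E < l := Nat.lt_of_mul_lt_mul_left (show c * E < c * l by rw [mul_comm c E]; omega)
        have : c * (E + 1) ≤ c * l := Nat.mul_le_mul_left c hEl
        rw [mul_add, mul_one, mul_comm c E] at this
        omega
      · have hc2 : c ≤ 2 * i := by rw [hc]; split_ifs <;> omega
        have : 1 * i ≤ j * i := Nat.mul_le_mul_right i hj0'
        refine ⟨by omega, ?_⟩
        rw [h1, Nat.add_mul_mod_self_right, Nat.mod_eq_of_lt (by omega)]
        omega
    rcases Nat.even_or_odd i with heven | hodd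
    · have hci : c = i := by rw [hc, if_pos heven]
      rw [hci] at hce hc0 hEk hE hmodc hcd fin ⊢
      obtain ⟨h, hih⟩ := heven
      set t := (r - 1) / i with ht
      obtain ⟨G, hGinj, hGp⟩ : ∃ G : Fin t → Polynomial F, Function.Injective G ∧
          ∀ l, (G l).Monic ∧ Irreducible (G l) ∧ (G l).natDegree = i ∧ G l ∣ Polynomial.X ^ r - 1 ∧ G l ≠ Polynomial.X - Polynomial.C 1 :=
        CfsgLib.SympClasses.exists_factors hq hi hi0 hr0
      have witness : ∀ e, e ≤ E → 0 < e → ∃ a j, m = a + j * i ∧ 2 * a ≤ 2 * d - e * i ∧ j ≤ (e - t + 1) / 2 ∧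
          (e ≤ t → j = 0) := by
        intro e he he0
        have hei : e * i ≤ E * i := Nat.mul_le_mul_right i he
        obtain ⟨k, hk⟩ : ∃ k, e * h + k = d := ⟨d - e * h, by
          have : e * i = e * h + e * h := by rw [hih, mul_add]
          omega⟩
        let cls : Fin e → Fin t := fun b => if hb : (b : ℕ) < t then ⟨b, hb⟩ else ⟨0, ht0⟩
        obtain ⟨x, hx, hrank, hbound⟩ := CfsgLib.SympClasses.exists_class_witness hq hi hi0 hr0 hih hk G hGinj
          (fun l => ⟨(hGp l).1, (hGp l).2.1, (hGp l).2.2.1, (hGp l).2.2.2.1⟩) cls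
        have hxr : ((x ^ r : ↥(Matrix.symplecticGroup (Fin d) F)) : Matrix (Fin d ⊕ Fin d) (Fin d ⊕ Fin d) F) = (1 : F) • 1 := by
          rw [hx, OneMemClass.coe_one, one_smul]
        obtain ⟨W, hWd, hWti, hWT⟩ := hall x ⟨1, hxr⟩ fun z hz => by
          obtain ⟨hzz, hu⟩ := CfsgLib.SympWitness.exists_unsigned hd hrodd x hxr
          have hTr := S5956.toLin'_pow_eq hxr
          have hTz : Matrix.toLin' (x : Matrix (Fin d ⊕ Fin d) (Fin d ⊕ Fin d) F) = z • (1 : Module.End F (Fin d ⊕ Fin d → F)) := by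
            rw [hz, map_smul, Matrix.toLin'_one]; rfl
          have hz2 : z * z = 1 := by
            obtain ⟨u₁, hu₁⟩ : ∃ u₁ : Fin d ⊕ Fin d → F, u₁ ≠ 0 :=
              ⟨Pi.single (Sum.inl ⟨0, hd⟩) 1, fun h => one_ne_zero (α := F) (by simpa using congrFun h (Sum.inl ⟨0, hd⟩))⟩
            obtain ⟨w₁, hw₁⟩ : ∃ w, sympBilin d F u₁ w ≠ 0 := by
              by_contra h
              push Not at h
              exact hu₁ (CfsgLib.Sp.sympBilin_separatingLeft _ h)
            have := CfsgLib.SympWitness.isometry x u₁ w₁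
            rw [hTz] at this
            simp [← mul_assoc] at this
            exact (mul_left_eq_self₀.1 this).resolve_right hw₁
          have hzr : z ^ r = 1 := by
            have := congrArg (fun M : Matrix (Fin d ⊕ Fin d) (Fin d ⊕ Fin d) F => M (.inl ⟨0, hd⟩) (.inl ⟨0, hd⟩)) hxr
            simpa [hz, _root_.smul_pow] using this
          obtain ⟨s, hs⟩ := hrodd
          rw [hs, pow_succ, pow_mul, pow_two, hz2, one_pow, one_mul] at hzr
          rw [hTz, hzr, one_smul, sub_self, LinearMap.range_zero, finrank_bot] at hrank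
          exact (Nat.mul_pos he0 hi0).ne hrank
        obtain ⟨a, j, hm', ha, hj'⟩ := hbound W ((ti_iff W).1 hWti) fun v hv => hWT (Submodule.mem_map_of_mem hv)
        rw [hWd] at hm'
        have hfib : ∀ l, (Finset.univ.filter fun b => cls b = l).card / 2 ≤
            if l = ⟨0, ht0⟩ then (e - t + 1) / 2 else 0 := by
          intro l
          split_ifs with hl
          · refine Nat.div_le_div_right ?_
            have hsub : (Finset.univ.filter fun b => cls b = l) ⊆
                Finset.univ.filter fun b : Fin e => (b : ℕ) = 0 ∨ t ≤ (b : ℕ) := by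
              intro b hb
              simp only [Finset.mem_filter, Finset.mem_univ, true_and, cls, hl] at hb ⊢
              split_ifs at hb with hb'
              · exact Or.inl (congrArg Fin.val hb)
              · exact Or.inr (not_lt.1 hb')
            refine (Finset.card_le_card hsub).trans ?_
            have hinj : Set.InjOn (fun b : Fin e => if (b : ℕ) = 0 then 0 else (b : ℕ) - t + 1)
                ↑(Finset.univ.filter fun b : Fin e => (b : ℕ) = 0 ∨ t ≤ (b : ℕ)) := by
              intro a ha b hb hab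
              simp only [Finset.coe_filter, Finset.mem_univ, true_and, Set.mem_setOf_eq] at ha hb
              simp only at hab
              apply Fin.ext
              split_ifs at hab <;> omega
            refine (Finset.card_le_card_of_injOn (t := Finset.range (e - t + 1)) _ (fun b hb => ?_) hinj).trans
              (le_of_eq (Finset.card_range _))
            simp only [Finset.coe_filter, Finset.mem_univ, true_and, Set.mem_setOf_eq] at hb
            simp only [Finset.coe_range, Set.mem_Iio]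
            split_ifs <;> omega
          · refine le_of_eq (Nat.div_eq_of_lt (lt_of_le_of_lt ?_ one_lt_two))
            refine Finset.card_le_one.2 fun b hb b' hb' => ?_
            simp only [Finset.mem_filter, Finset.mem_univ, true_and, cls] at hb hb'
            split_ifs at hb with h1
            · split_ifs at hb' with h2
              · exact Fin.ext (by have := congrArg Fin.val (hb.trans hb'.symm); simpa using this)
              · exact absurd hb'.symm hl
            · exact absurd hb.symm hl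
        have hjle : j ≤ (e - t + 1) / 2 := hj'.trans ((Finset.sum_le_sum fun l _ => hfib l).trans (by simp))
        refine ⟨a, j, hm', ?_, hjle, fun het => ?_⟩
        · have : e * i = e * h + e * h := by rw [hih, mul_add]
          omega
        · rw [Nat.sub_eq_zero_of_le het] at hjle
          omega
      obtain ⟨a, j, h1, h2, -, -⟩ := witness E le_rfl hE0
      have hEsub : 2 * d - E * i = 2 * d % i := by omega
      obtain ⟨k, hk⟩ : ∃ k, 2 * k = 2 * d % i := by
        obtain ⟨w, hw⟩ := (Nat.even_sub (show E * i ≤ 2 * d by omega)).2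
          (iff_of_true (even_two_mul d) (hce.mul_left E))
        exact ⟨w, by omega⟩
      obtain ⟨him, hmod⟩ := fin a j k h1 (by omega) hk
      refine ⟨him, hmod, Or.inr ?_⟩
      by_contra hlt
      rw [← hE] at hlt
      obtain ⟨e, he, he0, hef⟩ : ∃ e, e ≤ E ∧ 0 < e ∧ (e = E ∧ E < t ∨ e = t + 2 * ((E - t) / 2) ∧ t ≤ E) := by
        by_cases hEt : E < t
        · exact ⟨E, le_rfl, hE0, Or.inl ⟨rfl, hEt⟩⟩
        · exact ⟨t + 2 * ((E - t) / 2), by omega, by omega, Or.inr ⟨rfl, by omega⟩⟩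
      obtain ⟨a, j, h1, h2, h3, h4⟩ := witness e he he0
      have hjlt : j + 1 ≤ m / i := by
        have hm1 : 1 ≤ m / i := Nat.div_pos him hi0
        rcases hef with ⟨rfl, hEt⟩ | ⟨he', hEt⟩
        · rw [h4 hEt.le]; omega
        · omega
      have h5 : (j + 1) * i ≤ m / i * i := Nat.mul_le_mul_right i hjlt
      have h6 := Nat.div_mul_le_self m i
      have h7 : E * i ≤ (e + 1) * i := Nat.mul_le_mul_right i (by omega)
      rw [add_mul, one_mul] at h5 h7
      omega
    · have hci : c = 2 * i := by rw [hc, if_neg (Nat.not_even_iff_odd.2 hodd)]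
      obtain ⟨k, hk⟩ : ∃ k, E * c + 2 * k = 2 * d := by
        obtain ⟨w, hw⟩ := (Nat.even_sub (show E * c ≤ 2 * d by omega)).2 (iff_of_true (even_two_mul d) (hce.mul_left E))
        exact ⟨w, by omega⟩
      obtain ⟨x, hx, hrank⟩ := CfsgLib.SympWitness.exists_witness hq hi hc hr0 hrq hk
      set T : Module.End F (Fin d ⊕ Fin d → F) :=
        Matrix.toLin' (x : Matrix (Fin d ⊕ Fin d) (Fin d ⊕ Fin d) F) with hTdef
      have hTB := CfsgLib.SympWitness.isometry x
      have hxr : ((x ^ r : ↥(Matrix.symplecticGroup (Fin d) F)) : Matrix (Fin d ⊕ Fin d) (Fin d ⊕ Fin d) F) = (1 : F) • 1 := by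
        rw [hx, OneMemClass.coe_one, one_smul]
      have hTr : T ^ r = 1 := by rw [hTdef, S5956.toLin'_pow_eq hxr, one_smul]
      obtain ⟨W, hWd, hWti, hWT⟩ := hall x ⟨1, hxr⟩ fun z hz => by
        have hTz : T = z • 1 := by rw [hTdef, hz, map_smul, Matrix.toLin'_one]; rfl
        have hz2 : z * z = 1 := by
          obtain ⟨u₁, hu₁⟩ : ∃ u₁ : Fin d ⊕ Fin d → F, u₁ ≠ 0 :=
            ⟨Pi.single (Sum.inl ⟨0, hd⟩) 1, fun h => one_ne_zero (α := F) (by simpa using congrFun h (Sum.inl ⟨0, hd⟩))⟩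
          obtain ⟨w₁, hw₁⟩ : ∃ w, sympBilin d F u₁ w ≠ 0 := by
            by_contra h
            push Not at h
            exact hu₁ (CfsgLib.Sp.sympBilin_separatingLeft _ h)
          have := hTB u₁ w₁
          rw [← hTdef, hTz] at this
          simp [← mul_assoc] at this
          exact (mul_left_eq_self₀.1 this).resolve_right hw₁
        have hzr : z ^ r = 1 := by
          have := congrArg (fun M : Matrix (Fin d ⊕ Fin d) (Fin d ⊕ Fin d) F => M (.inl ⟨0, hd⟩) (.inl ⟨0, hd⟩)) hxr
          simpa [hz, _root_.smul_pow] using this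
        obtain ⟨s, hs⟩ := hrodd
        rw [hs, pow_succ, pow_mul, pow_two, hz2, one_pow, one_mul] at hzr
        rw [hTz, hzr, one_smul, sub_self, LinearMap.range_zero, finrank_bot] at hrank
        exact (Nat.mul_pos hE0 hc0).ne hrank
      have hW := (ti_iff W).1 hWti
      have hTW : ∀ v ∈ W, T v ∈ W := fun v hv => hWT (Submodule.mem_map_of_mem hv)
      obtain ⟨hndK, -⟩ := CfsgLib.SympSemiR.nd_fix_move hA hTB hTr hr0 hndT
      have hMd := Submodule.finrank_sup_add_finrank_inf_eq (W ⊓ LinearMap.ker (T - 1)) (W.map (T - 1))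
      rw [CfsgLib.SympSemiR.inf_fix_sup_map hTr hr0 hTW,
        ((CfsgLib.OrderR.disjoint_fix_move T hTr hr0).mono inf_le_right LinearMap.map_le_range).eq_bot, finrank_bot,
        add_zero, hWd] at hMd
      obtain ⟨j, hj'⟩ : i ∣ finrank F ↥(W.map (T - 1)) := hi ▸ CfsgLib.OrderR.orderOf_dvd_finrank T hq hTr _
        (by rintro _ ⟨_, ⟨v, hv, rfl⟩, rfl⟩; exact ⟨T v, hTW v hv, by simp⟩) fun v hv hv1 =>
          Submodule.disjoint_def.1 (CfsgLib.OrderR.disjoint_fix_move T hTr hr0) v
            (by rw [LinearMap.mem_ker, LinearMap.sub_apply, Module.End.one_apply, sub_eq_zero]; exact hv1)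
            (LinearMap.map_le_range hv)
      have h2 : 2 * finrank F ↥(W ⊓ LinearMap.ker (T - 1)) ≤ finrank F ↥(LinearMap.ker (T - 1)) :=
        CfsgLib.SympIsotropic.two_mul_le hA hndK (inf_le_right : W ⊓ LinearMap.ker (T - 1) ≤ LinearMap.ker (T - 1))
        fun u hu v hv => hW u hu.1 v hv.1
      have hker := LinearMap.finrank_range_add_finrank_ker (T - 1)
      rw [hrank, finrank_std] at hker
      have hak : finrank F ↥(W ⊓ LinearMap.ker (T - 1)) ≤ k := by omega
      have hk2 : 2 * k = 2 * d % c := by omega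
      obtain ⟨him, hmod⟩ := fin (finrank F ↥(W ⊓ LinearMap.ker (T - 1))) j k (by rw [hMd, hj', mul_comm i]) hak hk2
      exact ⟨him, hmod, Or.inl hodd⟩
  · rintro ⟨-, hmod, hcase⟩ x ⟨z, hz⟩ -
    obtain ⟨hz1, hu⟩ := CfsgLib.SympWitness.exists_unsigned hd hrodd x hz
    set S : Module.End F (Fin d ⊕ Fin d → F) :=
      z • Matrix.toLin' (x : Matrix (Fin d ⊕ Fin d) (Fin d ⊕ Fin d) F) with hS
    obtain ⟨hSr, hSB⟩ := hu S hS
    obtain ⟨hndK, hndR⟩ := CfsgLib.SympSemiR.nd_fix_move hA hSB hSr hr0 hndT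
    have hTR : ∀ v ∈ LinearMap.range (S - 1), S v ∈ LinearMap.range (S - 1) := by
      rintro _ ⟨w, rfl⟩
      exact ⟨S w, by simp⟩
    have hfix : ∀ v ∈ LinearMap.range (S - 1), S v = v → v = 0 := fun v hv hv1 =>
      Submodule.disjoint_def.1 (CfsgLib.OrderR.disjoint_fix_move S hSr hr0) v
        (by rw [LinearMap.mem_ker, LinearMap.sub_apply, Module.End.one_apply, sub_eq_zero]; exact hv1) hv
    obtain ⟨e, he⟩ := CfsgLib.SympSemiR.dvd_finrank_moved hA hSB hSr hq hi hc hndR hTR hfix
    have hker := LinearMap.finrank_range_add_finrank_ker (S - 1)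
    rw [finrank_std, he] at hker
    have hEk : 2 * d / c * c + 2 * d % c = 2 * d := Nat.div_add_mod' (2 * d) c
    have heE : e * c ≤ 2 * d / c * c := Nat.mul_le_mul_right c ((Nat.le_div_iff_mul_le hc0).2 (by rw [mul_comm]; omega))
    have hml : m / i * i + m % i = m := Nat.div_add_mod' m i
    obtain ⟨j, W₁, hW₁R, hTW₁, hW₁, hW₁d, hji, hjK⟩ : ∃ (j : ℕ) (W : Submodule F (Fin d ⊕ Fin d → F)),
        W ≤ LinearMap.range (S - 1) ∧ (∀ v ∈ W, S v ∈ W) ∧ Ti (sympBilin d F) W ∧ finrank F W = j * i ∧ j * i ≤ m ∧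
        2 * (m - j * i) ≤ finrank F ↥(LinearMap.ker (S - 1)) := by
      rcases Nat.even_or_odd i with heven | hodd
      · have hci : c = i := by rw [hc, if_pos heven]
        rw [hci] at he hker hEk heE hmod
        rw [mul_comm i e] at he hker
        have hineq : (r - 1) / i + 2 * (m / i) ≤ 2 * d / i := hcase.resolve_left (Nat.not_odd_iff_even.2 heven)
        obtain ⟨h, hih⟩ := heven
        obtain ⟨j, hjm, hjc, hjmax⟩ : ∃ j, j ≤ m / i ∧ j ≤ (e + 1 - (r - 1) / i) / 2 ∧
            (j = m / i ∨ j = (e + 1 - (r - 1) / i) / 2) :=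
          ⟨min (m / i) ((e + 1 - (r - 1) / i) / 2), min_le_left _ _, min_le_right _ _, min_choice _ _⟩
        obtain ⟨W, hW, hTW, hWti, hWd⟩ := CfsgLib.SympIsotropic.exists_iso_sub hA hSB hSr hq hi hi0 hr0
          (R := LinearMap.range (S - 1)) hfix (b := r - 1) (σ := i) (by omega)
          (fun U hUR hU hTU hUd => by
            obtain ⟨Y, g, hYU, hTY, hgm, hgd, hg, hYd⟩ := CfsgLib.SympIsotropic.exists_same hSr hq hi hi0 hr0 hTU
              (fun v hv => hfix v (hUR hv)) hUd
            obtain ⟨X, hXY, hTX, hXti, hXd⟩ := CfsgLib.SympIsotropic.exists_piece_same hA hSB hSr hq hi hi0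
              (Fact.out : p.Prime) hih hTY (fun v hv => hfix v (hUR (hYU hv))) hgm hgd hg hYd
            exact ⟨X, hXY.trans hYU, hTX, hXti, hXd⟩)
          j _ le_rfl hndR hTR (by
            rcases Nat.eq_zero_or_pos j with h0 | h0
            · exact Or.inl h0
            · right
              have h1 : ((r - 1) / i + 2 * j) * i ≤ (e + 1) * i := Nat.mul_le_mul_right i (by omega)
              rw [add_mul, add_mul, hti, one_mul] at h1
              rw [he, mul_comm 2 i, mul_assoc, mul_comm i (2 * j)]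
              omega)
        refine ⟨j, W, hW, hTW, hWti, hWd, ?_, ?_⟩
        · have := Nat.mul_le_mul_right i hjm
          omega
        · rcases hjmax with rfl | rfl
          · omega
          · set j := (e + 1 - (r - 1) / i) / 2 with hjdef
            have h1 : (e + 2 * (m / i)) * i ≤ (2 * d / i + 2 * j) * i := Nat.mul_le_mul_right i (by omega)
            rw [add_mul, add_mul, mul_assoc, mul_assoc] at h1
            have := Nat.mul_le_mul_right i hjm
            omega
      · have hci : c = 2 * i := by rw [hc, if_neg (Nat.not_even_iff_odd.2 hodd)]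
        rw [hci] at he hker hEk heE hmod
        rw [mul_comm (2 * i) e] at he hker
        obtain ⟨j, hje, hjm, hjmax⟩ : ∃ j, j ≤ e ∧ j ≤ m / i ∧ (j = e ∨ j = m / i) :=
          ⟨min e (m / i), min_le_left _ _, min_le_right _ _, min_choice _ _⟩
        obtain ⟨W, hW, hTW, hWti, hWd⟩ := CfsgLib.SympIsotropic.exists_iso_sub hA hSB hSr hq hi hi0 hr0
          (R := LinearMap.range (S - 1)) hfix (b := 0) (σ := 0) (by omega)
          (fun U hUR hU hTU hUd => by
            have hne : U ≠ ⊥ := fun e => by rw [e, finrank_bot] at hUd; omega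
            obtain ⟨x₀, hx₀, hx₀0⟩ := U.exists_mem_ne_zero_of_ne_bot hne
            obtain ⟨y₀, hy₀, hxy₀⟩ : ∃ y ∈ U, sympBilin d F x₀ y ≠ 0 := by
              by_contra h
              push Not at h
              exact hx₀0 (hU x₀ hx₀ h)
            obtain ⟨X, hX, hTX, hXd, -, -, -, -⟩ := CfsgLib.SympSemiR.exists_irred hA hSB hSr hq hi hi0 hr0 hTU
              (fun v hv => hfix v (hUR hv)) (sympBilin d F x₀) ⟨y₀, hy₀, hxy₀⟩
            refine ⟨X, hX, hTX, ?_, hXd⟩
            rcases CfsgLib.SympIsotropic.dim_dich hSr hq hi (X := X ⊓ (sympBilin d F).orthogonal X)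
              (fun v hv => ⟨hTX v hv.1, CfsgLib.SympSemiR.orth_inv hA hSB hSr hTX v hv.2⟩)
              (fun v hv => hfix v (hUR (hX hv.1))) ((Submodule.finrank_mono inf_le_left).trans hXd.le) with h0 | h0
            · have hnd : Nd (sympBilin d F) X := fun u hu hall' =>
                (Submodule.eq_bot_iff _).1 h0 u ⟨hu, (CfsgLib.SympSemiR.mem_orth hA).2 hall'⟩
              have := CfsgLib.SympSemiR.nd_even hA hnd
              rw [hXd] at this
              exact absurd this (Nat.not_even_iff_odd.2 hodd)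
            · have hXe : X ⊓ (sympBilin d F).orthogonal X = X := Submodule.eq_of_le_of_finrank_le inf_le_left (by omega)
              exact fun a ha b hb => (CfsgLib.SympSemiR.mem_orth hA).1 (hXe.ge ha).2 b hb)
          j _ le_rfl hndR hTR (Or.inr (by
            rw [he, zero_add, add_zero, mul_comm (2 * i)]
            exact Nat.mul_le_mul_right _ hje))
        refine ⟨j, W, hW, hTW, hWti, hWd, ?_, ?_⟩
        · have := Nat.mul_le_mul_right i hjm
          omega
        · have := Nat.mul_le_mul_right i hjm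
          have h1 : e * (2 * i) = 2 * (e * i) := by ring
          rcases hjmax with rfl | rfl
          · omega
          · omega
    obtain ⟨W₂, hW₂K, hW₂, hW₂d⟩ := CfsgLib.SympIsotropic.exists_ti hA (m - j * i) _ hndK hjK
    refine ⟨W₁ ⊔ W₂, ?_, (ti_iff _).2 (CfsgLib.SympIsotropic.ti_sup hA hW₁ hW₂ fun u hu v hv => ?_),
      S5956.map_le_of_smul (left_ne_zero_of_mul (a := z) (b := z) (by rw [hz1]; exact one_ne_zero)) fun v hv => ?_⟩
    · have := Submodule.finrank_sup_add_finrank_inf_eq W₁ W₂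
      rw [(((CfsgLib.OrderR.disjoint_fix_move S hSr hr0).symm).mono hW₁R hW₂K).eq_bot, finrank_bot, add_zero, hW₁d,
        hW₂d] at this
      omega
    · rw [CfsgLib.Sp.alt_flip hA v u, CfsgLib.SympSemiR.fix_orth_move hSB (hW₂K hv) (hW₁R hu), neg_zero]
    · obtain ⟨u₁, hu₁, u₂, hu₂, rfl⟩ := Submodule.mem_sup.1 hv
      rw [← hS, map_add]
      have h1 : S u₂ = u₂ := by simpa [sub_eq_zero] using hW₂K hu₂
      rw [h1]
      exact add_mem (Submodule.mem_sup_left (hTW₁ u₁ hu₁)) (Submodule.mem_sup_right hu₂)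

/-- Elements of prime order of PSp_n(q) with no fixed totally isotropic `m`-space. Here `T = PSp_n(q)` with `n = 2d ≥ 4`, `(n, q) ≠ (4, 2)`, realised through the symplectic matrices over the field `F` with `q` elements (preserving the standard alternating form); an element of `T` of prime order `r` is such a matrix `x` with `x^r` scalar and `x` not scalar. For `r ≠ p` let `i` be the multiplicative order of `q` modulo `r`, `c = i` for `i` even and `c = 2i` for `i` odd, and write `k = n mod c`, `ℓ = m mod i`, `ℓ' = m mod c`, `n' = ⌊n/i⌋`, `m' = ⌊m/i⌋`, `t = (r−1)/i`. Let `1 ≤ m ≤ n/2` and let `r` be a prime dividing the number of totally isotropic `m`-spaces. Then every element of `T` of order `r` fixes a totally isotropic `m`-space if and only if either (i) `r = 2 ≠ p` and (`m` is even or `q ≡ 1 (mod 4)`); or (ii) `r ≠ p`, `r > 2`, `i ≤ m`, `k ≥ 2ℓ`, and (`i` is odd or `n' − 2m' ≥ t`). -/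
theorem result {F : Type*} [Field F] [Fintype F] {p : ℕ} [Fact p.Prime] [CharP F p] {q : ℕ} (hq : Fintype.card F = q)
    (d m : ℕ) (hd : 2 ≤ d) (hT : (d, q) ≠ (2, 2)) (hm : 1 ≤ m) (hmd : m ≤ d)
    (r : ℕ) [Fact r.Prime]
    (hrΩ : r ∣ Nat.card {W : Submodule F (Fin d ⊕ Fin d → F) // Module.finrank F ↥W = m ∧ (∀ u ∈ W, ∀ v ∈ W, Cfsg.sympForm d F u v = 0)})
    (i c : ℕ) (hi : i = orderOf (q : ZMod r)) (hc : c = if Even i then i else 2 * i) :
    (∀ x : ↥(Matrix.symplecticGroup (Fin d) F),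
      (∃ z : F, ((x ^ r : ↥(Matrix.symplecticGroup (Fin d) F)) : Matrix (Fin d ⊕ Fin d) (Fin d ⊕ Fin d) F) = z • (1 : Matrix (Fin d ⊕ Fin d) (Fin d ⊕ Fin d) F)) →
      (∀ z : F, (x : Matrix (Fin d ⊕ Fin d) (Fin d ⊕ Fin d) F) ≠ z • (1 : Matrix (Fin d ⊕ Fin d) (Fin d ⊕ Fin d) F)) →
      ∃ W : Submodule F (Fin d ⊕ Fin d → F), Module.finrank F ↥W = m ∧ (∀ u ∈ W, ∀ v ∈ W, Cfsg.sympForm d F u v = 0) ∧
        W.map (Matrix.toLin' (x : Matrix (Fin d ⊕ Fin d) (Fin d ⊕ Fin d) F)) ≤ W) ↔
    ((r = 2 ∧ p ≠ 2 ∧ (Even m ∨ q % 4 = 1)) ∨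
     (r ≠ p ∧ 2 < r ∧ i ≤ m ∧ 2 * (m % i) ≤ (2 * d) % c ∧ (Odd i ∨ (r - 1) / i + 2 * (m / i) ≤ (2 * d) / i))) := by
  classical
  change All F d m r ↔ _
  obtain ⟨j, hj1, hj2, hj⟩ := dvd_of_dvd_count hq hmd hrΩ
  have hrp : r ≠ p := by
    rintro rfl
    have hrq : r ∣ q := by
      obtain ⟨n, -, hn⟩ := FiniteField.card F r
      rw [← hq, hn]
      exact dvd_pow_self r n.pos.ne'
    have h1 : r ∣ q ^ (2 * j) := hrq.trans (dvd_pow_self q (by omega))
    have h2 := Nat.dvd_sub h1 hj
    rw [Nat.sub_sub_self (Nat.one_le_pow _ _ (by rw [← hq]; exact Fintype.card_pos)), Nat.dvd_one] at h2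
    exact (Fact.out : r.Prime).one_lt.ne' h2
  rcases eq_or_ne r 2 with hr2 | hr2
  · subst hr2
    have h2 : (2 : F) ≠ 0 := by exact_mod_cast CfsgLib.OrderR.cast_ne_zero (F := F) (p := p) hrp
    rw [involutions hq h2 (by omega) hmd]
    constructor
    · exact fun h => Or.inl ⟨rfl, Ne.symm hrp, h⟩
    · rintro (⟨-, -, h⟩ | ⟨-, h, -⟩)
      · exact h
      · omega
  · rw [semisimple hq (by omega) hm hmd hr2 hrp ⟨j, hj1, hj2, hj⟩ i c hi hc]
    constructor
    · rintro ⟨h1, h2, h3⟩
      exact Or.inr ⟨hrp, lt_of_le_of_ne (Fact.out : r.Prime).two_le (Ne.symm hr2), h1, h2, h3⟩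
    · rintro (⟨h, -⟩ | ⟨-, -, h⟩)
      · exact absurd h hr2
      · exact h

end Cfsg.Agent.S5955
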