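import Cfsg.Statements.S5957
import Cfsg.Agent.Lib.Maximal99.SquareScalar

set_option autoImplicit false
open scoped MatrixGroups
open Cfsg

namespace Cfsg.Agent.S5957

open Module

/-- The numerology: `j` exchanged pairs of blocks. -/
lemma numerology (a t s : ℕ) (ha : 1 ≤ a) (ht : 2 ≤ t) (hs : 2 * s ≤ a * t) :
    ∃ j, 2 * j ≤ t ∧ j * a ≤ s ∧ s - j * a ≤ (t - 2 * j) * (a / 2) := by
  rcases Nat.even_or_odd a with hae | hao
  · obtain ⟨h, rfl⟩ := hae
    refine ⟨0, Nat.zero_le _, by simp, ?_⟩
    have e1 : (h + h) / 2 = h := by omega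
    have e2 : (h + h) * t = 2 * (t * h) := by ring
    rw [e1, Nat.zero_mul, Nat.mul_zero, Nat.sub_zero, Nat.sub_zero]
    omega
  · obtain ⟨h, rfl⟩ := hao
    have e1 : (2 * h + 1) / 2 = h := by omega
    rw [e1]
    by_cases hlt : s / (2 * h + 1) < t / 2
    · refine ⟨s / (2 * h + 1), by omega, Nat.div_mul_le_self _ _, ?_⟩
      have e3 := Nat.mod_add_div' s (2 * h + 1)
      have e4 := Nat.mod_lt s (show 2 * h + 1 > 0 by omega)
      have e5 : 2 * h ≤ (t - 2 * (s / (2 * h + 1))) * h := Nat.mul_le_mul_right h (by omega)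
      omega
    · refine ⟨t / 2, by omega, (Nat.mul_le_mul_right _ (not_lt.1 hlt)).trans (Nat.div_mul_le_self _ _), ?_⟩
      rcases Nat.mod_two_eq_zero_or_one t with h2 | h2
      · have e6 : (2 * h + 1) * t = 2 * (t / 2 * (2 * h + 1)) := by
          calc (2 * h + 1) * t = (2 * h + 1) * (2 * (t / 2)) := by rw [show 2 * (t / 2) = t by omega]
            _ = _ := by ring
        omega
      · have e6 : (2 * h + 1) * t = 2 * (t / 2 * (2 * h + 1)) + (2 * h + 1) := by
          calc (2 * h + 1) * t = (2 * h + 1) * (2 * (t / 2) + 1) := by rw [show 2 * (t / 2) + 1 = t by omega]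
            _ = _ := by ring
        rw [show t - 2 * (t / 2) = 1 by omega, Nat.one_mul]
        omega

/-- A map with a pair basis permutes the members of some decomposition into equidimensional subspaces. -/
theorem exists_decomposition {F : Type*} [Field F] {n a t : ℕ} (ha : 1 ≤ a) (ht : 2 ≤ t) (hn : n = a * t)
    (T : (Fin n → F) →ₗ[F] (Fin n → F)) (hT : Function.Injective T) {z : F} {s l : ℕ}
    (hb : CfsgLib.SquareScalar.HasPairBasis T z s l) :
    ∃ D : Fin t → Submodule F (Fin n → F), Cfsg.Geo.IsMDecomposition a D ∧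
      ∃ σ : Equiv.Perm (Fin t), ∀ j, (D j).map T = D (σ j) := by
  classical
  obtain ⟨b, μ, hb1, hb2, hb3, -⟩ := hb
  have hcard : 2 * s + l = a * t := by
    have := Module.finrank_eq_card_basis b
    simp only [Module.finrank_fin_fun, Fintype.card_sum, Fintype.card_prod, Fintype.card_fin, Fintype.card_bool] at this
    omega
  obtain ⟨j, hjt, hjs, hrest⟩ := numerology a t s ha ht (by omega)
  have hdivlt : ∀ i : Fin s, (i : ℕ) < j * a → (i : ℕ) / a < j := fun i h => (Nat.div_lt_iff_lt_mul (by omega)).2 h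
  have hh : ∀ i : Fin s, ¬ (i : ℕ) < j * a → 0 < a / 2 := fun i h => by
    rcases Nat.eq_zero_or_pos (a / 2) with h0 | h0
    · rw [h0, Nat.mul_zero] at hrest; omega
    · exact h0
  have hdiv2 : ∀ i : Fin s, ¬ (i : ℕ) < j * a → 2 * j + ((i : ℕ) - j * a) / (a / 2) < t := fun i h => by
    have := (Nat.div_lt_iff_lt_mul (hh i h)).2 (show (i : ℕ) - j * a < (t - 2 * j) * (a / 2) by omega)
    omega
  have hmod2 : ∀ (i : Fin s) (ε : Bool), ¬ (i : ℕ) < j * a →
      2 * (((i : ℕ) - j * a) % (a / 2)) + cond ε 1 0 < a := fun i ε h => by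
    have := Nat.mod_lt ((i : ℕ) - j * a) (hh i h)
    cases ε <;> simp <;> omega
  -- the slot of each basis vector of a pair
  let ψ : Fin s × Bool → Fin t × Fin a := fun k =>
    if h : (k.1 : ℕ) < j * a then
      (⟨(k.1 : ℕ) / a + cond k.2 j 0, by
          have := hdivlt k.1 h
          cases k.2 <;> simp <;> omega⟩,
        ⟨(k.1 : ℕ) % a, Nat.mod_lt _ (by omega)⟩)
    else
      (⟨2 * j + ((k.1 : ℕ) - j * a) / (a / 2), hdiv2 k.1 h⟩,
        ⟨2 * (((k.1 : ℕ) - j * a) % (a / 2)) + cond k.2 1 0, hmod2 k.1 k.2 h⟩)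
  have hψ : Function.Injective ψ := by
    rintro ⟨i, e⟩ ⟨i', e'⟩ h
    simp only [ψ] at h
    split_ifs at h with h1 h2 h2 <;> simp only [Prod.mk.injEq, Fin.ext_iff] at h <;> obtain ⟨hA, hB⟩ := h
    · have := hdivlt i h1
      have := hdivlt i' h2
      have := Nat.div_add_mod (i : ℕ) a
      have := Nat.div_add_mod (i' : ℕ) a
      generalize (i : ℕ) / a = u at *
      generalize (i' : ℕ) / a = u' at *
      generalize (i : ℕ) % a = w at *
      generalize (i' : ℕ) % a = w' at *
      cases e <;> cases e' <;> simp only [Bool.cond_true, Bool.cond_false, Nat.add_zero] at hA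
      · obtain rfl : u = u' := by omega
        simp only [Prod.mk.injEq, and_true]
        exact Fin.ext (by omega)
      · omega
      · omega
      · obtain rfl : u = u' := by omega
        simp only [Prod.mk.injEq, and_true]
        exact Fin.ext (by omega)
    · have := hdivlt i h1
      generalize (i : ℕ) / a = u at *
      generalize ((i' : ℕ) - j * a) / (a / 2) = u' at *
      cases e <;> simp only [Bool.cond_true, Bool.cond_false] at hA <;> omega
    · have := hdivlt i' h2
      generalize (i' : ℕ) / a = u at *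
      generalize ((i : ℕ) - j * a) / (a / 2) = u' at *
      cases e' <;> simp only [Bool.cond_true, Bool.cond_false] at hA <;> omega
    · have := Nat.div_add_mod ((i : ℕ) - j * a) (a / 2)
      have := Nat.div_add_mod ((i' : ℕ) - j * a) (a / 2)
      generalize ((i : ℕ) - j * a) / (a / 2) = u at *
      generalize ((i' : ℕ) - j * a) / (a / 2) = u' at *
      generalize ((i : ℕ) - j * a) % (a / 2) = w at *
      generalize ((i' : ℕ) - j * a) % (a / 2) = w' at *
      obtain rfl : u = u' := by omega
      cases e <;> cases e' <;> simp only [Bool.cond_true, Bool.cond_false] at hB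
      · simp only [Prod.mk.injEq, and_true]; exact Fin.ext (by omega)
      · omega
      · omega
      · simp only [Prod.mk.injEq, and_true]; exact Fin.ext (by omega)
  -- the permutation of the summands
  let τ : Fin t → Fin t := fun k =>
    if h1 : (k : ℕ) < j then ⟨(k : ℕ) + j, by omega⟩
    else if h2 : (k : ℕ) < 2 * j then ⟨(k : ℕ) - j, by omega⟩ else k
  have hτ : Function.Involutive τ := by
    intro k
    have hτv : ∀ k : Fin t, ((τ k : Fin t) : ℕ) = if (k : ℕ) < j then (k : ℕ) + j else if (k : ℕ) < 2 * j then (k : ℕ) - j else k := by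
      intro k
      simp only [τ]
      split_ifs <;> rfl
    refine Fin.ext ?_
    rw [hτv, hτv]
    split_ifs <;> omega
  let σ : Equiv.Perm (Fin t) := hτ.toPerm τ
  have hswap : ∀ i : Fin s, σ (ψ (i, false)).1 = (ψ (i, true)).1 ∧ σ (ψ (i, true)).1 = (ψ (i, false)).1 := by
    intro i
    show τ _ = _ ∧ τ _ = _
    by_cases h : (i : ℕ) < j * a
    · have hlt := hdivlt i h
      simp only [ψ, dif_pos h, τ, Bool.cond_true, Bool.cond_false, Nat.add_zero]
      constructor
      · rw [dif_pos hlt]
      · rw [dif_neg (Nat.not_lt.2 (Nat.le_add_left _ _)), dif_pos ((Nat.add_lt_add_right hlt j).trans_le (Nat.two_mul j).ge)]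
        exact Fin.ext (Nat.add_sub_cancel _ _)
    · simp only [ψ, dif_neg h, τ]
      rw [dif_neg (Nat.not_lt.2 ((Nat.le_mul_of_pos_left j two_pos).trans (Nat.le_add_right _ _))),
        dif_neg (Nat.not_lt.2 (Nat.le_add_right _ _))]
      exact ⟨rfl, rfl⟩
  have hfull : ∀ w : Fin t × Fin a, (w.1 : ℕ) < 2 * j → w ∈ Set.range ψ := by
    rintro ⟨⟨k, hk⟩, ⟨r, hr⟩⟩ hw
    simp only at hw
    have hb' : ∀ k', k' < j → k' * a + r < j * a := fun k' hk' => by
      have := Nat.mul_le_mul_right a (show k' + 1 ≤ j by omega)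
      rw [Nat.add_one_mul] at this
      omega
    have hd : ∀ k', (k' * a + r) / a = k' ∧ (k' * a + r) % a = r := fun k' => by
      refine ⟨?_, by rw [Nat.mul_comm, Nat.mul_add_mod, Nat.mod_eq_of_lt hr]⟩
      rw [Nat.mul_comm, Nat.mul_add_div (by omega), Nat.div_eq_of_lt hr, Nat.add_zero]
    by_cases hkj : k < j
    · have := hb' k hkj
      refine ⟨(⟨k * a + r, by omega⟩, false), ?_⟩
      simp only [ψ, dif_pos this, hd k, Bool.cond_false, Nat.add_zero]
    · have := hb' (k - j) (by omega)
      refine ⟨(⟨(k - j) * a + r, by omega⟩, true), ?_⟩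
      simp only [ψ, dif_pos this, hd (k - j), Bool.cond_true]
      exact Prod.ext (Fin.ext (by simp only; omega)) rfl
  -- all slots
  have hl : Fintype.card (Fin l) = Fintype.card ↥((Set.range ψ)ᶜ : Set (Fin t × Fin a)) := by
    rw [Fintype.card_compl_set, Set.card_range_of_injective hψ]
    simp only [Fintype.card_prod, Fintype.card_fin, Fintype.card_bool, Nat.mul_comm t a]
    omega
  let e : (Fin s × Bool) ⊕ Fin l ≃ Fin t × Fin a :=
    ((Equiv.ofInjective ψ hψ).sumCongr (Fintype.equivOfCardEq hl)).trans (Equiv.Set.sumCompl _)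
  let c := b.reindex e
  have hc1 : ∀ k, e (.inl k) = ψ k := fun k => by simp [e]
  have hc2 : ∀ m, ¬ ((e (.inr m)).1 : ℕ) < 2 * j := fun m h => by
    have := hfull _ h
    simp only [e, Equiv.trans_apply, Equiv.sumCongr_apply, Sum.map_inr, Equiv.Set.sumCompl_apply_inr] at this
    exact (Fintype.equivOfCardEq hl m).2 this
  let D : Fin t → Submodule F (Fin n → F) := fun k => Submodule.span F (Set.range fun r : Fin a => c (k, r))
  have hD : ∀ k, finrank F ↥(D k) = a := fun k => by
    rw [show D k = Submodule.span F (Set.range fun r : Fin a => c (k, r)) from rfl,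
      finrank_span_eq_card (R := F) (b := fun r : Fin a => c (k, r)) (c.linearIndependent.comp (fun r : Fin a => (k, r)) (fun x y h => (Prod.mk.inj h).2)), Fintype.card_fin]
  refine ⟨D, ⟨ht, ha, hD, ?_, ?_⟩, σ, fun k => ?_⟩
  · rw [iSupIndep_def]
    intro k
    have h := c.linearIndependent.disjoint_span_image (s := {w | w.1 = k}) (t := {w | w.1 ≠ k})
      (Set.disjoint_left.2 fun w h1 h2 => h2 h1)
    refine h.mono (Submodule.span_mono ?_) (iSup₂_le fun k' hk' => Submodule.span_mono ?_)
    · rintro _ ⟨r, rfl⟩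
      exact ⟨(k, r), rfl, rfl⟩
    · rintro _ ⟨r, rfl⟩
      exact ⟨(k', r), hk', rfl⟩
  · rw [eq_top_iff, ← c.span_eq, Submodule.span_le]
    rintro _ ⟨⟨k, r⟩, rfl⟩
    exact le_iSup D k (Submodule.subset_span ⟨r, rfl⟩)
  · refine Submodule.eq_of_le_of_finrank_le ?_ ?_
    · rw [Submodule.map_span_le]
      rintro _ ⟨r, rfl⟩
      have hmem : ∀ w : Fin t × Fin a, c w ∈ D w.1 := fun w => Submodule.subset_span ⟨w.2, rfl⟩
      have hcb : ∀ i, c (e i) = b i := fun i => by simp [c]
      obtain ⟨i, hi⟩ := e.surjective (k, r)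
      show T (c (k, r)) ∈ D (σ k)
      have hk : k = (e i).1 := by rw [hi]
      rw [← hi, hcb, hk]
      rcases i with ⟨i, ε⟩ | m
      · cases ε
        · rw [hb1, hc1, (hswap i).1, ← hcb, hc1]
          exact hmem _
        · rw [hb2, hc1, (hswap i).2, ← hcb, hc1]
          exact Submodule.smul_mem _ _ (hmem _)
      · rw [hb3]
        refine Submodule.smul_mem _ _ ?_
        have : σ (e (.inr m)).1 = (e (.inr m)).1 := by
          show τ _ = _
          simp only [τ]
          rw [dif_neg (by have := hc2 m; omega), dif_neg (hc2 m)]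
        rw [this, ← hcb]
        exact hmem _
    · rw [hD, ← (Submodule.equivMapOfInjective T hT (D k)).finrank_eq, hD]

/-- Involutions of PSL_n(q) and imprimitive subgroups. Here `T = PSL_n(F)` for a field `F` with `q = p^f` elements (`n ≥ 2`, `(n, q) ≠ (2, 2), (2, 3)`), `n = a·t` with `t ≥ 2`, and Ω is the set of direct-sum decompositions of `F^n` into `t` subspaces of dimension `a` (unordered; their number is the number of ordered ones divided by `t!`), whose stabilizers are the imprimitive subgroups of type GL_a(q) ≀ S_t (maximal except in some small cases; maximality is not assumed); an element of `T` of prime order `r` (a matrix `x` of determinant 1 with `x^r` scalar, `x` not scalar) fixes a point of Ω when it permutes the summands of some such decomposition. If the number of such decompositions is even, then every involution of `T` stabilizes one of them (the action is 2-elusive). -/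
theorem result {F : Type*} [Field F] [Fintype F] {p : ℕ} [Fact p.Prime] [CharP F p] {q : ℕ} (hq : Fintype.card F = q)
    (n a t : ℕ) (hn : 2 ≤ n) (hT : (n, q) ≠ (2, 2) ∧ (n, q) ≠ (2, 3)) (hat : n = a * t) (ha : 1 ≤ a) (ht : 2 ≤ t)
    (hΩ : 2 ∣ Nat.card {D : Fin t → Submodule F (Fin n → F) // Cfsg.Geo.IsMDecomposition a D} / Nat.factorial t)
    (x : Matrix.SpecialLinearGroup (Fin n) F)
    (hx1 : ∃ z : F, ((x ^ 2 : Matrix.SpecialLinearGroup (Fin n) F) : Matrix (Fin n) (Fin n) F) = z • (1 : Matrix (Fin n) (Fin n) F))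
    (hx2 : ∀ z : F, (x : Matrix (Fin n) (Fin n) F) ≠ z • (1 : Matrix (Fin n) (Fin n) F)) :
    ∃ D : Fin t → Submodule F (Fin n → F), Cfsg.Geo.IsMDecomposition a D ∧
        ∃ σ : Equiv.Perm (Fin t), ∀ j, (D j).map (Matrix.toLin' (x : Matrix (Fin n) (Fin n) F)) = D (σ j) := by
  obtain ⟨z, hz⟩ := hx1
  have : Nonempty (Fin n) := ⟨⟨0, by omega⟩⟩
  have hz0 : z ≠ 0 := by
    rintro rfl
    have h := congrArg Matrix.det hz
    rw [zero_smul, Matrix.det_zero, (x ^ 2).2] at h
    exact zero_ne_one h.symm
  have hTT : ∀ v, Matrix.toLin' (x : Matrix (Fin n) (Fin n) F) (Matrix.toLin' (x : Matrix (Fin n) (Fin n) F) v) = z • v := by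
    intro v
    rw [Matrix.toLin'_apply, Matrix.toLin'_apply, Matrix.mulVec_mulVec, ← pow_two,
      ← Matrix.SpecialLinearGroup.coe_pow, hz, Matrix.smul_mulVec, Matrix.one_mulVec]
  obtain ⟨s, l, hb⟩ := CfsgLib.SquareScalar.exists_pairBasis _ z hz0 hTT
  refine exists_decomposition ha ht hat _ ((injective_iff_map_eq_zero _).2 fun v hv => ?_) hb
  have := hTT v
  rw [hv, map_zero] at this
  exact (smul_eq_zero.1 this.symm).resolve_left hz0

end Cfsg.Agent.S5957
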