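import Cfsg.Statements.S5958
import Cfsg.Agent.Lib.Maximal99.SemiR
import Cfsg.Agent.Lib.Maximal99.BlockDecomp
-- import your own Cfsg.Agent.* helpers here

set_option autoImplicit false
open scoped MatrixGroups
open Cfsg

namespace Cfsg.Agent.S5958

open Module Polynomial

section fwd

variable {F : Type*} [Field F] {n a t r : ℕ} [Fact r.Prime]

/-- A permutation of the summands induced by a map of order `r` has order dividing `r`. -/
lemma perm_pow {D : Fin t → Submodule F (Fin n → F)} (hD : Cfsg.Geo.IsMDecomposition a D)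
    {T : Module.End F (Fin n → F)} (hT : T ^ r = 1) {σ : Equiv.Perm (Fin t)} (hσ : ∀ j, (D j).map T = D (σ j)) :
    σ ^ r = 1 ∧ ∀ (i : ℕ) j, ∀ v ∈ D j, (T ^ i) v ∈ D ((σ ^ i) j) := by
  have h : ∀ (i : ℕ) j, (D j).map (T ^ i) = D ((σ ^ i) j) := by
    intro i
    induction i with
    | zero => intro j; simp [Module.End.one_eq_id]
    | succ i ih =>
      intro j
      rw [pow_succ', Module.End.mul_eq_comp, Submodule.map_comp, ih, hσ, pow_succ', Equiv.Perm.mul_apply]
  refine ⟨Equiv.ext fun j => CfsgLib.BlockDecomp.injective_of_isMDecomposition hD ?_, fun i j v hv => ?_⟩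
  · rw [← h, hT, Module.End.one_eq_id, Submodule.map_id]; rfl
  · rw [← h]; exact Submodule.mem_map_of_mem hv

/-- Inside an orbit of a moved summand the powers are at distinct places. -/
lemma orbit_injective {σ : Equiv.Perm (Fin t)} (hσ : σ ^ r = 1) {j : Fin t} (hj : σ j ≠ j) :
    Function.Injective fun i : Fin r => (σ ^ (i : ℕ)) j := by
  intro i i' h
  by_contra hne
  wlog hlt : (i : ℕ) < i' generalizing i i'
  · exact this h.symm (Ne.symm hne) (lt_of_le_of_ne (not_lt.1 hlt) (fun e => hne (Fin.ext e.symm)))
  set d := (i' : ℕ) - i with hd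
  have hd' : (σ ^ d) j = j := by
    refine (σ ^ (i : ℕ)).injective ?_
    rw [← Equiv.Perm.mul_apply, ← pow_add, hd, Nat.add_sub_cancel' hlt.le]
    exact h.symm
  have hcop : Nat.Coprime d r := by
    rw [Nat.coprime_comm, (Fact.out : r.Prime).coprime_iff_not_dvd]
    exact fun hdvd => absurd (Nat.le_of_dvd (by omega) hdvd) (by omega)
  obtain ⟨m, hm⟩ : ∃ m, d * m % r = 1 := (Nat.exists_mul_mod_eq_one_of_coprime hcop (Fact.out : r.Prime).one_lt).imp fun m h => h.2
  refine hj ?_
  have h1 : ∀ m, ((σ ^ d) ^ m) j = j := by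
    intro m
    induction m with
    | zero => rfl
    | succ m ih => rw [pow_succ', Equiv.Perm.mul_apply, ih, hd']
  calc σ j = (σ ^ (d * m)) j := by rw [pow_eq_pow_mod _ hσ, hm, pow_one]
    _ = j := by rw [pow_mul]; exact h1 m

/-- An annihilating polynomial of small degree forbids moved summands. -/
lemma fixed_of_degree {D : Fin t → Submodule F (Fin n → F)} (hD : Cfsg.Geo.IsMDecomposition a D)
    {T : Module.End F (Fin n → F)} (hT : T ^ r = 1) {σ : Equiv.Perm (Fin t)} (hσ : ∀ j, (D j).map T = D (σ j))
    {g : F[X]} (hg : g.Monic) (hdeg : g.natDegree + 1 < r) (hann : ∀ v, aeval T g ((T - 1) v) = 0) (j : Fin t) :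
    σ j = j := by
  by_contra hj
  obtain ⟨hσr, hmem⟩ := perm_pow hD hT hσ
  obtain ⟨v, hv, hv0⟩ := CfsgLib.GeomClasses.Decomp.exists_ne_zero hD j
  have hne : ∀ i : Fin r, (T ^ (i : ℕ)) v ≠ 0 := fun i h => hv0 (by
    have := congrArg (fun w => (T ^ (r - (i : ℕ))) w) h
    simp only [map_zero] at this
    rwa [← Module.End.mul_apply, ← pow_add, show r - (i : ℕ) + i = r by omega, hT, Module.End.one_apply] at this)
  have hli := (hD.indep.comp (orbit_injective hσr hj)).linearIndependent _ (fun i : Fin r => hmem i j v hv) hne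
  set P := g * (X - C 1) with hP
  have hPm : P.Monic := hg.mul (monic_X_sub_C 1)
  have hPd : P.natDegree = g.natDegree + 1 := by
    rw [hP, hg.natDegree_mul (monic_X_sub_C 1), natDegree_X_sub_C]
  have h0 : aeval T P v = 0 := by
    rw [hP, map_mul, Module.End.mul_apply, map_sub, aeval_X, aeval_C, map_one]
    exact hann v
  rw [aeval_eq_sum_range' (n := r) (by omega), LinearMap.sum_apply, ← Fin.sum_univ_eq_sum_range] at h0
  have := Fintype.linearIndependent_iff.1 hli (fun i => P.coeff i) h0 ⟨P.natDegree, by omega⟩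
  simp [hPm.coeff_natDegree] at this

variable [Fintype F]

/-- If all summands are fixed the moving space is small. -/
lemma rank_le_of_fixed {q c : ℕ} (hq : Fintype.card F = q) (hc : c = orderOf (q : ZMod r)) (hr0 : (r : F) ≠ 0)
    {D : Fin t → Submodule F (Fin n → F)} (hD : Cfsg.Geo.IsMDecomposition a D)
    {T : Module.End F (Fin n → F)} (hT : T ^ r = 1) (hfix : ∀ j, (D j).map T = D j) :
    finrank F ↥(LinearMap.range (T - 1)) ≤ t * (c * (a / c)) := by
  classical
  have hj : ∀ j, finrank F ↥((D j).map (T - 1)) ≤ c * (a / c) := by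
    intro j
    have hle : (D j).map (T - 1) ≤ D j := by
      rintro _ ⟨v, hv, rfl⟩
      exact (D j).sub_mem (hfix j ▸ Submodule.mem_map_of_mem hv) hv
    have hinv : ((D j).map (T - 1)).map T ≤ (D j).map (T - 1) := by
      rintro _ ⟨_, ⟨v, hv, rfl⟩, rfl⟩
      exact ⟨T v, hfix j ▸ Submodule.mem_map_of_mem hv, by simp⟩
    have hd : c ∣ finrank F ↥((D j).map (T - 1)) := by
      rw [hc]
      refine CfsgLib.OrderR.orderOf_dvd_finrank T hq hT _ hinv fun v hv hv1 => ?_
      exact Submodule.disjoint_def.1 (CfsgLib.OrderR.disjoint_fix_move T hT hr0) v (by simp [hv1])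
        (LinearMap.map_le_range hv)
    have hle' : finrank F ↥((D j).map (T - 1)) ≤ a := (Submodule.finrank_mono hle).trans (hD.finrank_eq j).le
    obtain ⟨w, hw⟩ := hd
    rw [hw] at hle' ⊢
    rcases Nat.eq_zero_or_pos c with rfl | hc0
    · simp
    · exact Nat.mul_le_mul_left c ((Nat.le_div_iff_mul_le hc0).2 (by rw [mul_comm]; exact hle'))
  have hrange : LinearMap.range (T - 1) ≤ ⨆ j, (D j).map (T - 1) := by
    rw [← Submodule.map_iSup, hD.iSup_eq_top, Submodule.map_top]
  refine (Submodule.finrank_mono hrange).trans ?_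
  have key : ∀ s : Finset (Fin t), finrank F ↥(s.sup fun j => (D j).map (T - 1)) ≤ s.card * (c * (a / c)) := by
    intro s
    induction s using Finset.induction with
    | empty => simp
    | insert j s hjs ih =>
      rw [Finset.sup_insert, Finset.card_insert_of_notMem hjs, add_mul, one_mul, add_comm]
      exact (Submodule.finrank_add_le_finrank_add_finrank _ _).trans (Nat.add_le_add (hj j) ih)
  have := key Finset.univ
  rwa [Finset.sup_univ_eq_iSup, Finset.card_univ, Fintype.card_fin] at this

/-- The orbit sums of one moved summand are fixed. -/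
lemma le_ker_of_moved {D : Fin t → Submodule F (Fin n → F)} (hD : Cfsg.Geo.IsMDecomposition a D)
    {T : Module.End F (Fin n → F)} (hT : T ^ r = 1) {σ : Equiv.Perm (Fin t)} (hσ : ∀ j, (D j).map T = D (σ j))
    {j : Fin t} (hj : σ j ≠ j) :
    a ≤ finrank F ↥(LinearMap.ker (T - 1)) ∧ a * (r - 1) ≤ finrank F ↥(LinearMap.range (T - 1)) := by
  classical
  obtain ⟨hσr, hmem⟩ := perm_pow hD hT hσ
  have hinj := orbit_injective hσr hj
  set P : Module.End F (Fin n → F) := ∑ i ∈ Finset.range r, T ^ i with hP
  have hTP : ∀ v, T (P v) = P v := by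
    intro v
    have h : (T - 1) * P = 0 := by rw [hP, mul_geom_sum, hT, sub_self]
    have := LinearMap.congr_fun h v
    simpa [sub_eq_zero] using this
  have h0 : ∀ i : Fin r, (i : ℕ) ≠ 0 → (σ ^ (i : ℕ)) j ≠ j := fun i hi h => hi (by
    have := @hinj i ⟨0, (Fact.out : r.Prime).pos⟩ (by simpa using h)
    exact congrArg Fin.val this)
  constructor
  · have hcomp : ∀ v ∈ D j, CfsgLib.GeomClasses.Decomp.comp hD j (P v) = v := by
      intro v hv
      rw [hP, LinearMap.sum_apply, map_sum, Finset.sum_eq_single 0 (fun i hi hne => ?_) (fun h => absurd (Finset.mem_range.2 (Fact.out : r.Prime).pos) h)]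
      · rw [pow_zero, Module.End.one_apply, CfsgLib.GeomClasses.Decomp.comp_of_mem hD hv]
      · exact CfsgLib.GeomClasses.Decomp.comp_of_mem_ne hD (h0 ⟨i, Finset.mem_range.1 hi⟩ hne) (hmem i j v hv)
    let L : D j →ₗ[F] LinearMap.ker (T - 1) := (P ∘ₗ (D j).subtype).codRestrict _ fun v => by simp [hTP]
    rw [← hD.finrank_eq j]
    refine LinearMap.finrank_le_finrank_of_injective (f := L) fun v w h => Subtype.ext ?_
    rw [← hcomp v v.2, ← hcomp w w.2]
    exact congrArg _ (congrArg Subtype.val h)
  · obtain ⟨bj⟩ : Nonempty (Basis (Fin a) F (D j)) := ⟨Module.finBasisOfFinrankEq F _ (hD.finrank_eq j)⟩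
    have hTinj : ∀ i : ℕ, i ≤ r → Function.Injective (T ^ i) := fun i hi v w h => by
      have := congrArg (fun u => (T ^ (r - i)) u) h
      simp only [← Module.End.mul_apply, ← pow_add, show r - i + i = r by omega, hT, Module.End.one_apply] at this
      exact this
    have hli : LinearIndependent F fun p : Fin a × Fin (r - 1) => (T - 1) ((T ^ (p.2 : ℕ)) (bj p.1 : Fin n → F)) := by
      rw [Fintype.linearIndependent_iff]
      intro co hco
      let u : Fin (r - 1) → (Fin n → F) := fun i => ∑ l, co (l, i) • (bj l : Fin n → F)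
      have hu : ∀ i, u i ∈ D j := fun i => Submodule.sum_mem _ fun l _ => (D j).smul_mem _ (bj l).2
      have hsum : ∑ i : Fin (r - 1), ((T ^ ((i : ℕ) + 1)) (u i) - (T ^ (i : ℕ)) (u i)) = 0 := by
        rw [Fintype.sum_prod_type, Finset.sum_comm] at hco
        rw [← hco]
        refine Finset.sum_congr rfl fun i _ => ?_
        simp only [u, map_sum, map_smul, ← Finset.sum_sub_distrib, ← smul_sub, pow_succ', LinearMap.sub_apply,
          Module.End.mul_apply, Module.End.one_apply]
      have key : ∀ m : ℕ, ∀ i : Fin (r - 1), (i : ℕ) = m → u i = 0 := by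
        intro m
        induction m with
        | zero =>
          intro i hi
          have h := congrArg (CfsgLib.GeomClasses.Decomp.comp hD j) hsum
          rw [map_sum, map_zero, Finset.sum_eq_single i] at h
          · rw [map_sub, CfsgLib.GeomClasses.Decomp.comp_of_mem_ne hD (h0 ⟨(i : ℕ) + 1, by omega⟩ (Nat.succ_ne_zero _))
              (hmem _ j _ (hu i)), hi, pow_zero, Module.End.one_apply, CfsgLib.GeomClasses.Decomp.comp_of_mem hD (hu i),
              zero_sub, neg_eq_zero] at h
            exact h
          · intro i' _ hne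
            have : (i' : ℕ) ≠ 0 := fun e => hne (Fin.ext (e.trans hi.symm))
            rw [map_sub, CfsgLib.GeomClasses.Decomp.comp_of_mem_ne hD (h0 ⟨(i' : ℕ) + 1, by omega⟩ (Nat.succ_ne_zero _))
              (hmem _ j _ (hu i')), CfsgLib.GeomClasses.Decomp.comp_of_mem_ne hD (h0 ⟨(i' : ℕ), by omega⟩ this)
              (hmem _ j _ (hu i')), sub_self]
          · simp
        | succ m ih =>
          intro i hi
          have h := congrArg (CfsgLib.GeomClasses.Decomp.comp hD ((σ ^ (m + 1)) j)) hsum
          have hne' : ∀ i' : ℕ, i' < r → i' ≠ m + 1 → (σ ^ i') j ≠ (σ ^ (m + 1)) j := fun i' hi' hne hh => hne (by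
            have := @hinj ⟨i', hi'⟩ ⟨m + 1, by omega⟩ hh
            exact congrArg Fin.val this)
          rw [map_sum, map_zero, Finset.sum_eq_single i] at h
          · rw [map_sub, CfsgLib.GeomClasses.Decomp.comp_of_mem_ne hD (hne' _ (by omega) (by omega)) (hmem _ j _ (hu i)),
              hi, CfsgLib.GeomClasses.Decomp.comp_of_mem hD (hmem _ j _ (hu i)), zero_sub, neg_eq_zero] at h
            exact hTinj _ (by omega) (h.trans (map_zero _).symm)
          · intro i' _ hne
            by_cases hm : (i' : ℕ) = m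
            · rw [ih i' hm]; simp
            · have : (i' : ℕ) ≠ m + 1 := fun e => hne (Fin.ext (e.trans hi.symm))
              rw [map_sub, CfsgLib.GeomClasses.Decomp.comp_of_mem_ne hD (hne' _ (by omega) (by omega)) (hmem _ j _ (hu i')),
                CfsgLib.GeomClasses.Decomp.comp_of_mem_ne hD (hne' _ (by omega) this) (hmem _ j _ (hu i')), sub_self]
          · simp
      rintro ⟨l, i⟩
      refine Fintype.linearIndependent_iff.1 bj.linearIndependent (fun l => co (l, i)) (Subtype.ext ?_) l
      simpa [Submodule.coe_sum] using key i i rfl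
    have hle : Submodule.span F (Set.range fun p : Fin a × Fin (r - 1) => (T - 1) ((T ^ (p.2 : ℕ)) (bj p.1 : Fin n → F))) ≤
        LinearMap.range (T - 1) := Submodule.span_le.2 (by rintro _ ⟨p, rfl⟩; exact ⟨_, rfl⟩)
    have := Submodule.finrank_mono hle
    rw [finrank_span_eq_card hli] at this
    simpa using this

/-- With lines as summands the fixed space has dimension at least a `1/r` part. -/
lemma le_mul_ker {D : Fin t → Submodule F (Fin n → F)} (hD : Cfsg.Geo.IsMDecomposition 1 D)
    {T : Module.End F (Fin n → F)} (hT : T ^ r = 1) (hr0 : (r : F) ≠ 0) {σ : Equiv.Perm (Fin t)}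
    (hσ : ∀ j, (D j).map T = D (σ j)) (h1 : ∀ x : F, x ^ r = 1 → x = 1) :
    t ≤ r * finrank F ↥(LinearMap.ker (T - 1)) := by
  classical
  obtain ⟨hσr, hmem⟩ := perm_pow hD hT hσ
  choose w hw hw0 using CfsgLib.GeomClasses.Decomp.exists_ne_zero hD
  set P : Module.End F (Fin n → F) := ∑ i ∈ Finset.range r, T ^ i with hP
  have hTP : ∀ v, P v ∈ LinearMap.ker (T - 1) := by
    intro v
    have h : (T - 1) * P = 0 := by rw [hP, mul_geom_sum, hT, sub_self]
    exact LinearMap.congr_fun h v
  have hfix : ∀ j, σ j = j → T (w j) = w j := by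
    intro j hj
    have hv : T (w j) ∈ D j := by
      have := hmem 1 j (w j) (hw j)
      rwa [pow_one, pow_one, hj] at this
    obtain ⟨μ, hμ⟩ := exists_smul_eq_of_finrank_eq_one (hD.finrank_eq j) (x := ⟨w j, hw j⟩)
      (fun h => hw0 j (congrArg Subtype.val h)) ⟨T (w j), hv⟩
    have hμ' : μ • w j = T (w j) := congrArg Subtype.val hμ
    have hpow : ∀ i, (T ^ i) (w j) = μ ^ i • w j := by
      intro i
      induction i with
      | zero => simp
      | succ i ih => rw [pow_succ', Module.End.mul_apply, ih, map_smul, ← hμ', smul_smul, pow_succ]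
    have h' := hpow r
    rw [hT, Module.End.one_apply] at h'
    have : μ ^ r = 1 := smul_left_injective F (hw0 j) (by simpa using h'.symm)
    rw [← hμ', h1 μ this, one_smul]
  let s : Setoid (Fin t) :=
    { r := fun x y => ∃ i : ℕ, (σ ^ i) x = y
      iseqv := ⟨fun x => ⟨0, rfl⟩, fun {x y} ⟨i, hi⟩ => ⟨(r - 1) * i, by
          rw [← hi, ← Equiv.Perm.mul_apply, ← pow_add,
            show (r - 1) * i + i = r * i by rw [← Nat.succ_mul, Nat.succ_eq_add_one, Nat.sub_add_cancel (Fact.out : r.Prime).pos],
            pow_mul, hσr, one_pow, Equiv.Perm.one_apply]⟩,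
        fun {x y z} ⟨i, hi⟩ ⟨i', hi'⟩ => ⟨i' + i, by rw [pow_add, Equiv.Perm.mul_apply, hi, hi']⟩⟩ }
  have : Fintype (Quotient s) := Fintype.ofFinite _
  have hcard : t ≤ r * Fintype.card (Quotient s) := by
    have hsurj : Function.Surjective (fun p : Quotient s × Fin r => (σ ^ (p.2 : ℕ)) p.1.out) := by
      intro x
      obtain ⟨i, hi⟩ := Quotient.exact (Quotient.out_eq (Quotient.mk s x))
      exact ⟨(Quotient.mk s x, ⟨i % r, Nat.mod_lt _ (Fact.out : r.Prime).pos⟩), by
        show (σ ^ (i % r)) (Quotient.mk s x).out = x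
        rw [← pow_eq_pow_mod i hσr]; exact hi⟩
    have := Fintype.card_le_of_surjective _ hsurj
    simpa [mul_comm] using this
  refine hcard.trans (Nat.mul_le_mul_left r ?_)
  let u : Quotient s → LinearMap.ker (T - 1) := fun o => ⟨P (w o.out), hTP _⟩
  suffices hu : LinearIndependent F u from hu.fintype_card_le_finrank
  rw [Fintype.linearIndependent_iff]
  intro co hco o
  have h := congrArg (fun v : LinearMap.ker (T - 1) => CfsgLib.GeomClasses.Decomp.comp hD o.out (v : Fin n → F)) hco
  simp only [Submodule.coe_sum, Submodule.coe_smul, map_sum, map_smul, Submodule.coe_zero, map_zero, u] at h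
  have hother : ∀ o', o' ≠ o → CfsgLib.GeomClasses.Decomp.comp hD o.out (P (w o'.out)) = 0 := by
    intro o' hne
    rw [hP, LinearMap.sum_apply, map_sum]
    refine Finset.sum_eq_zero fun i _ => CfsgLib.GeomClasses.Decomp.comp_of_mem_ne hD (fun he => hne ?_) (hmem i _ _ (hw _))
    rw [← Quotient.out_eq o', ← Quotient.out_eq o]
    exact Quotient.sound ⟨i, he⟩
  rw [Finset.sum_eq_single o (fun o' _ hne => by rw [hother o' hne, smul_zero]) (by simp), smul_eq_zero] at h
  refine h.resolve_right fun hzero => ?_
  rw [hP, LinearMap.sum_apply, map_sum] at hzero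
  by_cases hj : σ o.out = o.out
  · have hpow : ∀ i, (T ^ i) (w o.out) = w o.out := by
      intro i
      induction i with
      | zero => simp
      | succ i ih => rw [pow_succ', Module.End.mul_apply, ih, hfix _ hj]
    simp only [hpow, CfsgLib.GeomClasses.Decomp.comp_of_mem hD (hw o.out), Finset.sum_const, Finset.card_range] at hzero
    rw [← Nat.cast_smul_eq_nsmul F, smul_eq_zero] at hzero
    exact hzero.elim hr0 (hw0 _)
  · rw [Finset.sum_eq_single 0 (fun i hi hne => ?_) (fun h => absurd (Finset.mem_range.2 (Fact.out : r.Prime).pos) h),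
      pow_zero, Module.End.one_apply, CfsgLib.GeomClasses.Decomp.comp_of_mem hD (hw o.out)] at hzero
    · exact hw0 _ hzero
    · refine CfsgLib.GeomClasses.Decomp.comp_of_mem_ne hD (fun he => hne ?_) (hmem i _ _ (hw _))
      have := @orbit_injective t r _ σ hσr o.out hj ⟨i, Finset.mem_range.1 hi⟩ ⟨0, (Fact.out : r.Prime).pos⟩ (by simpa using he)
      exact congrArg Fin.val this

end fwd

section bwd

variable {F : Type*} [Field F] {n r : ℕ} [Fact r.Prime]

/-- A map with `r`-th power a scalar without root is monomial. -/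
lemma exists_monomial {V : Type*} [AddCommGroup V] [Module F V] [FiniteDimensional F V] (T : Module.End F V) {z : F}
    (hz : ∀ θ : F, θ ^ r ≠ z) (hT : ∀ v, (T ^ r) v = z • v) :
    ∃ (m : ℕ) (b : Basis (Fin m × Fin r) F V), ∀ i j, T (b (i, j)) ∈ Submodule.span F {b (i, finRotate r j)} := by
  classical
  have hirr : Irreducible (X ^ r - C z) := X_pow_sub_C_irreducible_of_prime (Fact.out : r.Prime) hz
  have hrot : ∀ j : Fin r, ((finRotate r j : Fin r) : ℕ) = if (j : ℕ) + 1 = r then 0 else (j : ℕ) + 1 := by
    obtain ⟨r', hr'⟩ : ∃ r', r = r' + 1 := ⟨r - 1, by have := (Fact.out : r.Prime).pos; omega⟩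
    subst hr'
    intro j
    rw [coe_finRotate]
    by_cases h : j = Fin.last r'
    · subst h; simp
    · rw [if_neg h, if_neg (fun e => h (Fin.ext (by simp; omega)))]
  have hpiece : ∀ (v : V) (j : Fin r), ∃ μ : F, T ((T ^ (j : ℕ)) v) = μ • (T ^ ((finRotate r j : Fin r) : ℕ)) v := by
    intro v j
    rw [← Module.End.mul_apply, ← pow_succ', hrot]
    split_ifs with h
    · exact ⟨z, by rw [h, hT, pow_zero, Module.End.one_apply]⟩
    · exact ⟨1, by rw [one_smul]⟩
  let fam : ∀ m : ℕ, (Fin m → V) → Fin m × Fin r → V := fun m v p => (T ^ (p.2 : ℕ)) (v p.1)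
  have step : ∀ m v, LinearIndependent F (fam m v) → Submodule.span F (Set.range (fam m v)) = ⊤ ∨
      ∃ v' : Fin (m + 1) → V, LinearIndependent F (fam (m + 1) v') := by
    intro m v hli
    refine or_iff_not_imp_left.2 fun hne => ?_
    set S := Submodule.span F (Set.range (fam m v)) with hS
    have hTS : ∀ x ∈ S, T x ∈ S := by
      intro x hx
      refine (Submodule.span_le.2 ?_ : S ≤ S.comap T) hx
      rintro _ ⟨⟨i, j⟩, rfl⟩
      obtain ⟨μ, hμ⟩ := hpiece (v i) j
      show T ((T ^ (j : ℕ)) (v i)) ∈ S
      rw [hμ]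
      exact S.smul_mem _ (Submodule.subset_span ⟨(i, _), rfl⟩)
    obtain ⟨y, hy⟩ : ∃ y, y ∉ S := by
      by_contra h
      push Not at h
      exact hne (Submodule.eq_top_iff'.2 h)
    refine ⟨Fin.cons y v, Fintype.linearIndependent_iff.2 fun co hco => ?_⟩
    simp only [fam, Fintype.sum_prod_type, Fin.sum_univ_succ, Fin.cons_zero, Fin.cons_succ] at hco
    set rest := ∑ i : Fin m, ∑ j : Fin r, co (i.succ, j) • (T ^ (j : ℕ)) (v i) with hrest
    have hmem : rest ∈ S := Submodule.sum_mem _ fun i _ => Submodule.sum_mem _ fun j _ =>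
      S.smul_mem _ (Submodule.subset_span ⟨(i, j), rfl⟩)
    let P : F[X] := ∑ j : Fin r, monomial (j : ℕ) (co (0, j))
    have hP : aeval T P y = ∑ j : Fin r, co (0, j) • (T ^ (j : ℕ)) y := by
      simp [P, map_sum, aeval_monomial, Module.End.mul_apply, Module.algebraMap_end_apply]
    have htot : aeval T P y + rest = 0 := by rw [hP]; exact hco
    have hP0 : P = 0 := by
      by_contra hP0
      have hdeg : P.natDegree < r := (natDegree_sum_le _ _).trans_lt ((Finset.fold_max_lt _).2
        ⟨(Fact.out : r.Prime).pos, fun j _ => (natDegree_monomial_le _).trans_lt j.2⟩)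
      have hco' : IsCoprime (X ^ r - C z) P := (hirr.coprime_iff_not_dvd).2 fun hd => by
        have := natDegree_le_of_dvd hd hP0
        rw [natDegree_X_pow_sub_C] at this
        omega
      obtain ⟨a, b, hab⟩ := hco'
      apply hy
      have hy' : y = aeval T (a * (X ^ r - C z)) y + aeval T (b * P) y := by
        rw [← LinearMap.add_apply, ← map_add, hab, map_one, Module.End.one_apply]
      rw [hy', map_mul, map_mul, Module.End.mul_apply, Module.End.mul_apply,
        show aeval T (X ^ r - C z : F[X]) y = 0 by simp [hT, Module.algebraMap_end_apply], map_zero, zero_add]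
      exact CfsgLib.SemiR.aeval_mem hTS b ((Submodule.add_mem_iff_left _ hmem).1 (htot ▸ S.zero_mem))
    rw [hP0, map_zero, LinearMap.zero_apply, zero_add] at htot
    have hr' := Fintype.linearIndependent_iff.1 hli (fun p => co (p.1.succ, p.2))
      (by simpa [fam, Fintype.sum_prod_type] using htot)
    rintro ⟨i, j⟩
    refine Fin.cases ?_ (fun i => ?_) i
    · have := congrArg (fun p => p.coeff (j : ℕ)) hP0
      simpa [P, finsetSum_coeff, coeff_monomial, Fin.val_inj] using this
    · exact hr' (i, j)
  by_contra hcon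
  have : ∀ m : ℕ, ∃ v : Fin m → V, LinearIndependent F (fam m v) := by
    intro m
    induction m with
    | zero => exact ⟨Fin.elim0, linearIndependent_empty_type⟩
    | succ m ih =>
      obtain ⟨v, hv⟩ := ih
      refine (step m v hv).resolve_left fun hsp => hcon ⟨m, Basis.mk hv hsp.ge, fun i j => ?_⟩
      obtain ⟨μ, hμ⟩ := hpiece (v i) j
      rw [Basis.mk_apply, Basis.mk_apply]
      exact Submodule.mem_span_singleton.2 ⟨μ, hμ.symm⟩
  obtain ⟨v, hv⟩ := this (finrank F V + 1)
  have := hv.fintype_card_le_finrank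
  simp only [Fintype.card_prod, Fintype.card_fin] at this
  have : finrank F V + 1 ≤ (finrank F V + 1) * r := Nat.le_mul_of_pos_right _ (Fact.out : r.Prime).pos
  omega

lemma card_fst {τ δ : Type*} [Fintype τ] [Fintype δ] [DecidableEq τ] (j : τ) :
    Fintype.card {k : τ × δ // k.1 = j} = Fintype.card δ :=
  Fintype.card_congr { toFun := fun k => k.1.2, invFun := fun i => ⟨(j, i), rfl⟩,
                       left_inv := fun k => Subtype.ext (Prod.ext k.2.symm rfl), right_inv := fun _ => rfl }

end bwd


/-- Elements of odd prime order of PSL_n(q) and imprimitive subgroups. Here `T = PSL_n(F)` for a field `F` with `q = p^f` elements (`n ≥ 2`, `(n, q) ≠ (2, 2), (2, 3)`), `n = a·t` with `t ≥ 2`, and Ω is the set of direct-sum decompositions of `F^n` into `t` subspaces of dimension `a` (unordered; their number is the number of ordered ones divided by `t!`), whose stabilizers are the imprimitive subgroups of type GL_a(q) ≀ S_t (maximal except in some small cases; maximality is not assumed); an element of `T` of prime order `r` (a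 matrix `x` of determinant 1 with `x^r` scalar, `x` not scalar) fixes a point of Ω when it permutes the summands of some such decomposition. Let `r ≠ p` be an odd prime dividing the number of such decompositions, let `c` be the multiplicative order of `q` modulo `r`, and write `k = n mod c`, `ℓ = a mod c`. Then every element of `T` of order `r` stabilizes such a decomposition if and only if either `a = 1`, `c = r − 1 > 1` and `n ≤ k·r`, or `c ≤ a` and `k = t·ℓ`. -/
theorem result {F : Type*} [Field F] [Fintype F] {p : ℕ} [Fact p.Prime] [CharP F p] {q : ℕ} (hq : Fintype.card F = q)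
    (n a t : ℕ) (hn : 2 ≤ n) (hT : (n, q) ≠ (2, 2) ∧ (n, q) ≠ (2, 3)) (hat : n = a * t) (ha : 1 ≤ a) (ht : 2 ≤ t)
    (r : ℕ) [Fact r.Prime] (hr2 : r ≠ 2) (hrp : r ≠ p) (hΩ : r ∣ Nat.card {D : Fin t → Submodule F (Fin n → F) // Cfsg.Geo.IsMDecomposition a D} / Nat.factorial t)
    (c : ℕ) (hc : c = orderOf (q : ZMod r)) :
    (∀ x : Matrix.SpecialLinearGroup (Fin n) F,
      (∃ z : F, ((x ^ r : Matrix.SpecialLinearGroup (Fin n) F) : Matrix (Fin n) (Fin n) F) = z • (1 : Matrix (Fin n) (Fin n) F)) →
      (∀ z : F, (x : Matrix (Fin n) (Fin n) F) ≠ z • (1 : Matrix (Fin n) (Fin n) F)) →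
      ∃ D : Fin t → Submodule F (Fin n → F), Cfsg.Geo.IsMDecomposition a D ∧
        ∃ σ : Equiv.Perm (Fin t), ∀ j, (D j).map (Matrix.toLin' (x : Matrix (Fin n) (Fin n) F)) = D (σ j)) ↔
    ((a = 1 ∧ 1 < c ∧ c = r - 1 ∧ n ≤ (n % c) * r) ∨ (c ≤ a ∧ n % c = t * (a % c))) := by
  classical
  have hr3 : 3 ≤ r := by have := (Fact.out : r.Prime).two_le; omega
  have hr0 : (r : F) ≠ 0 := CfsgLib.OrderR.cast_ne_zero (p := p) hrp
  have hq1 : 1 ≤ q := by rw [← hq]; exact Fintype.card_pos
  have hcdvd : c ∣ r - 1 := by
    rw [hc]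
    exact orderOf_dvd_of_pow_eq_one (ZMod.pow_card_sub_one_eq_one (CfsgLib.OrderR.natCast_ne_zero_of_card hq hrp))
  have hc0 : 0 < c := Nat.pos_of_dvd_of_pos hcdvd (by omega)
  have hcr : c ≤ r - 1 := Nat.le_of_dvd (by omega) hcdvd
  constructor
  · intro hall
    by_contra hcon
    push Not at hcon
    obtain ⟨hcon1, hcon2⟩ := hcon
    have hc1 : 1 < c := by
      by_contra h
      have hc1' : c = 1 := by omega
      exact hcon2 (by omega) (by rw [hc1', Nat.mod_one, Nat.mod_one, mul_zero])
    have hrq : ¬ r ∣ q - 1 := fun hd => by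
      have : orderOf (q : ZMod r) ∣ 1 := (CfsgLib.OrderR.orderOf_dvd_iff hq1).2 (by rwa [pow_one])
      rw [← hc, Nat.dvd_one] at this
      omega
    have hcn : c ≤ n := by
      have hd := CfsgLib.BlockDecomp.dvd_card_gl (ι := Fin n) (F := F) (by omega : 0 < a) ht (by simp [hat]) hΩ
      rw [Matrix.card_GL_field, hq] at hd
      obtain ⟨i, -, hi⟩ := ((Fact.out : r.Prime).prime.dvd_finsetProd_iff _).1 hd
      have e : q ^ n - q ^ (i : ℕ) = q ^ (i : ℕ) * (q ^ (n - i) - 1) := by
        rw [Nat.mul_sub, mul_one, ← pow_add, Nat.add_sub_cancel' i.2.le]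
      rw [e] at hi
      rcases (Fact.out : r.Prime).dvd_mul.1 hi with h | h
      · exact absurd ((ZMod.natCast_eq_zero_iff q r).2 ((Fact.out : r.Prime).dvd_of_dvd_pow h))
          (CfsgLib.OrderR.natCast_ne_zero_of_card hq hrp)
      · have := Nat.le_of_dvd (by omega) (hc ▸ (CfsgLib.OrderR.orderOf_dvd_iff hq1).2 h)
        omega
    have use : ∀ e k : ℕ, 0 < e → e * c + k = n → ∃ (T : Module.End F (Fin n → F)) (g : F[X]) (D : Fin t → Submodule F (Fin n → F))
        (σ : Equiv.Perm (Fin t)), T ^ r = 1 ∧ g.Monic ∧ g.natDegree = c ∧ (∀ v, aeval T g ((T - 1) v) = 0) ∧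
        finrank F ↥(LinearMap.range (T - 1)) = e * c ∧ Cfsg.Geo.IsMDecomposition a D ∧ ∀ j, (D j).map T = D (σ j) := by
      intro e k he hek
      obtain ⟨x, g, hx, hgm, -, hgd, -, hann, hrank⟩ := CfsgLib.SemiR.exists_witness hq hc hc1 hr0 hek
      obtain ⟨D, hD, σ, hσ⟩ := hall x ⟨1, by rw [Matrix.SpecialLinearGroup.coe_pow, hx, one_smul]⟩ (fun z hz => by
        have hz1 : z = 1 := by
          refine CfsgLib.SemiR.det_eq_one (F := F) hq hrq ?_
          rw [hz, _root_.smul_pow, one_pow] at hx
          have := congrFun (congrFun hx ⟨0, by omega⟩) ⟨0, by omega⟩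
          simpa using this
        rw [hz, hz1, one_smul, map_one, sub_self, LinearMap.range_zero, finrank_bot] at hrank
        exact (Nat.mul_pos he hc0).ne hrank)
      refine ⟨Matrix.toLinAlgEquiv' (x : Matrix (Fin n) (Fin n) F), g, D, σ,
        by rw [← map_pow, hx, map_one], hgm, hgd, hann, hrank, hD, hσ⟩
    set E := n / c with hE
    have hEk : E * c + n % c = n := by rw [mul_comm]; exact Nat.div_add_mod n c
    have hE0 : 0 < E := Nat.div_pos hcn hc0
    obtain ⟨T, g, D, σ, hT, hgm, hgd, hann, hrank, hD, hσ⟩ := use E (n % c) hE0 hEk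
    by_cases hfix : ∀ j, σ j = j
    · have h := rank_le_of_fixed hq hc hr0 hD hT (fun j => by rw [hσ, hfix])
      rw [hrank, mul_comm c, ← mul_assoc] at h
      have hEle : E ≤ t * (a / c) := Nat.le_of_mul_le_mul_right h hc0
      have ha1 : c ≤ a := by
        by_contra hlt
        rw [Nat.div_eq_of_lt (not_le.1 hlt), mul_zero] at hEle
        omega
      have h1 : n = c * (t * (a / c)) + t * (a % c) := by
        conv_lhs => rw [hat, ← Nat.div_add_mod a c]
        ring
      have h2 : t * (a % c) ≤ n % c := by
        have := Nat.mul_le_mul_left c hEle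
        rw [mul_comm E c] at hEk
        omega
      apply hcon2 ha1
      have h3 : n % c = (t * (a % c)) % c := by rw [h1, Nat.mul_add_mod]
      rw [h3, Nat.mod_eq_of_lt (h2.trans_lt (Nat.mod_lt _ hc0))]
    · push Not at hfix
      obtain ⟨j, hj⟩ := hfix
      have hcr' : c = r - 1 := by
        by_contra hne
        exact hj (fixed_of_degree hD hT hσ hgm (by omega) hann j)
      have hker : finrank F ↥(LinearMap.ker (T - 1)) = n % c := by
        have := LinearMap.finrank_range_add_finrank_ker (T - 1)
        rw [hrank, Module.finrank_fin_fun] at this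
        omega
      by_cases hac : c ≤ a
      · have := (le_ker_of_moved hD hT hσ hj).1
        rw [hker] at this
        have := Nat.mod_lt n hc0
        omega
      · by_cases ha1 : a = 1
        · subst ha1
          have := le_mul_ker hD hT hr0 hσ (fun x hx => CfsgLib.SemiR.det_eq_one (F := F) hq hrq hx)
          rw [hker, mul_comm] at this
          have h' := hcon1 rfl hc1 hcr'
          omega
        · obtain ⟨T, g, D, σ, hT, hgm, hgd, hann, hrank, hD, hσ⟩ := use 1 (n - c) one_pos (by omega)
          by_cases hfix : ∀ j, σ j = j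
          · have h := rank_le_of_fixed hq hc hr0 hD hT (fun j => by rw [hσ, hfix])
            rw [hrank, Nat.div_eq_of_lt (not_le.1 hac), mul_zero, mul_zero, one_mul] at h
            omega
          · push Not at hfix
            obtain ⟨j, hj⟩ := hfix
            have := (le_ker_of_moved hD hT hσ hj).2
            rw [hrank, one_mul, ← hcr'] at this
            have : 2 * c ≤ a * c := Nat.mul_le_mul_right c (by omega)
            omega
  · intro hR x hx1 _
    obtain ⟨z, hz⟩ := hx1
    have hz0 : z ≠ 0 := by
      rintro rfl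
      have : Nonempty (Fin n) := ⟨⟨0, by omega⟩⟩
      have h := congrArg Matrix.det hz
      rw [zero_smul, Matrix.det_zero, (x ^ r).2] at h
      exact one_ne_zero h
    set T : Module.End F (Fin n → F) := Matrix.toLin' (x : Matrix (Fin n) (Fin n) F) with hTdef
    have hTr : ∀ v, (T ^ r) v = z • v := fun v => by
      rw [hTdef, ← Matrix.toLin'_pow, Matrix.toLin'_apply, ← Matrix.SpecialLinearGroup.coe_pow, hz, Matrix.smul_mulVec,
        Matrix.one_mulVec]
    have hinj : Function.Injective T := fun v w h => by
      have := congrArg (fun u => (T ^ (r - 1)) u) h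
      simp only [← Module.End.mul_apply, ← pow_succ, show r - 1 + 1 = r by omega, hTr] at this
      exact smul_right_injective _ hz0 this
    by_cases hθ : ∃ θ : F, θ ^ r = z
    · obtain ⟨θ, hθ⟩ := hθ
      have hθ0 : θ ≠ 0 := by rintro rfl; rw [zero_pow (by omega)] at hθ; exact hz0 hθ.symm
      set S : Module.End F (Fin n → F) := θ⁻¹ • T with hSdef
      have hS : S ^ r = 1 := LinearMap.ext fun v => by
        rw [hSdef, _root_.smul_pow, LinearMap.smul_apply, hTr, smul_smul, inv_pow, hθ, inv_mul_cancel₀ hz0, one_smul,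
          Module.End.one_apply]
      suffices h : ∃ D : Fin t → Submodule F (Fin n → F), Cfsg.Geo.IsMDecomposition a D ∧
          ∃ σ : Equiv.Perm (Fin t), ∀ j, (D j).map S = D (σ j) by
        obtain ⟨D, hD, σ, hσ⟩ := h
        exact ⟨D, hD, σ, fun j => by rw [← hσ j, hSdef, Submodule.map_smul _ _ _ (inv_ne_zero hθ0)]⟩
      have hSinj : Function.Injective S := fun v w h => hinj (smul_right_injective _ (inv_ne_zero hθ0) h)
      obtain ⟨e, k, b, v, g, hb, hfixb, -, hpiece, hsum, -, -⟩ := CfsgLib.SemiR.exists_cyclic_basis hq hc hc0 hr0 S hS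
      have hek : e * c + k = n := by
        have := Module.finrank_eq_card_basis b
        simp only [Module.finrank_fin_fun, Fintype.card_sum, Fintype.card_prod, Fintype.card_fin] at this
        omega
      rcases hR with ⟨rfl, hc1, hcr', hnk⟩ | ⟨hca, hmod⟩
      · -- lines in cycles
        have hrc : r = c + 1 := by omega
        have hek' : e ≤ k := by
          have h1 := Nat.div_add_mod n c
          have h2 : e ≤ n / c := (Nat.le_div_iff_mul_le hc0).2 (by omega)
          have h4 : n ≤ (n % c) * c + n % c := by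
            calc n ≤ (n % c) * r := hnk
              _ = _ := by rw [hrc, mul_add, mul_one]
          have h3 : n / c ≤ n % c := Nat.le_of_mul_le_mul_left
            (show c * (n / c) ≤ c * (n % c) by rw [mul_comm c (n % c)]; omega) hc0
          have h5 : n % c ≤ k := by
            rw [← hek, Nat.mul_comm e c, Nat.mul_add_mod]
            exact Nat.mod_le _ _
          omega
        obtain ⟨k', rfl⟩ : ∃ k', k = e + k' := ⟨k - e, by omega⟩
        let u : Fin e → (Fin n → F) := fun i => b (.inr (Fin.castAdd k' i))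
        let fam : (Fin e × Fin r) ⊕ Fin k' → (Fin n → F) :=
          Sum.elim (fun p => (S ^ (p.2 : ℕ)) (v p.1) + u p.1) (fun l => b (.inr (Fin.natAdd e l)))
        have hspan : ⊤ ≤ Submodule.span F (Set.range fam) := by
          have hu : ∀ i, u i ∈ Submodule.span F (Set.range fam) := by
            intro i
            have hs : ∑ j : Fin r, fam (.inl (i, j)) = (r : F) • u i := by
              simp only [fam, Sum.elim_inl]
              rw [Finset.sum_add_distrib, Fin.sum_univ_eq_sum_range (fun j => (S ^ j) (v i)), hsum, zero_add,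
                Finset.sum_const, Finset.card_univ, Fintype.card_fin, Nat.cast_smul_eq_nsmul]
            rw [show u i = (r : F)⁻¹ • ((r : F) • u i) by rw [inv_smul_smul₀ hr0], ← hs]
            exact Submodule.smul_mem _ _ (Submodule.sum_mem _ fun j _ => Submodule.subset_span ⟨_, rfl⟩)
          rw [← b.span_eq, Submodule.span_le]
          rintro _ ⟨⟨i, j⟩ | l, rfl⟩
          · have : b (.inl (i, j)) = fam (.inl (i, ⟨(j : ℕ), by omega⟩)) - u i := by simp [fam, hb]
            rw [this]
            exact Submodule.sub_mem _ (Submodule.subset_span ⟨_, rfl⟩) (hu i)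
          · refine Fin.addCases (fun l => ?_) (fun l => ?_) l
            · exact hu l
            · exact Submodule.subset_span ⟨.inr l, rfl⟩
        have hcard : Fintype.card ((Fin e × Fin r) ⊕ Fin k') = finrank F (Fin n → F) := by
          simp only [Fintype.card_sum, Fintype.card_prod, Fintype.card_fin, Module.finrank_fin_fun]
          rw [hrc, mul_add, mul_one]
          omega
        let bl := basisOfTopLeSpanOfCardEqFinrank fam hspan hcard
        have hbl : ∀ x, bl x = fam x := fun x => congrFun (coe_basisOfTopLeSpanOfCardEqFinrank _ _ _) x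
        refine CfsgLib.BlockDecomp.of_basis one_pos ht (by rw [hcard, Module.finrank_fin_fun, hat, one_mul]) bl id
          (fun j => by simp)
          (Equiv.sumCongr (Equiv.prodCongr (Equiv.refl _) (finRotate r)) (Equiv.refl _)) S hSinj ?_
        rintro (⟨i, j⟩ | l)
        · refine Submodule.subset_span ⟨.inl (i, finRotate r j), rfl, ?_⟩
          rw [hbl, hbl]
          show (S ^ ((finRotate r j : Fin r) : ℕ)) (v i) + u i = S ((S ^ (j : ℕ)) (v i) + u i)
          rw [map_add, show S (u i) = u i from hfixb _, ← Module.End.mul_apply, ← pow_succ', pow_eq_pow_mod ((j : ℕ) + 1) hS]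
          congr 2
          haveI : NeZero r := ⟨by omega⟩
          rw [finRotate_apply, Fin.val_add, Fin.val_one', Nat.add_mod_mod]
        · refine Submodule.subset_span ⟨.inr l, rfl, ?_⟩
          rw [hbl]
          exact (hfixb _).symm
      · -- pieces inside the summands
        set A := a / c with hA
        set B := a % c with hB
        have haB : c * A + B = a := Nat.div_add_mod a c
        have hnAB : n = c * (t * A) + t * B := by rw [hat, ← haB]; ring
        have he : e ≤ t * A := by
          have : e * c < (t * A + 1) * c := by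
            rw [add_mul, one_mul, mul_comm (t * A)]
            have := Nat.mod_lt n hc0
            omega
          exact Nat.lt_succ_iff.1 (Nat.lt_of_mul_lt_mul_right this)
        obtain ⟨e', he'⟩ : ∃ e', e + e' = t * A := ⟨t * A - e, by omega⟩
        have hk : k = e' * c + t * B := by
          rw [← he', mul_add] at hnAB
          rw [mul_comm e', mul_comm e] at *
          omega
        let ψ : Fin k ≃ (Fin e' × Fin c) ⊕ (Fin t × Fin B) := Fintype.equivOfCardEq (by simp [hk])
        let φ : (Fin e ⊕ Fin e') ≃ Fin t × Fin A :=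
          finSumFinEquiv.trans ((finCongr he').trans finProdFinEquiv.symm)
        let eq1 : (Fin e × Fin c) ⊕ Fin k ≃ Fin t × ((Fin A × Fin c) ⊕ Fin B) :=
          (((Equiv.refl _).sumCongr ψ).trans (Equiv.sumAssoc _ _ _).symm).trans
            ((((Equiv.sumProdDistrib _ _ _).symm.trans
              ((φ.prodCongr (Equiv.refl _)).trans (Equiv.prodAssoc _ _ _))).sumCongr (Equiv.refl _)).trans
              (Equiv.prodSumDistrib _ _ _).symm)
        have heq : ∀ i j, (eq1 (.inl (i, j))).1 = (φ (.inl i)).1 := fun i j => by simp [eq1]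
        refine CfsgLib.BlockDecomp.of_basis (by omega : 0 < a) ht (Fintype.card_fin t) (b.reindex eq1) Prod.fst
          (fun j => by rw [card_fst]; simp only [Fintype.card_sum, Fintype.card_prod, Fintype.card_fin]; rw [mul_comm A]; exact haB)
          1 S hSinj ?_
        intro x
        obtain ⟨y, rfl⟩ := eq1.surjective x
        rw [Basis.reindex_apply, Equiv.symm_apply_apply]
        rcases y with ⟨i, j⟩ | l
        · refine Submodule.span_mono ?_ (hpiece i j)
          rintro _ ⟨j', rfl⟩
          exact ⟨eq1 (.inl (i, j')), by simp [heq], by simp⟩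
        · rw [hfixb]
          exact Submodule.subset_span ⟨eq1 (.inr l), rfl, by simp⟩
    · push Not at hθ
      obtain ⟨m, b, hb⟩ := exists_monomial T hθ hTr
      have hmr : m * r = n := by
        have := Module.finrank_eq_card_basis b
        simp only [Module.finrank_fin_fun, Fintype.card_prod, Fintype.card_fin] at this
        omega
      by_cases hra : r ∣ a
      · obtain ⟨a', ha'⟩ := hra
        have hm : m = t * a' := Nat.eq_of_mul_eq_mul_right (show 0 < r by omega) (by rw [hmr, hat, ha']; ring)
        let eq1 : Fin m × Fin r ≃ Fin t × (Fin a' × Fin r) :=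
          (((finCongr hm).trans finProdFinEquiv.symm).prodCongr (Equiv.refl _)).trans (Equiv.prodAssoc _ _ _)
        refine CfsgLib.BlockDecomp.of_basis (by omega : 0 < a) ht (Fintype.card_fin t) (b.reindex eq1) Prod.fst
          (fun j => by rw [card_fst]; simp [ha', mul_comm]) 1 T hinj ?_
        intro x
        obtain ⟨⟨i, j⟩, rfl⟩ := eq1.surjective x
        rw [Basis.reindex_apply, Equiv.symm_apply_apply]
        refine Submodule.span_mono ?_ (hb i j)
        rintro _ rfl
        exact ⟨eq1 (i, finRotate r j), by simp [eq1], by simp⟩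
      · obtain ⟨t', ht'⟩ : r ∣ t := by
          refine ((Fact.out : r.Prime).dvd_mul.1 ?_).resolve_left hra
          exact ⟨m, by rw [← hat, ← hmr, mul_comm]⟩
        have hm : m = t' * a := Nat.eq_of_mul_eq_mul_right (show 0 < r by omega) (by rw [hmr, hat, ht']; ring)
        let eq0 : Fin m ≃ Fin t' × Fin a := (finCongr hm).trans finProdFinEquiv.symm
        let eq1 : Fin m × Fin r ≃ (Fin t' × Fin r) × Fin a :=
          { toFun := fun p => (((eq0 p.1).1, p.2), (eq0 p.1).2)
            invFun := fun p => (eq0.symm (p.1.1, p.2), p.1.2)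
            left_inv := fun p => by simp
            right_inv := fun p => by simp }
        refine CfsgLib.BlockDecomp.of_basis (by omega : 0 < a) ht (by simp [ht', mul_comm]) (b.reindex eq1) Prod.fst
          (fun j => by rw [card_fst, Fintype.card_fin]) ((Equiv.refl _).prodCongr (finRotate r)) T hinj ?_
        intro x
        obtain ⟨⟨i, j⟩, rfl⟩ := eq1.surjective x
        rw [Basis.reindex_apply, Equiv.symm_apply_apply]
        refine Submodule.span_mono ?_ (hb i j)
        rintro _ rfl
        exact ⟨eq1 (i, finRotate r j), rfl, by simp⟩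

end Cfsg.Agent.S5958
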