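import Cfsg.Statements.S5959
import Cfsg.Agent.Lib.Maximal99.RankProfile

set_option autoImplicit false
open scoped MatrixGroups
open Cfsg

namespace Cfsg.Agent.S5959

open CfsgLib.RankProfile Module

lemma pow_one_aux {F V : Type*} [Field F] [AddCommGroup V] [Module F V] (N : Module.End F V) :
    imDim N ⊤ 1 = finrank F ↥(LinearMap.range N) := by rw [imDim_top, pow_one]

/-- In characteristic `p` the geometric sum is `(x - 1) ^ (p - 1)`. -/
lemma geom_sum_eq_sub_pow {F : Type*} [Field F] {p : ℕ} [Fact p.Prime] [CharP F p]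
    {A : Type*} [Ring A] [Algebra F A] (x : A) :
    ∑ i ∈ Finset.range p, x ^ i = (x - 1) ^ (p - 1) := by
  have hp : 0 < p := (Fact.out : p.Prime).pos
  have h : (∑ i ∈ Finset.range p, (Polynomial.X : Polynomial F) ^ i) = (Polynomial.X - 1) ^ (p - 1) := by
    refine mul_right_cancel₀ (b := Polynomial.X - 1) ?_ ?_
    · simpa using Polynomial.X_sub_C_ne_zero (1 : F)
    · rw [geom_sum_mul, ← pow_succ, Nat.sub_add_cancel hp, sub_pow_char, one_pow]
  simpa using congrArg (Polynomial.aeval x) h

/-- Elements of order `p` of PSL_n(q) and imprimitive subgroups: a necessary condition. Here `T = PSL_n(F)` for a field `F` with `q = p^f` elements (`n ≥ 2`, `(n, q) ≠ (2, 2), (2, 3)`), `n = a·t` with `t ≥ 2`, and Ω is the set of direct-sum decompositions of `F^n` into `t` subspaces of dimension `a` (unordered; their number is the number of ordered ones divided by `t!`), whose stabilizers are the imprimitive subgroups of type GL_a(q) ≀ S_t (maximal except in some small cases; maximality is not assumed); an element of `T` of prime order `r` (a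 matrix `x` of determinant 1 with `x^r` scalar, `x` not scalar) fixes a point of Ω when it permutes the summands of some such decomposition. Suppose `p > 2` divides the number of such decompositions. If every element of `T` of order `p` stabilizes such a decomposition, then every partition of `n` into parts of size at most `p` in which the part `p` occurs fewer than `a` times contains (as a sub-multiset) a partition of `a`. -/
theorem result {F : Type*} [Field F] [Fintype F] {p : ℕ} [Fact p.Prime] [CharP F p] {q : ℕ} (hq : Fintype.card F = q)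
    (n a t : ℕ) (hn : 2 ≤ n) (hT : (n, q) ≠ (2, 2) ∧ (n, q) ≠ (2, 3)) (hat : n = a * t) (ha : 1 ≤ a) (ht : 2 ≤ t)
    (hp : 2 < p) (hΩ : p ∣ Nat.card {D : Fin t → Submodule F (Fin n → F) // Cfsg.Geo.IsMDecomposition a D} / Nat.factorial t)
    (h : ∀ x : Matrix.SpecialLinearGroup (Fin n) F,
      (∃ z : F, ((x ^ p : Matrix.SpecialLinearGroup (Fin n) F) : Matrix (Fin n) (Fin n) F) = z • (1 : Matrix (Fin n) (Fin n) F)) →
      (∀ z : F, (x : Matrix (Fin n) (Fin n) F) ≠ z • (1 : Matrix (Fin n) (Fin n) F)) →
      ∃ D : Fin t → Submodule F (Fin n → F), Cfsg.Geo.IsMDecomposition a D ∧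
        ∃ σ : Equiv.Perm (Fin t), ∀ j, (D j).map (Matrix.toLin' (x : Matrix (Fin n) (Fin n) F)) = D (σ j)) :
    (∀ μ : Multiset ℕ, (∀ b ∈ μ, 0 < b ∧ b ≤ p) → μ.sum = n → μ.count p < a → ∃ ν : Multiset ℕ, ν ≤ μ ∧ ν.sum = a) := by
  classical
  intro μ hμ hsum hcount
  by_cases hall : ∀ b ∈ μ, b = 1
  · rw [Multiset.eq_replicate_card.2 hall] at hsum ⊢
    rw [Multiset.sum_replicate, smul_eq_mul, Nat.mul_one] at hsum
    refine ⟨Multiset.replicate a 1, ?_, by simp⟩
    rw [Multiset.le_iff_count]
    intro c
    have : a ≤ n := by rw [hat]; exact Nat.le_mul_of_pos_right a (by omega)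
    simp only [Multiset.count_replicate]
    split <;> omega
  obtain ⟨N, hN⟩ := exists_end_of_partition F μ hsum
  have hNp : N ^ p = 0 := by
    have h0 := hN p
    rw [partProfile_eq_zero (fun b hb => (hμ b hb).2), imDim_top, Submodule.finrank_eq_zero] at h0
    exact LinearMap.range_eq_bot.1 h0
  set M : Matrix (Fin n) (Fin n) F := 1 + LinearMap.toMatrix' N with hM
  have : Nonempty (Fin n) := ⟨⟨0, by omega⟩⟩
  have hMN : Matrix.toLinAlgEquiv' M = 1 + N := by
    rw [hM, map_add, map_one]
    congr 1
    exact Matrix.toLin'_toMatrix' N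
  have hMp : M ^ p = 1 := by
    apply Matrix.toLinAlgEquiv'.injective
    rw [map_pow, map_one, hMN]
    haveI : CharP (Module.End F (Fin n → F)) p := charP_of_injective_algebraMap' F p
    rw [add_pow_char_of_commute p (Commute.one_left N), hNp, one_pow, add_zero]
  have hdet : M.det = 1 := by
    refine frobenius_inj F p ?_
    rw [frobenius_def, frobenius_def, one_pow, ← Matrix.det_pow, hMp, Matrix.det_one]
  let x : Matrix.SpecialLinearGroup (Fin n) F := ⟨M, hdet⟩
  obtain ⟨D, hD, σ, hσ⟩ := h x ⟨1, by rw [Matrix.SpecialLinearGroup.coe_pow, one_smul]; exact hMp⟩ (by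
    intro z hz
    apply hall
    intro b hb
    have hN' : N = (z - 1) • (1 : Module.End F (Fin n → F)) := by
      have := congrArg Matrix.toLinAlgEquiv' (show M = z • (1 : Matrix (Fin n) (Fin n) F) from hz)
      rw [hMN, map_smul, map_one] at this
      refine LinearMap.ext fun v => ?_
      have h2 := LinearMap.congr_fun this v
      simp only [LinearMap.add_apply, LinearMap.smul_apply, Module.End.one_apply] at h2 ⊢
      rw [sub_smul, one_smul, ← h2]
      abel
    have hz1 : (z - 1) ^ p = 0 := by
      have h0 := congrFun (congrArg (fun L : Module.End F (Fin n → F) => L (fun _ => (1 : F))) hNp) ⟨0, by omega⟩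
      rw [hN', smul_pow, one_pow] at h0
      simpa using h0
    have hN0 : N = 0 := by rw [hN', eq_zero_of_pow_eq_zero hz1, zero_smul]
    have h1 := hN 1
    rw [pow_one_aux N, hN0, LinearMap.range_zero, finrank_bot] at h1
    have hb1 : b - 1 ≤ partProfile μ 1 := Multiset.le_sum_of_mem (Multiset.mem_map_of_mem (fun c : ℕ => c - 1) hb)
    have := (hμ b hb).1
    omega)
  set T : Module.End F (Fin n → F) := Matrix.toLin' M with hT'
  have hT1 : T = 1 + N := hMN
  have hσ' : ∀ j, (D j).map T = D (σ j) := hσ
  have hpow : ∀ (i : ℕ) (j : Fin t), (D j).map (T ^ i) = D ((σ ^ i) j) := by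
    intro i
    induction i with
    | zero =>
      intro j
      rw [pow_zero, pow_zero, show (1 : Module.End F (Fin n → F)) = LinearMap.id from rfl, Submodule.map_id]
      rfl
    | succ i ih => intro j; rw [map_pow_succ, ih, hσ', pow_succ' σ, Equiv.Perm.mul_apply]
  have hDinj : Function.Injective D := by
    intro j k hjk
    by_contra hne
    have h0 := hD.finrank_eq k
    have hbot : D k = ⊥ := by
      have := hD.indep.pairwiseDisjoint hne
      rw [Function.onFun, hjk] at this
      exact disjoint_self.1 this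
    rw [hbot, finrank_bot] at h0
    exact absurd hD.pos (by omega)
  have hσ1 : σ = 1 := by
    by_contra hne
    obtain ⟨j, hj⟩ := not_forall.1 (fun h0 : ∀ j, σ j = j => hne (Equiv.ext h0))
    have hσp : (σ ^ p) j = j := hDinj (by
      rw [← hpow, hT1]
      haveI : CharP (Module.End F (Fin n → F)) p := charP_of_injective_algebraMap' F p
      rw [add_pow_char_of_commute p (Commute.one_left N), hNp, one_pow, add_zero,
        show (1 : Module.End F (Fin n → F)) = LinearMap.id from rfl, Submodule.map_id])
    have hper : Function.minimalPeriod σ j = p :=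
      Function.minimalPeriod_eq_prime (hp := Fact.mk Fact.out)
        (by rw [Function.IsPeriodicPt, Function.IsFixedPt, ← Equiv.Perm.coe_pow]; exact hσp) hj
    have hmoved : ∀ i, 1 ≤ i → i < p → (σ ^ i) j ≠ j := by
      intro i h1 h2 h3
      refine Function.not_isPeriodicPt_of_pos_of_lt_minimalPeriod (f := σ) (x := j) (n := i)
        (by omega) (by rw [hper]; exact h2) ?_
      rw [Function.IsPeriodicPt, Function.IsFixedPt, ← Equiv.Perm.coe_pow]
      exact h3
    have hker : LinearMap.ker ((N ^ (p - 1)).domRestrict (D j)) = ⊥ := by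
      rw [Submodule.eq_bot_iff]
      rintro ⟨v, hv⟩ h0
      simp only [LinearMap.mem_ker, LinearMap.domRestrict_apply] at h0
      have hTN : N = T - 1 := by rw [hT1]; abel
      rw [hTN, ← geom_sum_eq_sub_pow (F := F) T, Finset.range_eq_Ico,
        Finset.sum_eq_sum_Ico_succ_bot (show 0 < p by omega), pow_zero, LinearMap.add_apply,
        Module.End.one_apply] at h0
      have hmem : (∑ i ∈ Finset.Ico (0 + 1) p, T ^ i) v ∈ ⨆ (k) (_ : k ≠ j), D k := by
        rw [LinearMap.sum_apply]
        refine Submodule.sum_mem _ fun i hi => ?_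
        rw [Finset.mem_Ico] at hi
        refine Submodule.mem_iSup_of_mem ((σ ^ i) j) ?_
        refine Submodule.mem_iSup_of_mem (hmoved i (by omega) hi.2) ?_
        rw [← hpow]
        exact Submodule.mem_map_of_mem hv
      rw [eq_neg_of_add_eq_zero_right h0, Submodule.neg_mem_iff] at hmem
      exact Subtype.ext (Submodule.disjoint_def.1 (hD.indep j) v hv hmem)
    have hrk := LinearMap.finrank_range_of_inj (LinearMap.ker_eq_bot.1 hker)
    rw [LinearMap.range_domRestrict, hD.finrank_eq] at hrk
    have hle : imDim N (D j) (p - 1) ≤ imDim N ⊤ (p - 1) :=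
      Submodule.finrank_mono (Submodule.map_mono le_top)
    rw [imDim, hrk, hN] at hle
    have hc := count_partProfile μ (p - 1)
    rw [show p - 1 + 1 = p by omega, show p - 1 + 2 = p + 1 by omega,
      partProfile_eq_zero (μ := μ) (k := p) (fun b hb => (hμ b hb).2),
      partProfile_eq_zero (μ := μ) (k := p + 1) (fun b hb => ((hμ b hb).2).trans (by omega))] at hc
    omega
  have hinv : ∀ j, (D j).map N ≤ D j := by
    intro j
    rintro _ ⟨v, hv, rfl⟩
    have h1 : T v ∈ D j := by
      have := hσ' j
      rw [hσ1] at this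
      exact this ▸ Submodule.mem_map_of_mem hv
    rw [hT1, LinearMap.add_apply, Module.End.one_apply] at h1
    exact (Submodule.add_mem_iff_right _ hv).1 h1
  obtain ⟨j₀⟩ : Nonempty (Fin t) := ⟨⟨0, by omega⟩⟩
  set W' : Submodule F (Fin n → F) := ⨆ (k) (_ : k ≠ j₀), D k with hW'
  have hW'i : W'.map N ≤ W' := by
    rw [hW', Submodule.map_iSup]
    refine iSup_mono fun k => ?_
    rw [Submodule.map_iSup]
    exact iSup_mono fun _ => hinv k
  have hc : IsCompl (D j₀) W' := by
    refine ⟨hD.indep j₀, codisjoint_iff.2 ?_⟩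
    rw [eq_top_iff, ← hD.iSup_eq_top]
    refine iSup_le fun k => ?_
    by_cases hk : k = j₀
    · exact hk ▸ le_sup_left
    · exact le_sup_of_le_right (le_iSup₂_of_le k hk le_rfl)
  obtain ⟨ν, ν', hνν, hν, -⟩ := exists_sub_partition N (fun b hb => (hμ b hb).1) hN (hinv j₀) hW'i hc
  refine ⟨ν, hνν ▸ Multiset.le_add_right _ _, ?_⟩
  rw [← partProfile_zero, hν, imDim_zero, hD.finrank_eq]

end Cfsg.Agent.S5959
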