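import Cfsg.Statements.S5961
import Cfsg.Agent.Lib.Maximal99.SympWitness
import Cfsg.Agent.Lib.Maximal99.SympDecomp
import Cfsg.Agent.Lib.Maximal99.PermSummands
-- import your own Cfsg.Agent.* helpers here

set_option autoImplicit false
open scoped MatrixGroups
open Cfsg

namespace Cfsg.Agent.S5961

open Module
open LinearMap (BilinForm)
open CfsgLib.SympSemiR (Nd)

section

variable {F : Type*} [Field F] [Fintype F] {V : Type*} [AddCommGroup V] [Module F V] [FiniteDimensional F V]
  {B : BilinForm F V} (hA : B.IsAlt) {T : Module.End F V} (hTB : ∀ v w, B (T v) (T w) = B v w)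
  {r : ℕ} [Fact r.Prime] (hT : T ^ r = 1) {q i c : ℕ} (hq : Fintype.card F = q) (hi : i = orderOf (q : ZMod r))
  (hc : c = if Even i then i else 2 * i) (hr2 : r ≠ 2) (hi0 : 0 < i) (hr0 : (r : F) ≠ 0)
include hA hTB hT hq hi hc hr2 hi0 hr0

/-- Moving and fixed parts can be distributed over blocks of dimension `a`. -/
lemma exists_blocks {A a : ℕ} (hae : Even a) (hAa : A * c ≤ a) :
    ∀ (t e : ℕ) (R K : Submodule F V), R ≤ LinearMap.range (T - 1) → K ≤ LinearMap.ker (T - 1) → Nd B R → Nd B K →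
      (∀ x ∈ R, T x ∈ R) → finrank F R = e * c → e * c + finrank F K = t * a → e ≤ t * A →
      ∃ D : Fin t → Submodule F V, (∀ j, D j ≤ R ⊔ K) ∧ (∀ j, finrank F (D j) = a) ∧ (∀ j, Nd B (D j)) ∧
        (∀ j, ∀ x ∈ D j, T x ∈ D j) ∧ ∀ j j', j ≠ j' → ∀ u ∈ D j, ∀ v ∈ D j', B u v = 0 := by
  intro t
  induction t with
  | zero =>
    intro e R K _ _ _ _ _ _ _ _
    exact ⟨Fin.elim0, fun j => j.elim0, fun j => j.elim0, fun j => j.elim0, fun j => j.elim0, fun j => j.elim0⟩
  | succ t ih =>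
    intro e R K hR hK hndR hndK hTR hRd hsum he
    have hTK : ∀ U ≤ K, ∀ x ∈ U, T x ∈ U := fun U hU x hx => by
      have h1 : T x = x := by simpa [sub_eq_zero] using hK (hU hx)
      rw [h1]; exact hx
    have hflip : ∀ x y, B y x = -B x y := CfsgLib.Sp.alt_flip hA
    obtain ⟨e₁, e₂, he12, he1, he2, hcase⟩ : ∃ e₁ e₂, e = e₁ + e₂ ∧ e₁ ≤ A ∧ e₂ ≤ t * A ∧ (e₁ = A ∨ e₂ = 0) :=
      ⟨min e A, e - min e A, by omega, min_le_right _ _, by rw [add_mul, one_mul] at he; omega, by omega⟩
    have he1c : e₁ * c ≤ a := (Nat.mul_le_mul_right c he1).trans hAa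
    obtain ⟨g, hg⟩ : ∃ g, a = e₁ * c + 2 * g := by
      have hce : Even c := by
        rw [hc]
        split_ifs with he
        · exact he
        · exact even_two_mul i
      obtain ⟨w, hw⟩ := (Nat.even_sub he1c).2 (iff_of_true hae (hce.mul_left e₁))
      exact ⟨w, by omega⟩
    have hgK : g * 2 ≤ finrank F K := by
      rw [he12, add_mul, add_mul, one_mul] at hsum
      rcases hcase with rfl | rfl
      · have h1 : e₂ * c ≤ t * (e₁ * c) := by rw [← mul_assoc]; exact Nat.mul_le_mul_right c he2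
        have h2 : t * (e₁ * c) ≤ t * a := Nat.mul_le_mul_left t he1c
        omega
      · rw [zero_mul] at hsum
        omega
    have hfix : ∀ v ∈ R, T v = v → v = 0 := fun v hv hv1 => Submodule.disjoint_def.1
      (CfsgLib.OrderR.disjoint_fix_move T hT hr0) v
      (by rw [LinearMap.mem_ker, LinearMap.sub_apply, Module.End.one_apply, sub_eq_zero]; exact hv1) (hR hv)
    obtain ⟨W₁, hW₁R, hW₁, hTW₁, hW₁d⟩ := CfsgLib.SympSemiR.exists_sub (c' := c) hA hTB hT hndR hTR
      (fun U hU hndU hTU hne => CfsgLib.SympSemiR.exists_piece hA hTB hT hq hi hc hr2 hi0 hr0 hndU hTU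
        (fun v hv => hfix v (hU hv)) hne) e₁ (by rw [hRd, he12, add_mul]; omega)
    obtain ⟨W₂, hW₂K, hW₂, -, hW₂d⟩ := CfsgLib.SympSemiR.exists_sub (c' := 2) hA hTB hT hndK (hTK K le_rfl)
      (fun U hU hndU _ hne => by
        obtain ⟨W, h1, h2, h3⟩ := CfsgLib.SympSemiR.exists_plane hA hndU hne
        exact ⟨W, h1, h2, hTK W (h1.trans hU), h3⟩) g hgK
    obtain ⟨hR', hR'd⟩ := CfsgLib.SympSemiR.nd_inf_orth hA hndR hW₁ hW₁R
    obtain ⟨hK', hK'd⟩ := CfsgLib.SympSemiR.nd_inf_orth hA hndK hW₂ hW₂K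
    have hperp : ∀ u ∈ K, ∀ v ∈ R, B u v = 0 := fun u hu v hv =>
      CfsgLib.SympSemiR.fix_orth_move hTB (hK hu) (hR hv)
    have hperp' : ∀ v ∈ R, ∀ u ∈ K, B v u = 0 := fun v hv u hu => by rw [hflip u v, hperp u hu v hv, neg_zero]
    obtain ⟨hW, hWd⟩ := CfsgLib.SympSemiR.nd_sup hA hW₁ hW₂ fun u hu v hv => hperp' u (hW₁R hu) v (hW₂K hv)
    obtain ⟨D, hle, hdim, hnd, hinv, horth⟩ := ih e₂ (R ⊓ B.orthogonal W₁) (K ⊓ B.orthogonal W₂)
      (inf_le_left.trans hR) (inf_le_left.trans hK) hR' hK'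
      (fun x hx => ⟨hTR x hx.1, CfsgLib.SympSemiR.orth_inv hA hTB hT hTW₁ x hx.2⟩)
      (by rw [hRd, hW₁d, he12, add_mul] at hR'd; omega)
      (by rw [hW₂d] at hK'd; rw [he12, add_mul, add_mul, one_mul] at hsum; omega) he2
    have hWD : ∀ j, ∀ u ∈ W₁ ⊔ W₂, ∀ v ∈ D j, B u v = 0 := by
      intro j u hu v hv
      obtain ⟨u₁, hu₁, u₂, hu₂, rfl⟩ := Submodule.mem_sup.1 hu
      obtain ⟨v₁, hv₁, v₂, hv₂, rfl⟩ := Submodule.mem_sup.1 (hle j hv)
      have k1 : B u₁ v₁ = 0 := hv₁.2 u₁ hu₁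
      have k2 : B u₁ v₂ = 0 := hperp' u₁ (hW₁R hu₁) v₂ hv₂.1
      have k3 : B u₂ v₁ = 0 := hperp u₂ (hW₂K hu₂) v₁ hv₁.1
      have k4 : B u₂ v₂ = 0 := hv₂.2 u₂ hu₂
      simp [k1, k2, k3, k4]
    refine ⟨Fin.cons (W₁ ⊔ W₂) D, Fin.cases (sup_le_sup hW₁R hW₂K) fun j => (hle j).trans (sup_le_sup inf_le_left inf_le_left),
      Fin.cases (by rw [Fin.cons_zero, hWd, hW₁d, hW₂d, hg, mul_comm g]) hdim, Fin.cases hW hnd,
      Fin.cases (fun x hx => ?_) hinv, Fin.cases (fun j' hne => ?_) fun j j' hne => ?_⟩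
    · obtain ⟨u₁, hu₁, u₂, hu₂, rfl⟩ := Submodule.mem_sup.1 hx
      rw [map_add]
      exact add_mem (Submodule.mem_sup_left (hTW₁ u₁ hu₁)) (Submodule.mem_sup_right (hTK W₂ hW₂K u₂ hu₂))
    · obtain ⟨j', rfl⟩ := Fin.eq_succ_of_ne_zero (Ne.symm hne)
      intro u hu v hv
      exact hWD j' u hu v hv
    · revert hne
      refine Fin.cases (fun _ u hu v hv => ?_) (fun j' hne => ?_) j'
      · rw [hflip v u, hWD j v hv u hu, neg_zero]
      · exact horth j j' fun e => hne (congrArg _ e)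

/-- If all summands are fixed the moving space is small. -/
lemma rank_le_of_fixed {t a : ℕ} (D : Fin t → Submodule F V) (hdim : ∀ j, finrank F (D j) = a)
    (hnd : ∀ j, Nd B (D j)) (hinv : ∀ j, ∀ x ∈ D j, T x ∈ D j) (hsup : iSup D = ⊤) :
    finrank F ↥(LinearMap.range (T - 1)) ≤ t * (c * (a / c)) := by
  classical
  have hflip : ∀ x y, B y x = -B x y := CfsgLib.Sp.alt_flip hA
  have hj : ∀ j, finrank F ↥((D j).map (T - 1)) ≤ c * (a / c) := by
    intro j
    have hle : (D j).map (T - 1) ≤ D j := by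
      rintro _ ⟨v, hv, rfl⟩
      exact (D j).sub_mem (hinv j v hv) hv
    have hTM : ∀ x ∈ (D j).map (T - 1), T x ∈ (D j).map (T - 1) := by
      rintro _ ⟨v, hv, rfl⟩
      exact ⟨T v, hinv j v hv, by simp⟩
    have hndM : Nd B ((D j).map (T - 1)) := by
      intro u hu hall
      refine hnd j u (hle hu) fun v hv => ?_
      rw [← CfsgLib.SympSemiR.inf_fix_sup_map hT hr0 (hinv j)] at hv
      obtain ⟨v₁, hv₁, v₂, hv₂, rfl⟩ := Submodule.mem_sup.1 hv
      rw [map_add, hall v₂ hv₂, hflip v₁ u, CfsgLib.SympSemiR.fix_orth_move hTB hv₁.2 (LinearMap.map_le_range hu),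
        neg_zero, add_zero]
    obtain ⟨w, hw⟩ := CfsgLib.SympSemiR.dvd_finrank_moved hA hTB hT hq hi hc hndM hTM fun v hv hv1 =>
      Submodule.disjoint_def.1 (CfsgLib.OrderR.disjoint_fix_move T hT hr0) v
        (by rw [LinearMap.mem_ker, LinearMap.sub_apply, Module.End.one_apply, sub_eq_zero]; exact hv1)
        (LinearMap.map_le_range hv)
    have hle' := (Submodule.finrank_mono hle).trans (hdim j).le
    rw [hw] at hle' ⊢
    rcases Nat.eq_zero_or_pos c with rfl | hc0
    · simp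
    · exact Nat.mul_le_mul_left c ((Nat.le_div_iff_mul_le hc0).2 (by rw [mul_comm]; exact hle'))
  have hrange : LinearMap.range (T - 1) ≤ ⨆ j, (D j).map (T - 1) := by
    rw [← Submodule.map_iSup, hsup, Submodule.map_top]
  refine (Submodule.finrank_mono hrange).trans ?_
  have key : ∀ s : Finset (Fin t), finrank F ↥(s.sup fun j => (D j).map (T - 1)) ≤ s.card * (c * (a / c)) := by
    intro s
    induction s using Finset.induction with
    | empty => simp
    | insert j s hjs ih =>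
      rw [Finset.sup_insert, Finset.card_insert_of_notMem hjs, add_mul, one_mul, add_comm]
      exact (Submodule.finrank_add_le_finrank_add_finrank _ _).trans (Nat.add_le_add (hj j) ih)
  have := key Finset.univ
  rwa [Finset.sup_univ_eq_iSup, Finset.card_univ, Fintype.card_fin] at this

end

/-- Elements of odd prime order of PSp_n(q) and imprimitive subgroups. Here `T = PSp_n(q)`, `n = 2d ≥ 4`, `(n, q) ≠ (4, 2)`, realised through the symplectic matrices over the field `F` with `q` elements and the standard alternating form; `n = a·t` with `a` even and `t ≥ 2`, and Ω is the (nonempty) set of orthogonal decompositions of `F^n` into `t` nondegenerate subspaces of dimension `a` (unordered; counted as ordered ones divided by `t!`), whose stabilizers are the imprimitive subgroups of type Sp_a(q) ≀ S_t (maximality is not assumed); an element of `T` of prime order `r` (a symplectic matrix `x` with `x^r` scalar, `x` not scalar) fixes a point of Ω when it permutes the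 summands of some such decomposition. Let `r ≠ p` be an odd prime dividing the number of such decompositions, let `i` be the multiplicative order of `q` modulo `r`, `c = i` if `i` is even and `c = 2i` if `i` is odd, and write `k = n mod c`, `ℓ = a mod c`. Then every element of `T` of order `r` stabilizes such a decomposition if and only if `c ≤ a` and `k = t·ℓ`. -/
theorem result {F : Type*} [Field F] [Fintype F] {p : ℕ} [Fact p.Prime] [CharP F p] {q : ℕ} (hq : Fintype.card F = q)
    (d : ℕ) (hd : 2 ≤ d) (hT : (d, q) ≠ (2, 2))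
    (a t : ℕ) (hat : 2 * d = a * t) (ha : 2 ≤ a) (hae : Even a) (ht : 2 ≤ t)
    (r : ℕ) [Fact r.Prime] (hr2 : r ≠ 2) (hrp : r ≠ p) (hΩ : r ∣ Nat.card {D : Fin t → Submodule F (Fin d ⊕ Fin d → F) // (Cfsg.Geo.IsMDecomposition a D ∧ (∀ j, ∀ u ∈ D j, u ≠ 0 → ∃ v ∈ D j, Cfsg.sympForm d F u v ≠ 0) ∧
          (∀ j j', j ≠ j' → ∀ u ∈ D j, ∀ v ∈ D j', Cfsg.sympForm d F u v = 0))} / Nat.factorial t)
    (i c : ℕ) (hi : i = orderOf (q : ZMod r)) (hc : c = if Even i then i else 2 * i) :
    (∀ x : ↥(Matrix.symplecticGroup (Fin d) F),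
      (∃ z : F, ((x ^ r : ↥(Matrix.symplecticGroup (Fin d) F)) : Matrix (Fin d ⊕ Fin d) (Fin d ⊕ Fin d) F) = z • (1 : Matrix (Fin d ⊕ Fin d) (Fin d ⊕ Fin d) F)) →
      (∀ z : F, (x : Matrix (Fin d ⊕ Fin d) (Fin d ⊕ Fin d) F) ≠ z • (1 : Matrix (Fin d ⊕ Fin d) (Fin d ⊕ Fin d) F)) →
      ∃ D : Fin t → Submodule F (Fin d ⊕ Fin d → F), (Cfsg.Geo.IsMDecomposition a D ∧ (∀ j, ∀ u ∈ D j, u ≠ 0 → ∃ v ∈ D j, Cfsg.sympForm d F u v ≠ 0) ∧
          (∀ j j', j ≠ j' → ∀ u ∈ D j, ∀ v ∈ D j', Cfsg.sympForm d F u v = 0)) ∧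
        ∃ σ : Equiv.Perm (Fin t), ∀ j, (D j).map (Matrix.toLin' (x : Matrix (Fin d ⊕ Fin d) (Fin d ⊕ Fin d) F)) = D (σ j)) ↔
    (c ≤ a ∧ (2 * d) % c = t * (a % c)) := by
  classical
  have hr3 : 3 ≤ r := by have := (Fact.out : r.Prime).two_le; omega
  have hr0 : (r : F) ≠ 0 := CfsgLib.OrderR.cast_ne_zero (p := p) hrp
  have hrq : (q : ZMod r) ≠ 0 := CfsgLib.OrderR.natCast_ne_zero_of_card hq hrp
  have hidvd : i ∣ r - 1 := by
    rw [hi]; exact orderOf_dvd_of_pow_eq_one (ZMod.pow_card_sub_one_eq_one hrq)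
  have hi0 : 0 < i := Nat.pos_of_dvd_of_pos hidvd (by omega)
  have hce : Even c := by
    rw [hc]
    split_ifs with he
    · exact he
    · exact even_two_mul i
  have hc0 : 0 < c := by rw [hc]; split_ifs <;> omega
  have hcr : c ≤ r - 1 := by
    refine Nat.le_of_dvd (by omega) ?_
    rw [hc]
    split_ifs with he
    · exact hidvd
    · refine (Nat.coprime_two_left.2 (Nat.not_even_iff_odd.1 he)).mul_dvd_of_dvd_of_dvd ?_ hidvd
      obtain ⟨s, hs⟩ := (Fact.out : r.Prime).odd_of_ne_two hr2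
      exact ⟨s, by omega⟩
  have hA : (CfsgLib.Sp.sympBilin d F).IsAlt := CfsgLib.Sp.sympBilin_isAlt
  have hn : finrank F (Fin d ⊕ Fin d → F) = 2 * d := by
    rw [Module.finrank_fintype_fun_eq_card, Fintype.card_sum, Fintype.card_fin, two_mul]
  have hcd : c ≤ 2 * d := CfsgLib.SympWitness.le_of_dvd_card hq hi hc hrq
    (CfsgLib.SympDecompositions.dvd_card_sp ht (by omega) hae hat hΩ)
  constructor
  · intro hall
    have use : ∀ e : ℕ, 0 < e → e * c ≤ 2 * d →
        (e * c ≤ t * (c * (a / c)) ∨ (a ≤ 2 * d - e * c ∧ a * (r - 1) ≤ e * c)) := by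
      intro e he hec
      obtain ⟨k, hk⟩ : ∃ k, e * c + 2 * k = 2 * d := by
        obtain ⟨w, hw⟩ := (Nat.even_sub hec).2 (iff_of_true (even_two_mul d) (hce.mul_left e))
        exact ⟨w, by omega⟩
      obtain ⟨x, hx, hrank⟩ := CfsgLib.SympWitness.exists_witness hq hi hc hr0 hrq hk
      set T : Module.End F (Fin d ⊕ Fin d → F) :=
        Matrix.toLin' (x : Matrix (Fin d ⊕ Fin d) (Fin d ⊕ Fin d) F) with hTdef
      have hTr : T ^ r = 1 := by
        rw [hTdef, ← Matrix.toLin'_pow, ← SubmonoidClass.coe_pow, hx, OneMemClass.coe_one, Matrix.toLin'_one]; rfl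
      obtain ⟨D, hD, σ, hσ⟩ := hall x ⟨1, by rw [hx, OneMemClass.coe_one, one_smul]⟩ fun z hz => by
        have hTz : T = z • 1 := by rw [hTdef, hz, map_smul, Matrix.toLin'_one]; rfl
        have h2 : ∀ v w, z * z * CfsgLib.Sp.sympBilin d F v w = CfsgLib.Sp.sympBilin d F v w := fun v w => by
          have := CfsgLib.SympWitness.isometry x v w
          rw [← hTdef, hTz] at this
          simpa [mul_assoc] using this
        obtain ⟨v₁, hv₁⟩ : ∃ v₁ : Fin d ⊕ Fin d → F, v₁ ≠ 0 :=
          ⟨Pi.single (Sum.inl ⟨0, by omega⟩) 1, fun h => one_ne_zero (α := F) (by simpa using congrFun h (Sum.inl ⟨0, by omega⟩))⟩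
        obtain ⟨w₁, hw₁⟩ : ∃ w, CfsgLib.Sp.sympBilin d F v₁ w ≠ 0 := by
          by_contra h
          push Not at h
          exact hv₁ (CfsgLib.Sp.sympBilin_separatingLeft _ h)
        have hz2 : z * z = 1 := (mul_left_eq_self₀.1 (h2 v₁ w₁)).resolve_right hw₁
        have hzr : z ^ r = 1 := by
          have := LinearMap.congr_fun hTr v₁
          rw [hTz, _root_.smul_pow, one_pow, LinearMap.smul_apply, Module.End.one_apply] at this
          exact smul_left_injective F hv₁ (by simpa using this)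
        obtain ⟨s, hs⟩ := (Fact.out : r.Prime).odd_of_ne_two hr2
        rw [hs, pow_succ, pow_mul, pow_two, hz2, one_pow, one_mul] at hzr
        have h0 : T - 1 = 0 := by rw [hTz, hzr, one_smul, sub_self]
        rw [h0, LinearMap.range_zero, finrank_bot] at hrank
        exact (Nat.mul_pos he hc0).ne hrank
      by_cases hfix : ∀ j, σ j = j
      · left
        rw [← hrank]
        exact rank_le_of_fixed hA (CfsgLib.SympWitness.isometry x) hTr hq hi hc hr2 hi0 hr0 D hD.1.finrank_eq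
          (fun j => (CfsgLib.SympDecompositions.nd_iff _).1 (hD.2.1 j))
          (fun j v hv => by
            have := Submodule.mem_map_of_mem (f := T) hv
            rwa [hσ, hfix] at this) hD.1.iSup_eq_top
      · right
        push Not at hfix
        obtain ⟨j, hj⟩ := hfix
        obtain ⟨h1, h2⟩ := CfsgLib.PermSummands.le_ker_of_moved hD.1 hTr hσ hj
        have := LinearMap.finrank_range_add_finrank_ker (T - 1)
        rw [hrank, hn] at this
        rw [hrank] at h2
        exact ⟨by omega, h2⟩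
    have hca : c ≤ a := by
      by_contra hlt
      rcases use 1 one_pos (by omega) with h | ⟨-, h⟩
      · rw [Nat.div_eq_of_lt (not_le.1 hlt), mul_zero, mul_zero] at h
        omega
      · have : 2 * (r - 1) ≤ a * (r - 1) := Nat.mul_le_mul_right _ ha
        omega
    refine ⟨hca, ?_⟩
    set E := 2 * d / c with hE
    have hEk : c * E + 2 * d % c = 2 * d := Nat.div_add_mod (2 * d) c
    have hE0 : 0 < E := Nat.div_pos hcd hc0
    rw [mul_comm c E] at hEk
    rcases use E hE0 (by omega) with h | ⟨h, -⟩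
    · rw [mul_comm c (a / c), ← mul_assoc] at h
      have hEle : E ≤ t * (a / c) := Nat.le_of_mul_le_mul_right h hc0
      have h1 : 2 * d = c * (t * (a / c)) + t * (a % c) := by
        conv_lhs => rw [hat, ← Nat.div_add_mod a c]
        ring
      have h2 : t * (a % c) ≤ 2 * d % c := by
        have := Nat.mul_le_mul_left c hEle
        rw [mul_comm E c] at hEk
        omega
      have h3 : 2 * d % c = (t * (a % c)) % c := by rw [h1, Nat.mul_add_mod]
      rw [h3, Nat.mod_eq_of_lt (h2.trans_lt (Nat.mod_lt _ hc0))]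
    · have := Nat.mod_lt (2 * d) hc0
      omega
  · rintro ⟨hca, hmod⟩ x ⟨z, hz⟩ -
    obtain ⟨hz1, hu⟩ := CfsgLib.SympWitness.exists_unsigned (show 0 < d by omega) ((Fact.out : r.Prime).odd_of_ne_two hr2) x hz
    have hz0 : z ≠ 0 := left_ne_zero_of_mul (a := z) (b := z) (by rw [hz1]; exact one_ne_zero)
    set S : Module.End F (Fin d ⊕ Fin d → F) :=
      z • Matrix.toLin' (x : Matrix (Fin d ⊕ Fin d) (Fin d ⊕ Fin d) F) with hS
    obtain ⟨hSr, hSB⟩ := hu S hS
    obtain ⟨hndK, hndR⟩ := CfsgLib.SympSemiR.nd_fix_move hA hSB hSr hr0 (CfsgLib.SympWitness.nd_top d)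
    have hTR : ∀ v ∈ LinearMap.range (S - 1), S v ∈ LinearMap.range (S - 1) := by
      rintro _ ⟨w, rfl⟩
      exact ⟨S w, by simp⟩
    obtain ⟨e, he⟩ := CfsgLib.SympSemiR.dvd_finrank_moved hA hSB hSr hq hi hc hndR hTR fun v hv hv1 =>
      Submodule.disjoint_def.1 (CfsgLib.OrderR.disjoint_fix_move S hSr hr0) v
        (by rw [LinearMap.mem_ker, LinearMap.sub_apply, Module.End.one_apply, sub_eq_zero]; exact hv1) hv
    rw [mul_comm] at he
    have hsum : e * c + finrank F ↥(LinearMap.ker (S - 1)) = t * a := by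
      have := LinearMap.finrank_range_add_finrank_ker (S - 1)
      rw [he, hn] at this
      rw [this, hat, mul_comm]
    have hAa : a / c * c ≤ a := Nat.div_mul_le_self a c
    have he' : e ≤ t * (a / c) := by
      have h1 : 2 * d = c * (t * (a / c)) + t * (a % c) := by
        conv_lhs => rw [hat, ← Nat.div_add_mod a c]
        ring
      have h2 := Nat.div_add_mod (2 * d) c
      have h3 : c * (2 * d / c) = c * (t * (a / c)) := by omega
      rw [← Nat.eq_of_mul_eq_mul_left hc0 h3, Nat.le_div_iff_mul_le hc0, hat, mul_comm a t]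
      omega
    obtain ⟨D, -, hdim, hnd, hinv, horth⟩ := exists_blocks hA hSB hSr hq hi hc hr2 hi0 hr0 hae hAa t e
      _ _ le_rfl le_rfl hndR hndK hTR he hsum he'
    refine ⟨D, CfsgLib.SympDecompositions.isOrth_of_nd ht (by omega) hat hdim hnd horth, Equiv.refl _, fun j => ?_⟩
    have hmap : (D j).map S ≤ D j := by rintro _ ⟨v, hv, rfl⟩; exact hinv j v hv
    have hSinj : Function.Injective S := fun v w h => by
      have := congrArg (fun u => (S ^ (r - 1)) u) h
      simp only [← Module.End.mul_apply, ← pow_succ, Nat.sub_add_cancel (show 1 ≤ r by omega), hSr, Module.End.one_apply] at this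
      exact this
    have heq : (D j).map S = D j := Submodule.eq_of_le_of_finrank_le hmap
      (by rw [(Submodule.equivMapOfInjective S hSinj (D j)).finrank_eq.symm])
    rw [hS, Submodule.map_smul _ _ _ hz0] at heq
    exact heq

end Cfsg.Agent.S5961
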