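import Cfsg.Statements.S5962
import Cfsg.Agent.Helper57Symp

set_option autoImplicit false
open scoped MatrixGroups
open Cfsg

namespace Cfsg.Agent.S5962

open Module

/-- The splitting property of an invariant subspace `X`: two isotropic subspaces spanning it, both fixed
(`c = 1`) or exchanged (`c = -1`) by `T`. -/
def Splits {F V : Type*} [Field F] [AddCommGroup V] [Module F V] (B : LinearMap.BilinForm F V)
    (T : V →ₗ[F] V) (swap : Prop) (X : Submodule F V) : Prop :=
  ∃ U W : Submodule F V, U ⊔ W = X ∧ (∀ u ∈ U, ∀ v ∈ U, B u v = 0) ∧ (∀ u ∈ W, ∀ v ∈ W, B u v = 0) ∧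
    ((¬ swap → U.map T ≤ U ∧ W.map T ≤ W) ∧ (swap → U.map T ≤ W ∧ W.map T ≤ U))

/-- An alternating form with an isometry of square `±1`: two isotropic subspaces spanning each non-degenerate
invariant subspace, permuted by the isometry. -/
theorem splits {F V : Type*} [Field F] [AddCommGroup V] [Module F V] [FiniteDimensional F V]
    (h2 : (2 : F) ≠ 0) (B : LinearMap.BilinForm F V) (hB : B.IsAlt) (T : V →ₗ[F] V)
    (hT : ∀ u v, B (T u) (T v) = B u v) (c : F) (hc : c = 1 ∨ c = -1) (hTT : ∀ v, T (T v) = c • v) :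
    ∀ (n : ℕ) (X : Submodule F V), finrank F ↥X = n → X.map T ≤ X →
      (∀ u ∈ X, u ≠ 0 → ∃ v ∈ X, B u v ≠ 0) → Splits B T (c = -1) X := by
  intro n
  induction n using Nat.strong_induction_on with
  | _ n ih =>
    intro X hn hX hnd
    by_cases hX0 : X = ⊥
    · subst hX0
      exact ⟨⊥, ⊥, by simp, by simp, by simp, by simp⟩
    have hskew : ∀ u v, B u v = -B v u := fun u v => (LinearMap.IsAlt.neg hB v u).symm
    have hTX : ∀ v ∈ X, T v ∈ X := fun v hv => hX (Submodule.mem_map_of_mem hv)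
    have hne1 : (1 : F) ≠ -1 := fun h => h2 (by linear_combination h)
    have hadj : ∀ u v, B (T u) v = c * B u (T v) := by
      intro u v
      have h := hT u (T v)
      rw [hTT, map_smul, smul_eq_mul] at h
      rcases hc with rfl | rfl
      · linear_combination h
      · linear_combination -h
    -- a hyperbolic pair
    obtain ⟨u, w, huX, hwX, huw, hu1, hu2⟩ : ∃ u w, u ∈ X ∧ w ∈ X ∧ B u w ≠ 0 ∧
        (¬ c = -1 → ∃ a b : F, T u = a • u ∧ T w = b • w) ∧
        (c = -1 → ∃ a b : F, T u = a • w ∧ T w = b • u) := by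
      rcases hc with rfl | rfl
      · obtain ⟨y, hy, hy0⟩ := Submodule.exists_mem_ne_zero_of_ne_bot hX0
        obtain ⟨u, hu, hu0, a, ha, hTu⟩ : ∃ u ∈ X, u ≠ 0 ∧ ∃ a : F, a * a = 1 ∧ T u = a • u := by
          by_cases h : y + T y = 0
          · exact ⟨y, hy, hy0, -1, by ring, by rw [neg_one_smul]; exact eq_neg_of_add_eq_zero_right h⟩
          · exact ⟨y + T y, X.add_mem hy (hTX y hy), h, 1, by ring,
              by rw [map_add, hTT, one_smul, one_smul, add_comm]⟩
        obtain ⟨z, hz, hz0⟩ := hnd u hu hu0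
        refine ⟨u, z + a • T z, hu, X.add_mem hz (X.smul_mem _ (hTX z hz)), ?_,
          fun _ => ⟨a, a, hTu, ?_⟩, fun h => (hne1 h).elim⟩
        · have h := hadj u z
          rw [hTu, map_smul, LinearMap.smul_apply, smul_eq_mul, one_mul] at h
          rw [map_add, map_smul, smul_eq_mul, ← h, ← mul_assoc, ha, one_mul, ← two_mul]
          exact mul_ne_zero h2 hz0
        · rw [map_add, map_smul, hTT, one_smul, smul_add, smul_smul, ha, one_smul, add_comm]
      · obtain ⟨v, hv, hvT⟩ : ∃ v ∈ X, B v (T v) ≠ 0 := by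
          by_contra hall
          push Not at hall
          obtain ⟨y, hy, hy0⟩ := Submodule.exists_mem_ne_zero_of_ne_bot hX0
          obtain ⟨z, hz, hz0⟩ := hnd y hy hy0
          have hTz : B y (T (T z)) = 0 := by
            have e := hall (y + T z) (X.add_mem hy (hTX z hz))
            simp only [map_add, LinearMap.add_apply] at e
            rw [hall y hy, hall (T z) (hTX z hz), hT z y, hTT, map_smul, smul_eq_mul, hskew z y] at e
            rw [hTT, map_smul, smul_eq_mul]
            refine (mul_eq_zero.1 (?_ : (2 : F) * (-1 * B y z) = 0)).resolve_left h2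
            linear_combination e
          rw [hTT, map_smul, smul_eq_mul] at hTz
          exact hz0 (by linear_combination -hTz)
        exact ⟨v, T v, hv, hTX v hv, hvT, fun h => absurd rfl h,
          fun _ => ⟨1, -1, (one_smul F (T v)).symm, hTT v⟩⟩
    -- the perpendicular of the pair inside `X`
    set β := B u w with hβ
    let X' : Submodule F V := X ⊓ LinearMap.ker (B u) ⊓ LinearMap.ker (B w)
    have hX'mem : ∀ v, v ∈ X' ↔ v ∈ X ∧ B u v = 0 ∧ B w v = 0 := fun v => by
      simp [X', and_assoc]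
    have hX'le : X' ≤ X := fun v hv => ((hX'mem v).1 hv).1
    have hproj : ∀ y ∈ X, y - (B u y / β) • w + (B w y / β) • u ∈ X' := by
      intro y hy
      refine (hX'mem _).2 ⟨X.add_mem (X.sub_mem hy (X.smul_mem _ hwX)) (X.smul_mem _ huX), ?_, ?_⟩
      · simp only [map_add, map_sub, map_smul, smul_eq_mul, hB u]
        field_simp
        ring
      · simp only [map_add, map_sub, map_smul, smul_eq_mul, hB w]
        rw [hskew w u, ← hβ]
        field_simp
        ring
    have huw' : ∀ v ∈ X', B u v = 0 ∧ B w v = 0 := fun v hv => ((hX'mem v).1 hv).2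
    have hX'inv : X'.map T ≤ X' := by
      rintro _ ⟨v, hv, rfl⟩
      obtain ⟨hvu, hvw⟩ := huw' v hv
      refine (hX'mem _).2 ⟨hTX v (hX'le hv), ?_⟩
      have e1 := hadj u v
      have e2 := hadj w v
      have hc0 : c ≠ 0 := by rcases hc with rfl | rfl <;> simp
      by_cases hcm : c = -1
      · obtain ⟨a, b, ha, hb⟩ := hu2 hcm
        rw [ha, map_smul, LinearMap.smul_apply, hvw, smul_zero] at e1
        rw [hb, map_smul, LinearMap.smul_apply, hvu, smul_zero] at e2
        exact ⟨(mul_eq_zero.1 e1.symm).resolve_left hc0, (mul_eq_zero.1 e2.symm).resolve_left hc0⟩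
      · obtain ⟨a, b, ha, hb⟩ := hu1 hcm
        rw [ha, map_smul, LinearMap.smul_apply, hvu, smul_zero] at e1
        rw [hb, map_smul, LinearMap.smul_apply, hvw, smul_zero] at e2
        exact ⟨(mul_eq_zero.1 e1.symm).resolve_left hc0, (mul_eq_zero.1 e2.symm).resolve_left hc0⟩
    have hX'nd : ∀ v ∈ X', v ≠ 0 → ∃ y ∈ X', B v y ≠ 0 := by
      intro v hv hv0
      obtain ⟨y, hy, hy0⟩ := hnd v (hX'le hv) hv0
      obtain ⟨hvu, hvw⟩ := huw' v hv
      refine ⟨_, hproj y hy, ?_⟩
      simp only [map_add, map_sub, map_smul, smul_eq_mul, hskew v u, hskew v w, hvu, hvw]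
      simpa using hy0
    have hlt : finrank F ↥X' < n := by
      rw [← hn]
      refine Submodule.finrank_lt_finrank_of_lt (lt_of_le_of_ne hX'le fun h => ?_)
      exact huw (huw' w (h ▸ hwX)).1
    obtain ⟨U, W, hUW, hU, hW, hUW1, hUW2⟩ := ih _ hlt X' rfl hX'inv hX'nd
    have hUle : U ≤ X' := hUW ▸ le_sup_left
    have hWle : W ≤ X' := hUW ▸ le_sup_right
    have iso : ∀ (s : V) (S : Submodule F V), (∀ v ∈ S, B s v = 0) → (∀ a ∈ S, ∀ b ∈ S, B a b = 0) →
        ∀ a ∈ (F ∙ s) ⊔ S, ∀ b ∈ (F ∙ s) ⊔ S, B a b = 0 := by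
      intro s S hsS hS a ha b hb
      simp only [Submodule.mem_sup, Submodule.mem_span_singleton] at ha hb
      obtain ⟨_, ⟨i, rfl⟩, a', ha', rfl⟩ := ha
      obtain ⟨_, ⟨j, rfl⟩, b', hb', rfl⟩ := hb
      simp only [map_add, map_smul, LinearMap.add_apply, LinearMap.smul_apply, smul_eq_mul]
      rw [hB s, hS a' ha' b' hb', hsS b' hb', hskew a' s, hsS a' ha']
      ring
    refine ⟨(F ∙ u) ⊔ U, (F ∙ w) ⊔ W, ?_, iso u U (fun v hv => (huw' v (hUle hv)).1) hU,
      iso w W (fun v hv => (huw' v (hWle hv)).2) hW, fun hcm => ?_, fun hcm => ?_⟩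
    · refine le_antisymm (sup_le (sup_le ((Submodule.span_singleton_le_iff_mem _ _).2 huX) (hUle.trans hX'le))
        (sup_le ((Submodule.span_singleton_le_iff_mem _ _).2 hwX) (hWle.trans hX'le))) fun y hy => ?_
      rw [sup_sup_sup_comm, hUW]
      have : y = ((B u y / β) • w - (B w y / β) • u) + (y - (B u y / β) • w + (B w y / β) • u) := by abel
      rw [this]
      refine Submodule.add_mem_sup (Submodule.sub_mem _ ?_ ?_) (hproj y hy)
      · exact Submodule.mem_sup_right (Submodule.smul_mem _ _ (Submodule.mem_span_singleton_self w))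
      · exact Submodule.mem_sup_left (Submodule.smul_mem _ _ (Submodule.mem_span_singleton_self u))
    · obtain ⟨a, b, ha, hb⟩ := hu1 hcm
      constructor <;> rw [Submodule.map_sup, Submodule.map_span, Set.image_singleton]
      · refine sup_le_sup ((Submodule.span_singleton_le_iff_mem _ _).2 ?_) (hUW1 hcm).1
        rw [ha]; exact Submodule.smul_mem _ _ (Submodule.mem_span_singleton_self u)
      · refine sup_le_sup ((Submodule.span_singleton_le_iff_mem _ _).2 ?_) (hUW1 hcm).2
        rw [hb]; exact Submodule.smul_mem _ _ (Submodule.mem_span_singleton_self w)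
    · obtain ⟨a, b, ha, hb⟩ := hu2 hcm
      constructor <;> rw [Submodule.map_sup, Submodule.map_span, Set.image_singleton]
      · refine sup_le_sup ((Submodule.span_singleton_le_iff_mem _ _).2 ?_) (hUW2 hcm).1
        rw [ha]; exact Submodule.smul_mem _ _ (Submodule.mem_span_singleton_self w)
      · refine sup_le_sup ((Submodule.span_singleton_le_iff_mem _ _).2 ?_) (hUW2 hcm).2
        rw [hb]; exact Submodule.smul_mem _ _ (Submodule.mem_span_singleton_self u)

/-- Involutions of PSp_n(q), q odd, and the subgroups GL_{n/2}(q).2. Here `T = PSp_n(q)`, `n = 2d ≥ 4`, `q` odd, realised through the symplectic matrices over the field `F` with `q` elements; Ω is the set of unordered pairs `{U, W}` of complementary totally isotropic `d`-spaces (`F^n = U ⊕ W`), whose stabilizers are the subgroups of type GL_d(q).2 (maximal except in some small cases; maximality is not assumed); an element of `T` of prime order `r` (a symplectic matrix `x` with `x^r` scalar, `x` not scalar) fixes such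 a pair when it fixes or interchanges `U` and `W`. If the number of such pairs is even, every involution of `T` fixes one of them (the action is 2-elusive). -/
theorem result {F : Type*} [Field F] [Fintype F] {p : ℕ} [Fact p.Prime] [CharP F p] {q : ℕ} (hq : Fintype.card F = q)
    (d : ℕ) (hd : 2 ≤ d) (hT : (d, q) ≠ (2, 2)) (hodd : Odd q)
    (hΩ : 2 ∣ Nat.card {P : Submodule F (Fin d ⊕ Fin d → F) × Submodule F (Fin d ⊕ Fin d → F) // IsCompl P.1 P.2 ∧ (∀ u ∈ P.1, ∀ v ∈ P.1, Cfsg.sympForm d F u v = 0) ∧ (∀ u ∈ P.2, ∀ v ∈ P.2, Cfsg.sympForm d F u v = 0)} / 2)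
    (x : ↥(Matrix.symplecticGroup (Fin d) F))
    (hx1 : ∃ z : F, ((x ^ 2 : ↥(Matrix.symplecticGroup (Fin d) F)) : Matrix (Fin d ⊕ Fin d) (Fin d ⊕ Fin d) F) = z • (1 : Matrix (Fin d ⊕ Fin d) (Fin d ⊕ Fin d) F))
    (hx2 : ∀ z : F, (x : Matrix (Fin d ⊕ Fin d) (Fin d ⊕ Fin d) F) ≠ z • (1 : Matrix (Fin d ⊕ Fin d) (Fin d ⊕ Fin d) F)) :
    ∃ U W : Submodule F (Fin d ⊕ Fin d → F), IsCompl U W ∧ (∀ u ∈ U, ∀ v ∈ U, Cfsg.sympForm d F u v = 0) ∧ (∀ u ∈ W, ∀ v ∈ W, Cfsg.sympForm d F u v = 0) ∧
        ((U.map (Matrix.toLin' (x : Matrix (Fin d ⊕ Fin d) (Fin d ⊕ Fin d) F)) = U ∧ W.map (Matrix.toLin' (x : Matrix (Fin d ⊕ Fin d) (Fin d ⊕ Fin d) F)) = W) ∨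
         (U.map (Matrix.toLin' (x : Matrix (Fin d ⊕ Fin d) (Fin d ⊕ Fin d) F)) = W ∧ W.map (Matrix.toLin' (x : Matrix (Fin d ⊕ Fin d) (Fin d ⊕ Fin d) F)) = U)) := by
  classical
  have h2 : (2 : F) ≠ 0 := by
    intro h2
    have hp : p = 2 := (Nat.prime_dvd_prime_iff_eq Fact.out Nat.prime_two).1
      ((CharP.cast_eq_zero_iff F p 2).1 (by exact_mod_cast h2))
    subst hp
    obtain ⟨n, -, hn⟩ := FiniteField.card F 2
    rw [← hq, hn, Nat.odd_pow_iff n.ne_zero] at hodd
    exact absurd hodd (by decide)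
  set T : (Fin d ⊕ Fin d → F) →ₗ[F] (Fin d ⊕ Fin d → F) :=
    Matrix.toLin' (x : Matrix (Fin d ⊕ Fin d) (Fin d ⊕ Fin d) F) with hTdef
  set B := Cfsg.Agent.Symp57.sB d F with hBdef
  have hBa : B.IsAlt := Cfsg.Agent.Symp57.sB_alt
  have hT : ∀ u v, B (T u) (T v) = B u v := by
    intro u v
    rw [hBdef, Cfsg.Agent.Symp57.sB_apply, Cfsg.Agent.Symp57.sB_apply, hTdef, Matrix.toLin'_apply,
      Matrix.toLin'_apply]
    exact Cfsg.Agent.Symp57.sympForm_invariant x.2 u v
  obtain ⟨z, hz⟩ := hx1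
  have hTT : ∀ v, T (T v) = z • v := by
    intro v
    rw [hTdef, Matrix.toLin'_apply, Matrix.toLin'_apply, Matrix.mulVec_mulVec, ← pow_two,
      ← SubmonoidClass.coe_pow, hz, Matrix.smul_mulVec, Matrix.one_mulVec]
  have hne : ∃ u v, B u v ≠ 0 := by
    by_contra h
    push Not at h
    have := Cfsg.Agent.Symp57.sB_nondegenerate (F := F) (m := d) |>.1
      (Pi.single (Sum.inl ⟨0, by omega⟩) 1) (fun y => h _ y)
    exact one_ne_zero (α := F) (by simpa using congrFun this (Sum.inl ⟨0, by omega⟩))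
  have hc : z = 1 ∨ z = -1 := by
    obtain ⟨u, v, huv⟩ := hne
    have h := hT (T u) (T v)
    rw [hTT, hTT, map_smul, map_smul, LinearMap.smul_apply, hT, smul_eq_mul, smul_eq_mul, ← mul_assoc] at h
    exact mul_self_eq_one_iff.1 (mul_right_cancel₀ huv (by rw [h, one_mul]))
  obtain ⟨U, W, hUW, hU, hW, h1, h2'⟩ := splits h2 B hBa T hT z hc hTT _ ⊤ rfl le_top (fun u _ hu => by
    by_contra h
    push Not at h
    exact hu (Cfsg.Agent.Symp57.sB_nondegenerate.1 u fun y => h y Submodule.mem_top))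
  have hinj : Function.Injective T := by
    refine (injective_iff_map_eq_zero T).2 fun v hv => ?_
    have := hTT v
    rw [hv, map_zero] at this
    rcases hc with rfl | rfl <;> simpa using this.symm
  have hcompl : IsCompl U W := by
    refine ⟨Submodule.disjoint_def.2 fun v hvU hvW => ?_, codisjoint_iff.2 hUW⟩
    refine Cfsg.Agent.Symp57.sB_nondegenerate.1 v fun y => ?_
    obtain ⟨a, ha, b, hb, rfl⟩ := Submodule.mem_sup.1 (hUW ▸ Submodule.mem_top (x := y))
    rw [map_add, ← hBdef, hU v hvU a ha, hW v hvW b hb, add_zero]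
  have hdim : ∀ S : Submodule F (Fin d ⊕ Fin d → F), finrank F ↥(S.map T) = finrank F ↥S :=
    fun S => (Submodule.equivMapOfInjective T hinj S).finrank_eq.symm
  refine ⟨U, W, hcompl, fun u hu v hv => ?_, fun u hu v hv => ?_, ?_⟩
  · rw [← Cfsg.Agent.Symp57.sB_apply]; exact hU u hu v hv
  · rw [← Cfsg.Agent.Symp57.sB_apply]; exact hW u hu v hv
  by_cases hcm : z = -1
  · obtain ⟨a, b⟩ := h2' hcm
    refine Or.inr ⟨?_, ?_⟩
    · refine Submodule.eq_of_le_of_finrank_le a ?_
      have := Submodule.finrank_mono b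
      rw [hdim] at this ⊢
      exact this
    · refine Submodule.eq_of_le_of_finrank_le b ?_
      have := Submodule.finrank_mono a
      rw [hdim] at this ⊢
      exact this
  · obtain ⟨a, b⟩ := h1 hcm
    exact Or.inl ⟨Submodule.eq_of_le_of_finrank_le a (hdim U).ge, Submodule.eq_of_le_of_finrank_le b (hdim W).ge⟩

end Cfsg.Agent.S5962
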