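import Cfsg.Statements.S5963
import Cfsg.Agent.Lib.Sp.Card
import Cfsg.Agent.Lib.Maximal99.OrderR

set_option autoImplicit false
open scoped MatrixGroups
open Cfsg

namespace Cfsg.Agent.S5963

open Module Matrix CfsgLib.Sp

variable {F : Type*} [Field F] {d : ℕ}

/-- The ordered pairs of complementary totally isotropic subspaces. -/
abbrev IsPolarPair (P : Submodule F (Fin d ⊕ Fin d → F) × Submodule F (Fin d ⊕ Fin d → F)) : Prop :=
  IsCompl P.1 P.2 ∧ (∀ u ∈ P.1, ∀ v ∈ P.1, Cfsg.sympForm d F u v = 0) ∧ (∀ u ∈ P.2, ∀ v ∈ P.2, Cfsg.sympForm d F u v = 0)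

lemma iso_le_half {U : Submodule F (Fin d ⊕ Fin d → F)} (hU : ∀ u ∈ U, ∀ v ∈ U, Cfsg.sympForm d F u v = 0) :
    finrank F ↥U ≤ d := by
  have h : U ≤ (sympBilin d F).orthogonal U := fun v hv u hu => by
    rw [sympBilin_apply]
    exact hU u hu v hv
  have := Submodule.finrank_mono h
  rw [LinearMap.BilinForm.finrank_orthogonal sympBilin_nondegenerate, Module.finrank_pi] at this
  simp only [Fintype.card_sum, Fintype.card_fin] at this
  omega

/-- The standard pair is carried to every pair. -/
lemma exists_map_std (U W : Submodule F (Fin d ⊕ Fin d → F)) (h : IsPolarPair (U, W)) :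
    ∃ g : symplecticGroup (Fin d) F, (∀ i, g.1 *ᵥ Pi.single (Sum.inl i) 1 ∈ U) ∧
      (∀ i, g.1 *ᵥ Pi.single (Sum.inr i) 1 ∈ W) := by
  classical
  obtain ⟨hc, hU, hW⟩ := h
  simp only at hc hU hW
  have hdim := Submodule.finrank_add_eq_of_isCompl hc
  simp only [Module.finrank_pi, Fintype.card_sum, Fintype.card_fin] at hdim
  have := iso_le_half hU
  have := iso_le_half hW
  have hUd : finrank F ↥U = d := by omega
  have hWd : finrank F ↥W = d := by omega
  let bU := Module.finBasisOfFinrankEq F U hUd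
  let L : W →ₗ[F] (Fin d → F) := LinearMap.pi fun i => (sympBilin d F (bU i : Fin d ⊕ Fin d → F)) ∘ₗ W.subtype
  have hL : Function.Injective L := by
    refine (injective_iff_map_eq_zero L).2 fun w hw => Subtype.ext ?_
    refine sympBilin_nondegenerate.2 _ fun y => ?_
    obtain ⟨a, ha, b, hb, rfl⟩ := Submodule.mem_sup.1 (hc.sup_eq_top ▸ Submodule.mem_top (x := y))
    have hz : (sympBilin d F).flip (w : Fin d ⊕ Fin d → F) ∘ₗ U.subtype = 0 :=
      bU.ext fun i => congrFun hw i
    have h1 : sympBilin d F a w = 0 := LinearMap.congr_fun hz ⟨a, ha⟩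
    rw [map_add, LinearMap.add_apply, h1, sympBilin_apply b, hW b hb _ w.2, add_zero]
  have hLs : Function.Surjective L :=
    (LinearMap.injective_iff_surjective_of_finrank_eq_finrank (by rw [hWd, Module.finrank_fin_fun])).1 hL
  choose w hw using fun j => hLs (-Pi.single j 1)
  let col : Fin d ⊕ Fin d → (Fin d ⊕ Fin d → F) := Sum.elim (fun i => (bU i : Fin d ⊕ Fin d → F)) (fun j => (w j : Fin d ⊕ Fin d → F))
  let M : Matrix (Fin d ⊕ Fin d) (Fin d ⊕ Fin d) F := Matrix.of fun a b => col b a
  have hcol : ∀ b, M *ᵥ Pi.single b 1 = col b := fun b => by rw [Matrix.mulVec_single_one]; rfl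
  have hM : M ∈ symplecticGroup (Fin d) F := by
    rw [mem_symplecticGroup_iff]
    intro u v
    have key : (sympBilin d F).comp (Matrix.toLin' M) (Matrix.toLin' M) = sympBilin d F := by
      have hJ : ∀ a b, Cfsg.sympForm d F (col a) (col b) = Cfsg.sympForm d F (Pi.single a 1) (Pi.single b 1) := by
        intro a b
        have huw : ∀ i j, Cfsg.sympForm d F (bU i : Fin d ⊕ Fin d → F) (w j) = -(Pi.single j 1 : Fin d → F) i := by
          intro i j
          have := congrFun (hw j) i
          simpa [L, sympBilin_apply] using this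
        rcases a with a | a <;> rcases b with b | b
        · simp only [col, Sum.elim_inl]
          rw [hU _ (bU a).2 _ (bU b).2, sympForm_eq_sum]
          simp
        · simp only [col, Sum.elim_inl, Sum.elim_inr]
          rw [huw, sympForm_eq_sum]
          simp [Pi.single_apply, eq_comm]
        · simp only [col, Sum.elim_inl, Sum.elim_inr]
          rw [sympForm_flip, huw, sympForm_eq_sum]
          simp [Pi.single_apply, eq_comm]
        · simp only [col, Sum.elim_inr]
          rw [hW _ (w a).2 _ (w b).2, sympForm_eq_sum]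
          simp
      refine (Pi.basisFun F (Fin d ⊕ Fin d)).ext fun a => (Pi.basisFun F (Fin d ⊕ Fin d)).ext fun b => ?_
      rw [LinearMap.BilinForm.comp_apply, Pi.basisFun_apply, Pi.basisFun_apply, Matrix.toLin'_apply, Matrix.toLin'_apply,
        hcol, hcol, sympBilin_apply, sympBilin_apply]
      exact hJ a b
    have := LinearMap.congr_fun (LinearMap.congr_fun key u) v
    rwa [LinearMap.BilinForm.comp_apply, Matrix.toLin'_apply, Matrix.toLin'_apply, sympBilin_apply, sympBilin_apply] at this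
  refine ⟨⟨M, hM⟩, fun i => ?_, fun i => ?_⟩
  · rw [hcol]; exact (bU i).2
  · rw [hcol]; exact (w i).2

/-- The standard subspace of one side. -/
noncomputable def side (F : Type*) [Field F] (d : ℕ) (e : Fin d → Fin d ⊕ Fin d) : Submodule F (Fin d ⊕ Fin d → F) :=
  Submodule.span F (Set.range fun i => Pi.single (e i) (1 : F))

lemma side_zero {e : Fin d → Fin d ⊕ Fin d} (he : e = Sum.inl ∨ e = Sum.inr) :
    ∀ u ∈ side F d e, ∀ v ∈ side F d e, Cfsg.sympForm d F u v = 0 := by
  have key : side F d e ≤ (sympBilin d F).orthogonal (side F d e) := by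
    rw [side, Submodule.span_le]
    rintro _ ⟨i, rfl⟩ y hy
    show sympBilin d F y _ = 0
    refine (Submodule.span_le.2 ?_ : side F d e ≤ LinearMap.ker ((sympBilin d F).flip (Pi.single (e i) (1 : F)))) hy
    rintro _ ⟨j, rfl⟩
    show sympBilin d F _ _ = 0
    rw [sympBilin_apply, sympForm_eq_sum]
    rcases he with rfl | rfl <;> simp
  intro u hu v hv
  rw [← sympBilin_apply]
  exact key hv u hu

lemma side_pair : IsPolarPair (side F d Sum.inl, side F d Sum.inr) := by
  refine ⟨⟨?_, ?_⟩, side_zero (Or.inl rfl), side_zero (Or.inr rfl)⟩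
  · have := (Pi.linearIndependent_single_one (Fin d ⊕ Fin d) F).disjoint_span_image
      (s := Set.range Sum.inl) (t := Set.range Sum.inr) (Set.disjoint_left.2 (by rintro _ ⟨i, rfl⟩ ⟨j, h⟩; simp at h))
    rwa [← Set.range_comp, ← Set.range_comp] at this
  · rw [codisjoint_iff, side, side, ← Submodule.span_union, eq_top_iff, ← (Pi.basisFun F (Fin d ⊕ Fin d)).span_eq]
    refine Submodule.span_mono ?_
    rintro _ ⟨i | i, rfl⟩
    · exact Or.inl ⟨i, (Pi.basisFun_apply F _ _).symm⟩
    · exact Or.inr ⟨i, (Pi.basisFun_apply F _ _).symm⟩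

/-- `r` divides the number of pairs only if it divides some `q ^ j + 1`, `j ≤ d` (or `q`). -/
lemma dvd_of_dvd_card [Fintype F] {q r : ℕ} (hq : Fintype.card F = q) (hr : r.Prime) (hrq : ¬ r ∣ q)
    (h : r ∣ Nat.card {P : Submodule F (Fin d ⊕ Fin d → F) × Submodule F (Fin d ⊕ Fin d → F) // IsPolarPair P}) :
    ∃ j, 1 ≤ j ∧ j ≤ d ∧ r ∣ q ^ j + 1 := by
  classical
  let act : symplecticGroup (Fin d) F → Submodule F (Fin d ⊕ Fin d → F) → Submodule F (Fin d ⊕ Fin d → F) :=
    fun g S => S.map (Matrix.toLin' g.1)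
  have act_mul : ∀ g h S, act (g * h) S = act g (act h S) := fun g h S => by
    show S.map (Matrix.toLin' (g.1 * h.1)) = _
    rw [Matrix.toLin'_mul, Submodule.map_comp]
  have act_one : ∀ S, act 1 S = S := fun S => by
    show S.map (Matrix.toLin' (1 : Matrix _ _ F)) = S
    rw [Matrix.toLin'_one, Submodule.map_id]
  let f : symplecticGroup (Fin d) F → Submodule F (Fin d ⊕ Fin d → F) × Submodule F (Fin d ⊕ Fin d → F) :=
    fun g => (act g (side F d Sum.inl), act g (side F d Sum.inr))
  let H : Subgroup (symplecticGroup (Fin d) F) :=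
    { carrier := {g | f g = f 1}
      mul_mem' := fun {a b} ha hb => by
        simp only [Set.mem_setOf_eq, f, act_one, Prod.mk.injEq] at ha hb ⊢
        rw [act_mul, act_mul, hb.1, hb.2]
        exact ha
      one_mem' := rfl
      inv_mem' := fun {a} ha => by
        simp only [Set.mem_setOf_eq, f, act_one, Prod.mk.injEq] at ha ⊢
        constructor
        · conv_lhs => rw [← ha.1]
          rw [← act_mul, inv_mul_cancel, act_one]
        · conv_lhs => rw [← ha.2]
          rw [← act_mul, inv_mul_cancel, act_one] }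
  have hcount := CfsgLib.ClassicalGroups.natCard_eq_image_mul H f {P | IsPolarPair P} (fun a b => by
      show f a = f b ↔ f (a⁻¹ * b) = f 1
      simp only [f, act_mul, act_one, Prod.mk.injEq]
      constructor
      · rintro ⟨h1, h2⟩
        rw [← h1, ← h2, ← act_mul, ← act_mul, inv_mul_cancel, act_one, act_one]
        exact ⟨rfl, rfl⟩
      · rintro ⟨h1, h2⟩
        constructor
        · conv_lhs => rw [← h1]
          rw [← act_mul, mul_inv_cancel, act_one]
        · conv_lhs => rw [← h2]
          rw [← act_mul, mul_inv_cancel, act_one])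
    (fun g => by
      obtain ⟨hc, h1, h2⟩ := side_pair (F := F) (d := d)
      have hinj : Function.Injective (Matrix.toLin' g.1) := (toEquiv d F g).injective
      have hsur : Function.Surjective (Matrix.toLin' g.1) := (toEquiv d F g).surjective
      refine ⟨⟨?_, ?_⟩, ?_, ?_⟩
      · rw [disjoint_iff, ← Submodule.map_inf _ hinj, hc.inf_eq_bot, Submodule.map_bot]
      · rw [codisjoint_iff, ← Submodule.map_sup, hc.sup_eq_top, Submodule.map_top, LinearMap.range_eq_top]
        exact hsur
      · rintro _ ⟨u, hu, rfl⟩ _ ⟨v, hv, rfl⟩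
        rw [Matrix.toLin'_apply, Matrix.toLin'_apply, sympForm_mulVec]
        exact h1 u hu v hv
      · rintro _ ⟨u, hu, rfl⟩ _ ⟨v, hv, rfl⟩
        rw [Matrix.toLin'_apply, Matrix.toLin'_apply, sympForm_mulVec]
        exact h2 u hu v hv)
    (fun P hP => by
      obtain ⟨g, hgU, hgW⟩ := exists_map_std P.1 P.2 hP
      have hle : ∀ (e : Fin d → Fin d ⊕ Fin d) (S : Submodule F (Fin d ⊕ Fin d → F)),
          (∀ i, g.1 *ᵥ Pi.single (e i) 1 ∈ S) → act g (side F d e) ≤ S := by
        intro e S he
        show (side F d e).map (Matrix.toLin' g.1) ≤ S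
        rw [side, Submodule.map_span_le]
        rintro _ ⟨i, rfl⟩
        exact he i
      have hdim : ∀ (e : Fin d → Fin d ⊕ Fin d), Function.Injective e → finrank F ↥(act g (side F d e)) = d := by
        intro e he
        show finrank F ↥((side F d e).map (Matrix.toLin' g.1)) = d
        have hinj : Function.Injective (Matrix.toLin' g.1) := (toEquiv d F g).injective
        rw [← (Submodule.equivMapOfInjective _ hinj (side F d e)).finrank_eq, side,
          finrank_span_eq_card (R := F) (b := fun i => Pi.single (M := fun _ : Fin d ⊕ Fin d => F) (e i) (1 : F)) ((Pi.linearIndependent_single_one _ F).comp e he),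
          Fintype.card_fin]
      refine ⟨g, Prod.ext ?_ ?_⟩
      · refine Submodule.eq_of_le_of_finrank_le (hle _ _ hgU) ?_
        rw [hdim _ Sum.inl_injective]
        exact iso_le_half hP.2.1
      · refine Submodule.eq_of_le_of_finrank_le (hle _ _ hgW) ?_
        rw [hdim _ Sum.inr_injective]
        exact iso_le_half hP.2.2)
  -- the general linear group inside the stabiliser
  have hGL : Nat.card (GL (Fin d) F) ∣ Nat.card H := by
    have hmem : ∀ A : GL (Fin d) F, Matrix.fromBlocks (A : Matrix (Fin d) (Fin d) F) 0 0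
        (((A⁻¹ : GL (Fin d) F) : Matrix (Fin d) (Fin d) F))ᵀ ∈ symplecticGroup (Fin d) F := fun A =>
      SymplecticGroup.fromBlocks_mem_iff.mpr ⟨by simp, by simp, by
        simp [← transpose_mul, ← Units.val_mul]⟩
    let φ : GL (Fin d) F →* symplecticGroup (Fin d) F :=
      { toFun := fun A => ⟨_, hmem A⟩
        map_one' := Subtype.ext (by simp [fromBlocks_one])
        map_mul' := fun A B => Subtype.ext (by
          show fromBlocks _ _ _ _ = fromBlocks _ _ _ _ * fromBlocks _ _ _ _
          rw [fromBlocks_multiply]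
          simp [transpose_mul]) }
    have hφ : Function.Injective φ := fun A B hAB => Units.ext (fromBlocks_inj.1 (congrArg Subtype.val hAB)).1
    have hle : φ.range ≤ H := by
      rintro _ ⟨A, rfl⟩
      show f (φ A) = f 1
      simp only [f, act_one, Prod.mk.injEq]
      have hinj : Function.Injective (Matrix.toLin' (φ A).1) := (toEquiv d F (φ A)).injective
      constructor
      all_goals refine Submodule.eq_of_le_of_finrank_le ?_ (le_of_eq (Submodule.equivMapOfInjective _ hinj _).finrank_eq)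
      all_goals show Submodule.map _ _ ≤ _
      all_goals rw [side, Submodule.map_span_le]
      all_goals rintro _ ⟨i, rfl⟩
      · rw [Matrix.toLin'_apply, Matrix.mulVec_single_one]
        have : (φ A).1.col (Sum.inl i) = ∑ k, (A : Matrix (Fin d) (Fin d) F) k i • Pi.single (Sum.inl k) (1 : F) := by
          funext a
          rcases a with a | a <;> simp [φ, Matrix.col, Pi.single_apply]
        rw [this]
        exact Submodule.sum_mem _ fun k _ => Submodule.smul_mem _ _ (Submodule.subset_span ⟨k, rfl⟩)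
      · rw [Matrix.toLin'_apply, Matrix.mulVec_single_one]
        have : (φ A).1.col (Sum.inr i) = ∑ k, (((A⁻¹ : GL (Fin d) F) : Matrix (Fin d) (Fin d) F))ᵀ k i • Pi.single (Sum.inr k) (1 : F) := by
          funext a
          rcases a with a | a <;> simp [φ, Matrix.col, Pi.single_apply]
        rw [this]
        exact Submodule.sum_mem _ fun k _ => Submodule.smul_mem _ _ (Submodule.subset_span ⟨k, rfl⟩)
    have := Subgroup.card_dvd_of_le hle
    rwa [Nat.card_congr (MonoidHom.ofInjective hφ).toEquiv.symm] at this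
  rw [card_symplecticGroup hq] at hcount
  have hdvd : r * Nat.card (GL (Fin d) F) ∣ q ^ d ^ 2 * ∏ i ∈ Finset.range d, (q ^ (2 * (i + 1)) - 1) := by
    rw [hcount]
    exact Nat.mul_dvd_mul h hGL
  rw [Matrix.card_GL_field, hq, Fin.prod_univ_eq_prod_range (fun i => q ^ d - q ^ i)] at hdvd
  have hq1 : 1 < q := by rw [← hq]; exact Fintype.one_lt_card
  have e1 : ∏ i ∈ Finset.range d, (q ^ d - q ^ i) =
      (∏ i ∈ Finset.range d, q ^ i) * ∏ i ∈ Finset.range d, (q ^ (i + 1) - 1) := by
    rw [← Finset.prod_range_reflect (fun i => q ^ (i + 1) - 1), ← Finset.prod_mul_distrib]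
    refine Finset.prod_congr rfl fun i hi => ?_
    rw [Finset.mem_range] at hi
    rw [Nat.mul_sub, mul_one, ← pow_add]
    congr 2
    omega
  have e2 : ∏ i ∈ Finset.range d, (q ^ (2 * (i + 1)) - 1) =
      (∏ i ∈ Finset.range d, (q ^ (i + 1) - 1)) * ∏ i ∈ Finset.range d, (q ^ (i + 1) + 1) := by
    rw [← Finset.prod_mul_distrib]
    refine Finset.prod_congr rfl fun i _ => ?_
    rw [Nat.mul_comm 2, pow_mul, ← one_pow 2, Nat.sq_sub_sq, one_pow, Nat.mul_comm]
  rw [e1, e2] at hdvd
  have hpos : 0 < ∏ i ∈ Finset.range d, (q ^ (i + 1) - 1) :=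
    Finset.prod_pos fun i _ => by have := Nat.one_lt_pow (show i + 1 ≠ 0 by omega) hq1; omega
  have h4 : r * (∏ i ∈ Finset.range d, q ^ i) ∣ q ^ d ^ 2 * ∏ i ∈ Finset.range d, (q ^ (i + 1) + 1) := by
    refine Nat.dvd_of_mul_dvd_mul_left hpos ?_
    convert hdvd using 1 <;> ring
  rcases hr.dvd_mul.1 (dvd_trans (dvd_mul_right _ _) h4) with h5 | h5
  · exact absurd (hr.dvd_of_dvd_pow h5) hrq
  · obtain ⟨i, hi, h6⟩ := (Prime.dvd_finsetProd_iff hr.prime _).1 h5
    exact ⟨i + 1, by omega, by rw [Finset.mem_range] at hi; omega, h6⟩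

/-- Derangements of odd prime order of PSp_n(q), q odd, on pairs of complementary totally isotropic subspaces. Here `T = PSp_n(q)`, `n = 2d ≥ 4`, `q` odd, realised through the symplectic matrices over the field `F` with `q` elements; Ω is the set of unordered pairs `{U, W}` of complementary totally isotropic `d`-spaces (`F^n = U ⊕ W`), whose stabilizers are the subgroups of type GL_d(q).2 (maximal except in some small cases; maximality is not assumed); an element of `T` of prime order `r` (a symplectic matrix `x` with `x^r` scalar, `x` not scalar) fixes such a pair when it fixes or interchanges `U` and `W`. For every odd prime `r ≠ p` dividing the number of such pairs, some element of `T` of order `r` fixes no such pair (the action is never `r`-elusive for odd `r ≠ p`). -/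
theorem result {F : Type*} [Field F] [Fintype F] {p : ℕ} [Fact p.Prime] [CharP F p] {q : ℕ} (hq : Fintype.card F = q)
    (d : ℕ) (hd : 2 ≤ d) (hT : (d, q) ≠ (2, 2)) (hodd : Odd q)
    (r : ℕ) [Fact r.Prime] (hr2 : r ≠ 2) (hrp : r ≠ p) (hΩ : r ∣ Nat.card {P : Submodule F (Fin d ⊕ Fin d → F) × Submodule F (Fin d ⊕ Fin d → F) // IsCompl P.1 P.2 ∧ (∀ u ∈ P.1, ∀ v ∈ P.1, Cfsg.sympForm d F u v = 0) ∧ (∀ u ∈ P.2, ∀ v ∈ P.2, Cfsg.sympForm d F u v = 0)} / 2) :
    ∃ x : ↥(Matrix.symplecticGroup (Fin d) F),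
      (∃ z : F, ((x ^ r : ↥(Matrix.symplecticGroup (Fin d) F)) : Matrix (Fin d ⊕ Fin d) (Fin d ⊕ Fin d) F) = z • (1 : Matrix (Fin d ⊕ Fin d) (Fin d ⊕ Fin d) F)) ∧
      (∀ z : F, (x : Matrix (Fin d ⊕ Fin d) (Fin d ⊕ Fin d) F) ≠ z • (1 : Matrix (Fin d ⊕ Fin d) (Fin d ⊕ Fin d) F)) ∧
      ¬ (∃ U W : Submodule F (Fin d ⊕ Fin d → F), IsCompl U W ∧ (∀ u ∈ U, ∀ v ∈ U, Cfsg.sympForm d F u v = 0) ∧ (∀ u ∈ W, ∀ v ∈ W, Cfsg.sympForm d F u v = 0) ∧
        ((U.map (Matrix.toLin' (x : Matrix (Fin d ⊕ Fin d) (Fin d ⊕ Fin d) F)) = U ∧ W.map (Matrix.toLin' (x : Matrix (Fin d ⊕ Fin d) (Fin d ⊕ Fin d) F)) = W) ∨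
         (U.map (Matrix.toLin' (x : Matrix (Fin d ⊕ Fin d) (Fin d ⊕ Fin d) F)) = W ∧ W.map (Matrix.toLin' (x : Matrix (Fin d ⊕ Fin d) (Fin d ⊕ Fin d) F)) = U))) := by
  classical
  have hqr : ¬ r ∣ q := fun h => CfsgLib.OrderR.natCast_ne_zero_of_card hq hrp ((ZMod.natCast_eq_zero_iff q r).2 h)
  obtain ⟨j, hj1, hjd, hj⟩ := dvd_of_dvd_card hq Fact.out hqr (dvd_trans hΩ (Nat.div_dvd_of_dvd (by
    -- the ordered pairs come in pairs
    let N := {P : Submodule F (Fin d ⊕ Fin d → F) × Submodule F (Fin d ⊕ Fin d → F) // IsPolarPair P}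
    let e : N → N := fun P => ⟨(P.1.2, P.1.1), P.2.1.symm, P.2.2.2, P.2.2.1⟩
    have : Fintype N := Fintype.ofFinite _
    have hne : ∀ P : N, e P ≠ P := by
      rintro ⟨⟨U, W⟩, hP⟩ h
      have hUW : W = U := congrArg Prod.fst (congrArg Subtype.val h)
      subst hUW
      have hb : W = ⊥ := by simpa using hP.1.inf_eq_bot
      have ht : W = ⊤ := by simpa using hP.1.sup_eq_top
      have : Nonempty (Fin d ⊕ Fin d) := ⟨Sum.inl ⟨0, by omega⟩⟩
      exact bot_ne_top (hb.symm.trans ht)
    have h0 : ((Nat.card N : ℕ) : ZMod 2) = 0 := by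
      rw [Nat.card_eq_fintype_card, ← Finset.card_univ, Finset.card_eq_sum_ones, Nat.cast_sum]
      exact Finset.sum_involution (fun P _ => e P) (fun _ _ => by decide) (fun P _ _ => hne P)
        (fun _ _ => Finset.mem_univ _) (fun _ _ => rfl)
    exact (ZMod.natCast_eq_zero_iff _ _).1 h0)))
  have hr : r.Prime := Fact.out
  have hrF : (r : F) ≠ 0 := CfsgLib.OrderR.cast_ne_zero hrp
  have hq1 : 1 < q := by rw [← hq]; exact Fintype.one_lt_card
  have hr3 : 3 ≤ r := by have := hr.two_le; omega
  set i := orderOf (q : ZMod r) with hi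
  -- the order of `q` modulo `r`
  have hqj : (q : ZMod r) ^ j = -1 := by
    have : ((q ^ j + 1 : ℕ) : ZMod r) = 0 := (ZMod.natCast_eq_zero_iff _ _).2 hj
    push_cast at this
    exact eq_neg_of_add_eq_zero_left this
  have hne : ¬ i ∣ j := fun h => by
    have h1 : (q : ZMod r) ^ j = 1 := orderOf_dvd_iff_pow_eq_one.1 h
    rw [hqj] at h1
    have h2 : ((2 : ℕ) : ZMod r) = 0 := by linear_combination (norm := (push_cast; ring)) -h1
    have := Nat.le_of_dvd two_pos ((ZMod.natCast_eq_zero_iff 2 r).1 h2)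
    omega
  have h2j : i ∣ 2 * j := orderOf_dvd_iff_pow_eq_one.2 (by rw [Nat.mul_comm, pow_mul, hqj, neg_one_sq])
  obtain ⟨h, hih⟩ : ∃ h, i = 2 * h := by
    rcases Nat.even_or_odd i with ⟨h, hh⟩ | ho
    · exact ⟨h, by omega⟩
    · exact absurd ((Nat.coprime_two_right.2 ho).dvd_of_dvd_mul_left h2j) hne
  have hhj : h ∣ j := by rw [hih] at h2j; exact (Nat.mul_dvd_mul_iff_left two_pos).1 h2j
  have hh1 : 1 ≤ h := Nat.pos_of_dvd_of_pos hhj (by omega)
  have hhd : h ≤ d := (Nat.le_of_dvd (by omega) hhj).trans hjd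
  -- an element of order `r` fixing an isotropic subspace of dimension `d - h`
  set k := d - h with hk
  have hstab : r ∣ Nat.card (tupleStab (stdTuple F (show k ≤ d by omega))) := by
    have e := card_eq_isoTuples_mul (m := d) (F := F) (stdTuple_mem (show k ≤ d by omega))
    rw [card_symplecticGroup hq, card_isoTuples hq, prod_isoTuples q d k (by omega), prod_split q d k (by omega),
      show d - k = h by omega] at e
    have hpos : 0 < ∏ i ∈ Finset.range k, (q ^ (2 * (d - i)) - 1) := Finset.prod_pos fun l hl => by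
      rw [Finset.mem_range] at hl
      have := Nat.one_lt_pow (show 2 * (d - l) ≠ 0 by omega) hq1
      omega
    have e' : q ^ d ^ 2 * ∏ i ∈ Finset.range h, (q ^ (2 * (i + 1)) - 1) =
        q ^ k.choose 2 * Nat.card (tupleStab (stdTuple F (show k ≤ d by omega))) := by
      refine Nat.eq_of_mul_eq_mul_left hpos ?_
      convert e using 1 <;> ring
    have hd1 : r ∣ q ^ d ^ 2 * ∏ i ∈ Finset.range h, (q ^ (2 * (i + 1)) - 1) := by
      refine Dvd.dvd.mul_left (dvd_trans ?_ (Finset.dvd_prod_of_mem _ (Finset.mem_range.2 (show h - 1 < h by omega)))) _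
      rw [Nat.sub_add_cancel hh1, ← hih, ← CfsgLib.OrderR.orderOf_dvd_iff hq1.le]
    rw [e'] at hd1
    exact ((hr.dvd_mul.1 hd1).resolve_left fun h1 => hqr (hr.dvd_of_dvd_pow h1))
  obtain ⟨⟨x, hx⟩, hxo⟩ := exists_prime_orderOf_dvd_card' r hstab
  have hxo' : orderOf x = r := by rw [← Subgroup.orderOf_coe] at hxo; exact hxo
  refine ⟨x, ⟨1, by rw [← hxo', pow_orderOf_eq_one, one_smul]; rfl⟩, ?_⟩
  set T : Module.End F (Fin d ⊕ Fin d → F) := Matrix.toLin' (x : Matrix (Fin d ⊕ Fin d) (Fin d ⊕ Fin d) F) with hT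
  have hTr : T ^ r = 1 := by
    rw [hT, ← Matrix.toLin'_pow, ← SubmonoidClass.coe_pow, ← hxo', pow_orderOf_eq_one]
    exact Matrix.toLin'_one
  have hB : ∀ u v, sympBilin d F (T u) (T v) = sympBilin d F u v := fun u v => by
    rw [sympBilin_apply, sympBilin_apply, hT, Matrix.toLin'_apply, Matrix.toLin'_apply, sympForm_mulVec]
  set M := LinearMap.range (T - 1) with hM
  set C := LinearMap.ker (T - 1) with hC
  have hCM : ∀ c ∈ C, ∀ v ∈ M, sympBilin d F c v = 0 := by
    rintro c hc _ ⟨w, rfl⟩
    have hTc : T c = c := by simpa [hC, sub_eq_zero] using hc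
    have := hB c w
    rw [hTc] at this
    rw [LinearMap.sub_apply, Module.End.one_apply, map_sub, this, sub_self]
  have hCMc := CfsgLib.OrderR.isCompl_fix_move T hTr hrF
  have hfix : ∀ v ∈ M, T v = v → v = 0 := fun v hv h =>
    Submodule.disjoint_def.1 hCMc.disjoint v (by simp [h]) hv
  have hMT : M.map T ≤ M := by
    rintro _ ⟨_, ⟨w, rfl⟩, rfl⟩
    exact ⟨T w, by simp⟩
  have hM0 : M ≠ ⊥ := by
    intro h0
    have h1 : T = 1 := sub_eq_zero.1 (LinearMap.range_eq_bot.1 h0)
    have : x = 1 := Subtype.ext (Matrix.toLin'.injective (h1.trans Matrix.toLin'_one.symm))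
    rw [this, orderOf_one] at hxo'
    omega
  have hMd : finrank F ↥M = i := by
    refine le_antisymm ?_ (Nat.le_of_dvd (Nat.pos_of_ne_zero fun h0 => hM0 (Submodule.finrank_eq_zero.1 h0))
      (CfsgLib.OrderR.orderOf_dvd_finrank T hq hTr M hMT hfix))
    -- the fixed isotropic subspace
    set E := Submodule.span F (Set.range (stdTuple F (show k ≤ d by omega))) with hE
    have hEC : E ≤ C := by
      rw [hE, Submodule.span_le]
      rintro _ ⟨l, rfl⟩
      simp [hC, hT, hx l]
    have hEd : finrank F ↥E = k := by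
      rw [hE, finrank_span_eq_card (stdTuple_mem (show k ≤ d by omega)).1, Fintype.card_fin]
    have hsum := Submodule.finrank_sup_add_finrank_inf_eq E M
    rw [(hCMc.disjoint.mono_left hEC).eq_bot, finrank_bot, hEd, Nat.add_zero] at hsum
    have hle : E ⊔ M ≤ orthSpan (stdTuple F (show k ≤ d by omega)) := by
      refine sup_le (span_le_orthSpan (stdTuple_mem (show k ≤ d by omega)).2) fun v hv => mem_orthSpan.2 fun l => ?_
      rw [← sympBilin_apply]
      exact hCM _ (hEC (Submodule.subset_span ⟨l, rfl⟩)) v hv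
    have := Submodule.finrank_mono hle
    rw [finrank_orthSpan (stdTuple_mem (show k ≤ d by omega)).1] at this
    omega
  refine ⟨fun z hz => ?_, ?_⟩
  · -- not scalar
    have hTz : ∀ v, T v = z • v := fun v => by
      rw [hT, Matrix.toLin'_apply, hz, Matrix.smul_mulVec, Matrix.one_mulVec]
    obtain ⟨v, hv, hv0⟩ := Submodule.exists_mem_ne_zero_of_ne_bot hM0
    have hz1 : z ≠ 1 := fun h1 => hv0 (hfix v hv (by rw [hTz, h1, one_smul]))
    have hiso := hB
    have hzz : z * z = 1 := by
      obtain ⟨w, hw⟩ : ∃ w, sympBilin d F v w ≠ 0 := by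
        by_contra hh
        push Not at hh
        exact hv0 (sympBilin_separatingLeft v hh)
      have := hB v w
      rw [hTz, hTz, map_smul, map_smul, LinearMap.smul_apply, smul_eq_mul, smul_eq_mul, ← mul_assoc] at this
      exact mul_right_cancel₀ hw (by rw [this, one_mul])
    have hTn : ∀ n : ℕ, (T ^ n) v = z ^ n • v := by
      intro n
      induction n with
      | zero => simp
      | succ n ih => rw [pow_succ', Module.End.mul_apply, ih, map_smul, hTz, smul_smul, ← pow_succ]
    have h3 := hTn r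
    rw [hTr, Module.End.one_apply] at h3
    have h4 : z ^ r = 1 := by
      by_contra hne4
      have : (z ^ r - 1) • v = 0 := by rw [sub_smul, one_smul, ← h3, sub_self]
      exact hv0 ((smul_eq_zero.1 this).resolve_left (sub_ne_zero.2 hne4))
    have ho : r % 2 = 1 := hr.eq_two_or_odd.resolve_left hr2
    rw [show r = 2 * (r / 2) + 1 by omega, pow_succ, pow_mul, pow_two, hzz, one_pow, one_mul] at h4
    exact hz1 h4
  · rintro ⟨U, W, hc, hU, hW, hperm⟩
    have hinv : U.map T ≤ U ∧ W.map T ≤ W := by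
      rcases hperm with ⟨h1, h2⟩ | ⟨h1, h2⟩
      · exact ⟨h1.le, h2.le⟩
      · exfalso
        have hpow : ∀ n : ℕ, U.map (T ^ (2 * n)) = U := by
          intro n
          induction n with
          | zero => rw [Nat.mul_zero, pow_zero, show (1 : Module.End F (Fin d ⊕ Fin d → F)) = LinearMap.id from rfl, Submodule.map_id]
          | succ n ih =>
            rw [Nat.mul_succ, Nat.add_comm, pow_add, Module.End.mul_eq_comp, Submodule.map_comp, ih, pow_two,
              Module.End.mul_eq_comp, Submodule.map_comp]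
            exact (congrArg (Submodule.map T) h1).trans h2
        have ho : r % 2 = 1 := hr.eq_two_or_odd.resolve_left hr2
        have hUW : U = W := by
          conv_lhs => rw [← Submodule.map_id U, show (LinearMap.id : Module.End F (Fin d ⊕ Fin d → F)) = T ^ r from hTr.symm]
          rw [show r = 1 + 2 * (r / 2) by omega, pow_add, Module.End.mul_eq_comp, Submodule.map_comp, hpow, pow_one]
          exact h1
        subst hUW
        have hb : U = ⊥ := by simpa using hc.inf_eq_bot
        have ht : U = ⊤ := by simpa using hc.sup_eq_top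
        have : Nonempty (Fin d ⊕ Fin d) := ⟨Sum.inl ⟨0, by omega⟩⟩
        exact bot_ne_top (hb.symm.trans ht)
    -- the moving parts of U and W
    have part : ∀ S : Submodule F (Fin d ⊕ Fin d → F), S.map T ≤ S → S.map (T - 1) ≤ S ∧ i ∣ finrank F ↥(S.map (T - 1)) := by
      intro S hS
      refine ⟨?_, CfsgLib.OrderR.orderOf_dvd_finrank T hq hTr _ ?_ fun v hv h => hfix v (LinearMap.map_le_range hv) h⟩
      · rintro _ ⟨v, hv, rfl⟩
        exact S.sub_mem (hS (Submodule.mem_map_of_mem hv)) hv
      · rintro _ ⟨_, ⟨v, hv, rfl⟩, rfl⟩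
        exact ⟨T v, hS (Submodule.mem_map_of_mem hv), by simp⟩
    obtain ⟨hU1, hUi⟩ := part U hinv.1
    obtain ⟨hW1, hWi⟩ := part W hinv.2
    have hsplit : U.map (T - 1) ⊔ W.map (T - 1) = M := by
      rw [← Submodule.map_sup, hc.sup_eq_top, Submodule.map_top]
    have hsum := Submodule.finrank_sup_add_finrank_inf_eq (U.map (T - 1)) (W.map (T - 1))
    rw [hsplit, (hc.disjoint.mono hU1 hW1).eq_bot, finrank_bot, hMd, Nat.add_zero] at hsum
    have key : ∀ A A' : Submodule F (Fin d ⊕ Fin d → F), A ⊔ A' = ⊤ → (∀ u ∈ A, ∀ v ∈ A, Cfsg.sympForm d F u v = 0) →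
        A.map (T - 1) ≤ A → A'.map (T - 1) = ⊥ → M ≤ A → False := by
      intro A A' hAA hA hA1 hA0 hMA
      obtain ⟨v, hv, hv0⟩ := Submodule.exists_mem_ne_zero_of_ne_bot hM0
      refine hv0 (sympBilin_separatingLeft v fun y => ?_)
      obtain ⟨a, ha, b, hb, rfl⟩ := Submodule.mem_sup.1 (hAA ▸ Submodule.mem_top (x := y))
      have hbC : b ∈ C := by
        rw [hC, LinearMap.mem_ker]
        exact (Submodule.eq_bot_iff _).1 hA0 _ (Submodule.mem_map_of_mem hb)
      rw [map_add, sympBilin_apply v a, hA v (hMA hv) a ha, zero_add, alt_flip sympBilin_isAlt b v, hCM b hbC v hv, neg_zero]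
    by_cases hW0 : W.map (T - 1) = ⊥
    · exact key U W hc.sup_eq_top hU hU1 hW0 (by rw [← hsplit, hW0, sup_bot_eq]; exact hU1)
    · by_cases hU0 : U.map (T - 1) = ⊥
      · exact key W U (by rw [sup_comm]; exact hc.sup_eq_top) hW hW1 hU0 (by rw [← hsplit, hU0, bot_sup_eq]; exact hW1)
      · have := Nat.le_of_dvd (Nat.pos_of_ne_zero fun h0 => hU0 (Submodule.finrank_eq_zero.1 h0)) hUi
        have := Nat.le_of_dvd (Nat.pos_of_ne_zero fun h0 => hW0 (Submodule.finrank_eq_zero.1 h0)) hWi
        omega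

end Cfsg.Agent.S5963
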