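import Cfsg.Statements.S5964
import Cfsg.Agent.Lib.Maximal99.Subfield
-- import your own Cfsg.Agent.* helpers here

set_option autoImplicit false
open scoped MatrixGroups
open Cfsg

namespace Cfsg.Agent.S5964

open Module CfsgLib.SquareScalar CfsgLib.ConjTools CfsgLib.Subfield99

/-- The determinant of a map consisting of pairs only. -/
lemma det_pairs {F V : Type*} [Field F] [AddCommGroup V] [Module F V] {T : V →ₗ[F] V} {z : F} {s : ℕ}
    (hb : HasPairBasis T z s 0) : LinearMap.det T = (-z) ^ s := by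
  classical
  obtain ⟨b, μ, h1, h2, -, -⟩ := hb
  let σ : ((Fin s × Bool) ⊕ Fin 0) ≃ Fin 2 × Fin s :=
    (Equiv.sumEmpty _ _).trans ((Equiv.prodComm _ _).trans (finTwoEquiv.symm.prodCongr (Equiv.refl _)))
  let A : Matrix (Fin 2) (Fin 2) F := !![0, z; 1, 0]
  let c := b.reindex σ
  have hc0 : ∀ k, c (0, k) = b (.inl (k, false)) := fun k => by simp [c, σ, finTwoEquiv]
  have hc1 : ∀ k, c (1, k) = b (.inl (k, true)) := fun k => by simp [c, σ, finTwoEquiv]
  have h : LinearMap.toMatrix c c T = Matrix.blockDiagonal (fun _ : Fin s => A) := by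
    ext ⟨i, k⟩ ⟨j, l⟩
    rw [LinearMap.toMatrix_apply]
    fin_cases j
    · simp only [Fin.zero_eta, hc0, h1]
      rw [← hc1 l, Basis.repr_self]
      fin_cases i <;> simp [Finsupp.single_apply, Matrix.blockDiagonal, A, eq_comm]
    · simp only [Fin.mk_one, hc1, h2, map_smul]
      rw [← hc0 l, Basis.repr_self]
      fin_cases i <;> simp [Finsupp.single_apply, Matrix.blockDiagonal, A, eq_comm]
  have hA : A.det = -z := by simp [A, Matrix.det_fin_two]
  rw [← LinearMap.det_toMatrix c, h, Matrix.det_blockDiagonal]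
  simp [hA]

/-- In a quadratic extension of odd order the elements of the subfield are squares. -/
lemma isSquare_of_mem {F : Type*} [Field F] [Fintype F] {q q₀ : ℕ} (hq : Fintype.card F = q) (hodd : Odd q)
    (F₀ : Subfield F) (hF₀ : Nat.card ↥F₀ = q₀) (hqk : q = q₀ ^ 2) {a : F} (ha : a ∈ F₀) : IsSquare a := by
  classical
  by_cases h0 : a = 0
  · rw [h0]; exact IsSquare.zero
  have h2 : ringChar F ≠ 2 := fun h => by
    have := FiniteField.even_card_of_char_two h
    rw [hq] at this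
    obtain ⟨e, rfl⟩ := hodd
    omega
  rw [FiniteField.isSquare_iff h2 h0, hq]
  have hcard0 : Fintype.card F₀ = q₀ := by rw [← hF₀, Nat.card_eq_fintype_card]
  have h1 : a ^ (q₀ - 1) = 1 := by
    have h := FiniteField.pow_card_sub_one_eq_one (⟨a, ha⟩ : F₀) (fun h => h0 (congrArg Subtype.val h))
    rw [hcard0] at h
    simpa using congrArg (Subtype.val : F₀ → F) h
  have hq0 : Odd q₀ := by
    rw [hqk, Nat.odd_pow_iff two_ne_zero] at hodd
    exact hodd
  obtain ⟨d, rfl⟩ := hq0
  rw [show q / 2 = (2 * d + 1 - 1) * (d + 1) by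
    rw [hqk, Nat.add_sub_cancel, show (2 * d + 1) ^ 2 = 1 + 2 * (2 * d * (d + 1)) by ring]
    omega, pow_mul, h1, one_pow]


/-- Involutions of PSL_n(q) and subfield subgroups. Here `T = PSL_n(F)` for a field `F` with `q = p^f` elements (`n ≥ 2`, `(n, q) ≠ (2, 2), (2, 3)`), `F₀` is the subfield with `q₀` elements where `q = q₀^k` for a prime `k`, and `H` is the subgroup of matrices of determinant 1 lying in the subfield group of `F₀` (invertible matrices over `F₀` times scalars) — a maximal subgroup of type GL_n(q₀) (the case `n = 2`, `q₀ = 2` is excluded); Ω is the set of `T`-conjugates of `H` (cosets of `H`), so an element of `T` of prime order `r` (a matrix `x` of determinant 1 with `x^r` scalar, `x` not scalar) fixes a point of Ω when some conjugate of `x` by a matrix of determinant 1 lies in `H`. Suppose the index of `H` is even. Then every involution of `T` is conjugate in `T` into `H` if and only if either `q` is even, or `k = 2` and `(n)_2 ≤ (q − 1)_2`. (For `q`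 odd and `k` odd the index of `H` is odd, so that case does not arise.) -/
theorem result {F : Type*} [Field F] [Fintype F] {p : ℕ} [Fact p.Prime] [CharP F p] {q : ℕ} (hq : Fintype.card F = q)
    (n : ℕ) (hn : 2 ≤ n) (hT : (n, q) ≠ (2, 2) ∧ (n, q) ≠ (2, 3))
    (F₀ : Subfield F) (k q₀ : ℕ) (hk : k.Prime) (hF₀ : Nat.card ↥F₀ = q₀) (hqk : q = q₀ ^ k) (hC5 : ¬ (n = 2 ∧ q₀ = 2)) (hΩ : 2 ∣ ((Cfsg.Geo.subfieldSubgroup F₀ 1).comap (Matrix.SpecialLinearGroup.toGL : Matrix.SpecialLinearGroup (Fin n) F →* GL (Fin n) F)).index) :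
    (∀ x : Matrix.SpecialLinearGroup (Fin n) F,
      (∃ z : F, ((x ^ 2 : Matrix.SpecialLinearGroup (Fin n) F) : Matrix (Fin n) (Fin n) F) = z • (1 : Matrix (Fin n) (Fin n) F)) →
      (∀ z : F, (x : Matrix (Fin n) (Fin n) F) ≠ z • (1 : Matrix (Fin n) (Fin n) F)) →
      ∃ P : Matrix.SpecialLinearGroup (Fin n) F, P⁻¹ * x * P ∈ ((Cfsg.Geo.subfieldSubgroup F₀ 1).comap (Matrix.SpecialLinearGroup.toGL : Matrix.SpecialLinearGroup (Fin n) F →* GL (Fin n) F))) ↔
    (Odd q → (k = 2 ∧ padicValNat 2 n ≤ padicValNat 2 (q - 1))) := by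
  classical
  have hn0 : 0 < n := by omega
  have : Nonempty (Fin n) := ⟨⟨0, hn0⟩⟩
  have h2q : Odd q → (2 : F) ≠ 0 := by
    intro hodd h2
    have := FiniteField.even_card_of_char_two (F := F) (CharP.ringChar_of_prime_eq_zero Nat.prime_two (by exact_mod_cast h2))
    rw [hq] at this
    obtain ⟨e, rfl⟩ := hodd
    omega
  have hv1 : Odd q → 1 ≤ padicValNat 2 (q - 1) := by
    intro hodd
    obtain ⟨e, rfl⟩ := hodd
    have hq1 : 1 < 2 * e + 1 := by rw [← hq]; exact Fintype.one_lt_card
    exact one_le_padicValNat_of_dvd (by omega) ⟨e, by omega⟩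
  constructor
  · intro hall hodd
    have h2 := h2q hodd
    have hk2 : k = 2 := by
      by_contra hne
      have := odd_index hq F₀ hF₀ hqk hodd (hk.odd_of_ne_two hne) (by omega : 1 ≤ n)
      exact (Nat.not_even_iff_odd.2 this) (even_iff_two_dvd.2 hΩ)
    refine ⟨hk2, ?_⟩
    subst hk2
    by_contra hlt
    set v := padicValNat 2 (q - 1) with hv
    have hv' := hv1 hodd
    obtain ⟨m, rfl⟩ : 2 ∣ n := dvd_of_one_le_padicValNat (by omega)
    have hvm : 2 ^ v ∣ m := by
      rw [padicValNat_dvd_iff_le (by omega)]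
      rw [padicValNat.mul (by omega) (by omega), padicValNat.self (by omega)] at hlt
      omega
    obtain ⟨y, hy⟩ := (exists_pow_eq_neg_one_iff hq h2 (pow_pos two_pos (v - 1))).2
      (by rw [padicValNat.prime_pow]; omega)
    have hy2 : y ^ 2 ^ v = 1 := by
      rw [show v = v - 1 + 1 by omega, pow_succ, pow_mul, hy, neg_one_sq]
    have hym : y ^ m = 1 := by
      obtain ⟨d, rfl⟩ := hvm
      rw [pow_mul, hy2, one_pow]
    have hyns : ¬ IsSquare y := by
      rintro ⟨w, rfl⟩
      have := (exists_pow_eq_neg_one_iff hq h2 (pow_pos two_pos v)).1 ⟨w, by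
        rw [← hy, show 2 ^ v = 2 * 2 ^ (v - 1) by rw [← pow_succ']; congr 1; omega, pow_mul, pow_two]⟩
      rw [padicValNat.prime_pow] at this
      omega
    have hzns : ¬ IsSquare (-y) := fun h => hyns (by
      rw [show y = -1 * -y by ring]
      exact (isSquare_of_mem hq hodd F₀ hF₀ hqk (neg_mem (one_mem F₀))).mul h)
    let A : Matrix (Fin 2) (Fin 2) F := !![0, -y; 1, 0]
    let B : Matrix (Fin 2 × Fin m) (Fin 2 × Fin m) F := Matrix.blockDiagonal fun _ => A
    let X : Matrix (Fin (2 * m)) (Fin (2 * m)) F := Matrix.reindexAlgEquiv F F finProdFinEquiv B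
    have hdet : X.det = 1 := by
      rw [Matrix.det_reindexAlgEquiv, Matrix.det_blockDiagonal]
      simp [A, Matrix.det_fin_two, hym]
    have hX : X * X = (-y) • (1 : Matrix (Fin (2 * m)) (Fin (2 * m)) F) := by
      have hB : B * B = (-y) • (1 : Matrix (Fin 2 × Fin m) (Fin 2 × Fin m) F) := by
        rw [← Matrix.blockDiagonal_mul, ← Matrix.blockDiagonal_one, ← Matrix.blockDiagonal_smul]
        congr 1
        funext i
        ext a b
        fin_cases a <;> fin_cases b <;> simp [A]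
      rw [← map_mul, hB, map_smul, map_one]
    obtain ⟨x₀, hx₀⟩ : ∃ x₀ : Matrix.SpecialLinearGroup (Fin (2 * m)) F, (x₀ : Matrix (Fin (2 * m)) (Fin (2 * m)) F) = X :=
      ⟨⟨X, hdet⟩, rfl⟩
    obtain ⟨P, hP⟩ := hall x₀ ⟨-y, by rw [Matrix.SpecialLinearGroup.coe_pow, pow_two, hx₀]; exact hX⟩
      (fun w hw => hzns ⟨w, by
        rw [hx₀] at hw
        have e := congrFun (congrFun hX ⟨0, hn0⟩) ⟨0, hn0⟩
        rw [hw] at e
        simpa using e.symm⟩)
    obtain ⟨c, hc, hmem⟩ := mem_comap_iff.1 hP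
    set M : Matrix (Fin (2 * m)) (Fin (2 * m)) F := ((P⁻¹ * x₀ * P : Matrix.SpecialLinearGroup (Fin (2 * m)) F) : Matrix (Fin (2 * m)) (Fin (2 * m)) F) with hM
    have hMM : M * M = (-y) • (1 : Matrix (Fin (2 * m)) (Fin (2 * m)) F) := by
      have e1 : (P : Matrix (Fin (2 * m)) (Fin (2 * m)) F) * ((P⁻¹ : Matrix.SpecialLinearGroup (Fin (2 * m)) F) : Matrix (Fin (2 * m)) (Fin (2 * m)) F) = 1 :=
        congrArg Subtype.val (mul_inv_cancel P)
      have e2 : ((P⁻¹ : Matrix.SpecialLinearGroup (Fin (2 * m)) F) : Matrix (Fin (2 * m)) (Fin (2 * m)) F) * (P : Matrix (Fin (2 * m)) (Fin (2 * m)) F) = 1 :=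
        congrArg Subtype.val (inv_mul_cancel P)
      rw [hM, Matrix.SpecialLinearGroup.coe_mul, Matrix.SpecialLinearGroup.coe_mul, hx₀]
      set Q := ((P⁻¹ : Matrix.SpecialLinearGroup (Fin (2 * m)) F) : Matrix (Fin (2 * m)) (Fin (2 * m)) F)
      set Pm := (P : Matrix (Fin (2 * m)) (Fin (2 * m)) F)
      show Q * X * Pm * (Q * X * Pm) = _
      rw [show Q * X * Pm * (Q * X * Pm) = Q * (X * (Pm * Q) * X) * Pm by simp only [mul_assoc], e1, mul_one, hX,
        Matrix.mul_smul, mul_one, Matrix.smul_mul, e2]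
    have hsq : IsSquare (c * c * -y) := by
      refine isSquare_of_mem hq hodd F₀ hF₀ hqk ?_
      have e := congrFun (congrFun hMM ⟨0, hn0⟩) ⟨0, hn0⟩
      simp only [Matrix.mul_apply, Matrix.smul_apply, Matrix.one_apply_eq, smul_eq_mul, mul_one] at e
      rw [← e, Finset.mul_sum]
      refine sum_mem fun i _ => ?_
      rw [show c * c * (M ⟨0, hn0⟩ i * M i ⟨0, hn0⟩) = (c * M ⟨0, hn0⟩ i) * (c * M i ⟨0, hn0⟩) by ring]
      exact mul_mem (hmem _ _) (hmem _ _)
    obtain ⟨w, hw⟩ := hsq
    exact hzns ⟨w / c, by field_simp; linear_combination hw⟩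
  · intro hR x hx1 hx2
    obtain ⟨z, hz⟩ := hx1
    have hz0 : z ≠ 0 := by
      rintro rfl
      have h := congrArg Matrix.det hz
      rw [zero_smul, Matrix.det_zero, (x ^ 2).2] at h
      exact one_ne_zero h
    set T : (Fin n → F) →ₗ[F] (Fin n → F) := Matrix.toLin' (x : Matrix (Fin n) (Fin n) F) with hTdef
    have hT : ∀ v, T (T v) = z • v := fun v => by
      rw [hTdef, Matrix.toLin'_apply, Matrix.toLin'_apply, Matrix.mulVec_mulVec, ← pow_two,
        ← Matrix.SpecialLinearGroup.coe_pow, hz, Matrix.smul_mulVec, Matrix.one_mulVec]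
    have hsq : IsSquare z := by
      by_contra hns
      have hchar : ringChar F ≠ 2 := fun h => hns (FiniteField.isSquare_of_char_two h z)
      have hodd : Odd q := hq ▸ Nat.odd_iff.2 (FiniteField.odd_card_of_char_ne_two hchar)
      obtain ⟨hk2, hle⟩ := hR hodd
      subst hk2
      obtain ⟨s, hb⟩ := hasPairBasis_of_not_square T z hT hns
      have hns2 : n = 2 * s := by
        obtain ⟨b₀, -⟩ := hb
        have := Module.finrank_eq_card_basis b₀
        simp only [Module.finrank_fin_fun, Fintype.card_sum, Fintype.card_prod, Fintype.card_fin, Fintype.card_bool] at this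
        omega
      have hys : (-z) ^ s = 1 := by rw [← det_pairs hb, hTdef, LinearMap.det_toLin']; exact x.2
      have hyns : ¬ IsSquare (-z) := fun h => hns (by
        rw [show z = -1 * -z by ring]
        exact (isSquare_of_mem hq hodd F₀ hF₀ hqk (neg_mem (one_mem F₀))).mul h)
      have hy1 : (-z) ^ (q - 1) = 1 := hq ▸ FiniteField.pow_card_sub_one_eq_one _ (neg_ne_zero.2 hz0)
      have hg : (-z) ^ Nat.gcd s (q - 1) = 1 := pow_gcd_eq_one.2 ⟨hys, hy1⟩
      have hv' := hv1 hodd
      rw [hns2, padicValNat.mul (by omega) (by omega), padicValNat.self (by omega)] at hle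
      obtain ⟨t, ht⟩ := Nat.gcd_dvd_right s (q - 1)
      obtain ⟨t', ht'⟩ : 2 ∣ t := by
        by_contra hcon
        have h1 : 2 ^ padicValNat 2 (q - 1) ∣ Nat.gcd s (q - 1) :=
          (((Nat.prime_two.coprime_iff_not_dvd.2 hcon).pow_left _).dvd_of_dvd_mul_right
            (ht ▸ pow_padicValNat_dvd))
        have h3 : 2 ^ padicValNat 2 (q - 1) ∣ s := h1.trans (Nat.gcd_dvd_left _ _)
        rw [padicValNat_dvd_iff_le (by omega)] at h3
        omega
      apply hyns
      rw [FiniteField.isSquare_iff hchar (neg_ne_zero.2 hz0), hq]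
      rw [show q / 2 = Nat.gcd s (q - 1) * t' by
        obtain ⟨e, he⟩ := hodd
        rw [ht', show Nat.gcd s (q - 1) * (2 * t') = 2 * (Nat.gcd s (q - 1) * t') by ring] at ht
        omega, pow_mul, hg, one_pow]
    obtain ⟨c₀, rfl⟩ := hsq
    have hc0 : c₀ ≠ 0 := left_ne_zero_of_mul hz0
    obtain ⟨s, l, hb, hD⟩ : ∃ s l, HasPairBasis T (c₀ * c₀) s l ∧ DetSurj T := by
      by_cases h2 : (2 : F) = 0
      · obtain ⟨s, l, hb⟩ := hasPairBasis_of_square_two h2 T c₀ hT
        refine ⟨s, l, hb, detSurj hb hz0 ?_ (Or.inr (Or.inl h2))⟩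
        obtain ⟨b₀, -⟩ := hb
        have := Module.finrank_eq_card_basis b₀
        simp only [Module.finrank_fin_fun, Fintype.card_sum, Fintype.card_prod, Fintype.card_fin, Fintype.card_bool] at this
        omega
      · obtain ⟨l, hb⟩ := hasPairBasis_of_square h2 T c₀ hc0 hT
        refine ⟨0, l, hb, detSurj_of_eigen hb ?_⟩
        obtain ⟨b₀, -⟩ := hb
        have := Module.finrank_eq_card_basis b₀
        simp at this
        omega
    obtain ⟨b, μ, h1, h2, h3, h4⟩ := hb
    let w : (Fin s × Bool) ⊕ Fin l → F := fun i => match i with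
      | .inl (_, false) => c₀
      | _ => 1
    have hw : ∀ i, IsUnit (w i) := by
      rintro (⟨i, _ | _⟩ | j) <;> simp [w, hc0]
    let b' := b.isUnitSMul hw
    have key : ∀ j, ∃ i, ∃ e ∈ F₀, T (b' j) = (c₀ * e) • b' i := by
      rintro (⟨i, _ | _⟩ | j)
      · exact ⟨.inl (i, true), 1, one_mem F₀, by simp [b', Basis.isUnitSMul_apply, w, h1]⟩
      · exact ⟨.inl (i, false), 1, one_mem F₀, by simp [b', Basis.isUnitSMul_apply, w, h2, smul_smul]⟩
      · rcases mul_self_eq_mul_self_iff.1 (h4 j) with h | h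
        · exact ⟨.inr j, 1, one_mem F₀, by simp [b', Basis.isUnitSMul_apply, w, h3, h]⟩
        · exact ⟨.inr j, -1, neg_mem (one_mem F₀), by simp [b', Basis.isUnitSMul_apply, w, h3, h]⟩
    refine exists_conj_mem x hD b' (inv_ne_zero hc0) fun i j => ?_
    obtain ⟨i', e, he, hTe⟩ := key j
    rw [← hTdef, hTe, map_smul, Basis.repr_self, Finsupp.smul_apply, Finsupp.single_apply]
    split_ifs
    · rw [smul_eq_mul, mul_one, inv_mul_cancel_left₀ hc0]
      exact he
    · simp

end Cfsg.Agent.S5964
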