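import Cfsg.Statements.S5965
import Cfsg.Agent.Lib.PrimeElusive.SubfieldType
import Cfsg.Agent.Lib.PrimeElusive.Master
-- import your own Cfsg.Agent.* helpers here

set_option autoImplicit false
open scoped MatrixGroups
open Cfsg

namespace Cfsg.Agent.S5965

open Matrix CfsgLib.PrimeClasses CfsgLib.PrimeElusive

section

variable {F : Type*} [Field F] [Fintype F] {r : ℕ} [hr : Fact r.Prime] {n : ℕ}

/-- The subfield group inside `SL`. -/
abbrev H (n : ℕ) (F₀ : Subfield F) : Subgroup (SpecialLinearGroup (Fin n) F) :=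
  (Cfsg.Geo.subfieldSubgroup F₀ 1).comap
    (Matrix.SpecialLinearGroup.toGL : Matrix.SpecialLinearGroup (Fin n) F →* GL (Fin n) F)

/-- Roots of order `r` in a subfield without `r`-th roots of unity. -/
theorem exists_root_in {F₀ : Subfield F} {q₀ : ℕ} (hF₀ : Nat.card F₀ = q₀) (h : ¬ r ∣ q₀ - 1) {z : F}
    (hz : z ∈ F₀) : ∃ c ∈ F₀, c ^ r = z := by
  classical
  have := Fintype.ofFinite F₀
  rw [Nat.card_eq_fintype_card] at hF₀
  have hinj : Function.Injective fun a : F₀ => a ^ r := fun a b hab => by
    simp only at hab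
    rcases eq_or_ne b 0 with rfl | hb
    · rw [zero_pow hr.out.ne_zero] at hab
      exact eq_zero_of_pow_eq_zero hab
    · refine eq_of_div_eq_one (FormTests.eq_one_of_pow_eq_one hr.out hF₀ h (m := 1) ?_)
      rw [pow_one, div_pow, hab, div_self (pow_ne_zero _ hb)]
  obtain ⟨c, hc⟩ := Finite.injective_iff_surjective.1 hinj ⟨z, hz⟩
  exact ⟨c, c.2, congrArg Subtype.val hc⟩

/-- A conjugate in the subfield group gives an `r`-th root of unity `ρ` with `ρ y` similar to a matrix over the
subfield. -/
theorem exists_rho (hn : 0 < n) {F₀ : Subfield F} {q₀ : ℕ} (hF₀ : Nat.card F₀ = q₀) (h : ¬ r ∣ q₀ - 1)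
    (x : SpecialLinearGroup (Fin n) F) (y : Matrix (Fin n) (Fin n) F) {c1 : F} (hc1 : c1 ≠ 0)
    (hxy : (x : Matrix (Fin n) (Fin n) F) = c1 • y) (hy : y ^ r = 1)
    (hP : ∃ P : SpecialLinearGroup (Fin n) F, P⁻¹ * x * P ∈ H n F₀) :
    ∃ ρ : F, ρ ^ r = 1 ∧ ∃ (g : GL (Fin n) F) (X : Matrix (Fin n) (Fin n) F₀),
      (g : Matrix (Fin n) (Fin n) F) * (ρ • y) = X.map F₀.subtype * (g : Matrix (Fin n) (Fin n) F) := by
  obtain ⟨P, hP⟩ := hP
  obtain ⟨c, hc, hmem⟩ := CfsgLib.Subfield99.mem_comap_iff.1 hP
  set g : GL (Fin n) F := Matrix.SpecialLinearGroup.toGL P⁻¹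
  let X₀ : Matrix (Fin n) (Fin n) F₀ := fun i j => ⟨_, hmem i j⟩
  have hX₀ : X₀.map F₀.subtype = (c * c1) • ((g : Matrix (Fin n) (Fin n) F) * y *
      ((g⁻¹ : GL (Fin n) F) : Matrix (Fin n) (Fin n) F)) := by
    have e : ((P⁻¹ * x * P : SpecialLinearGroup (Fin n) F) : Matrix (Fin n) (Fin n) F) =
        (g : Matrix (Fin n) (Fin n) F) * (c1 • y) * ((g⁻¹ : GL (Fin n) F) : Matrix (Fin n) (Fin n) F) := by
      rw [← hxy, show g⁻¹ = Matrix.SpecialLinearGroup.toGL P by simp [g]]
      rfl
    rw [show X₀.map F₀.subtype = c • ((P⁻¹ * x * P : SpecialLinearGroup (Fin n) F) : Matrix (Fin n) (Fin n) F) from rfl,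
      e, mul_smul_comm, smul_mul_assoc, smul_smul]
  have hd : c * c1 ≠ 0 := mul_ne_zero hc hc1
  have hdr : (c * c1) ^ r ∈ F₀ := by
    have e : F₀.subtype.mapMatrix (X₀ ^ r) = (c * c1) ^ r • (1 : Matrix (Fin n) (Fin n) F) := by
      rw [map_pow, show F₀.subtype.mapMatrix X₀ = _ from hX₀, smul_pow, Units.conj_pow, hy, mul_one, Units.mul_inv]
    have e' := congrFun (congrFun e ⟨0, hn⟩) ⟨0, hn⟩
    simp only [Matrix.smul_apply, Matrix.one_apply_eq, smul_eq_mul, mul_one] at e'
    rw [← e']
    exact ((X₀ ^ r) _ _).2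
  obtain ⟨c₀, hc₀, hc₀r⟩ := exists_root_in hF₀ h hdr
  have hc₀0 : c₀ ≠ 0 := fun e => pow_ne_zero r hd (by rw [← hc₀r, e, zero_pow hr.out.ne_zero])
  refine ⟨c₀⁻¹ * (c * c1), by rw [mul_pow, inv_pow, hc₀r, inv_mul_cancel₀ (pow_ne_zero r hd)], g,
    fun i j => ⟨c₀⁻¹ * (X₀ i j : F), mul_mem (inv_mem hc₀) (X₀ i j).2⟩, ?_⟩
  rw [show (Matrix.map (fun i j => (⟨c₀⁻¹ * (X₀ i j : F), mul_mem (inv_mem hc₀) (X₀ i j).2⟩ : F₀)) F₀.subtype) =
      c₀⁻¹ • X₀.map F₀.subtype from rfl, hX₀, smul_smul, mul_smul_comm, smul_mul_assoc, mul_assoc, Units.inv_mul,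
    mul_one]

/-- A diagonal test element gives a centre of an affine symmetry of the multiplicities. -/
theorem diag_test (hn : 0 < n) {F₀ : Subfield F} {q₀ : ℕ} (hF₀ : Nat.card F₀ = q₀) (h : ¬ r ∣ q₀ - 1)
    (key : ∀ x : Matrix.SpecialLinearGroup (Fin n) F,
      (∃ z : F, ((x ^ r : Matrix.SpecialLinearGroup (Fin n) F) : Matrix (Fin n) (Fin n) F) = z • (1 : Matrix (Fin n) (Fin n) F)) →
      (∀ z : F, (x : Matrix (Fin n) (Fin n) F) ≠ z • (1 : Matrix (Fin n) (Fin n) F)) →
      ∃ P : Matrix.SpecialLinearGroup (Fin n) F, P⁻¹ * x * P ∈ H n F₀)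
    {ζ : F} (hζ : IsPrimitiveRoot ζ r) {c1 : F} (e : Fin n → ZMod r) (hdet : c1 ^ n * rootChar hζ (∑ i, e i) = 1)
    (hne : ∃ i j, e i ≠ e j) :
    ∃ a : ZMod r, ∀ w, Fintype.card {i // e i = a + (q₀ : ZMod r) * (w - a)} = Fintype.card {i // e i = w} := by
  classical
  have hc1 : c1 ≠ 0 := fun h0 => by simp [h0, hn.ne'] at hdet
  set D : Matrix (Fin n) (Fin n) F := Matrix.diagonal fun i => rootChar hζ (e i) with hD
  have hDr : D ^ r = 1 := by
    rw [hD, Matrix.diagonal_pow, ← Matrix.diagonal_one]
    congr 1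
    funext i
    exact rootChar_pow_self hζ _
  let x : SpecialLinearGroup (Fin n) F := ⟨c1 • D, by
    rw [Matrix.det_smul, Fintype.card_fin, hD, Matrix.det_diagonal, ← FormTests.rootChar_sum, hdet]⟩
  obtain ⟨i, j, hij⟩ := hne
  have hP := key x ⟨c1 ^ r, by
      show (c1 • D) ^ r = _
      rw [smul_pow, hDr]⟩ (fun z hz => hij (by
    have h1 := congrFun (congrFun hz i) i
    have h2 := congrFun (congrFun hz j) j
    simp [x, D] at h1 h2
    exact FormTests.rootChar_injective hζ (mul_left_cancel₀ hc1 (h1.trans h2.symm))))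
  obtain ⟨ρ, hρ, g, X, hg⟩ := exists_rho hn hF₀ h x D hc1 rfl hDr hP
  obtain ⟨s, rfl⟩ := exists_rootChar_eq hζ hρ
  have hid : ∀ Z : Matrix (Fin n) (Fin n) F, up (L := F) Z = Z := fun Z => by ext a b; rfl
  have hmult : ∀ u, mult hζ (up (L := F) (X.map F₀.subtype)) u = Fintype.card {i // e i = u - s} := fun u => by
    rw [SubfieldType.mult_up_congr hζ g hg u, hid, hD, ← Matrix.diagonal_smul,
      show (rootChar hζ s • fun i => rootChar hζ (e i)) = fun i => rootChar hζ (e i + s) from
        funext fun i => by rw [Pi.smul_apply, smul_eq_mul, ← AddChar.map_add_eq_mul, add_comm],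
      mult_diagonal]
    exact Fintype.card_congr (Equiv.subtypeEquivRight fun i => eq_sub_iff_add_eq.symm)
  refine ⟨-s, fun w => ?_⟩
  have h1 := SubfieldType.mult_subfield (L := F) hζ F₀ X (w + s)
  rw [hF₀, hmult, hmult, add_sub_cancel_right] at h1
  rw [← h1, show -s + (q₀ : ZMod r) * (w - -s) = (q₀ : ZMod r) * (w + s) - s by ring]

/-- A point with a value of its own is the centre. -/
theorem eq_centre {f : ZMod r → ℕ} {a t : ZMod r} (ht : t ≠ 1) (h : ∀ w, f (a + t * (w - a)) = f w) {w : ZMod r}
    (huniq : ∀ w', f w' = f w → w' = w) : w = a := by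
  have h1 := huniq _ (h w)
  have h2 : (t - 1) * (w - a) = 0 := by linear_combination h1
  exact sub_eq_zero.1 ((mul_eq_zero.1 h2).resolve_left (sub_ne_zero.2 ht))

/-- Exponents in three blocks. -/
theorem exists_blocks {a b c : ℕ} (hn : n = a + b + c) (A B C : ZMod r) :
    ∃ e : Fin n → ZMod r, (∀ X, Fintype.card {i // e i = X} =
      (if A = X then a else 0) + (if B = X then b else 0) + (if C = X then c else 0)) ∧
      ∑ i, e i = a * A + b * B + c * C := by
  subst hn
  exact ⟨_, fun X => (FormTests.step_facts a b c A B C X).1, (FormTests.step_facts a b c A B C 0).2⟩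

omit [Fintype F] in
/-- An element of `GL` in `SL` conjugating into the subfield group gives one of `SL`. -/
theorem inH_of_gl {F₀ : Subfield F} (x : SpecialLinearGroup (Fin n) F) {k : GL (Fin n) F}
    (hk : k ∈ Cfsg.Geo.specialLinear (Fin n) F)
    (h : k⁻¹ * Matrix.SpecialLinearGroup.toGL x * k ∈ Cfsg.Geo.subfieldSubgroup F₀ 1) :
    ∃ P : SpecialLinearGroup (Fin n) F, P⁻¹ * x * P ∈ H n F₀ := by
  have hdet : (k : Matrix (Fin n) (Fin n) F).det = 1 := congrArg Units.val (MonoidHom.mem_ker.1 hk)
  refine ⟨⟨k, hdet⟩, Subgroup.mem_comap.2 ?_⟩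
  let P : SpecialLinearGroup (Fin n) F := ⟨k, hdet⟩
  show Matrix.SpecialLinearGroup.toGL (P⁻¹ * x * P) ∈ _
  rw [map_mul, map_mul, map_inv, show Matrix.SpecialLinearGroup.toGL P = k from Units.ext rfl]
  exact h

/-- The `r`-parts of `a ^ k - 1` and `a - 1`. -/
theorem val_pow_sub_one (hr2 : r ≠ 2) {a k : ℕ} (ha : 2 ≤ a) (hd : r ∣ a - 1) (hk : ¬ r ∣ k) :
    padicValNat r (a ^ k - 1) = padicValNat r (a - 1) := by
  have hk0 : k ≠ 0 := fun e => hk (e ▸ dvd_zero r)
  have h := padicValNat.pow_sub_pow (p := r) (hr.out.odd_of_ne_two hr2) (x := a) (y := 1) (by omega) hd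
    (fun h => hr.out.one_lt.ne' (Nat.dvd_one.1 (by
      have := Nat.dvd_sub h hd
      rwa [show a - (a - 1) = 1 by omega] at this))) hk0
  rw [one_pow, padicValNat.eq_zero_of_not_dvd hk, add_zero] at h
  exact h

end

/-- Elements of odd prime order r ≠ p of PSL_n(q) and subfield subgroups. Here `T = PSL_n(F)` for a field `F` with `q = p^f` elements (`n ≥ 2`, `(n, q) ≠ (2, 2), (2, 3)`), `F₀` is the subfield with `q₀` elements where `q = q₀^k` for a prime `k`, and `H` is the subgroup of matrices of determinant 1 lying in the subfield group of `F₀` (invertible matrices over `F₀` times scalars) — a maximal subgroup of type GL_n(q₀) (the case `n = 2`, `q₀ = 2` is excluded); Ω is the set of `T`-conjugates of `H` (cosets of `H`), so an element of `T` of prime order `r` (a matrix `x` of determinant 1 with `x^r` scalar, `x` not scalar) fixes a point of Ω when some conjugate of `x` by a matrix of determinant 1 lies in `H`. Let `r ≠ p` be an odd prime dividing the index of `H`, with `(n, r) ≠ (6, 3)` and, when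 `r = k` divides `q₀ − 1`, with `(n)_r ≤ (q − 1)_r`. Then every element of `T` of order `r` is conjugate in `T` into `H` if and only if `r = k`, or `k = 2`, `r = n ∈ {3, 5}` and `(q₀ + 1)_r = r`. The two excluded cases, `(n, r) = (6, 3)` and `r = k ∣ q₀ − 1` with `(n)_r > (q − 1)_r`, are ones where this criterion can fail, so they are left out. -/
theorem result {F : Type*} [Field F] [Fintype F] {p : ℕ} [Fact p.Prime] [CharP F p] {q : ℕ} (hq : Fintype.card F = q)
    (n : ℕ) (hn : 2 ≤ n) (hT : (n, q) ≠ (2, 2) ∧ (n, q) ≠ (2, 3))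
    (F₀ : Subfield F) (k q₀ : ℕ) (hk : k.Prime) (hF₀ : Nat.card ↥F₀ = q₀) (hqk : q = q₀ ^ k) (hC5 : ¬ (n = 2 ∧ q₀ = 2)) (r : ℕ) [Fact r.Prime] (hr2 : r ≠ 2) (hrp : r ≠ p) (hgap : ¬ (n = 6 ∧ r = 3)) (hgapk : r = k → r ∣ q₀ - 1 → padicValNat r n ≤ padicValNat r (q - 1)) (hΩ : r ∣ ((Cfsg.Geo.subfieldSubgroup F₀ 1).comap (Matrix.SpecialLinearGroup.toGL : Matrix.SpecialLinearGroup (Fin n) F →* GL (Fin n) F)).index) :
    (∀ x : Matrix.SpecialLinearGroup (Fin n) F,
      (∃ z : F, ((x ^ r : Matrix.SpecialLinearGroup (Fin n) F) : Matrix (Fin n) (Fin n) F) = z • (1 : Matrix (Fin n) (Fin n) F)) →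
      (∀ z : F, (x : Matrix (Fin n) (Fin n) F) ≠ z • (1 : Matrix (Fin n) (Fin n) F)) →
      ∃ P : Matrix.SpecialLinearGroup (Fin n) F, P⁻¹ * x * P ∈ ((Cfsg.Geo.subfieldSubgroup F₀ 1).comap (Matrix.SpecialLinearGroup.toGL : Matrix.SpecialLinearGroup (Fin n) F →* GL (Fin n) F))) ↔
    (r = k ∨ (k = 2 ∧ r = n ∧ (n = 3 ∨ n = 5) ∧ padicValNat r (q₀ + 1) = 1)) := by
  classical
  have hr := (Fact.out : r.Prime)
  have hn0 : 0 < n := by omega
  have : Nonempty (Fin n) := ⟨⟨0, hn0⟩⟩
  have hrF : (r : F) ≠ 0 := fun h => by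
    rw [CharP.cast_eq_zero_iff F p] at h
    exact hrp ((Nat.prime_dvd_prime_iff_eq Fact.out hr).1 h).symm
  have := Fintype.ofFinite F₀
  have hq₀ : Fintype.card F₀ = q₀ := by rw [← hF₀, Nat.card_eq_fintype_card]
  have hq1 : 1 < q := by rw [← hq]; exact Fintype.one_lt_card
  have hq01 : 1 < q₀ := by rw [← hq₀]; exact Fintype.one_lt_card
  set t : ZMod r := (q₀ : ZMod r) with ht
  have hqt : (q : ZMod r) = t ^ k := by rw [hqk, Nat.cast_pow]
  have ht0 : t ≠ 0 := fun h => (qUnit hrF).ne_zero (by
    rw [coe_qUnit, hq, hqt, h, zero_pow hk.ne_zero])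
  have hone : ∀ a : ℕ, 1 ≤ a → (r ∣ a - 1 ↔ (a : ZMod r) = 1) := fun a ha => by
    rw [← CharP.cast_eq_zero_iff (ZMod r) r, Nat.cast_sub ha, Nat.cast_one, sub_eq_zero]
  have hrq : ¬ r ∣ Fintype.card F := fun h => (qUnit hrF).ne_zero (by
    rw [coe_qUnit, (CharP.cast_eq_zero_iff (ZMod r) r _).2 h])
  have hrq₀ : ¬ r ∣ q₀ := fun h => ht0 ((CharP.cast_eq_zero_iff (ZMod r) r _).2 h)
  have hval : padicValNat r (q - 1) + padicValNat r (Nat.card (SpecialLinearGroup (Fin n) F)) =
      ∑ M ∈ Finset.range (n / orderOf (q : ZMod r)), padicValNat r (q ^ (orderOf (q : ZMod r) * (M + 1)) - 1) := by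
    rw [SubfieldType.val_SL hq (by omega), FormTests.val_card_GL hq (hq ▸ hrq)]
  have hval₀ : padicValNat r (q₀ - 1) + padicValNat r (Nat.card (SpecialLinearGroup (Fin n) F₀)) =
      ∑ M ∈ Finset.range (n / orderOf t), padicValNat r (q₀ ^ (orderOf t * (M + 1)) - 1) := by
    rw [SubfieldType.val_SL hq₀ (by omega), FormTests.val_card_GL hq₀ hrq₀]
  constructor
  · intro hall
    by_contra hno
    push Not at hno
    obtain ⟨hrk, hexc⟩ := hno
    have hidx : ¬ padicValNat r (Nat.card (SpecialLinearGroup (Fin n) F)) ≤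
        padicValNat r (Nat.card (SpecialLinearGroup (Fin n) F₀)) :=
      fun h => SubfieldType.not_dvd_index F₀ h hΩ
    have hrk' : ¬ r ∣ k := fun h => hrk ((Nat.prime_dvd_prime_iff_eq hr hk).1 h)
    have ht0ord : 0 < orderOf t := (orderOf_pos_iff.2 (isOfFinOrder_iff_pow_eq_one.2
      ⟨r - 1, by have := hr.two_le; omega, ZMod.pow_card_sub_one_eq_one ht0⟩))
    have hord : orderOf (q : ZMod r) = orderOf t / Nat.gcd (orderOf t) k := by
      rw [hqt, orderOf_pow' _ hk.ne_zero]
    by_cases hkd : k ∣ orderOf t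
    swap
    · -- the index is prime to `r`
      rw [Nat.Coprime.gcd_eq_one ((hk.coprime_iff_not_dvd.2 hkd).symm), Nat.div_one] at hord
      refine hidx ?_
      have hterm : ∀ M, padicValNat r (q ^ (orderOf t * (M + 1)) - 1) =
          padicValNat r (q₀ ^ (orderOf t * (M + 1)) - 1) := fun M => by
        have e : q ^ (orderOf t * (M + 1)) = (q₀ ^ (orderOf t * (M + 1))) ^ k := by
          rw [hqk, ← pow_mul, ← pow_mul, mul_comm]
        have h2 : 2 ≤ q₀ ^ (orderOf t * (M + 1)) :=
          Nat.succ_le_of_lt (Nat.one_lt_pow (Nat.mul_ne_zero ht0ord.ne' (by omega)) hq01)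
        rw [e]
        refine val_pow_sub_one hr2 h2 ((hone _ (by omega)).2 ?_) hrk'
        rw [Nat.cast_pow, pow_mul, pow_orderOf_eq_one, one_pow]
      have hv1 : padicValNat r (q - 1) = padicValNat r (q₀ - 1) := by
        by_cases h : r ∣ q₀ - 1
        · rw [hqk]; exact val_pow_sub_one hr2 hq01 h hrk'
        · rw [padicValNat.eq_zero_of_not_dvd h, padicValNat.eq_zero_of_not_dvd fun h' => h ?_]
          rw [hone _ (by omega), ← orderOf_eq_one_iff] at h' ⊢
          rw [← ht]
          omega
      rw [hord, Finset.sum_congr rfl (fun M _ => hterm M), ← hval₀, hv1] at hval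
      omega
    have hord' : orderOf t = k * orderOf (q : ZMod r) := by
      rw [hord, Nat.gcd_eq_right hkd, Nat.mul_div_cancel' hkd]
    have hr0' : ¬ r ∣ q₀ - 1 := fun h => by
      rw [hone _ (by omega), ← orderOf_eq_one_iff] at h
      rw [h] at hkd
      exact hk.one_lt.ne' (Nat.dvd_one.1 hkd)
    by_cases hd1 : r ∣ q - 1
    swap
    · -- one orbit of roots
      have hdn : orderOf (q : ZMod r) ≤ n := by
        by_contra hlt
        refine hidx ?_
        rw [Nat.div_eq_of_lt (by omega), Finset.sum_range_zero] at hval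
        omega
      obtain ⟨ζ, hζ, hgen⟩ := exists_root (K := F) hrF
      obtain ⟨Y, hY, hYc⟩ := exists_GL_realise hζ hrF (Pi.single (QuotientGroup.mk 1) 1) n
        (by rw [hq]; simpa using hdn)
      have hdet : Y.det = 1 := FormTests.eq_one_of_pow_eq_one hr hq hd1 (m := 1)
        (by rw [pow_one, ← Matrix.det_pow, hY, Matrix.det_one])
      have hP := hall ⟨Y, hdet⟩ ⟨1, by rw [one_smul]; exact hY⟩ fun z hz => by
        have h1 : Y = z • 1 := hz
        have hzr : z ^ r = 1 := by
          have h2 := hY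
          rw [h1, smul_pow, one_pow] at h2
          simpa using congrFun (congrFun h2 ⟨0, hn0⟩) ⟨0, hn0⟩
        rw [FormTests.eq_one_of_pow_eq_one hr hq hd1 (m := 1) (c := z) (by rwa [pow_one]), one_smul] at h1
        rw [h1, orbitMult_one] at hYc
        have := congrFun hYc (QuotientGroup.mk 1)
        simp at this
      obtain ⟨ρ, hρ, g, X, hg⟩ := exists_rho hn0 hF₀ hr0' ⟨Y, hdet⟩ Y one_ne_zero (one_smul F Y).symm hY hP
      rw [FormTests.eq_one_of_pow_eq_one hr hq hd1 (m := 1) (c := ρ) (by rwa [pow_one]), one_smul] at hg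
      have h1 := SubfieldType.mult_subfield hζ F₀ X ((1 : (ZMod r)ˣ) : ZMod r)
      rw [SubfieldType.mult_up_congr hζ g hg, SubfieldType.mult_up_congr hζ g hg, hF₀,
        show (q₀ : ZMod r) * ((1 : (ZMod r)ˣ) : ZMod r) = ((Units.mk0 t ht0 : (ZMod r)ˣ) : ZMod r) by simp [ht],
        mult_eq_orbitMult hζ hrF, mult_eq_orbitMult hζ hrF, hYc, Pi.single_eq_same] at h1
      by_cases hmk : (QuotientGroup.mk (Units.mk0 t ht0) : Orbits hrF) = QuotientGroup.mk 1
      · have hmem := QuotientGroup.eq.1 hmk.symm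
        rw [inv_one, one_mul] at hmem
        have hdvd := orderOf_dvd_of_mem_zpowers hmem
        rw [← orderOf_units, ← orderOf_units (y := qUnit hrF), coe_qUnit, hq, Units.val_mk0, hord'] at hdvd
        have hpos : 0 < orderOf (q : ZMod r) := hq ▸ orbit_size_pos hrF
        have := Nat.le_of_dvd hpos hdvd
        nlinarith [hk.two_le]
      · rw [Pi.single_eq_of_ne hmk] at h1
        exact zero_ne_one h1
    -- roots of unity in `F` but not in `F₀`
    have hq1' : (q : ZMod r) = 1 := (hone _ (by omega)).1 hd1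
    rw [hq1', orderOf_one, mul_one] at hord'
    have ht1 : t ≠ 1 := fun h => by rw [h, orderOf_one] at hord'; exact hk.one_lt.ne hord'
    have hkr : k ∣ r - 1 := hord' ▸ ZMod.orderOf_dvd_card_sub_one ht0
    have hs : 1 ≤ padicValNat r (q - 1) := one_le_padicValNat_of_dvd (by omega) hd1
    have hs2 : k = 2 → padicValNat r (q₀ + 1) = padicValNat r (q - 1) := fun h => by
      rw [hqk, h, show q₀ ^ 2 - 1 = (q₀ + 1) * (q₀ - 1) by simpa using Nat.sq_sub_sq q₀ 1,
        padicValNat.mul (by omega) (by omega), padicValNat.eq_zero_of_not_dvd hr0', add_zero]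
    have hroot : ∀ m, m ∣ q - 1 → ∃ μ : F, IsPrimitiveRoot μ m := fun m hm => by
      obtain ⟨u, hu⟩ := IsCyclic.exists_ofOrder_eq_natCard (α := Fˣ)
      rw [Nat.card_units, Nat.card_eq_fintype_card, hq] at hu
      obtain ⟨j, hj⟩ := hm
      have hj0 : j ≠ 0 := fun h => by rw [h, mul_zero] at hj; omega
      refine ⟨((u ^ j : Fˣ) : F), IsPrimitiveRoot.coe_units_iff.2 ?_⟩
      have ho : orderOf (u ^ j) = m := by
        rw [orderOf_pow' _ hj0, hu, hj, Nat.gcd_mul_left_left, Nat.mul_div_cancel _ (Nat.pos_of_ne_zero hj0)]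
      exact ho ▸ IsPrimitiveRoot.orderOf _
    by_cases hsmall : padicValNat r n < padicValNat r (q - 1)
    · -- one exceptional eigenvalue
      obtain ⟨μ, hμ⟩ := hroot (r ^ (padicValNat r n + 1)) ((padicValNat_dvd_iff_le (by omega)).2 (by omega))
      have hμn : orderOf (μ ^ n) = r := by
        refine orderOf_eq_prime ?_ fun h => ?_
        · rw [← pow_mul]
          refine (hμ.pow_eq_one_iff_dvd _).2 ?_
          rw [pow_succ]
          exact Nat.mul_dvd_mul pow_padicValNat_dvd dvd_rfl
        · have := (padicValNat_dvd_iff_le hn0.ne').1 ((hμ.pow_eq_one_iff_dvd n).1 h)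
          omega
      have hμ' : IsPrimitiveRoot (μ ^ n) r := hμn ▸ IsPrimitiveRoot.orderOf _
      have hζ : IsPrimitiveRoot (μ ^ n)⁻¹ r := hμ'.inv
      obtain ⟨e, hf, hsum⟩ := exists_blocks (r := r) (n := n) (a := n - 1) (b := 1) (c := 0) (by omega) 0 1 0
      have hsum' : ∑ i, e i = 1 := by rw [hsum]; simp
      obtain ⟨i, hi⟩ : ∃ i, e i = 0 := by
        have h := hf 0
        rw [if_pos rfl] at h
        obtain ⟨⟨i, hi⟩⟩ := Fintype.card_pos_iff.1 (show 0 < Fintype.card {i // e i = 0} by omega)
        exact ⟨i, hi⟩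
      obtain ⟨j, hj⟩ : ∃ j, e j = 1 := by
        have h := hf 1
        rw [if_pos rfl] at h
        obtain ⟨⟨j, hj⟩⟩ := Fintype.card_pos_iff.1 (show 0 < Fintype.card {i // e i = 1} by omega)
        exact ⟨j, hj⟩
      obtain ⟨a, ha⟩ := diag_test hn0 hF₀ hr0' hall hζ (c1 := μ) e
        (by rw [hsum', rootChar_pow_one, mul_inv_cancel₀ (pow_ne_zero _ (hμ.ne_zero (pow_ne_zero _ hr.ne_zero)))])
        ⟨i, j, by rw [hi, hj]; exact zero_ne_one⟩
      simp only [hf, add_zero, ite_self] at ha
      rcases (by omega : n = 2 ∨ 3 ≤ n) with hn2 | hn3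
      · -- dimension two
        by_cases hk2 : k = 2
        · refine hidx ?_
          rw [hq1', orderOf_one, hn2, Nat.div_one, Finset.sum_range_succ, Finset.sum_range_succ,
            Finset.sum_range_zero] at hval
          rw [hord', hk2, hn2, Nat.div_self two_pos, Finset.sum_range_succ, Finset.sum_range_zero] at hval₀
          simp only [zero_add, one_mul, mul_one, pow_one, Nat.reduceAdd] at hval hval₀
          rw [val_pow_sub_one hr2 (by omega) hd1 (fun h => hr2 ((Nat.prime_dvd_prime_iff_eq hr Nat.prime_two).1 h))]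
            at hval
          rw [padicValNat.eq_zero_of_not_dvd hr0', show q₀ ^ 2 = q by rw [hqk, hk2]] at hval₀
          rw [hn2]
          omega
        · have htt : t * t ≠ 1 := fun h => hk2 ((Nat.prime_dvd_prime_iff_eq hk Nat.prime_two).1
            (hord' ▸ orderOf_dvd_of_pow_eq_one (by rw [pow_two, h])))
          have himg : ∀ w : ZMod r, (w = 0 ∨ w = 1) → a + t * (w - a) = 0 ∨ a + t * (w - a) = 1 := fun w hw => by
            have h := ha w
            by_contra hc
            push Not at hc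
            rw [if_neg hc.1.symm, if_neg hc.2.symm, hn2] at h
            rcases hw with rfl | rfl <;> simp at h
          have h0 := himg 0 (Or.inl rfl)
          have h1 := himg 1 (Or.inr rfl)
          rcases h0 with h0 | h0
          · have ha0 : a = 0 := by
              have : (1 - t) * a = 0 := by linear_combination h0
              exact (mul_eq_zero.1 this).resolve_left (sub_ne_zero.2 (Ne.symm ht1))
            rcases h1 with h1 | h1
            · exact ht0 (by rw [ha0] at h1; linear_combination h1)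
            · exact ht1 (by rw [ha0] at h1; linear_combination h1)
          · rcases h1 with h1 | h1
            · exact htt (by
                have : t = -1 := by linear_combination h1 - h0
                rw [this]; ring)
            · exact ht0 (by linear_combination h1 - h0)
      · have h0 : (0 : ZMod r) = a := eq_centre (f := fun X => (if 0 = X then n - 1 else 0) + if 1 = X then 1 else 0) ht1 ha fun w' hw' => by
          by_contra hne
          simp only [if_neg (Ne.symm hne)] at hw'
          simp at hw'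
          split_ifs at hw' <;> omega
        have h1 : (1 : ZMod r) = a := eq_centre (f := fun X => (if 0 = X then n - 1 else 0) + if 1 = X then 1 else 0) ht1 ha fun w' hw' => by
          by_contra hne
          simp only [if_neg (Ne.symm hne)] at hw'
          simp at hw'
          split_ifs at hw' <;> omega
        exact zero_ne_one (h0.trans h1.symm)
    · -- three blocks
      have hrn : r ∣ n := dvd_of_one_le_padicValNat (by omega)
      have hself : padicValNat r r = 1 := padicValNat.self hr.one_lt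
      obtain ⟨ζ, hζ⟩ := hroot r hd1
      by_cases hr3 : r = 3
      · have hk2 : k = 2 := (Nat.prime_dvd_prime_iff_eq hk Nat.prime_two).1 (by rw [hr3] at hkr; exact hkr)
        have hn3 : n ≠ 3 := fun h => by
          have hnr : r = n := by omega
          refine hexc hk2 hnr (Or.inl h) ?_
          rw [hs2 hk2]
          rw [← hnr] at hsmall
          omega
        have hn6 : n ≠ 6 := fun h => hgap ⟨h, hr3⟩
        have hn9 : 9 ≤ n := by
          obtain ⟨j, rfl⟩ := hr3 ▸ hrn
          omega
        obtain ⟨e, hf, hsum⟩ := exists_blocks (r := r) (n := n) (a := n - 3) (b := 3) (c := 0) (by omega) 0 1 0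
        have hsum' : ∑ i, e i = 0 := by
          rw [hsum, mul_zero, zero_add, mul_one, Nat.cast_zero, zero_mul, add_zero]
          exact (CharP.cast_eq_zero_iff (ZMod r) r 3).2 (hr3 ▸ dvd_rfl)
        obtain ⟨a, ha⟩ := diag_test hn0 hF₀ hr0' hall hζ (c1 := 1) e
          (by rw [one_pow, one_mul, hsum', AddChar.map_zero_eq_one]) (by
            by_contra hc
            push Not at hc
            have h0 := hf 0
            have h1 := hf 1
            simp at h0 h1
            obtain ⟨⟨i, hi⟩⟩ := Fintype.card_pos_iff.1 (show 0 < Fintype.card {i // e i = 0} by omega)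
            obtain ⟨⟨j, hj⟩⟩ := Fintype.card_pos_iff.1 (show 0 < Fintype.card {i // e i = 1} by omega)
            exact zero_ne_one (hi.symm.trans ((hc i j).trans hj)))
        simp only [hf, add_zero, ite_self] at ha
        have h0 : (0 : ZMod r) = a := eq_centre (f := fun X => (if 0 = X then n - 3 else 0) + if 1 = X then 3 else 0) ht1 ha fun w' hw' => by
          by_contra hne
          simp only [if_neg (Ne.symm hne)] at hw'
          simp at hw'
          split_ifs at hw' <;> omega
        have h1 : (1 : ZMod r) = a := eq_centre (f := fun X => (if 0 = X then n - 3 else 0) + if 1 = X then 3 else 0) ht1 ha fun w' hw' => by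
          by_contra hne
          simp only [if_neg (Ne.symm hne)] at hw'
          simp at hw'
          split_ifs at hw' <;> omega
        exact zero_ne_one (h0.trans h1.symm)
      · have hr4 : r ≠ 4 := fun h => absurd (h ▸ hr) (by norm_num)
        have hr5 : 5 ≤ r := by have := hr.two_le; omega
        have hn6 : 6 ≤ n := by
          by_contra hlt
          have hle := Nat.le_of_dvd hn0 hrn
          have hr5' : r = 5 := by omega
          have hnr : r = n := by omega
          have hk2 : k = 2 := (Nat.prime_dvd_prime_iff_eq hk Nat.prime_two).1 (by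
            have h : k ∣ 2 * 2 := by rw [hr5'] at hkr; exact hkr
            exact (hk.dvd_mul.1 h).elim id id)
          refine hexc hk2 hnr (Or.inr (by omega)) ?_
          rw [hs2 hk2]
          rw [← hnr] at hsmall
          omega
        obtain ⟨e, hf, hsum⟩ := exists_blocks (r := r) (n := n) (a := n - 3) (b := 2) (c := 1) (by omega) 0 1 (-2)
        have h20 : (-2 : ZMod r) ≠ 0 := neg_ne_zero.2 (by
          exact_mod_cast FormTests.natCast_ne_zero_of_lt (r := r) (k := 2) two_pos (by omega))
        have h21 : (-2 : ZMod r) ≠ 1 := fun h => FormTests.natCast_ne_zero_of_lt (r := r) (k := 3) (by omega) (by omega)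
          (by push_cast; linear_combination -h)
        have hsum' : ∑ i, e i = 0 := by rw [hsum]; push_cast; ring
        have h0 : Fintype.card {i // e i = 0} = n - 3 := by rw [hf, if_pos rfl, if_neg one_ne_zero, if_neg h20]; rfl
        have h1 : Fintype.card {i // e i = 1} = 2 := by rw [hf, if_neg zero_ne_one, if_pos rfl, if_neg h21]
        obtain ⟨a, ha⟩ := diag_test hn0 hF₀ hr0' hall hζ (c1 := 1) e
          (by rw [one_pow, one_mul, hsum', AddChar.map_zero_eq_one]) (by
            by_contra hc
            push Not at hc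
            obtain ⟨⟨i, hi⟩⟩ := Fintype.card_pos_iff.1 (show 0 < Fintype.card {i // e i = 0} by omega)
            obtain ⟨⟨j, hj⟩⟩ := Fintype.card_pos_iff.1 (show 0 < Fintype.card {i // e i = 1} by omega)
            exact zero_ne_one (hi.symm.trans ((hc i j).trans hj)))
        have e0 : (0 : ZMod r) = a := eq_centre (f := fun X => Fintype.card {i // e i = X}) ht1 ha fun w' hw' => by
          by_contra hne
          simp only [h0] at hw'
          rw [hf, if_neg (Ne.symm hne)] at hw'
          split_ifs at hw' with u v <;> first | omega | exact h21 (v.trans u.symm)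
        have e1 : (1 : ZMod r) = a := eq_centre (f := fun X => Fintype.card {i // e i = X}) ht1 ha fun w' hw' => by
          by_contra hne
          simp only [h1] at hw'
          rw [hf, if_neg (show ¬ (1 : ZMod r) = w' from Ne.symm hne)] at hw'
          split_ifs at hw' with u v <;> first | omega | exact h20 (v.trans u.symm)
        exact zero_ne_one (e0.trans e1.symm)
  · intro hcases x hxz hns
    obtain ⟨z, hz⟩ := hxz
    replace hz : (x : Matrix (Fin n) (Fin n) F) ^ r = z • 1 := hz
    have hz0 : z ≠ 0 := fun h => by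
      have h' := congrArg Matrix.det hz
      rw [Matrix.det_pow, x.2, one_pow, h, zero_smul, Matrix.det_zero] at h'
      exact one_ne_zero h'
    have hzn : z ^ n = 1 := by
      have h' := congrArg Matrix.det hz
      rw [Matrix.det_pow, x.2, one_pow, Matrix.det_smul, Fintype.card_fin, Matrix.det_one, mul_one] at h'
      exact h'.symm
    -- a root of `z` makes `x` a multiple of an element of order `r`
    have hsplit : ∀ c : F, c ^ r = z → ((c⁻¹ • (x : Matrix (Fin n) (Fin n) F)) ^ r = 1 ∧ c ≠ 0) := fun c hc => by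
      refine ⟨?_, fun h => hz0 (by rw [← hc, h, zero_pow hr.ne_zero])⟩
      rw [smul_pow, hz, smul_smul, inv_pow, hc, inv_mul_cancel₀ hz0, one_smul]
    have hnoroot : r ∣ q - 1 → padicValNat r n ≤ padicValNat r (q - 1) → ∃ c : F, c ^ r = z := fun hd1 hle => by
      by_contra hno
      push Not at hno
      have hT : (Matrix.toLin' (x : Matrix (Fin n) (Fin n) F)) ^ r = z • 1 := by
        rw [← Matrix.toLin'_pow, hz, map_smul, Matrix.toLin'_one]; rfl
      obtain ⟨j, B, -, hdet⟩ := CfsgLib.PrimeElusive.exists_rootfree_basis hr hT hno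
      rw [LinearMap.det_toLin', x.2, (hr.odd_of_ne_two hr2).add_odd odd_one |>.neg_one_pow, one_mul] at hdet
      have hnj : n = j * r := by
        have := Module.finrank_eq_card_basis B
        simpa using this
      have hj0 : j ≠ 0 := fun h => by rw [h, zero_mul] at hnj; omega
      rw [hnj, padicValNat.mul hj0 hr.ne_zero, padicValNat.self hr.one_lt] at hle
      obtain ⟨b, hb⟩ := exists_root_of_small hq hd1 (Nat.pos_of_ne_zero hj0) (by omega) hz0 hdet.symm
      exact hno b hb
    rcases hcases with rfl | ⟨rfl, rfl, hn35, hv⟩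
    · have hqt' : (q : ZMod r) = t := by rw [hqt, ZMod.pow_card]
      by_cases hd1 : r ∣ q - 1
      · -- diagonalisable over `F₀`
        have hr0 : r ∣ q₀ - 1 := (hone _ (by omega)).2 (by rw [← ht, ← hqt', ← hone _ (by omega)]; exact hd1)
        obtain ⟨c, hc⟩ := hnoroot hd1 (hgapk rfl hr0)
        obtain ⟨hy, hc0⟩ := hsplit c hc
        obtain ⟨u, hu⟩ := exists_prime_orderOf_dvd_card' (G := F₀ˣ) r
          (by rw [Nat.card_units, hF₀]; exact hr0)
        have hζ : IsPrimitiveRoot (((u : F₀) : F)) r :=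
          (IsPrimitiveRoot.coe_units_iff.2 (hu ▸ IsPrimitiveRoot.orderOf u)).map_of_injective
            (f := F₀.subtype) Subtype.val_injective
        let y : GL (Fin n) F := (IsUnit.of_pow_eq_one hy hr.ne_zero).unit
        obtain ⟨g, e, hge⟩ := FormTests.exists_diag_form hζ y hy
        let D : GL (Fin n) F := Matrix.GeneralLinearGroup.mkOfDetNeZero
          (Matrix.diagonal fun i => c * rootChar hζ (e i)) (by
            rw [Matrix.det_diagonal, Finset.prod_ne_zero_iff]
            refine fun i _ => mul_ne_zero hc0 fun h => ?_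
            have := rootChar_pow_self hζ (e i)
            rw [h, zero_pow hr.ne_zero] at this
            exact zero_ne_one this)
        have hxg : Matrix.SpecialLinearGroup.toGL x * g = g * D := Units.ext (by
          show (x : Matrix (Fin n) (Fin n) F) * (g : Matrix (Fin n) (Fin n) F) =
            (g : Matrix (Fin n) (Fin n) F) * Matrix.diagonal fun i => c * rootChar hζ (e i)
          rw [show (Matrix.diagonal fun i => c * rootChar hζ (e i)) = c • Matrix.diagonal fun i => rootChar hζ (e i) by
            rw [← Matrix.diagonal_smul]; rfl, mul_smul_comm, ← hge, ← smul_mul_assoc]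
          rw [show ((y : GL (Fin n) F) : Matrix (Fin n) (Fin n) F) = c⁻¹ • (x : Matrix (Fin n) (Fin n) F) from
            IsUnit.unit_spec _, smul_smul, mul_inv_cancel₀ hc0, one_smul])
        obtain ⟨s, hs, hsH⟩ := FormTests.exists_sl_of_diag (Cfsg.Geo.subfieldSubgroup F₀ 1)
          (Matrix.SpecialLinearGroup.toGL x) g 1 D _ rfl hxg (by
            rw [one_mul, inv_one, mul_one, CfsgLib.Subfield99.mem_subfieldSubgroup_one]
            refine ⟨c⁻¹, inv_ne_zero hc0, fun i j => ?_⟩
            show c⁻¹ * Matrix.diagonal (fun i => c * rootChar hζ (e i)) i j ∈ F₀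
            rw [Matrix.diagonal_apply]
            split_ifs
            · rw [inv_mul_cancel_left₀ hc0, rootChar_apply]
              exact pow_mem (u : F₀).2 _
            · rw [mul_zero]; exact zero_mem F₀)
        exact inH_of_gl x hs hsH
      · -- no roots of unity
        obtain ⟨c, hc⟩ : ∃ c : F, c ^ r = z := by
          obtain ⟨c, -, hc⟩ := exists_root_in (F₀ := (⊤ : Subfield F)) (q₀ := q)
            (by rw [← hq, ← Nat.card_eq_fintype_card]; exact Nat.card_congr Subfield.topEquiv.toEquiv) hd1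
            (Subfield.mem_top z)
          exact ⟨c, hc⟩
        obtain ⟨hy, hc0⟩ := hsplit c hc
        set y := c⁻¹ • (x : Matrix (Fin n) (Fin n) F) with hydef
        have hy1 : y ≠ 1 := fun h => hns c (by
          rw [← h, hydef, smul_smul, mul_inv_cancel₀ hc0, one_smul])
        obtain ⟨ζ, hζ, hgen⟩ := exists_root (K := F) hrF
        obtain ⟨g, X, hg⟩ := SubfieldType.exists_subfield_conj hζ hgen hrF F₀ hy fun u => by
          rw [hF₀, ← ht, ← hqt', ← hq, ← pow_one (Fintype.card F), mult, eigProj_frob, rank_map_ringHom]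
          rfl
        obtain ⟨Z, hZ, hZdet⟩ := SubfieldType.exists_comm_det hrF hy hy1
          ((g : Matrix (Fin n) (Fin n) F).det)⁻¹
        have hgdet : (g : Matrix (Fin n) (Fin n) F).det ≠ 0 :=
          ((Matrix.isUnit_iff_isUnit_det _).1 g.isUnit).ne_zero
        let G : SpecialLinearGroup (Fin n) F := ⟨(g : Matrix (Fin n) (Fin n) F) * Z, by
          rw [Matrix.det_mul, hZdet, mul_inv_cancel₀ hgdet]⟩
        refine ⟨G⁻¹, CfsgLib.Subfield99.mem_comap_iff.2 ⟨c⁻¹, inv_ne_zero hc0, fun i j => ?_⟩⟩
        have e : ((G⁻¹⁻¹ * x * G⁻¹ : SpecialLinearGroup (Fin n) F) : Matrix (Fin n) (Fin n) F) =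
            c • X.map F₀.subtype := by
          have hGx : (G : Matrix (Fin n) (Fin n) F) * (x : Matrix (Fin n) (Fin n) F) =
              (c • X.map F₀.subtype) * (G : Matrix (Fin n) (Fin n) F) := by
            show (g : Matrix (Fin n) (Fin n) F) * Z * _ = _ * ((g : Matrix (Fin n) (Fin n) F) * Z)
            rw [show (x : Matrix (Fin n) (Fin n) F) = c • y by rw [hydef, smul_smul, mul_inv_cancel₀ hc0, one_smul],
              mul_smul_comm, mul_assoc, hZ, ← mul_assoc, hg, smul_mul_assoc, mul_assoc]
          have h1 : (G : Matrix (Fin n) (Fin n) F) * ((G⁻¹ : SpecialLinearGroup (Fin n) F) : Matrix (Fin n) (Fin n) F) = 1 :=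
            congrArg Subtype.val (mul_inv_cancel G)
          rw [inv_inv]
          show (G : Matrix (Fin n) (Fin n) F) * (x : Matrix (Fin n) (Fin n) F) *
            ((G⁻¹ : SpecialLinearGroup (Fin n) F) : Matrix (Fin n) (Fin n) F) = _
          rw [hGx, mul_assoc, h1, mul_one]
        rw [e, Matrix.smul_apply, smul_eq_mul, inv_mul_cancel_left₀ hc0]
        exact (X i j).2
    · -- `n = r ∈ {3, 5}`, quadratic extension
      have hdq₀ : r ∣ q₀ + 1 := dvd_of_one_le_padicValNat (by omega)
      have hr0' : ¬ r ∣ q₀ - 1 := fun h => by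
        have h' := Nat.dvd_sub hdq₀ h
        rw [show q₀ + 1 - (q₀ - 1) = 2 by omega] at h'
        exact hr2 ((Nat.prime_dvd_prime_iff_eq hr Nat.prime_two).1 h')
      have hqq : q - 1 = (q₀ + 1) * (q₀ - 1) := by rw [hqk]; simpa using Nat.sq_sub_sq q₀ 1
      have hd1 : r ∣ q - 1 := hqq ▸ dvd_mul_of_dvd_left hdq₀ _
      have hvq : padicValNat r (q - 1) = 1 := by
        rw [hqq, padicValNat.mul (by omega) (by omega), padicValNat.eq_zero_of_not_dvd hr0', hv]
      obtain ⟨c, hc⟩ := hnoroot hd1 (by rw [hvq, padicValNat.self hr.one_lt])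
      have hz1 : z = 1 := by
        obtain ⟨hy, hc0⟩ := hsplit c hc
        have h1 : c ^ (r * r) = 1 := by rw [pow_mul, hc, hzn]
        have h2 : c ^ (q - 1) = 1 := hq ▸ FiniteField.pow_card_sub_one_eq_one c hc0
        have h3 : Nat.gcd (r * r) (q - 1) ∣ r := by
          have hdv : Nat.gcd (r * r) (q - 1) ∣ r ^ 2 := by rw [pow_two]; exact Nat.gcd_dvd_left _ _
          obtain ⟨i, hi, he⟩ := (Nat.dvd_prime_pow hr).1 hdv
          rw [he]
          have hd : r ^ i ∣ q - 1 := by rw [← he]; exact Nat.gcd_dvd_right _ _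
          have := (padicValNat_dvd_iff_le (show q - 1 ≠ 0 by omega)).1 hd
          rw [hvq] at this
          exact (pow_dvd_pow r this).trans (pow_one r).dvd
        rw [← hc]
        obtain ⟨m, hm⟩ := h3
        rw [hm, pow_mul, pow_gcd_eq_one.2 ⟨h1, h2⟩, one_pow]
      rw [hz1, one_smul] at hz
      obtain ⟨u, hu⟩ := exists_prime_orderOf_dvd_card' (G := Fˣ) r
        (by rw [Nat.card_units, Nat.card_eq_fintype_card, hq]; exact hd1)
      have hζ : IsPrimitiveRoot (u : F) r := IsPrimitiveRoot.coe_units_iff.2 (hu ▸ IsPrimitiveRoot.orderOf u)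
      obtain ⟨g, e, hge⟩ := FormTests.exists_diag_form hζ (Matrix.SpecialLinearGroup.toGL x) hz
      have hsum : ∑ i, e i = 0 := FormTests.rootChar_injective hζ (by
        rw [FormTests.rootChar_sum, AddChar.map_zero_eq_one]
        have h := congrArg Matrix.det hge
        rw [Matrix.det_mul, Matrix.det_mul, show ((Matrix.SpecialLinearGroup.toGL x : GL (Fin r) F) :
          Matrix (Fin r) (Fin r) F).det = 1 from x.2, one_mul, Matrix.det_diagonal] at h
        exact (mul_eq_left₀ (((Matrix.isUnit_iff_isUnit_det _).1 g.isUnit).ne_zero)).1 h.symm)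
      obtain ⟨t', σ, hσ, hσe⟩ := FormTests.exists_pairing_small (n := r) hn35 rfl e hsum
      obtain ⟨j, hj⟩ : ∃ j : ZMod r, j + j = t' := ⟨t' / 2, by
        rw [← two_mul, mul_div_cancel₀]
        exact_mod_cast FormTests.natCast_ne_zero_of_lt (r := r) (k := 2) two_pos (by have := hr.two_le; omega)⟩
      have ht' : (q₀ : ZMod r) = -1 := by
        have := (CharP.cast_eq_zero_iff (ZMod r) r (q₀ + 1)).2 hdq₀
        push_cast at this
        exact eq_neg_of_add_eq_zero_left this
      have hid : ∀ Z : Matrix (Fin r) (Fin r) F, up (L := F) Z = Z := fun Z => by ext a b; rfl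
      set D : Matrix (Fin r) (Fin r) F := Matrix.diagonal fun i => rootChar hζ (e i) with hD
      set D' : Matrix (Fin r) (Fin r) F := rootChar hζ (-j) • D with hD'
      have hDr : D ^ r = 1 := by
        rw [hD, Matrix.diagonal_pow, ← Matrix.diagonal_one]
        congr 1
        funext i
        exact rootChar_pow_self hζ _
      have hmult : ∀ w, mult hζ (up (L := F) D') w = Fintype.card {i // e i = w + j} := fun w => by
        have h := mult_smul hζ D (-j) (w + j)
        rw [add_neg_cancel_right, ← hD'] at h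
        rw [hid, h, hD, mult_diagonal]
      obtain ⟨E, X, hEX⟩ := SubfieldType.exists_subfield_conj (L := F) hζ (Subsingleton.elim _ _) hrF F₀ (y := D')
        (by rw [hD', smul_pow, rootChar_pow_self, hDr, one_smul]) fun w => by
          rw [hF₀, ht', hmult, hmult, FormTests.card_fibre_of_pairing (σ := hσ.toPerm σ) hσe (w + j),
            show -1 * w + j = t' - (w + j) by linear_combination hj]
      let DG : GL (Fin r) F := (IsUnit.of_pow_eq_one hDr hr.ne_zero).unit
      obtain ⟨s, hs, hsH⟩ := FormTests.exists_sl_of_diag (Cfsg.Geo.subfieldSubgroup F₀ 1)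
        (Matrix.SpecialLinearGroup.toGL x) g E DG (fun i => rootChar hζ (e i)) (IsUnit.unit_spec _)
        (Units.ext (by rw [Units.val_mul, Units.val_mul, IsUnit.unit_spec]; exact hge)) (by
          rw [CfsgLib.Subfield99.mem_subfieldSubgroup_one]
          refine ⟨rootChar hζ (-j), fun h => ?_, fun a b => ?_⟩
          · have := rootChar_pow_self hζ (-j)
            rw [h, zero_pow hr.ne_zero] at this
            exact zero_ne_one this
          · have e1 : rootChar hζ (-j) • ((E * DG * E⁻¹ : GL (Fin r) F) : Matrix (Fin r) (Fin r) F) =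
                X.map F₀.subtype := by
              rw [Units.val_mul, Units.val_mul, IsUnit.unit_spec, ← smul_mul_assoc, ← mul_smul_comm, ← hD', hEX,
                mul_assoc, Units.mul_inv, mul_one]
            have e2 := congrFun (congrFun e1 a) b
            rw [Matrix.smul_apply, smul_eq_mul] at e2
            rw [e2]
            exact (X a b).2)
      exact inH_of_gl x hs hsH

end Cfsg.Agent.S5965
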