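import Cfsg.Statements.S5966
import Cfsg.Agent.Lib.Maximal99.Subfield
import Cfsg.Agent.S5964
import Cfsg.Agent.Helper57NilpJordan
-- import your own Cfsg.Agent.* helpers here

set_option autoImplicit false
open scoped MatrixGroups
open Cfsg

namespace Cfsg.Agent.S5966

open Module CfsgLib.Subfield99
open scoped Matrix

/-- In characteristic 3, `(1 + N) ^ 3 = 1` when `N ^ 2 = 0`. -/
lemma cube_one_add {R : Type*} [Ring R] (N : R) (h3 : N + N + N = 0) (hN : N * N = 0) : (1 + N) ^ 3 = 1 := by
  have h : (1 + N) ^ 2 = 1 + N + N := by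
    rw [pow_two, mul_add, add_mul, add_mul, one_mul, one_mul, mul_one, hN, add_zero]
  rw [pow_succ, h, mul_add, mul_one, add_mul, add_mul, one_mul, hN, add_zero, add_zero,
    show 1 + N + N + N = 1 + (N + N + N) by abel, h3, add_zero]

lemma exists_cube {K : Type*} [Field K] [Finite K] (h3 : (3 : K) = 0) (z : K) : ∃ c : K, c ^ 3 = z := by
  refine (Finite.injective_iff_surjective.1 fun a b hab => ?_ : Function.Surjective fun a : K => a ^ 3) z
  have : (a - b) ^ 3 = 0 := by
    linear_combination hab + (-(a ^ 2) * b + a * b ^ 2) * h3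
  exact sub_eq_zero.1 (eq_zero_of_pow_eq_zero this)

/-- If a conjugate of the standard nilpotent with two-element chains only has entries in `F₀`, then the determinant of
the conjugating matrix is in `F₀` up to squares. -/
lemma det_mem {F : Type*} [Field F] (F₀ : Subfield F) {m : ℕ} (A : Matrix (Fin m ⊕ Fin m) (Fin m ⊕ Fin m) F)
    (hA : A.det ≠ 0) (h : ∀ i j, (A * Matrix.fromBlocks (0 : Matrix (Fin m) (Fin m) F) 1 0 0 * A⁻¹ :
      Matrix (Fin m ⊕ Fin m) (Fin m ⊕ Fin m) F) i j ∈ F₀) :
    ∃ y : F, y ≠ 0 ∧ A.det * (y * y) ∈ F₀ := by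
  classical
  have hu : IsUnit A.det := isUnit_iff_ne_zero.2 hA
  set N' := A * Matrix.fromBlocks (0 : Matrix (Fin m) (Fin m) F) 1 0 0 * A⁻¹ with hN'
  let B : (Fin m ⊕ Fin m) → (Fin m → F) := fun j i => A⁻¹ (.inr i) j
  have hspan : ⊤ ≤ Submodule.span F (Set.range B) := by
    intro w _
    have : w = ∑ j, (A *ᵥ Sum.elim (0 : Fin m → F) w) j • B j := by
      funext i
      have e := congrFun (show A⁻¹ *ᵥ (A *ᵥ Sum.elim (0 : Fin m → F) w) = Sum.elim (0 : Fin m → F) w by
        rw [Matrix.mulVec_mulVec, Matrix.nonsing_inv_mul A hu, Matrix.one_mulVec]) (.inr i)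
      simp only [Sum.elim_inr, Matrix.mulVec, dotProduct] at e
      rw [Finset.sum_apply, ← e]
      refine Finset.sum_congr rfl fun j _ => ?_
      simp [B, Matrix.mulVec, dotProduct, mul_comm]
    rw [this]
    exact Submodule.sum_mem _ fun j _ => Submodule.smul_mem _ _ (Submodule.subset_span ⟨j, rfl⟩)
  obtain ⟨s, hs, hsspan, hli⟩ := exists_linearIndependent F (Set.range B)
  have : Fintype s := ((Set.finite_range B).subset hs).fintype
  let bs : Basis s F (Fin m → F) := Basis.mk hli (by rw [Subtype.range_coe, hsspan]; exact hspan)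
  let bm := bs.reindex (Fintype.equivFinOfCardEq (by rw [← Module.finrank_eq_card_basis bs, Module.finrank_fin_fun]))
  have hbm : ∀ j, ∃ i, B i = bm j := fun j => hs (by simp [bm, bs])
  choose σ hσ using hbm
  let V : Matrix (Fin m ⊕ Fin m) (Fin m) F := Matrix.of fun i j => if i = σ j then 1 else 0
  let W := A⁻¹ * V
  let X : Matrix (Fin m) (Fin m) F := Matrix.of fun i j => W (.inr i) j
  let Y : Matrix (Fin m) (Fin m) F := Matrix.of fun i j => W (.inl i) j
  have hW : W = Matrix.fromRows Y X := by ext (i | i) j <;> rfl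
  have hX : X.det ≠ 0 := by
    have : X = (Pi.basisFun F (Fin m)).toMatrix bm := by
      ext i j
      rw [Basis.toMatrix_apply, Pi.basisFun_repr, ← hσ]
      show (A⁻¹ * V) (.inr i) j = A⁻¹ (.inr i) (σ j)
      simp [V, Matrix.mul_apply]
    rw [this]
    have : Invertible ((Pi.basisFun F (Fin m)).toMatrix bm) := (Pi.basisFun F (Fin m)).invertibleToMatrix bm
    exact (Matrix.isUnit_det_of_invertible _).ne_zero
  set Q := Matrix.fromCols (N' * V) V with hQ
  have hAQ : Q = A * Matrix.fromBlocks X Y 0 X := by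
    have e1 : N' * V = A * (Matrix.fromRows X (0 : Matrix (Fin m) (Fin m) F) : Matrix (Fin m ⊕ Fin m) (Fin m) F) := by
      rw [hN', Matrix.mul_assoc, Matrix.mul_assoc, show A⁻¹ * V = W from rfl, hW, Matrix.fromBlocks_mul_fromRows]
      simp
    have e2 : V = A * Matrix.fromRows Y X := by
      rw [← hW, show W = A⁻¹ * V from rfl, ← Matrix.mul_assoc, Matrix.mul_nonsing_inv A hu, Matrix.one_mul]
    rw [hQ, e1]
    conv_lhs => rw [e2]
    ext i (j | j)
    · rw [Matrix.fromCols_apply_inl, Matrix.mul_apply, Matrix.mul_apply]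
      refine Finset.sum_congr rfl fun l _ => ?_
      rcases l with l | l <;> rfl
    · rw [Matrix.fromCols_apply_inr, Matrix.mul_apply, Matrix.mul_apply]
      refine Finset.sum_congr rfl fun l _ => ?_
      rcases l with l | l <;> rfl
  refine ⟨X.det, hX, ?_⟩
  have hdetQ : Q.det = A.det * (X.det * X.det) := by
    rw [hAQ, Matrix.det_mul, Matrix.det_fromBlocks_zero₂₁]
  have hQmem : ∀ i j, Q i j ∈ F₀ := by
    have hV : ∀ i j, V i j ∈ F₀ := fun i j => by
      simp only [V, Matrix.of_apply]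
      split_ifs
      exacts [one_mem F₀, zero_mem F₀]
    rintro i (j | j)
    · show (N' * V) i j ∈ F₀
      rw [Matrix.mul_apply]
      exact sum_mem fun l _ => mul_mem (h i l) (hV l j)
    · exact hV i j
  let Q₀ : Matrix (Fin m ⊕ Fin m) (Fin m ⊕ Fin m) F₀ := fun i j => ⟨Q i j, hQmem i j⟩
  rw [← hdetQ, show Q.det = F₀.subtype Q₀.det by rw [RingHom.map_det]; rfl]
  exact Q₀.det.2


/-- Elements of order 3 of PSL_n(q) in characteristic 3 and subfield subgroups. Here `T = PSL_n(F)` for a field `F` with `q` elements, `q` a power of 3 (`n ≥ 2`, `(n, q) ≠ (2, 2), (2, 3)`), `F₀` is the subfield with `q₀` elements where `q = q₀^k` for a prime `k`, and `H` is the subgroup of matrices of determinant 1 lying in the subfield group of `F₀` (invertible matrices over `F₀` times scalars) — a maximal subgroup of type GL_n(q₀) (the case `n = 2`, `q₀ = 2` is excluded); Ω is the set of `T`-conjugates of `H` (cosets of `H`), so an element of `T` of prime order `r` (a matrix `x` of determinant 1 with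 `x^r` scalar, `x` not scalar) fixes a point of Ω when some conjugate of `x` by a matrix of determinant 1 lies in `H`. Suppose 3 divides the index of `H`. Then every element of `T` of order 3 is conjugate in `T` into `H` if and only if `n` is odd, or `n` is even and `k > 2`. -/
theorem result {F : Type*} [Field F] [Fintype F] [CharP F 3] {q : ℕ} (hq : Fintype.card F = q)
    (n : ℕ) (hn : 2 ≤ n) (hT : (n, q) ≠ (2, 3))
    (F₀ : Subfield F) (k q₀ : ℕ) (hk : k.Prime) (hF₀ : Nat.card ↥F₀ = q₀) (hqk : q = q₀ ^ k) (hC5 : ¬ (n = 2 ∧ q₀ = 2)) (hΩ : 3 ∣ ((Cfsg.Geo.subfieldSubgroup F₀ 1).comap (Matrix.SpecialLinearGroup.toGL : Matrix.SpecialLinearGroup (Fin n) F →* GL (Fin n) F)).index) :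
    (∀ x : Matrix.SpecialLinearGroup (Fin n) F,
      (∃ z : F, ((x ^ 3 : Matrix.SpecialLinearGroup (Fin n) F) : Matrix (Fin n) (Fin n) F) = z • (1 : Matrix (Fin n) (Fin n) F)) →
      (∀ z : F, (x : Matrix (Fin n) (Fin n) F) ≠ z • (1 : Matrix (Fin n) (Fin n) F)) →
      ∃ P : Matrix.SpecialLinearGroup (Fin n) F, P⁻¹ * x * P ∈ ((Cfsg.Geo.subfieldSubgroup F₀ 1).comap (Matrix.SpecialLinearGroup.toGL : Matrix.SpecialLinearGroup (Fin n) F →* GL (Fin n) F))) ↔
    (Odd n ∨ (Even n ∧ 2 < k)) := by
  classical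
  have h3 : (3 : F) = 0 := by exact_mod_cast CharP.cast_eq_zero F 3
  have hodd : Odd q := by
    obtain ⟨e, -, he⟩ := FiniteField.card F 3
    rw [← hq, he]
    exact (by decide : Odd 3).pow
  have hchar : ringChar F ≠ 2 := by rw [ringChar.eq F 3]; decide
  constructor
  · intro hall
    by_contra hcon
    push Not at hcon
    obtain ⟨hne, hk'⟩ := hcon
    have hev : Even n := Nat.not_odd_iff_even.1 hne
    obtain rfl : k = 2 := le_antisymm (hk' hev) hk.two_le
    obtain ⟨m, rfl⟩ := hev
    obtain ⟨δ, hδ⟩ := FiniteField.exists_nonsquare hchar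
    have hδ0 : δ ≠ 0 := by rintro rfl; exact hδ IsSquare.zero
    let φ := Matrix.reindexAlgEquiv F F (finSumFinEquiv (m := m) (n := m))
    let D : Matrix (Fin m ⊕ Fin m) (Fin m ⊕ Fin m) F := Matrix.diagonal (Function.update 1 (.inl ⟨0, by omega⟩) δ)
    have hD : D.det = δ := by
      simp [D, Matrix.det_diagonal, Finset.prod_update_of_mem]
    have hDu : IsUnit D.det := by rw [hD]; exact isUnit_iff_ne_zero.2 hδ0
    set N0 : Matrix (Fin m ⊕ Fin m) (Fin m ⊕ Fin m) F := Matrix.fromBlocks 0 1 0 0 with hN0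
    set U := D * (1 + N0) * D⁻¹ with hU
    have hN00 : N0 * N0 = 0 := by simp [hN0, Matrix.fromBlocks_multiply, Matrix.fromBlocks_zero]
    have hU3 : U ^ 3 = 1 := by
      have e1 : (1 + N0) ^ 3 = 1 :=
        cube_one_add N0 (by rw [show N0 + N0 + N0 = (3 : F) • N0 by module, h3, zero_smul]) hN00
      have e2 : ∀ a b, D * a * D⁻¹ * (D * b * D⁻¹) = D * (a * b) * D⁻¹ := fun a b => by
        rw [show D * a * D⁻¹ * (D * b * D⁻¹) = D * (a * (D⁻¹ * D) * b) * D⁻¹ by simp only [mul_assoc],
          Matrix.nonsing_inv_mul D hDu, mul_one]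
      rw [hU, pow_three, e2, e2, ← pow_three, e1, mul_one, Matrix.mul_nonsing_inv D hDu]
    have hUd : (φ U).det = 1 := by
      have e1 : (1 + N0).det = 1 := by
        rw [hN0, ← Matrix.fromBlocks_one, Matrix.fromBlocks_add]
        simp
      rw [Matrix.det_reindexAlgEquiv, hU, Matrix.det_mul, Matrix.det_mul, e1, mul_one, ← Matrix.det_mul,
        Matrix.mul_nonsing_inv D hDu, Matrix.det_one]
    obtain ⟨x₀, hx₀⟩ : ∃ x₀ : Matrix.SpecialLinearGroup (Fin (m + m)) F, (x₀ : Matrix (Fin (m + m)) (Fin (m + m)) F) = φ U :=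
      ⟨⟨φ U, hUd⟩, rfl⟩
    obtain ⟨P, hP⟩ := hall x₀ ⟨1, by rw [Matrix.SpecialLinearGroup.coe_pow, hx₀, ← map_pow, hU3, map_one, one_smul]⟩
      (fun w hw => by
        rw [hx₀, ← map_one φ, ← map_smul, EmbeddingLike.apply_eq_iff_eq, hU] at hw
        have e : 1 + N0 = w • 1 := by
          have := congrArg (fun M => D⁻¹ * M * D) hw
          simpa [← mul_assoc, Matrix.nonsing_inv_mul D hDu, mul_assoc (1 + N0)] using this
        have := congrFun (congrFun e (.inl ⟨0, by omega⟩)) (.inr ⟨0, by omega⟩)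
        simp [hN0] at this)
    obtain ⟨c, hc, hmem⟩ := mem_comap_iff.1 hP
    set A : Matrix (Fin m ⊕ Fin m) (Fin m ⊕ Fin m) F :=
      φ.symm ((P⁻¹ : Matrix.SpecialLinearGroup (Fin (m + m)) F) : Matrix (Fin (m + m)) (Fin (m + m)) F) * D with hAdef
    set Pm := φ.symm ((P : Matrix.SpecialLinearGroup (Fin (m + m)) F) : Matrix (Fin (m + m)) (Fin (m + m)) F) with hPm
    set Pi' := φ.symm ((P⁻¹ : Matrix.SpecialLinearGroup (Fin (m + m)) F) : Matrix (Fin (m + m)) (Fin (m + m)) F) with hPi
    have hPP : Pi' * Pm = 1 := by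
      rw [hPi, hPm, ← map_mul, ← Matrix.SpecialLinearGroup.coe_mul, inv_mul_cancel, Matrix.SpecialLinearGroup.coe_one,
        map_one]
    have hdetA : A.det = δ := by
      rw [hAdef, Matrix.det_mul, hD, hPi]
      rw [show φ.symm = Matrix.reindexAlgEquiv F F (finSumFinEquiv (m := m) (n := m)).symm from rfl,
        Matrix.det_reindexAlgEquiv, (P⁻¹).2, one_mul]
    have hAu : IsUnit A.det := by rw [hdetA]; exact isUnit_iff_ne_zero.2 hδ0
    have hAinv : A⁻¹ = D⁻¹ * Pm := by
      refine Matrix.inv_eq_left_inv ?_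
      rw [hAdef, mul_assoc, ← mul_assoc Pm, mul_eq_one_comm.1 hPP, one_mul, Matrix.nonsing_inv_mul D hDu]
    set M := A * (1 + N0) * A⁻¹ with hM
    have hM' : ∀ i j, c * M i j ∈ F₀ := by
      intro i j
      have e := hmem (finSumFinEquiv i) (finSumFinEquiv j)
      have hcoe : M = φ.symm ((P⁻¹ * x₀ * P : Matrix.SpecialLinearGroup (Fin (m + m)) F) : Matrix (Fin (m + m)) (Fin (m + m)) F) := by
        rw [Matrix.SpecialLinearGroup.coe_mul, Matrix.SpecialLinearGroup.coe_mul, hx₀, map_mul, map_mul,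
          AlgEquiv.symm_apply_apply, ← hPi, ← hPm, hM, hAinv, hU, hAdef]
        simp only [mul_assoc]
      rw [hcoe]
      exact e
    have hM3 : M ^ 3 = 1 := by
      have e2 : ∀ a b, A * a * A⁻¹ * (A * b * A⁻¹) = A * (a * b) * A⁻¹ := fun a b => by
        rw [show A * a * A⁻¹ * (A * b * A⁻¹) = A * (a * (A⁻¹ * A) * b) * A⁻¹ by simp only [mul_assoc],
          Matrix.nonsing_inv_mul A hAu, mul_one]
      have e1 : (1 + N0) * ((1 + N0) * (1 + N0)) = 1 := by
        rw [← pow_three]
        exact cube_one_add N0 (by rw [show N0 + N0 + N0 = (3 : F) • N0 by module, h3, zero_smul]) hN00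
      rw [hM, pow_three, e2, e2, e1, mul_one, Matrix.mul_nonsing_inv A hAu]
    have hc3 : c ^ 3 ∈ F₀ := by
      let M₀ : Matrix (Fin m ⊕ Fin m) (Fin m ⊕ Fin m) F₀ := fun i j => ⟨_, hM' i j⟩
      have e : F₀.subtype.mapMatrix (M₀ ^ 3) = c ^ 3 • (1 : Matrix (Fin m ⊕ Fin m) (Fin m ⊕ Fin m) F) := by
        rw [map_pow, show F₀.subtype.mapMatrix M₀ = c • M from rfl, smul_pow, hM3]
      have e' := congrFun (congrFun e (.inl ⟨0, by omega⟩)) (.inl ⟨0, by omega⟩)
      simp only [Matrix.smul_apply, Matrix.one_apply_eq, smul_eq_mul, mul_one] at e'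
      rw [← e']
      exact ((M₀ ^ 3) _ _).2
    obtain ⟨e, he⟩ := exists_cube (K := F₀) (Subtype.ext h3) ⟨c ^ 3, hc3⟩
    have hce : c = e := by
      have he' : ((e : F)) ^ 3 = c ^ 3 := congrArg Subtype.val he
      have : ((e : F) - c) ^ 3 = 0 := by linear_combination he' + (-((e : F) ^ 2) * c + (e : F) * c ^ 2) * h3
      exact (sub_eq_zero.1 (eq_zero_of_pow_eq_zero this)).symm
    have hN' : ∀ i j, (A * N0 * A⁻¹) i j ∈ F₀ := by
      intro i j
      have e1 : M = 1 + A * N0 * A⁻¹ := by
        rw [hM, mul_add, add_mul, mul_one, Matrix.mul_nonsing_inv A hAu]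
      have e2 : (A * N0 * A⁻¹) i j = c⁻¹ * (c * M i j) - (1 : Matrix (Fin m ⊕ Fin m) (Fin m ⊕ Fin m) F) i j := by
        rw [inv_mul_cancel_left₀ hc, e1, Matrix.add_apply, add_sub_cancel_left]
      rw [e2]
      refine sub_mem (mul_mem (inv_mem (hce ▸ e.2)) (hM' i j)) ?_
      rw [Matrix.one_apply]
      split_ifs
      exacts [one_mem F₀, zero_mem F₀]
    obtain ⟨y, hy, hmemy⟩ := det_mem F₀ A (by rw [hdetA]; exact hδ0) hN'
    rw [hdetA] at hmemy
    obtain ⟨w, hw⟩ := Cfsg.Agent.S5964.isSquare_of_mem hq hodd F₀ hF₀ hqk hmemy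
    exact hδ ⟨w / y, by field_simp; linear_combination hw⟩
  · intro hR x hx1 hx2
    obtain ⟨z, hz⟩ := hx1
    obtain ⟨c₀, rfl⟩ := exists_cube h3 z
    have hc0 : c₀ ≠ 0 := by
      rintro rfl
      have h := congrArg Matrix.det hz
      have : Nonempty (Fin n) := ⟨⟨0, by omega⟩⟩
      rw [zero_pow (by norm_num), zero_smul, Matrix.det_zero, (x ^ 3).2] at h
      exact one_ne_zero h
    set T : Module.End F (Fin n → F) := Matrix.toLin' (x : Matrix (Fin n) (Fin n) F) with hTdef
    have hT : ∀ v, T (T (T v)) = c₀ ^ 3 • v := fun v => by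
      rw [hTdef, Matrix.toLin'_apply, Matrix.toLin'_apply, Matrix.toLin'_apply, Matrix.mulVec_mulVec,
        Matrix.mulVec_mulVec, ← pow_three', ← Matrix.SpecialLinearGroup.coe_pow, hz, Matrix.smul_mulVec,
        Matrix.one_mulVec]
    set N : Module.End F (Fin n → F) := c₀⁻¹ • T - 1 with hN
    have hNv : ∀ v, N v = c₀⁻¹ • T v - v := fun v => by simp [hN]
    have hTv : ∀ v, T v = c₀ • (N v + v) := fun v => by
      rw [hNv, sub_add_cancel, smul_inv_smul₀ hc0]
    have hN3 : N ^ 3 = 0 := LinearMap.ext fun v => by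
      rw [pow_three, Module.End.mul_apply, Module.End.mul_apply]
      simp only [hNv, map_sub, map_smul, hT, smul_sub, smul_smul, LinearMap.zero_apply]
      rw [show c₀⁻¹ * (c₀⁻¹ * c₀⁻¹ * c₀ ^ 3) = 1 by field_simp, one_smul]
      have h30 : ∀ w : Fin n → F, w + w + w = 0 := fun w => by
        rw [show w + w + w = (3 : F) • w by module, h3, zero_smul]
      linear_combination (norm := module) (-1 : F) • h30 ((c₀⁻¹ * c₀⁻¹) • T (T v)) + h30 (c₀⁻¹ • T v)
    obtain ⟨C⟩ := Cfsg.Agent.Jordan57.exists_chains (f := N) ⟨3, hN3⟩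
    have hr : 0 < C.r := by
      by_contra hr
      have := Module.finrank_eq_card_basis C.b
      simp only [Module.finrank_fin_fun, Fintype.card_sigma, Fintype.card_fin] at this
      have hE : IsEmpty (Fin C.r) := ⟨fun i => by have := i.2; omega⟩
      simp at this
      omega
    have hd3 : ∀ k, C.d k ≤ 3 := by
      intro k
      by_contra hlt
      have := C.b.ne_zero ⟨k, ⟨3, by omega⟩⟩
      rw [C.b_apply] at this
      exact this (by simp [hN3])
    have hcardb : Fintype.card ((k : Fin C.r) × Fin (C.d k)) = Fintype.card (Fin n) := by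
      rw [← Module.finrank_eq_card_basis C.b, Module.finrank_fin_fun, Fintype.card_fin]
    let σ := Fintype.equivOfCardEq hcardb
    set d₀ := LinearMap.det (C.b.reindex σ).equivFun.symm.toLinearMap with hd0
    have hd0ne : d₀ ≠ 0 := IsUnit.ne_zero (LinearEquiv.isUnit_det' _)
    -- scalings of one chain
    obtain ⟨k₀, f, hfprod, hf0, hfF⟩ : ∃ (k₀ : Fin C.r) (f : Fin (C.d k₀) → F), ∏ i, f i = d₀⁻¹ ∧
        (∀ i, f i ≠ 0) ∧ ∀ i j, f i * (f j)⁻¹ ∈ F₀ := by
      by_cases hall2 : ∀ k, C.d k = 2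
      · have hev : Even n := ⟨C.r, by
          have := hcardb
          simp [hall2] at this
          omega⟩
        have hk2 : 2 < k := by
          rcases hR with h | h
          · exact absurd hev (Nat.not_even_iff_odd.2 h)
          · exact h.2
        have hcard0 : Fintype.card F₀ = q₀ := by rw [← hF₀, Nat.card_eq_fintype_card]
        obtain ⟨u, hu⟩ := FiniteField.exists_nonsquare (F := F₀) (by
          rw [ringChar.eq F₀ 3]; decide)
        have hu0 : u ≠ 0 := by rintro rfl; exact hu IsSquare.zero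
        have huF : ¬ IsSquare (u : F) := by
          intro hsq
          rw [FiniteField.isSquare_iff hchar (fun h => hu0 (Subtype.ext h)), hq] at hsq
          have hq0 : Odd q₀ := by rw [hqk, Nat.odd_pow_iff hk.ne_zero] at hodd; exact hodd
          obtain ⟨o, ho, ho'⟩ := exists_odd_factor (b := 1) (by have := hq0.pos; omega) hq0 odd_one
            (hk.odd_of_ne_two (by omega))
          rw [one_pow, ← hqk] at ho'
          have e : q / 2 = q₀ / 2 * o := by
            obtain ⟨a, rfl⟩ := hq0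
            obtain ⟨b, hb⟩ := hodd
            rw [Nat.add_sub_cancel, mul_assoc] at ho'
            rw [show (2 * a + 1) / 2 = a by omega]
            omega
          have e2 : u ^ (q₀ / 2) = -1 := by
            have := FiniteField.pow_dichotomy (F := F₀) (by rw [ringChar.eq F₀ 3]; decide) hu0
            rw [hcard0] at this
            refine this.resolve_left fun h => hu ?_
            rw [FiniteField.isSquare_iff (by rw [ringChar.eq F₀ 3]; decide) hu0, hcard0]
            exact h
          rw [e, pow_mul, show (u : F) ^ (q₀ / 2) = -1 by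
            have := congrArg Subtype.val e2
            simpa using this, ho.neg_one_pow] at hsq
          exact Ring.neg_one_ne_one_of_char_ne_two hchar hsq
        have hk0 : C.d ⟨0, hr⟩ = 2 := hall2 _
        by_cases hsq : IsSquare d₀⁻¹
        · obtain ⟨α, hα⟩ := hsq
          have hα0 : α ≠ 0 := by rintro rfl; simp [hd0ne] at hα
          refine ⟨⟨0, hr⟩, fun _ => α, ?_, fun _ => hα0, fun _ _ => ?_⟩
          · rw [Finset.prod_const, Finset.card_univ, Fintype.card_fin, hk0, hα, pow_two]
          · rw [mul_inv_cancel₀ hα0]; exact one_mem F₀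
        · obtain ⟨α, hα⟩ : IsSquare (d₀⁻¹ * (u : F)⁻¹) := by
            have hu0' : (u : F)⁻¹ ≠ 0 := inv_ne_zero fun h => hu0 (Subtype.ext h)
            rw [← quadraticChar_one_iff_isSquare (mul_ne_zero (inv_ne_zero hd0ne) hu0'), map_mul,
              quadraticChar_neg_one_iff_not_isSquare.2 hsq,
              quadraticChar_neg_one_iff_not_isSquare.2 (fun h => huF (by simpa using h.inv))]
            norm_num
          have hu0' : (u : F) ≠ 0 := fun h => hu0 (Subtype.ext h)
          have hα0 : α ≠ 0 := by rintro rfl; simp [hd0ne, hu0'] at hα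
          refine ⟨⟨0, hr⟩, fun i => if (i : ℕ) = 0 then (u : F) * α else α, ?_, fun i => ?_, fun i j => ?_⟩
          · rw [Fin.prod_congr' (fun i : Fin (C.d ⟨0, hr⟩) => if (i : ℕ) = 0 then (u : F) * α else α) hk0.symm |>.symm,
              Fin.prod_univ_two]
            simp only [Fin.val_cast, Fin.val_zero, Fin.val_one, if_true, one_ne_zero, if_false]
            rw [mul_assoc, ← hα]
            field_simp
          · simp only
            split_ifs
            · exact mul_ne_zero hu0' hα0
            · exact hα0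
          · simp only
            split_ifs
            · rw [mul_inv_cancel₀ (mul_ne_zero hu0' hα0)]; exact one_mem F₀
            · rw [mul_inv_cancel_right₀ hα0]; exact u.2
            · rw [mul_inv, mul_comm (u : F)⁻¹, ← mul_assoc, mul_inv_cancel₀ hα0, one_mul]
              exact inv_mem u.2
            · rw [mul_inv_cancel₀ hα0]; exact one_mem F₀
      · push Not at hall2
        obtain ⟨k₀, hk₀⟩ := hall2
        obtain ⟨α, hα⟩ : ∃ α : F, α ^ C.d k₀ = d₀⁻¹ := by
          have := C.pos k₀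
          have := hd3 k₀
          rcases (by omega : C.d k₀ = 1 ∨ C.d k₀ = 3) with h | h
          · exact ⟨d₀⁻¹, by rw [h, pow_one]⟩
          · rw [h]; exact exists_cube h3 _
        have hα0 : α ≠ 0 := by
          rintro rfl
          rw [zero_pow (C.pos k₀).ne'] at hα
          exact inv_ne_zero hd0ne hα.symm
        exact ⟨k₀, fun _ => α, by rw [Finset.prod_const, Finset.card_univ, Fintype.card_fin, hα], fun _ => hα0,
          fun _ _ => by rw [mul_inv_cancel₀ hα0]; exact one_mem F₀⟩
    let w : ((k : Fin C.r) × Fin (C.d k)) → F := fun s => if h : s.1 = k₀ then f (h ▸ s.2) else 1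
    have hw : ∀ s, IsUnit (w s) := by
      intro s
      simp only [w]
      split_ifs
      · exact isUnit_iff_ne_zero.2 (hf0 _)
      · exact isUnit_one
    let b' := C.b.isUnitSMul hw
    let g := (b'.reindex σ).equivFun.symm
    have hdetg : LinearMap.det g.toLinearMap = 1 := by
      have e : g.toLinearMap = ((C.b.reindex σ).equivFun.symm.toLinearMap).comp
          (Matrix.toLin' (Matrix.diagonal fun i => w (σ.symm i))) := by
        refine (Pi.basisFun F (Fin n)).ext fun i => ?_
        simp [g, b', Basis.equivFun_symm_apply, Basis.isUnitSMul_apply, Matrix.mulVec_single_one, Matrix.col_apply,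
          Finset.sum_eq_single i, Pi.single_apply, Matrix.diagonal_apply]
      rw [e, LinearMap.det_comp, ← hd0, LinearMap.det_toLin', Matrix.det_diagonal, Equiv.prod_comp σ.symm w,
        Fintype.prod_sigma, Finset.prod_eq_single k₀ (fun b _ hb => Finset.prod_eq_one fun i _ => dif_neg hb)
          (by simp)]
      simp only [w, dite_true]
      rw [hfprod, mul_inv_cancel₀ hd0ne]
    obtain ⟨P, hP⟩ : ∃ P : Matrix.SpecialLinearGroup (Fin n) F, ∀ v, (P : Matrix (Fin n) (Fin n) F) *ᵥ v = g v :=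
      ⟨⟨LinearMap.toMatrix' g.toLinearMap, by rw [LinearMap.det_toMatrix', hdetg]⟩, fun v => by
        show LinearMap.toMatrix' g.toLinearMap *ᵥ v = _
        rw [LinearMap.toMatrix'_mulVec]
        rfl⟩
    refine ⟨P, mem_comap_iff.2 ⟨c₀⁻¹, inv_ne_zero hc0, fun i j => ?_⟩⟩
    have hP' : ∀ v, ((P⁻¹ : Matrix.SpecialLinearGroup (Fin n) F) : Matrix (Fin n) (Fin n) F) *ᵥ v = g.symm v := fun v => by
      conv_lhs => rw [← g.apply_symm_apply v]
      rw [← hP, Matrix.mulVec_mulVec, ← Matrix.SpecialLinearGroup.coe_mul, inv_mul_cancel,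
        Matrix.SpecialLinearGroup.coe_one, Matrix.one_mulVec]
    have hent : ((P⁻¹ * x * P : Matrix.SpecialLinearGroup (Fin n) F) : Matrix (Fin n) (Fin n) F) i j =
        b'.repr (T (b' (σ.symm j))) (σ.symm i) := by
      have e := congrFun (show ((P⁻¹ * x * P : Matrix.SpecialLinearGroup (Fin n) F) : Matrix (Fin n) (Fin n) F) *ᵥ
          Pi.single j 1 = g.symm (T (g (Pi.single j 1))) by
        rw [Matrix.SpecialLinearGroup.coe_mul, Matrix.SpecialLinearGroup.coe_mul, ← Matrix.mulVec_mulVec,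
          ← Matrix.mulVec_mulVec, hP, hP', hTdef, Matrix.toLin'_apply]) i
      rw [Matrix.mulVec_single_one, Matrix.col_apply] at e
      rw [e]
      simp [g, Finset.sum_eq_single j, Basis.equivFun_symm_apply, Pi.single_apply, Basis.repr_reindex_apply]
    rw [hent]
    obtain ⟨k, l⟩ := σ.symm j
    rw [hTv, map_smul, Finsupp.smul_apply, smul_eq_mul, inv_mul_cancel_left₀ hc0, map_add, Finsupp.add_apply,
      Basis.repr_self, Finsupp.single_apply]
    refine add_mem ?_ (by split_ifs <;> first | exact one_mem F₀ | exact zero_mem F₀)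
    rw [show b' ⟨k, l⟩ = w ⟨k, l⟩ • C.b ⟨k, l⟩ from Basis.isUnitSMul_apply hw _, map_smul, C.b_apply]
    show b'.repr (w ⟨k, l⟩ • N ((N ^ (l : ℕ)) (C.gen k))) (σ.symm i) ∈ F₀
    rw [← Module.End.mul_apply, ← pow_succ']
    by_cases hl : (l : ℕ) + 1 < C.d k
    · have e : (N ^ ((l : ℕ) + 1)) (C.gen k) = (w ⟨k, ⟨_, hl⟩⟩)⁻¹ • b' ⟨k, ⟨_, hl⟩⟩ := by
        rw [show b' ⟨k, ⟨_, hl⟩⟩ = w ⟨k, ⟨_, hl⟩⟩ • C.b ⟨k, ⟨_, hl⟩⟩ from Basis.isUnitSMul_apply hw _,
          inv_smul_smul₀ (hw _).ne_zero, C.b_apply]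
      rw [e, smul_smul, map_smul, Basis.repr_self, Finsupp.smul_apply, Finsupp.single_apply, smul_eq_mul]
      refine mul_mem ?_ (by split_ifs <;> first | exact one_mem F₀ | exact zero_mem F₀)
      by_cases hk : k = k₀
      · subst hk
        simp only [w, dite_true]
        exact hfF _ _
      · simp [w, hk]
    · rw [show (l : ℕ) + 1 = C.d k by omega, C.gen_zero, smul_zero, map_zero, Finsupp.zero_apply]
      exact zero_mem F₀

end Cfsg.Agent.S5966
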