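import Cfsg.Statements.S5967
import Cfsg.Agent.S0752
import Cfsg.Agent.Lib.GeomClasses.Symp
import Cfsg.Agent.Lib.Maximal99.ConjTools

set_option autoImplicit false
open scoped MatrixGroups Matrix
open Cfsg

namespace Cfsg.Agent.S5967

open Module

/-- The standard alternating Gram matrix. -/
def stdGram {F : Type*} [Field F] {κ : Type*} [DecidableEq κ] : κ ⊕ κ → κ ⊕ κ → F
  | .inl i, .inr j => if i = j then 1 else 0
  | .inr i, .inl j => if i = j then -1 else 0
  | _, _ => 0

/-- A map permuting, up to scalars, a basis in hyperbolic pairs is conjugate to a similitude. -/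
theorem exists_conj_similitude {F : Type*} [Field F] {n : ℕ} {f : (Fin n → F) → (Fin n → F) → F}
    (hf : Cfsg.Geo.IsSymplecticForm f) (T : (Fin n → F) →ₗ[F] (Fin n → F))
    {κ : Type} [Fintype κ] [DecidableEq κ] (c : Basis (κ ⊕ κ) F (Fin n → F)) (k : κ ⊕ κ → F) (τ : κ ⊕ κ → κ ⊕ κ)
    (hTc : ∀ a, T (c a) = k a • c (τ a)) (μ : F)
    (hμ : ∀ a b, k a * k b * stdGram (τ a) (τ b) = μ * stdGram a b) :
    ∃ g : (Fin n → F) ≃ₗ[F] (Fin n → F), ∀ u v, f (g.symm (T (g u))) (g.symm (T (g v))) = μ * f u v := by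
  classical
  let B := CfsgLib.GeomClasses.Symp.bil hf
  have hB : ∀ u v, B u v = f u v := fun u v => rfl
  obtain ⟨m, r, b, h1, h2, h3, h4⟩ := Cfsg.Agent.S0752.symp_decomp (Module.finrank F (Fin n → F)) B
    (fun v => hf.alternating v) rfl
  have hr : r = 0 := by
    by_contra h
    obtain ⟨⟨y, hy⟩, -⟩ := hf.nondegenerate (b (.inr ⟨0, by omega⟩)) (b.ne_zero _)
    refine hy ?_
    rw [hf.skew, ← hB, h4, neg_zero]
  subst hr
  have hcard : Fintype.card κ = m := by
    have e1 := Module.finrank_eq_card_basis c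
    have e2 := Module.finrank_eq_card_basis b
    simp only [Fintype.card_sum, Fintype.card_fin] at e1 e2
    omega
  let e : κ ≃ Fin m := Fintype.equivFinOfCardEq hcard
  let b' : Basis (κ ⊕ κ) F (Fin n → F) := b.reindex ((Equiv.sumEmpty _ (Fin 0)).trans (e.symm.sumCongr e.symm))
  have hgram : ∀ x y, B (b' x) (b' y) = stdGram x y := by
    intro x y
    rcases x with i | i <;> rcases y with j | j
    · simpa [b', stdGram] using h2 (e i) (e j)
    · simpa [b', stdGram] using h1 (e i) (e j)
    · have := h1 (e j) (e i)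
      rw [hB, hf.skew, ← hB, neg_eq_iff_eq_neg] at this
      simp only [b', stdGram, Basis.reindex_apply, Equiv.symm_trans_apply, Equiv.sumEmpty_symm_apply,
        Equiv.sumCongr_symm, Equiv.symm_symm, Equiv.sumCongr_apply, Sum.map_inr, Sum.map_inl]
      rw [this]
      simp only [e.injective.eq_iff, eq_comm (a := j)]
      split <;> simp
    · simpa [b', stdGram] using h3 (e i) (e j)
  let g := b'.equiv c (Equiv.refl _)
  have hg : ∀ a, g (b' a) = c a := fun a => by simp [g]
  have hS : ∀ a, g.symm (T (g (b' a))) = k a • b' (τ a) := fun a => by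
    rw [hg, hTc, map_smul]
    congr 1
    rw [LinearEquiv.symm_apply_eq, hg]
  refine ⟨g, fun u v => ?_⟩
  have key : B.comp (g.symm.toLinearMap ∘ₗ T ∘ₗ g.toLinearMap) (g.symm.toLinearMap ∘ₗ T ∘ₗ g.toLinearMap) = μ • B := by
    refine b'.ext fun a => b'.ext fun a' => ?_
    simp only [LinearMap.BilinForm.comp_apply, LinearMap.comp_apply, LinearEquiv.coe_coe, LinearMap.smul_apply,
      hS, map_smul, smul_eq_mul, hgram]
    rw [← hμ]
    ring
  exact LinearMap.congr_fun (LinearMap.congr_fun key u) v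

/-- The similitude property of a normal form. -/
theorem exists_similitude {F : Type*} [Field F] [Fintype F] {n : ℕ} (he : Even n)
    {f : (Fin n → F) → (Fin n → F) → F} (hf : Cfsg.Geo.IsSymplecticForm f)
    (T : (Fin n → F) →ₗ[F] (Fin n → F)) {z : F} (hz : z ≠ 0) (hT : ∀ v, T (T v) = z • v)
    (hdet : LinearMap.det T = 1) (hpar : ∀ c : F, (2 : F) ≠ 0 → c ^ n ≠ -1) :
    ∃ g : (Fin n → F) ≃ₗ[F] (Fin n → F), ∃ μ : Fˣ, (∀ u v, f (g.symm (T (g u))) (g.symm (T (g v))) = μ * f u v) ∧
      (0 < n → CfsgLib.ConjTools.DetSurj T) := by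
  classical
  obtain ⟨s, l, hb⟩ := CfsgLib.SquareScalar.exists_pairBasis T z hz hT
  have hdim : 2 * s + l = n := by
    obtain ⟨b, -⟩ := hb
    have := Module.finrank_eq_card_basis b
    simp only [Module.finrank_fin_fun, Fintype.card_sum, Fintype.card_prod, Fintype.card_fin, Fintype.card_bool] at this
    omega
  obtain ⟨h, hh⟩ := he
  by_cases hcase : (2 : F) = 0 ∨ ¬ IsSquare z
  · -- pairs and eigenvectors with `-z = z` or no eigenvectors
    have hD : 0 < n → CfsgLib.ConjTools.DetSurj T := fun hn =>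
      CfsgLib.ConjTools.detSurj hb hz (by omega) (Or.inr hcase)
    obtain ⟨b, μ, h1, h2, h3, h4⟩ := hb
    obtain ⟨l', rfl⟩ : ∃ l', l = l' + l' := ⟨l / 2, by omega⟩
    let σ : (Fin s ⊕ Fin l') ⊕ (Fin s ⊕ Fin l') ≃ (Fin s × Bool) ⊕ Fin (l' + l') :=
      (Equiv.sumSumSumComm _ _ _ _).trans ((((Equiv.boolProdEquivSum (Fin s)).symm.trans (Equiv.prodComm _ _))).sumCongr finSumFinEquiv)
    let c := b.reindex σ.symm
    have hc : ∀ a, c a = b (σ a) := fun a => by simp [c]
    have hμ : ∀ i j : Fin (l' + l'), μ i * μ j = -z := by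
      intro i j
      have hsq : IsSquare z := ⟨μ i, (h4 i).symm⟩
      rcases hcase with h2' | h2'
      · have hneg : ∀ w : F, -w = w := fun w => by linear_combination (-w) * h2'
        have : μ i = μ j := by
          rcases mul_self_eq_mul_self_iff.1 ((h4 i).trans (h4 j).symm) with h | h
          · exact h
          · rw [h, hneg]
        rw [← this, h4, hneg]
      · exact absurd hsq h2'
    let kk : (Fin s ⊕ Fin l') ⊕ (Fin s ⊕ Fin l') → F := fun a => match a with
      | .inl (.inl _) => 1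
      | .inr (.inl _) => z
      | .inl (.inr j) => μ (Fin.castAdd l' j)
      | .inr (.inr j) => μ (Fin.natAdd l' j)
    let τ : (Fin s ⊕ Fin l') ⊕ (Fin s ⊕ Fin l') → (Fin s ⊕ Fin l') ⊕ (Fin s ⊕ Fin l') := fun a => match a with
      | .inl (.inl i) => .inr (.inl i)
      | .inr (.inl i) => .inl (.inl i)
      | a => a
    obtain ⟨g, hg⟩ := exists_conj_similitude hf T c kk τ (fun a => by
      rw [hc]
      rcases a with (i | j) | (i | j) <;>
        simp [σ, kk, τ, hc, Equiv.sumSumSumComm, Equiv.boolProdEquivSum, Equiv.sumAssoc, Equiv.sumComm, h1, h2, h3])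
      (-z) (fun a a' => by
        rcases a with (i | i) | (i | i) <;> rcases a' with (j | j) | (j | j) <;>
          simp [kk, τ, stdGram] <;> split_ifs <;> simp_all)
    exact ⟨g, Units.mk0 (-z) (neg_ne_zero.2 hz), hg, hD⟩
  · -- only eigenvectors
    simp only [not_or, not_not] at hcase
    obtain ⟨h2, c₀, rfl⟩ := hcase
    have hc0 : c₀ ≠ 0 := left_ne_zero_of_mul hz
    obtain ⟨l, hb⟩ := CfsgLib.SquareScalar.hasPairBasis_of_square h2 T c₀ hc0 hT
    obtain ⟨b₀, μ, -, -, h3, h4⟩ := hb
    have hln : l = n := by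
      have := Module.finrank_eq_card_basis b₀
      simp at this
      omega
    let b := b₀.reindex (Equiv.emptySum _ _)
    have hTb : ∀ j, T (b j) = μ j • b j := fun j => by simpa [b] using h3 j
    have hμ : ∀ j, μ j = c₀ ∨ μ j = -c₀ := fun j => mul_self_eq_mul_self_iff.1 (h4 j)
    let P := {j : Fin l // μ j = c₀}
    let Q := {j : Fin l // ¬ μ j = c₀}
    have hcardPQ : Fintype.card P + Fintype.card Q = n := by
      rw [Fintype.card_subtype_compl, Fintype.card_fin]
      have := Fintype.card_subtype_le (fun j : Fin l => μ j = c₀)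
      simp only [Fintype.card_fin] at this
      have e : Fintype.card P = Fintype.card {j : Fin l // μ j = c₀} := rfl
      omega
    have hdet' : c₀ ^ Fintype.card P * (-c₀) ^ Fintype.card Q = 1 := by
      have hdiag : LinearMap.toMatrix b b T = Matrix.diagonal μ := by
        ext i j
        rw [LinearMap.toMatrix_apply, hTb, map_smul, Basis.repr_self, Finsupp.smul_apply, smul_eq_mul,
          Finsupp.single_apply, Matrix.diagonal_apply]
        by_cases hij : i = j <;> simp [hij, eq_comm]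
      rw [← hdet, ← LinearMap.det_toMatrix b, hdiag, Matrix.det_diagonal,
        ← Fintype.prod_subtype_mul_prod_subtype (fun j : Fin l => μ j = c₀) μ]
      congr 1
      · rw [Finset.prod_congr rfl (fun j _ => j.2), Finset.prod_const, Finset.card_univ]
      · rw [Finset.prod_congr rfl (fun j _ => (hμ j.1).resolve_left j.2), Finset.prod_const, Finset.card_univ]
    have hQe : Even (Fintype.card Q) := by
      rcases Nat.even_or_odd (Fintype.card Q) with h' | h'
      · exact h'
      · exfalso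
        rw [h'.neg_pow, mul_neg, ← pow_add, hcardPQ, neg_eq_iff_eq_neg] at hdet'
        exact hpar c₀ h2 hdet'
    obtain ⟨qq, hqq⟩ := hQe
    obtain ⟨pp, hpp⟩ : ∃ pp, Fintype.card P = pp + pp := ⟨Fintype.card P / 2, by omega⟩
    let σ : (Fin pp ⊕ Fin qq) ⊕ (Fin pp ⊕ Fin qq) ≃ Fin l :=
      (Equiv.sumSumSumComm _ _ _ _).trans (((finSumFinEquiv.trans (Fintype.equivFinOfCardEq hpp).symm).sumCongr
        (finSumFinEquiv.trans (Fintype.equivFinOfCardEq hqq).symm)).trans (Equiv.sumCompl _))
    let c := b.reindex σ.symm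
    let kk : (Fin pp ⊕ Fin qq) ⊕ (Fin pp ⊕ Fin qq) → F := fun a => match a with
      | .inl (.inl _) => c₀
      | .inr (.inl _) => c₀
      | .inl (.inr _) => -c₀
      | .inr (.inr _) => -c₀
    obtain ⟨g, hg⟩ := exists_conj_similitude hf T c kk id (fun a => by
      have hca : c a = b (σ a) := by simp [c]
      rw [id, hca, hTb]
      congr 1
      rcases a with (i | i) | (i | i)
      · exact (Fintype.equivFinOfCardEq hpp).symm (finSumFinEquiv (.inl i)) |>.2
      · exact (hμ _).resolve_left ((Fintype.equivFinOfCardEq hqq).symm (finSumFinEquiv (.inl i))).2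
      · exact (Fintype.equivFinOfCardEq hpp).symm (finSumFinEquiv (.inr i)) |>.2
      · exact (hμ _).resolve_left ((Fintype.equivFinOfCardEq hqq).symm (finSumFinEquiv (.inr i))).2)
      (c₀ * c₀) (fun a a' => by
        rcases a with (i | i) | (i | i) <;> rcases a' with (j | j) | (j | j) <;>
          simp [kk, stdGram] <;> split_ifs <;> simp_all)
    exact ⟨g, Units.mk0 (c₀ * c₀) hz, hg, fun hn =>
      CfsgLib.ConjTools.detSurj_of_eigen ⟨b₀, μ, fun i => i.elim0, fun i => i.elim0, h3, h4⟩ (by omega)⟩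

/-- Involutions of PSL_n(q) and the symplectic-type subgroups. Here `T = PSL_n(F)` for a field `F` with `q` elements, `n ≥ 4` even, `f` is a nondegenerate alternating form on `F^n`, and `H` is the subgroup of matrices of determinant 1 preserving `f` up to a scalar — a maximal subgroup of type Sp_n(q); Ω is the set of `T`-conjugates of `H` (cosets of `H`), so an element of `T` of prime order `r` (a matrix `x` of determinant 1 with `x^r` scalar, `x` not scalar) fixes a point of Ω when some conjugate of `x` by a matrix of determinant 1 preserves `f` up to a scalar. Suppose the index of `H` is even. Then every involution of `T` is conjugate in `T` into `H` if and only if `(q − 1)_2 ≤ (n)_2`. -/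
theorem result {F : Type*} [Field F] [Fintype F] {p : ℕ} [Fact p.Prime] [CharP F p] {q : ℕ} (hq : Fintype.card F = q)
    (n : ℕ) (hn : 4 ≤ n) (he : Even n) (f : (Fin n → F) → (Fin n → F) → F) (hf : Cfsg.Geo.IsSymplecticForm f)
    (hΩ : 2 ∣ ((Cfsg.Geo.similarityGroup f).comap (Matrix.SpecialLinearGroup.toGL : Matrix.SpecialLinearGroup (Fin n) F →* GL (Fin n) F)).index) :
    (∀ x : Matrix.SpecialLinearGroup (Fin n) F,
      (∃ z : F, ((x ^ 2 : Matrix.SpecialLinearGroup (Fin n) F) : Matrix (Fin n) (Fin n) F) = z • (1 : Matrix (Fin n) (Fin n) F)) →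
      (∀ z : F, (x : Matrix (Fin n) (Fin n) F) ≠ z • (1 : Matrix (Fin n) (Fin n) F)) →
      ∃ P : Matrix.SpecialLinearGroup (Fin n) F, P⁻¹ * x * P ∈ ((Cfsg.Geo.similarityGroup f).comap (Matrix.SpecialLinearGroup.toGL : Matrix.SpecialLinearGroup (Fin n) F →* GL (Fin n) F))) ↔
    padicValNat 2 (q - 1) ≤ padicValNat 2 n := by
  classical
  have hn0 : 0 < n := by omega
  have h2iff : (2 : F) = 0 → padicValNat 2 (q - 1) = 0 := by
    intro h2
    have hp : p = 2 := (Nat.prime_dvd_prime_iff_eq Fact.out Nat.prime_two).1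
      ((CharP.cast_eq_zero_iff F p 2).1 (by exact_mod_cast h2))
    subst hp
    obtain ⟨e, -, he'⟩ := FiniteField.card F 2
    refine padicValNat.eq_zero_of_not_dvd ?_
    rw [← hq, he']
    have : 2 ∣ 2 ^ (e : ℕ) := dvd_pow_self 2 e.ne_zero
    have := Nat.two_pow_pos (e : ℕ)
    omega
  constructor
  · intro hall
    by_contra hlt
    have h2 : (2 : F) ≠ 0 := fun h2 => hlt (by rw [h2iff h2]; exact Nat.zero_le _)
    obtain ⟨c, hc⟩ := (CfsgLib.ConjTools.exists_pow_eq_neg_one_iff hq h2 hn0).2 (by omega)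
    have hc0 : c ≠ 0 := by rintro rfl; rw [zero_pow (by omega)] at hc; simp at hc
    obtain ⟨k, rfl⟩ : ∃ k, n = k + 1 := ⟨n - 1, by omega⟩
    let dd : Fin (k + 1) → F := Fin.cons (-c) fun _ => c
    have hdet : (Matrix.diagonal dd).det = 1 := by
      rw [Matrix.det_diagonal, Fin.prod_univ_succ]
      simp only [dd, Fin.cons_zero, Fin.cons_succ, Finset.prod_const, Finset.card_univ, Fintype.card_fin]
      rw [neg_mul, ← pow_succ', hc, neg_neg]
    obtain ⟨P, hP⟩ := hall ⟨Matrix.diagonal dd, hdet⟩ ⟨c * c, by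
      show Matrix.diagonal dd ^ 2 = _
      rw [Matrix.diagonal_pow, Matrix.smul_one_eq_diagonal]
      congr 1
      funext i
      refine Fin.cases ?_ ?_ i <;> simp [dd, pow_two]⟩ (fun w hw => by
      have e0 : -c = w := by simpa [dd] using congrFun (congrFun hw 0) 0
      have e1 : c = w := by simpa [dd] using congrFun (congrFun hw (Fin.succ ⟨0, by omega⟩)) (Fin.succ ⟨0, by omega⟩)
      rw [← e1, neg_eq_iff_add_eq_zero, ← two_mul] at e0
      exact mul_ne_zero h2 hc0 e0)
    obtain ⟨μ, hμ⟩ := hP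
    set f' : (Fin (k + 1) → F) → (Fin (k + 1) → F) → F := fun u v =>
      f (((P⁻¹ : Matrix.SpecialLinearGroup (Fin (k + 1)) F) : Matrix (Fin (k + 1)) (Fin (k + 1)) F) *ᵥ u)
        (((P⁻¹ : Matrix.SpecialLinearGroup (Fin (k + 1)) F) : Matrix (Fin (k + 1)) (Fin (k + 1)) F) *ᵥ v) with hf'
    have hPP : (P : Matrix (Fin (k + 1)) (Fin (k + 1)) F) * ((P⁻¹ : Matrix.SpecialLinearGroup (Fin (k + 1)) F) : Matrix (Fin (k + 1)) (Fin (k + 1)) F) = 1 := by
      show ((P * P⁻¹ : Matrix.SpecialLinearGroup (Fin (k + 1)) F) : Matrix (Fin (k + 1)) (Fin (k + 1)) F) = 1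
      rw [mul_inv_cancel]
      rfl
    have hinv : ∀ u v, f' (Matrix.diagonal dd *ᵥ u) (Matrix.diagonal dd *ᵥ v) = μ * f' u v := by
      intro u v
      simp only [hf']
      rw [← hμ]
      simp only [Matrix.SpecialLinearGroup.toGL, MonoidHom.coe_mk, OneHom.coe_mk, Matrix.SpecialLinearGroup.coe_mul,
        Matrix.mulVec_mulVec, Matrix.mul_assoc, hPP, Matrix.mul_one]
      rfl
    have he : ∀ i j, dd i * dd j * f' (Pi.single i 1) (Pi.single j 1) = μ * f' (Pi.single i 1) (Pi.single j 1) := by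
      intro i j
      have e : ∀ i, Matrix.diagonal dd *ᵥ Pi.single i 1 = dd i • (Pi.single i 1 : Fin (k + 1) → F) := by
        intro i
        rw [Matrix.mulVec_single_one]
        funext l
        simp [Matrix.col, Matrix.diagonal_apply, Pi.single_apply]
        split <;> simp_all
      rw [← hinv, e, e]
      simp only [hf', Matrix.mulVec_smul, hf.bilinear.smul_left, hf.bilinear.smul_right]
      ring
    have hnd : ∀ v, v ≠ 0 → ∃ j, f' v (Pi.single j 1) ≠ 0 := by
      intro v hv
      by_contra hall'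
      push Not at hall'
      set w := ((P⁻¹ : Matrix.SpecialLinearGroup (Fin (k + 1)) F) : Matrix (Fin (k + 1)) (Fin (k + 1)) F) *ᵥ v with hw
      have hw0 : w ≠ 0 := fun h0 => hv (by
        have := congrArg ((P : Matrix (Fin (k + 1)) (Fin (k + 1)) F) *ᵥ ·) h0
        simpa only [hw, Matrix.mulVec_mulVec, hPP, Matrix.one_mulVec, Matrix.mulVec_zero] using this)
      obtain ⟨-, y, hy⟩ := hf.nondegenerate w hw0
      have hz : (CfsgLib.GeomClasses.Symp.bil hf w) ∘ₗ Matrix.toLin' ((P⁻¹ : Matrix.SpecialLinearGroup (Fin (k + 1)) F) : Matrix (Fin (k + 1)) (Fin (k + 1)) F) = 0 :=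
        (Pi.basisFun F (Fin (k + 1))).ext fun j => by simpa [hf', hw] using hall' j
      refine hy ?_
      have := LinearMap.congr_fun hz ((P : Matrix (Fin (k + 1)) (Fin (k + 1)) F) *ᵥ y)
      have hPP' : ((P⁻¹ : Matrix.SpecialLinearGroup (Fin (k + 1)) F) : Matrix (Fin (k + 1)) (Fin (k + 1)) F) * (P : Matrix (Fin (k + 1)) (Fin (k + 1)) F) = 1 :=
        mul_eq_one_comm.1 hPP
      simpa only [LinearMap.comp_apply, Matrix.toLin'_apply, Matrix.mulVec_mulVec, hPP', Matrix.one_mulVec,
        CfsgLib.GeomClasses.Symp.bil_apply, LinearMap.zero_apply] using this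
    have hsupp : ∀ i : Fin k, ∀ j : Fin (k + 1), j ≠ 0 → f' (Pi.single i.succ 1) (Pi.single j 1) = 0 := by
      obtain ⟨j₀, hj₀⟩ := hnd (Pi.single 0 1) (by simp)
      have hj0 : j₀ ≠ 0 := by
        rintro rfl
        exact hj₀ (hf.alternating _)
      obtain ⟨j₁, rfl⟩ := Fin.exists_succ_eq.2 hj0
      have hμv : (μ : F) = -(c * c) := by
        have := mul_right_cancel₀ hj₀ (he 0 j₁.succ)
        simpa [dd] using this.symm
      intro i j hj
      obtain ⟨j', rfl⟩ := Fin.exists_succ_eq.2 hj
      have := he i.succ j'.succ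
      simp only [dd, Fin.cons_succ, hμv] at this
      exact (mul_eq_zero.1 (show (2 * (c * c)) * f' (Pi.single i.succ 1) (Pi.single j'.succ 1) = 0 by
        linear_combination this)).resolve_left (mul_ne_zero h2 (mul_ne_zero hc0 hc0))
    -- two vectors paired only with the first one
    set a : Fin k := ⟨0, by omega⟩
    set b : Fin k := ⟨1, by omega⟩
    have hab : a ≠ b := by simp [a, b]
    set v : Fin (k + 1) → F := f' (Pi.single b.succ 1) (Pi.single 0 1) • Pi.single a.succ 1
      - f' (Pi.single a.succ 1) (Pi.single 0 1) • Pi.single b.succ 1 with hv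
    have hlin : ∀ (α β : F) u u' w, f' (α • u - β • u') w = α * f' u w - β * f' u' w := by
      intro α β u u' w
      simp only [hf', Matrix.mulVec_sub, Matrix.mulVec_smul, CfsgLib.GeomClasses.Symp.sub_left hf, hf.bilinear.smul_left]
    have hv0 : v = 0 := by
      by_contra hne
      obtain ⟨j, hj⟩ := hnd v hne
      refine hj ?_
      rw [hv, hlin]
      by_cases hj0 : j = 0
      · subst hj0; ring
      · rw [hsupp a j hj0, hsupp b j hj0]; ring
    have hb0 : f' (Pi.single b.succ 1) (Pi.single 0 1) = 0 := by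
      have := congrFun hv0 a.succ
      simpa [hv, hab, Pi.single_apply] using this
    obtain ⟨j, hj⟩ := hnd (Pi.single b.succ 1) (by simp)
    by_cases hj0 : j = 0
    · exact hj (hj0 ▸ hb0)
    · exact hj (hsupp b j hj0)
  · intro hle x hx1 hx2
    obtain ⟨z, hz⟩ := hx1
    have : Nonempty (Fin n) := ⟨⟨0, hn0⟩⟩
    have hz0 : z ≠ 0 := by
      rintro rfl
      have h := congrArg Matrix.det hz
      rw [zero_smul, Matrix.det_zero, (x ^ 2).2] at h
      exact zero_ne_one h.symm
    obtain ⟨g, μ, hg, hD⟩ := exists_similitude he hf (Matrix.toLin' (x : Matrix (Fin n) (Fin n) F)) hz0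
      (fun v => by
        rw [Matrix.toLin'_apply, Matrix.toLin'_apply, Matrix.mulVec_mulVec, ← pow_two,
          ← Matrix.SpecialLinearGroup.coe_pow, hz, Matrix.smul_mulVec, Matrix.one_mulVec])
      (by rw [LinearMap.det_toLin']; exact x.2)
      (fun c h2 hc => by
        have := (CfsgLib.ConjTools.exists_pow_eq_neg_one_iff hq h2 hn0).1 ⟨c, hc⟩
        omega)
    obtain ⟨P, hP⟩ := CfsgLib.ConjTools.exists_sl_conj x g (hD hn0)
    refine ⟨P, μ, fun u v => ?_⟩
    show f (((P⁻¹ * x * P : Matrix.SpecialLinearGroup (Fin n) F) : Matrix (Fin n) (Fin n) F) *ᵥ u)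
      (((P⁻¹ * x * P : Matrix.SpecialLinearGroup (Fin n) F) : Matrix (Fin n) (Fin n) F) *ᵥ v) = _
    rw [hP, hP]
    simpa only [Matrix.toLin'_apply] using hg u v

end Cfsg.Agent.S5967
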