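import Cfsg.Statements.S5968
import Cfsg.Agent.Lib.Maximal99.OrderElt
import Cfsg.Agent.Lib.Sp.Decomp
import Cfsg.Agent.Lib.Sp.Card
import Cfsg.Agent.Lib.GeomClasses.Symp
import Cfsg.Agent.Classical.SLBasic
-- import your own Cfsg.Agent.* helpers here

set_option autoImplicit false
open scoped MatrixGroups
open Cfsg

namespace Cfsg.Agent.S5968

open Module Matrix
open LinearMap (BilinForm)

section forms

variable {F : Type*} [Field F] {V : Type*} [AddCommGroup V] [Module F V] [FiniteDimensional F V]

/-- A nondegenerate alternating form lives on a space of even dimension. -/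
lemma even_finrank (B : BilinForm F V) (hA : B.IsAlt) (hB : LinearMap.SeparatingLeft B) :
    ∃ k, finrank F V = 2 * k := by
  obtain ⟨m', r, b, -, -, -, h4⟩ := Cfsg.Agent.S0752.result B hA
  rcases Nat.eq_zero_or_pos r with rfl | hr
  · refine ⟨m', ?_⟩
    rw [Module.finrank_eq_card_basis b]
    simp only [Fintype.card_sum, Fintype.card_fin]
    omega
  · exact absurd (hB _ (h4 ⟨0, hr⟩)) (b.ne_zero _)

/-- The moving space of an isometry of order prime to the characteristic has even dimension. -/
lemma even_move (B : BilinForm F V) (hA : B.IsAlt) (hB : LinearMap.SeparatingLeft B) (T : Module.End F V)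
    (hT : ∀ v w, B (T v) (T w) = B v w) {r : ℕ} (hr : T ^ r = 1) (hr0 : (r : F) ≠ 0) :
    ∃ k, finrank F ↥(LinearMap.range (T - 1)) = 2 * k := by
  have hcompl := CfsgLib.OrderR.isCompl_fix_move T hr hr0
  refine even_finrank (B.restrict (LinearMap.range (T - 1))) (fun x => hA x.1) fun x hx => Subtype.ext ?_
  refine hB _ fun y => ?_
  obtain ⟨u, hu, w, hw, rfl⟩ := Submodule.mem_sup.1 (hcompl.sup_eq_top ▸ Submodule.mem_top (x := y))
  have h2 : B (x : V) w = 0 := hx ⟨w, hw⟩
  obtain ⟨v, hv⟩ := x.2
  have hTu : T u = u := by simpa [sub_eq_zero] using hu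
  have h1 : B (x : V) u = 0 := by
    rw [← hv, LinearMap.sub_apply, Module.End.one_apply, map_sub, LinearMap.sub_apply]
    conv_lhs => rw [show B v u = B (T v) (T u) from (hT v u).symm, hTu]
    rw [sub_self]
  rw [map_add, h1, h2, add_zero]

/-- An isometry is not a unipotent map with a single block of size 3 and trivial action elsewhere. -/
lemma not_single_three (h2 : (2 : F) ≠ 0) (B : BilinForm F V) (hA : B.IsAlt) (hB : LinearMap.SeparatingLeft B)
    (T : Module.End F V) (hT : ∀ v w, B (T v) (T w) = B v w) (φ : V →ₗ[F] F) (e : V) (hφ : φ ≠ 0)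
    (he : e ≠ 0) (hN2 : ∀ v, (T - 1) ((T - 1) v) = φ v • e) (hN3 : ∀ v, (T - 1) ((T - 1) ((T - 1) v)) = 0) : False := by
  set N := T - 1 with hN
  have hid : ∀ v w, B (N v) w + B v (N w) + B (N v) (N w) = 0 := fun v w => by
    have := hT v w
    rw [show T v = N v + v by simp [hN], show T w = N w + w by simp [hN]] at this
    simp only [map_add, LinearMap.add_apply] at this
    linear_combination this
  have hflip : ∀ v w, B v w = - B w v := fun v w => (LinearMap.IsAlt.neg hA w v).symm
  have hz : ∀ v w, B (N (N v)) (N w) = 0 := fun v w => by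
    have := hid (N (N v)) w
    rw [hN3, map_zero, LinearMap.zero_apply, LinearMap.zero_apply, zero_add, add_zero] at this
    exact this
  have hsym : ∀ v, B (N (N v)) v = 0 := fun v => by
    have e1 := hid (N v) v
    have e2 := hid v (N v)
    rw [hz v v] at e1
    rw [hflip (N v) (N (N v)), hz v v, hflip v (N (N v))] at e2
    have : 2 * B (N (N v)) v = 0 := by linear_combination e1 - e2
    exact (mul_eq_zero.1 this).resolve_left h2
  have h1 : ∀ v, φ v ≠ 0 → B e v = 0 := fun v hv => by
    have := hsym v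
    rw [hN2, map_smul, LinearMap.smul_apply, smul_eq_mul] at this
    exact (mul_eq_zero.1 this).resolve_left hv
  obtain ⟨u, hu⟩ : ∃ u, φ u ≠ 0 := by
    by_contra h
    push Not at h
    exact hφ (LinearMap.ext h)
  refine he (hB _ fun v => ?_)
  by_cases hv : φ v = 0
  · have := h1 (v + u) (by rw [map_add, hv, zero_add]; exact hu)
    rwa [map_add, h1 u hu, add_zero] at this
  · exact h1 v hv

end forms

variable {F : Type*} [Field F] {n : ℕ} {f : (Fin n → F) → (Fin n → F) → F}

/-- A conjugate in the similarity group gives an invariant form up to a scalar. -/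
lemma exists_form (hf : Cfsg.Geo.IsSymplecticForm f) (x P : Matrix.SpecialLinearGroup (Fin n) F)
    (h : P⁻¹ * x * P ∈ (Cfsg.Geo.similarityGroup f).comap
      (Matrix.SpecialLinearGroup.toGL : Matrix.SpecialLinearGroup (Fin n) F →* GL (Fin n) F)) :
    ∃ (B : BilinForm F (Fin n → F)) (μ : F), B.IsAlt ∧ LinearMap.SeparatingLeft B ∧
      ∀ v w, B ((x : Matrix (Fin n) (Fin n) F) *ᵥ v) ((x : Matrix (Fin n) (Fin n) F) *ᵥ w) = μ * B v w := by
  obtain ⟨c, hc⟩ := h
  set Q := ((P⁻¹ : Matrix.SpecialLinearGroup (Fin n) F) : Matrix (Fin n) (Fin n) F) with hQ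
  have hPQ : (P : Matrix (Fin n) (Fin n) F) * Q = 1 := congrArg Subtype.val (mul_inv_cancel P)
  have hQP : Q * (P : Matrix (Fin n) (Fin n) F) = 1 := congrArg Subtype.val (inv_mul_cancel P)
  refine ⟨(CfsgLib.GeomClasses.Symp.bil hf).comp (Matrix.toLin' Q) (Matrix.toLin' Q), c,
    fun v => by simp [hf.alternating], fun v hv => ?_, fun v w => ?_⟩
  · have hQv : Q *ᵥ v = 0 := by
      refine (CfsgLib.GeomClasses.Symp.bil_nondegenerate hf).1 _ fun y => ?_
      have := hv ((P : Matrix (Fin n) (Fin n) F) *ᵥ y)
      simpa [Matrix.mulVec_mulVec, hQP] using this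
    rw [← Matrix.one_mulVec v, ← hPQ, ← Matrix.mulVec_mulVec, hQv, Matrix.mulVec_zero]
  · have key := hc (Q *ᵥ v) (Q *ᵥ w)
    change f ((Q * (x : Matrix (Fin n) (Fin n) F) * (P : Matrix (Fin n) (Fin n) F)) *ᵥ (Q *ᵥ v))
      ((Q * (x : Matrix (Fin n) (Fin n) F) * (P : Matrix (Fin n) (Fin n) F)) *ᵥ (Q *ᵥ w)) = _ at key
    rw [Matrix.mulVec_mulVec, Matrix.mulVec_mulVec, mul_assoc (Q * _), hPQ, mul_one, ← Matrix.mulVec_mulVec,
      ← Matrix.mulVec_mulVec] at key
    simpa using key

/-- The multiplier of an element of order dividing `r` is an `r`-th root of unity. -/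
lemma mult_pow (hn : 0 < n) {r : ℕ} {x : Matrix (Fin n) (Fin n) F} (hx : x ^ r = 1) (B : BilinForm F (Fin n → F))
    (hB : LinearMap.SeparatingLeft B) {μ : F} (h : ∀ v w, B (x *ᵥ v) (x *ᵥ w) = μ * B v w) : μ ^ r = 1 := by
  have key : ∀ k : ℕ, ∀ v w, B ((x ^ k) *ᵥ v) ((x ^ k) *ᵥ w) = μ ^ k * B v w := by
    intro k
    induction k with
    | zero => simp
    | succ k ih =>
      intro v w
      rw [pow_succ', ← Matrix.mulVec_mulVec, ← Matrix.mulVec_mulVec, h, ih, pow_succ', mul_assoc]
  obtain ⟨w, hw⟩ : ∃ w, B (Pi.single ⟨0, hn⟩ 1) w ≠ 0 := by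
    by_contra hcon
    push Not at hcon
    have := congrFun (hB _ hcon) ⟨0, hn⟩
    simp at this
  have := key r (Pi.single ⟨0, hn⟩ 1) w
  rw [hx, Matrix.one_mulVec, Matrix.one_mulVec] at this
  exact (mul_left_eq_self₀.1 this.symm).resolve_right hw

/-- Only odd degrees of cyclotomic factors occur in the index. -/
lemma exists_odd_dvd [Fintype F] {p q r : ℕ} [Fact p.Prime] [CharP F p] [Fact r.Prime] (hq : Fintype.card F = q)
    (hf : Cfsg.Geo.IsSymplecticForm f) {d : ℕ} (hd : n = 2 * d) (hd0 : 0 < d) (hrp : r ≠ p)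
    (hΩ : r ∣ ((Cfsg.Geo.similarityGroup f).comap (Matrix.SpecialLinearGroup.toGL : Matrix.SpecialLinearGroup (Fin n) F →* GL (Fin n) F)).index) :
    ∃ k, k + 1 < d ∧ r ∣ q ^ (2 * k + 3) - 1 := by
  classical
  set H := (Cfsg.Geo.similarityGroup f).comap
    (Matrix.SpecialLinearGroup.toGL : Matrix.SpecialLinearGroup (Fin n) F →* GL (Fin n) F) with hH
  obtain ⟨e, he⟩ := CfsgLib.Sp.exists_std_equiv (CfsgLib.GeomClasses.Symp.bil hf) hf.alternating
    (fun x hx => (CfsgLib.GeomClasses.Symp.bil_nondegenerate hf).1 x hx) (k := d) (by rw [Module.finrank_fin_fun, hd])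
  let ψ : Matrix (Fin d ⊕ Fin d) (Fin d ⊕ Fin d) F → Matrix (Fin n) (Fin n) F := fun A =>
    LinearMap.toMatrix' (e.toLinearMap ∘ₗ Matrix.toLin' A ∘ₗ e.symm.toLinearMap)
  have hψ : ∀ A v, ψ A *ᵥ v = e (A *ᵥ e.symm v) := fun A v => by
    simp [ψ, LinearMap.toMatrix'_mulVec]
  have hψdet : ∀ A : ↥(Matrix.symplecticGroup (Fin d) F), (ψ A.1).det = 1 := fun A => by
    rw [LinearMap.det_toMatrix', LinearMap.det_conj, LinearMap.det_toLin', SymplecticGroup.det_eq_one A.2]
  let φ : ↥(Matrix.symplecticGroup (Fin d) F) →* Matrix.SpecialLinearGroup (Fin n) F :=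
    { toFun := fun A => ⟨ψ A.1, hψdet A⟩
      map_one' := Subtype.ext (Matrix.toLin'.injective (LinearMap.ext fun v => by
        simp [Matrix.toLin'_apply, hψ]))
      map_mul' := fun A C => Subtype.ext (show ψ (A.1 * C.1) = ψ A.1 * ψ C.1 from
        Matrix.toLin'.injective (LinearMap.ext fun v => by
          rw [Matrix.toLin'_apply, Matrix.toLin'_apply, hψ, ← Matrix.mulVec_mulVec, ← Matrix.mulVec_mulVec, hψ, hψ,
            e.symm_apply_apply])) }
  have hφ : Function.Injective φ := fun A C h => by
    refine Subtype.ext (Matrix.toLin'.injective (LinearMap.ext fun v => ?_))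
    have h' : ψ A.1 *ᵥ e v = ψ C.1 *ᵥ e v := by rw [show ψ A.1 = ψ C.1 from congrArg Subtype.val h]
    rw [hψ, hψ, e.symm_apply_apply] at h'
    simpa [Matrix.toLin'_apply] using e.injective h'
  have hle : φ.range ≤ H := by
    rintro _ ⟨A, rfl⟩
    refine ⟨1, fun u v => ?_⟩
    show f (ψ A.1 *ᵥ u) (ψ A.1 *ᵥ v) = _
    rw [hψ, hψ, ← CfsgLib.GeomClasses.Symp.bil_apply hf, he, CfsgLib.Sp.mem_symplecticGroup_iff.1 A.2, ← he,
      e.apply_symm_apply, e.apply_symm_apply]
    simp
  obtain ⟨c, hc⟩ := Subgroup.card_dvd_of_le hle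
  rw [← Nat.card_congr (MonoidHom.ofInjective hφ).toEquiv] at hc
  have hidx := H.card_mul_index
  rw [hc, CfsgLib.Sp.card_symplecticGroup hq] at hidx
  have hcard := Cfsg.Agent.Classical.card_sl_mul (F := F) n (by omega)
  rw [← hidx, hq] at hcard
  have hq1 : 1 < q := by rw [← hq]; exact Fintype.one_lt_card
  set A := ∏ k ∈ Finset.range d, (q ^ (2 * k + 1) - 1)
  set B := ∏ k ∈ Finset.range d, (q ^ (2 * (k + 1)) - 1)
  have hprod : ∀ e : ℕ, ∏ j ∈ Finset.range (2 * e), (q ^ (j + 1) - 1) =
      (∏ k ∈ Finset.range e, (q ^ (2 * k + 1) - 1)) * ∏ k ∈ Finset.range e, (q ^ (2 * (k + 1)) - 1) := by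
    intro e
    induction e with
    | zero => simp
    | succ e ih =>
      rw [show 2 * (e + 1) = 2 * e + 1 + 1 by ring, Finset.prod_range_succ, Finset.prod_range_succ, ih,
        Finset.prod_range_succ, Finset.prod_range_succ, show 2 * (e + 1) = 2 * e + 1 + 1 by ring]
      ring
  have hN : ∏ i : Fin n, (q ^ n - q ^ (i : ℕ)) = (∏ i : Fin n, q ^ (i : ℕ)) * (A * B) := by
    rw [← hprod d, ← hd, ← Fin.prod_univ_eq_prod_range (fun j => q ^ (j + 1) - 1) n,
      ← Equiv.prod_comp Fin.revPerm (fun j : Fin n => q ^ ((j : ℕ) + 1) - 1), ← Finset.prod_mul_distrib]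
    refine Finset.prod_congr rfl fun i _ => ?_
    rw [Nat.mul_sub, mul_one, ← pow_add]
    congr 2
    simp [Fin.val_rev]
    omega
  rw [hN] at hcard
  have hBpos : 0 < B := Finset.prod_pos fun k _ => Nat.sub_pos_of_lt (Nat.one_lt_pow (by omega) hq1)
  have hA : A = (q - 1) * ∏ k ∈ Finset.range (d - 1), (q ^ (2 * k + 3) - 1) := by
    obtain ⟨d', rfl⟩ : ∃ d', d = d' + 1 := ⟨d - 1, by omega⟩
    rw [Nat.add_sub_cancel, show A = ∏ k ∈ Finset.range (d' + 1), (q ^ (2 * k + 1) - 1) from rfl,
      Finset.prod_range_succ', mul_comm]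
    simp [mul_add]
  have key : H.index ∣ (∏ i : Fin n, q ^ (i : ℕ)) * ∏ k ∈ Finset.range (d - 1), (q ^ (2 * k + 3) - 1) := by
    refine ⟨q ^ d ^ 2 * c, Nat.eq_of_mul_eq_mul_left (Nat.mul_pos hBpos (Nat.sub_pos_of_lt hq1)) ?_⟩
    rw [hA] at hcard
    linear_combination -hcard
  have hrq : ¬ r ∣ q := fun hd' => by
    have := CfsgLib.OrderR.natCast_ne_zero_of_card (r := r) hq hrp
    exact this ((ZMod.natCast_eq_zero_iff q r).2 hd')
  rcases (Fact.out : r.Prime).dvd_mul.1 (hΩ.trans key) with h | h
  · obtain ⟨i, -, hi⟩ := ((Fact.out : r.Prime).prime.dvd_finsetProd_iff _).1 h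
    exact absurd ((Fact.out : r.Prime).dvd_of_dvd_pow hi) hrq
  · obtain ⟨k, hk, hk'⟩ := ((Fact.out : r.Prime).prime.dvd_finsetProd_iff _).1 h
    exact ⟨k, by have := Finset.mem_range.1 hk; omega, hk'⟩


/-- Derangements of odd prime order of PSL_n(q) on the cosets of a symplectic-type subgroup. Here `T = PSL_n(F)` for a field `F` with `q` elements, `n ≥ 4` even, `f` is a nondegenerate alternating form on `F^n`, and `H` is the subgroup of matrices of determinant 1 preserving `f` up to a scalar — a maximal subgroup of type Sp_n(q); Ω is the set of `T`-conjugates of `H` (cosets of `H`), so an element of `T` of prime order `r` (a matrix `x` of determinant 1 with `x^r` scalar, `x` not scalar) fixes a point of Ω when some conjugate of `x` by a matrix of determinant 1 preserves `f` up to a scalar. For every odd prime `r` dividing the index of `H`, with `(n, r) ≠ (6, 3)`, there is an element of `T` of order `r` with no conjugate in `H`. (For `n = 6`, `r = 3` this can fail: when `(q − 1)_3 = 3` every element of order 3 is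 conjugate into `H`.) -/
theorem result {F : Type*} [Field F] [Fintype F] {p : ℕ} [Fact p.Prime] [CharP F p] {q : ℕ} (hq : Fintype.card F = q)
    (n : ℕ) (hn : 4 ≤ n) (he : Even n) (f : (Fin n → F) → (Fin n → F) → F) (hf : Cfsg.Geo.IsSymplecticForm f)
    (r : ℕ) [Fact r.Prime] (hr2 : r ≠ 2) (hgap : ¬ (n = 6 ∧ r = 3)) (hΩ : r ∣ ((Cfsg.Geo.similarityGroup f).comap (Matrix.SpecialLinearGroup.toGL : Matrix.SpecialLinearGroup (Fin n) F →* GL (Fin n) F)).index) :
    ∃ x : Matrix.SpecialLinearGroup (Fin n) F,
      (∃ z : F, ((x ^ r : Matrix.SpecialLinearGroup (Fin n) F) : Matrix (Fin n) (Fin n) F) = z • (1 : Matrix (Fin n) (Fin n) F)) ∧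
      (∀ z : F, (x : Matrix (Fin n) (Fin n) F) ≠ z • (1 : Matrix (Fin n) (Fin n) F)) ∧
      ∀ P : Matrix.SpecialLinearGroup (Fin n) F, P⁻¹ * x * P ∉ ((Cfsg.Geo.similarityGroup f).comap (Matrix.SpecialLinearGroup.toGL : Matrix.SpecialLinearGroup (Fin n) F →* GL (Fin n) F)) := by
  classical
  obtain ⟨d, hd⟩ := he
  have hn0 : 0 < n := by omega
  have hr3 : 3 ≤ r := by have := (Fact.out : r.Prime).two_le; omega
  have hq1 : 1 ≤ q := by rw [← hq]; exact Fintype.card_pos
  by_cases hrp : r = p
  · -- unipotent, one block of size 3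
    subst hrp
    have h2 : (2 : F) ≠ 0 := by
      intro h2
      have h2' : ((2 : ℕ) : F) = 0 := by exact_mod_cast h2
      rw [CharP.cast_eq_zero_iff F r] at h2'
      have := Nat.le_of_dvd two_pos h2'
      omega
    set i0 : Fin n := ⟨0, by omega⟩
    set i1 : Fin n := ⟨1, by omega⟩
    set i2 : Fin n := ⟨2, by omega⟩
    have h01 : i0 ≠ i1 := by simp [i0, i1]
    have h12 : i1 ≠ i2 := by simp [i1, i2]
    have h02 : i0 ≠ i2 := by simp [i0, i2]
    set X : Matrix (Fin n) (Fin n) F := Matrix.transvection i0 i1 1 * Matrix.transvection i1 i2 1 with hX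
    have hXdet : X.det = 1 := by
      rw [hX, Matrix.det_mul, Matrix.det_transvection_of_ne _ _ h01, Matrix.det_transvection_of_ne _ _ h12, one_mul]
    set N : Matrix (Fin n) (Fin n) F := Matrix.single i0 i1 1 + Matrix.single i1 i2 1 + Matrix.single i0 i2 1 with hNdef
    have hXN : X = 1 + N := by
      rw [hX, hNdef, Matrix.transvection, Matrix.transvection, mul_add, add_mul, add_mul, one_mul, one_mul, mul_one,
        Matrix.single_mul_single_same, one_mul]
      abel
    have hN2 : N * N = Matrix.single i0 i2 1 := by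
      rw [hNdef]
      simp only [add_mul, mul_add, Matrix.single_mul_single_same,
        Matrix.single_mul_single_of_ne _ _ _ _ h01.symm, Matrix.single_mul_single_of_ne _ _ _ _ h12.symm,
        Matrix.single_mul_single_of_ne _ _ _ _ h02.symm, Matrix.single_mul_single_of_ne _ _ _ _ h12, one_mul]
      simp
    have hN3 : N * N * N = 0 := by
      rw [hN2, hNdef]
      simp [mul_add, Matrix.single_mul_single_of_ne _ _ _ _ h02.symm, Matrix.single_mul_single_of_ne _ _ _ _ h12.symm]
    have hXr : X ^ r = 1 := by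
      have : Nonempty (Fin n) := ⟨i0⟩
      rw [hXN, add_pow_char_of_commute (p := r) (Commute.one_left N), one_pow, add_eq_left]
      rw [show r = 3 + (r - 3) by omega, pow_add, show N ^ 3 = 0 by rw [pow_succ, pow_two, hN3], zero_mul]
    obtain ⟨x, hx⟩ : ∃ x : Matrix.SpecialLinearGroup (Fin n) F, (x : Matrix (Fin n) (Fin n) F) = X := ⟨⟨X, hXdet⟩, rfl⟩
    refine ⟨x, ⟨1, by rw [Matrix.SpecialLinearGroup.coe_pow, one_smul, hx]; exact hXr⟩, fun z hz => ?_,
      fun P hP => ?_⟩
    · rw [hx] at hz
      have := congrFun (congrFun hz i0) i1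
      simp [hXN, hNdef, Matrix.single_apply, Matrix.one_apply, h01, h12, h02, Ne.symm h01, Ne.symm h12] at this
    · obtain ⟨B, μ, hA, hB, hμ⟩ := exists_form hf _ P hP
      simp only [hx] at hμ
      have h1 : μ = 1 := by
        have := mult_pow hn0 (x := X) hXr B hB hμ
        have h' : (μ - 1) ^ r = 0 := by rw [sub_pow_char, one_pow, this, sub_self]
        exact sub_eq_zero.1 (eq_zero_of_pow_eq_zero h')
      have hT : (Matrix.toLinAlgEquiv' X : Module.End F (Fin n → F)) - 1 = Matrix.toLinAlgEquiv' N := by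
        rw [← map_one (Matrix.toLinAlgEquiv' (R := F) (n := Fin n)), ← map_sub, hXN, add_sub_cancel_left]
      refine not_single_three h2 B hA hB (Matrix.toLinAlgEquiv' X)
        (fun v w => by rw [Matrix.toLinAlgEquiv'_apply, Matrix.toLinAlgEquiv'_apply, hμ, h1, one_mul])
        (LinearMap.proj i2) (Pi.single i0 1) (fun h => by simpa using LinearMap.congr_fun h (Pi.single i2 1))
        (fun h => by simpa using congrFun h i0) (fun v => ?_) (fun v => ?_)
      · rw [hT, Matrix.toLinAlgEquiv'_apply, Matrix.toLinAlgEquiv'_apply, Matrix.mulVec_mulVec, hN2]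
        funext j
        by_cases hj : j = i0 <;> simp [hj, Matrix.single_mulVec, Function.update_apply]
      · rw [hT, Matrix.toLinAlgEquiv'_apply, Matrix.toLinAlgEquiv'_apply, Matrix.toLinAlgEquiv'_apply,
          Matrix.mulVec_mulVec, Matrix.mulVec_mulVec, hN3, Matrix.zero_mulVec]
  have hr0 : (r : F) ≠ 0 := CfsgLib.OrderR.cast_ne_zero (p := p) hrp
  set i := orderOf (q : ZMod r) with hi
  have hi0 : 0 < i := by
    refine orderOf_pos_iff.2 (isOfFinOrder_iff_pow_eq_one.2 ⟨r - 1, by omega, ?_⟩)
    exact ZMod.pow_card_sub_one_eq_one (CfsgLib.OrderR.natCast_ne_zero_of_card hq hrp)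
  by_cases hi1 : i = 1
  · -- diagonal element
    have hr1 : r ∣ Nat.card Fˣ := by
      rw [Nat.card_units, Nat.card_eq_fintype_card, hq]
      have := (CfsgLib.OrderR.orderOf_dvd_iff (m := 1) (r := r) hq1).1 (by rw [← hi, hi1])
      rwa [pow_one] at this
    obtain ⟨u, hu⟩ := exists_prime_orderOf_dvd_card' r hr1
    set ε : F := (u : F) with hε
    have hεo : orderOf ε = r := by rw [hε, orderOf_units, hu]
    have hεr : ε ^ r = 1 := by rw [← hεo, pow_orderOf_eq_one]
    have hne : ∀ k, 0 < k → k < r → ε ^ k ≠ 1 := fun k hk hk' h => by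
      have h' := orderOf_dvd_of_pow_eq_one h
      rw [hεo] at h'
      have := Nat.le_of_dvd hk h'
      omega
    have hε0 : ε ≠ 0 := u.ne_zero
    have main : ∀ dd : Fin n → F, (∏ j, dd j = 1) → (∀ j, dd j ^ r = 1) → (∃ j k, dd j ≠ dd k) →
        (∀ (B : BilinForm F (Fin n → F)) (μ : F), B.IsAlt → LinearMap.SeparatingLeft B →
          (∀ a b, B (Pi.single a 1) (Pi.single b 1) ≠ 0 → dd a * dd b = μ) → False) →
        ∃ x : Matrix.SpecialLinearGroup (Fin n) F,
          (∃ z : F, ((x ^ r : Matrix.SpecialLinearGroup (Fin n) F) : Matrix (Fin n) (Fin n) F) = z • (1 : Matrix (Fin n) (Fin n) F)) ∧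
          (∀ z : F, (x : Matrix (Fin n) (Fin n) F) ≠ z • (1 : Matrix (Fin n) (Fin n) F)) ∧
          ∀ P : Matrix.SpecialLinearGroup (Fin n) F, P⁻¹ * x * P ∉ ((Cfsg.Geo.similarityGroup f).comap (Matrix.SpecialLinearGroup.toGL : Matrix.SpecialLinearGroup (Fin n) F →* GL (Fin n) F)) := by
      intro dd hprod hpow hns hB'
      obtain ⟨x, hx⟩ : ∃ x : Matrix.SpecialLinearGroup (Fin n) F, (x : Matrix (Fin n) (Fin n) F) = Matrix.diagonal dd :=
        ⟨⟨Matrix.diagonal dd, by rw [Matrix.det_diagonal, hprod]⟩, rfl⟩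
      refine ⟨x, ⟨1, ?_⟩, fun z hz => ?_, fun P hP => ?_⟩
      · rw [Matrix.SpecialLinearGroup.coe_pow, one_smul, hx]
        rw [Matrix.diagonal_pow, show dd ^ r = 1 from funext hpow]
        exact Matrix.diagonal_one
      · obtain ⟨j, k, hjk⟩ := hns
        have hz' : Matrix.diagonal dd = z • (1 : Matrix (Fin n) (Fin n) F) := hx ▸ hz
        have e1 := congrFun (congrFun hz' j) j
        have e2 := congrFun (congrFun hz' k) k
        simp at e1 e2
        exact hjk (e1.trans e2.symm)
      · obtain ⟨B, μ, hA, hB, hμ⟩ := exists_form hf _ P hP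
        refine hB' B μ hA hB fun a b hab => ?_
        have := hμ (Pi.single a 1) (Pi.single b 1)
        rw [hx] at this
        rw [Matrix.diagonal_mulVec_single, Matrix.diagonal_mulVec_single, mul_one, mul_one,
          ← mul_one (dd a), ← mul_one (dd b), ← smul_eq_mul, ← smul_eq_mul, Pi.single_smul', Pi.single_smul',
          map_smul, map_smul, LinearMap.smul_apply, smul_eq_mul, smul_eq_mul, ← mul_assoc] at this
        exact mul_right_cancel₀ hab (by linear_combination this)
    have partner : ∀ (B : BilinForm F (Fin n → F)), B.IsAlt → LinearMap.SeparatingLeft B → ∀ a, ∃ b, b ≠ a ∧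
        B (Pi.single a 1) (Pi.single b 1) ≠ 0 := by
      intro B hA hB a
      by_contra hcon
      push Not at hcon
      have : (Pi.single a 1 : Fin n → F) = 0 := by
        refine hB _ fun y => ?_
        have h0 : B (Pi.single a 1) = 0 := (Pi.basisFun F (Fin n)).ext fun b => by
          rw [Pi.basisFun_apply, LinearMap.zero_apply]
          by_cases hb : b = a
          · rw [hb]; exact hA _
          · exact hcon b hb
        rw [h0]; rfl
      simpa using congrFun this a
    by_cases hr : r = 3
    · -- `ε` three times and ones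
      subst hr
      have hn6 : n ≠ 6 := fun h => hgap ⟨h, rfl⟩
      refine main (fun j => if (j : ℕ) < 3 then ε else 1) ?_ (fun j => by split_ifs <;> simp [hεr]) ?_ ?_
      · obtain ⟨k, rfl⟩ : ∃ k, n = 3 + k := ⟨n - 3, by omega⟩
        rw [Fin.prod_univ_add, Finset.prod_congr rfl (fun j _ => if_pos (show ((Fin.castAdd k j : Fin (3 + k)) : ℕ) < 3 from j.2)),
          Finset.prod_eq_one (fun j _ => if_neg (by simp)), mul_one, Finset.prod_const, Finset.card_univ,
          Fintype.card_fin, hεr]
      · refine ⟨⟨0, by omega⟩, ⟨3, by omega⟩, ?_⟩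
        simpa using hne 1 one_pos (by omega)
      · intro B μ hA hB hpair
        obtain ⟨b, -, hb⟩ := partner B hA hB ⟨0, hn0⟩
        have hμ0 := hpair _ _ hb
        obtain ⟨b', -, hb'⟩ := partner B hA hB ⟨3, by omega⟩
        have hμ3 := hpair _ _ hb'
        simp only [show (0 : ℕ) < 3 from by norm_num, show ¬ (3 : ℕ) < 3 from by norm_num, if_true, if_false,
          one_mul] at hμ0 hμ3
        have hμ : μ = ε := by
          split_ifs at hμ0 hμ3
          · exact hμ3.symm
          · exfalso
            exact hne 2 two_pos (by norm_num) (by rw [pow_two, hμ0, ← hμ3])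
          · rw [mul_one] at hμ0; exact hμ0.symm
          · rw [mul_one] at hμ0; exact hμ0.symm
        subst hμ
        have hopp : ∀ a b : Fin n, B (Pi.single a 1) (Pi.single b 1) ≠ 0 → ((a : ℕ) < 3 ↔ ¬ (b : ℕ) < 3) := by
          intro a b hab
          have := hpair a b hab
          have hne2 : ε * ε ≠ ε := fun h => hne 1 one_pos (by omega) (by
            rw [pow_one]; exact mul_left_cancel₀ hε0 (h.trans (mul_one ε).symm))
          have hne1 : (1 : F) * 1 ≠ ε := fun h => hne 1 one_pos (by omega) (by rw [pow_one, ← h, one_mul])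
          split_ifs at this with h1 h2 h2
          · exact absurd this hne2
          · exact iff_of_true h1 h2
          · exact iff_of_false h1 (fun h => h h2)
          · exact absurd this hne1
        -- the pairing between the two eigenspaces is perfect
        let S := {a : Fin n // (a : ℕ) < 3}
        let T := {a : Fin n // ¬ (a : ℕ) < 3}
        let M : Matrix S T F := Matrix.of fun a b => B (Pi.single a.1 1) (Pi.single b.1 1)
        have hleft : Function.Injective M.vecMulLinear := by
          refine (injective_iff_map_eq_zero _).2 fun u hu => ?_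
          set v : Fin n → F := ∑ a : S, u a • Pi.single a.1 1 with hv
          have hv0 : v = 0 := by
            refine hB _ fun y => ?_
            have h0 : B v = 0 := (Pi.basisFun F (Fin n)).ext fun b => by
              rw [Pi.basisFun_apply, LinearMap.zero_apply, hv, map_sum, LinearMap.sum_apply]
              by_cases hb : (b : ℕ) < 3
              · refine Finset.sum_eq_zero fun a _ => ?_
                rw [map_smul, LinearMap.smul_apply, smul_eq_zero]
                right
                by_contra h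
                exact (hopp _ _ h).1 a.2 hb
              · have := congrFun hu ⟨b, hb⟩
                simpa [M, Matrix.vecMul, dotProduct] using this
            rw [h0]; rfl
          funext a
          have := congrFun hv0 a.1
          rw [hv, Finset.sum_apply, Finset.sum_eq_single a (fun a' _ ha' => by
            rw [Pi.smul_apply, Pi.single_apply, if_neg (fun h => ha' (Subtype.ext h).symm), smul_zero]) (by simp)] at this
          simpa using this
        have hright : Function.Injective M.mulVecLin := by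
          refine (injective_iff_map_eq_zero _).2 fun u hu => ?_
          set v : Fin n → F := ∑ a : T, u a • Pi.single a.1 1 with hv
          have hv0 : v = 0 := by
            refine hB _ fun y => ?_
            have h0 : B v = 0 := (Pi.basisFun F (Fin n)).ext fun b => by
              rw [Pi.basisFun_apply, LinearMap.zero_apply, ← LinearMap.IsAlt.neg hA (Pi.single b 1) v, neg_eq_zero, hv, map_sum]
              by_cases hb : (b : ℕ) < 3
              · have := congrFun hu ⟨b, hb⟩
                simpa [M, Matrix.mulVec, dotProduct, mul_comm] using this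
              · refine Finset.sum_eq_zero fun a _ => ?_
                rw [map_smul, smul_eq_zero]
                right
                by_contra h
                exact hb ((hopp _ _ h).2 a.2)
            rw [h0]; rfl
          funext a
          have := congrFun hv0 a.1
          rw [hv, Finset.sum_apply, Finset.sum_eq_single a (fun a' _ ha' => by
            rw [Pi.smul_apply, Pi.single_apply, if_neg (fun h => ha' (Subtype.ext h).symm), smul_zero]) (by simp)] at this
          simpa using this
        have l1 := LinearMap.finrank_le_finrank_of_injective hleft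
        have l2 := LinearMap.finrank_le_finrank_of_injective hright
        have hS : Fintype.card S = 3 := by
          rw [Fintype.card_congr (Fin.castLEquiv (show 3 ≤ n by omega)).symm, Fintype.card_fin]
        have hT : Fintype.card T = n - 3 := by
          rw [Fintype.card_subtype_compl, Fintype.card_fin]
          exact congrArg (n - ·) hS
        simp only [Module.finrank_pi, hS, hT] at l1 l2
        omega
    · -- `ε, ε, ε⁻²` and ones
      have hr5 : 5 ≤ r := by
        by_contra hlt
        have : r = 4 := by omega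
        subst this
        exact absurd (Fact.out : Nat.Prime 4) (by norm_num)
      set a0 : Fin n := ⟨0, by omega⟩
      set a2 : Fin n := ⟨2, by omega⟩
      set a3 : Fin n := ⟨3, by omega⟩
      let dd : Fin n → F := fun j => if (j : ℕ) < 2 then ε else if (j : ℕ) = 2 then ε⁻¹ ^ 2 else 1
      have hval : ∀ j, dd j = ε ∨ dd j = ε⁻¹ ^ 2 ∨ dd j = 1 := fun j => by
        simp only [dd]; split_ifs <;> simp
      refine main dd ?_ (fun j => ?_) ⟨a0, a3, ?_⟩ ?_
      · obtain ⟨k, rfl⟩ : ∃ k, n = 3 + k := ⟨n - 3, by omega⟩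
        rw [Fin.prod_univ_add, Finset.prod_eq_one (s := (Finset.univ : Finset (Fin k))) (fun j _ => by simp only [dd, Fin.val_natAdd]; rw [if_neg (by omega), if_neg (by omega)]),
          mul_one, Fin.prod_univ_three]
        simp only [dd, Fin.val_castAdd, Fin.val_zero, Fin.val_one, Fin.val_two]
        norm_num
        field_simp
      · rcases hval j with h | h | h <;> rw [h]
        · exact hεr
        · rw [← pow_mul, mul_comm, pow_mul, inv_pow, hεr, inv_one, one_pow]
        · exact one_pow r
      · simpa [dd, a0, a3] using hne 1 one_pos (by omega)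
      · intro B μ hA hB hpair
        obtain ⟨b, hb2, hb⟩ := partner B hA hB a2
        have h2' := hpair _ _ hb
        obtain ⟨b3, -, hb3⟩ := partner B hA hB a3
        have h3' := hpair _ _ hb3
        obtain ⟨b0, -, hb0⟩ := partner B hA hB a0
        have h0' := hpair _ _ hb0
        have d2 : dd a2 = ε⁻¹ ^ 2 := by simp [dd, a2]
        have d3 : dd a3 = 1 := by simp [dd, a3]
        have d0 : dd a0 = ε := by simp [dd, a0]
        have hb' : dd b = ε ∨ dd b = 1 := by
          simp only [dd]
          have : (b : ℕ) ≠ 2 := fun h => hb2 (Fin.ext h)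
          split_ifs <;> simp
        have n1 := hne 1 one_pos (by omega)
        have n2 := hne 2 two_pos (by omega)
        have n3 := hne 3 (by norm_num) (by omega)
        have n4 := hne 4 (by norm_num) (by omega)
        rw [d2] at h2'
        rw [d3, one_mul] at h3'
        rw [d0] at h0'
        -- μ = ε⁻²
        have hμ : μ = ε⁻¹ ^ 2 := by
          rcases hb' with h | h <;> rw [h] at h2'
          · exfalso
            have hμ' : μ = ε⁻¹ := by rw [← h2']; field_simp
            rcases hval b3 with h3 | h3 | h3 <;> rw [h3] at h3' <;> rw [hμ'] at h3'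
            · exact n2 (by rw [pow_two]; nth_rewrite 2 [h3']; exact mul_inv_cancel₀ hε0)
            · exact n1 (by field_simp at h3'; linear_combination -h3')
            · exact n1 (by field_simp at h3'; linear_combination h3')
          · rw [← h2', mul_one]
        rw [hμ] at h0'
        rcases hval b0 with h0 | h0 | h0 <;> rw [h0] at h0' <;> field_simp at h0'
        · exact n4 (by linear_combination h0')
        · exact n1 (by linear_combination h0')
        · exact n3 (by linear_combination h0')
  -- no fixed vectors on a subspace of odd dimension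
  obtain ⟨k, hk, hk'⟩ := exists_odd_dvd hq hf (d := d) (by omega) (by omega) hrp hΩ
  have hidvd : i ∣ 2 * k + 3 := (CfsgLib.OrderR.orderOf_dvd_iff hq1).2 hk'
  have hiodd : Odd i := Odd.of_dvd_nat ⟨k + 1, by ring⟩ hidvd
  have hin : i ≤ n := (Nat.le_of_dvd (by omega) hidvd).trans (by omega)
  obtain ⟨x, hx, hfix⟩ := CfsgLib.OrderElt.exists_sl_move (n := n) hq hi (by omega) hin
  refine ⟨x, ⟨1, by rw [Matrix.SpecialLinearGroup.coe_pow, hx, one_smul]⟩, fun z hz => ?_, fun P hP => ?_⟩
  · set T : Module.End F (Fin n → F) := Matrix.toLinAlgEquiv' (x : Matrix (Fin n) (Fin n) F)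
    have hT1 : T - 1 = (z - 1) • 1 := by
      rw [show T = Matrix.toLinAlgEquiv' (x : Matrix (Fin n) (Fin n) F) from rfl, hz, map_smul, map_one]
      refine LinearMap.ext fun v => ?_
      simp [sub_smul]
    rw [hT1] at hfix
    by_cases hz1 : z = 1
    · rw [hz1, sub_self, zero_smul, LinearMap.ker_zero, finrank_top, Module.finrank_fin_fun] at hfix
      omega
    · rw [show LinearMap.ker ((z - 1) • (1 : Module.End F (Fin n → F))) = ⊥ by
        rw [LinearMap.ker_smul _ _ (sub_ne_zero.2 hz1)]; exact LinearMap.ker_id, finrank_bot] at hfix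
      rcases eq_or_lt_of_le hin with h | h
      · rw [h] at hiodd
        exact absurd ⟨d, hd⟩ (Nat.not_even_iff_odd.2 hiodd)
      · omega
  · obtain ⟨B, μ, hA, hB, hμ⟩ := exists_form hf _ P hP
    have h1 : μ = 1 := by
      have h := mult_pow hn0 hx B hB hμ
      have h0 : μ ≠ 0 := by rintro rfl; rw [zero_pow (by omega)] at h; exact zero_ne_one h
      have h2 : μ ^ (q - 1) = 1 := hq ▸ FiniteField.pow_card_sub_one_eq_one _ h0
      have hg : Nat.gcd r (q - 1) = 1 := by
        refine ((Fact.out : r.Prime).coprime_iff_not_dvd).2 fun hd' => hi1 ?_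
        have : orderOf (q : ZMod r) ∣ 1 := (CfsgLib.OrderR.orderOf_dvd_iff hq1).2 (by rwa [pow_one])
        rw [← hi, Nat.dvd_one] at this
        exact this
      have := pow_gcd_eq_one.2 ⟨h, h2⟩
      rwa [hg, pow_one] at this
    set T : Module.End F (Fin n → F) := Matrix.toLinAlgEquiv' (x : Matrix (Fin n) (Fin n) F) with hTdef
    have hTr : T ^ r = 1 := by rw [hTdef, ← map_pow, hx, map_one]
    obtain ⟨k', hk''⟩ := even_move B hA hB T
      (fun v w => by rw [hTdef, Matrix.toLinAlgEquiv'_apply, Matrix.toLinAlgEquiv'_apply, hμ, h1, one_mul]) hTr hr0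
    have hrn := LinearMap.finrank_range_add_finrank_ker (T - 1)
    rw [hfix, Module.finrank_fin_fun, hk''] at hrn
    obtain ⟨j, hj⟩ := hiodd
    omega

end Cfsg.Agent.S5968
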