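import Cfsg.Statements.S5969
import Cfsg.Agent.Lib.Maximal99.QuadStructure
import Cfsg.Agent.Lib.Maximal99.ConjTools

set_option autoImplicit false
open scoped MatrixGroups Matrix
open Cfsg

namespace Cfsg.Agent.S5969

open Module CfsgLib.QuadStructure

variable {F : Type*} [Field F] {V : Type*} [AddCommGroup V] [Module F V]

/-- `T` normalizes the field structure given by the quadratic operator `W`. -/
def Normalizes (T W : V →ₗ[F] V) : Prop :=
  ∃ u v : F, v ≠ 0 ∧ ∀ x, T (W x) = u • T x + v • W (T x)

/-- Both eigenspaces even-dimensional, or a single pair of opposite eigenvalues. -/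
lemma exists_op_eigen [FiniteDimensional F V] (h2 : (2 : F) ≠ 0) (T : V →ₗ[F] V) {c₀ : F} {l : ℕ}
    (hb : CfsgLib.SquareScalar.HasPairBasis T (c₀ * c₀) 0 l) (hl : Even l) (a b : F) (hD : b + a / 2 * (a / 2) ≠ 0)
    (hdet : LinearMap.det T = 1) (hns : ∀ w : F, ¬ ∀ v, T v = w • v)
    (hpar : l = 2 ∨ c₀ ^ l ≠ -1) : ∃ W : V →ₗ[F] V, IsQuadOp W a b ∧ Normalizes T W := by
  classical
  obtain ⟨b₀, μ, -, -, h3, h4⟩ := hb
  let bb := b₀.reindex (Equiv.emptySum _ _)
  have hTb : ∀ j, T (bb j) = μ j • bb j := fun j => by simpa [bb] using h3 j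
  have hμ : ∀ j, μ j = c₀ ∨ μ j = -c₀ := fun j => mul_self_eq_mul_self_iff.1 (h4 j)
  let P := {j : Fin l // μ j = c₀}
  let Q := {j : Fin l // ¬ μ j = c₀}
  have hPQ : Fintype.card P + Fintype.card Q = l := by
    rw [Fintype.card_subtype_compl, Fintype.card_fin]
    have := Fintype.card_subtype_le (fun j : Fin l => μ j = c₀)
    simp only [Fintype.card_fin] at this
    have e : Fintype.card P = Fintype.card {j : Fin l // μ j = c₀} := rfl
    omega
  have hdet' : c₀ ^ Fintype.card P * (-c₀) ^ Fintype.card Q = 1 := by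
    have hdiag : LinearMap.toMatrix bb bb T = Matrix.diagonal μ := by
      ext i j
      rw [LinearMap.toMatrix_apply, hTb, map_smul, Basis.repr_self, Finsupp.smul_apply, smul_eq_mul,
        Finsupp.single_apply, Matrix.diagonal_apply]
      by_cases hij : i = j <;> simp [hij, eq_comm]
    rw [← hdet, ← LinearMap.det_toMatrix bb, hdiag, Matrix.det_diagonal,
      ← Fintype.prod_subtype_mul_prod_subtype (fun j : Fin l => μ j = c₀) μ]
    congr 1
    · rw [Finset.prod_congr rfl (fun j _ => j.2), Finset.prod_const, Finset.card_univ]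
    · rw [Finset.prod_congr rfl (fun j _ => (hμ j.1).resolve_left j.2), Finset.prod_const, Finset.card_univ]
  rcases Nat.even_or_odd (Fintype.card Q) with hQ | hQ
  · obtain ⟨qq, hqq⟩ := hQ
    obtain ⟨pp, hpp⟩ : ∃ pp, Fintype.card P = pp + pp := by
      obtain ⟨h, hh⟩ := hl
      exact ⟨Fintype.card P / 2, by omega⟩
    let σ : (Fin pp ⊕ Fin qq) ⊕ (Fin pp ⊕ Fin qq) ≃ Fin l :=
      (Equiv.sumSumSumComm _ _ _ _).trans (((finSumFinEquiv.trans (Fintype.equivFinOfCardEq hpp).symm).sumCongr
        (finSumFinEquiv.trans (Fintype.equivFinOfCardEq hqq).symm)).trans (Equiv.sumCompl _))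
    let c := bb.reindex σ.symm
    let W := c.constr F (Sum.elim (fun i => c (.inr i)) (fun i => a • c (.inr i) + b • c (.inl i)))
    have hWl : ∀ i, W (c (.inl i)) = c (.inr i) := fun i => by simp [W]
    have hWr : ∀ i, W (c (.inr i)) = a • c (.inr i) + b • c (.inl i) := fun i => by simp [W]
    have hTc : ∀ i : Fin pp ⊕ Fin qq, ∃ k : F, T (c (.inl i)) = k • c (.inl i) ∧ T (c (.inr i)) = k • c (.inr i) := by
      intro i
      have hcb : ∀ x, c x = bb (σ x) := fun x => by simp [c]
      rcases i with i | i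
      · refine ⟨c₀, ?_, ?_⟩ <;> rw [hcb, hTb] <;> congr 1 <;>
          exact ((Fintype.equivFinOfCardEq hpp).symm _).2
      · refine ⟨-c₀, ?_, ?_⟩ <;> rw [hcb, hTb] <;> congr 1 <;>
          exact (hμ _).resolve_left ((Fintype.equivFinOfCardEq hqq).symm _).2
    refine ⟨W, fun v => ?_, 0, 1, one_ne_zero, fun v => ?_⟩
    · refine LinearMap.congr_fun (c.ext (f₁ := W ∘ₗ W) (f₂ := a • W + b • LinearMap.id) ?_) v
      rintro (i | i) <;> simp [hWl, hWr]
    · rw [zero_smul, zero_add, one_smul]
      refine LinearMap.congr_fun (c.ext (f₁ := T ∘ₗ W) (f₂ := W ∘ₗ T) ?_) v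
      rintro (i | i) <;> obtain ⟨k, h1, h2⟩ := hTc i <;>
        simp [hWl, hWr, h1, h2, smul_smul, mul_comm]
  · obtain rfl : l = 2 := by
      refine hpar.resolve_right fun hne => hne ?_
      rw [hQ.neg_pow, mul_neg, ← pow_add, hPQ, neg_eq_iff_eq_neg] at hdet'
      exact hdet'
    -- two opposite eigenvalues
    have hμne : μ 0 ≠ μ 1 := by
      intro h
      refine hns (μ 0) fun v => ?_
      refine LinearMap.congr_fun (bb.ext (f₁ := T) (f₂ := μ 0 • LinearMap.id) fun j => ?_) v
      fin_cases j <;> simp [hTb, h]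
    have hμ1 : μ 1 = -μ 0 :=
      (mul_self_eq_mul_self_iff.1 ((h4 1).trans (h4 0).symm)).resolve_left hμne.symm
    let W := bb.constr F ![(a / 2) • bb 0 + bb 1, (b + a / 2 * (a / 2)) • bb 0 + (a / 2) • bb 1]
    have hW0 : W (bb 0) = (a / 2) • bb 0 + bb 1 := by simp [W]
    have hW1 : W (bb 1) = (b + a / 2 * (a / 2)) • bb 0 + (a / 2) • bb 1 := by simp [W]
    have ha2 : a / 2 + a / 2 = a := by field_simp; ring
    refine ⟨W, fun v => ?_, a, -1, by simp, fun v => ?_⟩
    · refine LinearMap.congr_fun (bb.ext (f₁ := W ∘ₗ W) (f₂ := a • W + b • LinearMap.id) fun j => ?_) v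
      fin_cases j <;> simp only [LinearMap.comp_apply, LinearMap.add_apply, LinearMap.smul_apply, LinearMap.id_apply,
        Fin.zero_eta, Fin.mk_one, hW0, hW1, map_add, map_smul, smul_add, smul_smul]
      · match_scalars <;> first | linear_combination (a / 2) * ha2 | linear_combination ha2
      · match_scalars <;> first | linear_combination (b + a / 2 * (a / 2)) * ha2 | linear_combination (a / 2) * ha2
    · refine LinearMap.congr_fun (bb.ext (f₁ := T ∘ₗ W) (f₂ := a • T + (-1 : F) • (W ∘ₗ T)) fun j => ?_) v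
      fin_cases j <;> simp only [LinearMap.comp_apply, LinearMap.add_apply, LinearMap.smul_apply,
        Fin.zero_eta, Fin.mk_one, hW0, hW1, hTb, hμ1, map_add, map_smul, smul_add, smul_smul]
      · match_scalars <;> first | ring1 | linear_combination (μ 0) * ha2 | linear_combination (-μ 0) * ha2
      · match_scalars <;> first | ring1 | linear_combination (μ 0) * ha2 | linear_combination (-μ 0) * ha2

/-- Pairs over a square in characteristic 2: semilinear. -/
lemma exists_op_pairs [FiniteDimensional F V] (T : V →ₗ[F] V) {c₀ : F} {s : ℕ} (hc : c₀ ≠ 0)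
    (hb : CfsgLib.SquareScalar.HasPairBasis T (c₀ * c₀) s 0) (a b : F) (ha : a ≠ 0) :
    ∃ W : V →ₗ[F] V, IsQuadOp W a b ∧ Normalizes T W := by
  obtain ⟨b₀, μ, h1, h2, -, -⟩ := hb
  set β := b / (a * c₀) with hβ
  have hβ' : a * c₀ * β = b := by rw [hβ]; field_simp
  let f : (Fin s × Bool) ⊕ Fin 0 → V := fun x => match x with
    | .inl (i, false) => β • (c₀ • b₀ (.inl (i, false)) + b₀ (.inl (i, true))) + a • b₀ (.inl (i, false))
    | .inl (i, true) => (a * c₀) • b₀ (.inl (i, false)) -
        c₀ • (β • (c₀ • b₀ (.inl (i, false)) + b₀ (.inl (i, true))) + a • b₀ (.inl (i, false)))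
    | .inr j => j.elim0
  let W := b₀.constr F f
  have hW0 : ∀ i, W (b₀ (.inl (i, false))) = f (.inl (i, false)) := fun i => by simp [W]
  have hW1 : ∀ i, W (b₀ (.inl (i, true))) = f (.inl (i, true)) := fun i => by simp [W]
  refine ⟨W, fun v => ?_, a, -1, by simp, fun v => ?_⟩
  · refine LinearMap.congr_fun (b₀.ext (f₁ := W ∘ₗ W) (f₂ := a • W + b • LinearMap.id) ?_) v
    rintro (⟨i, _ | _⟩ | j)
    · simp only [LinearMap.comp_apply, LinearMap.add_apply, LinearMap.smul_apply, LinearMap.id_apply, hW0, hW1, f,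
        map_add, map_sub, map_smul]
      rw [← hβ']
      module
    · simp only [LinearMap.comp_apply, LinearMap.add_apply, LinearMap.smul_apply, LinearMap.id_apply, hW0, hW1, f,
        map_add, map_sub, map_smul]
      rw [← hβ']
      module
    · exact j.elim0
  · refine LinearMap.congr_fun (b₀.ext (f₁ := T ∘ₗ W) (f₂ := a • T + (-1 : F) • (W ∘ₗ T)) ?_) v
    rintro (⟨i, _ | _⟩ | j)
    · simp only [LinearMap.comp_apply, LinearMap.add_apply, LinearMap.smul_apply, hW0, hW1, h1, h2, f,
        map_add, map_sub, map_smul]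
      module
    · simp only [LinearMap.comp_apply, LinearMap.add_apply, LinearMap.smul_apply, hW0, hW1, h1, h2, f,
        map_add, map_sub, map_smul]
      module
    · exact j.elim0

/-- Involutions of PSL_n(q) and extension-field subgroups of degree 2. Here `T = PSL_n(F)` for a field `F` with `q = p^f` elements (`n ≥ 2`, `(n, q) ≠ (2, 2), (2, 3)`), `k` is a prime dividing `n`, `K` is a subalgebra of the `n × n` matrices that is a field of degree `k` over `F` (an extension-field structure F_{q^k} on `F^n`), and `H` is the subgroup of matrices of determinant 1 normalizing `K` — a subgroup of type GL_{n/k}(q^k) (maximal except in some small cases; maximality is not assumed); Ω is the set of cosets of `H` in `T`, so an element of `T` of prime order `r` (a matrix `x` of determinant 1 with `x^r` scalar, `x` not scalar) fixes a point of Ω when some conjugate of `x` by a matrix of determinant 1 normalizes `K`. Take `k = 2` and suppose the index of `H` is even. Then every involution of `T` is conjugate in `T` into `H` if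 and only if `n = 2`, or `q` is odd and `(q − 1)_2 ≤ (n)_2`. -/
theorem result {F : Type*} [Field F] [Fintype F] {p : ℕ} [Fact p.Prime] [CharP F p] {q : ℕ} (hq : Fintype.card F = q)
    (n : ℕ) (hn : 2 ≤ n) (hT : (n, q) ≠ (2, 2) ∧ (n, q) ≠ (2, 3))
    (k : ℕ) (hk : k.Prime) (hkn : k ∣ n) (K : Subalgebra F (Matrix (Fin n) (Fin n) F)) (hK : Cfsg.Geo.IsFieldSubalgebra k K) (hk2 : k = 2) (hΩ : 2 ∣ ((Cfsg.Geo.subalgebraNormalizer K).comap (Matrix.SpecialLinearGroup.toGL : Matrix.SpecialLinearGroup (Fin n) F →* GL (Fin n) F)).index) :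
    (∀ x : Matrix.SpecialLinearGroup (Fin n) F,
      (∃ z : F, ((x ^ 2 : Matrix.SpecialLinearGroup (Fin n) F) : Matrix (Fin n) (Fin n) F) = z • (1 : Matrix (Fin n) (Fin n) F)) →
      (∀ z : F, (x : Matrix (Fin n) (Fin n) F) ≠ z • (1 : Matrix (Fin n) (Fin n) F)) →
      ∃ P : Matrix.SpecialLinearGroup (Fin n) F, P⁻¹ * x * P ∈ ((Cfsg.Geo.subalgebraNormalizer K).comap (Matrix.SpecialLinearGroup.toGL : Matrix.SpecialLinearGroup (Fin n) F →* GL (Fin n) F))) ↔
    (n = 2 ∨ (Odd q ∧ padicValNat 2 (q - 1) ≤ padicValNat 2 n)) := by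
  classical
  subst hk2
  obtain ⟨W, a, b, hWK, hirr, hWW, hmem, huniq⟩ := exists_generator hK
  have hn0 : 0 < n := by omega
  have : Nonempty (Fin n) := ⟨⟨0, hn0⟩⟩
  obtain ⟨m, hm⟩ := hkn
  set Wl : (Fin n → F) →ₗ[F] (Fin n → F) := Matrix.toLin' W with hWldef
  have hWl : IsQuadOp Wl a b := fun v => by
    simp only [hWldef, Matrix.toLin'_apply, Matrix.mulVec_mulVec, hWW, Matrix.add_mulVec, Matrix.smul_mulVec,
      Matrix.one_mulVec]
  have hp2 : (2 : F) = 0 → ¬ Odd q := by
    intro h2 hodd
    have hp : p = 2 := (Nat.prime_dvd_prime_iff_eq Fact.out Nat.prime_two).1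
      ((CharP.cast_eq_zero_iff F p 2).1 (by exact_mod_cast h2))
    subst hp
    obtain ⟨e, -, he⟩ := FiniteField.card F 2
    rw [← hq, he, Nat.odd_pow_iff e.ne_zero] at hodd
    exact absurd hodd (by decide)
  constructor
  · intro hall
    by_contra hcon
    push Not at hcon
    obtain ⟨hn2, hcon⟩ := hcon
    have hn4 : 4 ≤ n := by omega
    obtain ⟨j₀, rfl⟩ : ∃ j, n = j + 1 := ⟨n - 1, by omega⟩
    -- from a conjugate in the normaliser to a normalized structure
    have get : ∀ x : Matrix.SpecialLinearGroup (Fin (j₀ + 1)) F,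
        (∃ P : Matrix.SpecialLinearGroup (Fin (j₀ + 1)) F, P⁻¹ * x * P ∈
          (Cfsg.Geo.subalgebraNormalizer K).comap (Matrix.SpecialLinearGroup.toGL : Matrix.SpecialLinearGroup (Fin (j₀ + 1)) F →* GL (Fin (j₀ + 1)) F)) →
        ∃ W' : Matrix (Fin (j₀ + 1)) (Fin (j₀ + 1)) F, W' * W' = a • W' + b • (1 : Matrix (Fin (j₀ + 1)) (Fin (j₀ + 1)) F) ∧
          ((x : Matrix (Fin (j₀ + 1)) (Fin (j₀ + 1)) F) * W' = W' * (x : Matrix (Fin (j₀ + 1)) (Fin (j₀ + 1)) F) ∨
            (x : Matrix (Fin (j₀ + 1)) (Fin (j₀ + 1)) F) * W' =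
              (a • (1 : Matrix (Fin (j₀ + 1)) (Fin (j₀ + 1)) F) - W') * (x : Matrix (Fin (j₀ + 1)) (Fin (j₀ + 1)) F)) := by
      rintro x ⟨P, hP⟩
      set p' : GL (Fin (j₀ + 1)) F := Matrix.SpecialLinearGroup.toGL P with hp'
      set x' : GL (Fin (j₀ + 1)) F := Matrix.SpecialLinearGroup.toGL x with hx'
      rw [Subgroup.mem_comap, map_mul, map_mul, map_inv, ← hp', ← hx'] at hP
      have h := (hP W).1 hWK
      simp only [Units.val_mul, mul_inv_rev, inv_inv] at h
      set Pm : Matrix (Fin (j₀ + 1)) (Fin (j₀ + 1)) F := (p' : Matrix (Fin (j₀ + 1)) (Fin (j₀ + 1)) F) with hPm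
      set Pi' : Matrix (Fin (j₀ + 1)) (Fin (j₀ + 1)) F := ((p'⁻¹ : GL (Fin (j₀ + 1)) F) : Matrix (Fin (j₀ + 1)) (Fin (j₀ + 1)) F) with hPi
      set X : Matrix (Fin (j₀ + 1)) (Fin (j₀ + 1)) F := (x' : Matrix (Fin (j₀ + 1)) (Fin (j₀ + 1)) F) with hX
      set Xi : Matrix (Fin (j₀ + 1)) (Fin (j₀ + 1)) F := ((x'⁻¹ : GL (Fin (j₀ + 1)) F) : Matrix (Fin (j₀ + 1)) (Fin (j₀ + 1)) F) with hXi
      have e1 : Pm * Pi' = 1 := p'.mul_inv
      have e2 : Pi' * Pm = 1 := p'.inv_mul
      have e3 : X * Xi = 1 := x'.mul_inv
      have e4 : Xi * X = 1 := x'.inv_mul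
      have cancelP : ∀ Y, Pi' * (Pm * Y) = Y := fun Y => by rw [← mul_assoc, e2, one_mul]
      have cancelP' : ∀ Y, Pm * (Pi' * Y) = Y := fun Y => by rw [← mul_assoc, e1, one_mul]
      have cancelX : ∀ Y, Xi * (X * Y) = Y := fun Y => by rw [← mul_assoc, e4, one_mul]
      set M := Pi' * X * Pm * W * (Pi' * (Xi * Pm)) with hM
      have hMM : M * M = a • M + b • (1 : Matrix (Fin (j₀ + 1)) (Fin (j₀ + 1)) F) := by
        have : M * M = Pi' * X * Pm * (W * W) * (Pi' * (Xi * Pm)) := by
          simp only [hM, mul_assoc, cancelP', cancelX, cancelP]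
        rw [this, hWW, mul_add, add_mul, Matrix.mul_smul, Matrix.smul_mul, Matrix.mul_smul, Matrix.smul_mul, mul_one]
        simp only [hM, mul_assoc, cancelP']
        rw [show X * (Xi * Pm) = Pm by rw [← mul_assoc, e3, one_mul], e2]
      have hW' : Pm * W * Pi' * (Pm * W * Pi') = a • (Pm * W * Pi') + b • (1 : Matrix (Fin (j₀ + 1)) (Fin (j₀ + 1)) F) := by
        have : Pm * W * Pi' * (Pm * W * Pi') = Pm * (W * W) * Pi' := by simp only [mul_assoc, cancelP]
        rw [this, hWW, mul_add, add_mul, Matrix.mul_smul, Matrix.smul_mul, Matrix.mul_smul, Matrix.smul_mul, mul_one, e1]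
      have hX0 : X * (Pm * W * Pi') = (Pm * M * Pi') * X := by
        simp only [hM, mul_assoc, cancelP']
        rw [e4, mul_one]
      refine ⟨Pm * W * Pi', hW', ?_⟩
      show X * _ = _ * X ∨ X * _ = _ * X
      rw [hX0]
      rcases huniq M h hMM with h1 | h1
      · exact Or.inl (by rw [h1])
      · refine Or.inr ?_
        rw [h1, mul_sub, sub_mul, Matrix.mul_smul, mul_one, Matrix.smul_mul, e1]
    by_cases h2 : (2 : F) = 0
    · -- a transvection
      have hne : (0 : Fin (j₀ + 1)) ≠ ⟨1, by omega⟩ := by simp [Fin.ext_iff]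
      obtain ⟨W', hW', hx⟩ := get _ (hall (Matrix.SpecialLinearGroup.transvection hne (1 : F)) ⟨1, by
        show Matrix.transvection _ _ _ ^ 2 = _
        rw [pow_two, Matrix.transvection_mul_transvection_same _ _ hne, one_add_one_eq_two, h2, Matrix.transvection_zero,
          one_smul]⟩ (fun w hw => by
        have e := congrFun (congrFun hw 0) ⟨1, by omega⟩
        simp [Matrix.SpecialLinearGroup.transvection, Matrix.transvection, Matrix.one_apply_ne hne] at e))
      set E : Matrix (Fin (j₀ + 1)) (Fin (j₀ + 1)) F := Matrix.single 0 ⟨1, by omega⟩ 1 with hE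
      change (1 + E) * W' = W' * (1 + E) ∨ (1 + E) * W' = (a • (1 : Matrix (Fin (j₀ + 1)) (Fin (j₀ + 1)) F) - W') * (1 + E) at hx
      have hEv : ∀ v, E *ᵥ v = v ⟨1, by omega⟩ • Pi.single 0 1 := fun v => by
        funext i
        by_cases hi : i = 0 <;> simp [hE, hi, Matrix.single_mulVec, Function.update_apply, mul_comm]
      rcases hx with hx | hx
      · rw [add_mul, mul_add, one_mul, mul_one, add_right_inj] at hx
        set r := W' ⟨1, by omega⟩ ⟨1, by omega⟩
        have h := congrArg (· *ᵥ (Pi.single ⟨1, by omega⟩ (1 : F))) hx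
        simp only [← Matrix.mulVec_mulVec, hEv, Pi.single_eq_same, one_smul] at h
        rw [show (W' *ᵥ Pi.single ⟨1, by omega⟩ 1) ⟨1, by omega⟩ = r by simp [r]] at h
        have h2' := congrArg (W' *ᵥ ·) h
        simp only [Matrix.mulVec_mulVec, hW', Matrix.add_mulVec, Matrix.smul_mulVec, Matrix.one_mulVec, Matrix.mulVec_smul] at h2'
        rw [← h] at h2'
        have h3 := congrFun h2' 0
        simp only [Pi.smul_apply, Pi.add_apply, Pi.single_eq_same, smul_eq_mul, mul_one] at h3
        exact hirr r h3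
      · have key : a • (1 + E) = E * W' + W' * E := by
          have hneg : ∀ M : Matrix (Fin (j₀ + 1)) (Fin (j₀ + 1)) F, M + M = 0 := fun M => by rw [← two_smul F, h2, zero_smul]
          rw [sub_mul, Matrix.smul_mul, one_mul, eq_sub_iff_add_eq, add_mul, mul_add, one_mul, mul_one] at hx
          rw [← hx, show W' + E * W' + (W' + W' * E) = W' + W' + (E * W' + W' * E) by abel, hneg, zero_add]
        have ha : a ≠ 0 := by
          rintro rfl
          obtain ⟨r, hr⟩ := FiniteField.isSquare_of_char_two (CharP.ringChar_of_prime_eq_zero Nat.prime_two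
            (by exact_mod_cast h2)) b
          exact hirr r (by rw [zero_mul, zero_add, ← hr])
        have hrange : ∀ v, (1 + E) *ᵥ v ∈ Submodule.span F {(Pi.single 0 1 : Fin (j₀ + 1) → F), W' *ᵥ Pi.single 0 1} := by
          intro v
          have h := congrArg (· *ᵥ v) key
          simp only [Matrix.smul_mulVec, Matrix.add_mulVec, ← Matrix.mulVec_mulVec, hEv, Matrix.mulVec_smul] at h
          rw [show (1 + E) *ᵥ v = a⁻¹ • (a • ((1 + E) *ᵥ v)) by rw [inv_smul_smul₀ ha]]
          refine Submodule.smul_mem _ _ ?_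
          rw [Submodule.mem_span_pair]
          exact ⟨_, _, by rw [Matrix.add_mulVec, hEv]; exact h.symm⟩
        have htop : Submodule.span F {(Pi.single 0 1 : Fin (j₀ + 1) → F), W' *ᵥ Pi.single 0 1} = ⊤ := by
          refine Submodule.eq_top_iff'.2 fun w => ?_
          have hEE : E * E = 0 := by rw [hE, Matrix.single_mul_single_of_ne _ _ _ _ hne.symm]
          have := hrange ((1 - E) *ᵥ w)
          rwa [Matrix.mulVec_mulVec, show (1 + E) * (1 - E) = 1 by rw [add_mul, mul_sub, mul_sub, one_mul, one_mul, mul_one, hEE]; abel,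
            Matrix.one_mulVec] at this
        have := finrank_span_le_card (R := F) ({(Pi.single 0 1 : Fin (j₀ + 1) → F), W' *ᵥ Pi.single 0 1} : Set (Fin (j₀ + 1) → F))
        rw [htop, finrank_top, Module.finrank_fin_fun, Set.toFinset_card] at this
        have h3 : Fintype.card ({(Pi.single 0 1 : Fin (j₀ + 1) → F), W' *ᵥ Pi.single 0 1} : Set (Fin (j₀ + 1) → F)) ≤ 2 := by
          rw [← Set.toFinset_card, Set.toFinset_insert, Set.toFinset_singleton]
          exact Finset.card_le_two
        omega
    · -- one eigenvalue of the other sign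
      have hodd : Odd q := by
        obtain ⟨e, -, he⟩ := FiniteField.card F p
        rw [← hq, he]
        refine ((Fact.out : p.Prime).odd_of_ne_two fun h => h2 ?_).pow
        subst h
        exact_mod_cast CharP.cast_eq_zero F 2
      obtain ⟨c, hc⟩ := (CfsgLib.ConjTools.exists_pow_eq_neg_one_iff hq h2 hn0).2 (hcon hodd)
      have hc0 : c ≠ 0 := by rintro rfl; rw [zero_pow (by omega)] at hc; simp at hc
      let dd : Fin (j₀ + 1) → F := Fin.cons (-c) fun _ => c
      have hdet : (Matrix.diagonal dd).det = 1 := by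
        rw [Matrix.det_diagonal, Fin.prod_univ_succ]
        simp only [dd, Fin.cons_zero, Fin.cons_succ, Finset.prod_const, Finset.card_univ, Fintype.card_fin]
        rw [neg_mul, ← pow_succ', hc, neg_neg]
      obtain ⟨W', hW', hx⟩ := get _ (hall ⟨Matrix.diagonal dd, hdet⟩ ⟨c * c, by
        show Matrix.diagonal dd ^ 2 = _
        rw [Matrix.diagonal_pow, Matrix.smul_one_eq_diagonal]
        congr 1
        funext i
        refine Fin.cases ?_ ?_ i <;> simp [dd, pow_two]⟩ (fun w hw => by
        have e0 : -c = w := by simpa [dd] using congrFun (congrFun hw 0) 0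
        have e1 : c = w := by simpa [dd] using congrFun (congrFun hw (Fin.succ ⟨0, by omega⟩)) (Fin.succ ⟨0, by omega⟩)
        rw [← e1, neg_eq_iff_add_eq_zero, ← two_mul] at e0
        exact mul_ne_zero h2 hc0 e0))
      change Matrix.diagonal dd * W' = W' * Matrix.diagonal dd ∨
        Matrix.diagonal dd * W' = (a • (1 : Matrix (Fin (j₀ + 1)) (Fin (j₀ + 1)) F) - W') * Matrix.diagonal dd at hx
      have hne' : -c ≠ c := fun h => mul_ne_zero h2 hc0 (by linear_combination -h)
      rcases hx with hx | hx
      · have hoff : ∀ i : Fin j₀, W' i.succ 0 = 0 := by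
          intro i
          have := congrFun (congrFun hx i.succ) 0
          simp only [Matrix.diagonal_mul, Matrix.mul_diagonal, dd, Fin.cons_zero, Fin.cons_succ] at this
          exact (mul_eq_zero.1 (show (c - -c) * W' i.succ 0 = 0 by linear_combination this)).resolve_left
            (sub_ne_zero.2 hne'.symm)
        have := congrFun (congrFun hW' 0) 0
        rw [Matrix.mul_apply, Fin.sum_univ_succ, Finset.sum_eq_zero (fun i _ => by rw [hoff, mul_zero]), add_zero] at this
        simp only [Matrix.add_apply, Matrix.smul_apply, Matrix.one_apply_eq, smul_eq_mul, mul_one] at this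
        exact hirr _ this
      · set h := a / 2
        have hblock : ∀ i j : Fin j₀, W' i.succ j.succ = if i = j then h else 0 := by
          intro i j
          have := congrFun (congrFun hx i.succ) j.succ
          simp only [Matrix.diagonal_mul, Matrix.mul_diagonal, Matrix.sub_apply, Matrix.smul_apply, smul_eq_mul,
            dd, Fin.cons_succ, Matrix.one_apply, Fin.succ_inj] at this
          split_ifs at this ⊢ with hij
          · refine mul_left_cancel₀ h2 ?_
            rw [mul_div_cancel₀ a h2]
            exact mul_left_cancel₀ hc0 (by linear_combination this)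
          · refine (mul_eq_zero.1 (show (2 * c) * W' i.succ j.succ = 0 by linear_combination this)).resolve_left
              (mul_ne_zero h2 hc0)
        set i1 : Fin j₀ := ⟨0, by omega⟩
        set i2 : Fin j₀ := ⟨1, by omega⟩
        have h12 : i1 ≠ i2 := by simp [i1, i2]
        have entry : ∀ i j : Fin j₀, W' i.succ 0 * W' 0 j.succ = if i = j then a * h + b - h * h else 0 := by
          intro i j
          have := congrFun (congrFun hW' i.succ) j.succ
          rw [Matrix.mul_apply, Fin.sum_univ_succ] at this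
          simp only [hblock, Matrix.add_apply, Matrix.smul_apply, Matrix.one_apply, Fin.succ_inj, smul_eq_mul] at this
          rw [Finset.sum_eq_single i (fun l _ hl => by simp [Ne.symm hl]) (by simp)] at this
          simp only [if_true] at this
          split_ifs at this ⊢ with hij
          · linear_combination this
          · linear_combination this
        have hD : a * h + b - h * h ≠ 0 := by
          intro h0
          exact hirr h (by linear_combination -h0)
        have e11 := entry i1 i1
        have e22 := entry i2 i2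
        have e12 := entry i1 i2
        rw [if_pos rfl] at e11 e22
        rw [if_neg h12] at e12
        rcases mul_eq_zero.1 e12 with h0 | h0
        · rw [h0, zero_mul] at e11; exact hD e11.symm
        · rw [h0, mul_zero] at e22; exact hD e22.symm
  · intro hR x hx1 hx2
    obtain ⟨z, hz⟩ := hx1
    have hz0 : z ≠ 0 := by
      rintro rfl
      have h := congrArg Matrix.det hz
      rw [zero_smul, Matrix.det_zero, (x ^ 2).2] at h
      exact zero_ne_one h.symm
    set T : (Fin n → F) →ₗ[F] (Fin n → F) := Matrix.toLin' (x : Matrix (Fin n) (Fin n) F) with hTdef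
    have hT : ∀ v, T (T v) = z • v := fun v => by
      rw [hTdef, Matrix.toLin'_apply, Matrix.toLin'_apply, Matrix.mulVec_mulVec, ← pow_two,
        ← Matrix.SpecialLinearGroup.coe_pow, hz, Matrix.smul_mulVec, Matrix.one_mulVec]
    have hns : ∀ w : F, ¬ ∀ v, T v = w • v := fun w h => hx2 w (by
      apply Matrix.toLin'.injective
      rw [map_smul, Matrix.toLin'_one]
      exact LinearMap.ext h)
    obtain ⟨W', hW', ⟨u, v, hv, hTW⟩, hD⟩ : ∃ W' : (Fin n → F) →ₗ[F] (Fin n → F), IsQuadOp W' a b ∧ Normalizes T W' ∧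
        CfsgLib.ConjTools.DetSurj T := by
      by_cases hsq : IsSquare z
      · obtain ⟨c₀, rfl⟩ := hsq
        have hc0 : c₀ ≠ 0 := left_ne_zero_of_mul hz0
        by_cases h2 : (2 : F) = 0
        · -- here `n = 2`
          have hn2 : n = 2 := hR.resolve_right fun h => hp2 h2 h.1
          obtain ⟨s, l, hb⟩ := CfsgLib.SquareScalar.hasPairBasis_of_square_two h2 T c₀ hT
          have hsum : 2 * s + l = n := by
            obtain ⟨b₀, -⟩ := hb
            have := Module.finrank_eq_card_basis b₀
            simp only [Module.finrank_fin_fun, Fintype.card_sum, Fintype.card_prod, Fintype.card_fin, Fintype.card_bool] at this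
            omega
          have hD := CfsgLib.ConjTools.detSurj hb hz0 (by omega) (Or.inr (Or.inl h2))
          rcases Nat.eq_zero_or_pos s with rfl | hs
          · exfalso
            obtain ⟨b₀, μ, -, -, h3, h4⟩ := hb
            refine hns c₀ fun w => LinearMap.congr_fun (b₀.ext (f₁ := T) (f₂ := c₀ • LinearMap.id) ?_) w
            rintro (⟨i, _⟩ | j)
            · exact i.elim0
            · rw [h3, LinearMap.smul_apply, LinearMap.id_apply]
              congr 1
              rcases mul_self_eq_mul_self_iff.1 (h4 j) with h | h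
              · exact h
              · rw [h]; linear_combination (-c₀) * h2
          · obtain rfl : l = 0 := by omega
            have ha : a ≠ 0 := by
              rintro rfl
              obtain ⟨r, hr⟩ := FiniteField.isSquare_of_char_two (CharP.ringChar_of_prime_eq_zero Nat.prime_two
                (by exact_mod_cast h2)) b
              exact hirr r (by rw [zero_mul, zero_add, ← hr])
            obtain ⟨W', h1, h2'⟩ := exists_op_pairs T hc0 hb a b ha
            exact ⟨W', h1, h2', hD⟩
        · obtain ⟨l, hb⟩ := CfsgLib.SquareScalar.hasPairBasis_of_square h2 T c₀ hc0 hT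
          have hln : l = n := by
            obtain ⟨b₀, -⟩ := hb
            have := Module.finrank_eq_card_basis b₀
            simp at this
            omega
          obtain ⟨W', h1, h2'⟩ := exists_op_eigen h2 T hb ⟨m, by omega⟩ a b
            (fun h0 => hirr (a / 2) (by field_simp at h0 ⊢; linear_combination -h0))
            (by rw [hTdef, LinearMap.det_toLin']; exact x.2) hns (by
              rcases hR with h | ⟨-, h⟩
              · exact Or.inl (hln.trans h)
              · right
                intro hc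
                have := (CfsgLib.ConjTools.exists_pow_eq_neg_one_iff hq h2 hn0).1 ⟨c₀, hln ▸ hc⟩
                omega)
          exact ⟨W', h1, h2', CfsgLib.ConjTools.detSurj_of_eigen hb (by omega)⟩
      · -- `T` generates a quadratic extension
        have hchar : ringChar F ≠ 2 := fun h => hsq (FiniteField.isSquare_of_char_two h z)
        have h2 : (2 : F) ≠ 0 := fun h => hchar (CharP.ringChar_of_prime_eq_zero Nat.prime_two (by exact_mod_cast h))
        obtain ⟨δ, hδ⟩ : IsSquare ((b + a / 2 * (a / 2)) * z) := by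
          have hD : ¬ IsSquare (b + a / 2 * (a / 2)) := by
            rintro ⟨r, hr⟩
            exact hirr (r + a / 2) (by field_simp at hr ⊢; linear_combination -hr)
          have hne : (b + a / 2 * (a / 2)) * z ≠ 0 := mul_ne_zero (fun h => hD (by rw [h]; exact IsSquare.zero)) hz0
          rw [← quadraticChar_one_iff_isSquare hne, map_mul, quadraticChar_neg_one_iff_not_isSquare.2 hD,
            quadraticChar_neg_one_iff_not_isSquare.2 hsq]
          norm_num
        obtain ⟨s, hb⟩ := CfsgLib.SquareScalar.hasPairBasis_of_not_square T z hT hsq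
        have hs : 0 < s + 0 := by
          obtain ⟨b₀, -⟩ := hb
          have := Module.finrank_eq_card_basis b₀
          simp at this
          omega
        refine ⟨(a / 2) • LinearMap.id + (δ / z) • T, fun w => ?_, ⟨0, 1, one_ne_zero, fun w => ?_⟩,
          CfsgLib.ConjTools.detSurj hb hz0 hs (Or.inr (Or.inr hsq))⟩
        · simp only [LinearMap.add_apply, LinearMap.smul_apply, LinearMap.id_apply, map_add, map_smul, hT, smul_add, smul_smul]
          match_scalars
          · field_simp
            field_simp at hδ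
            linear_combination (-1 : F) * hδ
          · field_simp
            ring
        · simp [map_add, map_smul]
    obtain ⟨g, hg⟩ := exists_conj hWl hW' hirr
    obtain ⟨P, hP⟩ := CfsgLib.ConjTools.exists_sl_conj x g hD
    refine ⟨P, ?_⟩
    set M : Matrix (Fin n) (Fin n) F := ((P⁻¹ * x * P : Matrix.SpecialLinearGroup (Fin n) F) : Matrix (Fin n) (Fin n) F) with hMdef
    have hMW : M * W = (u • (1 : Matrix (Fin n) (Fin n) F) + v • W) * M := by
      refine Matrix.ext_of_mulVec_single fun i => ?_
      set e : Fin n → F := Pi.single i 1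
      rw [← Matrix.mulVec_mulVec, ← Matrix.mulVec_mulVec, Matrix.add_mulVec, Matrix.smul_mulVec, Matrix.smul_mulVec,
        Matrix.one_mulVec, hP, hP, show W *ᵥ e = Wl e by rw [hWldef, Matrix.toLin'_apply]]
      rw [hg]
      show g.symm (Matrix.toLin' (x : Matrix (Fin n) (Fin n) F) (W' (g e))) = _
      rw [← hTdef, hTW, map_add, map_smul, map_smul]
      congr 2
      rw [LinearEquiv.symm_apply_eq, ← Matrix.toLin'_apply W, ← hWldef, hg, LinearEquiv.apply_symm_apply]
      rfl
    show ∀ k : Matrix (Fin n) (Fin n) F, k ∈ K ↔ M * k *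
      ((((Matrix.SpecialLinearGroup.toGL (P⁻¹ * x * P))⁻¹ : GL (Fin n) F)) : Matrix (Fin n) (Fin n) F) ∈ K
    intro k
    set Mi : Matrix (Fin n) (Fin n) F :=
      ((((Matrix.SpecialLinearGroup.toGL (P⁻¹ * x * P))⁻¹ : GL (Fin n) F)) : Matrix (Fin n) (Fin n) F) with hMi
    have e1 : M * Mi = 1 := (Matrix.SpecialLinearGroup.toGL (P⁻¹ * x * P)).mul_inv
    have e2 : Mi * M = 1 := (Matrix.SpecialLinearGroup.toGL (P⁻¹ * x * P)).inv_mul
    have fwd : ∀ α β : F, M * (α • (1 : Matrix (Fin n) (Fin n) F) + β • W) * Mi =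
        (α + β * u) • (1 : Matrix (Fin n) (Fin n) F) + (β * v) • W := by
      intro α β
      rw [mul_add, add_mul, Matrix.mul_smul, Matrix.smul_mul, mul_one, e1, Matrix.mul_smul, Matrix.smul_mul, hMW,
        mul_assoc, e1, mul_one, smul_add, smul_smul, smul_smul, add_smul, add_assoc]
    constructor
    · intro hk'
      obtain ⟨α, β, rfl⟩ := (hmem k).1 hk'
      rw [fwd]
      exact (hmem _).2 ⟨_, _, rfl⟩
    · intro hk'
      obtain ⟨α, β, hab⟩ := (hmem _).1 hk'
      refine (hmem k).2 ⟨α - β / v * u, β / v, ?_⟩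
      have e : M * ((α - β / v * u) • (1 : Matrix (Fin n) (Fin n) F) + (β / v) • W) * Mi = M * k * Mi := by
        rw [fwd, hab, sub_add_cancel, div_mul_cancel₀ β hv]
      calc k = Mi * (M * k * Mi) * M := by rw [mul_assoc M k, ← mul_assoc Mi M, e2, one_mul, mul_assoc, e2, mul_one]
        _ = _ := by rw [← e, mul_assoc M, ← mul_assoc Mi M, e2, one_mul, mul_assoc, e2, mul_one]

end Cfsg.Agent.S5969
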