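import Cfsg.Statements.S5970
import Cfsg.Agent.Lib.Maximal99.SingerConj
import Cfsg.Agent.Lib.Maximal99.OrderElt

set_option autoImplicit false
open scoped MatrixGroups
open scoped Matrix
open Cfsg

namespace Cfsg.Agent.S5970

/-- Elements of order `n` of PSL_n(q), `n` prime, and the normalizer of a Singer cycle. Here `T = PSL_n(F)` for a field `F` with `q = p^f` elements (`n ≥ 2`, `(n, q) ≠ (2, 2), (2, 3)`), `k` is a prime dividing `n`, `K` is a subalgebra of the `n × n` matrices that is a field of degree `k` over `F` (an extension-field structure F_{q^k} on `F^n`), and `H` is the subgroup of matrices of determinant 1 normalizing `K` — a subgroup of type GL_{n/k}(q^k) (maximal except in some small cases; maximality is not assumed); Ω is the set of cosets of `H` in `T`, so an element of `T` of prime order `r` (a matrix `x` of determinant 1 with `x^r` scalar, `x` not scalar) fixes a point of Ω when some conjugate of `x` by a matrix of determinant 1 normalizes `K`. Take `k = n > 3` prime with `n ≠ p` (so `H`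 is the normalizer of a Singer cycle), and suppose `n` divides the index of `H`. Then every element of `T` of order `n` is conjugate in `T` into `H` if and only if the multiplicative order of `q` modulo `n` is `n − 1`. -/
theorem result {F : Type*} [Field F] [Fintype F] {p : ℕ} [Fact p.Prime] [CharP F p] {q : ℕ} (hq : Fintype.card F = q)
    (n : ℕ) (hn : 2 ≤ n) (hT : (n, q) ≠ (2, 2) ∧ (n, q) ≠ (2, 3))
    (k : ℕ) (hk : k.Prime) (hkn : k ∣ n) (K : Subalgebra F (Matrix (Fin n) (Fin n) F)) (hK : Cfsg.Geo.IsFieldSubalgebra k K) (hkn' : k = n) (hn3 : 3 < n) (hnp : n ≠ p) (hΩ : n ∣ ((Cfsg.Geo.subalgebraNormalizer K).comap (Matrix.SpecialLinearGroup.toGL : Matrix.SpecialLinearGroup (Fin n) F →* GL (Fin n) F)).index) :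
    (∀ x : Matrix.SpecialLinearGroup (Fin n) F,
      (∃ z : F, ((x ^ n : Matrix.SpecialLinearGroup (Fin n) F) : Matrix (Fin n) (Fin n) F) = z • (1 : Matrix (Fin n) (Fin n) F)) →
      (∀ z : F, (x : Matrix (Fin n) (Fin n) F) ≠ z • (1 : Matrix (Fin n) (Fin n) F)) →
      ∃ P : Matrix.SpecialLinearGroup (Fin n) F, P⁻¹ * x * P ∈ ((Cfsg.Geo.subalgebraNormalizer K).comap (Matrix.SpecialLinearGroup.toGL : Matrix.SpecialLinearGroup (Fin n) F →* GL (Fin n) F))) ↔
    orderOf (q : ZMod n) = n - 1 := by
  classical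
  subst hkn'
  haveI : Fact k.Prime := ⟨hk⟩
  haveI : NeZero k := ⟨hk.ne_zero⟩
  have hn0 : (k : F) ≠ 0 := by
    rw [Ne, CharP.cast_eq_zero_iff F p]
    intro h
    exact hnp ((Nat.prime_dvd_prime_iff_eq Fact.out hk).1 h).symm
  refine ⟨fun hall => ?_, fun ho x hx hns =>
    CfsgLib.SingerConj.exists_conj_mem_of_order hq (by omega) ho hn0 hK x hx hns⟩
  by_contra hne
  have hqp : (q : ZMod k) ≠ 0 := by
    rw [Ne, ZMod.natCast_eq_zero_iff]
    intro h
    obtain ⟨m, hp', hqm⟩ := FiniteField.card F p
    rw [hq] at hqm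
    rw [hqm] at h
    exact hnp ((Nat.prime_dvd_prime_iff_eq hk Fact.out).1 (hk.dvd_of_dvd_pow h))
  set i := orderOf (q : ZMod k) with hi
  have hdvd : i ∣ k - 1 := ZMod.orderOf_dvd_card_sub_one hqp
  have hi0 : 0 < i := Nat.pos_of_dvd_of_pos hdvd (by omega)
  have hile : i + 2 ≤ k := by
    have := Nat.le_of_dvd (by omega) hdvd
    omega
  rcases Nat.eq_or_lt_of_le (show 1 ≤ i from hi0) with h1 | h1
  · -- `k` divides `q - 1`
    have hk1 : k ∣ q - 1 := by
      have h := (CfsgLib.OrderR.orderOf_dvd_iff (r := k) (q := q) (m := 1) (by rw [← hq]; exact Fintype.card_pos)).1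
        (by rw [← hi, ← h1])
      rwa [pow_one] at h
    obtain ⟨ζ, hζ⟩ := exists_prime_orderOf_dvd_card' (G := Fˣ) k
      (by rw [Nat.card_eq_fintype_card, Fintype.card_units, hq]; exact hk1)
    let i0 : Fin k := ⟨0, by omega⟩
    let i1 : Fin k := ⟨1, by omega⟩
    let i2 : Fin k := ⟨2, by omega⟩
    let i3 : Fin k := ⟨3, by omega⟩
    let dg : Fin k → F := fun i => if i = i0 then (ζ : F) else if i = i1 then ((ζ⁻¹ : Fˣ) : F) else 1
    have hdet : (Matrix.diagonal dg).det = 1 := by
      rw [Matrix.det_diagonal, Finset.prod_eq_mul i0 i1 (by simp [i0, i1])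
        (fun i _ hi => by simp [dg, hi.1, hi.2]) (by simp) (by simp)]
      simp [dg, i0, i1]
    let x : Matrix.SpecialLinearGroup (Fin k) F := ⟨Matrix.diagonal dg, hdet⟩
    have hxk : (x : Matrix (Fin k) (Fin k) F) ^ k = (1 : F) • (1 : Matrix (Fin k) (Fin k) F) := by
      show Matrix.diagonal dg ^ k = _
      rw [one_smul, Matrix.diagonal_pow, ← Matrix.diagonal_one]
      congr 1
      funext i
      show dg i ^ k = 1
      simp only [dg]
      split_ifs
      · rw [← Units.val_pow_eq_pow_val, ← hζ, pow_orderOf_eq_one, Units.val_one]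
      · rw [← Units.val_pow_eq_pow_val, inv_pow, ← hζ, pow_orderOf_eq_one, inv_one, Units.val_one]
      · exact one_pow k
    have hxns : ∀ c : F, (x : Matrix (Fin k) (Fin k) F) ≠ c • (1 : Matrix (Fin k) (Fin k) F) := by
      intro c h
      have e0 : (ζ : F) = c := by simpa [x, dg] using congrFun (congrFun h i0) i0
      have e2 : (1 : F) = c := by simpa [x, dg, i0, i1, i2] using congrFun (congrFun h i2) i2
      have : ζ = 1 := Units.ext (by rw [e0, ← e2, Units.val_one])
      rw [this, orderOf_one] at hζ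
      exact hk.one_lt.ne hζ
    refine CfsgLib.SingerConj.not_conj_mem hk hK x hxk hxns (c := 1)
      (v := Pi.single i2 1) (w := Pi.single i3 1) ?_ ?_ ?_ (hall x ⟨1, by rw [Matrix.SpecialLinearGroup.coe_pow, hxk]⟩ hxns)
    · refine LinearIndependent.pair_iff.2 fun s t h => ⟨?_, ?_⟩
      · simpa [i2, i3] using congrFun h i2
      · simpa [i2, i3] using congrFun h i3
    · funext j
      show (Matrix.diagonal dg *ᵥ _) j = _
      rw [Matrix.mulVec_diagonal]
      by_cases hj : j = i2
      · subst hj; simp [dg, i0, i1, i2]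
      · simp [hj]
    · funext j
      show (Matrix.diagonal dg *ᵥ _) j = _
      rw [Matrix.mulVec_diagonal]
      by_cases hj : j = i3
      · subst hj; simp [dg, i0, i1, i3]
      · simp [hj]
  · obtain ⟨x, hx, hker⟩ := CfsgLib.OrderElt.exists_sl_move (F := F) (n := k) hq hi h1 (by omega)
    set X : Matrix (Fin k) (Fin k) F := (x : Matrix (Fin k) (Fin k) F) with hX
    have hmem : ∀ u : Fin k → F, u ∈ LinearMap.ker (Matrix.toLinAlgEquiv' X - 1 : Module.End F (Fin k → F)) ↔
        X *ᵥ u = u := fun u => by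
      rw [LinearMap.mem_ker, LinearMap.sub_apply, Module.End.one_apply, sub_eq_zero, Matrix.toLinAlgEquiv'_apply]
    have hxns : ∀ c : F, X ≠ c • (1 : Matrix (Fin k) (Fin k) F) := by
      intro c h
      have hne' : LinearMap.ker (Matrix.toLinAlgEquiv' X - 1 : Module.End F (Fin k → F)) ≠ ⊥ := by
        intro e; rw [e, finrank_bot] at hker; omega
      obtain ⟨u, hu, hu0⟩ := Submodule.exists_mem_ne_zero_of_ne_bot hne'
      rw [hmem, h, Matrix.smul_mulVec, Matrix.one_mulVec] at hu
      have hc : c = 1 := smul_left_injective F hu0 (show c • u = (1 : F) • u by rw [hu, one_smul])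
      rw [hc, one_smul] at h
      rw [h, map_one, sub_self, LinearMap.ker_zero, finrank_top, Module.finrank_fin_fun] at hker
      omega
    let L := LinearMap.ker (Matrix.toLinAlgEquiv' X - 1 : Module.End F (Fin k → F))
    let b : Module.Basis (Fin (k - i)) F L := Module.finBasisOfFinrankEq F L hker
    have hli : LinearIndependent F ![((b ⟨0, by omega⟩ : L) : Fin k → F), ((b ⟨1, by omega⟩ : L) : Fin k → F)] := by
      have h := (b.linearIndependent.map' L.subtype (Submodule.ker_subtype _)).comp ![(⟨0, by omega⟩ : Fin (k - i)), ⟨1, by omega⟩]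
        (by intro a c; fin_cases a <;> fin_cases c <;> simp)
      have e : ![((b ⟨0, by omega⟩ : L) : Fin k → F), ((b ⟨1, by omega⟩ : L) : Fin k → F)] =
          (L.subtype ∘ b) ∘ ![(⟨0, by omega⟩ : Fin (k - i)), ⟨1, by omega⟩] := by
        funext a; fin_cases a <;> rfl
      rw [e]
      exact h
    refine CfsgLib.SingerConj.not_conj_mem hk hK x (z := 1) (by rw [one_smul]; exact hx) hxns (c := 1) hli
      (by rw [one_smul]; exact (hmem _).1 (b _).2) (by rw [one_smul]; exact (hmem _).1 (b _).2)
      (hall x ⟨1, by rw [Matrix.SpecialLinearGroup.coe_pow, one_smul]; exact hx⟩ hxns)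

end Cfsg.Agent.S5970
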