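import Cfsg.Statements.S5971
import Cfsg.Agent.Lib.Maximal99.SingerConj

set_option autoImplicit false
open scoped MatrixGroups
open scoped Matrix
open Cfsg

namespace Cfsg.Agent.S5971

open Matrix Polynomial

variable {F : Type*} [Field F]

/-- An element of order dividing 3 is diagonalisable when `F` has primitive cube roots of unity. -/
theorem exists_eigbasis {ω : F} (hω : ω ^ 2 + ω + 1 = 0) (h3 : (3 : F) ≠ 0) {y : Matrix (Fin 3) (Fin 3) F}
    (hy : y ^ 3 = 1) :
    ∃ (b : Module.Basis (Fin 3) F (Fin 3 → F)) (a : Fin 3 → F),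
      (∀ i, y *ᵥ b i = a i • b i) ∧ (∀ i, a i ^ 3 = 1) ∧ y.det = a 0 * a 1 * a 2 := by
  classical
  have hω3 : ω ^ 3 = 1 := by linear_combination (ω - 1) * hω
  set E : Set (Fin 3 → F) := {v | ∃ j : ℕ, y *ᵥ v = ω ^ j • v} with hE
  have hspan : (⊤ : Submodule F (Fin 3 → F)) ≤ Submodule.span F E := by
    intro v _
    have hy3 : y *ᵥ (y *ᵥ (y *ᵥ v)) = v := by
      rw [Matrix.mulVec_mulVec, Matrix.mulVec_mulVec, ← pow_two, ← pow_succ, hy, Matrix.one_mulVec]
    have hP : ∀ j : ℕ, v + ω ^ (2 * j) • (y *ᵥ v) + ω ^ j • (y *ᵥ (y *ᵥ v)) ∈ E := by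
      intro j
      refine ⟨j, ?_⟩
      rw [Matrix.mulVec_add, Matrix.mulVec_add, Matrix.mulVec_smul, Matrix.mulVec_smul, hy3, smul_add, smul_add,
        smul_smul, smul_smul, ← pow_add, ← pow_add, show ω ^ (j + 2 * j) = 1 by
          rw [show j + 2 * j = 3 * j by ring, pow_mul, hω3, one_pow], one_smul, show j + j = 2 * j by ring]
      abel
    have hsum : (3 : F) • v = (v + ω ^ (2 * 0) • (y *ᵥ v) + ω ^ 0 • (y *ᵥ (y *ᵥ v))) +
        (v + ω ^ (2 * 1) • (y *ᵥ v) + ω ^ 1 • (y *ᵥ (y *ᵥ v))) +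
        (v + ω ^ (2 * 2) • (y *ᵥ v) + ω ^ 2 • (y *ᵥ (y *ᵥ v))) := by
      have e1 : (1 : F) + ω ^ 2 + ω ^ 4 = 0 := by linear_combination (ω ^ 2 - ω + 1) * hω
      calc (3 : F) • v = (3 : F) • v + ((1 : F) + ω ^ 2 + ω ^ 4) • (y *ᵥ v) + (ω ^ 2 + ω + 1) • (y *ᵥ (y *ᵥ v)) := by
            rw [e1, hω, zero_smul, zero_smul, add_zero, add_zero]
        _ = _ := by module
    rw [← inv_smul_smul₀ h3 v, hsum]
    exact Submodule.smul_mem _ _ (Submodule.add_mem _ (Submodule.add_mem _ (Submodule.subset_span (hP 0))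
      (Submodule.subset_span (hP 1))) (Submodule.subset_span (hP 2)))
  let b0 := Module.Basis.ofSpan hspan
  haveI := FiniteDimensional.fintypeBasisIndex b0
  let e := Fintype.equivFinOfCardEq (by rw [← Module.finrank_eq_card_basis b0, Module.finrank_fin_fun])
  let b := b0.reindex e
  have hb : ∀ i, b i ∈ E := fun i => by
    rw [Module.Basis.reindex_apply]
    exact Module.Basis.ofSpan_subset hspan ⟨_, rfl⟩
  choose j hj using hb
  refine ⟨b, fun i => ω ^ j i, hj, fun i => by rw [← pow_mul, mul_comm, pow_mul, hω3, one_pow], ?_⟩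
  have hM : LinearMap.toMatrix b b (Matrix.toLin' y) = Matrix.diagonal fun i => ω ^ j i := by
    ext i k
    rw [LinearMap.toMatrix_apply, Matrix.toLin'_apply, hj, map_smul, Module.Basis.repr_self, Finsupp.smul_apply,
      Finsupp.single_apply, Matrix.diagonal_apply, smul_eq_mul]
    split_ifs with h1 h2 h2
    · subst h1; rw [mul_one]
    · exact absurd h1.symm h2
    · exact absurd h2.symm h1
    · rw [mul_zero]
  rw [← LinearMap.det_toLin', ← LinearMap.det_toMatrix b, hM, Matrix.det_diagonal, Fin.prod_univ_three]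

/-- With distinct eigenvalues the sum of the eigenvectors is cyclic. -/
theorem cyclic_of_eigbasis {y : Matrix (Fin 3) (Fin 3) F} (b : Module.Basis (Fin 3) F (Fin 3 → F)) {a : Fin 3 → F}
    (hb : ∀ i, y *ᵥ b i = a i • b i) (ha : Function.Injective a) :
    ∃ v : Fin 3 → F, LinearIndependent F fun k : Fin 3 => (y ^ (k : ℕ)) *ᵥ v := by
  have hpow : ∀ (k : ℕ) i, (y ^ k) *ᵥ b i = a i ^ k • b i := by
    intro k i
    induction k with
    | zero => simp
    | succ k ih => rw [pow_succ, ← Matrix.mulVec_mulVec, hb, Matrix.mulVec_smul, ih, smul_smul, ← pow_succ']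
  refine ⟨∑ i, b i, Fintype.linearIndependent_iff.2 fun c hc => ?_⟩
  simp only [Matrix.mulVec_sum, hpow, Finset.smul_sum, smul_smul] at hc
  rw [Finset.sum_comm] at hc
  simp only [← Finset.sum_smul] at hc
  have h := Fintype.linearIndependent_iff.1 b.linearIndependent _ hc
  exact fun i => congrFun (Matrix.eq_zero_of_forall_index_sum_mul_pow_eq_zero ha h) i

theorem exists_pow_eq {K : Type*} [Field K] [Fintype K] {n : ℕ} (hn : 0 < n) (w : Kˣ) (hd : n ∣ Fintype.card K - 1)
    (hw : w ^ ((Fintype.card K - 1) / n) = 1) : ∃ u : Kˣ, u ^ n = w := by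
  classical
  obtain ⟨g, hg⟩ := IsCyclic.exists_ofOrder_eq_natCard (α := Kˣ)
  rw [Nat.card_eq_fintype_card, Fintype.card_units] at hg
  obtain ⟨j, rfl⟩ : ∃ j : ℕ, g ^ j = w := by
    have : w ∈ Subgroup.zpowers g := by
      rw [(Subgroup.card_eq_iff_eq_top _).1 (show Nat.card (Subgroup.zpowers g) = Nat.card Kˣ by
        rw [Nat.card_zpowers, hg, Nat.card_eq_fintype_card, Fintype.card_units])]
      trivial
    obtain ⟨j, hj⟩ := (isOfFinOrder_of_finite g).mem_zpowers_iff_mem_range_orderOf.1 this |> Finset.mem_image.1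
    exact ⟨j, hj.2⟩
  obtain ⟨m, hm⟩ := hd
  have hm0 : 0 < m := by
    have := Fintype.one_lt_card (α := K)
    rcases Nat.eq_zero_or_pos m with rfl | h
    · omega
    · exact h
  rw [← pow_mul, ← orderOf_dvd_iff_pow_eq_one, hg, hm, Nat.mul_div_cancel_left _ hn] at hw
  obtain ⟨t, ht⟩ := Nat.dvd_of_mul_dvd_mul_right hm0 hw
  exact ⟨g ^ t, by rw [← pow_mul, ht, mul_comm n t]⟩

lemma mem_normalizer_of_mem {n : ℕ} {K : Subalgebra F (Matrix (Fin n) (Fin n) F)} (hK : Geo.IsFieldSubalgebra n K)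
    {g : GL (Fin n) F} (hg : (g : Matrix (Fin n) (Fin n) F) ∈ K) : g ∈ Geo.subalgebraNormalizer K := fun k => by
  constructor
  · intro hk
    rw [hK.comm _ hg _ hk, mul_assoc, Units.mul_inv, mul_one]
    exact hk
  · intro hk
    have h := hK.comm _ hg _ hk
    rw [mul_assoc ((g : Matrix (Fin n) (Fin n) F) * k), Units.inv_mul, mul_one] at h
    have h2 : (g : Matrix (Fin n) (Fin n) F) * k * ((g⁻¹ : GL (Fin n) F) : Matrix (Fin n) (Fin n) F) = k :=
      g.isUnit.mul_left_cancel h
    rwa [h2] at hk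

/-- Elements of order 3 of PSL_3(q) and the normalizer of a Singer cycle. Here `T = PSL_n(F)` for a field `F` with `q = p^f` elements (`n ≥ 2`, `(n, q) ≠ (2, 2), (2, 3)`), `k` is a prime dividing `n`, `K` is a subalgebra of the `n × n` matrices that is a field of degree `k` over `F` (an extension-field structure F_{q^k} on `F^n`), and `H` is the subgroup of matrices of determinant 1 normalizing `K` — a subgroup of type GL_{n/k}(q^k) (maximal except in some small cases; maximality is not assumed); Ω is the set of cosets of `H` in `T`, so an element of `T` of prime order `r` (a matrix `x` of determinant 1 with `x^r` scalar, `x` not scalar) fixes a point of Ω when some conjugate of `x` by a matrix of determinant 1 normalizes `K`. Take `n = k = 3` and suppose 3 divides the index of `H`. Then every element of `T` of order 3 is conjugate in `T` into `H` if and only if `q ≡ 4, 7` or `8 (mod 9)`. -/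
theorem result {F : Type*} [Field F] [Fintype F] {p : ℕ} [Fact p.Prime] [CharP F p] {q : ℕ} (hq : Fintype.card F = q)
    (n : ℕ) (hn : n = 3) (k : ℕ) (hk : k.Prime) (hkn : k ∣ n) (K : Subalgebra F (Matrix (Fin n) (Fin n) F)) (hK : Cfsg.Geo.IsFieldSubalgebra k K) (hk3 : k = 3) (hΩ : 3 ∣ ((Cfsg.Geo.subalgebraNormalizer K).comap (Matrix.SpecialLinearGroup.toGL : Matrix.SpecialLinearGroup (Fin n) F →* GL (Fin n) F)).index) :
    (∀ x : Matrix.SpecialLinearGroup (Fin n) F,
      (∃ z : F, ((x ^ 3 : Matrix.SpecialLinearGroup (Fin n) F) : Matrix (Fin n) (Fin n) F) = z • (1 : Matrix (Fin n) (Fin n) F)) →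
      (∀ z : F, (x : Matrix (Fin n) (Fin n) F) ≠ z • (1 : Matrix (Fin n) (Fin n) F)) →
      ∃ P : Matrix.SpecialLinearGroup (Fin n) F, P⁻¹ * x * P ∈ ((Cfsg.Geo.subalgebraNormalizer K).comap (Matrix.SpecialLinearGroup.toGL : Matrix.SpecialLinearGroup (Fin n) F →* GL (Fin n) F))) ↔
    (q % 9 = 4 ∨ q % 9 = 7 ∨ q % 9 = 8) := by
  classical
  subst hn hk3
  haveI : Fact (Nat.Prime 3) := ⟨Nat.prime_three⟩
  have hq2 : 2 ≤ q := by rw [← hq]; exact Fintype.one_lt_card
  obtain ⟨f, hp', hqf⟩ := FiniteField.card F p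
  rw [hq] at hqf
  by_cases hchar : (3 : F) = 0
  · have hp3 : p = 3 := by
      have : p ∣ 3 := (CharP.cast_eq_zero_iff F p 3).1 (by exact_mod_cast hchar)
      exact (Nat.prime_dvd_prime_iff_eq hp' Nat.prime_three).1 this
    have h3q : 3 ∣ q := by rw [hqf, hp3]; exact dvd_pow_self 3 f.pos.ne'
    refine iff_of_false (fun hall => ?_) (by omega)
    let x : Matrix.SpecialLinearGroup (Fin 3) F :=
      ⟨Matrix.transvection 0 1 1, Matrix.det_transvection_of_ne _ _ (by decide) _⟩
    have hx3 : (x : Matrix (Fin 3) (Fin 3) F) ^ 3 = (1 : F) • (1 : Matrix (Fin 3) (Fin 3) F) := by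
      show Matrix.transvection (0 : Fin 3) 1 (1 : F) ^ 3 = _
      rw [pow_three, Matrix.transvection_mul_transvection_same _ _ (by decide),
        Matrix.transvection_mul_transvection_same _ _ (by decide), show (1 : F) + (1 + 1) = 0 by rw [← hchar]; norm_num,
        Matrix.transvection_zero, one_smul]
    have hxns : ∀ c : F, (x : Matrix (Fin 3) (Fin 3) F) ≠ c • (1 : Matrix (Fin 3) (Fin 3) F) := by
      intro c h
      simpa [x, Matrix.transvection] using congrFun (congrFun h 0) 1
    refine CfsgLib.SingerConj.not_conj_mem Nat.prime_three hK x hx3 hxns (c := 1)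
      (v := Pi.single 0 1) (w := Pi.single 2 1) ?_ ?_ ?_
      (hall x ⟨1, by rw [Matrix.SpecialLinearGroup.coe_pow, hx3]⟩ hxns)
    · refine LinearIndependent.pair_iff.2 fun s t h => ⟨?_, ?_⟩
      · simpa using congrFun h 0
      · simpa using congrFun h 2
    · funext j
      show (Matrix.transvection 0 1 1 *ᵥ _) j = _
      fin_cases j <;> simp [Matrix.transvection, Matrix.add_mulVec]
    · funext j
      show (Matrix.transvection 0 1 1 *ᵥ _) j = _
      fin_cases j <;> simp [Matrix.transvection, Matrix.add_mulVec]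
  have h3p : p ≠ 3 := fun h => hchar (by rw [show (3 : F) = ((3 : ℕ) : F) by norm_num, CharP.cast_eq_zero_iff F p, h])
  have h3q : ¬ 3 ∣ q := fun h => h3p ((Nat.prime_dvd_prime_iff_eq Nat.prime_three hp').1
    (Nat.prime_three.dvd_of_dvd_pow (hqf ▸ h))).symm
  obtain ⟨S, hS, hS3, hSns⟩ := CfsgLib.SingerConj.exists_frob hK Nat.prime_three
  by_cases hmod : q % 3 = 2
  · -- `q ≡ 2 mod 3`
    have ho : orderOf (q : ZMod 3) = 2 := by
      rw [← ZMod.natCast_mod, hmod]
      refine orderOf_eq_prime (p := 2) ?_ ?_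
      · simp only [Nat.cast_ofNat]; rfl
      · rw [← Nat.cast_one, Ne, ZMod.natCast_eq_natCast_iff']; norm_num
    have h8 : q % 9 = 8 := by
      by_contra h8
      have h25 : q % 9 = 2 ∨ q % 9 = 5 := by omega
      let H := (Geo.subalgebraNormalizer K).comap
        (Matrix.SpecialLinearGroup.toGL : Matrix.SpecialLinearGroup (Fin 3) F →* GL (Fin 3) F)
      have hSdet : (S : Matrix (Fin 3) (Fin 3) F).det = 1 :=
        CfsgLib.SemiR.det_eq_one hq (r := 3) (by omega) (by rw [← Matrix.det_pow, hS3, Matrix.det_one])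
      let S' : Matrix.SpecialLinearGroup (Fin 3) F := ⟨(S : Matrix (Fin 3) (Fin 3) F), hSdet⟩
      have hS'H : S' ∈ H := by
        rw [Subgroup.mem_comap, show Matrix.SpecialLinearGroup.toGL S' = S from Units.ext rfl]; exact hS
      have hord : orderOf (⟨S', hS'H⟩ : H) = 3 := orderOf_eq_prime
        (Subtype.ext (Subtype.ext (by show (S : Matrix (Fin 3) (Fin 3) F) ^ 3 = 1; exact hS3)))
        (fun h => hSns 1 (by
          rw [one_smul]
          exact congrArg (fun u : H => ((u : Matrix.SpecialLinearGroup (Fin 3) F) : Matrix (Fin 3) (Fin 3) F)) h))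
      have h3H : 3 ∣ Nat.card H := hord.symm.dvd.trans (orderOf_dvd_natCard (⟨S', hS'H⟩ : H))
      have h9 : 9 ∣ Nat.card (Matrix.SpecialLinearGroup (Fin 3) F) := by
        rw [← H.index_mul_card]; exact Nat.mul_dvd_mul hΩ h3H
      have h9' := h9.trans (Subgroup.card_dvd_of_injective _ Matrix.SpecialLinearGroup.toGL_injective)
      rw [Matrix.card_GL_field, Fin.prod_univ_three, hq] at h9'
      have e : ∀ i : ℕ, i ≤ 3 → q ^ i ≤ q ^ 3 := fun i hi => Nat.pow_le_pow_right (by omega) hi
      have h9'' : (((q ^ 3 - q ^ 0) * (q ^ 3 - q ^ 1) * (q ^ 3 - q ^ 2) : ℕ) : ZMod 9) = 0 :=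
        (ZMod.natCast_eq_zero_iff _ _).2 h9'
      rw [Nat.cast_mul, Nat.cast_mul, Nat.cast_sub (e 0 (by omega)), Nat.cast_sub (e 1 (by omega)),
        Nat.cast_sub (e 2 (by omega)), Nat.cast_pow, Nat.cast_pow, Nat.cast_pow, Nat.cast_pow, ← ZMod.natCast_mod] at h9''
      rcases h25 with h | h <;> rw [h] at h9'' <;> exact absurd h9'' (by decide)
    exact iff_of_true (fun x hx hns =>
      CfsgLib.SingerConj.exists_conj_mem_of_order hq le_rfl ho (by exact_mod_cast hchar) hK x hx hns) (by omega)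
  -- `q ≡ 1 mod 3`
  have hmod1 : q % 3 = 1 := by omega
  obtain ⟨g0, hg0⟩ := exists_prime_orderOf_dvd_card' (G := Fˣ) 3
    (by rw [Nat.card_eq_fintype_card, Fintype.card_units, hq]; omega)
  set ω : F := (g0 : F) with hω'
  have hω3 : ω ^ 3 = 1 := by rw [hω', ← Units.val_pow_eq_pow_val, ← hg0, pow_orderOf_eq_one, Units.val_one]
  have hω1 : ω ≠ 1 := fun h => by
    rw [show g0 = 1 from Units.ext h, orderOf_one] at hg0; omega
  have hω : ω ^ 2 + ω + 1 = 0 :=
    mul_left_cancel₀ (sub_ne_zero.2 hω1) (by rw [mul_zero]; linear_combination hω3)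
  by_cases h91 : q % 9 = 1
  · refine iff_of_false (fun hall => ?_) (by omega)
    obtain ⟨u, hu⟩ := exists_pow_eq (n := 3) (by norm_num) g0 (by rw [hq]; omega) (by
      rw [hq, ← orderOf_dvd_iff_pow_eq_one, hg0]; omega)
    set ζ : F := (u : F) with hζ
    have hζ3 : ζ ^ 3 = ω := by rw [hζ, ← Units.val_pow_eq_pow_val, hu]
    have hζ0 : ζ ≠ 0 := u.ne_zero
    let x : Matrix.SpecialLinearGroup (Fin 3) F :=
      ⟨Matrix.diagonal ![ζ, ζ, (ζ ^ 2)⁻¹], by
        rw [Matrix.det_diagonal, Fin.prod_univ_three]; simp; field_simp⟩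
    have hx3 : (x : Matrix (Fin 3) (Fin 3) F) ^ 3 = ω • (1 : Matrix (Fin 3) (Fin 3) F) := by
      show Matrix.diagonal ![ζ, ζ, (ζ ^ 2)⁻¹] ^ 3 = _
      rw [Matrix.diagonal_pow, Matrix.smul_one_eq_diagonal]
      congr 1
      funext i
      fin_cases i
      · simpa using hζ3
      · simpa using hζ3
      · show ((ζ ^ 2)⁻¹) ^ 3 = ω
        rw [inv_pow, ← pow_mul, show 2 * 3 = 3 * 2 by rfl, pow_mul, hζ3,
          ← mul_left_inj' (pow_ne_zero 2 (show ω ≠ 0 from g0.ne_zero)), inv_mul_cancel₀ (pow_ne_zero 2 g0.ne_zero)]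
        linear_combination -hω3
    have hxns : ∀ c : F, (x : Matrix (Fin 3) (Fin 3) F) ≠ c • (1 : Matrix (Fin 3) (Fin 3) F) := by
      intro c h
      have e0 : ζ = c := by simpa [x] using congrFun (congrFun h 0) 0
      have e2 : (ζ ^ 2)⁻¹ = c := by simpa [x] using congrFun (congrFun h 2) 2
      apply hω1
      rw [← hζ3, pow_succ', mul_comm ζ]
      nth_rw 2 [e0]
      rw [← e2, mul_inv_cancel₀ (pow_ne_zero 2 hζ0)]
    refine CfsgLib.SingerConj.not_conj_mem Nat.prime_three hK x hx3 hxns (c := ζ)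
      (v := Pi.single 0 1) (w := Pi.single 1 1) ?_ ?_ ?_
      (hall x ⟨ω, by rw [Matrix.SpecialLinearGroup.coe_pow, hx3]⟩ hxns)
    · refine LinearIndependent.pair_iff.2 fun s t h => ⟨?_, ?_⟩
      · simpa using congrFun h 0
      · simpa using congrFun h 1
    · funext j
      show (Matrix.diagonal ![ζ, ζ, (ζ ^ 2)⁻¹] *ᵥ _) j = _
      rw [Matrix.mulVec_diagonal]
      fin_cases j <;> simp
    · funext j
      show (Matrix.diagonal ![ζ, ζ, (ζ ^ 2)⁻¹] *ᵥ _) j = _
      rw [Matrix.mulVec_diagonal]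
      fin_cases j <;> simp
  -- `q ≡ 4, 7 mod 9`
  refine iff_of_true ?_ (by omega)
  intro x ⟨z, hz⟩ hns
  rw [Matrix.SpecialLinearGroup.coe_pow] at hz
  have hz3 : z ^ 3 = 1 := by
    have h := congrArg Matrix.det hz
    rw [Matrix.det_pow, x.det_coe, one_pow, Matrix.det_smul, Matrix.det_one, mul_one, Fintype.card_fin] at h
    exact h.symm
  have hz0 : z ≠ 0 := fun h => by rw [h] at hz3; norm_num at hz3
  letI : Field K := CfsgLib.Geo.FieldTransvection.fieldOf hK
  haveI : FiniteDimensional F K := Module.finite_of_finrank_pos (by rw [hK.finrank_eq]; norm_num)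
  haveI : Finite K := Module.finite_of_finite F
  letI : Fintype K := Fintype.ofFinite K
  have hcardK : Fintype.card K = q ^ 3 := by
    rw [← Nat.card_eq_fintype_card, Module.natCard_eq_pow_finrank (K := F), hK.finrank_eq, Nat.card_eq_fintype_card, hq]
  by_cases hcube : ∃ c : F, c ^ 3 = z
  · obtain ⟨c, hc⟩ := hcube
    have hc0 : c ≠ 0 := fun h => hz0 (by rw [← hc, h, zero_pow three_ne_zero])
    have hz1 : z = 1 := by
      have h1 : c ^ 9 = 1 := by rw [show 9 = 3 * 3 by rfl, pow_mul, hc, hz3]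
      have h2 : c ^ (q - 1) = 1 := hq ▸ FiniteField.pow_card_sub_one_eq_one c hc0
      have h3 := pow_gcd_eq_one.2 ⟨h1, h2⟩
      have hg : Nat.gcd 9 (q - 1) = 3 := by
        rw [Nat.gcd_rec]
        have : (q - 1) % 9 = 3 ∨ (q - 1) % 9 = 6 := by omega
        rcases this with h | h <;> rw [h] <;> rfl
      rw [hg, hc] at h3
      exact h3
    rw [hz1, one_smul] at hz
    obtain ⟨b, a, hb, ha3, hdet⟩ := exists_eigbasis hω hchar hz
    rw [x.det_coe] at hdet
    have hne : ∀ i, a i ≠ 0 := fun i h => by have := ha3 i; rw [h] at this; norm_num at this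
    have hainj : Function.Injective a := by
      by_contra hni
      have hall' : a 0 = a 1 ∧ a 0 = a 2 := by
        simp only [Function.Injective, not_forall] at hni
        obtain ⟨i, j, hij, hne'⟩ := hni
        have key : ∀ u v w : F, u ^ 3 = 1 → u * v * w = 1 → u = v → u = w := by
          intro u v w hu hp huv
          subst huv
          exact mul_left_cancel₀ (mul_ne_zero (fun h => by rw [h] at hu; norm_num at hu)
            (fun h => by rw [h] at hu; norm_num at hu)) (show u * u * u = u * u * w by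
              rw [hp]; linear_combination hu)
        have k01 := key (a 0) (a 1) (a 2) (ha3 0) hdet.symm
        have k02 := key (a 0) (a 2) (a 1) (ha3 0) (by rw [hdet]; ring)
        have k12 := key (a 1) (a 2) (a 0) (ha3 1) (by rw [hdet]; ring)
        fin_cases i <;> fin_cases j
        all_goals first
          | exact absurd rfl hne'
          | exact ⟨hij, k01 hij⟩
          | exact ⟨hij.symm, k01 hij.symm⟩
          | exact ⟨k02 hij, hij⟩
          | exact ⟨k02 hij.symm, hij.symm⟩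
          | exact ⟨(k12 hij).symm, (k12 hij).symm.trans hij⟩
          | exact ⟨(k12 hij.symm).symm, (k12 hij.symm).symm.trans hij.symm⟩
      refine hns (a 0) (Matrix.toLin'.injective (b.ext fun i => ?_))
      rw [Matrix.toLin'_apply, Matrix.toLin'_apply, hb, Matrix.smul_mulVec, Matrix.one_mulVec]
      fin_cases i
      · rfl
      · exact congrArg (· • b 1) hall'.1.symm
      · exact congrArg (· • b 2) hall'.2.symm
    obtain ⟨b', a', hb', -, -⟩ := exists_eigbasis hω hchar hS3
    have ha'inj : Function.Injective a' := by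
      intro i j hij
      by_contra hne'
      obtain ⟨d, hd⟩ := CfsgLib.SingerConj.eigen_le_one hK Nat.prime_three hS (z := 1) (by rw [hS3, one_smul]) hSns
        (b'.ne_zero i) (hb' i) (w := b' j) (by rw [hb' j, hij])
      have h := congrArg (fun u => b'.repr u j) hd
      simp [hne'] at h
    obtain ⟨v, hv⟩ := cyclic_of_eigbasis b hb hainj
    obtain ⟨w, hw⟩ := cyclic_of_eigbasis b' hb' ha'inj
    obtain ⟨g, hg⟩ := CfsgLib.SingerConj.exists_conj_of_cyclic (x := Matrix.SpecialLinearGroup.toGL x) (y := S)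
      (z := 1) (by rw [one_smul]; exact hz) (by rw [hS3, one_smul]) hv hw
    exact CfsgLib.SingerConj.exists_sl_conj_mem hK x g (by rw [hg]; exact hS)
  · push Not at hcube
    have hirr : Irreducible (X ^ 3 - C z : F[X]) := X_pow_sub_C_irreducible_of_prime Nat.prime_three hcube
    let w : Kˣ := Units.map (algebraMap F K).toMonoidHom (Units.mk0 z hz0)
    have hm : (Fintype.card K - 1) / 3 = (q - 1) * ((q ^ 2 + q + 1) / 3) := by
      have h3 : 3 ∣ q ^ 2 + q + 1 := Nat.dvd_of_mod_eq_zero (by simp [Nat.add_mod, Nat.pow_mod, hmod1])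
      rw [hcardK, ← Nat.mul_div_assoc _ h3]
      congr 1
      obtain ⟨m, rfl⟩ : ∃ m, q = m + 1 := ⟨q - 1, by omega⟩
      simp only [Nat.add_sub_cancel]
      rw [show (m + 1) ^ 3 = m * ((m + 1) ^ 2 + (m + 1) + 1) + 1 by ring, Nat.add_sub_cancel]
    obtain ⟨u, hu⟩ := exists_pow_eq (n := 3) (by norm_num) w (by
      rw [hcardK]
      have : 3 ∣ q - 1 := by omega
      exact this.trans (by simpa using Nat.sub_dvd_pow_sub_pow q 1 3)) (by
      rw [hm, pow_mul, show w ^ (q - 1) = 1 from ?_, one_pow]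
      rw [← map_pow, show Units.mk0 z hz0 ^ (q - 1) = 1 from Units.ext (by
        simpa [hq] using FiniteField.pow_card_sub_one_eq_one z hz0), map_one])
    let A : GL (Fin 3) F := Units.map (K.val : K →* Matrix (Fin 3) (Fin 3) F) u
    have hA3 : (A : Matrix (Fin 3) (Fin 3) F) ^ 3 = z • (1 : Matrix (Fin 3) (Fin 3) F) := by
      rw [← Units.val_pow_eq_pow_val, ← map_pow, hu]
      show algebraMap F (Matrix (Fin 3) (Fin 3) F) z = _
      exact Algebra.algebraMap_eq_smul_one z
    obtain ⟨v, hv⟩ := exists_ne (0 : Fin 3 → F)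
    obtain ⟨g, hg⟩ := CfsgLib.SingerConj.exists_conj_of_cyclic (x := Matrix.SpecialLinearGroup.toGL x) (y := A)
      hz hA3 (CfsgLib.SingerConj.cyclic_of_irreducible hz hirr hv)
      (CfsgLib.SingerConj.cyclic_of_irreducible hA3 hirr hv)
    exact CfsgLib.SingerConj.exists_sl_conj_mem hK x g
      (by rw [hg]; exact mem_normalizer_of_mem hK (u : K).2)

end Cfsg.Agent.S5971
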