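import Cfsg.Statements.S5972
import Cfsg.Agent.Lib.OrthFix57.TSCount
import Cfsg.Agent.Lib.OrthFix57.TSCriterion
import Cfsg.Agent.Lib.OrthFix57.TSDvd
import Cfsg.Agent.Lib.OrthFix57.TSTwo

set_option autoImplicit false
set_option maxHeartbeats 4000000
open scoped MatrixGroups Matrix
open Cfsg

namespace Cfsg.Agent.S5972

theorem blocks_arith (i c n m b A ℓ M Na K B Nn Nb t : ℕ) (hn : n = b + M) (hbo : b % 2 = 1)
    (hi0 : 0 < i) (hc : (i % 2 = 0 ∧ c = i ∧ ((ℓ + ℓ < i ∧ Na = A + A ∧ M % c = ℓ + ℓ) ∨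
        (i ≤ ℓ + ℓ ∧ Na = A + A + 1 ∧ M % c + i = ℓ + ℓ))) ∨
      (i % 2 = 1 ∧ c = 2 * i ∧ Na = A ∧ M % c = 2 * ℓ))
    (hl : ℓ < i) (hA : (m < i ∧ A = 0) ∨ (i ≤ m ∧ 1 ≤ A))
    (e1 : (B + M % c < c ∧ K = B + M % c ∧ Nn = Nb + Na) ∨ (c ≤ B + M % c ∧ K + c = B + M % c ∧ Nn = Nb + Na + 1))
    (eK : K % 2 = 1) (eB : B % 2 = 1) (hB : B < c) (hne : Nb ≠ Nn) :
    ((i % 2 = 1 ∧ Nn ≤ Nb + A) ∨ (i % 2 = 0 ∧ (Nn ≤ Nb ∨ (t ≤ Nb ∧ Nn ≤ Nb + 2 * A)))) ↔
      (i ≤ m ∧ 2 * ℓ < K ∧ (i % 2 = 1 ∨ t + 2 * A ≤ Nn)) := by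
  generalize hMK : M % c = R at hc e1
  clear hMK
  rcases hc with ⟨hi, rfl, h | h⟩ | ⟨hi, rfl, h⟩ <;> rcases e1 with e1 | e1 <;> rcases hA with hA | hA <;> omega


/-- Elements of prime order of Ω_n(q), n = 2d+1 ≥ 7, q odd, with no fixed totally singular `m`-space. Here `T = Ω_n(q)` is realised as the commutator subgroup of the isometry group of the quadratic form `x₀² + Σ xᵢyᵢ` over the field `F` with `q` elements (it has trivial centre, so its elements of prime order `r` are used directly); let `1 ≤ m ≤ d` and let `r` be a prime dividing the number of totally singular `m`-spaces. For `r ≠ p` let `i` be the multiplicative order of `q` modulo `r`, `c = i` for `i` even and `c = 2i` for `i` odd, and write `k = n mod c`, `ℓ = m mod i`, `n' = ⌊n/i⌋`, `m' = ⌊m/i⌋`, `t = (r−1)/i`. Then every element of `T` of order `r` fixes some totally singular `m`-space if and only if either (i) `r = 2` and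 (`m < (n−1)/2` or `q ≡ 1 (mod 4)`); or (ii) `r ≠ p` is odd, `i ≤ m`, `k > 2ℓ`, and (`i` is odd or `n' − 2m' ≥ t`). -/
theorem result {F : Type*} [Field F] [Fintype F] {p : ℕ} [Fact p.Prime] [CharP F p] {q : ℕ} (hq : Fintype.card F = q) (hqodd : Odd q)
    (d m : ℕ) (hd : 3 ≤ d) (hm : 1 ≤ m) (hmd : m ≤ d)
    (r : ℕ) [Fact r.Prime]
    (hrΩ : r ∣ Nat.card {W : Submodule F (Unit ⊕ (Fin d ⊕ Fin d) → F) // Module.finrank F ↥W = m ∧ (∀ w ∈ W, Cfsg.quadFormOdd d F w = 0)})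
    (i c : ℕ) (hi : i = orderOf (q : ZMod r)) (hc : c = if Even i then i else 2 * i) :
    (∀ x : GL (Unit ⊕ (Fin d ⊕ Fin d)) F, x ∈ Cfsg.Geo.omegaGL (Cfsg.quadFormOdd d F) → orderOf x = r →
      ∃ W : Submodule F (Unit ⊕ (Fin d ⊕ Fin d) → F), Module.finrank F ↥W = m ∧ (∀ w ∈ W, Cfsg.quadFormOdd d F w = 0) ∧
        W.map (Matrix.toLin' (x : Matrix (Unit ⊕ (Fin d ⊕ Fin d)) (Unit ⊕ (Fin d ⊕ Fin d)) F)) ≤ W) ↔
    ((r = 2 ∧ (m < d ∨ q % 4 = 1)) ∨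
     (r ≠ p ∧ 2 < r ∧ i ≤ m ∧ 2 * (m % i) < (2 * d + 1) % c ∧ (Odd i ∨ (r - 1) / i + 2 * (m / i) ≤ (2 * d + 1) / i))) := by
  have hF : Odd (Fintype.card F) := hq ▸ hqodd
  have h2 : (2 : F) ≠ 0 := CfsgLib.POmega.two_ne_zero_of_odd hF
  have hQ := CfsgLib.POmega.oddQ_nondegenerate h2 d
  obtain ⟨E, hE⟩ := CfsgLib.PrimeClasses.plus_add_odd' (F := F) (i := m) (j := d - m) (k := d) (by omega)
  rw [← CfsgLib.Orth.plusQ_coe, ← CfsgLib.POmega.oddQ_coe, ← CfsgLib.POmega.oddQ_coe] at hE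
  rw [← CfsgLib.POmega.oddQ_coe] at *
  set Q := CfsgLib.POmega.oddQ d F with hQdef
  set Q₀ := CfsgLib.POmega.oddQ (d - m) F with hQ₀
  have hsp : CfsgLib.OrthFix.Splits Q (CfsgLib.Orth.plusQ m F) Q₀ E := hE
  let C : Submodule F (Unit ⊕ (Fin d ⊕ Fin d) → F) → Prop := fun W => Module.finrank F ↥W = m ∧ ∀ w ∈ W, Q w = 0
  have hcard : Fintype.card (Unit ⊕ (Fin d ⊕ Fin d)) = 2 * d + 1 := by simp; omega
  refine Iff.trans (b := CfsgLib.OrthFix.OrderFix r (⇑Q) C) ?_ ?_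
  · simp only [CfsgLib.OrthFix.OrderFix, C, and_assoc]
  by_cases hrp : r = p
  · subst hrp
    exfalso
    let g : QuadraticForm F (Unit → F) := QuadraticMap.weightedSumSquares F fun _ : Unit => (1 : F)
    refine CfsgLib.OrthFix57.not_dvd_count_of_equiv (p := r) (g := g) (d := d) (m := m) (f := ⇑Q)
      (fun z hz => ?_) hm (Or.inr ⟨hmd, ⟨()⟩⟩) ⟨LinearEquiv.funCongrLeft F F (Equiv.sumComm _ _), fun v => ?_⟩ hrΩ
    · funext u
      simpa [g] using hz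
    · rw [hQdef, CfsgLib.POmega.oddQ_coe, CfsgLib.OrthFix57.stdForm_apply]
      simp [Cfsg.quadFormOdd, g, pow_two, add_comm]
  have hrK : (r : F) ≠ 0 := fun h =>
    hrp ((Nat.prime_dvd_prime_iff_eq (Fact.out) (Fact.out)).1 ((CharP.cast_eq_zero_iff F p r).1 h)).symm
  by_cases hr2 : r = 2
  · subst hr2
    have hs := CfsgLib.OrthFix57.isSquare_signs h2 hq
    have hqm : q % 2 = 1 := Nat.odd_iff.1 hqodd
    simp only [lt_irrefl, false_and, and_false, or_false, true_and]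
    constructor
    · intro h
      by_contra hno
      have hsq : ¬ IsSquare (-1 : F) := by
        have := (hs 1).1
        rw [pow_one] at this
        rw [this]
        omega
      obtain ⟨x, hx, hX, hns, hS, hSp⟩ := CfsgLib.OrthFix57.exists_minus_witness h2 hQ (by omega) hsq
      have hord : orderOf x = 2 := orderOf_eq_prime (Units.ext (by rw [Units.val_pow_eq_pow_val, pow_two, hX, Units.val_one]))
        fun e => hns 1 (by rw [e, Units.val_one, one_smul])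
      obtain ⟨W, ⟨hWd, hW⟩, hWx⟩ := h x hx hord
      have hxQ := fun v => CfsgLib.OrthFix.isometry_of_mem_omegaGL hx v v
      obtain ⟨hP, hN, -, hdim⟩ := CfsgLib.OrthFix57.eigen_facts h2 hQ hX hxQ
      have hsplit := CfsgLib.OrthFix57.invol_ts_split h2 hX hWx
      have b1 := CfsgLib.OrthFix57.ts_le hP inf_le_right (fun t ht => hW t (Submodule.mem_inf.1 ht).1)
      have b2 := CfsgLib.OrthFix57.ts_le hN inf_le_right (fun t ht => hW t (Submodule.mem_inf.1 ht).1)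
      have b3 : 2 * Module.finrank F ↥(W ⊓ CfsgLib.OrthFix57.negSp (x : Matrix (Unit ⊕ (Fin d ⊕ Fin d)) (Unit ⊕ (Fin d ⊕ Fin d)) F)) ≠
          Module.finrank F ↥(CfsgLib.OrthFix57.negSp (x : Matrix (Unit ⊕ (Fin d ⊕ Fin d)) (Unit ⊕ (Fin d ⊕ Fin d)) F)) :=
        fun e => hSp (CfsgLib.OrthFix57.plus_of_ts inf_le_right (fun t ht => hW t (Submodule.mem_inf.1 ht).1) e)
      rw [hcard] at hdim
      omega
    · intro h x hx hord
      have hX : (x : Matrix (Unit ⊕ (Fin d ⊕ Fin d)) (Unit ⊕ (Fin d ⊕ Fin d)) F) * x = 1 := by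
        rw [← pow_two, ← Units.val_pow_eq_pow_val, ← hord, pow_orderOf_eq_one, Units.val_one]
      have hxQ := fun v => CfsgLib.OrthFix.isometry_of_mem_omegaGL hx v v
      obtain ⟨k, hk, ht⟩ := CfsgLib.OrthFix57.negSp_type h2 hQ hx hX
      obtain ⟨hP, hN, -, hdim⟩ := CfsgLib.OrthFix57.eigen_facts h2 hQ hX hxQ
      rw [hcard, hk] at hdim
      obtain ⟨W, hWd, hW, hWx⟩ := CfsgLib.OrthFix57.invol_ts_exists h2 hQ hX hxQ
        (j₁ := min m (d - k)) (j₂ := m - min m (d - k))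
        (Or.inr (Or.inr (Or.inl ⟨Nat.odd_iff.2 (by omega), by omega⟩)))
        (by
          by_cases hlt : m < d
          · by_cases h0 : m - min m (d - k) = 0
            · exact Or.inl h0
            · exact Or.inr (Or.inl (by omega))
          · exact Or.inr (Or.inr (Or.inr ⟨ht.2 ((hs k).1.2 (Or.inr (by omega))), by omega⟩)))
      exact ⟨W, ⟨by omega, hW⟩, hWx⟩
  have hcard₀ : Fintype.card (Unit ⊕ (Fin (d - m) ⊕ Fin (d - m))) = 2 * (d - m) + 1 := by simp; omega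
  have hmain := CfsgLib.OrthFix57.ts_fix_iff (n := 2 * d + 1) (n₀ := 2 * (d - m) + 1) hr2 hrK hQ hsp (by omega)
    (P := CfsgLib.QuadType.IsPlus (⇑Q) _) (P₀ := CfsgLib.QuadType.IsPlus (⇑Q₀) _) Iff.rfl Iff.rfl hcard hcard₀
  have hne := CfsgLib.OrthFix57.ts_top_ne (n := 2 * d + 1) (n₀ := 2 * (d - m) + 1) hr2 hrK hQ hsp (by omega)
    (P := CfsgLib.QuadType.IsPlus (⇑Q) _) (P₀ := CfsgLib.QuadType.IsPlus (⇑Q₀) _) Iff.rfl Iff.rfl hcard hcard₀ hrΩ
  rw [CfsgLib.OrthFix.orderFix_iff hQ (by omega) hr2]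
  refine Iff.trans hmain ?_
  have hii : i = CfsgLib.OrthFix.isz hrK := by rw [hi, ← hq]
  rw [← hii] at hne ⊢
  rw [CfsgLib.OrthFix.top_of_odd ⟨d, rfl⟩, CfsgLib.OrthFix.top_of_odd ⟨d - m, rfl⟩] at hne ⊢
  have hr3 : 2 < r := lt_of_le_of_ne (Fact.out : r.Prime).two_le (Ne.symm hr2)
  have hcc : c = CfsgLib.OrthFix.cc i := hc
  rw [← hcc] at hne ⊢
  have hipos : 0 < i := hii ▸ CfsgLib.OrthFix.isz_pos hrK
  have hcpos : 0 < c := hcc ▸ CfsgLib.OrthFix.cc_pos hipos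
  obtain ⟨b, hb⟩ : ∃ b, 2 * (d - m) + 1 = b := ⟨_, rfl⟩
  rw [hb] at hne ⊢
  have hsum : 2 * d + 1 = b + (m + m) := by omega
  have e1 := CfsgLib.OrthFix.div_split b (m + m) c hcpos
  rw [← hsum] at e1
  have e5 := Nat.mod_lt b hcpos
  have e6 := hcc ▸ CfsgLib.OrthFix.mod_parity b i
  have e7 := hcc ▸ CfsgLib.OrthFix.mod_parity (2 * d + 1) i
  have eA : (m < i ∧ m / i = 0) ∨ (i ≤ m ∧ 1 ≤ m / i) :=
    (CfsgLib.OrthFix.div_small m i hipos).imp (fun h => ⟨h.1, h.2.1⟩) id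
  have hC2 : (i % 2 = 0 ∧ c = i ∧ ((m % i + m % i < i ∧ (m + m) / c = m / i + m / i ∧ (m + m) % c = m % i + m % i) ∨
      (i ≤ m % i + m % i ∧ (m + m) / c = m / i + m / i + 1 ∧ (m + m) % c + i = m % i + m % i))) ∨
      (i % 2 = 1 ∧ c = 2 * i ∧ (m + m) / c = m / i ∧ (m + m) % c = 2 * (m % i)) := by
    rcases Nat.even_or_odd i with h | h
    · have e := hcc.trans (CfsgLib.OrthFix.cc_of_even h)
      refine Or.inl ⟨Nat.even_iff.1 h, e, ?_⟩
      rw [e]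
      exact (CfsgLib.OrthFix.div_split m m i hipos).imp (fun h => ⟨h.1, h.2.2, h.2.1⟩) fun h => ⟨h.1, h.2.2, h.2.1⟩
    · have e := hcc.trans (CfsgLib.OrthFix.cc_of_odd h)
      refine Or.inr ⟨Nat.odd_iff.1 h, e, ?_, ?_⟩ <;> rw [e, ← two_mul]
      · exact Nat.mul_div_mul_left _ _ two_pos
      · exact Nat.mul_mod_mul_left _ _ _
  simp only [hr2, hrp, hr3, ne_eq, not_false_eq_true, true_and, false_and, false_or, Nat.odd_iff, Nat.even_iff]
  exact blocks_arith i c (2 * d + 1) m b (m / i) (m % i) (m + m) ((m + m) / c) ((2 * d + 1) % c) (b % c)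
    ((2 * d + 1) / c) (b / c) ((r - 1) / i) hsum (by omega) hipos hC2 (Nat.mod_lt m hipos) eA e1 (by omega) (by omega)
    e5 hne |>.trans (by
      rcases hC2 with ⟨hi2, hci, -⟩ | ⟨hi2, -⟩
      · rw [hci]
      · simp [hi2])

end Cfsg.Agent.S5972
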