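import Cfsg.Statements.S5974
import Cfsg.Agent.Lib.OrthFix57.InvolTwo
import Cfsg.Agent.Lib.OrthFix57.WitnessTwo

set_option autoImplicit false
set_option maxHeartbeats 4000000
open scoped MatrixGroups Matrix
open Cfsg

namespace Cfsg.Agent.S5974

theorem blocks_arith (i c m n : ℕ) {A B K Na Nb Nn D : ℕ} (b : ℕ) (hn : n = m + b) (hm : m % 2 = 0) (hb : b % 2 = 0)
    (hc : (i % 2 = 0 ∧ c = i) ∨ (i % 2 = 1 ∧ c = 2 * i)) (hmb : m < b) (hm0 : 0 < m)
    (e1 : (A + B < c ∧ K = A + B ∧ Nn = Na + Nb) ∨ (c ≤ A + B ∧ K + c = A + B ∧ Nn = Na + Nb + 1))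
    (e2 : (m < c ∧ Na = 0 ∧ A = m) ∨ (c ≤ m ∧ 1 ≤ Na))
    (e3 : (b < c ∧ Nb = 0 ∧ B = b) ∨ (c ≤ b ∧ 1 ≤ Nb))
    (eA : A % 2 = 0) (eB : B % 2 = 0) (eK : K % 2 = 0) (hAc : A < c) (hBc : B < c)
    (hD : A = K → D = Nn + Na)
    (h1 : (if ¬ A = 0 ∨ i % 2 = 1 ∨ Na % 2 = 0 then Na else Na - 1) ≠
      if ¬ K = 0 ∨ i % 2 = 1 ∨ Nn % 2 = 0 then Nn else Nn - 1)
    (h2 : (if ¬ B = 0 ∨ i % 2 = 1 ∨ Nb % 2 = 0 then Nb else Nb - 1) ≠
      if ¬ K = 0 ∨ i % 2 = 1 ∨ Nn % 2 = 0 then Nn else Nn - 1) :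
    (if ¬ K = 0 ∨ i % 2 = 1 ∨ Nn % 2 = 0 then Nn else Nn - 1) ≤
      (if ¬ A = 0 ∨ i % 2 = 1 ∨ Na % 2 = 0 then Na else Na - 1) +
      (if ¬ B = 0 ∨ i % 2 = 1 ∨ Nb % 2 = 0 then Nb else Nb - 1) ↔
    ((i % 2 = 1 ∧ c ≤ m ∧ A ≤ K) ∨
      (i % 2 = 0 ∧ ((K = 0 ∧ (Nn % 2 = 1 ∨ (A = 0 ∧ Na % 2 = 0))) ∨
        (i ≤ m ∧ ((A < K ∧ 0 < A) ∨ (K = A ∧ 0 < A ∧ D % 2 = 0) ∨ (0 < K ∧ A = 0 ∧ Na % 2 = 0)))))) := by
  rcases hc with ⟨hi, rfl⟩ | ⟨hi, rfl⟩ <;> rcases e1 with e1 | e1 <;> rcases e2 with e2 | e2 <;>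
    rcases e3 with e3 | e3 <;> simp only [hi, true_and, false_and, Nat.zero_ne_one, Nat.one_ne_zero, false_or, or_false, true_or, or_true, ne_eq, if_true] at h1 h2 ⊢ <;>
    (try split_ifs at h1 h2 ⊢) <;> omega


/-- Elements of prime order of PΩ⁺_n(q), n = 2d ≥ 8, with no fixed nondegenerate hyperbolic `m`-space. Here `T = PΩ⁺_n(q)` is realised through `Ω⁺_n(q)`, the commutator subgroup of the isometry group of `Q = Σ xᵢyᵢ` over the field `F` with `q` elements; an element of `T` of prime order `r` is an element `x` of `Ω⁺_n(q)` with `x^r` scalar and `x` not scalar. A hyperbolic `m`-space is a subspace `W` of even dimension `m` on which the polar form of `Q` is nondegenerate and which contains a totally singular subspace of dimension `m/2`. Let `m` be even with `2 ≤ m < n/2`, and let `r` be a prime dividing the number of hyperbolic `m`-spaces, with `r = 2` or `r ≠ p`. For `r ≠ p` let `i` be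 the multiplicative order of `q` modulo `r`, `c = i` for `i` even and `c = 2i` for `i` odd, and write `k = n mod c`, `ℓ' = m mod c`. Then every element of `T` of order `r` fixes some hyperbolic `m`-space if and only if one of: (i) `r = 2` and (`n ≡ 2 (mod 4)`, or `m ≡ 0 (mod 4)`, or `q ≡ 1 (mod 4)`); (ii) `r ≠ p` odd, `i` odd, `c ≤ m` and `k ≥ ℓ'`; (iii) `r ≠ p` odd, `i` even, and either `k = 0` and (`n/i` odd, or `ℓ' = 0` and `m/i` even), or `i ≤ m` and (`k > ℓ' > 0`, or `k = ℓ' > 0` and `(n + m − 2k)/i` even, or `k > ℓ' = 0` and `m/i` even). -/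
theorem result {F : Type*} [Field F] [Fintype F] {p : ℕ} [Fact p.Prime] [CharP F p] {q : ℕ} (hq : Fintype.card F = q)
    (d m : ℕ) (hd : 4 ≤ d) (hm : 2 ≤ m) (hme : Even m) (hmd : m < d)
    (r : ℕ) [Fact r.Prime] (hr : r = 2 ∨ r ≠ p)
    (hrΩ : r ∣ Nat.card {W : Submodule F (Fin d ⊕ Fin d → F) // (Module.finrank F ↥W = m ∧ (∀ u ∈ W, u ≠ 0 → ∃ v ∈ W, QuadraticMap.polar (Cfsg.quadFormPlus d F) u v ≠ 0) ∧
          ∃ U : Submodule F (Fin d ⊕ Fin d → F), U ≤ W ∧ 2 * Module.finrank F ↥U = m ∧ ∀ u ∈ U, Cfsg.quadFormPlus d F u = 0)})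
    (i c : ℕ) (hi : i = orderOf (q : ZMod r)) (hc : c = if Even i then i else 2 * i) :
    (∀ x : GL (Fin d ⊕ Fin d) F, x ∈ Cfsg.Geo.omegaGL (Cfsg.quadFormPlus d F) →
      (∃ z : F, ((x ^ r : GL (Fin d ⊕ Fin d) F) : Matrix (Fin d ⊕ Fin d) (Fin d ⊕ Fin d) F) = z • (1 : Matrix (Fin d ⊕ Fin d) (Fin d ⊕ Fin d) F)) →
      (∀ z : F, (x : Matrix (Fin d ⊕ Fin d) (Fin d ⊕ Fin d) F) ≠ z • (1 : Matrix (Fin d ⊕ Fin d) (Fin d ⊕ Fin d) F)) →
      ∃ W : Submodule F (Fin d ⊕ Fin d → F), (Module.finrank F ↥W = m ∧ (∀ u ∈ W, u ≠ 0 → ∃ v ∈ W, QuadraticMap.polar (Cfsg.quadFormPlus d F) u v ≠ 0) ∧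
          ∃ U : Submodule F (Fin d ⊕ Fin d → F), U ≤ W ∧ 2 * Module.finrank F ↥U = m ∧ ∀ u ∈ U, Cfsg.quadFormPlus d F u = 0) ∧
        W.map (Matrix.toLin' (x : Matrix (Fin d ⊕ Fin d) (Fin d ⊕ Fin d) F)) ≤ W) ↔
    ((r = 2 ∧ ((2 * d) % 4 = 2 ∨ m % 4 = 0 ∨ q % 4 = 1)) ∨
     (r ≠ p ∧ 2 < r ∧ Odd i ∧ c ≤ m ∧ m % c ≤ (2 * d) % c) ∨
     (r ≠ p ∧ 2 < r ∧ Even i ∧
       (((2 * d) % c = 0 ∧ (Odd ((2 * d) / i) ∨ (m % c = 0 ∧ Even (m / i)))) ∨
        (i ≤ m ∧ ((m % c < (2 * d) % c ∧ 0 < m % c) ∨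
                  ((2 * d) % c = m % c ∧ 0 < m % c ∧ Even ((2 * d + m - 2 * ((2 * d) % c)) / i)) ∨
                  (0 < (2 * d) % c ∧ m % c = 0 ∧ Even (m / i))))))) := by
  obtain ⟨k, hk⟩ := hme
  have hm2 : m = 2 * k := by omega
  have hQ := CfsgLib.Orth.plusQ_nondegenerate (F := F) d
  obtain ⟨E, hE⟩ := CfsgLib.PrimeClasses.plus_add_plus' (F := F) (i := k) (j := d - k) (k := d) (by omega)
  rw [← CfsgLib.Orth.plusQ_coe] at *
  set Q := CfsgLib.Orth.plusQ d F with hQdef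
  rw [← CfsgLib.Orth.plusQ_coe, ← CfsgLib.Orth.plusQ_coe] at hE
  set Q₁ := CfsgLib.Orth.plusQ k F with hQ₁
  set Q₂ := CfsgLib.Orth.plusQ (d - k) F with hQ₂
  have hsp : CfsgLib.OrthFix.Splits Q Q₁ Q₂ E := hE
  have hPQ : CfsgLib.QuadType.IsPlus (⇑Q) d := by
    rw [hQdef, CfsgLib.Orth.plusQ_coe]; exact CfsgLib.OrthFix.isPlus_plusForm d
  have hP1 : CfsgLib.QuadType.IsPlus (⇑Q₁) k := by
    rw [hQ₁, CfsgLib.Orth.plusQ_coe]; exact CfsgLib.OrthFix.isPlus_plusForm k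
  have hP2 : CfsgLib.QuadType.IsPlus (⇑Q₂) (d - k) := by
    rw [hQ₂, CfsgLib.Orth.plusQ_coe]; exact CfsgLib.OrthFix.isPlus_plusForm _
  have hdim : Module.finrank F (CfsgLib.OrthFix.summand E) = 2 * k := by
    rw [CfsgLib.OrthFix.finrank_summand]; simp; omega
  have hnd := hsp.nondegenerateOn hQ
  have hplus : Cfsg.Geo.IsPlusTypeOn (⇑Q) (CfsgLib.OrthFix.summand E) := by
    rw [hsp.isPlusTypeOn_iff (k := k) (by simp; omega)]; exact hP1
  let C : Submodule F (Fin d ⊕ Fin d → F) → Prop := fun W => Module.finrank F ↥W = m ∧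
    (∀ u ∈ W, u ≠ 0 → ∃ v ∈ W, QuadraticMap.polar (⇑Q) u v ≠ 0) ∧
    ∃ U : Submodule F (Fin d ⊕ Fin d → F), U ≤ W ∧ 2 * Module.finrank F ↥U = m ∧ ∀ u ∈ U, Q u = 0
  have hC : ∀ W, C W ↔ CfsgLib.OrthFix.InClass (⇑Q) (CfsgLib.OrthFix.summand E) W := fun W => by
    rw [CfsgLib.OrthFix.inClass_iff_type hQ hnd hdim]
    simp only [C, iff_true_right hplus, hm2]
    constructor
    · rintro ⟨h1, h2, U, h3, h4, h5⟩
      refine ⟨h1, fun u hu hu0 => ?_, U, h3, h5, by omega⟩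
      obtain ⟨v, hv, hne⟩ := h2 u hu hu0
      exact ⟨⟨v, hv, by rwa [QuadraticMap.polar_comm]⟩, ⟨v, hv, hne⟩⟩
    · rintro ⟨h1, h2, U, h3, h5, h4⟩
      exact ⟨h1, fun u hu hu0 => (h2 u hu hu0).2, U, h3, by omega, h5⟩
  have hcard : Fintype.card (Fin d ⊕ Fin d) = 2 * d := by simp; omega
  show CfsgLib.OrthFix.ProjFix r (⇑Q) C ↔ _
  by_cases hrp : r = p
  · -- only the even characteristic occurs
    have hr2 : r = 2 := hr.resolve_right (not_not_intro hrp)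
    subst hrp hr2
    have hqe : q % 2 = 0 := by
      obtain ⟨e, -, he⟩ := FiniteField.card F 2
      rw [← hq, he, Nat.pow_mod]
      simp
    have hnot : q % 4 ≠ 1 := by omega
    constructor
    · intro h
      by_contra hno
      have hd2 : Even d := by
        rw [Nat.even_iff]
        by_contra h0
        exact hno (Or.inl ⟨rfl, Or.inl (by omega)⟩)
      obtain ⟨x, hx, hx2, hns, hW⟩ := CfsgLib.OrthFix57.exists_invol_four_only (F := F) hd2 (by omega)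
      rw [← CfsgLib.Orth.plusQ_coe, ← hQdef] at hx hW
      obtain ⟨W, hWc, hWx⟩ := h x hx ⟨1, by rw [hx2, Units.val_one, one_smul]⟩ hns
      have hWc' := (CfsgLib.OrthFix.inClass_iff_type hQ hnd hdim W).1 ((hC W).1 hWc)
      have := hW W hWx hWc'.2.1 k hWc'.1
      rw [Nat.even_iff] at this
      exact hno (Or.inl ⟨rfl, Or.inr (Or.inl (by omega))⟩)
    · intro h x hx ⟨z, hz⟩ _
      have hcond : Even k ∨ Odd d := by
        rw [Nat.even_iff, Nat.odd_iff]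
        rcases h with ⟨-, h | h | h⟩ | ⟨h, -⟩ | ⟨h, -⟩
        · exact Or.inr (by omega)
        · exact Or.inl (by omega)
        · omega
        · exact absurd rfl h
        · exact absurd rfl h
      have hxQ : ∀ v, Q ((x : Matrix (Fin d ⊕ Fin d) (Fin d ⊕ Fin d) F) *ᵥ v) = Q v :=
        fun v => CfsgLib.OrthFix.isometry_of_mem_omegaGL hx v v
      have hz1 : z = 1 := by
        have h1 : z * z = 1 := CfsgLib.OrthFix.scalar_sq_eq_one hQ (by omega) fun u => by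
          have := (pow_mem (CfsgLib.OrthFix.isometry_of_mem_omegaGL hx) 2 :
            x ^ 2 ∈ Cfsg.isometryGroup F (⇑Q)) u u
          simpa [hz, Matrix.smul_mulVec] using this
        rcases mul_self_eq_one_iff.1 h1 with h2 | h2
        · exact h2
        · rw [h2, CharTwo.neg_eq]
      have hxx : (x : Matrix (Fin d ⊕ Fin d) (Fin d ⊕ Fin d) F) * x = 1 := by
        rw [← pow_two, ← Units.val_pow_eq_pow_val, hz, hz1, one_smul]
      have htop : Cfsg.Geo.IsNondegenerateOn (QuadraticMap.polar (⇑Q)) ⊤ := fun u _ hu => by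
        obtain ⟨v, hv⟩ : ∃ v, QuadraticMap.polar (⇑Q) u v ≠ 0 := by
          by_contra hno
          push Not at hno
          exact hu (hQ.1 u hno)
        exact ⟨⟨v, trivial, by rwa [QuadraticMap.polar_comm]⟩, ⟨v, trivial, hv⟩⟩
      obtain ⟨Q₀, X₀, Φ, hs⟩ := CfsgLib.OrthFix57.exists_sub hQ
        (X := (x : Matrix (Fin d ⊕ Fin d) (Fin d ⊕ Fin d) F)) htop le_top (n := 2 * d)
        (by rw [finrank_top, Module.finrank_fintype_fun_eq_card, hcard])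
      have hpl : CfsgLib.QuadType.IsPlus (⇑Q₀) d := (hs.isPlus_iff (by simp)).1
        ((CfsgLib.QuadType.isPlusTypeOn_top_iff hcard).2 hPQ)
      obtain ⟨W, ⟨hWn, hWi⟩, hWd, hWp⟩ := CfsgLib.OrthFix57.exists_plus_invariant (j := k) hs.nondeg
        (by rw [← pow_two]; exact hs.pow_eq_one (by rw [pow_two, hxx])) (hs.isometry hxQ) rfl hpl (by omega) hcond
      exact ⟨W.map Φ, (hC _).2 ((CfsgLib.OrthFix.inClass_iff_type hQ hnd hdim _).2
        ⟨by rw [hs.finrank_map, hWd], hs.map_nondeg hWn, iff_of_true (hs.map_plus hWp) hplus⟩), hs.map_inv hWi⟩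
  have hrK : (r : F) ≠ 0 := fun h =>
    hrp ((Nat.prime_dvd_prime_iff_eq (Fact.out) (Fact.out)).1 ((CharP.cast_eq_zero_iff F p r).1 h)).symm
  by_cases hr2 : r = 2
  · subst hr2
    have hp2 : p ≠ 2 := fun h => hrp h.symm
    have h2 : (2 : F) ≠ 0 := by exact_mod_cast hrK
    have hodd : q % 2 = 1 := hq ▸ FiniteField.odd_card_of_char_ne_two (by rwa [ringChar.eq F p])
    rw [CfsgLib.OrthFix.projFix_two h2 hQ hcard (by omega) hnd (by omega) (by omega) hC,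
      CfsgLib.OrthFix.isSquare_two_iff' hq hodd, CfsgLib.OrthFix.isSquare_neg_one_iff' hq hodd]
    simp only [iff_true_left hPQ, iff_true_left hplus, ne_eq,
      lt_irrefl, true_and, false_and, and_false, or_false, Nat.even_iff, Nat.odd_iff]
    constructor
    · intro h
      by_cases he : d % 2 = 0
      · obtain ⟨k', hk', hk''⟩ := h (Or.inl he) (Or.inl he)
        omega
      · omega
    · intro h h1 h3
      exact ⟨k, hdim, by omega⟩
  obtain ⟨hmain, hsum, hne1, hne2⟩ := CfsgLib.OrthFix.matFix_iff (n := 2 * d) (a := m) (b := 2 * d - m) hr2 hrK hQ hsp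
    hC hrΩ (P := True) (P₁ := True) (P₂ := True)
    (iff_true_intro (by rw [hcard, Nat.mul_div_cancel_left _ two_pos]; exact hPQ))
    (iff_true_intro (by
      rw [show Fintype.card (Fin k ⊕ Fin k) / 2 = k by simp; omega]; exact hP1))
    (iff_true_intro (by
      rw [show Fintype.card (Fin (d - k) ⊕ Fin (d - k)) / 2 = d - k by simp; omega]; exact hP2))
    hcard (by simp; omega) (by simp; omega) (by omega) (by omega)
  rw [CfsgLib.OrthFix.projFix_iff hQ (by omega) hr2, hmain]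
  have hii : i = CfsgLib.OrthFix.isz hrK := by rw [hi, ← hq]
  rw [← hii] at hne1 hne2 ⊢
  simp only [CfsgLib.OrthFix.top_plus _ _ trivial] at hne1 hne2 ⊢
  have hr3 : 2 < r := lt_of_le_of_ne (Fact.out : r.Prime).two_le (Ne.symm hr2)
  have hcc : c = CfsgLib.OrthFix.cc i := hc
  rw [← hcc] at hne1 hne2 ⊢
  have hipos : 0 < i := hii ▸ CfsgLib.OrthFix.isz_pos hrK
  have hcpos : 0 < c := hcc ▸ CfsgLib.OrthFix.cc_pos hipos
  obtain ⟨b, hb⟩ : ∃ b, 2 * d - m = b := ⟨_, rfl⟩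
  rw [hb] at hne2 hsum ⊢
  have e1 := CfsgLib.OrthFix.div_split m b c hcpos
  have e2 := CfsgLib.OrthFix.div_small m c hcpos
  have e3 := CfsgLib.OrthFix.div_small b c hcpos
  have e4 := Nat.mod_lt m hcpos
  have e5 := Nat.mod_lt b hcpos
  have e6 := hcc ▸ CfsgLib.OrthFix.mod_parity b i
  have e7 := hcc ▸ CfsgLib.OrthFix.mod_parity (2 * d) i
  have e8 := hcc ▸ CfsgLib.OrthFix.mod_parity m i
  rw [← hsum] at e1
  simp only [hr2, hrp, hr3, ne_eq, not_false_eq_true, true_and, false_and, false_or, Nat.odd_iff, Nat.even_iff] at hne1 hne2 ⊢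
  have hC2 : (i % 2 = 0 ∧ c = i) ∨ (i % 2 = 1 ∧ c = 2 * i) := by
    rcases Nat.even_or_odd i with h | h
    · exact Or.inl ⟨Nat.even_iff.1 h, hcc.trans (CfsgLib.OrthFix.cc_of_even h)⟩
    · exact Or.inr ⟨Nat.odd_iff.1 h, hcc.trans (CfsgLib.OrthFix.cc_of_odd h)⟩
  have hmain2 := blocks_arith i c m (2 * d) (A := m % c) (B := b % c) (K := (2 * d) % c) (Na := m / c)
    (Nb := b / c) (Nn := (2 * d) / c) (D := (2 * d + m - 2 * ((2 * d) % c)) / c) b hsum (by omega) (by omega) hC2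
    (by omega) (by omega) e1 e2 e3 (by omega) (by omega) (by omega) e4 e5
    (CfsgLib.OrthFix.div_diag _ _ c hcpos) hne1 hne2
  rw [hmain2]
  rcases hC2 with ⟨hi2, rfl⟩ | ⟨hi2, -⟩
  · simp [hi2]
  · simp [hi2]

end Cfsg.Agent.S5974
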