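import Cfsg.Statements.S5976
import Cfsg.Agent.Lib.Sp.Simple
import Cfsg.Agent.Lib.Sp.Decomp
import Cfsg.Agent.Lib.Sp.Card
import Cfsg.Agent.Lib.Maximal99.SympWitness
import Cfsg.Agent.Lib.Maximal99.QuadStructure
import Cfsg.Agent.Lib.ClassicalGroups.HermGroup
import Cfsg.Agent.Lib.Geo.FieldTransvection

set_option autoImplicit false
open scoped MatrixGroups
open scoped Matrix
open Cfsg

namespace Cfsg.Agent.S5976

open CfsgLib.Sp Matrix Module Polynomial CfsgLib.SympSemiR

variable {F : Type*} [Field F] {d : ℕ}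

/-- An anti-self-adjoint operator with square `δ`. -/
structure IsAnti (τ : Module.End F (Fin d ⊕ Fin d → F)) (δ : F) : Prop where
  skew : ∀ u v, sympBilin d F (τ u) v = - sympBilin d F u (τ v)
  sq : ∀ v, τ (τ v) = δ • v

lemma flip (u v : Fin d ⊕ Fin d → F) : sympBilin d F v u = - sympBilin d F u v := alt_flip sympBilin_isAlt u v

/-- A family with the standard Gram matrix. -/
def Std {s : ℕ} (u v : Fin s → Fin d ⊕ Fin d → F) : Prop :=
  (∀ i k, sympBilin d F (u i) (u k) = 0) ∧ (∀ i k, sympBilin d F (v i) (v k) = 0) ∧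
    ∀ i k, sympBilin d F (u i) (v k) = if i = k then 1 else 0

lemma std_li {s : ℕ} {u v : Fin s → Fin d ⊕ Fin d → F} (h : Std u v) : LinearIndependent F (Sum.elim u v) := by
  obtain ⟨huu, hvv, huv⟩ := h
  refine Fintype.linearIndependent_iff.2 fun c hc => ?_
  rw [Fintype.sum_sum_type] at hc
  simp only [Sum.elim_inl, Sum.elim_inr] at hc
  rintro (i | i)
  · have := congrArg (fun x => sympBilin d F x (v i)) hc
    simpa [huv, hvv] using this
  · have := congrArg (fun x => sympBilin d F (u i) x) hc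
    simpa [huu, huv] using this

lemma exists_std_basis {u v : Fin d → Fin d ⊕ Fin d → F} (h : Std u v) :
    ∃ b : Basis (Fin d ⊕ Fin d) F (Fin d ⊕ Fin d → F), (∀ i, b (.inl i) = u i) ∧ (∀ i, b (.inr i) = v i) := by
  rcases Nat.eq_zero_or_pos d with rfl | hd
  · exact ⟨Pi.basisFun F _, fun i => i.elim0, fun i => i.elim0⟩
  haveI : Nonempty (Fin d ⊕ Fin d) := ⟨.inl ⟨0, hd⟩⟩
  refine ⟨basisOfLinearIndependentOfCardEqFinrank (std_li h) (by simp), fun i => ?_, fun i => ?_⟩ <;> simp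

/-- Linear maps preserving the form are symplectic. -/
lemma exists_sp (Y : Module.End F (Fin d ⊕ Fin d → F))
    (hY : ∀ u v, sympBilin d F (Y u) (Y v) = sympBilin d F u v) :
    ∃ g ∈ Cfsg.spGL d F, ∀ v, (g : Matrix (Fin d ⊕ Fin d) (Fin d ⊕ Fin d) F) *ᵥ v = Y v := by
  have hM : LinearMap.toMatrix' Y ∈ Matrix.symplecticGroup (Fin d) F := mem_symplecticGroup_iff.2 fun u v => by
    rw [← sympBilin_apply, ← sympBilin_apply, LinearMap.toMatrix'_mulVec, LinearMap.toMatrix'_mulVec, hY]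
  exact ⟨(spEquiv d F ⟨_, hM⟩).1, (spEquiv d F ⟨_, hM⟩).2, fun v => LinearMap.toMatrix'_mulVec Y v⟩

lemma mulVec_symp {g : GL (Fin d ⊕ Fin d) F} (hg : g ∈ Cfsg.spGL d F) (u v : Fin d ⊕ Fin d → F) :
    sympBilin d F ((g : Matrix (Fin d ⊕ Fin d) (Fin d ⊕ Fin d) F) *ᵥ u)
      ((g : Matrix (Fin d ⊕ Fin d) (Fin d ⊕ Fin d) F) *ᵥ v) = sympBilin d F u v := by
  rw [sympBilin_apply, sympBilin_apply]; exact hg u v

/-- A form of rank two represents every element. -/
lemma exists_val [Fintype F] (h2 : (2 : F) ≠ 0) {δ : F} (hδ : δ ≠ 0) (c : F) :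
    ∃ a b : F, a ^ 2 - δ * b ^ 2 = c := by
  have hodd : Fintype.card F % 2 = 1 :=
    FiniteField.odd_card_of_char_ne_two (fun h => h2 (by
      haveI := ringChar.of_eq h
      exact CharP.ofNat_eq_zero F 2))
  obtain ⟨a, b, h⟩ := FiniteField.exists_root_sum_quadratic (f := (X ^ 2 - C c : F[X])) (g := C (-δ) * X ^ 2)
    (Polynomial.degree_X_pow_sub_C (by norm_num) _) (Polynomial.degree_C_mul_X_pow 2 (neg_ne_zero.2 hδ)) hodd
  simp only [eval_sub, eval_pow, eval_X, eval_C, eval_mul] at h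
  exact ⟨a, b, by linear_combination h⟩

/-- Adapted pairs. -/
lemma exists_pairs [Fintype F] (h2 : (2 : F) ≠ 0) {τ : Module.End F (Fin d ⊕ Fin d → F)} {δ : F} (hδ : δ ≠ 0)
    (hτ : IsAnti τ δ) : ∃ u : Fin d → Fin d ⊕ Fin d → F, Std u fun i => τ (u i) := by
  have hA : (sympBilin d F).IsAlt := sympBilin_isAlt
  suffices key : ∀ (s : ℕ) (R : Submodule F (Fin d ⊕ Fin d → F)), Nd (sympBilin d F) R → (∀ x ∈ R, τ x ∈ R) →
      finrank F R = 2 * s → ∃ u : Fin s → Fin d ⊕ Fin d → F, (∀ i, u i ∈ R) ∧ Std u fun i => τ (u i) by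
    obtain ⟨u, -, h⟩ := key d ⊤ (CfsgLib.SympWitness.nd_top d) (fun _ _ => Submodule.mem_top) (by simp [two_mul])
    exact ⟨u, h⟩
  intro s
  induction s with
  | zero => exact fun R _ _ _ => ⟨Fin.elim0, fun i => i.elim0, fun i => i.elim0, fun i => i.elim0, fun i => i.elim0⟩
  | succ s ih =>
    intro R hR hinv hdim
    obtain ⟨w0, hw0R, hw0⟩ : ∃ w ∈ R, sympBilin d F w (τ w) ≠ 0 := by
      by_contra hcon
      push Not at hcon
      have hpol : ∀ u ∈ R, ∀ v ∈ R, sympBilin d F u (τ v) = 0 := fun u hu v hv => by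
        have h := hcon (u + v) (R.add_mem hu hv)
        rw [map_add τ, map_add, map_add, LinearMap.add_apply, LinearMap.add_apply, hcon u hu, hcon v hv] at h
        have h' : sympBilin d F v (τ u) = sympBilin d F u (τ v) := by
          rw [flip (τ u) v, hτ.skew, neg_neg]
        rw [h'] at h
        exact mul_left_cancel₀ h2 (by linear_combination h)
      have hbot : R = ⊥ := (Submodule.eq_bot_iff _).2 fun u hu => hR u hu fun v hv => by
        have := hpol u hu (δ⁻¹ • τ v) (R.smul_mem _ (hinv v hv))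
        rwa [map_smul τ, hτ.sq, inv_smul_smul₀ hδ] at this
      rw [hbot, finrank_bot] at hdim
      omega
    obtain ⟨α, β, hαβ⟩ := exists_val h2 hδ (sympBilin d F w0 (τ w0))⁻¹
    obtain ⟨w, hwR, hw⟩ : ∃ w ∈ R, sympBilin d F w (τ w) = 1 := by
      refine ⟨α • w0 + β • τ w0, R.add_mem (R.smul_mem _ hw0R) (R.smul_mem _ (hinv _ hw0R)), ?_⟩
      simp only [map_add, map_smul, LinearMap.add_apply, LinearMap.smul_apply, smul_eq_mul, hτ.sq, hA.self_eq_zero,
        flip w0 (τ w0)]
      have hc : (sympBilin d F w0 (τ w0))⁻¹ * sympBilin d F w0 (τ w0) = 1 := inv_mul_cancel₀ hw0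
      linear_combination hc + sympBilin d F w0 (τ w0) * hαβ
    set W : Submodule F (Fin d ⊕ Fin d → F) := Submodule.span F {w, τ w} with hW
    have hWR : W ≤ R := Submodule.span_le.2 (by
      rintro x (rfl | rfl)
      · exact hwR
      · exact hinv _ hwR)
    have hWnd : Nd (sympBilin d F) W := by
      intro x hx hall
      obtain ⟨a, b, rfl⟩ := Submodule.mem_span_pair.1 hx
      have h1 := hall w (Submodule.subset_span (Set.mem_insert _ _))
      have h3 := hall (τ w) (Submodule.subset_span (Set.mem_insert_of_mem _ rfl))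
      simp only [map_add, map_smul, LinearMap.add_apply, LinearMap.smul_apply, smul_eq_mul, hA.self_eq_zero,
        flip w (τ w), hw] at h1 h3
      rw [show a = 0 by linear_combination h3, show b = 0 by linear_combination -h1, zero_smul, zero_smul, add_zero]
    have hli : LinearIndependent F ![w, τ w] := LinearIndependent.pair_iff.2 fun a b hab => by
      refine ⟨?_, ?_⟩
      · have := congrArg (fun x => sympBilin d F x (τ w)) hab
        simpa [hA.self_eq_zero, hw] using this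
      · have := congrArg (fun x => sympBilin d F w x) hab
        simpa [hA.self_eq_zero, hw] using this
    have hWdim : finrank F W = 2 := by
      rw [hW, show ({w, τ w} : Set _) = Set.range ![w, τ w] by simp [Matrix.range_cons_cons_empty, Set.pair_comm],
        finrank_span_eq_card hli, Fintype.card_fin]
    obtain ⟨hnd', hdim'⟩ := nd_inf_orth hA hR hWnd hWR
    obtain ⟨u, huR, huu, hvv, huv⟩ := ih _ hnd' (fun x hx => ⟨hinv x hx.1, (mem_orth hA).2 fun y hy => by
      obtain ⟨a, b, rfl⟩ := Submodule.mem_span_pair.1 hy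
      rw [hτ.skew, map_add τ, map_smul τ, map_smul τ, hτ.sq, (mem_orth hA).1 hx.2 _ (W.add_mem
        (W.smul_mem a (Submodule.subset_span (Set.mem_insert_of_mem _ rfl)))
        (W.smul_mem b (W.smul_mem δ (Submodule.subset_span (Set.mem_insert _ _))))), neg_zero]⟩) (by omega)
    have ho : ∀ i, ∀ y ∈ W, sympBilin d F (u i) y = 0 ∧ sympBilin d F (τ (u i)) y = 0 := fun i y hy => by
      refine ⟨(mem_orth hA).1 (huR i).2 y hy, ?_⟩
      obtain ⟨a, b, rfl⟩ := Submodule.mem_span_pair.1 hy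
      rw [hτ.skew, map_add τ, map_smul τ, map_smul τ, hτ.sq, (mem_orth hA).1 (huR i).2 _ (W.add_mem
        (W.smul_mem a (Submodule.subset_span (Set.mem_insert_of_mem _ rfl)))
        (W.smul_mem b (W.smul_mem δ (Submodule.subset_span (Set.mem_insert _ _))))), neg_zero]
    have hw' : w ∈ W := Submodule.subset_span (Set.mem_insert _ _)
    have htw' : τ w ∈ W := Submodule.subset_span (Set.mem_insert_of_mem _ rfl)
    refine ⟨Fin.cons w u, Fin.cases hwR fun i => (huR i).1, ?_, ?_, ?_⟩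
    · intro i k
      refine Fin.cases ?_ (fun i => ?_) i <;> refine Fin.cases ?_ (fun k => ?_) k <;>
        simp only [Fin.cons_zero, Fin.cons_succ]
      · exact hA.self_eq_zero w
      · rw [flip (u k) w, (ho k w hw').1, neg_zero]
      · exact (ho i w hw').1
      · exact huu i k
    · intro i k
      refine Fin.cases ?_ (fun i => ?_) i <;> refine Fin.cases ?_ (fun k => ?_) k <;>
        simp only [Fin.cons_zero, Fin.cons_succ]
      · exact hA.self_eq_zero (τ w)
      · rw [flip (τ (u k)) (τ w), (ho k _ htw').2, neg_zero]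
      · exact (ho i _ htw').2
      · exact hvv i k
    · intro i k
      refine Fin.cases ?_ (fun i => ?_) i <;> refine Fin.cases ?_ (fun k => ?_) k <;>
        simp only [Fin.cons_zero, Fin.cons_succ]
      · simpa using hw
      · rw [flip (τ (u k)) w, (ho k w hw').2, neg_zero, if_neg (Fin.succ_ne_zero k).symm]
      · rw [(ho i _ htw').1, if_neg (Fin.succ_ne_zero i)]
      · rw [huv i k]; simp [Fin.succ_inj]

/-- All anti-self-adjoint operators with the same square are conjugate. -/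
lemma exists_conj_anti [Fintype F] (h2 : (2 : F) ≠ 0) {τ τ' : Module.End F (Fin d ⊕ Fin d → F)} {δ : F} (hδ : δ ≠ 0)
    (hτ : IsAnti τ δ) (hτ' : IsAnti τ' δ) :
    ∃ A ∈ Cfsg.spGL d F, ∀ v, (A : Matrix (Fin d ⊕ Fin d) (Fin d ⊕ Fin d) F) *ᵥ τ v =
      τ' ((A : Matrix (Fin d ⊕ Fin d) (Fin d ⊕ Fin d) F) *ᵥ v) := by
  obtain ⟨u, hu⟩ := exists_pairs h2 hδ hτ
  obtain ⟨u', hu'⟩ := exists_pairs h2 hδ hτ'
  obtain ⟨b, hb1, hb2⟩ := exists_std_basis hu
  obtain ⟨b', hb1', hb2'⟩ := exists_std_basis hu'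
  let e := b.equiv b' (Equiv.refl _)
  have he : ∀ i, e (b i) = b' i := fun i => by simp [e]
  have hpres : (sympBilin d F).compl₁₂ e.toLinearMap e.toLinearMap = sympBilin d F := by
    refine b.ext fun i => b.ext fun k => ?_
    show sympBilin d F (e (b i)) (e (b k)) = _
    rw [he, he]
    obtain ⟨p1, p2, p3⟩ := hu
    obtain ⟨p1', p2', p3'⟩ := hu'
    rcases i with i | i <;> rcases k with k | k <;> simp only [hb1, hb2, hb1', hb2']
    · rw [p1, p1']
    · rw [p3, p3']
    · rw [flip (u k) (τ (u i)), flip (u' k) (τ' (u' i)), p3, p3']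
    · rw [p2, p2']
  obtain ⟨A, hA, hAv⟩ := exists_sp e.toLinearMap fun x y => LinearMap.congr_fun₂ hpres x y
  refine ⟨A, hA, fun v => ?_⟩
  rw [hAv, hAv]
  refine LinearMap.congr_fun (b.ext (f₁ := e.toLinearMap ∘ₗ τ) (f₂ := τ' ∘ₗ e.toLinearMap) fun i => ?_) v
  simp only [LinearMap.comp_apply, LinearEquiv.coe_coe, he]
  rcases i with i | i
  · rw [hb1, hb1', ← hb2, he, hb2']
  · rw [hb2, hb2', hτ.sq, hτ'.sq, map_smul, ← hb1, he, hb1']

/-- Operators built on a standard basis. -/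
lemma exists_anti_of_std {u v : Fin d → Fin d ⊕ Fin d → F} (h : Std u v) (α β γ : F) :
    ∃ τ : Module.End F (Fin d ⊕ Fin d → F), IsAnti τ (α ^ 2 + β * γ) ∧
      (∀ i, τ (u i) = α • u i + β • v i) ∧ ∀ i, τ (v i) = -α • v i + γ • u i := by
  obtain ⟨b, hb1, hb2⟩ := exists_std_basis h
  let τ : Module.End F (Fin d ⊕ Fin d → F) :=
    b.constr F (Sum.elim (fun i => α • u i + β • v i) fun i => -α • v i + γ • u i)
  have e1 : ∀ i, τ (u i) = α • u i + β • v i := fun i => by
    have h := b.constr_basis F (Sum.elim (fun i => α • u i + β • v i) fun i => -α • v i + γ • u i) (.inl i)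
    rwa [hb1] at h
  have e2 : ∀ i, τ (v i) = -α • v i + γ • u i := fun i => by
    have h := b.constr_basis F (Sum.elim (fun i => α • u i + β • v i) fun i => -α • v i + γ • u i) (.inr i)
    rwa [hb2] at h
  obtain ⟨p1, p2, p3⟩ := h
  have p4 : ∀ i k, sympBilin d F (v i) (u k) = if i = k then -1 else 0 := fun i k => by
    rw [flip (u k) (v i), p3]
    by_cases hik : i = k
    · simp [hik]
    · simp [hik, Ne.symm hik]
  refine ⟨τ, ⟨?_, ?_⟩, e1, e2⟩
  · have key : (sympBilin d F).compl₁₂ τ LinearMap.id = -((sympBilin d F).compl₁₂ LinearMap.id τ) := by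
      refine b.ext fun i => b.ext fun k => ?_
      show sympBilin d F (τ (b i)) (b k) = - sympBilin d F (b i) (τ (b k))
      rcases i with i | i <;> rcases k with k | k <;>
        simp only [hb1, hb2, e1, e2, map_add, map_smul, LinearMap.add_apply, LinearMap.smul_apply, smul_eq_mul,
          p1, p2, p3, p4] <;>
        by_cases hik : i = k <;> simp [hik]
    exact fun x y => LinearMap.congr_fun₂ key x y
  · have key : τ ∘ₗ τ = (α ^ 2 + β * γ) • LinearMap.id := b.ext fun i => by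
      rcases i with i | i <;>
        simp only [LinearMap.comp_apply, LinearMap.smul_apply, LinearMap.id_apply, hb1, hb2, e1, e2, map_add, map_smul] <;>
        module
    exact fun x => LinearMap.congr_fun key x

/-- A standard family spanning a non-degenerate subspace. -/
lemma exists_std_sub {R : Submodule F (Fin d ⊕ Fin d → F)} (hR : Nd (sympBilin d F) R) :
    ∃ (s : ℕ) (u v : Fin s → Fin d ⊕ Fin d → F),
      finrank F R = 2 * s ∧ (∀ i, u i ∈ R ∧ v i ∈ R) ∧ Std u v := by
  obtain ⟨s, hs⟩ := nd_even sympBilin_isAlt hR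
  obtain ⟨e, he⟩ := CfsgLib.Sp.exists_std_equiv ((sympBilin d F).restrict R) (fun x => sympBilin_isAlt (x : Fin d ⊕ Fin d → F))
    (fun x hx => Subtype.ext (hR x x.2 fun y hy => hx ⟨y, hy⟩)) (show finrank F R = 2 * s by omega)
  refine ⟨s, fun i => (e (Pi.single (Sum.inr i) 1) : Fin d ⊕ Fin d → F),
    fun i => (e (Pi.single (Sum.inl i) 1) : Fin d ⊕ Fin d → F), by omega, fun i => ⟨(e _).2, (e _).2⟩, ?_, ?_, ?_⟩ <;>
    intro i k <;>
    refine (he _ _).trans ?_ <;> rw [sympForm_eq_sum] <;> simp [Pi.single_apply, eq_comm]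

/-- An involutory isometry commutes with an operator of each square. -/
lemma exists_anti_comm (h2 : (2 : F) ≠ 0) {X : Module.End F (Fin d ⊕ Fin d → F)}
    (hX : ∀ a b, sympBilin d F (X a) (X b) = sympBilin d F a b) (hX2 : ∀ a, X (X a) = a) (δ : F) :
    ∃ τ, IsAnti τ δ ∧ ∀ a, X (τ a) = τ (X a) := by
  have hA : (sympBilin d F).IsAlt := sympBilin_isAlt
  set Wp : Submodule F (Fin d ⊕ Fin d → F) := LinearMap.ker (X - 1) with hWp
  set Wm : Submodule F (Fin d ⊕ Fin d → F) := LinearMap.ker (X + 1) with hWm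
  have hp : ∀ a, a ∈ Wp ↔ X a = a := fun a => by simp [hWp, sub_eq_zero]
  have hm : ∀ a, a ∈ Wm ↔ X a = -a := fun a => by simp [hWm, add_eq_zero_iff_eq_neg]
  have hperp : ∀ a ∈ Wp, ∀ b ∈ Wm, sympBilin d F a b = 0 := fun a ha b hb => by
    have h := hX a b
    rw [(hp a).1 ha, (hm b).1 hb, map_neg] at h
    exact mul_left_cancel₀ h2 (by linear_combination -h)
  have hdec : ∀ a, ∃ a₁ ∈ Wp, ∃ a₂ ∈ Wm, a₁ + a₂ = a := fun a => by
    refine ⟨(2 : F)⁻¹ • (a + X a), (hp _).2 (by rw [map_smul, map_add, hX2, add_comm]), (2 : F)⁻¹ • (a - X a),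
      (hm _).2 (by rw [map_smul, map_sub, hX2, ← smul_neg, neg_sub]), ?_⟩
    rw [← smul_add, add_add_sub_cancel, ← two_smul F, inv_smul_smul₀ h2]
  have hndp : Nd (sympBilin d F) Wp := fun a ha hall =>
    sympBilin_separatingLeft _ fun b => by
      obtain ⟨b₁, h₁, b₂, h₂, rfl⟩ := hdec b
      rw [map_add, hall b₁ h₁, hperp a ha b₂ h₂, add_zero]
  have hndm : Nd (sympBilin d F) Wm := fun a ha hall =>
    sympBilin_separatingLeft _ fun b => by
      obtain ⟨b₁, h₁, b₂, h₂, rfl⟩ := hdec b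
      rw [map_add, flip b₁ a, hperp b₁ h₁ a ha, hall b₂ h₂, neg_zero, add_zero]
  obtain ⟨s, u, v, hs, hmem, hstd⟩ := exists_std_sub hndp
  obtain ⟨t, u', v', ht, hmem', hstd'⟩ := exists_std_sub hndm
  have hst : s + t = d := by
    have hsup : Wp ⊔ Wm = ⊤ := Submodule.eq_top_iff'.2 fun a => by
      obtain ⟨a₁, h₁, a₂, h₂, rfl⟩ := hdec a
      exact Submodule.add_mem_sup h₁ h₂
    have := (nd_sup hA hndp hndm hperp).2
    rw [hsup, finrank_top, Module.finrank_fintype_fun_eq_card, Fintype.card_sum, Fintype.card_fin, hs, ht] at this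
    omega
  subst hst
  have hS : Std (Fin.append u u') (Fin.append v v') := by
    obtain ⟨a1, a2, a3⟩ := hstd
    obtain ⟨b1, b2, b3⟩ := hstd'
    refine ⟨?_, ?_, ?_⟩ <;> intro i k <;> refine Fin.addCases (fun i => ?_) (fun i => ?_) i <;>
      refine Fin.addCases (fun k => ?_) (fun k => ?_) k <;> simp only [Fin.append_left, Fin.append_right]
    · exact a1 i k
    · exact hperp _ (hmem i).1 _ (hmem' k).1
    · rw [flip (u k) (u' i), hperp _ (hmem k).1 _ (hmem' i).1, neg_zero]
    · exact b1 i k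
    · exact a2 i k
    · exact hperp _ (hmem i).2 _ (hmem' k).2
    · rw [flip (v k) (v' i), hperp _ (hmem k).2 _ (hmem' i).2, neg_zero]
    · exact b2 i k
    · rw [a3 i k]; simp
    · rw [hperp _ (hmem i).1 _ (hmem' k).2, if_neg (by simp [Fin.ext_iff]; omega)]
    · rw [flip (v k) (u' i), hperp _ (hmem k).2 _ (hmem' i).1, neg_zero, if_neg (by simp [Fin.ext_iff]; omega)]
    · rw [b3 i k]; simp
  obtain ⟨b, hb1, hb2⟩ := exists_std_basis hS
  obtain ⟨τ, hτ, e1, e2⟩ := exists_anti_of_std hS 0 1 δ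
  refine ⟨τ, by simpa using hτ, fun a => ?_⟩
  refine LinearMap.congr_fun (b.ext (f₁ := X ∘ₗ τ) (f₂ := τ ∘ₗ X) fun i => ?_) a
  have hu : ∀ i, ∃ ε : F, X (Fin.append u u' i) = ε • Fin.append u u' i ∧ X (Fin.append v v' i) = ε • Fin.append v v' i := by
    refine Fin.addCases (fun i => ⟨1, ?_, ?_⟩) (fun i => ⟨-1, ?_, ?_⟩)
    · rw [Fin.append_left, one_smul]; exact (hp _).1 (hmem i).1
    · rw [Fin.append_left, one_smul]; exact (hp _).1 (hmem i).2
    · rw [Fin.append_right, neg_one_smul]; exact (hm _).1 (hmem' i).1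
    · rw [Fin.append_right, neg_one_smul]; exact (hm _).1 (hmem' i).2
  rcases i with i | i <;> obtain ⟨ε, hε1, hε2⟩ := hu i <;>
    simp only [LinearMap.comp_apply, hb1, hb2, e1, e2, map_add, map_smul, hε1, hε2] <;> module

section field

variable {p : ℕ} [Fintype F]

lemma neg_one_pow_val {q : ℕ} (hq : Fintype.card F = q) (hodd : Odd q) {δ : F} (hδ : ¬ IsSquare δ) :
    ∀ n : ℕ, δ ^ ((q ^ n - 1) / 2) = (-1) ^ n := by
  have hδ0 : δ ≠ 0 := fun h => hδ (h ▸ IsSquare.zero)
  have hchar : ringChar F ≠ 2 := fun h => by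
    have := FiniteField.even_card_of_char_two h
    rw [hq] at this
    exact Nat.not_even_iff_odd.2 hodd (Nat.even_iff.2 this)
  have h1 : δ ^ ((q - 1) / 2) = -1 := by
    rw [show (q - 1) / 2 = Fintype.card F / 2 by rw [hq]; obtain ⟨m, rfl⟩ := hodd; omega]
    exact (FiniteField.pow_dichotomy hchar hδ0).resolve_left fun h => hδ ((FiniteField.isSquare_iff hchar hδ0).2 h)
  intro n
  induction n with
  | zero => simp
  | succ n ih =>
    have hqn : 1 ≤ q ^ n := Nat.one_le_pow _ _ hodd.pos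
    obtain ⟨a, ha⟩ := hodd.pow (n := n)
    obtain ⟨c, hc⟩ := hodd
    have e : (q ^ (n + 1) - 1) / 2 = q * ((q ^ n - 1) / 2) + (q - 1) / 2 := by
      rw [pow_succ, ha, hc]
      simp only [Nat.add_sub_cancel, Nat.mul_div_cancel_left _ two_pos]
      rw [show (2 * a + 1) * (2 * c + 1) = 2 * ((2 * c + 1) * a + c) + 1 by ring, Nat.add_sub_cancel,
        Nat.mul_div_cancel_left _ two_pos]
    rw [e, pow_add, pow_mul, h1, show δ ^ q = δ by rw [← hq]; exact FiniteField.pow_card δ, ih, pow_succ]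

lemma aeval_frob {A : Type*} [Ring A] [Algebra F A] (x : A) (g : F[X]) :
    ∀ n : ℕ, aeval (x ^ Fintype.card F ^ n) g = (aeval x g) ^ Fintype.card F ^ n := by
  intro n
  induction n with
  | zero => simp
  | succ n ih =>
    rw [pow_succ, pow_mul, pow_mul, ← Polynomial.expand_aeval, FiniteField.expand_card, map_pow, ih]

end field

section cyclic

variable {r q : ℕ} [Fintype F] [Fact r.Prime] {T : Module.End F (Fin d ⊕ Fin d → F)}

lemma adjoint_poly (hT : T ^ r = 1) (hTB : ∀ a b, sympBilin d F (T a) (T b) = sympBilin d F a b) (g : F[X])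
    (a b : Fin d ⊕ Fin d → F) :
    sympBilin d F (aeval T g a) b = sympBilin d F a (aeval (T ^ (r - 1)) g b) := by
  induction g using Polynomial.induction_on' with
  | add g1 g2 h1 h2 => simp only [map_add, LinearMap.add_apply, h1, h2]
  | monomial n c =>
    simp only [aeval_monomial, Module.End.mul_apply, Module.algebraMap_end_apply, map_smul, LinearMap.smul_apply,
      CfsgLib.SympSemiR.adjoint hTB hT]

/-- A cyclic vector for the moved space. -/
lemma exists_cyclic (hr2 : r ≠ 2) (hq : Fintype.card F = q) {o e : ℕ} (ho : o = orderOf (q : ZMod r)) (ho0 : 0 < o)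
    (hr0 : (r : F) ≠ 0) (hT : T ^ r = 1) (hTB : ∀ a b, sympBilin d F (T a) (T b) = sympBilin d F a b)
    (he : finrank F ↥(LinearMap.range (T - 1)) = e * o) (hcases : e = 1 ∨ (e = 2 ∧ Odd o)) :
    ∃ v ∈ LinearMap.range (T - 1), ∀ x ∈ LinearMap.range (T - 1), ∃ g : F[X], x = aeval T g v := by
  classical
  obtain ⟨e', k, b, v, g, hb, hfix, hg, hspanT, -, hrange, -⟩ :=
    CfsgLib.SemiR.exists_cyclic_basis hq ho ho0 hr0 T hT
  obtain rfl : e' = e := Nat.eq_of_mul_eq_mul_right ho0 (hrange.symm.trans he)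
  set S : Submodule F (Fin d ⊕ Fin d → F) := Submodule.span F (Set.range fun s => b (.inl s)) with hS
  have hSr : LinearMap.range (T - 1) = S := by
    refine Submodule.eq_of_le_of_finrank_eq ?_ ?_
    · have : (⊤ : Submodule F (Fin d ⊕ Fin d → F)) ≤ S.comap (T - 1) := by
        rw [← b.span_eq, Submodule.span_le]
        rintro _ ⟨s, rfl⟩
        rw [SetLike.mem_coe, Submodule.mem_comap, LinearMap.sub_apply, Module.End.one_apply]
        rcases s with ⟨i, j⟩ | l
        · refine S.sub_mem ?_ (Submodule.subset_span ⟨(i, j), rfl⟩)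
          exact Submodule.span_mono (by rintro _ ⟨j', rfl⟩; exact ⟨(i, j'), rfl⟩) (hspanT i j)
        · rw [hfix, sub_self]; exact S.zero_mem
      rintro _ ⟨x, rfl⟩
      exact this Submodule.mem_top
    · rw [hrange, hS, finrank_span_eq_card (b := fun s => b (.inl s)) (b.linearIndependent.comp _ Sum.inl_injective),
        Fintype.card_prod, Fintype.card_fin, Fintype.card_fin]
  have hvS : ∀ i, v i ∈ LinearMap.range (T - 1) := fun i => by
    rw [hSr]
    exact Submodule.subset_span ⟨(i, ⟨0, ho0⟩), by simp [hb]⟩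
  obtain ⟨w, hw, hgen⟩ : ∃ w ∈ LinearMap.range (T - 1), ∀ i, ∃ h : F[X], v i = aeval T h w := by
    rcases hcases with rfl | ⟨rfl, hodd⟩
    · exact ⟨v 0, hvS 0, fun i => ⟨1, by rw [Subsingleton.elim i 0, map_one, Module.End.one_apply]⟩⟩
    · obtain ⟨hm0, hirr0, hdeg0, hdvd0, hev0⟩ := hg 0
      obtain ⟨hm1, hirr1, -, -, hev1⟩ := hg 1
      have hne : g 0 ≠ g 1 := by
        intro heq
        have hkill : ∀ x ∈ LinearMap.range (T - 1), aeval T (g 0) x = 0 := by
          rw [hSr]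
          intro x hx
          induction hx using Submodule.span_induction with
          | mem x hx =>
            obtain ⟨⟨i, j⟩, rfl⟩ := hx
            have hgi : g i = g 0 := by fin_cases i <;> simp [heq]
            show aeval T (g 0) (b (.inl (i, j))) = 0
            rw [hb, ← Module.End.mul_apply, show aeval T (g 0) * T ^ (j : ℕ) = T ^ (j : ℕ) * aeval T (g 0) from by
              rw [← aeval_X_pow (R := F) T, ← map_mul, ← map_mul, mul_comm], Module.End.mul_apply, ← hgi,
              (hg i).2.2.2.2, map_zero]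
          | zero => exact map_zero _
          | add x y _ _ hx hy => rw [map_add, hx, hy, add_zero]
          | smul c x _ hx => rw [map_smul, hx, smul_zero]
        have hndR := (CfsgLib.SympSemiR.nd_fix_move (sympBilin_isAlt (F := F) (m := d)) hTB hT hr0
          (CfsgLib.SympWitness.nd_top d)).2
        set g' : F[X] := expand F (r - 1) (g 0) with hg'
        have hg'v : aeval T g' (v 0) = 0 := by
          refine hndR _ (CfsgLib.SemiR.aeval_mem (T := T) (fun y hy => ?_) _ (hvS 0)) fun u hu => ?_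
          · obtain ⟨z, rfl⟩ := hy
            exact ⟨T z, by simp⟩
          · rw [flip u, hg', Polynomial.expand_aeval, ← adjoint_poly hT hTB, hkill u hu, map_zero, LinearMap.zero_apply,
              neg_zero]
        have hv0 : v 0 ≠ 0 := by
          intro h
          refine b.ne_zero (.inl (0, ⟨0, ho0⟩)) ?_
          rw [hb, h, map_zero]
        have hdiv : g 0 ∣ g' := by
          by_contra hnd
          obtain ⟨s, t, hst⟩ := hirr0.coprime_iff_not_dvd.2 hnd
          have := congrArg (fun f => aeval T f (v 0)) hst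
          simp only [map_add, map_mul, LinearMap.add_apply, Module.End.mul_apply, hev0, hg'v, map_zero, add_zero,
            map_one, Module.End.one_apply] at this
          exact hv0 this.symm
        haveI : Fact (Irreducible (g 0)) := ⟨hirr0⟩
        let ζ := AdjoinRoot.root (g 0)
        have hζ : aeval ζ (g 0) = 0 := by rw [AdjoinRoot.aeval_eq, AdjoinRoot.mk_self]
        have hζr : ζ ^ r = 1 := by
          obtain ⟨c, hc⟩ := hdvd0
          have := congrArg (aeval ζ) hc
          rw [map_mul, hζ, zero_mul, map_sub, map_pow, aeval_X, map_one, sub_eq_zero] at this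
          exact this
        have hζ' : aeval (ζ ^ (r - 1)) (g 0) = 0 := by
          obtain ⟨c, hc⟩ := hdiv
          rw [← Polynomial.expand_aeval, ← hg', hc, map_mul, hζ, zero_mul]
        let σ : AdjoinRoot (g 0) →ₐ[F] AdjoinRoot (g 0) :=
          AdjoinRoot.liftAlgHom (g 0) (Algebra.ofId F _) (ζ ^ (r - 1)) (by simpa [Polynomial.aeval_def] using hζ')
        have hσζ : σ ζ = ζ ^ (r - 1) := AdjoinRoot.liftAlgHom_root _ _ _ _
        let pb := AdjoinRoot.powerBasis hirr0.ne_zero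
        haveI : FiniteDimensional F (AdjoinRoot (g 0)) := pb.finite
        haveI : Finite (AdjoinRoot (g 0)) := Module.finite_of_finite F
        haveI : IsGalois F (AdjoinRoot (g 0)) := GaloisField.instIsGaloisOfFinite
        let e := AlgEquiv.ofBijective σ (Algebra.IsAlgebraic.algHom_bijective σ)
        have hr1 : 1 ≤ r := (Fact.out : r.Prime).pos
        have he2 : e ^ 2 = 1 := by
          refine AlgEquiv.coe_toAlgHom_injective (AdjoinRoot.algHom_ext ?_)
          show σ (σ ζ) = ζ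
          rw [hσζ, map_pow, hσζ, ← pow_mul]
          obtain ⟨j, hj⟩ : ∃ j, r = j + 2 := ⟨r - 2, by have := (Fact.out : r.Prime).two_le; omega⟩
          rw [show (r - 1) * (r - 1) = r * j + 1 by subst hj; simp only [Nat.add_succ_sub_one]; ring, pow_succ, pow_mul,
            hζr, one_pow, one_mul]
        have hcard : Nat.card (AdjoinRoot (g 0) ≃ₐ[F] AdjoinRoot (g 0)) = o := by
          rw [IsGalois.card_aut_eq_finrank, pb.finrank, AdjoinRoot.powerBasis_dim, hdeg0]
        have he1 : e = 1 := by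
          have h := orderOf_dvd_natCard e
          rw [hcard] at h
          have h' := (Nat.dvd_prime Nat.prime_two).1 (orderOf_dvd_of_pow_eq_one he2)
          rcases h' with h' | h'
          · exact orderOf_eq_one_iff.1 h'
          · rw [h'] at h
            exact absurd (even_iff_two_dvd.2 h) (Nat.not_even_iff_odd.2 hodd)
        have hfix' : ζ ^ (r - 1) = ζ := by
          rw [← hσζ]; exact AlgEquiv.congr_fun he1 ζ
        have hζ1 : ζ = 1 := by
          have h1 : ζ ^ (r - 1) * ζ = 1 := by rw [← pow_succ, Nat.sub_add_cancel hr1, hζr]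
          rw [hfix', ← pow_two] at h1
          have h3 := pow_gcd_eq_one.2 ⟨h1, hζr⟩
          rwa [((Nat.coprime_primes Nat.prime_two Fact.out).2 (Ne.symm hr2) : Nat.gcd 2 r = 1), pow_one] at h3
        have hdvd1 : g 0 ∣ X - C 1 := by
          rw [← AdjoinRoot.mk_eq_zero, map_sub, AdjoinRoot.mk_X, AdjoinRoot.mk_C, map_one, sub_eq_zero]
          exact hζ1
        obtain ⟨c, hc⟩ := hdvd1
        have hTv : T (v 0) = v 0 := by
          have := congrArg (fun f => aeval T f (v 0)) hc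
          rw [mul_comm] at this
          simp only [map_mul, map_sub, aeval_X, Module.End.mul_apply, hev0, map_zero, map_one,
            LinearMap.sub_apply, Module.End.one_apply] at this
          exact sub_eq_zero.1 this
        exact hv0 (Submodule.disjoint_def.1 (CfsgLib.OrderR.disjoint_fix_move T hT hr0) _
          (by simpa [sub_eq_zero] using hTv) (hvS 0))
      have hcop : IsCoprime (g 0) (g 1) := hirr0.coprime_iff_not_dvd.2 fun h =>
        hne (Polynomial.eq_of_monic_of_associated hm0 hm1 (hirr0.associated_of_dvd hirr1 h))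
      obtain ⟨s, t, hst⟩ := hcop
      refine ⟨v 0 + v 1, Submodule.add_mem _ (hvS 0) (hvS 1), ?_⟩
      have e0 : v 0 = aeval T (t * g 1) (v 0 + v 1) := by
        have h := congrArg (fun f => aeval T f (v 0)) hst
        simp only [map_add, map_mul, LinearMap.add_apply, Module.End.mul_apply, hev0, map_zero, zero_add, map_one,
          Module.End.one_apply] at h
        rw [map_mul, Module.End.mul_apply, map_add, hev1, add_zero, h]
      have e1 : v 1 = aeval T (s * g 0) (v 0 + v 1) := by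
        have h := congrArg (fun f => aeval T f (v 1)) hst
        simp only [map_add, map_mul, LinearMap.add_apply, Module.End.mul_apply, hev1, map_zero, add_zero, map_one,
          Module.End.one_apply] at h
        rw [map_mul, Module.End.mul_apply, map_add, hev0, zero_add, h]
      intro i
      fin_cases i
      · exact ⟨_, e0⟩
      · exact ⟨_, e1⟩
  refine ⟨w, hw, ?_⟩
  rw [hSr]
  intro x hx
  induction hx using Submodule.span_induction with
  | mem x hx =>
    obtain ⟨⟨i, j⟩, rfl⟩ := hx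
    obtain ⟨h, hh⟩ := hgen i
    exact ⟨X ^ (j : ℕ) * h, by
      show b (.inl (i, j)) = _
      rw [hb, map_mul, map_pow, aeval_X, Module.End.mul_apply, ← hh]⟩
  | zero => exact ⟨0, by simp⟩
  | add x y _ _ hx hy =>
    obtain ⟨g1, h1⟩ := hx; obtain ⟨g2, h2⟩ := hy
    exact ⟨g1 + g2, by rw [map_add, LinearMap.add_apply, ← h1, ← h2]⟩
  | smul c x _ hx =>
    obtain ⟨g1, h1⟩ := hx
    exact ⟨c • g1, by rw [map_smul, LinearMap.smul_apply, ← h1]⟩

end cyclic

/-- The number of cosets only has prime divisors of the stated shape. -/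
lemma card_sp_eq {q : ℕ} (hq : 1 ≤ q) :
    ∃ e : ℕ, q ^ d ^ 2 * ∏ i ∈ Finset.range d, (q ^ (2 * (i + 1)) - 1) =
      (q ^ (d * (d - 1) / 2) * ∏ i ∈ Finset.range d, (if Even i then q ^ (i + 1) + 1 else q ^ (i + 1) - 1)) *
      (q ^ e * ∏ i ∈ Finset.range d, (if Even i then q ^ (i + 1) - 1 else q ^ (i + 1) + 1)) := by
  refine ⟨d ^ 2 - d * (d - 1) / 2, ?_⟩
  have hle : d * (d - 1) / 2 ≤ d ^ 2 := (Nat.div_le_self _ _).trans (by rw [pow_two]; exact Nat.mul_le_mul_left _ (Nat.sub_le _ _))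
  rw [mul_mul_mul_comm, ← pow_add, Nat.add_sub_cancel' hle, ← Finset.prod_mul_distrib]
  congr 1
  refine Finset.prod_congr rfl fun i _ => ?_
  have h := Nat.sq_sub_sq (q ^ (i + 1)) 1
  rw [one_pow, ← pow_mul, mul_comm (i + 1) 2] at h
  split_ifs
  · exact h
  · rw [h, mul_comm]

set_option maxHeartbeats 3200000 in
/-- Elements of prime order of PSp_n(q), q odd, and the subgroups of type GU_{n/2}(q). Here `T = PSp_{2d}(F)` for a field `F` with `q` elements, `q` odd, `d ≥ 2`, realised through the matrices preserving the standard alternating form `f`; `K` is a subalgebra of the `2d × 2d` matrices that is a field of degree 2 over `F`, closed under taking adjoints for `f` but not consisting of self-adjoint elements (so `F^{2d}` becomes a `d`-dimensional space over `K ≅ F_{q²}` on which `f` is the trace of a multiple of a non-degenerate hermitian form); `H` is the subgroup of `T` normalizing `K` — the symplectic maps that are `K`-linear or `K`-semilinear, a subgroup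 of type GU_d(q) (maximality is not assumed). Ω is the set of cosets of `H` in `T`, so an element of `T` of prime order `r` (`x ∈ T` with `x^r` scalar, `x` not scalar) fixes a point of Ω exactly when some `T`-conjugate of `x` normalizes `K`. Let `r` be a prime dividing the index of `H`. Then every element of `T` of order `r` fixes a point of Ω if and only if `r = 2`. -/
theorem result {F : Type*} [Field F] [Fintype F] {p : ℕ} [Fact p.Prime] [CharP F p] {q : ℕ} (hq : Fintype.card F = q)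
    (hodd : Odd q) (d : ℕ) (hd : 2 ≤ d)
    (K : Subalgebra F (Matrix (Fin d ⊕ Fin d) (Fin d ⊕ Fin d) F)) (hK : Cfsg.Geo.IsFieldSubalgebra 2 K)
    (hKf : Cfsg.Geo.IsAdjointClosedFor (Cfsg.sympForm d F) K) (hKns : ¬ Cfsg.Geo.IsSelfAdjointFor (Cfsg.sympForm d F) K)
    (r : ℕ) [Fact r.Prime]
    (hΩ : r ∣ (Cfsg.Geo.subalgebraNormalizer K).relIndex (Cfsg.spGL d F)) :
    (∀ x ∈ Cfsg.spGL d F, (∃ z : F, ((x ^ r : GL (Fin d ⊕ Fin d) F) : Matrix (Fin d ⊕ Fin d) (Fin d ⊕ Fin d) F) = z • (1 : Matrix (Fin d ⊕ Fin d) (Fin d ⊕ Fin d) F)) →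
      (∀ z : F, (x : Matrix (Fin d ⊕ Fin d) (Fin d ⊕ Fin d) F) ≠ z • (1 : Matrix (Fin d ⊕ Fin d) (Fin d ⊕ Fin d) F)) →
      ∃ g ∈ Cfsg.spGL d F, g⁻¹ * x * g ∈ Cfsg.Geo.subalgebraNormalizer K) ↔ r = 2 := by
  classical
  have h2 : (2 : F) ≠ 0 := by
    intro h
    have hchar : ringChar F = 2 := CharP.ringChar_of_prime_eq_zero Nat.prime_two (by exact_mod_cast h)
    have := FiniteField.even_card_of_char_two hchar
    rw [hq] at this
    exact Nat.not_even_iff_odd.2 hodd (Nat.even_iff.2 this)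
  have hd0 : 0 < d := by omega
  haveI : Nonempty (Fin d ⊕ Fin d) := ⟨.inl ⟨0, hd0⟩⟩
  obtain ⟨W, a, b, hWK, hirr, hWW, hmemK, hroots⟩ := CfsgLib.QuadStructure.exists_generator hK
  -- the adjoint of `W`
  have hadj : ∀ u v, sympBilin d F (W *ᵥ u) v = sympBilin d F u (a • v - W *ᵥ v) := by
    obtain ⟨W', hW'K, hW'⟩ := hKf W hWK
    simp only [← sympBilin_apply] at hW'
    have hq' : W' * W' = a • W' + b • (1 : Matrix (Fin d ⊕ Fin d) (Fin d ⊕ Fin d) F) := by
      refine Matrix.toLin'.injective (LinearMap.ext fun v => ?_)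
      rw [← sub_eq_zero]
      refine sympBilin_separatingLeft _ fun u => ?_
      rw [flip u, neg_eq_zero, map_sub, sub_eq_zero, Matrix.toLin'_apply, Matrix.toLin'_apply, ← Matrix.mulVec_mulVec,
        ← hW', ← hW', Matrix.mulVec_mulVec, hWW]
      simp only [Matrix.add_mulVec, Matrix.smul_mulVec, Matrix.one_mulVec, map_add, map_smul, LinearMap.add_apply,
        LinearMap.smul_apply, hW']
    rcases hroots W' hW'K hq' with h | h
    · exfalso
      refine hKns fun k hk u v => ?_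
      obtain ⟨α, β, rfl⟩ := (hmemK k).1 hk
      rw [h] at hW'
      simp only [← sympBilin_apply, Matrix.add_mulVec, Matrix.smul_mulVec, Matrix.one_mulVec, map_add, map_smul,
        LinearMap.add_apply, LinearMap.smul_apply, hW']
    · intro u v
      rw [hW' u v, h, Matrix.sub_mulVec, Matrix.smul_mulVec, Matrix.one_mulVec]
  set τ : Module.End F (Fin d ⊕ Fin d → F) := Matrix.toLin' W - (a / 2) • 1 with hτdef
  set δ : F := a ^ 2 / 4 + b with hδdef
  have h4 : (4 : F) ≠ 0 := by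
    rw [show (4 : F) = 2 * 2 by norm_num]; exact mul_ne_zero h2 h2
  have hτv : ∀ v, τ v = W *ᵥ v - (a / 2) • v := fun v => by simp [hτdef]
  have hτ : IsAnti τ δ := ⟨fun u v => by
      rw [hτv, hτv, map_sub, map_smul, LinearMap.sub_apply, LinearMap.smul_apply, hadj, map_sub, map_sub, map_smul, map_smul]
      simp only [smul_eq_mul]
      field_simp
      ring,
    fun v => by
      rw [hτv, hτv, Matrix.mulVec_sub, Matrix.mulVec_smul, Matrix.mulVec_mulVec, hWW, Matrix.add_mulVec,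
        Matrix.smul_mulVec, Matrix.smul_mulVec, Matrix.one_mulVec, hδdef, smul_sub, smul_smul, add_smul,
        show a / 2 * (a / 2) = a ^ 2 / 4 by field_simp; ring]
      conv_lhs => rw [show a • W *ᵥ v = (a / 2) • W *ᵥ v + (a / 2) • W *ᵥ v by
        rw [← add_smul]; congr 1; field_simp; ring]
      abel⟩
  have hδns : ¬ IsSquare δ := by
    rintro ⟨s, hs⟩
    refine hirr (s + a / 2) ?_
    rw [hδdef] at hs
    field_simp at hs ⊢
    linear_combination -hs
  have hδ0 : δ ≠ 0 := fun h => hδns (h ▸ IsSquare.zero)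
  -- the normaliser
  have hnorm : ∀ y : GL (Fin d ⊕ Fin d) F, y ∈ Cfsg.Geo.subalgebraNormalizer K →
      (∀ v, (y : Matrix (Fin d ⊕ Fin d) (Fin d ⊕ Fin d) F) *ᵥ τ v = τ ((y : Matrix (Fin d ⊕ Fin d) (Fin d ⊕ Fin d) F) *ᵥ v)) ∨
      (∀ v, (y : Matrix (Fin d ⊕ Fin d) (Fin d ⊕ Fin d) F) *ᵥ τ v = - τ ((y : Matrix (Fin d ⊕ Fin d) (Fin d ⊕ Fin d) F) *ᵥ v)) := by
    intro y hy
    set M := (y : Matrix (Fin d ⊕ Fin d) (Fin d ⊕ Fin d) F) * W * ((y⁻¹ : GL (Fin d ⊕ Fin d) F) : Matrix (Fin d ⊕ Fin d) (Fin d ⊕ Fin d) F) with hM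
    have hMM : M * M = a • M + b • (1 : Matrix (Fin d ⊕ Fin d) (Fin d ⊕ Fin d) F) := by
      rw [hM]
      calc _ = (y : Matrix (Fin d ⊕ Fin d) (Fin d ⊕ Fin d) F) * (W * W) * ((y⁻¹ : GL (Fin d ⊕ Fin d) F) : Matrix (Fin d ⊕ Fin d) (Fin d ⊕ Fin d) F) := by
            simp only [mul_assoc]; rw [← mul_assoc ((y⁻¹ : GL (Fin d ⊕ Fin d) F) : Matrix (Fin d ⊕ Fin d) (Fin d ⊕ Fin d) F), Units.inv_mul, one_mul]
        _ = _ := by rw [hWW]; simp [mul_add, add_mul]
    have hMy : M * (y : Matrix (Fin d ⊕ Fin d) (Fin d ⊕ Fin d) F) = y * W := by rw [hM, mul_assoc, Units.inv_mul, mul_one]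
    rcases hroots M ((hy W).1 hWK) hMM with h | h <;> rw [h] at hMy
    · left
      intro v
      rw [hτv, hτv, Matrix.mulVec_sub, Matrix.mulVec_smul, Matrix.mulVec_mulVec, ← hMy, ← Matrix.mulVec_mulVec]
    · right
      intro v
      rw [hτv, hτv, Matrix.mulVec_sub, Matrix.mulVec_smul, Matrix.mulVec_mulVec, ← hMy, sub_mul, Matrix.sub_mulVec,
        Matrix.smul_mul, one_mul, Matrix.smul_mulVec, ← Matrix.mulVec_mulVec]
      conv_lhs => rw [show a • (y : Matrix (Fin d ⊕ Fin d) (Fin d ⊕ Fin d) F) *ᵥ v = (a / 2) • (y : Matrix (Fin d ⊕ Fin d) (Fin d ⊕ Fin d) F) *ᵥ v + (a / 2) • (y : Matrix (Fin d ⊕ Fin d) (Fin d ⊕ Fin d) F) *ᵥ v by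
        rw [← add_smul]; congr 1; field_simp; ring]
      abel
  have hone : ∀ y : GL (Fin d ⊕ Fin d) F, (∃ ε : F, ε * ε = 1 ∧ ∀ v, (y : Matrix (Fin d ⊕ Fin d) (Fin d ⊕ Fin d) F) *ᵥ τ v = ε • τ ((y : Matrix (Fin d ⊕ Fin d) (Fin d ⊕ Fin d) F) *ᵥ v)) →
      ∀ k ∈ K, (y : Matrix (Fin d ⊕ Fin d) (Fin d ⊕ Fin d) F) * k * ((y⁻¹ : GL (Fin d ⊕ Fin d) F) : Matrix (Fin d ⊕ Fin d) (Fin d ⊕ Fin d) F) ∈ K := by
    rintro y ⟨ε, -, hε⟩ k hk
    obtain ⟨α, β, rfl⟩ := (hmemK k).1 hk
    refine (hmemK _).2 ⟨α + β * (a / 2) - β * ε * (a / 2), β * ε, Matrix.toLin'.injective (LinearMap.ext fun v => ?_)⟩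
    have h := hε (((y⁻¹ : GL (Fin d ⊕ Fin d) F) : Matrix (Fin d ⊕ Fin d) (Fin d ⊕ Fin d) F) *ᵥ v)
    rw [hτv, hτv, Matrix.mulVec_sub, Matrix.mulVec_smul, Matrix.mulVec_mulVec _ (y : Matrix (Fin d ⊕ Fin d) (Fin d ⊕ Fin d) F) ((y⁻¹ : GL (Fin d ⊕ Fin d) F) : Matrix (Fin d ⊕ Fin d) (Fin d ⊕ Fin d) F),
      Units.mul_inv, Matrix.one_mulVec, sub_eq_iff_eq_add] at h
    simp only [Matrix.toLin'_apply, ← Matrix.mulVec_mulVec, Matrix.add_mulVec, Matrix.smul_mulVec, Matrix.one_mulVec,
      Matrix.mulVec_add, Matrix.mulVec_smul, h]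
    rw [Matrix.mulVec_mulVec _ (y : Matrix (Fin d ⊕ Fin d) (Fin d ⊕ Fin d) F), Units.mul_inv, Matrix.one_mulVec]
    module
  have hmemN : ∀ (y : GL (Fin d ⊕ Fin d) F) (ε : F), ε * ε = 1 →
      (∀ v, (y : Matrix (Fin d ⊕ Fin d) (Fin d ⊕ Fin d) F) *ᵥ τ v = ε • τ ((y : Matrix (Fin d ⊕ Fin d) (Fin d ⊕ Fin d) F) *ᵥ v)) → y ∈ Cfsg.Geo.subalgebraNormalizer K := by
    intro y ε hε h k
    refine ⟨hone y ⟨ε, hε, h⟩ k, fun hk => ?_⟩
    have h' : ∀ v, ((y⁻¹ : GL (Fin d ⊕ Fin d) F) : Matrix (Fin d ⊕ Fin d) (Fin d ⊕ Fin d) F) *ᵥ τ v = ε • τ (((y⁻¹ : GL (Fin d ⊕ Fin d) F) : Matrix (Fin d ⊕ Fin d) (Fin d ⊕ Fin d) F) *ᵥ v) := fun v => by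
      have h0 := h (((y⁻¹ : GL (Fin d ⊕ Fin d) F) : Matrix (Fin d ⊕ Fin d) (Fin d ⊕ Fin d) F) *ᵥ v)
      rw [Matrix.mulVec_mulVec _ (y : Matrix (Fin d ⊕ Fin d) (Fin d ⊕ Fin d) F) ((y⁻¹ : GL (Fin d ⊕ Fin d) F) : Matrix (Fin d ⊕ Fin d) (Fin d ⊕ Fin d) F), Units.mul_inv, Matrix.one_mulVec] at h0
      have h1 := congrArg (fun u => ε • (((y⁻¹ : GL (Fin d ⊕ Fin d) F) : Matrix (Fin d ⊕ Fin d) (Fin d ⊕ Fin d) F) *ᵥ u)) h0
      simp only [Matrix.mulVec_smul, smul_smul, hε, one_smul, Matrix.mulVec_mulVec, Units.inv_mul, Matrix.one_mulVec] at h1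
      exact h1.symm
    have := hone y⁻¹ ⟨ε, hε, h'⟩ _ hk
    simpa [mul_assoc] using this
  have hr0 : Nat.Prime r := Fact.out
  constructor
  · intro hall
    by_contra hr2
    have hrodd : Odd r := hr0.odd_of_ne_two hr2
    -- an element of order `r` commuting with no conjugate of `τ`
    suffices hx : ∃ x ∈ Cfsg.spGL d F, x ^ r = 1 ∧ (∀ z : F, (x : Matrix (Fin d ⊕ Fin d) (Fin d ⊕ Fin d) F) ≠ z • 1) ∧
        ∀ τ' : Module.End F (Fin d ⊕ Fin d → F), IsAnti τ' δ →
          ¬ ∀ v, (x : Matrix (Fin d ⊕ Fin d) (Fin d ⊕ Fin d) F) *ᵥ τ' v = τ' ((x : Matrix (Fin d ⊕ Fin d) (Fin d ⊕ Fin d) F) *ᵥ v) by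
      obtain ⟨x, hx, hxr, hxns, hno⟩ := hx
      obtain ⟨g, hg, hgx⟩ := hall x hx ⟨1, by rw [hxr, one_smul]; rfl⟩ hxns
      set y := g⁻¹ * x * g with hy
      have hyr : y ^ r = 1 := by
        rw [hy, show g⁻¹ * x * g = MulAut.conj g⁻¹ x by simp, ← map_pow, hxr, map_one]
      have hcomm : ∀ v, (y : Matrix (Fin d ⊕ Fin d) (Fin d ⊕ Fin d) F) *ᵥ τ v = τ ((y : Matrix (Fin d ⊕ Fin d) (Fin d ⊕ Fin d) F) *ᵥ v) := by
        rcases hnorm y hgx with h | h
        · exact h
        · have hsq : ∀ (n : ℕ) v, ((y ^ (2 * n) : GL (Fin d ⊕ Fin d) F) : Matrix (Fin d ⊕ Fin d) (Fin d ⊕ Fin d) F) *ᵥ τ v =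
              τ (((y ^ (2 * n) : GL (Fin d ⊕ Fin d) F) : Matrix (Fin d ⊕ Fin d) (Fin d ⊕ Fin d) F) *ᵥ v) := by
            intro n
            induction n with
            | zero => intro v; simp
            | succ n ih =>
              intro v
              rw [show 2 * (n + 1) = 2 * n + 1 + 1 by ring, pow_succ, pow_succ, Units.val_mul, Units.val_mul,
                ← Matrix.mulVec_mulVec, ← Matrix.mulVec_mulVec, h, Matrix.mulVec_neg, h, neg_neg, ih,
                Matrix.mulVec_mulVec, Matrix.mulVec_mulVec]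
          obtain ⟨m, hm⟩ := hrodd
          intro v
          have h0 := hsq (m + 1) v
          rwa [show 2 * (m + 1) = r + 1 by omega, pow_succ, hyr, one_mul] at h0
      let τ' : Module.End F (Fin d ⊕ Fin d → F) := Matrix.toLin' (g : Matrix (Fin d ⊕ Fin d) (Fin d ⊕ Fin d) F) ∘ₗ τ ∘ₗ
        Matrix.toLin' ((g⁻¹ : GL (Fin d ⊕ Fin d) F) : Matrix (Fin d ⊕ Fin d) (Fin d ⊕ Fin d) F)
      have hτ'v : ∀ v, τ' v = (g : Matrix (Fin d ⊕ Fin d) (Fin d ⊕ Fin d) F) *ᵥ τ (((g⁻¹ : GL (Fin d ⊕ Fin d) F) : Matrix (Fin d ⊕ Fin d) (Fin d ⊕ Fin d) F) *ᵥ v) := fun v => rfl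
      have hgg : ∀ v, (g : Matrix (Fin d ⊕ Fin d) (Fin d ⊕ Fin d) F) *ᵥ (((g⁻¹ : GL (Fin d ⊕ Fin d) F) : Matrix (Fin d ⊕ Fin d) (Fin d ⊕ Fin d) F) *ᵥ v) = v := fun v => by
        rw [Matrix.mulVec_mulVec, Units.mul_inv, Matrix.one_mulVec]
      have hgg' : ∀ v, ((g⁻¹ : GL (Fin d ⊕ Fin d) F) : Matrix (Fin d ⊕ Fin d) (Fin d ⊕ Fin d) F) *ᵥ ((g : Matrix (Fin d ⊕ Fin d) (Fin d ⊕ Fin d) F) *ᵥ v) = v := fun v => by
        rw [Matrix.mulVec_mulVec, Units.inv_mul, Matrix.one_mulVec]
      refine hno τ' ⟨fun u v => ?_, fun v => ?_⟩ fun v => ?_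
      · have h1 := mulVec_symp hg (τ (((g⁻¹ : GL (Fin d ⊕ Fin d) F) : Matrix (Fin d ⊕ Fin d) (Fin d ⊕ Fin d) F) *ᵥ u))
          (((g⁻¹ : GL (Fin d ⊕ Fin d) F) : Matrix (Fin d ⊕ Fin d) (Fin d ⊕ Fin d) F) *ᵥ v)
        rw [hgg, hτ.skew, ← mulVec_symp hg (((g⁻¹ : GL (Fin d ⊕ Fin d) F) : Matrix (Fin d ⊕ Fin d) (Fin d ⊕ Fin d) F) *ᵥ u), hgg] at h1
        exact h1
      · rw [hτ'v, hτ'v, hgg', hτ.sq, Matrix.mulVec_smul, hgg]
      · have hc := hcomm (((g⁻¹ : GL (Fin d ⊕ Fin d) F) : Matrix (Fin d ⊕ Fin d) (Fin d ⊕ Fin d) F) *ᵥ v)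
        rw [hy, Units.val_mul, Units.val_mul] at hc
        simp only [← Matrix.mulVec_mulVec, hgg] at hc
        have := congrArg ((g : Matrix (Fin d ⊕ Fin d) (Fin d ⊕ Fin d) F) *ᵥ ·) hc
        simp only [hgg] at this
        exact this
    by_cases hrp : r = p
    · -- a transvection
      subst hrp
      obtain ⟨u, hu⟩ : ∃ u, sympBilin d F u (Pi.single (Sum.inl ⟨0, hd0⟩) (1 : F)) = 1 := by
        obtain ⟨y, hy⟩ := exists_pair_one (F := F) (u := Pi.single (Sum.inl ⟨0, hd0⟩) (1 : F)) (by simp [Pi.single_eq_zero_iff])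
        exact ⟨-y, by rw [map_neg, LinearMap.neg_apply, flip (Pi.single (Sum.inl ⟨0, hd0⟩) (1 : F)) y, sympBilin_apply, hy, neg_neg]⟩
      set e0 : Fin d ⊕ Fin d → F := Pi.single (Sum.inl ⟨0, hd0⟩) (1 : F) with he0
      have he00 : e0 ≠ 0 := by simp [he0, Pi.single_eq_zero_iff]
      set x : GL (Fin d ⊕ Fin d) F := (spEquiv d F (tmat e0 1)).1 with hxdef
      have hxv : ∀ v, (x : Matrix (Fin d ⊕ Fin d) (Fin d ⊕ Fin d) F) *ᵥ v = v + sympBilin d F v e0 • e0 := fun v => by
        show sympTransvection d e0 1 *ᵥ v = _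
        rw [sympTransvection_mulVec, one_mul, sympBilin_apply]
      have hpow : ∀ n : ℕ, tmat e0 (1 : F) ^ n = tmat e0 (n : F) := fun n => by
        induction n with
        | zero => simp
        | succ n ih => rw [pow_succ, ih, tmat_mul]; push_cast; rfl
      refine ⟨x, (spEquiv d F (tmat e0 1)).2, ?_, ?_, fun τ' hτ' hc => ?_⟩
      · rw [hxdef, ← SubgroupClass.coe_pow, ← map_pow, hpow, CharP.cast_eq_zero, tmat_zero, map_one]; rfl
      · intro z hz
        have h1 := hxv e0
        rw [hz, Matrix.smul_mulVec, Matrix.one_mulVec, sympBilin_isAlt.self_eq_zero, zero_smul, add_zero] at h1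
        have hz1 : z = 1 := smul_left_injective F he00 (show z • e0 = (1 : F) • e0 by rw [h1, one_smul])
        have h3 := hxv u
        rw [hz, Matrix.smul_mulVec, Matrix.one_mulVec, hz1, one_smul, hu, one_smul] at h3
        exact he00 (left_eq_add.1 h3)
      · have h1 := hc u
        rw [hxv, hxv, map_add, map_smul, hu, one_smul, add_right_inj] at h1
        apply hδns
        have h3 := congrArg τ' h1
        rw [map_smul, hτ'.sq, ← h1, smul_smul] at h3
        exact ⟨_, smul_left_injective F he00 h3.symm⟩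
    -- the index
    have hr0F : (r : F) ≠ 0 := by
      rw [Ne, CharP.cast_eq_zero_iff F p]
      exact fun h => hrp ((Nat.prime_dvd_prime_iff_eq Fact.out hr0).1 h).symm
    letI : Field K := CfsgLib.Geo.FieldTransvection.fieldOf hK
    haveI : FiniteDimensional F K := Module.finite_of_finrank_pos (by rw [hK.finrank_eq]; norm_num)
    haveI : Finite K := Module.finite_of_finite F
    letI : Fintype K := Fintype.ofFinite K
    have hcardK : Fintype.card K = q ^ 2 := by
      rw [← Nat.card_eq_fintype_card, Module.natCard_eq_pow_finrank (K := F), hK.finrank_eq, Nat.card_eq_fintype_card, hq]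
    let σ : K →ₐ[F] K := FiniteField.frobeniusAlgHom F K
    have hσ : ∀ k : K, σ k = k ^ q := fun k => by rw [← hq]; rfl
    let W0 : K := ⟨W, hWK⟩
    have hW0 : W0 * W0 = a • W0 + b • 1 := Subtype.ext hWW
    have hσW : (σ W0 : Matrix (Fin d ⊕ Fin d) (Fin d ⊕ Fin d) F) = a • (1 : Matrix (Fin d ⊕ Fin d) (Fin d ⊕ Fin d) F) - W := by
      have hh : (σ W0 : Matrix (Fin d ⊕ Fin d) (Fin d ⊕ Fin d) F) * (σ W0 : Matrix (Fin d ⊕ Fin d) (Fin d ⊕ Fin d) F) =
          a • (σ W0 : Matrix (Fin d ⊕ Fin d) (Fin d ⊕ Fin d) F) + b • (1 : Matrix (Fin d ⊕ Fin d) (Fin d ⊕ Fin d) F) := by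
        have := congrArg (fun k : K => ((σ k : K) : Matrix (Fin d ⊕ Fin d) (Fin d ⊕ Fin d) F)) hW0
        simpa [map_mul, map_add, map_smul, map_one] using this
      refine (hroots _ (σ W0).2 hh).resolve_left fun hfix => ?_
      have hall' : ∀ k : K, k ^ q = k := fun k => by
        obtain ⟨α, β, hk⟩ := (hmemK k.1).1 k.2
        have hk' : k = α • 1 + β • W0 := Subtype.ext hk
        rw [← hσ, hk', map_add, map_smul, map_smul, map_one, show σ W0 = W0 from Subtype.ext hfix]
      have hq1 : 1 < q := by rw [← hq]; exact Fintype.one_lt_card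
      have hle : Fintype.card K ≤ (Polynomial.X ^ q - Polynomial.X : K[X]).natDegree := by
        refine (Finset.card_univ (α := K)).ge.trans (Polynomial.card_le_degree_of_subset_roots fun k _ => ?_)
        rw [Polynomial.mem_roots (FiniteField.X_pow_card_sub_X_ne_zero K hq1)]
        simp [hall' k]
      rw [FiniteField.X_pow_card_sub_X_natDegree_eq K hq1, hcardK] at hle
      nlinarith
    obtain ⟨u, hu⟩ := exists_pairs h2 hδ0 hτ
    obtain ⟨bb, hbb1, hbb2⟩ := exists_std_basis hu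
    let i0 : Fin d := ⟨0, hd0⟩
    let φ : (Fin d → K) →ₗ[F] (Fin d ⊕ Fin d → F) :=
      { toFun := fun w => ∑ i, (w i : Matrix (Fin d ⊕ Fin d) (Fin d ⊕ Fin d) F) *ᵥ u i
        map_add' := fun w w' => by simp [Matrix.add_mulVec, Finset.sum_add_distrib]
        map_smul' := fun c w => by simp [Matrix.smul_mulVec, Finset.smul_sum] }
    have hφ : ∀ w, φ w = ∑ i, (w i : Matrix (Fin d ⊕ Fin d) (Fin d ⊕ Fin d) F) *ᵥ u i := fun w => rfl
    have hφsurj : Function.Surjective φ := by
      intro v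
      refine ⟨fun i => (bb.repr v (.inl i) - bb.repr v (.inr i) * (a / 2)) • 1 + bb.repr v (.inr i) • W0, ?_⟩
      conv_rhs => rw [← bb.sum_repr v]
      rw [hφ, Fintype.sum_sum_type, ← Finset.sum_add_distrib]
      refine Finset.sum_congr rfl fun i _ => ?_
      rw [Subalgebra.coe_add, Subalgebra.coe_smul, Subalgebra.coe_smul, Subalgebra.coe_one, Matrix.add_mulVec,
        Matrix.smul_mulVec, Matrix.smul_mulVec, Matrix.one_mulVec, hbb1, hbb2, hτv]
      module
    let e : (Fin d → K) ≃ₗ[F] (Fin d ⊕ Fin d → F) := LinearEquiv.ofBijective φ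
      ⟨(LinearMap.injective_iff_surjective_of_finrank_eq_finrank (by
          rw [Module.finrank_pi_fintype, Module.finrank_fintype_fun_eq_card]
          simp [hK.finrank_eq, mul_two])).2 hφsurj, hφsurj⟩
    let Tr : K →ₗ[F] F :=
      { toFun := fun s => sympBilin d F (u i0) ((s : Matrix (Fin d ⊕ Fin d) (Fin d ⊕ Fin d) F) *ᵥ u i0)
        map_add' := fun s t => by simp [Matrix.add_mulVec]
        map_smul' := fun c s => by simp [Matrix.smul_mulVec] }
    obtain ⟨hu1, -, hu3⟩ := hu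
    have hTr : ∀ (s : K) i l, sympBilin d F (u i) ((s : Matrix (Fin d ⊕ Fin d) (Fin d ⊕ Fin d) F) *ᵥ u l) =
        if i = l then Tr s else 0 := by
      intro s i l
      obtain ⟨α, β, hs⟩ := (hmemK s.1).1 s.2
      have hgen : ∀ i l, sympBilin d F (u i) ((s : Matrix (Fin d ⊕ Fin d) (Fin d ⊕ Fin d) F) *ᵥ u l) =
          if i = l then β else 0 := fun i l => by
        rw [hs, Matrix.add_mulVec, Matrix.smul_mulVec, Matrix.smul_mulVec, Matrix.one_mulVec,
          show W *ᵥ u l = τ (u l) + (a / 2) • u l by rw [hτv, sub_add_cancel]]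
        simp [hu1, hu3]
      rw [hgen, show Tr s = β from (hgen i0 i0).trans (if_pos rfl)]
    have hadjK : ∀ (k : K) x y, sympBilin d F ((k : Matrix (Fin d ⊕ Fin d) (Fin d ⊕ Fin d) F) *ᵥ x) y =
        sympBilin d F x ((σ k : Matrix (Fin d ⊕ Fin d) (Fin d ⊕ Fin d) F) *ᵥ y) := by
      intro k x y
      obtain ⟨α, β, hk⟩ := (hmemK k.1).1 k.2
      have hk' : k = α • 1 + β • W0 := Subtype.ext hk
      have hσk : (σ k : Matrix (Fin d ⊕ Fin d) (Fin d ⊕ Fin d) F) = α • 1 + β • (a • (1 : Matrix (Fin d ⊕ Fin d) (Fin d ⊕ Fin d) F) - W) := by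
        rw [hk', map_add, map_smul, map_smul, map_one, Subalgebra.coe_add, Subalgebra.coe_smul, Subalgebra.coe_smul,
          Subalgebra.coe_one, hσW]
      rw [hσk, hk]
      simp [Matrix.add_mulVec, Matrix.smul_mulVec, Matrix.sub_mulVec, hadj]
    have hform : ∀ v w, sympBilin d F (φ v) (φ w) = Tr (Cfsg.hermForm d K q w v) := by
      intro v w
      simp only [hφ, map_sum, LinearMap.sum_apply, hadjK, Matrix.mulVec_mulVec, Cfsg.hermForm]
      rw [Finset.sum_comm]
      refine Finset.sum_congr rfl fun i _ => ?_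
      have : ∀ l, sympBilin d F (u i) ((((σ (v i) : K) : Matrix (Fin d ⊕ Fin d) (Fin d ⊕ Fin d) F) * (w l : Matrix (Fin d ⊕ Fin d) (Fin d ⊕ Fin d) F)) *ᵥ u l) =
          if i = l then Tr (σ (v i) * w l) else 0 := fun l => by rw [← Subalgebra.coe_mul, hTr]
      simp only [this, Finset.sum_ite_eq, Finset.mem_univ, if_true]
      rw [hσ, mul_comm]
    have hsm : ∀ (v : Fin d → K), τ (φ v) = φ ((W0 - (a / 2) • 1) • v) := fun v => by
      simp only [hφ, map_sum, hτv, Matrix.mulVec_sum, Finset.smul_sum, ← Finset.sum_sub_distrib, Pi.smul_apply, smul_eq_mul, Subalgebra.coe_mul, Subalgebra.coe_sub,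
        Subalgebra.coe_smul, Subalgebra.coe_one, sub_mul, Matrix.smul_mul, one_mul, Matrix.sub_mulVec,
        Matrix.smul_mulVec, ← Matrix.mulVec_mulVec, W0]
    let Ψ : Cfsg.GU d K q →* Matrix (Fin d ⊕ Fin d) (Fin d ⊕ Fin d) F :=
      { toFun := fun g => LinearMap.toMatrix' (e.toLinearMap ∘ₗ
          (Matrix.toLin' ((g : GL (Fin d) K) : Matrix (Fin d) (Fin d) K)).restrictScalars F ∘ₗ e.symm.toLinearMap)
        map_one' := by
          rw [← LinearMap.toMatrix'_id]; congr 1; exact LinearMap.ext fun v => by simp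
        map_mul' := fun g g' => by
          rw [← LinearMap.toMatrix'_comp]; congr 1
          exact LinearMap.ext fun v => by simp [Matrix.mulVec_mulVec] }
    have hΨv : ∀ g v, (Ψ g) *ᵥ φ v = φ (((g : GL (Fin d) K) : Matrix (Fin d) (Fin d) K) *ᵥ v) := fun g v => by
      show LinearMap.toMatrix' _ *ᵥ _ = _
      rw [LinearMap.toMatrix'_mulVec, LinearMap.comp_apply, LinearMap.comp_apply, LinearMap.restrictScalars_apply,
        Matrix.toLin'_apply, show φ v = e v from rfl, LinearEquiv.coe_coe, LinearEquiv.coe_coe, e.symm_apply_apply]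
      rfl
    let H := (Cfsg.Geo.subalgebraNormalizer K).subgroupOf (Cfsg.spGL d F)
    have hH : ∀ g, ∃ h : H, ((h.1.1 : GL (Fin d ⊕ Fin d) F) : Matrix (Fin d ⊕ Fin d) (Fin d ⊕ Fin d) F) = Ψ g := by
      intro g
      obtain ⟨y, hy, hyv⟩ := exists_sp (Matrix.toLin' (Ψ g)) fun x z => by
        obtain ⟨x, rfl⟩ := hφsurj x
        obtain ⟨z, rfl⟩ := hφsurj z
        rw [Matrix.toLin'_apply, Matrix.toLin'_apply, hΨv, hΨv, hform, hform]
        congr 1
        exact g.2 z x
      have hyM : (y : Matrix (Fin d ⊕ Fin d) (Fin d ⊕ Fin d) F) = Ψ g :=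
        Matrix.toLin'.injective (LinearMap.ext fun v => by rw [Matrix.toLin'_apply, hyv])
      refine ⟨⟨⟨y, hy⟩, Subgroup.mem_subgroupOf.2 (hmemN y 1 (one_mul 1) fun v => ?_)⟩, hyM⟩
      obtain ⟨v, rfl⟩ := hφsurj v
      rw [one_smul, hyM, hsm, hΨv, hΨv, hsm, Matrix.mulVec_smul]
    choose h hh using hH
    let hom : Cfsg.GU d K q →* H :=
      { toFun := h
        map_one' := Subtype.ext (Subtype.ext (Units.ext (by rw [hh, map_one]; rfl)))
        map_mul' := fun g g' => Subtype.ext (Subtype.ext (Units.ext (by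
          rw [hh, map_mul, ← hh, ← hh]; rfl))) }
    have hinj : Function.Injective hom := fun g g' hgg => by
      refine Subtype.ext (Units.ext (Matrix.toLin'.injective (LinearMap.ext fun v => e.injective ?_)))
      show φ _ = φ _
      rw [Matrix.toLin'_apply, Matrix.toLin'_apply, ← hΨv, ← hΨv, ← hh, ← hh]
      exact congrArg (fun k : H => ((k.1.1 : GL (Fin d ⊕ Fin d) F) : Matrix (Fin d ⊕ Fin d) (Fin d ⊕ Fin d) F) *ᵥ φ v) hgg
    obtain ⟨m, hm⟩ := Subgroup.card_dvd_of_injective hom hinj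
    have hsp : Nat.card ↥(Cfsg.spGL d F) = q ^ d ^ 2 * ∏ i ∈ Finset.range d, (q ^ (2 * (i + 1)) - 1) := by
      rw [← CfsgLib.Sp.card_symplecticGroup hq, Nat.card_congr (spEquiv d F).toEquiv]
    have hq1 : 1 ≤ q := hodd.pos
    obtain ⟨E, hE⟩ := card_sp_eq (d := d) hq1
    rw [hE, ← CfsgLib.ClassicalGroups.card_GU hcardK, ← H.index_mul_card, hm,
      ← mul_assoc, mul_comm H.index, mul_assoc] at hsp
    have hR := Nat.eq_of_mul_eq_mul_left (Nat.card_pos) hsp
    have hdiv : r ∣ q ^ E * ∏ i ∈ Finset.range d, (if Even i then q ^ (i + 1) - 1 else q ^ (i + 1) + 1) :=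
      hR ▸ Dvd.dvd.mul_right hΩ m
    have hrq : (q : ZMod r) ≠ 0 := by
      intro h
      obtain ⟨f, hp', hqf⟩ := FiniteField.card F p
      rw [hq] at hqf
      rw [ZMod.natCast_eq_zero_iff, hqf] at h
      exact hrp ((Nat.prime_dvd_prime_iff_eq hr0 hp').1 (hr0.dvd_of_dvd_pow h))
    have hdiv' : r ∣ ∏ i ∈ Finset.range d, (if Even i then q ^ (i + 1) - 1 else q ^ (i + 1) + 1) :=
      (hr0.dvd_mul.1 hdiv).resolve_left fun h => hrq ((ZMod.natCast_eq_zero_iff q r).2 (hr0.dvd_of_dvd_pow h))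
    obtain ⟨l, hl, hdl⟩ := (Prime.dvd_finset_prod_iff hr0.prime _).1 hdiv'
    rw [Finset.mem_range] at hl
    set o := orderOf (q : ZMod r) with ho
    have ho0 : 0 < o := orderOf_pos_iff.2 (isOfFinOrder_iff_pow_eq_one.2
      ⟨r - 1, by have := hr0.two_le; omega, ZMod.pow_card_sub_one_eq_one hrq⟩)
    have hne : (-1 : ZMod r) ≠ 1 := by
      intro h
      have h2' : ((2 : ℕ) : ZMod r) = 0 := by push_cast; linear_combination -h
      rw [ZMod.natCast_eq_zero_iff] at h2'
      exact hr2 ((Nat.prime_dvd_prime_iff_eq hr0 Nat.prime_two).1 h2')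
    -- the two possible shapes
    obtain ⟨c, hc, hcd, n, hn, hcase⟩ : ∃ c, c = (if Even o then o else 2 * o) ∧ c ≤ 2 * d ∧ ∃ n : ℕ,
        (2 * n = o ∧ Even n ∧ (q : ZMod r) ^ n = -1 ∨ n = o ∧ Odd n) ∧ True := by
      refine ⟨_, rfl, ?_⟩
      by_cases hev : Even l
      · rw [if_pos hev] at hdl
        have hdvd : o ∣ l + 1 := (CfsgLib.OrderR.orderOf_dvd_iff hq1).2 hdl
        have hoo : Odd o := Odd.of_dvd_nat hev.add_one hdvd
        have := Nat.le_of_dvd (by omega) hdvd
        exact ⟨by rw [if_neg (Nat.not_even_iff_odd.2 hoo)]; omega, o, Or.inr ⟨rfl, hoo⟩, trivial⟩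
      · rw [if_neg hev] at hdl
        have hm1 : (q : ZMod r) ^ (l + 1) = -1 := by
          have := (ZMod.natCast_eq_zero_iff (q ^ (l + 1) + 1) r).2 hdl
          push_cast at this
          linear_combination this
        have hdvd : o ∣ 2 * (l + 1) := orderOf_dvd_of_pow_eq_one (by rw [mul_comm, pow_mul, hm1]; ring)
        have hndvd : ¬ o ∣ l + 1 := fun h => hne (hm1.symm.trans (orderOf_dvd_iff_pow_eq_one.1 h))
        have hoe : Even o := by
          by_contra hoo
          exact hndvd ((Nat.coprime_two_right.2 (Nat.not_even_iff_odd.1 hoo)).dvd_of_dvd_mul_left hdvd)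
        obtain ⟨n, hn⟩ := hoe.two_dvd
        have hnd : n ∣ l + 1 := Nat.dvd_of_mul_dvd_mul_left two_pos (hn ▸ hdvd)
        have hnl := Nat.le_of_dvd (by omega) hnd
        refine ⟨by rw [if_pos hoe]; omega, n, Or.inl ⟨hn.symm, ?_, ?_⟩, trivial⟩
        · by_contra hno
          obtain ⟨t, ht⟩ := hnd
          have hle' : Even (l + 1) := (Nat.not_even_iff_odd.1 hev).add_one
          have hte : Even t := by
            rw [ht, Nat.even_mul] at hle'
            exact hle'.resolve_left hno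
          obtain ⟨t', rfl⟩ := hte.two_dvd
          exact hndvd ⟨t', by rw [ht, hn]; ring⟩
        · have h1 : ((q : ZMod r) ^ n) ^ 2 = 1 := by rw [← pow_mul, mul_comm, ← hn, pow_orderOf_eq_one]
          haveI : Fact r.Prime := ⟨hr0⟩
          refine (sq_eq_one_iff.1 h1).resolve_left fun h => ?_
          have := Nat.le_of_dvd (by
            rcases Nat.eq_zero_or_pos n with h0 | h0
            · omega
            · exact h0) (orderOf_dvd_of_pow_eq_one h)
          omega
    have hc0 : 0 < c := by rw [hc]; split_ifs <;> omega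
    obtain ⟨h', hh'⟩ : ∃ h', c = 2 * h' := by
      rw [hc]; split_ifs with he'
      · exact he'.two_dvd
      · exact ⟨o, rfl⟩
    obtain ⟨x, hxr, hrange⟩ := CfsgLib.SympWitness.exists_witness (F := F) hq ho hc hr0F hrq (d := d) (e := 1)
      (k := d - h') (by omega)
    rw [one_mul] at hrange
    set T : Module.End F (Fin d ⊕ Fin d → F) := Matrix.toLin' (x : Matrix (Fin d ⊕ Fin d) (Fin d ⊕ Fin d) F) with hT
    have hTr' : T ^ r = 1 := by
      rw [hT, ← Matrix.toLin'_pow, ← SubmonoidClass.coe_pow, hxr, OneMemClass.coe_one, Matrix.toLin'_one]; rfl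
    have hTB : ∀ v w, sympBilin d F (T v) (T w) = sympBilin d F v w := CfsgLib.SympWitness.isometry x
    obtain ⟨v0, hv0, hcyc⟩ := exists_cyclic (T := T) hr2 hq ho ho0 hr0F hTr' hTB (e := if Even o then 1 else 2)
      (by rw [hrange, hc]; split_ifs <;> ring)
      (by
        split_ifs with he'
        · exact Or.inl rfl
        · exact Or.inr ⟨rfl, Nat.not_even_iff_odd.1 he'⟩)
    refine ⟨(spEquiv d F x).1, (spEquiv d F x).2, ?_, ?_, fun τ' hτ' hcm => ?_⟩
    · rw [← SubgroupClass.coe_pow, ← map_pow, hxr, map_one]; rfl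
    · intro z hz
      have hTz : T = z • 1 := by
        rw [hT, show (x : Matrix (Fin d ⊕ Fin d) (Fin d ⊕ Fin d) F) = z • 1 from hz, map_smul, Matrix.toLin'_one]; rfl
      have hu0 := hu3 i0 i0
      rw [if_pos rfl] at hu0
      have h1 := hTB (u i0) (τ (u i0))
      rw [hTz] at h1
      simp only [LinearMap.smul_apply, Module.End.one_apply, map_smul, smul_eq_mul, hu0, mul_one] at h1
      have hzr : z ^ r = 1 := by
        have h3 := LinearMap.congr_fun hTr' (u i0)
        rw [hTz, _root_.smul_pow, one_pow, LinearMap.smul_apply, Module.End.one_apply] at h3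
        refine smul_left_injective F ?_ (show z ^ r • u i0 = (1 : F) • u i0 by rw [h3, one_smul])
        intro h0; rw [h0, map_zero, LinearMap.zero_apply] at hu0; exact zero_ne_one hu0
      have hz1 : z = 1 := by
        have := pow_gcd_eq_one.2 ⟨hzr, (show z ^ 2 = 1 by rw [pow_two]; exact h1)⟩
        rwa [Nat.coprime_two_right.2 hrodd, pow_one] at this
      rw [hTz, hz1, one_smul, sub_self, LinearMap.range_zero, finrank_bot] at hrange
      omega
    · have hcm' : τ' * T = T * τ' := LinearMap.ext fun v => by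
        simp only [Module.End.mul_apply, hT, Matrix.toLin'_apply]
        exact (hcm v).symm
      have hinvR : ∀ y ∈ LinearMap.range (T - 1), τ' y ∈ LinearMap.range (T - 1) := by
        rintro _ ⟨y, rfl⟩
        refine ⟨τ' y, ?_⟩
        rw [← Module.End.mul_apply, ← Module.End.mul_apply, sub_mul, mul_sub, one_mul, mul_one, hcm']
      obtain ⟨g, hg⟩ := hcyc _ (hinvR _ hv0)
      set G : Module.End F (Fin d ⊕ Fin d → F) := aeval T g with hG
      have hGmem : ∀ y ∈ LinearMap.range (T - 1), G y ∈ LinearMap.range (T - 1) := fun y hy =>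
        CfsgLib.SemiR.aeval_mem (T := T) (fun z hz => by
          obtain ⟨w, rfl⟩ := hz
          exact ⟨T w, by simp⟩) g hy
      have hGτ : ∀ y ∈ LinearMap.range (T - 1), τ' y = G y := by
        intro y hy
        obtain ⟨h, rfl⟩ := hcyc y hy
        have hcomm : Commute τ' (aeval T h) := by
          rw [Commute, SemiconjBy]
          clear hy
          induction h using Polynomial.induction_on' with
          | add f1 f2 h1 h2 => rw [map_add, mul_add, add_mul, h1, h2]
          | monomial n c =>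
            rw [aeval_monomial]
            exact ((Algebra.commute_algebraMap_right c τ').mul_right ((show Commute τ' T from hcm').pow_right n)).eq
        rw [← Module.End.mul_apply, hcomm.eq, Module.End.mul_apply, hg, ← Module.End.mul_apply, hG, ← map_mul, mul_comm,
          map_mul, Module.End.mul_apply]
      have hpow : ∀ (m : ℕ), ∀ y ∈ LinearMap.range (T - 1), (G ^ (2 * m + 1)) y = δ ^ m • τ' y := by
        intro m
        induction m with
        | zero => intro y hy; simp [hGτ y hy]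
        | succ m ih =>
          intro y hy
          rw [show 2 * (m + 1) + 1 = 2 * m + 1 + 1 + 1 by ring, pow_succ, pow_succ, Module.End.mul_apply,
            Module.End.mul_apply, ih _ (hGmem _ (hGmem _ hy)), ← hGτ _ (hGmem _ hy), ← hGτ _ hy, hτ'.sq,
            smul_smul, pow_succ]
      have hpow' : ∀ y ∈ LinearMap.range (T - 1), (G ^ (q ^ n)) y = (-1 : F) ^ n • τ' y := by
        intro y hy
        obtain ⟨m, hm⟩ := hodd.pow (n := n)
        rw [hm, hpow m y hy, ← neg_one_pow_val hq hodd hδns n, hm]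
        congr 2
        omega
      have hTpow : ∀ j k : ℕ, (j : ZMod r) = k → T ^ j = T ^ k := by
        intro j k hjk
        rw [ZMod.natCast_eq_natCast_iff'] at hjk
        rw [pow_eq_pow_mod j hTr', pow_eq_pow_mod k hTr', hjk]
      have hG' : ∀ y, (G ^ (q ^ n)) y = aeval (T ^ (q ^ n)) g y := fun y => by
        rw [hG, ← hq, aeval_frob]
      have hzero : ∀ y ∈ LinearMap.range (T - 1), τ' y = 0 := by
        intro y hy
        rcases hn with ⟨hno, hne', hqn⟩ | ⟨hno, hno'⟩
        · -- `q ^ n ≡ -1`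
          have hinv : T ^ (q ^ n) = T ^ (r - 1) := hTpow _ _ (by
            rw [Nat.cast_pow, hqn, Nat.cast_sub hr0.pos]; simp)
          have hndR := (CfsgLib.SympSemiR.nd_fix_move (sympBilin_isAlt (F := F) (m := d)) hTB hTr' hr0F
            (CfsgLib.SympWitness.nd_top d)).2
          refine hndR _ (hinvR y hy) fun w hw => ?_
          have h1 : sympBilin d F (τ' y) w = sympBilin d F y ((G ^ (q ^ n)) w) := by
            rw [hGτ y hy, hG, adjoint_poly hTr' hTB, ← hinv, ← hG, hG']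
          rw [hpow' w hw, hne'.neg_one_pow, one_smul, hτ'.skew] at h1
          have h3 : sympBilin d F y (τ' w) = 0 := mul_left_cancel₀ h2 (by linear_combination -h1)
          rw [hτ'.skew, h3, neg_zero]
        · -- `q ^ n ≡ 1`
          have hone' : T ^ (q ^ n) = T := by
            conv_rhs => rw [← pow_one T]
            exact hTpow _ _ (by rw [Nat.cast_pow, hno, pow_orderOf_eq_one, Nat.cast_one])
          have h1 := hpow' y hy
          rw [hG', hone', ← hG, ← hGτ y hy, hno'.neg_one_pow, neg_one_smul] at h1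
          have h3 : (2 : F) • τ' y = 0 := by rw [two_smul]; nth_rewrite 1 [h1]; exact neg_add_cancel _
          exact (smul_eq_zero.1 h3).resolve_left h2
      have hne0 : LinearMap.range (T - 1) ≠ ⊥ := fun h => by rw [h, finrank_bot] at hrange; omega
      obtain ⟨y, hy, hy0⟩ := Submodule.exists_mem_ne_zero_of_ne_bot hne0
      have h3 := hτ'.sq y
      rw [hzero y hy, map_zero] at h3
      exact hy0 ((smul_eq_zero.1 h3.symm).resolve_left hδ0)
  · -- involutions
    rintro rfl x hx ⟨z, hz⟩ hxns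
    rw [Units.val_pow_eq_pow_val] at hz
    set T : Module.End F (Fin d ⊕ Fin d → F) := Matrix.toLin' (x : Matrix (Fin d ⊕ Fin d) (Fin d ⊕ Fin d) F) with hT
    have hTv : ∀ v, T v = (x : Matrix (Fin d ⊕ Fin d) (Fin d ⊕ Fin d) F) *ᵥ v := fun v => rfl
    have hTB : ∀ v w, sympBilin d F (T v) (T w) = sympBilin d F v w := fun v w => mulVec_symp hx v w
    have hT2 : ∀ v, T (T v) = z • v := fun v => by
      rw [hTv, hTv, Matrix.mulVec_mulVec, ← pow_two, hz, Matrix.smul_mulVec, Matrix.one_mulVec]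
    have hzz : z = 1 ∨ z = -1 := by
      obtain ⟨y, hy⟩ := exists_pair_one (F := F) (u := Pi.single (Sum.inl ⟨0, hd0⟩) (1 : F)) (by simp [Pi.single_eq_zero_iff])
      have h1 := hTB (T (Pi.single (Sum.inl ⟨0, hd0⟩) (1 : F))) (T y)
      rw [hT2, hT2, hTB, map_smul, map_smul, LinearMap.smul_apply, sympBilin_apply, hy, smul_eq_mul, smul_eq_mul, mul_one] at h1
      exact mul_self_eq_one_iff.1 h1
    obtain ⟨τ', hτ', ε, hε, hcm⟩ : ∃ τ', IsAnti τ' δ ∧ ∃ ε : F, ε * ε = 1 ∧ ∀ v, T (τ' v) = ε • τ' (T v) := by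
      rcases hzz with rfl | rfl
      · obtain ⟨τ', h, hc⟩ := exists_anti_comm h2 hTB (fun v => by rw [hT2, one_smul]) δ
        exact ⟨τ', h, 1, one_mul 1, fun v => by rw [hc, one_smul]⟩
      · have hTanti : IsAnti T (-1) := ⟨fun u v => by
            have h := hTB (T u) v
            rw [hT2, neg_one_smul, map_neg, LinearMap.neg_apply] at h
            linear_combination -h, hT2⟩
        obtain ⟨u, hu⟩ := exists_pairs h2 (neg_ne_zero.2 one_ne_zero) hTanti
        obtain ⟨α, β, hαβ⟩ := exists_val h2 (neg_ne_zero.2 one_ne_zero) δ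
        obtain ⟨τ', h, e1, e2⟩ := exists_anti_of_std hu α β β
        obtain ⟨bb, hb1, hb2⟩ := exists_std_basis hu
        rw [show α ^ 2 + β * β = δ by rw [← hαβ]; ring] at h
        refine ⟨τ', h, -1, by ring, fun v => ?_⟩
        refine LinearMap.congr_fun (bb.ext (f₁ := T ∘ₗ τ') (f₂ := (-1 : F) • (τ' ∘ₗ T)) fun i => ?_) v
        rcases i with i | i
        · simp only [LinearMap.comp_apply, LinearMap.smul_apply, hb1, e1, e2, map_add, map_smul, hT2]
          module
        · simp only [LinearMap.comp_apply, LinearMap.smul_apply, hb2, e1, e2, map_add, map_smul, hT2]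
          module
    obtain ⟨A, hA, hAτ⟩ := exists_conj_anti h2 hδ0 hτ' hτ
    refine ⟨A⁻¹, inv_mem hA, hmemN _ ε hε fun v => ?_⟩
    rw [inv_inv, Units.val_mul, Units.val_mul]
    simp only [← Matrix.mulVec_mulVec]
    obtain ⟨w, rfl⟩ : ∃ w, (A : Matrix (Fin d ⊕ Fin d) (Fin d ⊕ Fin d) F) *ᵥ w = v :=
      ⟨((A⁻¹ : GL (Fin d ⊕ Fin d) F) : Matrix (Fin d ⊕ Fin d) (Fin d ⊕ Fin d) F) *ᵥ v, by rw [Matrix.mulVec_mulVec, Units.mul_inv, Matrix.one_mulVec]⟩
    rw [← hAτ, Matrix.mulVec_mulVec _ ((A⁻¹ : GL (Fin d ⊕ Fin d) F) : Matrix (Fin d ⊕ Fin d) (Fin d ⊕ Fin d) F), Units.inv_mul, Matrix.one_mulVec, ← hTv, hcm,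
      Matrix.mulVec_smul, hAτ, hTv]
    rw [Matrix.mulVec_mulVec _ ((A⁻¹ : GL (Fin d ⊕ Fin d) F) : Matrix (Fin d ⊕ Fin d) (Fin d ⊕ Fin d) F) (A : Matrix (Fin d ⊕ Fin d) (Fin d ⊕ Fin d) F), Units.inv_mul, Matrix.one_mulVec]

end Cfsg.Agent.S5976
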