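import Cfsg.Statements.S5975
import Cfsg.Agent.S5976

set_option autoImplicit false
open scoped MatrixGroups
open scoped Matrix
open Cfsg

namespace Cfsg.Agent.S5975

open CfsgLib.Sp Matrix Module CfsgLib.SympSemiR Cfsg.Agent.S5976

variable {F : Type*} [Field F] {d k : ℕ} {K : Subalgebra F (Matrix (Fin d ⊕ Fin d) (Fin d ⊕ Fin d) F)}

/-- A field subalgebra of self-adjoint maps with alternating associated forms. -/
structure IsSym (k : ℕ) (K : Subalgebra F (Matrix (Fin d ⊕ Fin d) (Fin d ⊕ Fin d) F)) : Prop where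
  field : Cfsg.Geo.IsFieldSubalgebra k K
  adj : ∀ a ∈ K, ∀ u v, sympBilin d F (a *ᵥ u) v = sympBilin d F u (a *ᵥ v)
  alt : ∀ a ∈ K, ∀ u, sympBilin d F (a *ᵥ u) u = 0

/-- The standard family over the field. -/
def KStd (K : Subalgebra F (Matrix (Fin d ⊕ Fin d) (Fin d ⊕ Fin d) F)) (ev : K →ₗ[F] F) {m : ℕ}
    (u v : Fin m → Fin d ⊕ Fin d → F) : Prop :=
  ∀ (s : K) i j, sympBilin d F (s.1 *ᵥ u i) (u j) = 0 ∧ sympBilin d F (s.1 *ᵥ v i) (v j) = 0 ∧
    sympBilin d F (s.1 *ᵥ u i) (v j) = if i = j then ev s else 0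

section sym

variable (hS : IsSym k K)
include hS

lemma smul_inj {s : K} {u : Fin d ⊕ Fin d → F} (hu : u ≠ 0) (h : s.1 *ᵥ u = 0) : s = 0 := by
  by_contra hs
  obtain ⟨t, ht, hst⟩ := hS.field.inv _ s.2 (fun h0 => hs (Subtype.ext h0))
  apply hu
  rw [← Matrix.one_mulVec u, ← hst, hS.field.comm _ s.2 _ ht, ← Matrix.mulVec_mulVec, h, Matrix.mulVec_zero]

/-- Vectors with prescribed pairings. -/
lemma exists_dual {R : Submodule F (Fin d ⊕ Fin d → F)} (hR : Nd (sympBilin d F) R)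
    (hinv : ∀ a ∈ K, ∀ x ∈ R, a *ᵥ x ∈ R) {u : Fin d ⊕ Fin d → F} (hu : u ∈ R) (hu0 : u ≠ 0) (φ : K →ₗ[F] F) :
    ∃ v ∈ R, ∀ s : K, sympBilin d F (s.1 *ᵥ u) v = φ s := by
  let ι : K →ₗ[F] R :=
    { toFun := fun s => ⟨s.1 *ᵥ u, hinv _ s.2 _ hu⟩
      map_add' := fun s t => Subtype.ext (by simp [Matrix.add_mulVec])
      map_smul' := fun c s => Subtype.ext (by simp [Matrix.smul_mulVec]) }
  have hι : Function.Injective ι := (injective_iff_map_eq_zero _).2 fun s hs => smul_inj hS hu0 (congrArg Subtype.val hs)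
  obtain ⟨ψ, hψ⟩ := LinearMap.dualMap_surjective_of_injective hι φ
  let D : R →ₗ[F] Module.Dual F R := ((sympBilin d F).restrict R).flip
  have hD : Function.Injective D := (injective_iff_map_eq_zero _).2 fun x hx => Subtype.ext (hR x.1 x.2 fun y hy => by
    rw [Cfsg.Agent.S5976.flip y x.1]
    have h : sympBilin d F y (x : Fin d ⊕ Fin d → F) = 0 := LinearMap.congr_fun hx ⟨y, hy⟩
    rw [h, neg_zero])
  obtain ⟨v, hv⟩ := (LinearMap.injective_iff_surjective_of_finrank_eq_finrank Subspace.dual_finrank_eq.symm).1 hD ψ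
  refine ⟨v, v.2, fun s => ?_⟩
  have h : D v (ι s) = ψ (ι s) := by rw [hv]
  rw [← hψ]
  exact h

/-- An invariant non-degenerate subspace has a standard family over the field. -/
lemma exists_kpairs [Fintype F] (hk : 0 < k) (ev : K →ₗ[F] F) (hev : ev ≠ 0) :
    ∀ {R : Submodule F (Fin d ⊕ Fin d → F)}, Nd (sympBilin d F) R → (∀ a ∈ K, ∀ x ∈ R, a *ᵥ x ∈ R) →
      ∃ (m : ℕ) (u v : Fin m → Fin d ⊕ Fin d → F), finrank F R = 2 * k * m ∧ (∀ i, u i ∈ R ∧ v i ∈ R) ∧ KStd K ev u v := by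
  classical
  intro R
  induction hn : finrank F R using Nat.strong_induction_on generalizing R with
  | _ n ih =>
    intro hR hinv
    by_cases hbot : R = ⊥
    · exact ⟨0, Fin.elim0, Fin.elim0, by rw [← hn, hbot, finrank_bot, mul_zero], fun i => i.elim0, fun _ i => i.elim0⟩
    obtain ⟨u, huR, hu0⟩ := Submodule.exists_mem_ne_zero_of_ne_bot hbot
    obtain ⟨v, hvR, hv⟩ := exists_dual hS hR hinv huR hu0 ev
    haveI : Nonempty (Fin d ⊕ Fin d) := by
      by_contra hne
      haveI := not_nonempty_iff.1 hne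
      exact hu0 (Subsingleton.elim _ _)
    letI : Field K := CfsgLib.Geo.FieldTransvection.fieldOf hS.field
    haveI : FiniteDimensional F K := Module.finite_of_finrank_pos (by rw [hS.field.finrank_eq]; exact hk)
    have hev' : ∀ s : K, (∀ t : K, ev (s * t) = 0) → s = 0 := fun s h => by
      by_contra hs
      refine hev (LinearMap.ext fun t => ?_)
      have := h (s⁻¹ * t)
      rwa [mul_inv_cancel_left₀ hs] at this
    let ψ : K × K →ₗ[F] (Fin d ⊕ Fin d → F) :=
      { toFun := fun p => p.1.1 *ᵥ u + p.2.1 *ᵥ v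
        map_add' := fun p p' => by simp [Matrix.add_mulVec]; abel
        map_smul' := fun c p => by simp [Matrix.smul_mulVec] }
    have hψ : ∀ p, ψ p = p.1.1 *ᵥ u + p.2.1 *ᵥ v := fun p => rfl
    have hsv : ∀ (s t : K), sympBilin d F (s.1 *ᵥ v) (t.1 *ᵥ u) = - ev (s * t) := fun s t => by
      rw [Cfsg.Agent.S5976.flip (t.1 *ᵥ u) (s.1 *ᵥ v), ← hS.adj _ s.2, Matrix.mulVec_mulVec, ← Subalgebra.coe_mul, hv]
    have huv : ∀ (s t : K), sympBilin d F (s.1 *ᵥ u) (t.1 *ᵥ v) = ev (s * t) := fun s t => by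
      rw [← hS.adj _ t.2, Matrix.mulVec_mulVec, ← Subalgebra.coe_mul, hv, mul_comm]
    have huu : ∀ (x : Fin d ⊕ Fin d → F) (s t : K), sympBilin d F (s.1 *ᵥ x) (t.1 *ᵥ x) = 0 := fun x s t => by
      rw [← hS.adj _ t.2, Matrix.mulVec_mulVec, ← Subalgebra.coe_mul]
      exact hS.alt _ (t * s).2 x
    have hkill : ∀ p : K × K, (∀ t : K, sympBilin d F (ψ p) (t.1 *ᵥ v) = 0) →
        (∀ t : K, sympBilin d F (ψ p) (t.1 *ᵥ u) = 0) → p = 0 := by
      intro p h1 h2
      refine Prod.ext (hev' _ fun t => ?_) (hev' _ fun t => ?_)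
      · have := h1 t
        rwa [hψ, map_add, LinearMap.add_apply, huv, huu, add_zero] at this
      · have := h2 t
        rwa [hψ, map_add, LinearMap.add_apply, huu, hsv, zero_add, neg_eq_zero] at this
    have hψi : Function.Injective ψ := (injective_iff_map_eq_zero _).2 fun p hp =>
      hkill p (fun t => by rw [hp, map_zero, LinearMap.zero_apply]) (fun t => by rw [hp, map_zero, LinearMap.zero_apply])
    set W := LinearMap.range ψ with hW
    have hWR : W ≤ R := by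
      rintro _ ⟨p, rfl⟩
      exact R.add_mem (hinv _ p.1.2 _ huR) (hinv _ p.2.2 _ hvR)
    have hWnd : Nd (sympBilin d F) W := by
      rintro _ ⟨p, rfl⟩ hall
      rw [hkill p (fun t => hall _ ⟨(0, t), by simp [hψ]⟩) (fun t => hall _ ⟨(t, 0), by simp [hψ]⟩), map_zero]
    have hWdim : finrank F W = 2 * k := by
      rw [hW, LinearMap.finrank_range_of_inj hψi, Module.finrank_prod, hS.field.finrank_eq, two_mul]
    have hWinv : ∀ a ∈ K, ∀ y ∈ W, a *ᵥ y ∈ W := by
      rintro a ha _ ⟨p, rfl⟩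
      exact ⟨(⟨a, ha⟩ * p.1, ⟨a, ha⟩ * p.2), by simp [hψ, Matrix.mulVec_add, Matrix.mulVec_mulVec]⟩
    have hA : (sympBilin d F).IsAlt := sympBilin_isAlt
    obtain ⟨hnd', hdim'⟩ := nd_inf_orth hA hR hWnd hWR
    have hinv' : ∀ a ∈ K, ∀ x ∈ R ⊓ (sympBilin d F).orthogonal W, a *ᵥ x ∈ R ⊓ (sympBilin d F).orthogonal W :=
      fun a ha x hx => ⟨hinv a ha x hx.1, (mem_orth hA).2 fun y hy => by
        rw [hS.adj a ha]; exact (mem_orth hA).1 hx.2 _ (hWinv a ha y hy)⟩
    obtain ⟨m, u', v', hm, hmem, hstd⟩ := ih _ (by omega) rfl hnd' hinv'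
    have ho : ∀ i, ∀ y ∈ W, ∀ s : K, sympBilin d F (s.1 *ᵥ u' i) y = 0 ∧ sympBilin d F (s.1 *ᵥ v' i) y = 0 := fun i y hy s =>
      ⟨(mem_orth hA).1 (hinv' _ s.2 _ (hmem i).1).2 y hy, (mem_orth hA).1 (hinv' _ s.2 _ (hmem i).2).2 y hy⟩
    have hmu : u ∈ W := ⟨(1, 0), by simp [hψ]⟩
    have hmv : v ∈ W := ⟨(0, 1), by simp [hψ]⟩
    refine ⟨m + 1, Fin.cons u u', Fin.cons v v', by rw [← hn, hdim', hWdim, hm]; ring, Fin.cases ⟨huR, hvR⟩
      (fun i => ⟨(hmem i).1.1, (hmem i).2.1⟩), fun s i j => ?_⟩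
    have hsu : ∀ x ∈ W, ∀ y ∈ R ⊓ (sympBilin d F).orthogonal W, sympBilin d F x y = 0 := fun x hx y hy => by
      rw [Cfsg.Agent.S5976.flip y x, (mem_orth hA).1 hy.2 x hx, neg_zero]
    refine Fin.cases ?_ (fun i => ?_) i <;> refine Fin.cases ?_ (fun j => ?_) j <;>
      simp only [Fin.cons_zero, Fin.cons_succ]
    · exact ⟨hS.alt _ s.2 u, hS.alt _ s.2 v, by simpa using hv s⟩
    · exact ⟨hsu _ (hWinv _ s.2 _ hmu) _ (hmem j).1, hsu _ (hWinv _ s.2 _ hmv) _ (hmem j).2,
        by rw [hsu _ (hWinv _ s.2 _ hmu) _ (hmem j).2, if_neg (Fin.succ_ne_zero j).symm]⟩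
    · exact ⟨(ho i u hmu s).1, (ho i v hmv s).2, by rw [(ho i v hmv s).1, if_neg (Fin.succ_ne_zero i)]⟩
    · obtain ⟨h1, h2, h3⟩ := hstd s i j
      exact ⟨h1, h2, by rw [h3]; simp [Fin.succ_inj]⟩

lemma exists_functional [Nonempty (Fin d ⊕ Fin d)] : ∃ ev : K →ₗ[F] F, ev ≠ 0 := by
  obtain ⟨ev, h⟩ := Module.Projective.exists_dual_ne_zero F (x := (1 : K)) (fun h => zero_ne_one (congrArg (fun a : K => a.1 (Classical.arbitrary _) (Classical.arbitrary _)) h.symm |>.trans (by simp)))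
  exact ⟨ev, fun h0 => h (by rw [h0, LinearMap.zero_apply])⟩

/-- The dimension of an invariant non-degenerate subspace. -/
lemma finrank_dvd [Fintype F] [Nonempty (Fin d ⊕ Fin d)] (hk : 0 < k) {R : Submodule F (Fin d ⊕ Fin d → F)}
    (hR : Nd (sympBilin d F) R) (hinv : ∀ a ∈ K, ∀ x ∈ R, a *ᵥ x ∈ R) : 2 * k ∣ finrank F R := by
  obtain ⟨ev, hev⟩ := exists_functional hS
  obtain ⟨m, -, -, hm, -, -⟩ := exists_kpairs hS hk ev hev hR hinv
  exact ⟨m, hm⟩

/-- A normalising element with a large fixed space centralises the field. -/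
lemma comm_of_fix [Fintype F] [Nonempty (Fin d ⊕ Fin d)] (hk : k.Prime) {y : GL (Fin d ⊕ Fin d) F}
    (hy : y ∈ Cfsg.Geo.subalgebraNormalizer K) {H : Submodule F (Fin d ⊕ Fin d → F)}
    (hH : ∀ v ∈ H, (y : Matrix (Fin d ⊕ Fin d) (Fin d ⊕ Fin d) F) *ᵥ v = v) (hdim : d < finrank F H) :
    ∀ a ∈ K, (y : Matrix (Fin d ⊕ Fin d) (Fin d ⊕ Fin d) F) * a = a * (y : Matrix (Fin d ⊕ Fin d) (Fin d ⊕ Fin d) F) := by
  classical
  letI : Field K := CfsgLib.Geo.FieldTransvection.fieldOf hS.field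
  haveI : FiniteDimensional F K := Module.finite_of_finrank_pos (by rw [hS.field.finrank_eq]; exact hk.pos)
  have : IsSimpleOrder (Subalgebra F K) :=
    Subalgebra.isSimpleOrder_of_finrank_prime F K (by rw [hS.field.finrank_eq]; exact hk)
  have key : ∀ a : K, a ≠ 0 → a ∈ ((Subalgebra.centralizer F {(y : Matrix (Fin d ⊕ Fin d) (Fin d ⊕ Fin d) F)}).comap K.val) := by
    intro a ha
    let A : (Fin d ⊕ Fin d → F) →ₗ[F] (Fin d ⊕ Fin d → F) := Matrix.toLin' a.1
    have hAi : Function.Injective A := (injective_iff_map_eq_zero _).2 fun x hx => by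
      by_contra hx0
      exact ha (smul_inj hS hx0 hx)
    have h1 := Submodule.finrank_sup_add_finrank_inf_eq H (H.comap A)
    have h2 : finrank F ↥(H.comap A) = finrank F H := by
      have hsurj := LinearMap.injective_iff_surjective.1 hAi
      have := (Submodule.equivMapOfInjective A hAi (H.comap A)).finrank_eq
      rwa [Submodule.map_comap_eq_of_surjective hsurj] at this
    have h3 := Submodule.finrank_le (R := F) (H ⊔ H.comap A)
    rw [Module.finrank_fintype_fun_eq_card, Fintype.card_sum, Fintype.card_fin] at h3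
    have hne : H ⊓ H.comap A ≠ ⊥ := fun h => by rw [h, finrank_bot] at h1; omega
    obtain ⟨x, hx, hx0⟩ := Submodule.exists_mem_ne_zero_of_ne_bot hne
    have hxa : (y : Matrix (Fin d ⊕ Fin d) (Fin d ⊕ Fin d) F) *ᵥ (a.1 *ᵥ x) = a.1 *ᵥ x := hH _ hx.2
    let a' : K := ⟨_, (hy a.1).1 a.2⟩
    have e : a' - a = 0 := smul_inj hS hx0 (by
      show ((y : Matrix (Fin d ⊕ Fin d) (Fin d ⊕ Fin d) F) * a.1 * ((y⁻¹ : GL (Fin d ⊕ Fin d) F) : Matrix (Fin d ⊕ Fin d) (Fin d ⊕ Fin d) F) - a.1) *ᵥ x = 0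
      conv_lhs => arg 2; rw [← hH x hx.1]
      rw [Matrix.sub_mulVec, Matrix.mulVec_mulVec, mul_assoc _ _ (y : Matrix (Fin d ⊕ Fin d) (Fin d ⊕ Fin d) F), Units.inv_mul, mul_one,
        ← Matrix.mulVec_mulVec, hxa, hH x hx.1, sub_self])
    have e' : (y : Matrix (Fin d ⊕ Fin d) (Fin d ⊕ Fin d) F) * a.1 * ((y⁻¹ : GL (Fin d ⊕ Fin d) F) : Matrix (Fin d ⊕ Fin d) (Fin d ⊕ Fin d) F) = a.1 :=
      congrArg Subtype.val (sub_eq_zero.1 e)
    simp only [Subalgebra.mem_comap, Subalgebra.coe_val, Subalgebra.mem_centralizer_iff, Set.mem_singleton_iff, forall_eq]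
    calc (y : Matrix (Fin d ⊕ Fin d) (Fin d ⊕ Fin d) F) * a.1
        = (y : Matrix (Fin d ⊕ Fin d) (Fin d ⊕ Fin d) F) * a.1 * ((y⁻¹ : GL (Fin d ⊕ Fin d) F) : Matrix (Fin d ⊕ Fin d) (Fin d ⊕ Fin d) F) * y := by
          rw [mul_assoc _ _ (y : Matrix (Fin d ⊕ Fin d) (Fin d ⊕ Fin d) F), Units.inv_mul, mul_one]
      _ = _ := by rw [e']
  intro a ha
  by_cases h0 : (⟨a, ha⟩ : K) = 0
  · rw [show a = 0 from congrArg Subtype.val h0, mul_zero, zero_mul]
  have := key ⟨a, ha⟩ h0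
  simp only [Subalgebra.mem_comap, Subalgebra.coe_val, Subalgebra.mem_centralizer_iff, Set.mem_singleton_iff, forall_eq] at this
  exact this

/-- A normalising element of prime order different from the degree centralises the field. -/
lemma comm_of_order [Fintype F] [Nonempty (Fin d ⊕ Fin d)] (hk : k.Prime) {r : ℕ} (hr : r.Prime) (hrk : r ≠ k)
    {y : GL (Fin d ⊕ Fin d) F} (hy : y ∈ Cfsg.Geo.subalgebraNormalizer K) (hyr : y ^ r = 1) :
    ∀ a ∈ K, (y : Matrix (Fin d ⊕ Fin d) (Fin d ⊕ Fin d) F) * a = a * (y : Matrix (Fin d ⊕ Fin d) (Fin d ⊕ Fin d) F) := by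
  classical
  letI : Field K := CfsgLib.Geo.FieldTransvection.fieldOf hS.field
  haveI : FiniteDimensional F K := Module.finite_of_finrank_pos (by rw [hS.field.finrank_eq]; exact hk.pos)
  haveI : Finite K := Module.finite_of_finite F
  haveI : IsGalois F K := GaloisField.instIsGaloisOfFinite
  let c : GL (Fin d ⊕ Fin d) F → Matrix (Fin d ⊕ Fin d) (Fin d ⊕ Fin d) F → Matrix (Fin d ⊕ Fin d) (Fin d ⊕ Fin d) F :=
    fun g a => (g : Matrix (Fin d ⊕ Fin d) (Fin d ⊕ Fin d) F) * a * ((g⁻¹ : GL (Fin d ⊕ Fin d) F) : Matrix (Fin d ⊕ Fin d) (Fin d ⊕ Fin d) F)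
  let σ : K →ₐ[F] K :=
    { toFun := fun a => ⟨c y a.1, (hy a.1).1 a.2⟩
      map_one' := Subtype.ext (by simp [c])
      map_mul' := fun a b => Subtype.ext (by
        show c y (a.1 * b.1) = c y a.1 * c y b.1
        simp only [c, mul_assoc]
        rw [← mul_assoc ((y⁻¹ : GL (Fin d ⊕ Fin d) F) : Matrix (Fin d ⊕ Fin d) (Fin d ⊕ Fin d) F) (y : Matrix (Fin d ⊕ Fin d) (Fin d ⊕ Fin d) F),
          Units.inv_mul, one_mul])
      map_zero' := Subtype.ext (by simp [c])
      map_add' := fun a b => Subtype.ext (by simp [c, mul_add, add_mul])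
      commutes' := fun t => Subtype.ext (by simp [c, Algebra.algebraMap_eq_smul_one]) }
  let e := AlgEquiv.ofBijective σ (Algebra.IsAlgebraic.algHom_bijective σ)
  have hpow : ∀ (n : ℕ) (a : K), ((e ^ n) a).1 = c (y ^ n) a.1 := by
    intro n
    induction n with
    | zero => intro a; simp [c]
    | succ n ih =>
      intro a
      rw [pow_succ', AlgEquiv.mul_apply]
      show c y ((e ^ n) a).1 = _
      rw [ih]
      simp only [c, pow_succ', _root_.mul_inv_rev, Units.val_mul, mul_assoc]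
  have her : e ^ r = 1 := AlgEquiv.ext fun a => Subtype.ext (by rw [hpow, hyr]; simp [c])
  have he1 : e = 1 := by
    have h := orderOf_dvd_natCard e
    rw [IsGalois.card_aut_eq_finrank, hS.field.finrank_eq] at h
    rcases (Nat.dvd_prime hr).1 (orderOf_dvd_of_pow_eq_one her) with h' | h'
    · exact orderOf_eq_one_iff.1 h'
    · rw [h'] at h
      exact absurd ((Nat.prime_dvd_prime_iff_eq hr hk).1 h) hrk
  intro a ha
  have h : c y a = a := congrArg Subtype.val (AlgEquiv.congr_fun he1 ⟨a, ha⟩)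
  calc (y : Matrix (Fin d ⊕ Fin d) (Fin d ⊕ Fin d) F) * a = c y a * y := by
        simp only [c]; rw [mul_assoc _ _ (y : Matrix (Fin d ⊕ Fin d) (Fin d ⊕ Fin d) F), Units.inv_mul, mul_one]
    _ = _ := by rw [h]

/-- A transvection-like element does not normalise. -/
lemma not_mem_of_line [Fintype F] [Nonempty (Fin d ⊕ Fin d)] (hk : k.Prime) (hd : 2 ≤ d) {y : GL (Fin d ⊕ Fin d) F}
    (hy : y ∈ Cfsg.Geo.subalgebraNormalizer K)
    (h1 : finrank F ↥(LinearMap.range (Matrix.toLin' (y : Matrix (Fin d ⊕ Fin d) (Fin d ⊕ Fin d) F) - 1 : Module.End F (Fin d ⊕ Fin d → F))) = 1) :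
    False := by
  classical
  set Y : Module.End F (Fin d ⊕ Fin d → F) := Matrix.toLin' (y : Matrix (Fin d ⊕ Fin d) (Fin d ⊕ Fin d) F) with hY
  have hd' := LinearMap.finrank_range_add_finrank_ker (Y - 1)
  rw [h1, Module.finrank_fintype_fun_eq_card, Fintype.card_sum, Fintype.card_fin] at hd'
  have hcomm := comm_of_fix hS hk hy (H := LinearMap.ker (Y - 1)) (fun v hv => by
    rw [LinearMap.mem_ker, LinearMap.sub_apply, Module.End.one_apply, sub_eq_zero, hY, Matrix.toLin'_apply] at hv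
    exact hv) (by omega)
  have hne : LinearMap.range (Y - 1) ≠ ⊥ := fun h => by rw [h, finrank_bot] at h1; omega
  obtain ⟨w, hw, hw0⟩ := Submodule.exists_mem_ne_zero_of_ne_bot hne
  have hall : ∀ a : K, a ∈ (⊥ : Subalgebra F K) := by
    intro a
    obtain ⟨z, rfl⟩ := id hw
    have hmem : a.1 *ᵥ (Y - 1) z ∈ LinearMap.range (Y - 1) := ⟨a.1 *ᵥ z, by
      simp only [LinearMap.sub_apply, Module.End.one_apply, hY, Matrix.toLin'_apply, Matrix.mulVec_sub,
        Matrix.mulVec_mulVec, hcomm a.1 a.2]⟩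
    obtain ⟨l, hl⟩ := exists_smul_eq_of_finrank_eq_one h1 (x := ⟨(Y - 1) z, hw⟩)
      (fun h => hw0 (congrArg Subtype.val h)) ⟨_, hmem⟩
    refine Algebra.mem_bot.2 ⟨l, ?_⟩
    have e := smul_inj hS (s := algebraMap F K l - a) hw0 (by
      show (algebraMap F (Matrix (Fin d ⊕ Fin d) (Fin d ⊕ Fin d) F) l - a.1) *ᵥ _ = 0
      rw [Matrix.sub_mulVec, Algebra.algebraMap_eq_smul_one, Matrix.smul_mulVec, Matrix.one_mulVec, sub_eq_zero]
      exact congrArg Subtype.val hl)
    exact sub_eq_zero.1 e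
  have hbot : finrank F (⊤ : Subalgebra F K) = 1 := by
    rw [show (⊤ : Subalgebra F K) = ⊥ from eq_bot_iff.2 fun a _ => hall a]
    exact Subalgebra.finrank_bot
  rw [← Subalgebra.finrank_toSubmodule, Algebra.top_toSubmodule, finrank_top, hS.field.finrank_eq] at hbot
  exact hk.one_lt.ne hbot.symm

/-- An element moving a non-degenerate subspace of dimension `2 h`, `k ∤ h`, does not normalise. -/
lemma not_mem_of_move [Fintype F] [Nonempty (Fin d ⊕ Fin d)] (hk : k.Prime) {r : ℕ} [Fact r.Prime] (hr0 : (r : F) ≠ 0)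
    {y : GL (Fin d ⊕ Fin d) F} (hys : y ∈ Cfsg.spGL d F) (hy : y ∈ Cfsg.Geo.subalgebraNormalizer K) (hyr : y ^ r = 1)
    {h : ℕ} (hkh : ¬ k ∣ h) (hsmall : r = k → 2 * h < d)
    (h1 : finrank F ↥(LinearMap.range (Matrix.toLin' (y : Matrix (Fin d ⊕ Fin d) (Fin d ⊕ Fin d) F) - 1 : Module.End F (Fin d ⊕ Fin d → F))) = 2 * h) :
    False := by
  classical
  set Y : Module.End F (Fin d ⊕ Fin d → F) := Matrix.toLin' (y : Matrix (Fin d ⊕ Fin d) (Fin d ⊕ Fin d) F) with hY
  have hd' := LinearMap.finrank_range_add_finrank_ker (Y - 1)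
  rw [h1, Module.finrank_fintype_fun_eq_card, Fintype.card_sum, Fintype.card_fin] at hd'
  have hcomm : ∀ a ∈ K, (y : Matrix (Fin d ⊕ Fin d) (Fin d ⊕ Fin d) F) * a = a * (y : Matrix (Fin d ⊕ Fin d) (Fin d ⊕ Fin d) F) := by
    by_cases hrk : r = k
    · exact comm_of_fix hS hk hy (H := LinearMap.ker (Y - 1)) (fun v hv => by
        rw [LinearMap.mem_ker, LinearMap.sub_apply, Module.End.one_apply, sub_eq_zero, hY, Matrix.toLin'_apply] at hv
        exact hv) (by have := hsmall hrk; omega)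
    · exact comm_of_order hS hk Fact.out hrk hy hyr
  have hYr : Y ^ r = 1 := by
    rw [hY, ← Matrix.toLin'_pow, ← Units.val_pow_eq_pow_val, hyr, Units.val_one, Matrix.toLin'_one]; rfl
  have hnd := (nd_fix_move (sympBilin_isAlt (F := F) (m := d)) (T := Y) (fun u v => mulVec_symp hys u v) hYr hr0
    (CfsgLib.SympWitness.nd_top d)).2
  have hdvd := finrank_dvd hS hk.pos hnd fun a ha x hx => by
    obtain ⟨z, rfl⟩ := hx
    exact ⟨a *ᵥ z, by
      simp only [LinearMap.sub_apply, Module.End.one_apply, hY, Matrix.toLin'_apply, Matrix.mulVec_sub,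
        Matrix.mulVec_mulVec, hcomm a ha]⟩
  rw [h1] at hdvd
  exact hkh (Nat.dvd_of_mul_dvd_mul_left two_pos hdvd)

/-- The symplectic group over the field embeds in the normaliser. -/
lemma card_dvd [Fintype F] [Nonempty (Fin d ⊕ Fin d)] {q : ℕ} (hq : Fintype.card F = q) (hk : 0 < k) :
    ∃ m, d = k * m ∧ (q ^ k) ^ m ^ 2 * ∏ i ∈ Finset.range m, ((q ^ k) ^ (2 * (i + 1)) - 1) ∣
      Nat.card ↥((Cfsg.Geo.subalgebraNormalizer K).subgroupOf (Cfsg.spGL d F)) := by
  classical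
  obtain ⟨ev, hev⟩ := exists_functional hS
  obtain ⟨m, u, v, hm, -, hstd⟩ := exists_kpairs hS hk ev hev (CfsgLib.SympWitness.nd_top d) (fun _ _ _ _ => Submodule.mem_top)
  rw [finrank_top, Module.finrank_fintype_fun_eq_card, Fintype.card_sum, Fintype.card_fin] at hm
  refine ⟨m, by rw [mul_assoc] at hm; omega, ?_⟩
  letI : Field K := CfsgLib.Geo.FieldTransvection.fieldOf hS.field
  haveI : FiniteDimensional F K := Module.finite_of_finrank_pos (by rw [hS.field.finrank_eq]; exact hk)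
  haveI : Finite K := Module.finite_of_finite F
  letI : Fintype K := Fintype.ofFinite K
  have hcardK : Fintype.card K = q ^ k := by
    rw [← Nat.card_eq_fintype_card, Module.natCard_eq_pow_finrank (K := F), hS.field.finrank_eq, Nat.card_eq_fintype_card, hq]
  have hev' : ∀ s : K, (∀ t : K, ev (s * t) = 0) → s = 0 := fun s h => by
    by_contra hs
    refine hev (LinearMap.ext fun t => ?_)
    have := h (s⁻¹ * t)
    rwa [mul_inv_cancel_left₀ hs] at this
  let φ : (Fin m ⊕ Fin m → K) →ₗ[F] (Fin d ⊕ Fin d → F) :=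
    { toFun := fun w => ∑ i, ((w (.inl i)).1 *ᵥ u i + (w (.inr i)).1 *ᵥ v i)
      map_add' := fun w w' => by
        rw [← Finset.sum_add_distrib]
        exact Finset.sum_congr rfl fun i _ => by simp [Matrix.add_mulVec]; abel
      map_smul' := fun c w => by simp [Matrix.smul_mulVec, Finset.smul_sum] }
  have hφ : ∀ w, φ w = ∑ i, ((w (.inl i)).1 *ᵥ u i + (w (.inr i)).1 *ᵥ v i) := fun w => rfl
  have hf : ∀ a b, sympBilin d F (φ a) (φ b) = - ev (Cfsg.sympForm m K a b) := by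
    intro a b
    have e1 : ∀ (s t : K) i j, sympBilin d F (s.1 *ᵥ u i) (t.1 *ᵥ u j) = 0 := fun s t i j => by
      rw [← hS.adj _ t.2, Matrix.mulVec_mulVec, ← Subalgebra.coe_mul]; exact (hstd _ i j).1
    have e2 : ∀ (s t : K) i j, sympBilin d F (s.1 *ᵥ v i) (t.1 *ᵥ v j) = 0 := fun s t i j => by
      rw [← hS.adj _ t.2, Matrix.mulVec_mulVec, ← Subalgebra.coe_mul]; exact (hstd _ i j).2.1
    have e3 : ∀ (s t : K) i j, sympBilin d F (s.1 *ᵥ u i) (t.1 *ᵥ v j) = if i = j then ev (s * t) else 0 := fun s t i j => by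
      rw [← hS.adj _ t.2, Matrix.mulVec_mulVec, ← Subalgebra.coe_mul, (hstd _ i j).2.2, mul_comm]
    have e4 : ∀ (s t : K) i j, sympBilin d F (s.1 *ᵥ v i) (t.1 *ᵥ u j) = if i = j then - ev (s * t) else 0 := fun s t i j => by
      rw [Cfsg.Agent.S5976.flip (t.1 *ᵥ u j), e3, mul_comm]
      by_cases hij : i = j
      · simp [hij]
      · simp [hij, Ne.symm hij]
    simp only [hφ, map_sum, LinearMap.sum_apply, map_add, LinearMap.add_apply, e1, e2, e3, e4, sympForm_eq_sum,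
      zero_add, add_zero, Finset.sum_add_distrib, Finset.sum_ite_eq, Finset.mem_univ, if_true, map_sub,
      Finset.sum_sub_distrib, neg_sub, Finset.sum_ite_eq', ← Finset.sum_neg_distrib]
    simp only [Finset.sum_const_zero, zero_add, add_zero, Finset.sum_neg_distrib]
    abel
  have hinj : Function.Injective φ := (injective_iff_map_eq_zero _).2 fun a ha => by
    funext s
    refine hev' _ fun t => ?_
    rcases s with i | i
    · have h := hf a (Pi.single (.inr i) t)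
      rw [ha, map_zero, LinearMap.zero_apply, sympForm_eq_sum] at h
      simpa [Pi.single_apply] using h.symm
    · have h := hf a (Pi.single (.inl i) t)
      rw [ha, map_zero, LinearMap.zero_apply, sympForm_eq_sum] at h
      simpa [Pi.single_apply] using h.symm
  have hdimK : finrank F (Fin m ⊕ Fin m → K) = finrank F (Fin d ⊕ Fin d → F) := by
    rw [Module.finrank_pi_fintype, Module.finrank_fintype_fun_eq_card]
    simp only [hS.field.finrank_eq, Finset.sum_const, Finset.card_univ, Fintype.card_sum, Fintype.card_fin, smul_eq_mul]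
    rw [hm]; ring
  have hsurj := (LinearMap.injective_iff_surjective_of_finrank_eq_finrank hdimK).1 hinj
  let e : (Fin m ⊕ Fin m → K) ≃ₗ[F] (Fin d ⊕ Fin d → F) := LinearEquiv.ofBijective φ ⟨hinj, hsurj⟩
  let Ψ : ↥(Cfsg.spGL m K) →* Matrix (Fin d ⊕ Fin d) (Fin d ⊕ Fin d) F :=
    { toFun := fun g => LinearMap.toMatrix' (e.toLinearMap ∘ₗ
        (Matrix.toLin' ((g : GL (Fin m ⊕ Fin m) K) : Matrix (Fin m ⊕ Fin m) (Fin m ⊕ Fin m) K)).restrictScalars F ∘ₗ e.symm.toLinearMap)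
      map_one' := by
        rw [← LinearMap.toMatrix'_id]; congr 1; exact LinearMap.ext fun v => by simp
      map_mul' := fun g g' => by
        rw [← LinearMap.toMatrix'_comp]; congr 1
        exact LinearMap.ext fun v => by simp [Matrix.mulVec_mulVec] }
  have hΨv : ∀ g w, (Ψ g) *ᵥ φ w = φ (((g : GL (Fin m ⊕ Fin m) K) : Matrix (Fin m ⊕ Fin m) (Fin m ⊕ Fin m) K) *ᵥ w) := fun g w => by
    show LinearMap.toMatrix' _ *ᵥ _ = _
    rw [LinearMap.toMatrix'_mulVec, LinearMap.comp_apply, LinearMap.comp_apply, LinearMap.restrictScalars_apply,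
      Matrix.toLin'_apply, show φ w = e w from rfl, LinearEquiv.coe_coe, LinearEquiv.coe_coe, e.symm_apply_apply]
    rfl
  have hsm : ∀ (s : K) w, s.1 *ᵥ φ w = φ (s • w) := fun s w => by
    simp only [hφ, Matrix.mulVec_sum, Matrix.mulVec_add, Matrix.mulVec_mulVec, Pi.smul_apply, smul_eq_mul, Subalgebra.coe_mul]
  let H := (Cfsg.Geo.subalgebraNormalizer K).subgroupOf (Cfsg.spGL d F)
  have hH : ∀ g, ∃ h : H, ((h.1.1 : GL (Fin d ⊕ Fin d) F) : Matrix (Fin d ⊕ Fin d) (Fin d ⊕ Fin d) F) = Ψ g := by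
    intro g
    obtain ⟨y, hy, hyv⟩ := exists_sp (Matrix.toLin' (Ψ g)) fun x z => by
      obtain ⟨x, rfl⟩ := hsurj x
      obtain ⟨z, rfl⟩ := hsurj z
      rw [Matrix.toLin'_apply, Matrix.toLin'_apply, hΨv, hΨv, hf, hf]
      exact congrArg (fun t => - ev t) (g.2 x z)
    have hyM : (y : Matrix (Fin d ⊕ Fin d) (Fin d ⊕ Fin d) F) = Ψ g :=
      Matrix.toLin'.injective (LinearMap.ext fun v => by rw [Matrix.toLin'_apply, hyv])
    have hc : ∀ a ∈ K, (y : Matrix (Fin d ⊕ Fin d) (Fin d ⊕ Fin d) F) * a = a * y := fun a ha => by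
      refine Matrix.toLin'.injective (LinearMap.ext fun z => ?_)
      obtain ⟨z, rfl⟩ := hsurj z
      rw [Matrix.toLin'_apply, Matrix.toLin'_apply, ← Matrix.mulVec_mulVec, ← Matrix.mulVec_mulVec, hyM,
        hsm ⟨a, ha⟩, hΨv, hΨv, hsm ⟨a, ha⟩, Matrix.mulVec_smul]
    refine ⟨⟨⟨y, hy⟩, Subgroup.mem_subgroupOf.2 fun a => ⟨fun ha => ?_, fun ha => ?_⟩⟩, hyM⟩
    · show (y : Matrix (Fin d ⊕ Fin d) (Fin d ⊕ Fin d) F) * a * _ ∈ K
      rw [hc a ha, mul_assoc, Units.mul_inv, mul_one]; exact ha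
    · have h := hc _ ha
      rw [mul_assoc _ ((y⁻¹ : GL (Fin d ⊕ Fin d) F) : Matrix (Fin d ⊕ Fin d) (Fin d ⊕ Fin d) F) (y : Matrix (Fin d ⊕ Fin d) (Fin d ⊕ Fin d) F), Units.inv_mul, mul_one] at h
      have h2 := y.isUnit.mul_left_cancel h
      exact h2 ▸ ha
  choose h hh using hH
  let hom : ↥(Cfsg.spGL m K) →* H :=
    { toFun := h
      map_one' := Subtype.ext (Subtype.ext (Units.ext (by rw [hh, map_one]; rfl)))
      map_mul' := fun g g' => Subtype.ext (Subtype.ext (Units.ext (by rw [hh, map_mul, ← hh, ← hh]; rfl))) }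
  have hhi : Function.Injective hom := fun g g' hgg => by
    refine Subtype.ext (Units.ext (Matrix.toLin'.injective (LinearMap.ext fun w => e.injective ?_)))
    show φ _ = φ _
    rw [Matrix.toLin'_apply, Matrix.toLin'_apply, ← hΨv, ← hΨv, ← hh, ← hh]
    exact congrArg (fun x : H => ((x.1.1 : GL (Fin d ⊕ Fin d) F) : Matrix (Fin d ⊕ Fin d) (Fin d ⊕ Fin d) F) *ᵥ φ w) hgg
  have := Subgroup.card_dvd_of_injective hom hhi
  rwa [← Nat.card_congr (spEquiv m K).toEquiv, CfsgLib.Sp.card_symplecticGroup hcardK] at this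

end sym

/-- Splitting the order formula. -/
lemma prod_split {q : ℕ} (hk : 0 < k) (m : ℕ) :
    ∏ j ∈ Finset.range (k * m), (q ^ (2 * (j + 1)) - 1) =
      (∏ j ∈ (Finset.range (k * m)).filter (fun j => ¬ k ∣ j + 1), (q ^ (2 * (j + 1)) - 1)) *
        ∏ i ∈ Finset.range m, ((q ^ k) ^ (2 * (i + 1)) - 1) := by
  rw [← Finset.prod_filter_mul_prod_filter_not (Finset.range (k * m)) (fun j => ¬ k ∣ j + 1)]
  congr 1
  simp only [not_not]
  refine (Finset.prod_bij (fun i _ => k * (i + 1) - 1) ?_ ?_ ?_ ?_).symm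
  · intro i hi
    rw [Finset.mem_range] at hi
    have h1 : k * (i + 1) ≤ k * m := Nat.mul_le_mul_left k hi
    have h2 : 0 < k * (i + 1) := Nat.mul_pos hk (Nat.succ_pos i)
    rw [Finset.mem_filter, Finset.mem_range, Nat.sub_add_cancel h2]
    exact ⟨by omega, Dvd.intro _ rfl⟩
  · intro i _ j _ h
    have h2 : 0 < k * (i + 1) := Nat.mul_pos hk (Nat.succ_pos i)
    have h3 : 0 < k * (j + 1) := Nat.mul_pos hk (Nat.succ_pos j)
    have h4 : k * (i + 1) = k * (j + 1) := by omega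
    exact Nat.succ_injective (Nat.eq_of_mul_eq_mul_left hk h4)
  · intro j hj
    rw [Finset.mem_filter, Finset.mem_range] at hj
    obtain ⟨hj1, i, hi⟩ := hj
    have h1 : 0 < i := Nat.pos_of_ne_zero fun h => by rw [h, mul_zero] at hi; omega
    refine ⟨i - 1, Finset.mem_range.2 ?_, ?_⟩
    · have : k * i ≤ k * m := by omega
      have := Nat.le_of_mul_le_mul_left this hk
      omega
    · rw [Nat.sub_add_cancel h1, ← hi, Nat.add_sub_cancel]
  · intro i _
    have h2 : 0 < k * (i + 1) := Nat.mul_pos hk (Nat.succ_pos i)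
    rw [Nat.sub_add_cancel h2, ← pow_mul]
    congr 2
    ring

set_option maxHeartbeats 3200000 in
/-- Elements of prime order of PSp_n(q) and the field-extension subgroups of type Sp_{n/k}(q^k). Here `T = PSp_{2d}(F)` for a field `F` with `q` elements (`d ≥ 2`, `(d, q) ≠ (2, 2)`), realised through the matrices preserving the standard alternating form `f`; `k` is a prime and `K` is a subalgebra of the `2d × 2d` matrices that is a field of degree `k` over `F` whose elements are self-adjoint for `f` and satisfy `f(a v, v) = 0` (so `F^{2d}` becomes a vector space over `K ≅ F_{q^k}` on which `f` is the trace of a `K`-bilinear alternating form); `H` is the subgroup of `T` normalizing `K` — the symplectic maps that are `K`-linear or `K`-semilinear, a subgroup of type Sp_{2d/k}(q^k) (maximality is not assumed). Ω is the set of cosets of `H` in `T`, so an element of `T` of prime order `r` (`x ∈ T` with `x^r` scalar, `x` not scalar) fixes a point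 of Ω exactly when some `T`-conjugate of `x` normalizes `K`. Let `r` be a prime dividing the index of `H`. Then every element of `T` of order `r` fixes a point of Ω if and only if `r = 2`, `d = 2`, `k = 2` and `q` is odd. -/
theorem result {F : Type*} [Field F] [Fintype F] {p : ℕ} [Fact p.Prime] [CharP F p] {q : ℕ} (hq : Fintype.card F = q)
    (d : ℕ) (hd : 2 ≤ d) (hT : (d, q) ≠ (2, 2)) (k : ℕ) (hk : k.Prime)
    (K : Subalgebra F (Matrix (Fin d ⊕ Fin d) (Fin d ⊕ Fin d) F)) (hK : Cfsg.Geo.IsFieldSubalgebra k K)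
    (hKf : Cfsg.Geo.IsSelfAdjointFor (Cfsg.sympForm d F) K) (hKalt : ∀ a ∈ K, ∀ v : Fin d ⊕ Fin d → F, Cfsg.sympForm d F (a *ᵥ v) v = 0)
    (r : ℕ) [Fact r.Prime]
    (hΩ : r ∣ (Cfsg.Geo.subalgebraNormalizer K).relIndex (Cfsg.spGL d F)) :
    (∀ x ∈ Cfsg.spGL d F, (∃ z : F, ((x ^ r : GL (Fin d ⊕ Fin d) F) : Matrix (Fin d ⊕ Fin d) (Fin d ⊕ Fin d) F) = z • (1 : Matrix (Fin d ⊕ Fin d) (Fin d ⊕ Fin d) F)) →
      (∀ z : F, (x : Matrix (Fin d ⊕ Fin d) (Fin d ⊕ Fin d) F) ≠ z • (1 : Matrix (Fin d ⊕ Fin d) (Fin d ⊕ Fin d) F)) →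
      ∃ g ∈ Cfsg.spGL d F, g⁻¹ * x * g ∈ Cfsg.Geo.subalgebraNormalizer K) ↔
    (r = 2 ∧ d = 2 ∧ k = 2 ∧ Odd q) := by
  classical
  have hd0 : 0 < d := by omega
  haveI : Nonempty (Fin d ⊕ Fin d) := ⟨.inl ⟨0, hd0⟩⟩
  have hS : IsSym k K := ⟨hK, fun a ha u v => by rw [sympBilin_apply, sympBilin_apply]; exact hKf a ha u v,
    fun a ha u => by rw [sympBilin_apply]; exact hKalt a ha u⟩
  have hr0 : Nat.Prime r := Fact.out
  obtain ⟨m, hdm, hcard⟩ := card_dvd hS hq hk.pos
  constructor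
  · intro hall
    -- transporting a witness
    have hwit : ∀ x ∈ Cfsg.spGL d F, ((x ^ r : GL (Fin d ⊕ Fin d) F)) = 1 →
        ∀ c : ℕ, 0 < c → c < 2 * d →
        finrank F ↥(LinearMap.range (Matrix.toLin' (x : Matrix (Fin d ⊕ Fin d) (Fin d ⊕ Fin d) F) - 1 : Module.End F (Fin d ⊕ Fin d → F))) = c →
        ∃ y ∈ Cfsg.spGL d F, y ∈ Cfsg.Geo.subalgebraNormalizer K ∧ y ^ r = 1 ∧
          finrank F ↥(LinearMap.range (Matrix.toLin' (y : Matrix (Fin d ⊕ Fin d) (Fin d ⊕ Fin d) F) - 1 : Module.End F (Fin d ⊕ Fin d → F))) = c := by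
      intro x hx hxr c hc0 hc hrange
      have hns : ∀ z : F, (x : Matrix (Fin d ⊕ Fin d) (Fin d ⊕ Fin d) F) ≠ z • 1 := by
        intro z hz
        have hT : (Matrix.toLin' (x : Matrix (Fin d ⊕ Fin d) (Fin d ⊕ Fin d) F) - 1 : Module.End F (Fin d ⊕ Fin d → F)) = (z - 1) • 1 := by
          refine LinearMap.ext fun w => ?_
          simp [hz, sub_smul, Matrix.smul_mulVec]
        rw [hT] at hrange
        by_cases hz1 : z - 1 = 0
        · rw [hz1, zero_smul, LinearMap.range_zero, finrank_bot] at hrange; omega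
        · rw [LinearMap.range_smul _ _ hz1, Module.End.one_eq_id, LinearMap.range_id, finrank_top,
            Module.finrank_fintype_fun_eq_card, Fintype.card_sum, Fintype.card_fin] at hrange
          omega
      obtain ⟨g, hg, hgx⟩ := hall x hx ⟨1, by rw [hxr, one_smul]; rfl⟩ hns
      refine ⟨g⁻¹ * x * g, mul_mem (mul_mem (inv_mem hg) hx) hg, hgx, ?_, ?_⟩
      · rw [show g⁻¹ * x * g = MulAut.conj g⁻¹ x by simp, ← map_pow, hxr, map_one]
      · let G : (Fin d ⊕ Fin d → F) ≃ₗ[F] (Fin d ⊕ Fin d → F) := Matrix.toLin'OfInv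
          (Units.inv_mul g) (Units.mul_inv g)
        rw [← hrange, ← LinearEquiv.finrank_map_eq G (LinearMap.range _), ← LinearMap.range_comp]
        refine congrArg (fun S : Submodule F (Fin d ⊕ Fin d → F) => finrank F S) (le_antisymm ?_ ?_)
        · rintro _ ⟨z, rfl⟩
          refine ⟨(g : Matrix (Fin d ⊕ Fin d) (Fin d ⊕ Fin d) F) *ᵥ z, ?_⟩
          simp [G, Matrix.toLin'OfInv, Matrix.mulVec_sub, Matrix.mulVec_mulVec, mul_assoc]
        · rintro _ ⟨z, rfl⟩
          refine ⟨((g⁻¹ : GL (Fin d ⊕ Fin d) F) : Matrix (Fin d ⊕ Fin d) (Fin d ⊕ Fin d) F) *ᵥ z, ?_⟩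
          simp [G, Matrix.toLin'OfInv, Matrix.mulVec_sub, Matrix.mulVec_mulVec, mul_assoc]
    by_cases hrp : r = p
    · exfalso
      subst hrp
      set e0 : Fin d ⊕ Fin d → F := Pi.single (Sum.inl ⟨0, hd0⟩) (1 : F) with he0
      have he00 : e0 ≠ 0 := by simp [he0, Pi.single_eq_zero_iff]
      obtain ⟨u, hu⟩ := exists_pair_one he00
      set x : GL (Fin d ⊕ Fin d) F := (spEquiv d F (tmat e0 1)).1 with hxdef
      have hxv : ∀ v, (x : Matrix (Fin d ⊕ Fin d) (Fin d ⊕ Fin d) F) *ᵥ v = v + sympBilin d F v e0 • e0 := fun v => by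
        show sympTransvection d e0 1 *ᵥ v = _
        rw [sympTransvection_mulVec, one_mul, sympBilin_apply]
      have hpow : ∀ n : ℕ, tmat e0 (1 : F) ^ n = tmat e0 (n : F) := fun n => by
        induction n with
        | zero => simp
        | succ n ih => rw [pow_succ, ih, tmat_mul]; push_cast; rfl
      have hrange : finrank F ↥(LinearMap.range (Matrix.toLin' (x : Matrix (Fin d ⊕ Fin d) (Fin d ⊕ Fin d) F) - 1 : Module.End F (Fin d ⊕ Fin d → F))) = 1 := by
        rw [show LinearMap.range (Matrix.toLin' (x : Matrix (Fin d ⊕ Fin d) (Fin d ⊕ Fin d) F) - 1 : Module.End F (Fin d ⊕ Fin d → F)) = F ∙ e0 from ?_, finrank_span_singleton he00]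
        refine le_antisymm ?_ ?_
        · rintro _ ⟨v, rfl⟩
          rw [LinearMap.sub_apply, Module.End.one_apply, Matrix.toLin'_apply, hxv, add_sub_cancel_left]
          exact Submodule.mem_span_singleton.2 ⟨_, rfl⟩
        · rw [Submodule.span_singleton_le_iff_mem]
          refine ⟨-u, ?_⟩
          rw [LinearMap.sub_apply, Module.End.one_apply, Matrix.toLin'_apply, hxv, add_sub_cancel_left, map_neg,
            LinearMap.neg_apply, Cfsg.Agent.S5976.flip e0 u, sympBilin_apply, hu, neg_neg, one_smul]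
      obtain ⟨y, -, hyN, -, hy⟩ := hwit x (spEquiv d F (tmat e0 1)).2 (by
        rw [hxdef, ← SubgroupClass.coe_pow, ← map_pow, hpow, CharP.cast_eq_zero, tmat_zero, map_one]; rfl)
        1 one_pos (by omega) hrange
      exact not_mem_of_line hS hk hd hyN hy
    have hr0F : (r : F) ≠ 0 := by
      rw [Ne, CharP.cast_eq_zero_iff F p]
      exact fun h => hrp ((Nat.prime_dvd_prime_iff_eq Fact.out hr0).1 h).symm
    have hrq : (q : ZMod r) ≠ 0 := by
      intro h
      obtain ⟨f, hp', hqf⟩ := FiniteField.card F p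
      rw [hq] at hqf
      rw [ZMod.natCast_eq_zero_iff, hqf] at h
      exact hrp ((Nat.prime_dvd_prime_iff_eq hr0 hp').1 (hr0.dvd_of_dvd_pow h))
    have hq1 : 1 ≤ q := by rw [← hq]; exact Fintype.card_pos
    set o := orderOf (q : ZMod r) with ho
    have ho0 : 0 < o := orderOf_pos_iff.2 (isOfFinOrder_iff_pow_eq_one.2
      ⟨r - 1, by have := hr0.two_le; omega, ZMod.pow_card_sub_one_eq_one hrq⟩)
    have hor : o ∣ r - 1 := ZMod.orderOf_dvd_card_sub_one hrq
    obtain ⟨c, hc⟩ : ∃ c, c = if Even o then o else 2 * o := ⟨_, rfl⟩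
    obtain ⟨h, hh⟩ : ∃ h, c = 2 * h := by
      rw [hc]; split_ifs with he
      · exact he.two_dvd
      · exact ⟨o, rfl⟩
    have hh0 : 0 < h := by
      have : 0 < c := by rw [hc]; split_ifs <;> omega
      omega
    -- a witness of the given shape
    have hbad : ∀ (hhd : h < d) (hkh : ¬ k ∣ h) (hsmall : r = k → 2 * h < d), False := by
      intro hhd hkh hsmall
      obtain ⟨x, hxr, hrange⟩ := CfsgLib.SympWitness.exists_witness (F := F) hq ho hc hr0F hrq (d := d) (e := 1) (k := d - h) (by omega)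
      rw [one_mul, hh] at hrange
      obtain ⟨y, hys, hyN, hyr, hy⟩ := hwit (spEquiv d F x).1 (spEquiv d F x).2 (by
        rw [← SubgroupClass.coe_pow, ← map_pow, hxr, map_one]; rfl) (2 * h) (by omega) (by omega) hrange
      exact not_mem_of_move hS hk hr0F hys hyN hyr hkh hsmall hy
    by_cases hr2 : r = 2
    · subst hr2
      have ho1 : o = 1 := Nat.dvd_one.1 hor
      have hh1 : h = 1 := by rw [hc, if_neg (by rw [ho1]; decide), ho1] at hh; omega
      have hd2 : d = 2 := by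
        by_contra hne
        exact hbad (by omega) (by rw [hh1, Nat.dvd_one]; exact hk.one_lt.ne') (fun _ => by omega)
      refine ⟨rfl, hd2, ?_, ?_⟩
      · exact (Nat.prime_dvd_prime_iff_eq hk Nat.prime_two).1 (hd2 ▸ Dvd.intro m hdm.symm)
      · rw [← hq]
        refine Nat.odd_iff.2 (FiniteField.odd_card_of_char_ne_two fun h => hr0F ?_)
        haveI := ringChar.of_eq h
        exact_mod_cast CharP.ofNat_eq_zero F 2
    exfalso
    have hrodd : Odd r := hr0.odd_of_ne_two hr2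
    -- from the index
    let H := (Cfsg.Geo.subalgebraNormalizer K).subgroupOf (Cfsg.spGL d F)
    obtain ⟨l, hl⟩ := hcard
    have hsp : Nat.card ↥(Cfsg.spGL d F) = q ^ d ^ 2 * ∏ i ∈ Finset.range d, (q ^ (2 * (i + 1)) - 1) := by
      rw [← CfsgLib.Sp.card_symplecticGroup hq, Nat.card_congr (spEquiv d F).toEquiv]
    rw [← H.index_mul_card, show Nat.card ↥H = _ from hl] at hsp
    subst hdm
    rw [prod_split hk.pos m] at hsp
    set B := ∏ i ∈ Finset.range m, ((q ^ k) ^ (2 * (i + 1)) - 1) with hB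
    set A := ∏ j ∈ (Finset.range (k * m)).filter (fun j => ¬ k ∣ j + 1), (q ^ (2 * (j + 1)) - 1) with hA
    have hBpos : 0 < B := Finset.prod_pos fun i _ => by
      have hq2 : 1 < q := by rw [← hq]; exact Fintype.one_lt_card
      have := Nat.one_lt_pow (show k * (2 * (i + 1)) ≠ 0 from by
        have := hk.pos; positivity) hq2
      rw [← pow_mul]; omega
    have hEq : H.index * ((q ^ k) ^ m ^ 2 * l) = q ^ (k * m) ^ 2 * A :=
      Nat.eq_of_mul_eq_mul_right hBpos (by
        calc H.index * ((q ^ k) ^ m ^ 2 * l) * B = H.index * ((q ^ k) ^ m ^ 2 * B * l) := by ring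
          _ = q ^ (k * m) ^ 2 * (A * B) := hsp
          _ = _ := by ring)
    have hdiv : r ∣ q ^ (k * m) ^ 2 * A := hEq ▸ Dvd.dvd.mul_right hΩ _
    have hdiv' : r ∣ A := (hr0.dvd_mul.1 hdiv).resolve_left fun h =>
      hrq ((ZMod.natCast_eq_zero_iff q r).2 (hr0.dvd_of_dvd_pow h))
    obtain ⟨j, hj, hdj⟩ := (Prime.dvd_finset_prod_iff hr0.prime _).1 hdiv'
    rw [Finset.mem_filter, Finset.mem_range] at hj
    have hoj : o ∣ 2 * (j + 1) := (CfsgLib.OrderR.orderOf_dvd_iff hq1).2 hdj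
    have hhj : h ∣ j + 1 := by
      rw [hc] at hh
      split_ifs at hh with he
      · exact Nat.dvd_of_mul_dvd_mul_left two_pos (hh ▸ hoj)
      · have : o = h := by omega
        rw [← this]
        exact (Nat.coprime_two_right.2 (Nat.not_even_iff_odd.1 he)).dvd_of_dvd_mul_left hoj
    have hhle := Nat.le_of_dvd (by omega) hhj
    have hkh : ¬ k ∣ h := fun hd' => hj.2 (hd'.trans hhj)
    have hcr : 2 * h < r := by
      have hle := Nat.le_of_dvd (by have := hr0.two_le; omega) hor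
      rw [hc] at hh
      split_ifs at hh with he
      · have := hr0.two_le; omega
      · obtain ⟨t, ht⟩ := hor
        obtain ⟨a, ha⟩ := hrodd
        obtain ⟨b, hb⟩ := Nat.not_even_iff_odd.1 he
        have : Even t := by
          by_contra hto
          have h1 : Odd (o * t) := (Nat.not_even_iff_odd.1 he).mul (Nat.not_even_iff_odd.1 hto)
          rw [← ht, ha, Nat.add_sub_cancel] at h1
          exact Nat.not_odd_iff_even.2 (even_two_mul a) h1
        obtain ⟨t', rfl⟩ := this.two_dvd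
        have ht0 : 0 < t' := Nat.pos_of_ne_zero fun h0 => by rw [h0] at ht; omega
        have : o * 2 ≤ o * (2 * t') := Nat.mul_le_mul_left o (by omega)
        omega
    by_cases hhd : h < k * m
    · exact hbad hhd hkh fun hrk => by
        subst hrk
        rcases Nat.eq_zero_or_pos m with rfl | hm0
        · omega
        · have : r * 1 ≤ r * m := Nat.mul_le_mul_left r hm0
          omega
    · -- the whole space would be moved
      have heq : h = k * m := by omega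
      exact hkh ⟨m, heq⟩
  · -- involutions in dimension four
    rintro ⟨rfl, rfl, rfl, hodd⟩ x hx ⟨z, hz⟩ hxns
    have h2 : (2 : F) ≠ 0 := by
      intro h
      have hchar : ringChar F = 2 := CharP.ringChar_of_prime_eq_zero Nat.prime_two (by exact_mod_cast h)
      have := FiniteField.even_card_of_char_two hchar
      rw [hq] at this
      exact Nat.not_even_iff_odd.2 hodd (Nat.even_iff.2 this)
    obtain ⟨W, a, b, hWK, hirr, hWW, hmemK, -⟩ := CfsgLib.QuadStructure.exists_generator hK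
    set τM : Matrix (Fin 2 ⊕ Fin 2) (Fin 2 ⊕ Fin 2) F := W - (a / 2) • 1 with hτM
    have hτK : τM ∈ K := K.sub_mem hWK (K.smul_mem K.one_mem _)
    set δ : F := a ^ 2 / 4 + b with hδdef
    have h4 : (4 : F) ≠ 0 := by
      rw [show (4 : F) = 2 * 2 by norm_num]; exact mul_ne_zero h2 h2
    have hτ2 : τM * τM = δ • (1 : Matrix (Fin 2 ⊕ Fin 2) (Fin 2 ⊕ Fin 2) F) := by
      rw [hτM]
      simp only [sub_mul, mul_sub, Matrix.smul_mul, Matrix.mul_smul, one_mul, mul_one, hWW, smul_smul, smul_sub,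
        hδdef, add_smul]
      rw [show a / 2 * (a / 2) = a ^ 2 / 4 by field_simp; ring]
      conv_lhs => rw [show a • W = (a / 2) • W + (a / 2) • W by rw [← add_smul]; congr 1; field_simp; ring]
      abel
    have hδns : ¬ IsSquare δ := by
      rintro ⟨s, hs⟩
      refine hirr (s + a / 2) ?_
      rw [hδdef] at hs
      field_simp at hs ⊢
      linear_combination -hs
    have hδ0 : δ ≠ 0 := fun h => hδns (h ▸ IsSquare.zero)
    -- a standard basis adapted to `τ`
    set u : Fin 2 ⊕ Fin 2 → F := Pi.single (Sum.inl 0) 1 with hu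
    have hu0 : u ≠ 0 := by simp [hu, Pi.single_eq_zero_iff]
    obtain ⟨v, hv1, hv2⟩ : ∃ v, sympBilin 2 F u v = 1 ∧ sympBilin 2 F (τM *ᵥ u) v = 0 := by
      have hli : LinearIndependent F ![(⟨1, K.one_mem⟩ : K), ⟨τM, hτK⟩] := LinearIndependent.pair_iff.2 fun s t hst => by
        have hst' : s • (1 : Matrix (Fin 2 ⊕ Fin 2) (Fin 2 ⊕ Fin 2) F) + t • τM = 0 := congrArg Subtype.val hst
        have ht : t = 0 := by
          by_contra ht
          refine hδns ⟨-(t⁻¹ * s), ?_⟩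
          have e : τM = (-(t⁻¹ * s)) • (1 : Matrix (Fin 2 ⊕ Fin 2) (Fin 2 ⊕ Fin 2) F) := by
            rw [neg_smul, mul_smul, ← smul_neg, eq_inv_smul_iff₀ ht]
            exact eq_neg_of_add_eq_zero_right hst'
          rw [e, Matrix.smul_mul, Matrix.mul_smul, mul_one, smul_smul] at hτ2
          exact (smul_left_injective F (one_ne_zero (α := Matrix (Fin 2 ⊕ Fin 2) (Fin 2 ⊕ Fin 2) F)) hτ2).symm
        refine ⟨?_, ht⟩
        rw [ht, zero_smul, add_zero, smul_eq_zero] at hst'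
        exact hst'.resolve_right one_ne_zero
      let bK := Module.Basis.mk hli (hli.span_eq_top_of_card_eq_finrank (by simp [hK.finrank_eq])).ge
      obtain ⟨v, -, hv⟩ := exists_dual hS (CfsgLib.SympWitness.nd_top 2) (fun _ _ _ _ => Submodule.mem_top) (u := u)
        Submodule.mem_top hu0 (bK.coord 0)
      refine ⟨v, ?_, ?_⟩
      · have h := hv ⟨1, K.one_mem⟩
        rw [Matrix.one_mulVec] at h
        rw [h, show (⟨1, K.one_mem⟩ : K) = bK 0 by simp [bK], Module.Basis.coord_apply,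
          Module.Basis.repr_self, Finsupp.single_eq_same]
      · have h := hv ⟨τM, hτK⟩
        rw [h, show (⟨τM, hτK⟩ : K) = bK 1 by simp [bK], Module.Basis.coord_apply,
          Module.Basis.repr_self, Finsupp.single_eq_of_ne (by decide : (0 : Fin 2) ≠ 1)]
    set U0 : Fin 2 → Fin 2 ⊕ Fin 2 → F := ![u, τM *ᵥ u] with hU0
    set V0 : Fin 2 → Fin 2 ⊕ Fin 2 → F := ![v, δ⁻¹ • (τM *ᵥ v)] with hV0
    have hτadj : ∀ a b, sympBilin 2 F (τM *ᵥ a) b = sympBilin 2 F a (τM *ᵥ b) := fun a b => hS.adj _ hτK a b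
    have hτalt : ∀ a, sympBilin 2 F (τM *ᵥ a) a = 0 := fun a => hS.alt _ hτK a
    have hτalt' : ∀ a, sympBilin 2 F a (τM *ᵥ a) = 0 := fun a => by rw [← hτadj]; exact hτalt a
    have hτsq : ∀ a, τM *ᵥ (τM *ᵥ a) = δ • a := fun a => by
      rw [Matrix.mulVec_mulVec, hτ2, Matrix.smul_mulVec, Matrix.one_mulVec]
    have hA : (sympBilin 2 F).IsAlt := sympBilin_isAlt
    have hstd0 : Std U0 V0 := by
      refine ⟨?_, ?_, ?_⟩ <;> intro i j <;> fin_cases i <;> fin_cases j <;>
        simp [hU0, hV0, hA.self_eq_zero, hτalt, hτalt', hv1, hv2, map_smul, LinearMap.smul_apply]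
      · exact Or.inr (by rw [← hτadj, hv2])
      · rw [hτadj, hτsq, map_smul, hv1, smul_eq_mul, mul_one, inv_mul_cancel₀ hδ0]
    set T : Module.End F (Fin 2 ⊕ Fin 2 → F) := Matrix.toLin' (x : Matrix (Fin 2 ⊕ Fin 2) (Fin 2 ⊕ Fin 2) F) with hT
    rw [Units.val_pow_eq_pow_val] at hz
    have hTB : ∀ v w, sympBilin 2 F (T v) (T w) = sympBilin 2 F v w := fun v w => mulVec_symp hx v w
    have hT2 : ∀ v, T (T v) = z • v := fun v => by
      rw [hT, Matrix.toLin'_apply, Matrix.toLin'_apply, Matrix.mulVec_mulVec, ← pow_two, hz, Matrix.smul_mulVec, Matrix.one_mulVec]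
    have hzz : z = 1 ∨ z = -1 := by
      have h1 := hTB (T u) (T v)
      rw [hT2, hT2, hTB, map_smul, map_smul, LinearMap.smul_apply, hv1, smul_eq_mul, smul_eq_mul, mul_one] at h1
      exact mul_self_eq_one_iff.1 h1
    -- an adapted basis for `x`
    obtain ⟨U, V, ε, hε, hUV, hcomm⟩ : ∃ (U V : Fin 2 → Fin 2 ⊕ Fin 2 → F) (ε : F), ε * ε = 1 ∧ Std U V ∧
        ∀ τ' : Module.End F (Fin 2 ⊕ Fin 2 → F), τ' (U 0) = U 1 → τ' (U 1) = δ • U 0 → τ' (V 0) = δ • V 1 → τ' (V 1) = V 0 →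
          ∀ a, T (τ' a) = ε • τ' (T a) := by
      rcases hzz with rfl | rfl
      · set Wp : Submodule F (Fin 2 ⊕ Fin 2 → F) := LinearMap.ker (T - 1) with hWp
        set Wm : Submodule F (Fin 2 ⊕ Fin 2 → F) := LinearMap.ker (T + 1) with hWm
        have hp' : ∀ a, a ∈ Wp ↔ T a = a := fun a => by simp [hWp, sub_eq_zero]
        have hm' : ∀ a, a ∈ Wm ↔ T a = -a := fun a => by simp [hWm, add_eq_zero_iff_eq_neg]
        have hperp : ∀ a ∈ Wp, ∀ b ∈ Wm, sympBilin 2 F a b = 0 := fun a ha b hb => by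
          have h := hTB a b
          rw [(hp' a).1 ha, (hm' b).1 hb, map_neg] at h
          exact mul_left_cancel₀ h2 (by linear_combination -h)
        have hdec : ∀ a, ∃ a₁ ∈ Wp, ∃ a₂ ∈ Wm, a₁ + a₂ = a := fun a => by
          refine ⟨(2 : F)⁻¹ • (a + T a), (hp' _).2 (by rw [map_smul, map_add, hT2, one_smul, add_comm]), (2 : F)⁻¹ • (a - T a),
            (hm' _).2 (by rw [map_smul, map_sub, hT2, one_smul, ← smul_neg, neg_sub]), ?_⟩
          rw [← smul_add, add_add_sub_cancel, ← two_smul F, inv_smul_smul₀ h2]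
        have hndp : Nd (sympBilin 2 F) Wp := fun a ha hall =>
          sympBilin_separatingLeft _ fun b => by
            obtain ⟨b₁, h₁, b₂, h₂, rfl⟩ := hdec b
            rw [map_add, hall b₁ h₁, hperp a ha b₂ h₂, add_zero]
        have hndm : Nd (sympBilin 2 F) Wm := fun a ha hall =>
          sympBilin_separatingLeft _ fun b => by
            obtain ⟨b₁, h₁, b₂, h₂, rfl⟩ := hdec b
            rw [map_add, Cfsg.Agent.S5976.flip b₁ a, hperp b₁ h₁ a ha, hall b₂ h₂, neg_zero, add_zero]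
        have hsup : Wp ⊔ Wm = ⊤ := Submodule.eq_top_iff'.2 fun a => by
          obtain ⟨a₁, h₁, a₂, h₂, rfl⟩ := hdec a
          exact Submodule.add_mem_sup h₁ h₂
        obtain ⟨sp, up, vp, hsp, hmp, hstdp⟩ := exists_std_sub hndp
        obtain ⟨sm, um, vm, hsm, hmm, hstdm⟩ := exists_std_sub hndm
        have hdim := (nd_sup hA hndp hndm hperp).2
        rw [hsup, finrank_top, Module.finrank_fintype_fun_eq_card, Fintype.card_sum, Fintype.card_fin, hsp, hsm] at hdim
        have hsp0 : sp ≠ 0 := fun h => hxns (-1) (Matrix.toLin'.injective (LinearMap.ext fun a => by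
          have : a ∈ Wm := by
            have hbot : Wp = ⊥ := Submodule.finrank_eq_zero.1 (by omega)
            rw [← bot_sup_eq Wm, ← hbot, hsup]; trivial
          rw [← hT, (hm' a).1 this, Matrix.toLin'_apply, Matrix.smul_mulVec, Matrix.one_mulVec, neg_one_smul]))
        have hsm0 : sm ≠ 0 := fun h => hxns 1 (Matrix.toLin'.injective (LinearMap.ext fun a => by
          have : a ∈ Wp := by
            have hbot : Wm = ⊥ := Submodule.finrank_eq_zero.1 (by omega)
            rw [← sup_bot_eq Wp, ← hbot, hsup]; trivial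
          rw [← hT, (hp' a).1 this, Matrix.toLin'_apply, Matrix.smul_mulVec, Matrix.one_mulVec, one_smul]))
        obtain rfl : sp = 1 := by omega
        obtain rfl : sm = 1 := by omega
        refine ⟨![up 0, um 0], ![vp 0, vm 0], -1, by ring, ?_, fun τ' h0 h1 h2' h3 a => ?_⟩
        · refine ⟨?_, ?_, ?_⟩ <;> intro i j <;> fin_cases i <;> fin_cases j <;>
            simp [hstdp.1, hstdp.2.1, hstdp.2.2, hstdm.1, hstdm.2.1, hstdm.2.2, hperp _ (hmp 0).1 _ (hmm 0).1,
              hperp _ (hmp 0).2 _ (hmm 0).2, hperp _ (hmp 0).1 _ (hmm 0).2, hperp _ (hmp 0).2 _ (hmm 0).1,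
              Cfsg.Agent.S5976.flip (up 0) (um 0), Cfsg.Agent.S5976.flip (vp 0) (vm 0),
              Cfsg.Agent.S5976.flip (vp 0) (um 0)]
        · obtain ⟨bb, hb1, hb2⟩ := exists_std_basis (u := ![up 0, um 0]) (v := ![vp 0, vm 0]) (by
            refine ⟨?_, ?_, ?_⟩ <;> intro i j <;> fin_cases i <;> fin_cases j <;>
              simp [hstdp.1, hstdp.2.1, hstdp.2.2, hstdm.1, hstdm.2.1, hstdm.2.2, hperp _ (hmp 0).1 _ (hmm 0).1,
                hperp _ (hmp 0).2 _ (hmm 0).2, hperp _ (hmp 0).1 _ (hmm 0).2, hperp _ (hmp 0).2 _ (hmm 0).1,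
                Cfsg.Agent.S5976.flip (up 0) (um 0), Cfsg.Agent.S5976.flip (vp 0) (vm 0),
                Cfsg.Agent.S5976.flip (vp 0) (um 0)])
          refine LinearMap.congr_fun (bb.ext (f₁ := T ∘ₗ τ') (f₂ := (-1 : F) • (τ' ∘ₗ T)) fun i => ?_) a
          simp only [Matrix.cons_val_zero, Matrix.cons_val_one] at h0 h1 h2' h3
          rcases i with i | i <;> fin_cases i <;>
            simp [hb1, hb2, h0, h1, h2', h3, (hp' _).1 (hmp 0).1, (hp' _).1 (hmp 0).2, (hm' _).1 (hmm 0).1, (hm' _).1 (hmm 0).2]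
      · have hTanti : IsAnti T (-1) := ⟨fun u v => by
            have h := hTB (T u) v
            rw [hT2, neg_one_smul, map_neg, LinearMap.neg_apply] at h
            linear_combination -h, hT2⟩
        obtain ⟨p0, hp0⟩ := exists_pairs h2 (neg_ne_zero.2 one_ne_zero) hTanti
        obtain ⟨α, β, hαβ⟩ := exists_val h2 (neg_ne_zero.2 one_ne_zero) δ
        obtain ⟨q1, q2, q3⟩ := hp0
        have q4 : ∀ i k, sympBilin 2 F (T (p0 i)) (p0 k) = if i = k then -1 else 0 := fun i k => by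
          rw [Cfsg.Agent.S5976.flip (p0 k) (T (p0 i)), q3]
          by_cases hik : i = k
          · simp [hik]
          · simp [hik, Ne.symm hik]
        have hUV : Std ![p0 0, α • p0 1 + β • T (p0 1)] ![T (p0 0), δ⁻¹ • T (α • p0 1 + β • T (p0 1))] := by
          refine ⟨?_, ?_, ?_⟩ <;> intro i j <;> fin_cases i <;> fin_cases j <;>
            simp [q1, q2, q3, q4, map_add, map_smul, LinearMap.add_apply, LinearMap.smul_apply, hT2, hA.self_eq_zero]
          all_goals first | ring1 | (field_simp; rw [← hαβ]; ring1) | (field_simp; linear_combination hαβ) | (field_simp; linear_combination -hαβ)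
        refine ⟨_, _, 1, one_mul 1, hUV, fun τ' h0 h1 h2' h3 a => ?_⟩
        obtain ⟨bb, hb1, hb2⟩ := exists_std_basis hUV
        simp only [Matrix.cons_val_zero, Matrix.cons_val_one] at h0 h1 h2' h3
        set U1 := α • p0 1 + β • T (p0 1) with hU1
        have hTU1 : T U1 = δ • (δ⁻¹ • T U1) := by rw [smul_inv_smul₀ hδ0]
        refine LinearMap.congr_fun (bb.ext (f₁ := T ∘ₗ τ') (f₂ := (1 : F) • (τ' ∘ₗ T)) fun i => ?_) a
        rcases i with i | i <;> fin_cases i
        · simp only [hb1, LinearMap.comp_apply, LinearMap.smul_apply, one_smul, Fin.zero_eta, Fin.isValue, Matrix.cons_val_zero, h0]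
          rw [h2', smul_inv_smul₀ hδ0]
        · simp only [hb1, LinearMap.comp_apply, LinearMap.smul_apply, one_smul, Fin.mk_one, Fin.isValue, Matrix.cons_val_one, Matrix.cons_val_zero, h1]
          rw [map_smul, hTU1, map_smul, h3]
        · simp only [hb2, LinearMap.comp_apply, LinearMap.smul_apply, one_smul, Fin.zero_eta, Fin.isValue, Matrix.cons_val_zero, h2']
          rw [map_smul, map_smul, hT2, hT2, map_smul, h0, smul_smul, smul_smul, mul_inv_cancel₀ hδ0, one_mul]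
        · simp only [hb2, LinearMap.comp_apply, LinearMap.smul_apply, one_smul, Fin.mk_one, Fin.isValue, Matrix.cons_val_one, Matrix.cons_val_zero, h3]
          rw [map_smul T, hT2, hT2, map_smul, map_smul, h1, smul_comm (-1 : F) δ, inv_smul_smul₀ hδ0]
    obtain ⟨b0, hb01, hb02⟩ := exists_std_basis hstd0
    obtain ⟨b1, hb11, hb12⟩ := exists_std_basis hUV
    let e := b1.equiv b0 (Equiv.refl _)
    have he : ∀ i, e (b1 i) = b0 i := fun i => by simp [e]
    have hpres : (sympBilin 2 F).compl₁₂ e.toLinearMap e.toLinearMap = sympBilin 2 F := by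
      refine b1.ext fun i => b1.ext fun k => ?_
      show sympBilin 2 F (e (b1 i)) (e (b1 k)) = _
      rw [he, he]
      obtain ⟨p1, p2, p3⟩ := hstd0
      obtain ⟨p1', p2', p3'⟩ := hUV
      rcases i with i | i <;> rcases k with k | k <;> simp only [hb01, hb02, hb11, hb12]
      · rw [p1, p1']
      · rw [p3, p3']
      · rw [Cfsg.Agent.S5976.flip (U0 k) (V0 i), Cfsg.Agent.S5976.flip (U k) (V i), p3, p3']
      · rw [p2, p2']
    obtain ⟨A, hA', hAv⟩ := exists_sp e.toLinearMap fun x y => LinearMap.congr_fun₂ hpres x y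
    let τ' : Module.End F (Fin 2 ⊕ Fin 2 → F) := e.symm.toLinearMap ∘ₗ Matrix.toLin' τM ∘ₗ e.toLinearMap
    have hτ'v : ∀ a, τ' a = e.symm (τM *ᵥ e a) := fun a => rfl
    have hc := hcomm τ'
      (by rw [hτ'v, LinearEquiv.symm_apply_eq, ← hb11 1, ← hb11 0, he, he, hb01, hb01]; rfl)
      (by rw [hτ'v, LinearEquiv.symm_apply_eq, map_smul, ← hb11 1, ← hb11 0, he, he, hb01, hb01]
          simp [hU0, hτsq])
      (by rw [hτ'v, LinearEquiv.symm_apply_eq, map_smul, ← hb12 1, ← hb12 0, he, he, hb02, hb02]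
          simp [hV0, smul_inv_smul₀ hδ0])
      (by rw [hτ'v, LinearEquiv.symm_apply_eq, ← hb12 1, ← hb12 0, he, he, hb02, hb02]
          simp [hV0, Matrix.mulVec_smul, hτsq, inv_smul_smul₀ hδ0])
    refine ⟨A⁻¹, inv_mem hA', ?_⟩
    rw [inv_inv]
    set y := A * x * A⁻¹ with hy
    have hyτ : ∀ w, (y : Matrix (Fin 2 ⊕ Fin 2) (Fin 2 ⊕ Fin 2) F) *ᵥ (τM *ᵥ w) =
        ε • (τM *ᵥ ((y : Matrix (Fin 2 ⊕ Fin 2) (Fin 2 ⊕ Fin 2) F) *ᵥ w)) := by
      intro w
      have hAi : ∀ w, ((A⁻¹ : GL (Fin 2 ⊕ Fin 2) F) : Matrix (Fin 2 ⊕ Fin 2) (Fin 2 ⊕ Fin 2) F) *ᵥ w = e.symm w := fun w => by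
        rw [eq_comm, LinearEquiv.symm_apply_eq]
        have := hAv (((A⁻¹ : GL (Fin 2 ⊕ Fin 2) F) : Matrix (Fin 2 ⊕ Fin 2) (Fin 2 ⊕ Fin 2) F) *ᵥ w)
        rw [Matrix.mulVec_mulVec, Units.mul_inv, Matrix.one_mulVec] at this
        exact this
      simp only [hy, Units.val_mul, ← Matrix.mulVec_mulVec, hAi, hAv]
      have h := hc (e.symm w)
      rw [hτ'v, e.apply_symm_apply, hτ'v, hT, Matrix.toLin'_apply, Matrix.toLin'_apply] at h
      show e _ = ε • (τM *ᵥ e _)
      rw [h, map_smul, e.apply_symm_apply]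
    have hone : ∀ (y : GL (Fin 2 ⊕ Fin 2) F) (ε : F), ε * ε = 1 →
        (∀ w, (y : Matrix (Fin 2 ⊕ Fin 2) (Fin 2 ⊕ Fin 2) F) *ᵥ (τM *ᵥ w) = ε • (τM *ᵥ ((y : Matrix (Fin 2 ⊕ Fin 2) (Fin 2 ⊕ Fin 2) F) *ᵥ w))) →
        ∀ k ∈ K, (y : Matrix (Fin 2 ⊕ Fin 2) (Fin 2 ⊕ Fin 2) F) * k * ((y⁻¹ : GL (Fin 2 ⊕ Fin 2) F) : Matrix (Fin 2 ⊕ Fin 2) (Fin 2 ⊕ Fin 2) F) ∈ K := by
      intro y ε _ hyτ k hk
      obtain ⟨α, β, rfl⟩ := (hmemK k).1 hk
      have hyW : (y : Matrix (Fin 2 ⊕ Fin 2) (Fin 2 ⊕ Fin 2) F) * τM = (ε • τM) * y :=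
        Matrix.toLin'.injective (LinearMap.ext fun w => by
          rw [Matrix.toLin'_apply, Matrix.toLin'_apply, ← Matrix.mulVec_mulVec, hyτ, ← Matrix.mulVec_mulVec, Matrix.smul_mulVec])
      have : (y : Matrix (Fin 2 ⊕ Fin 2) (Fin 2 ⊕ Fin 2) F) * (α • (1 : Matrix (Fin 2 ⊕ Fin 2) (Fin 2 ⊕ Fin 2) F) + β • W) * ((y⁻¹ : GL (Fin 2 ⊕ Fin 2) F) : Matrix (Fin 2 ⊕ Fin 2) (Fin 2 ⊕ Fin 2) F) =
          (α + β * (a / 2)) • 1 + β • (ε • τM) := by
        rw [show W = τM + (a / 2) • 1 by rw [hτM]; abel]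
        simp only [mul_add, add_mul, Matrix.mul_smul, Matrix.smul_mul, mul_one, hyW, Units.mul_inv,
          mul_assoc _ (y : Matrix (Fin 2 ⊕ Fin 2) (Fin 2 ⊕ Fin 2) F), smul_add, smul_smul]
        module
      rw [this]
      exact K.add_mem (K.smul_mem K.one_mem _) (K.smul_mem (K.smul_mem hτK _) _)
    intro k
    refine ⟨hone y ε hε hyτ k, fun hk => ?_⟩
    have := hone y⁻¹ ε hε (fun w => by
      have h0 := congrArg (fun u => ε • (((y⁻¹ : GL (Fin 2 ⊕ Fin 2) F) : Matrix (Fin 2 ⊕ Fin 2) (Fin 2 ⊕ Fin 2) F) *ᵥ u))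
        (hyτ (((y⁻¹ : GL (Fin 2 ⊕ Fin 2) F) : Matrix (Fin 2 ⊕ Fin 2) (Fin 2 ⊕ Fin 2) F) *ᵥ w))
      simp only [Matrix.mulVec_smul, smul_smul, hε, one_smul] at h0
      simp only [Matrix.mulVec_mulVec, ← mul_assoc, Units.inv_mul, one_mul, mul_assoc, Units.mul_inv, mul_one] at h0
      simpa [Matrix.mulVec_mulVec, mul_assoc] using h0.symm) _ hk
    simpa [mul_assoc] using this

end Cfsg.Agent.S5975
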