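import Cfsg.Statements.S5978
import Cfsg.Agent.Lib.Maximal99.OrthSelfAdj.Main
import Cfsg.Agent.Lib.Recog.OmegaNine.Tori

set_option autoImplicit false
open scoped MatrixGroups
open Cfsg

namespace Cfsg.Agent.S5978

/-- Elements of prime order of PΩ⁻_n(q), q odd, and the field-extension subgroups of degree 2 (orthogonal type over F_{q²}). Here `T = PΩ⁻_{2d}(F)` for a field `F` with `q` elements, `q` odd, `d ≥ 4`, realised through `Ω⁻_{2d}(q)`, the commutator subgroup of the isometry group of `Q = Σ_{i<d−1} xᵢyᵢ + z₁² + a z₁z₂ + b z₂²` with `z₁² + a z₁z₂ + b z₂²` anisotropic, with polar form `B`; `K` is a subalgebra of the `2d × 2d` matrices that is a field of degree 2 over `F` whose elements are self-adjoint for `B` (so `F^{2d}` becomes a `d`-dimensional space over `K ≅ F_{q²}` on which `B` is the trace of a `K`-bilinear symmetric form); `H` is the subgroup of `Ω⁻_{2d}(q)` normalizing `K` — the elements of `Ω⁻_{2d}(q)` that are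 `K`-linear or `K`-semilinear, a subgroup of orthogonal type over the quadratic extension (maximality is not assumed). Ω is the set of cosets of `H`, so an element of `T` of prime order `r` (`x ∈ Ω⁻_{2d}(q)` with `x^r` scalar, `x` not scalar) fixes a point of Ω exactly when some `Ω⁻_{2d}(q)`-conjugate of `x` normalizes `K`. Let `r` be a prime dividing the index of `H`. Then every element of `T` of order `r` fixes a point of Ω if and only if `r = 2`. -/
theorem result {F : Type*} [Field F] [Fintype F] {p : ℕ} [Fact p.Prime] [CharP F p] {q : ℕ} (hq : Fintype.card F = q)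
    (hodd : Odd q) (d : ℕ) (hd : 4 ≤ d) (a b : F) (hab : ∀ x y : F, x ^ 2 + a * x * y + b * y ^ 2 = 0 → x = 0 ∧ y = 0)
    (K : Subalgebra F (Matrix ((Fin (d - 1) ⊕ Fin (d - 1)) ⊕ Fin 2) ((Fin (d - 1) ⊕ Fin (d - 1)) ⊕ Fin 2) F)) (hK : Cfsg.Geo.IsFieldSubalgebra 2 K)
    (hKf : Cfsg.Geo.IsSelfAdjointFor (QuadraticMap.polar (Cfsg.quadFormMinus (d - 1) F a b)) K)
    (r : ℕ) [Fact r.Prime]
    (hΩ : r ∣ (Cfsg.Geo.subalgebraNormalizer K).relIndex (Cfsg.Geo.omegaGL (Cfsg.quadFormMinus (d - 1) F a b))) :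
    (∀ x ∈ Cfsg.Geo.omegaGL (Cfsg.quadFormMinus (d - 1) F a b), (∃ z : F, ((x ^ r : GL ((Fin (d - 1) ⊕ Fin (d - 1)) ⊕ Fin 2) F) : Matrix ((Fin (d - 1) ⊕ Fin (d - 1)) ⊕ Fin 2) ((Fin (d - 1) ⊕ Fin (d - 1)) ⊕ Fin 2) F) = z • (1 : Matrix ((Fin (d - 1) ⊕ Fin (d - 1)) ⊕ Fin 2) ((Fin (d - 1) ⊕ Fin (d - 1)) ⊕ Fin 2) F)) →
      (∀ z : F, (x : Matrix ((Fin (d - 1) ⊕ Fin (d - 1)) ⊕ Fin 2) ((Fin (d - 1) ⊕ Fin (d - 1)) ⊕ Fin 2) F) ≠ z • (1 : Matrix ((Fin (d - 1) ⊕ Fin (d - 1)) ⊕ Fin 2) ((Fin (d - 1) ⊕ Fin (d - 1)) ⊕ Fin 2) F)) →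
      ∃ g ∈ Cfsg.Geo.omegaGL (Cfsg.quadFormMinus (d - 1) F a b), g⁻¹ * x * g ∈ Cfsg.Geo.subalgebraNormalizer K) ↔ r = 2 := by
  classical
  obtain ⟨m, rfl⟩ : ∃ m, d = m + 1 := ⟨d - 1, by omega⟩
  have h2 : (2 : F) ≠ 0 := by
    intro h
    have hchar : ringChar F = 2 := CharP.ringChar_of_prime_eq_zero Nat.prime_two (by exact_mod_cast h)
    have := FiniteField.even_card_of_char_two hchar
    rw [hq] at this
    exact Nat.not_even_iff_odd.2 hodd (Nat.even_iff.2 this)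
  refine CfsgLib.OrthSelfAdj.criterion (p := p) hq hodd
    (Q := CfsgLib.OrthUnipotent.qf (CfsgLib.OrthUnipotent.minus_nondeg (m + 1 - 1) a b h2 hab))
    (CfsgLib.OrthUnipotent.qf_nondeg _) (m := m) (by omega) (by simp; ring) (Or.inr ⟨?_, ?_⟩) hK hKf hΩ
  · rw [CfsgLib.OrthUnipotent.qf_coe]
    have hg : CfsgLib.QuadFin.gram (Cfsg.quadFormMinus (m + 1 - 1) F a b) =
        Matrix.fromBlocks (CfsgLib.QuadFin.gram (Cfsg.quadFormPlus (m + 1 - 1) F)) 0 0 !![2, a; a, 2 * b] := by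
      ext (i | i) (j | j)
      · rcases i with i | i <;> rcases j with j | j <;>
          simp [CfsgLib.QuadFin.gram, CfsgLib.OrthUnipotent.polar_minus, CfsgLib.OrthUnipotent.polar_plus, Pi.single_apply]
      · rcases i with i | i <;> simp [CfsgLib.QuadFin.gram, CfsgLib.OrthUnipotent.polar_minus, Pi.single_apply]
      · rcases j with j | j <;> simp [CfsgLib.QuadFin.gram, CfsgLib.OrthUnipotent.polar_minus, Pi.single_apply]
      · fin_cases i <;> fin_cases j <;>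
          simp [CfsgLib.QuadFin.gram, CfsgLib.OrthUnipotent.polar_minus, Pi.single_apply]
    have hp := CfsgLib.Recog.OmegaNine.det_plusQ (F := F) (m + 1 - 1)
    rw [CfsgLib.Orth.plusQ_coe] at hp
    rw [hg, Matrix.det_fromBlocks_zero₂₁, hp, Matrix.det_fin_two_of, Nat.add_sub_cancel]
    rintro ⟨s, hs⟩
    have hsq : ((-1 : F) ^ m) * (-1) ^ m = 1 := by rw [← mul_pow]; simp
    have h1 : a ^ 2 - 4 * b = s * s := by
      rw [← hs, pow_succ]
      linear_combination (4 * b - a ^ 2) * hsq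
    have h4 : (4 : F) ≠ 0 := by rw [show (4 : F) = 2 * 2 by norm_num]; exact mul_ne_zero h2 h2
    exact one_ne_zero (hab ((-a + s) / 2) 1 (by field_simp; linear_combination -h1)).2
  · show Nat.card (Cfsg.isometryGroup F (Cfsg.quadFormMinus (m + 1 - 1) F a b)) = _
    rw [CfsgLib.ClassicalGroups.card_isometry_minus hab, hq, Nat.add_sub_cancel]

end Cfsg.Agent.S5978
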