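import Cfsg.Statements.S5979
import Cfsg.Agent.Lib.PrimeElusive.Tensor
import Cfsg.Agent.Lib.PrimeElusive.SymplGroups
import Cfsg.Agent.Lib.Maximal99.ConjTools
import Cfsg.Agent.Lib.Maximal99.OrderElt
import Cfsg.Agent.Lib.PrimeElusive.ExtraThree
-- import your own Cfsg.Agent.* helpers here

set_option autoImplicit false
open scoped MatrixGroups
open Cfsg

namespace Cfsg.Agent.S5979

open Matrix Module CfsgLib.PrimeElusive
open scoped Kronecker

variable {F : Type*} [Field F] {n a b : ℕ}

theorem conj_of_basis (e : Fin n ≃ Fin a × Fin b) (P : GL (Fin n) F) {x : GL (Fin n) F}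
    (hd : (x : Matrix (Fin n) (Fin n) F).det = 1)
    (hD : CfsgLib.ConjTools.DetSurj (Matrix.toLin' (x : Matrix (Fin n) (Fin n) F)))
    (B : Basis (Fin a × Fin b) F (Fin n → F)) (g : GL (Fin a) F) (h : GL (Fin b) F)
    (hB : ∀ k, (x : Matrix (Fin n) (Fin n) F) *ᵥ B k =
      ∑ k', ((g : Matrix (Fin a) (Fin a) F) ⊗ₖ (h : Matrix (Fin b) (Fin b) F)) k' k • B k') :
    ∃ Q ∈ Cfsg.Geo.specialLinear (Fin n) F, Q⁻¹ * x * Q ∈ Cfsg.Geo.tensorProductSubgroup a b e P := by
  classical
  set RK := Matrix.reindexAlgEquiv F F e.symm ((g : Matrix (Fin a) (Fin a) F) ⊗ₖ (h : Matrix (Fin b) (Fin b) F))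
    with hRK
  let L : (Fin n → F) ≃ₗ[F] (Fin n → F) := (Pi.basisFun F (Fin n)).equiv B e
  have hL : ∀ v, (x : Matrix (Fin n) (Fin n) F) *ᵥ L v = L (RK *ᵥ v) := by
    have : (Matrix.toLin' (x : Matrix (Fin n) (Fin n) F)).comp L.toLinearMap =
        L.toLinearMap.comp (Matrix.toLin' RK) := by
      refine (Pi.basisFun F (Fin n)).ext fun i => ?_
      have h1 : RK *ᵥ (Pi.single i 1 : Fin n → F) = ∑ k, RK k i • (Pi.basisFun F (Fin n)) k := by
        funext j; simp [Pi.single_apply]
      simp only [LinearMap.comp_apply, LinearEquiv.coe_coe, Matrix.toLin'_apply]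
      rw [show L (Pi.basisFun F (Fin n) i) = B (e i) from Basis.equiv_apply .., hB, Pi.basisFun_apply, h1, map_sum,
        ← Equiv.sum_comp e]
      refine Finset.sum_congr rfl fun k _ => ?_
      rw [map_smul, show L (Pi.basisFun F (Fin n) k) = B (e k) from Basis.equiv_apply ..]
      rfl
    exact fun v => LinearMap.congr_fun this v
  let G : GL (Fin n) F := ⟨LinearMap.toMatrix' L.toLinearMap, LinearMap.toMatrix' L.symm.toLinearMap,
    by rw [← LinearMap.toMatrix'_comp, LinearEquiv.comp_symm, LinearMap.toMatrix'_id],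
    by rw [← LinearMap.toMatrix'_comp, LinearEquiv.symm_comp, LinearMap.toMatrix'_id]⟩
  have hG : ∀ v, (G : Matrix (Fin n) (Fin n) F) *ᵥ v = L v := fun v => LinearMap.toMatrix'_mulVec L.toLinearMap v
  let k : GL (Fin a × Fin b) F := ⟨(g : Matrix (Fin a) (Fin a) F) ⊗ₖ (h : Matrix (Fin b) (Fin b) F),
    ((g⁻¹ : GL (Fin a) F) : Matrix (Fin a) (Fin a) F) ⊗ₖ ((h⁻¹ : GL (Fin b) F) : Matrix (Fin b) (Fin b) F),
    (Matrix.mul_kronecker_mul _ _ _ _).symm.trans (by simp), (Matrix.mul_kronecker_mul _ _ _ _).symm.trans (by simp)⟩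
  let K : GL (Fin n) F := Cfsg.Geo.glReindex e.symm k
  have hxG : x * G = G * K := by
    refine Units.ext (Matrix.ext_iff_mulVec.2 fun v => ?_)
    show ((x : Matrix (Fin n) (Fin n) F) * (G : Matrix (Fin n) (Fin n) F)) *ᵥ v =
      ((G : Matrix (Fin n) (Fin n) F) * RK) *ᵥ v
    rw [← Matrix.mulVec_mulVec, ← Matrix.mulVec_mulVec, hG, hG, hL]
  set g0 := G * P⁻¹ with hg0
  have hy : g0⁻¹ * x * g0 ∈ Cfsg.Geo.tensorProductSubgroup a b e P := by
    refine ⟨K, ⟨k, ⟨g, h, rfl⟩, rfl⟩, ?_⟩
    show P * K * P⁻¹ = _
    have e2 : g0⁻¹ * x * g0 = P * (G⁻¹ * (x * G)) * P⁻¹ := by rw [hg0]; group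
    rw [e2, hxG, inv_mul_cancel_left]
  let T0 : (Fin n → F) ≃ₗ[F] (Fin n → F) :=
    { Matrix.toLin' (g0 : Matrix (Fin n) (Fin n) F) with
      invFun := fun v => ((g0⁻¹ : GL (Fin n) F) : Matrix (Fin n) (Fin n) F) *ᵥ v
      left_inv := fun v => by simp
      right_inv := fun v => by simp }
  let X : Matrix.SpecialLinearGroup (Fin n) F := ⟨(x : Matrix (Fin n) (Fin n) F), hd⟩
  obtain ⟨Q, hQ⟩ := CfsgLib.ConjTools.exists_sl_conj X T0 hD
  refine ⟨Matrix.SpecialLinearGroup.toGL Q, MonoidHom.mem_ker.2 (Units.ext Q.2), ?_⟩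
  have e3 : (Matrix.SpecialLinearGroup.toGL Q)⁻¹ * x * Matrix.SpecialLinearGroup.toGL Q = g0⁻¹ * x * g0 := by
    rw [show x = Matrix.SpecialLinearGroup.toGL X from Units.ext rfl, ← map_inv, ← map_mul, ← map_mul]
    refine Units.ext (Matrix.ext_iff_mulVec.2 fun v => (hQ v).trans ?_)
    show _ = (((g0⁻¹ : GL (Fin n) F) : Matrix (Fin n) (Fin n) F) * (x : Matrix (Fin n) (Fin n) F) * (g0 : Matrix (Fin n) (Fin n) F)) *ᵥ v
    rw [← Matrix.mulVec_mulVec, ← Matrix.mulVec_mulVec]
    rfl
  rw [e3]
  exact hy

set_option maxHeartbeats 1000000 in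
/-- Elements of prime order of PSL_n(q) and the stabilizers of tensor decompositions with factors of different dimensions. Here `T = PSL_n(F)` for a field `F` with `q` elements and `n = a·b` with `2 ≤ a < b`; a tensor decomposition `F^n ≅ F^a ⊗ F^b` is given by a bijection `e` of index sets and a change of basis `P`, and `H` is the subgroup of matrices of determinant 1 in its stabilizer (the conjugate by `P` of the group of Kronecker products `g₁ ⊗ g₂`) — a subgroup of type GL_a(q) ⊗ GL_b(q) (maximality is not assumed); Ω is the set of cosets of `H` in `T`, so an element of `T` of prime order `r` (a matrix `x` of determinant 1 with `x^r` scalar, `x` not scalar) fixes a point of Ω exactly when some conjugate of `x` by a matrix of determinant 1 lies in `H`. Let `r` be a prime dividing the index of `H`. Then every element of `T` of order `r` fixes a point of Ω if and only if `r = 2`, `a = 2`, `q` is odd and `(q − 1)_2 ≤ (n)_2` (2-parts). -/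
theorem result {F : Type*} [Field F] [Fintype F] {p : ℕ} [Fact p.Prime] [CharP F p] {q : ℕ} (hq : Fintype.card F = q)
    (n a b : ℕ) (hab : n = a * b) (ha : 2 ≤ a) (hlt : a < b) (e : Fin n ≃ Fin a × Fin b) (P : GL (Fin n) F)
    (r : ℕ) [Fact r.Prime]
    (hΩ : r ∣ (Cfsg.Geo.tensorProductSubgroup a b e P).relIndex (Cfsg.Geo.specialLinear (Fin n) F)) :
    (∀ x ∈ Cfsg.Geo.specialLinear (Fin n) F, (∃ z : F, ((x ^ r : GL (Fin n) F) : Matrix (Fin n) (Fin n) F) = z • (1 : Matrix (Fin n) (Fin n) F)) →
      (∀ z : F, (x : Matrix (Fin n) (Fin n) F) ≠ z • (1 : Matrix (Fin n) (Fin n) F)) →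
      ∃ g ∈ Cfsg.Geo.specialLinear (Fin n) F, g⁻¹ * x * g ∈ Cfsg.Geo.tensorProductSubgroup a b e P) ↔
    (r = 2 ∧ a = 2 ∧ Odd q ∧ padicValNat 2 (q - 1) ≤ padicValNat 2 n) := by
  classical
  have hp := (Fact.out : p.Prime)
  have hr := (Fact.out : r.Prime)
  subst hab
  have hb3 : 3 ≤ b := by omega
  have hn6 : 6 ≤ a * b := le_trans (by norm_num) (Nat.mul_le_mul ha hb3)
  have hq1 : 1 < q := by rw [← hq]; exact Fintype.one_lt_card
  have hSL : ∀ g : GL (Fin (a * b)) F, g ∈ Cfsg.Geo.specialLinear (Fin (a * b)) F ↔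
      (g : Matrix (Fin (a * b)) (Fin (a * b)) F).det = 1 :=
    fun g => ⟨fun h => congrArg Units.val (MonoidHom.mem_ker.1 h), fun h => MonoidHom.mem_ker.2 (Units.ext h)⟩
  have hodd : Odd q ↔ (2 : F) ≠ 0 := by
    rw [← hq]
    refine ⟨fun h => Ring.two_ne_zero fun h2 => ?_, fun h => ?_⟩
    · have := FiniteField.even_card_iff_char_two.1 h2
      exact absurd h (Nat.not_odd_iff.2 this)
    · exact Nat.odd_iff.2 (FiniteField.odd_card_of_char_ne_two fun hc => h (by
        have : CharP F 2 := hc ▸ ringChar.charP F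
        exact_mod_cast CharP.cast_eq_zero F 2))
  constructor
  · intro hall
    -- a conjugate of a test element lies in `H`
    have key : ∀ x : GL (Fin (a * b)) F, (x : Matrix (Fin (a * b)) (Fin (a * b)) F).det = 1 →
        (∃ z : F, ((x ^ r : GL (Fin (a * b)) F) : Matrix (Fin (a * b)) (Fin (a * b)) F) = z • 1) →
        (∀ z : F, (x : Matrix (Fin (a * b)) (Fin (a * b)) F) ≠ z • 1) →
        (∀ c : F, b ≤ ((x : Matrix (Fin (a * b)) (Fin (a * b)) F) - c • 1).rank) ∨
          (∀ c : F, a ∣ ((x : Matrix (Fin (a * b)) (Fin (a * b)) F) - c • 1).rank) := fun x hd hz hns => by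
      obtain ⟨g, -, hg⟩ := hall x ((hSL x).2 hd) hz hns
      rcases Tensor.rank_cases hg with h | h
      · exact Or.inl fun c => by rw [← Tensor.rank_conj_sub g]; exact h c
      · exact Or.inr fun c => by rw [← Tensor.rank_conj_sub g]; exact h c
    have hna : ¬ a ∣ 1 := fun h => by have := Nat.le_of_dvd one_pos h; omega
    -- diagonal test elements
    have diagTest : ∀ d : Fin (a * b) → F, ∏ i, d i = 1 → (∀ i j, d i ^ r = d j ^ r) → (∃ i j, d i ≠ d j) →
        (∀ c : F, b ≤ Fintype.card {i // d i ≠ c}) ∨ (∀ c : F, a ∣ Fintype.card {i // d i ≠ c}) := by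
      intro d hd hdr hne
      have hd0 : ∀ i, d i ≠ 0 := fun i h => by
        rw [Finset.prod_eq_zero (Finset.mem_univ i) h] at hd; exact zero_ne_one hd
      let x : GL (Fin (a * b)) F := Matrix.GeneralLinearGroup.mkOfDetNeZero (Matrix.diagonal d)
        (by rw [Matrix.det_diagonal, hd]; exact one_ne_zero)
      obtain ⟨i₀, j₀, hij⟩ := hne
      have hrk : ∀ c : F, ((x : Matrix (Fin (a * b)) (Fin (a * b)) F) - c • 1).rank =
          Fintype.card {i // d i ≠ c} := fun c => by
        rw [show (x : Matrix (Fin (a * b)) (Fin (a * b)) F) = Matrix.diagonal d from rfl, Matrix.smul_one_eq_diagonal,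
          Matrix.diagonal_sub, Matrix.rank_diagonal]
        exact Fintype.card_congr (Equiv.subtypeEquivRight fun i => sub_ne_zero)
      have h := key x (by show (Matrix.diagonal d).det = 1; rw [Matrix.det_diagonal, hd]) ⟨d i₀ ^ r, by
          rw [Units.val_pow_eq_pow_val]
          show Matrix.diagonal d ^ r = _
          rw [Matrix.diagonal_pow, Matrix.smul_one_eq_diagonal]
          exact congrArg _ (funext fun i => hdr i i₀)⟩ (fun z hz => hij (by
          have h1 := congrFun (congrFun hz i₀) i₀
          have h2 := congrFun (congrFun hz j₀) j₀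
          simp [x] at h1 h2
          rw [h1, h2]))
      simp only [hrk] at h
      exact h
    by_cases hrp : r = p
    · -- a transvection
      subst hrp
      exfalso
      have : Nonempty (Fin (a * b)) := ⟨⟨0, by omega⟩⟩
      let u : Fin (a * b) → F := Pi.single ⟨0, by omega⟩ 1
      let w : Fin (a * b) → F := Pi.single ⟨1, by omega⟩ 1
      obtain ⟨x, hxv, hxr, hdet, hns⟩ := SymplType.exists_transvection r (u := u) (w := w)
        (by simp [u, w]) (by simp [u]) (by simp [w])
      have hxv' : (x : Matrix (Fin (a * b)) (Fin (a * b)) F) - (1 : F) • 1 = vecMulVec u w := by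
        rw [one_smul, show (x : Matrix (Fin (a * b)) (Fin (a * b)) F) = _ from hxv, add_sub_cancel_left]
      have h1 : (vecMulVec u w).rank ≤ 1 := Matrix.rank_vecMulVec_le _ _
      rcases key x hdet ⟨1, by rw [hxr, Units.val_one, one_smul]⟩ (fun z hz => hns ⟨z, hz⟩) with h | h
      · have := h 1
        rw [hxv'] at this
        omega
      · have := h 1
        rw [hxv'] at this
        have h0 : (vecMulVec u w).rank = 0 := by
          rcases (show (vecMulVec u w).rank = 0 ∨ (vecMulVec u w).rank = 1 by omega) with e | e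
          · exact e
          · rw [e] at this; exact absurd this hna
        have h00 := congrFun (congrFun (Tensor.eq_zero_of_rank h0) ⟨0, by omega⟩) ⟨1, by omega⟩
        simp [u, w, vecMulVec] at h00
    have hrF : (r : F) ≠ 0 := CfsgLib.OrderR.cast_ne_zero hrp
    by_cases hr2 : r = 2
    · subst hr2
      have h2 : (2 : F) ≠ 0 := by exact_mod_cast hrF
      have hne : (-1 : F) ≠ 1 := fun h => h2 (by linear_combination -h)
      have ha2 : a = 2 := by
        by_contra ha2
        let d : Fin (a * b) → F := fun i => if (i : ℕ) < 2 then -1 else 1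
        have hc : Fintype.card {i : Fin (a * b) // d i ≠ 1} = 2 := by
          rw [Fintype.card_congr (Equiv.subtypeEquivRight (q := fun i : Fin (a * b) => (i : ℕ) < 2) fun i => by
            simp only [d]; split_ifs with h <;> simp [h, hne]), Fintype.card_fin_lt_of_le (by omega)]
        have hprod : ∏ i, d i = 1 := by
          simp only [d]
          rw [Finset.prod_ite, Finset.prod_const_one, mul_one, Finset.prod_const,
            show (Finset.univ.filter fun i : Fin (a * b) => (i : ℕ) < 2).card = 2 by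
              rw [← Fintype.card_subtype, Fintype.card_fin_lt_of_le (by omega)], neg_one_sq]
        rcases diagTest d hprod (fun i j => by simp only [d]; split_ifs <;> simp)
            ⟨⟨0, by omega⟩, ⟨2, by omega⟩, by simp [d, hne]⟩ with h | h
        · have := h 1; omega
        · have := Nat.le_of_dvd two_pos (hc ▸ h 1); omega
      refine ⟨rfl, ha2, hodd.2 h2, ?_⟩
      by_contra hv
      push Not at hv
      obtain ⟨c, hc⟩ := (CfsgLib.ConjTools.exists_pow_eq_neg_one_iff hq h2 (by omega)).2 hv
      have hc0 : c ≠ 0 := fun h => by rw [h, zero_pow (by omega)] at hc; simp at hc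
      have hcne : -c ≠ c := fun h => mul_ne_zero h2 hc0 (by linear_combination -h)
      let d : Fin (a * b) → F := fun i => if (i : ℕ) < 1 then -c else c
      have hd1 : Fintype.card {i : Fin (a * b) // d i ≠ c} = 1 := by
        rw [Fintype.card_congr (Equiv.subtypeEquivRight (q := fun i : Fin (a * b) => (i : ℕ) < 1) fun i => by
          simp only [d]; split_ifs with h <;> simp [h, hcne]), Fintype.card_fin_lt_of_le (by omega)]
      have hprod : ∏ i, d i = 1 := by
        simp only [d]
        rw [Finset.prod_ite, Finset.prod_const, Finset.prod_const,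
          show (Finset.univ.filter fun i : Fin (a * b) => (i : ℕ) < 1).card = 1 by
            rw [← Fintype.card_subtype, Fintype.card_fin_lt_of_le (by omega)],
          show (Finset.univ.filter fun i : Fin (a * b) => ¬ (i : ℕ) < 1).card = a * b - 1 by
            rw [← Fintype.card_subtype, Fintype.card_subtype_compl, Fintype.card_fin_lt_of_le (by omega),
              Fintype.card_fin],
          pow_one, neg_mul, ← pow_succ', Nat.sub_add_cancel (by omega), hc, neg_neg]
      rcases diagTest d hprod (fun i j => by simp only [d]; split_ifs <;> simp)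
          ⟨⟨0, by omega⟩, ⟨1, by omega⟩, by simp [d, hcne]⟩ with h | h
      · have := h c; omega
      · exact hna (hd1 ▸ h c)
    exfalso
    have hcast : (q : ZMod r) ≠ 0 := CfsgLib.OrderR.natCast_ne_zero_of_card hq hrp
    have hi0 : 0 < orderOf (q : ZMod r) :=
      orderOf_pos_iff.2 (isOfFinOrder_iff_pow_eq_one.2
        ⟨r - 1, Nat.sub_pos_of_lt hr.one_lt, ZMod.pow_card_sub_one_eq_one hcast⟩)
    by_cases hdvd : r ∣ q - 1
    · obtain ⟨v, hv⟩ := exists_prime_orderOf_dvd_card' (G := Fˣ) r
        (by rw [Nat.card_units, Nat.card_eq_fintype_card, hq]; exact hdvd)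
      set w : F := (v : F) with hw
      have hwr : w ^ r = 1 := by rw [hw, ← Units.val_pow_eq_pow_val, ← hv, pow_orderOf_eq_one, Units.val_one]
      have hw1 : w ≠ 1 := fun h => by
        rw [show v = 1 from Units.ext h, orderOf_one] at hv
        exact hr.one_lt.ne hv
      have hw0 : w ≠ 0 := v.ne_zero
      have hw2 : w⁻¹ ≠ w := fun h => by
        have hv2 : v ^ 2 = 1 := Units.ext (by
          rw [Units.val_pow_eq_pow_val, Units.val_one, ← hw, pow_two]
          nth_rw 1 [← h]
          exact inv_mul_cancel₀ hw0)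
        have := Nat.le_of_dvd two_pos (hv ▸ orderOf_dvd_of_pow_eq_one hv2)
        have := hr.two_le
        omega
      let i0 : Fin (a * b) := ⟨0, by omega⟩
      let i1 : Fin (a * b) := ⟨1, by omega⟩
      have h01 : i0 ≠ i1 := by simp [i0, i1]
      let d : Fin (a * b) → F := fun i => if i = i0 then w else if i = i1 then w⁻¹ else 1
      have hc1 : Fintype.card {i : Fin (a * b) // d i ≠ 1} = 2 := by
        rw [Fintype.card_subtype, show (Finset.univ.filter fun i => d i ≠ 1) = {i0, i1} by
          ext i; simp [d]; split_ifs <;> simp_all, Finset.card_pair h01]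
      have hcw : Fintype.card {i : Fin (a * b) // d i ≠ w} = a * b - 1 := by
        rw [Fintype.card_subtype, show (Finset.univ.filter fun i => d i ≠ w) = Finset.univ.erase i0 by
          ext i
          simp only [Finset.mem_filter, Finset.mem_univ, true_and, Finset.mem_erase, and_true]
          by_cases hj0 : i = i0
          · subst hj0; simp [d]
          by_cases hj1 : i = i1
          · subst hj1; simp [d, h01.symm, hw2]
          simp [d, hj0, hj1, Ne.symm hw1], Finset.card_erase_of_mem (Finset.mem_univ _),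
          Finset.card_univ, Fintype.card_fin]
      have hprod : ∏ i, d i = 1 := by
        rw [← Finset.prod_subset (Finset.subset_univ ({i0, i1} : Finset (Fin (a * b)))) fun i _ hi => by
          simp at hi; simp [d, hi.1, hi.2], Finset.prod_pair h01]
        simp [d, h01.symm, hw0]
      rcases diagTest d hprod (fun i j => by simp only [d]; split_ifs <;> simp [hwr, inv_pow])
          ⟨i0, ⟨2, by omega⟩, by simp [d, i0, i1, hw1]⟩ with h | h
      · have := h 1; omega
      · have h3 := h w
        rw [hcw] at h3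
        exact hna ((Nat.dvd_add_right h3).1 (by rw [Nat.sub_add_cancel (by omega)]; exact dvd_mul_right a b))
    · set i := orderOf (q : ZMod r) with hi
      have hi1 : 1 < i := by
        by_contra h
        exact hdvd (by simpa using (CfsgLib.OrderR.orderOf_dvd_iff (m := 1) (by omega)).1 (by
          rw [← hi, show i = 1 by omega]))
      have hin : i ≤ a * b := by
        have hG : r ∣ Nat.card (GL (Fin (a * b)) F) :=
          (hΩ.trans (Subgroup.relIndex_dvd_card _ _)).trans (Subgroup.card_subgroup_dvd_card _)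
        rw [Matrix.card_GL_field, hq] at hG
        obtain ⟨j, -, hj⟩ := (Prime.dvd_finsetProd_iff (Nat.prime_iff.1 hr) _).1 hG
        have hj' : r ∣ q ^ (j : ℕ) * (q ^ (a * b - j) - 1) := by
          rwa [Nat.mul_sub, mul_one, ← pow_add, Nat.add_sub_cancel' j.2.le]
        rcases hr.dvd_mul.1 hj' with h | h
        · exact absurd ((ZMod.natCast_eq_zero_iff q r).2 (hr.dvd_of_dvd_pow h)) hcast
        · have := Nat.le_of_dvd (by omega) ((CfsgLib.OrderR.orderOf_dvd_iff (by omega)).2 h)
          omega
      obtain ⟨X, hX, hker⟩ := CfsgLib.OrderElt.exists_sl_move hq hi hi1 hin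
      set x := Matrix.SpecialLinearGroup.toGL X
      have hxr : x ^ r = 1 := Units.ext (by
        rw [Units.val_pow_eq_pow_val, Units.val_one]
        show (X : Matrix (Fin (a * b)) (Fin (a * b)) F) ^ r = 1
        exact hX)
      have hrk : ((x : Matrix (Fin (a * b)) (Fin (a * b)) F) - 1).rank = i := by
        have h := LinearMap.finrank_range_add_finrank_ker
          (Matrix.toLinAlgEquiv' (X : Matrix (Fin (a * b)) (Fin (a * b)) F) - 1 :
            Module.End F (Fin (a * b) → F))
        rw [hker, Module.finrank_fin_fun] at h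
        rw [Matrix.rank]
        have e1 : Matrix.mulVecLin ((x : Matrix (Fin (a * b)) (Fin (a * b)) F) - 1) =
            Matrix.toLinAlgEquiv' (X : Matrix (Fin (a * b)) (Fin (a * b)) F) - 1 := LinearMap.ext fun v => by
          simp [x, Matrix.toLinAlgEquiv'_apply, Matrix.sub_mulVec]
        rw [e1]
        omega
      have hns : ∀ z : F, (x : Matrix (Fin (a * b)) (Fin (a * b)) F) ≠ z • 1 := by
        intro z hz
        have hzr : z ^ r = 1 := by
          have h := congrArg (fun g : GL (Fin (a * b)) F => (g : Matrix (Fin (a * b)) (Fin (a * b)) F)) hxr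
          simp only [Units.val_pow_eq_pow_val, hz, _root_.smul_pow, one_pow, Units.val_one] at h
          simpa using congrFun (congrFun h ⟨0, by omega⟩) ⟨0, by omega⟩
        have hz0 : z ≠ 0 := fun h => by simp [h, zero_pow hr.ne_zero] at hzr
        have hz1 : z = 1 := by
          have hg : Nat.gcd r (q - 1) = 1 := hr.coprime_iff_not_dvd.2 hdvd
          have := pow_gcd_eq_one.2 ⟨hzr, hq ▸ FiniteField.pow_card_sub_one_eq_one z hz0⟩
          rwa [hg, pow_one] at this
        rw [hz, hz1, one_smul, sub_self, Matrix.rank_zero] at hrk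
        omega
      obtain ⟨g, -, hg⟩ := hall x ((hSL x).2 X.2) ⟨1, by rw [hxr, Units.val_one, one_smul]⟩ hns
      refine Tensor.not_mem_of_move hq hrF ((hr.coprime_iff_not_dvd.2 hdvd).symm) ha hlt ?_ hi0 ?_ hg
      · rw [show g⁻¹ * x * g = MulAut.conj g⁻¹ x by simp, ← map_pow, hxr, map_one]
      · rw [← one_smul F (1 : Matrix (Fin (a * b)) (Fin (a * b)) F), Tensor.rank_conj_sub, one_smul]
        exact hrk
  · rintro ⟨rfl, rfl, hqodd, hv⟩ x hx ⟨z, hz⟩ hns
    have h2 : (2 : F) ≠ 0 := hodd.1 hqodd
    have hdx := (hSL x).1 hx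
    set T := Matrix.toLin' (x : Matrix (Fin (2 * b)) (Fin (2 * b)) F) with hTdef
    have hT : ∀ v, T (T v) = z • v := fun v => by
      rw [hTdef, Matrix.toLin'_apply, Matrix.toLin'_apply, Matrix.mulVec_mulVec, ← pow_two,
        ← Units.val_pow_eq_pow_val, hz, Matrix.smul_mulVec, Matrix.one_mulVec]
    have : NeZero (2 * b) := ⟨by omega⟩
    have hz0 : z ≠ 0 := fun h => (x ^ 2).isUnit.ne_zero (by rw [hz, h, zero_smul])
    have hneg : ∀ c : F, c ^ (2 * b) ≠ -1 := fun c hc => by
      have := (CfsgLib.ConjTools.exists_pow_eq_neg_one_iff hq h2 (by omega)).1 ⟨c, hc⟩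
      omega
    suffices h : ∃ Q ∈ Cfsg.Geo.specialLinear (Fin (2 * b)) F,
        Q⁻¹ * x * Q ∈ Cfsg.Geo.tensorProductSubgroup 2 b e P from h
    by_cases hsq : IsSquare z
    · obtain ⟨c, rfl⟩ := hsq
      have hc0 : c ≠ 0 := fun h => hz0 (by rw [h, mul_zero])
      have hcne : -c ≠ c := fun h => mul_ne_zero h2 hc0 (by linear_combination -h)
      obtain ⟨l, hb0⟩ := CfsgLib.SquareScalar.hasPairBasis_of_square h2 T c hc0 hT
      have hl : l = 2 * b := by
        obtain ⟨B, -⟩ := hb0
        have h := Module.finrank_eq_card_basis B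
        simp [Module.finrank_fin_fun] at h
        exact h.symm
      subst hl
      have hD : CfsgLib.ConjTools.DetSurj T := CfsgLib.ConjTools.detSurj hb0 hz0 (by omega) (Or.inl (by omega))
      obtain ⟨B, μ, -, -, hμ, hμ2⟩ := hb0
      let B' : Basis (Fin (2 * b)) F (Fin (2 * b) → F) := B.reindex (Equiv.emptySum _ _)
      have hB' : ∀ j, T (B' j) = μ j • B' j := fun j => by simp [B', hμ]
      have hdet : ∏ j, μ j = 1 := by
        have hM : LinearMap.toMatrix B' B' T = Matrix.diagonal μ := by
          ext i j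
          rw [LinearMap.toMatrix_apply, hB', map_smul, Basis.repr_self, Finsupp.smul_single, smul_eq_mul, mul_one,
            Matrix.diagonal_apply, Finsupp.single_apply]
          rcases eq_or_ne j i with rfl | h
          · simp
          · simp [h, h.symm]
        rw [← Matrix.det_diagonal, ← hM, LinearMap.det_toMatrix, hTdef, LinearMap.det_toLin', hdx]
      have hval : ∀ j, μ j = c ∨ μ j = -c := fun j => mul_self_eq_mul_self_iff.1 (hμ2 j)
      set m := Fintype.card {j // μ j = -c} with hm
      have hm_le : m ≤ 2 * b := (Fintype.card_subtype_le _).trans_eq (Fintype.card_fin _)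
      have hmeven : Even m := by
        by_contra hmo
        refine hneg c ?_
        have e1 : ∏ j, μ j = c ^ (2 * b) * (-1) ^ m := by
          rw [Finset.prod_congr rfl fun j _ => show μ j = c * if μ j = -c then -1 else 1 by
              rcases hval j with h | h <;> simp [h, hcne.symm],
            Finset.prod_mul_distrib, Finset.prod_const, Finset.card_univ, Fintype.card_fin, Finset.prod_ite,
            Finset.prod_const, Finset.prod_const_one, mul_one, hm, Fintype.card_subtype]
        rw [hdet, Odd.neg_one_pow (Nat.not_even_iff_odd.1 hmo)] at e1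
        linear_combination e1
      obtain ⟨m', hm'⟩ := hmeven
      let f : Fin b → F := fun j => if (j : ℕ) < m' then -c else c
      have hfc : ∀ k : Fin 2 × Fin b, f k.2 = -c ↔ (k.2 : ℕ) < m' := fun k => by
        simp only [f]; split_ifs with h <;> simp [h, hcne.symm]
      have hcard : Fintype.card {k : Fin 2 × Fin b // f k.2 = -c} = m := by
        rw [Fintype.card_congr ((Equiv.subtypeEquivRight fun k => hfc k).trans
          { toFun := fun k => (k.1.1, (⟨k.1.2, k.2⟩ : {j : Fin b // (j : ℕ) < m'}))
            invFun := fun k => ⟨(k.1, k.2.1), k.2.2⟩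
            left_inv := fun k => rfl
            right_inv := fun k => rfl }), Fintype.card_prod, Fintype.card_fin_lt_of_le (by omega), Fintype.card_fin]
        omega
      let e1 := Fintype.equivOfCardEq (α := {k : Fin 2 × Fin b // f k.2 = -c}) (β := {j // μ j = -c}) hcard
      let e2 := Fintype.equivOfCardEq (α := {k : Fin 2 × Fin b // ¬ f k.2 = -c}) (β := {j // ¬ μ j = -c}) (by
        rw [Fintype.card_subtype_compl, Fintype.card_subtype_compl, hcard, ← hm, Fintype.card_prod, Fintype.card_fin,
          Fintype.card_fin, Fintype.card_fin])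
      let σ : Fin 2 × Fin b ≃ Fin (2 * b) :=
        ((Equiv.sumCompl _).symm.trans (Equiv.sumCongr e1 e2)).trans (Equiv.sumCompl _)
      have hσ : ∀ k, μ (σ k) = f k.2 := by
        intro k
        by_cases h : f k.2 = -c
        · have e : σ k = (e1 ⟨k, h⟩).1 := by simp [σ, Equiv.sumCompl, h]
          rw [e, h]; exact (e1 ⟨k, h⟩).2
        · have e : σ k = (e2 ⟨k, h⟩).1 := by simp [σ, Equiv.sumCompl, h]
          rw [e, (hval _).resolve_right (e2 ⟨k, h⟩).2]
          by_contra hne
          simp only [f] at h hne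
          split_ifs at h hne <;> simp_all
      let hh : GL (Fin b) F := Matrix.GeneralLinearGroup.mkOfDetNeZero (Matrix.diagonal f) (by
        rw [Matrix.det_diagonal]
        exact Finset.prod_ne_zero_iff.2 fun j _ => by simp only [f]; split_ifs <;> simp [hc0])
      refine conj_of_basis e P hdx hD (B'.reindex σ.symm) 1 hh fun k => ?_
      rw [Basis.reindex_apply, Equiv.symm_symm, ← Matrix.toLin'_apply, ← hTdef, hB', hσ,
        Finset.sum_eq_single k (fun k' _ hk' => ?_) (by simp)]
      · simp [hh]
      · obtain ⟨u, v⟩ := k'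
        obtain ⟨u', v'⟩ := k
        by_cases hu : u = u'
        · have hvv : v ≠ v' := fun h => hk' (by rw [hu, h])
          simp [hh, hvv]
        · simp [hh, hu]
    · obtain ⟨s, hb0⟩ := CfsgLib.SquareScalar.hasPairBasis_of_not_square T z hT hsq
      have hs : s = b := by
        obtain ⟨B, -⟩ := hb0
        have h := Module.finrank_eq_card_basis B
        simp [Module.finrank_fin_fun] at h
        omega
      subst s
      have hD : CfsgLib.ConjTools.DetSurj T := CfsgLib.ConjTools.detSurj hb0 hz0 (by omega) (Or.inr (Or.inr hsq))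
      obtain ⟨B, μ, h1, h1', -, -⟩ := hb0
      let σ : (Fin b × Bool) ⊕ Fin 0 ≃ Fin 2 × Fin b :=
        (Equiv.sumEmpty _ _).trans ((Equiv.prodComm _ _).trans (Equiv.prodCongr finTwoEquiv.symm (Equiv.refl _)))
      let g : GL (Fin 2) F := Matrix.GeneralLinearGroup.mkOfDetNeZero !![0, z; 1, 0]
        (by simp [Matrix.det_fin_two, hz0])
      refine conj_of_basis e P hdx hD (B.reindex σ) g 1 ?_
      rintro ⟨u, j⟩
      rw [← Matrix.toLin'_apply, ← hTdef, Fintype.sum_prod_type, Fin.sum_univ_two]
      fin_cases u <;> simp [g, σ, finTwoEquiv, Matrix.one_apply, h1, h1']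

end Cfsg.Agent.S5979
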