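import Cfsg.Statements.S5980
import Cfsg.Agent.Lib.TensorSympOrth.Factors
import Cfsg.Agent.Lib.Maximal99.SympWitness
import Cfsg.Agent.Lib.Maximal.TensorTools
import Cfsg.Agent.Lib.Sp.InvolutionClasses
import Cfsg.Agent.Lib.Sp.Simple

set_option autoImplicit false
open scoped MatrixGroups
open Cfsg

namespace Cfsg.Agent.S5980

open Matrix Module CfsgLib.Sp CfsgLib.PrimeElusive CfsgLib.TensorSympOrth CfsgLib.Maximal.TensorTools
open scoped Kronecker

variable {F : Type*} [Field F] {a b d : ℕ}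

/-- The element given by a matrix in tensor coordinates. -/
def psi (e : (Fin d ⊕ Fin d) ≃ Fin a × Fin b) (P : GL (Fin d ⊕ Fin d) F) :
    GL (Fin a × Fin b) F →* GL (Fin d ⊕ Fin d) F :=
  (MulAut.conj P).toMonoidHom.comp (Cfsg.Geo.glReindex e.symm).toMonoidHom

theorem psi_injective (e : (Fin d ⊕ Fin d) ≃ Fin a × Fin b) (P : GL (Fin d ⊕ Fin d) F) :
    Function.Injective (psi e P) :=
  (MulAut.conj P).injective.comp (Cfsg.Geo.glReindex e.symm).injective

theorem psi_val (e : (Fin d ⊕ Fin d) ≃ Fin a × Fin b) (P : GL (Fin d ⊕ Fin d) F) (k : GL (Fin a × Fin b) F) :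
    (psi e P k : Matrix (Fin d ⊕ Fin d) (Fin d ⊕ Fin d) F) = (P : Matrix (Fin d ⊕ Fin d) (Fin d ⊕ Fin d) F) *
      Matrix.reindex e.symm e.symm (k : Matrix (Fin a × Fin b) (Fin a × Fin b) F) *
      ((P⁻¹ : GL (Fin d ⊕ Fin d) F) : Matrix (Fin d ⊕ Fin d) (Fin d ⊕ Fin d) F) := rfl

theorem psi_mem (e : (Fin d ⊕ Fin d) ≃ Fin a × Fin b) (P : GL (Fin d ⊕ Fin d) F) {k : GL (Fin a × Fin b) F}
    {g : GL (Fin a) F} {h : GL (Fin b) F}
    (hk : (k : Matrix (Fin a × Fin b) (Fin a × Fin b) F) = (g : Matrix (Fin a) (Fin a) F) ⊗ₖ (h : Matrix (Fin b) (Fin b) F)) :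
    psi e P k ∈ Cfsg.Geo.tensorProductSubgroup a b e P :=
  ⟨Cfsg.Geo.glReindex e.symm k, ⟨k, ⟨g, h, hk⟩, rfl⟩, rfl⟩

theorem mem_exists_psi {e : (Fin d ⊕ Fin d) ≃ Fin a × Fin b} {P y : GL (Fin d ⊕ Fin d) F}
    (hy : y ∈ Cfsg.Geo.tensorProductSubgroup a b e P) : ∃ (k : GL (Fin a × Fin b) F) (g : GL (Fin a) F) (h : GL (Fin b) F),
      y = psi e P k ∧
      (k : Matrix (Fin a × Fin b) (Fin a × Fin b) F) = (g : Matrix (Fin a) (Fin a) F) ⊗ₖ (h : Matrix (Fin b) (Fin b) F) := by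
  obtain ⟨_, ⟨k, ⟨g, h, hk⟩, rfl⟩, rfl⟩ := hy
  exact ⟨k, g, h, rfl, hk⟩

theorem gram_det {m : ℕ} {f : (Fin m → F) → (Fin m → F) → F} (hb : Cfsg.Geo.IsBilinearForm f)
    (hnd : Cfsg.Geo.IsNondegenerateForm f) : IsUnit (Cfsg.Geo.gramMatrix f).det := by
  rw [isUnit_iff_ne_zero]
  intro h0
  obtain ⟨v, hv, hv0⟩ := Matrix.exists_mulVec_eq_zero_iff.2 h0
  obtain ⟨⟨u, hu⟩, -⟩ := hnd v hv
  refine hu ?_
  rw [bilinear_expand hb]
  refine Finset.sum_eq_zero fun i _ => ?_
  simp only [mul_assoc]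
  rw [← Finset.mul_sum]
  have := congrFun hv0 i
  simp only [Matrix.mulVec, dotProduct, Pi.zero_apply] at this
  rw [this, mul_zero]

/-- Membership of the symplectic group in tensor coordinates. -/
theorem psi_mem_spGL_iff {e : (Fin d ⊕ Fin d) ≃ Fin a × Fin b} {P : GL (Fin d ⊕ Fin d) F}
    {f₁ : (Fin a → F) → (Fin a → F) → F} {f₂ : (Fin b → F) → (Fin b → F) → F}
    (hS : Cfsg.Geo.IsTensorFormStructure id (Cfsg.sympForm d F) f₁ f₂ e P) (k : GL (Fin a × Fin b) F) :
    psi e P k ∈ Cfsg.spGL d F ↔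
      (k : Matrix (Fin a × Fin b) (Fin a × Fin b) F)ᵀ * (Cfsg.Geo.gramMatrix f₁ ⊗ₖ Cfsg.Geo.gramMatrix f₂) *
        (k : Matrix (Fin a × Fin b) (Fin a × Fin b) F) = Cfsg.Geo.gramMatrix f₁ ⊗ₖ Cfsg.Geo.gramMatrix f₂ := by
  obtain ⟨c, hc, hf⟩ := hS
  set G := Cfsg.Geo.gramMatrix f₁ ⊗ₖ Cfsg.Geo.gramMatrix f₂
  set K : Matrix (Fin a × Fin b) (Fin a × Fin b) F := ↑k
  have hform : ∀ x y, Cfsg.Geo.formOfGram id G x y = x ⬝ᵥ (G *ᵥ y) := fun x y => by
    simp [Cfsg.Geo.formOfGram, dotProduct, Matrix.mulVec, Finset.mul_sum, mul_assoc]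
  have hf' : ∀ x y, Cfsg.sympForm d F (coord e P x) (coord e P y) = c * (x ⬝ᵥ (G *ᵥ y)) := fun x y => by
    rw [coord_apply, coord_apply, hf, hform]
  have hact : ∀ x, (psi e P k : Matrix (Fin d ⊕ Fin d) (Fin d ⊕ Fin d) F) *ᵥ coord e P x = coord e P (K *ᵥ x) :=
    fun x => conj_reindex_mulVec e P k x
  have hKG : ∀ x y, (K *ᵥ x) ⬝ᵥ (G *ᵥ (K *ᵥ y)) = x ⬝ᵥ ((Kᵀ * G * K) *ᵥ y) := fun x y => by
    rw [← Matrix.mulVec_mulVec, ← Matrix.mulVec_mulVec, Matrix.dotProduct_mulVec x Kᵀ, Matrix.vecMul_transpose]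
  constructor
  · intro h
    ext i j
    have h1 := h (coord e P (Pi.single i 1)) (coord e P (Pi.single j 1))
    simp only [glToMat, Units.coeHom_apply] at h1
    rw [hact, hact, hf', hf', hKG] at h1
    simpa using mul_left_cancel₀ hc h1
  · intro h u v
    obtain ⟨x, rfl⟩ := (coord e P).surjective u
    obtain ⟨y, rfl⟩ := (coord e P).surjective v
    show Cfsg.sympForm d F ((psi e P k : Matrix (Fin d ⊕ Fin d) (Fin d ⊕ Fin d) F) *ᵥ _)
      ((psi e P k : Matrix (Fin d ⊕ Fin d) (Fin d ⊕ Fin d) F) *ᵥ _) = _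
    rw [hact, hact, hf', hf', hKG, h]

/-- An orthogonal change of coordinates. -/
theorem exists_diag (h2 : (2 : F) ≠ 0) {f : (Fin b → F) → (Fin b → F) → F} (hf : Cfsg.Geo.IsSymmetricForm f) :
    ∃ M δ, IsUnit M.det ∧ Mᵀ * Cfsg.Geo.gramMatrix f * M = Matrix.diagonal δ := by
  classical
  have : Invertible (2 : F) := invertibleOfNonzero h2
  let B : LinearMap.BilinForm F (Fin b → F) := Matrix.toBilin' (Cfsg.Geo.gramMatrix f)
  obtain ⟨v, hv⟩ := LinearMap.BilinForm.exists_orthogonal_basis (B := B) ⟨fun x y => by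
    simp only [RingHom.id_apply]
    show B x y = B y x
    have hB : ∀ x y, B x y = f x y := fun x y => by
      rw [bilinear_expand hf.bilinear, Matrix.toBilin'_apply]
    rw [hB, hB, hf.symm]⟩
  let w := v.reindex (finCongr (Module.finrank_fin_fun F))
  have ho : ∀ i j, i ≠ j → B (w i) (w j) = 0 := fun i j hij => by
    simp only [w, Module.Basis.reindex_apply]
    exact hv (fun h => hij (by simpa using h))
  refine ⟨Matrix.of fun i j => w j i, fun j => B (w j) (w j), ?_, ?_⟩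
  · have h := (Pi.basisFun F (Fin b)).toMatrix_mul_toMatrix_flip w
    refine (Matrix.isUnit_iff_isUnit_det _).1 (IsUnit.of_mul_eq_one (w.toMatrix (Pi.basisFun F (Fin b))) ?_)
    rw [← h]
    congr 1
  · ext i j
    have e1 : ((Matrix.of fun i j => w j i)ᵀ * Cfsg.Geo.gramMatrix f * Matrix.of fun i j => w j i) i j =
        B (w i) (w j) := by
      simp [B, Matrix.toBilin'_apply', Matrix.mul_apply, Matrix.mulVec, dotProduct, Finset.mul_sum, Finset.sum_mul,
        mul_assoc]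
      rw [Finset.sum_comm]
    rw [e1]
    rcases eq_or_ne i j with rfl | hij
    · simp
    · rw [Matrix.diagonal_apply_ne _ hij, ho i j hij]

theorem scalar_pair (hd : 0 < d) {M : Matrix (Fin d ⊕ Fin d) (Fin d ⊕ Fin d) F} {z : F} (hM : M = z • 1)
    (h : ∀ u v, Cfsg.sympForm d F (M *ᵥ u) (M *ᵥ v) = Cfsg.sympForm d F u v) : z * z = 1 := by
  have h1 := h (Pi.single (Sum.inr ⟨0, hd⟩) 1) (Pi.single (Sum.inl ⟨0, hd⟩) 1)
  rw [hM, Matrix.smul_mulVec, Matrix.one_mulVec, Matrix.smul_mulVec, Matrix.one_mulVec, sympForm_eq_sum,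
    sympForm_eq_sum, Finset.sum_eq_single ⟨0, hd⟩ (fun i _ hi => by simp [hi]) (by simp),
    Finset.sum_eq_single ⟨0, hd⟩ (fun i _ hi => by simp [hi]) (by simp)] at h1
  simpa using h1

theorem signs_card (β : ℕ) (hβ : β ≤ b) (h2 : (2 : F) ≠ 0) :
    (Matrix.diagonal (fun j : Fin b => if (j : ℕ) < β then (-1 : F) else 1) - 1).rank = β := by
  classical
  rw [← Matrix.diagonal_one, Matrix.diagonal_sub, Matrix.rank_diagonal]
  refine (Fintype.card_congr (Equiv.subtypeEquivRight (q := fun j : Fin b => (j : ℕ) < β) fun j => ?_)).trans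
    (Fintype.card_fin_lt_of_le hβ)
  by_cases h : (j : ℕ) < β
  · rw [if_pos h]
    exact iff_of_true (fun e => h2 (by linear_combination -e)) h
  · rw [if_neg h, sub_self]
    simp [h]


set_option maxHeartbeats 2000000 in
/-- Elements of prime order of PSp_n(q), q odd, and the stabilizers of tensor decompositions Sp_a(q) ⊗ O_b(q). Here `T = PSp_{2d}(F)` for a field `F` with `q` elements, `q` odd, `d ≥ 2`, realised through the matrices preserving the standard alternating form `f`; `2d = a·b` with `a` even, `b ≥ 3`, and the bijection `e` and change of basis `P` exhibit `f` as a non-zero scalar multiple of the tensor product of a non-degenerate alternating form `f₁` on `F^a` and a non-degenerate symmetric bilinear form `f₂` on `F^b`; `H` is the subgroup of `T` stabilizing this tensor decomposition (the elements of `T` in the conjugate by `P` of the group of Kronecker products) — a subgroup of type Sp_a(q) ⊗ O^ε_b(q) (maximality is not assumed).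 Ω is the set of cosets of `H` in `T`, so an element of `T` of prime order `r` (`x ∈ T` with `x^r` scalar, `x` not scalar) fixes a point of Ω exactly when some `T`-conjugate of `x` lies in `H`. Let `r` be a prime dividing the index of `H`. Then every element of `T` of order `r` fixes a point of Ω if and only if `r = 2` and `a = 2`. -/
theorem result {F : Type*} [Field F] [Fintype F] {p : ℕ} [Fact p.Prime] [CharP F p] {q : ℕ} (hq : Fintype.card F = q)
    (hodd : Odd q) (d : ℕ) (hd : 2 ≤ d) (a b : ℕ) (hab : 2 * d = a * b) (ha : Even a) (ha2 : 2 ≤ a) (hb : 3 ≤ b)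
    (e : (Fin d ⊕ Fin d) ≃ Fin a × Fin b) (P : GL (Fin d ⊕ Fin d) F)
    (f₁ : (Fin a → F) → (Fin a → F) → F) (f₂ : (Fin b → F) → (Fin b → F) → F)
    (hf₁ : Cfsg.Geo.IsSymplecticForm f₁) (hf₂ : Cfsg.Geo.IsSymmetricForm f₂)
    (hS : Cfsg.Geo.IsTensorFormStructure id (Cfsg.sympForm d F) f₁ f₂ e P)
    (r : ℕ) [Fact r.Prime]
    (hΩ : r ∣ (Cfsg.Geo.tensorProductSubgroup a b e P).relIndex (Cfsg.spGL d F)) :
    (∀ x ∈ Cfsg.spGL d F, (∃ z : F, ((x ^ r : GL (Fin d ⊕ Fin d) F) : Matrix (Fin d ⊕ Fin d) (Fin d ⊕ Fin d) F) = z • (1 : Matrix (Fin d ⊕ Fin d) (Fin d ⊕ Fin d) F)) →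
      (∀ z : F, (x : Matrix (Fin d ⊕ Fin d) (Fin d ⊕ Fin d) F) ≠ z • (1 : Matrix (Fin d ⊕ Fin d) (Fin d ⊕ Fin d) F)) →
      ∃ g ∈ Cfsg.spGL d F, g⁻¹ * x * g ∈ Cfsg.Geo.tensorProductSubgroup a b e P) ↔ (r = 2 ∧ a = 2) := by
  classical
  have hr := (Fact.out : r.Prime)
  subst hq
  have hd0 : 0 < d := by omega
  have : NeZero a := ⟨by omega⟩
  have : NeZero b := ⟨by omega⟩
  have h2 : (2 : F) ≠ 0 := Ring.two_ne_zero fun h => by
    exact absurd hodd (Nat.not_odd_iff.2 (FiniteField.even_card_iff_char_two.1 h))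
  set G₁ := Cfsg.Geo.gramMatrix f₁
  set G₂ := Cfsg.Geo.gramMatrix f₂
  have hG₁ : IsUnit G₁.det := gram_det hf₁.bilinear hf₁.nondegenerate
  have hG₂ : IsUnit G₂.det := gram_det hf₂.bilinear hf₂.nondegenerate
  have hG₁t : G₁ᵀ = -G₁ := Matrix.ext fun i j => hf₁.skew _ _
  have hG₂t : G₂ᵀ = G₂ := Matrix.ext fun i j => hf₂.symm _ _
  have hne : (-1 : F) ≠ 1 := fun h => h2 (by linear_combination -h)
  let V := Fin d ⊕ Fin d → F
  have hrk : ∀ M : Matrix (Fin d ⊕ Fin d) (Fin d ⊕ Fin d) F,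
      finrank F ↥(LinearMap.range (Matrix.toLin' M - 1 : Module.End F V)) = (M - 1).rank := fun M => by
    rw [Matrix.rank, ← Matrix.toLin'_apply', map_sub, Matrix.toLin'_one]; rfl
  constructor
  · intro hall
    have key : ∀ x ∈ Cfsg.spGL d F, (∃ z : F, ((x ^ r : GL (Fin d ⊕ Fin d) F) : Matrix (Fin d ⊕ Fin d) (Fin d ⊕ Fin d) F) = z • 1) →
        (∀ z : F, (x : Matrix (Fin d ⊕ Fin d) (Fin d ⊕ Fin d) F) ≠ z • 1) →
        (b ≤ ((x : Matrix (Fin d ⊕ Fin d) (Fin d ⊕ Fin d) F) - 1).rank) ∨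
          (a ∣ ((x : Matrix (Fin d ⊕ Fin d) (Fin d ⊕ Fin d) F) - 1).rank) := fun x hx hz hns => by
      obtain ⟨g, -, hg⟩ := hall x hx hz hns
      rw [← one_smul F (1 : Matrix (Fin d ⊕ Fin d) (Fin d ⊕ Fin d) F), ← Tensor.rank_conj_sub g]
      rcases Tensor.rank_cases hg with h | h
      · exact Or.inl (h 1)
      · exact Or.inr (h 1)
    have hns_of : ∀ x : GL (Fin d ⊕ Fin d) F, ((x : Matrix (Fin d ⊕ Fin d) (Fin d ⊕ Fin d) F) - 1).rank ≠ 0 →
        ((x : Matrix (Fin d ⊕ Fin d) (Fin d ⊕ Fin d) F) - 1).rank ≠ 2 * d →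
        ∀ z : F, (x : Matrix (Fin d ⊕ Fin d) (Fin d ⊕ Fin d) F) ≠ z • 1 := by
      intro x h0 htop z hz
      rw [hz, show z • (1 : Matrix (Fin d ⊕ Fin d) (Fin d ⊕ Fin d) F) - 1 = Matrix.diagonal fun _ => z - 1 by
        rw [Matrix.smul_one_eq_diagonal, ← Matrix.diagonal_one, Matrix.diagonal_sub], Matrix.rank_diagonal] at h0 htop
      by_cases hz1 : z - 1 = 0
      · simp [hz1] at h0
      · simp [hz1, two_mul] at htop
    by_cases hrp : r = p
    · -- a transvection
      subst hrp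
      exfalso
      let e0 : V := Pi.single (Sum.inl ⟨0, hd0⟩) 1
      set x : GL (Fin d ⊕ Fin d) F := (spEquiv d F (tmat e0 1)).1
      have hpow : ∀ n : ℕ, tmat e0 (1 : F) ^ n = tmat e0 (n : F) := fun n => by
        induction n with
        | zero => simp
        | succ n ih => rw [pow_succ, ih, tmat_mul]; push_cast; rfl
      have hxr : x ^ r = 1 := by
        rw [← SubgroupClass.coe_pow, ← map_pow, hpow, CharP.cast_eq_zero, tmat_zero, map_one]; rfl
      have hx1 : (x : Matrix (Fin d ⊕ Fin d) (Fin d ⊕ Fin d) F) - 1 = Matrix.vecMulVec e0 (Matrix.J (Fin d) F *ᵥ e0) := by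
        show Cfsg.sympTransvection d e0 1 - 1 = _
        rw [Cfsg.sympTransvection, one_smul, add_sub_cancel_left]
      have h1 : ((x : Matrix (Fin d ⊕ Fin d) (Fin d ⊕ Fin d) F) - 1).rank ≤ 1 := hx1 ▸ Matrix.rank_vecMulVec_le _ _
      have h0 : ((x : Matrix (Fin d ⊕ Fin d) (Fin d ⊕ Fin d) F) - 1).rank ≠ 0 := fun h => by
        have := congrFun (congrFun (Tensor.eq_zero_of_rank h) (Sum.inl ⟨0, hd0⟩)) (Sum.inr ⟨0, hd0⟩)
        rw [hx1] at this
        simp [e0, Matrix.vecMulVec, Matrix.J, Matrix.mulVec_single] at this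
      rcases key x (spEquiv d F (tmat e0 1)).2 ⟨1, by rw [hxr, Units.val_one, one_smul]⟩
        (hns_of x h0 (by omega)) with h | h
      · omega
      · have := Nat.le_of_dvd (Nat.pos_of_ne_zero h0) h; omega
    have hr0 : (r : F) ≠ 0 := CfsgLib.OrderR.cast_ne_zero hrp
    by_cases hr2 : r = 2
    · subst hr2
      refine ⟨rfl, by_contra fun ha' => ?_⟩
      have ha4 : 4 ≤ a := by obtain ⟨k, hk⟩ := ha; omega
      let ν : Fin d ⊕ Fin d → F := fun s => if s = .inl ⟨0, hd0⟩ ∨ s = .inr ⟨0, hd0⟩ then -1 else 1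
      have hν : ∀ s, ν s * ν s = 1 := fun s => by simp only [ν]; split_ifs <;> simp
      let x : GL (Fin d ⊕ Fin d) F := ⟨Matrix.diagonal ν, Matrix.diagonal ν,
        by rw [Matrix.diagonal_mul_diagonal]; simp only [hν, Matrix.diagonal_one],
        by rw [Matrix.diagonal_mul_diagonal]; simp only [hν, Matrix.diagonal_one]⟩
      have hxsp : x ∈ Cfsg.spGL d F := fun u v => by
        show Cfsg.sympForm d F (Matrix.diagonal ν *ᵥ u) (Matrix.diagonal ν *ᵥ v) = _
        rw [sympForm_eq_sum, sympForm_eq_sum]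
        refine Finset.sum_congr rfl fun i _ => ?_
        have hlr : ν (.inr i) = ν (.inl i) := by simp [ν]
        simp only [Matrix.mulVec_diagonal, hlr]
        linear_combination (u (.inr i) * v (.inl i) - u (.inl i) * v (.inr i)) * hν (.inl i)
      have hrank : ((x : Matrix (Fin d ⊕ Fin d) (Fin d ⊕ Fin d) F) - 1).rank = 2 := by
        show (Matrix.diagonal ν - 1).rank = 2
        rw [← Matrix.diagonal_one, Matrix.diagonal_sub, Matrix.rank_diagonal, Fintype.card_subtype,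
          show (Finset.univ.filter fun s => ν s - 1 ≠ 0) = {Sum.inl ⟨0, hd0⟩, Sum.inr ⟨0, hd0⟩} by
            ext s
            simp only [ν, Finset.mem_filter, Finset.mem_univ, true_and, Finset.mem_insert, Finset.mem_singleton]
            by_cases h : s = Sum.inl ⟨0, hd0⟩ ∨ s = Sum.inr ⟨0, hd0⟩
            · rw [if_pos h]; exact iff_of_true (fun e => hne (sub_eq_zero.1 e)) h
            · rw [if_neg h, sub_self]; exact iff_of_false (fun e => e rfl) h,
          Finset.card_pair (by simp)]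
      rcases key x hxsp ⟨1, by
          rw [pow_two, Units.val_mul, one_smul]
          show Matrix.diagonal ν * Matrix.diagonal ν = 1
          rw [Matrix.diagonal_mul_diagonal]; simp only [hν, Matrix.diagonal_one]⟩
        (hns_of x (by omega) (by omega)) with h | h
      · omega
      · have := Nat.le_of_dvd (by omega) (hrank ▸ h); omega
    exfalso
    have hrodd : Odd r := hr.odd_of_ne_two hr2
    have hrq : ((Fintype.card F : ℕ) : ZMod r) ≠ 0 := CfsgLib.OrderR.natCast_ne_zero_of_card rfl hrp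
    set i := orderOf ((Fintype.card F : ℕ) : ZMod r) with hi
    have hi0 : 0 < i := orderOf_pos_iff.2 (isOfFinOrder_iff_pow_eq_one.2
      ⟨r - 1, Nat.sub_pos_of_lt hr.one_lt, ZMod.pow_card_sub_one_eq_one hrq⟩)
    obtain ⟨c, hc⟩ : ∃ c, c = if Even i then i else 2 * i := ⟨_, rfl⟩
    have hci : c ≤ 2 * i ∧ i ≤ c := by rw [hc]; split_ifs <;> omega
    have hdvd : r ∣ Nat.card ↥(Matrix.symplecticGroup (Fin d) F) := by
      rw [Nat.card_congr (spEquiv d F).toEquiv]
      exact hΩ.trans (Subgroup.relIndex_dvd_card _ _)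
    have hc2d : c ≤ 2 * d := CfsgLib.SympWitness.le_of_dvd_card rfl hi hc hrq hdvd
    obtain ⟨k, hk⟩ : Even (2 * d - c) := by
      refine Even.tsub (even_two_mul d) ?_
      rw [hc]; split_ifs with he
      · exact he
      · exact even_two_mul i
    obtain ⟨x₀, hx₀r, hx₀⟩ := CfsgLib.SympWitness.exists_witness rfl hi hc hr0 hrq (d := d) (e := 1) (k := k) (by omega)
    rw [hrk, one_mul] at hx₀
    set x : GL (Fin d ⊕ Fin d) F := (spEquiv d F x₀).1 with hxdef
    have hxm : (x : Matrix (Fin d ⊕ Fin d) (Fin d ⊕ Fin d) F) = x₀.1 := rfl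
    have hxr : x ^ r = 1 := by rw [hxdef, ← SubgroupClass.coe_pow, ← map_pow, hx₀r, map_one]; rfl
    have hns : ∀ z : F, (x : Matrix (Fin d ⊕ Fin d) (Fin d ⊕ Fin d) F) ≠ z • 1 := by
      intro z hz
      have hiso := (spEquiv d F x₀).2
      have hzr : z ^ r = 1 := by
        have h1 := congrArg Units.val hxr
        rw [Units.val_pow_eq_pow_val, hz, _root_.smul_pow, one_pow, Units.val_one] at h1
        simpa using congrFun (congrFun h1 (Sum.inl ⟨0, hd0⟩)) (Sum.inl ⟨0, hd0⟩)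
      have hz2 : z * z = 1 := scalar_pair hd0 hz hiso
      have hz1 : z = 1 := by
        obtain ⟨m, rfl⟩ := hrodd
        rwa [pow_succ, pow_mul, pow_two, hz2, one_pow, one_mul] at hzr
      rw [hxm] at hz
      rw [hz, hz1, one_smul, sub_self, Matrix.rank_zero] at hx₀
      omega
    obtain ⟨u, hu, hy⟩ := hall x (spEquiv d F x₀).2 ⟨1, by rw [hxr, Units.val_one, one_smul]⟩ hns
    obtain ⟨K, g, h, hyK, hK⟩ := mem_exists_psi hy
    have hKsp : psi e P K ∈ Cfsg.spGL d F :=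
      hyK ▸ mul_mem (mul_mem (inv_mem hu) (spEquiv d F x₀).2) hu
    have hiso := (psi_mem_spGL_iff hS K).1 hKsp
    have hKr : K ^ r = 1 := by
      apply psi_injective e P
      rw [map_pow, ← hyK, map_one]
      calc (u⁻¹ * x * u) ^ r = (u⁻¹ * x * (u⁻¹)⁻¹) ^ r := by rw [inv_inv]
        _ = 1 := by rw [conj_pow, hxr, mul_one, mul_inv_cancel]
    have hKrk : ((K : Matrix (Fin a × Fin b) (Fin a × Fin b) F) - 1).rank = c := by
      have h1 : (((u⁻¹ * x * u : GL (Fin d ⊕ Fin d) F) : Matrix (Fin d ⊕ Fin d) (Fin d ⊕ Fin d) F) - (1 : F) • 1).rank =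
          ((K : Matrix (Fin a × Fin b) (Fin a × Fin b) F) - (1 : F) • 1).rank :=
        Tensor.rank_eq (show _ = _ from (congrArg Units.val hyK).trans (psi_val e P K)) 1
      rw [Tensor.rank_conj_sub, one_smul, one_smul, hxm, hx₀] at h1
      exact h1.symm
    have hKr' : (K : Matrix (Fin a × Fin b) (Fin a × Fin b) F) ^ r = 1 := by
      rw [← Units.val_pow_eq_pow_val, hKr, Units.val_one]
    rw [hK] at hiso hKrk hKr'
    obtain ⟨g', h', hgh, hg'r, hh'r, hg'i, hh'i⟩ := exists_isom_factors hG₁ hG₂ hrodd hKr' hiso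
    rw [hgh] at hKrk
    have hh'u : IsUnit h' := IsUnit.of_pow_eq_one hh'r hr.ne_zero
    have hg'u : IsUnit g' := IsUnit.of_pow_eq_one hg'r hr.ne_zero
    have hg'c := c_dvd_rank rfl hi hc h2 hr0 hrodd hG₁ (Or.inr hG₁t) hg'r hg'i
    have hh'c := c_dvd_rank rfl hi hc h2 hr0 hrodd hG₂ (Or.inl hG₂t) hh'r hh'i
    have hga : (g' - 1).rank ≤ a := (Matrix.rank_le_card_width _).trans_eq (Fintype.card_fin a)
    have hhb : (h' - 1).rank ≤ b := (Matrix.rank_le_card_width _).trans_eq (Fintype.card_fin b)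
    by_cases hg1 : g' = 1
    · subst hg1
      rw [rank_one_left] at hKrk
      rcases Nat.eq_zero_or_pos (h' - 1).rank with h0 | h0
      · rw [h0, mul_zero] at hKrk; omega
      · have h1 := Nat.le_of_dvd h0 hh'c
        have h3 : 2 * (h' - 1).rank ≤ a * (h' - 1).rank := Nat.mul_le_mul_right _ ha2
        omega
    have hg0 : 0 < (g' - 1).rank := Nat.pos_of_ne_zero fun h0 => hg1 (sub_eq_zero.1 (Tensor.eq_zero_of_rank h0))
    have hcg := Nat.le_of_dvd hg0 hg'c
    by_cases hh1 : h' = 1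
    · subst hh1
      rw [rank_swap, rank_one_left] at hKrk
      have h3 : 3 * (g' - 1).rank ≤ b * (g' - 1).rank := Nat.mul_le_mul_right _ hb
      omega
    have hh0 : 0 < (h' - 1).rank := Nat.pos_of_ne_zero fun h0 => hh1 (sub_eq_zero.1 (Tensor.eq_zero_of_rank h0))
    have hch := Nat.le_of_dvd hh0 hh'c
    have nonsc : ∀ {m : ℕ} [NeZero m] {G g : Matrix (Fin m) (Fin m) F}, IsUnit G.det → g ^ r = 1 → gᵀ * G * g = G →
        g ≠ 1 → ∀ t : F, g ≠ t • 1 := by
      intro m _ G g hG hgr hgi hne1 t ht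
      subst ht
      rw [_root_.smul_pow, one_pow] at hgr
      have htr : t ^ r = 1 := by simpa using congrFun (congrFun hgr 0) 0
      rw [Matrix.transpose_smul, Matrix.transpose_one, Matrix.smul_mul, one_mul, Matrix.mul_smul, mul_one, smul_smul] at hgi
      have ht2 : t * t = 1 :=
        smul_left_injective F (fun h0 : G = 0 => hG.ne_zero (by rw [h0, Matrix.det_zero])) (hgi.trans (one_smul F G).symm)
      obtain ⟨l, rfl⟩ := hrodd
      rw [pow_succ, pow_mul, pow_two, ht2, one_pow, one_mul] at htr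
      exact hne1 (by rw [htr, one_smul])
    have hbr := Tensor.le_rank_of_left (nonsc hG₁ hg'r hg'i hg1) hh'u 1
    have har := Tensor.le_rank_of_left (nonsc hG₂ hh'r hh'i hh1) hg'u 1
    rw [one_smul] at hbr har
    rw [← rank_swap] at har
    rw [hKrk] at hbr har
    have hfix := finrank_fixed_le rfl hi (a := a) (b := b) (by omega) hg'r hh'r (by omega)
    rw [hKrk] at hfix
    obtain rfl : a = c := by omega
    obtain rfl : b = a := by omega
    have h4 : 4 ≤ b := by obtain ⟨l, hl⟩ := ha; omega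
    have : 4 * b ≤ b * b := Nat.mul_le_mul_right _ h4
    omega
  · rintro ⟨rfl, rfl⟩ x hx ⟨z, hz⟩ -
    obtain rfl : d = b := by omega
    obtain ⟨A, hA⟩ := (spEquiv d F).surjective ⟨x, hx⟩
    have hAx : A.1 = (x : Matrix (Fin d ⊕ Fin d) (Fin d ⊕ Fin d) F) := by
      rw [← spEquiv_coe, hA]
    have hA2 : A.1 * A.1 = z • 1 := by rw [hAx, ← Units.val_mul, ← pow_two, hz]
    have hz2 : z * z = 1 := scalar_pair hd0 (hA2 : (A * A : symplecticGroup (Fin d) F).1 = _) (sympForm_mulVec (A * A))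
    -- it is enough to find a conjugate in the stabiliser
    suffices ∃ (k : GL (Fin 2 × Fin d) F) (gg : GL (Fin 2) F) (hh : GL (Fin d) F), psi e P k ∈ Cfsg.spGL d F ∧
        (k : Matrix (Fin 2 × Fin d) (Fin 2 × Fin d) F) = (gg : Matrix (Fin 2) (Fin 2) F) ⊗ₖ (hh : Matrix (Fin d) (Fin d) F) ∧
        ∀ Y : symplecticGroup (Fin d) F, Y.1 = (psi e P k : Matrix (Fin d ⊕ Fin d) (Fin d ⊕ Fin d) F) →
          ∃ T : V ≃ₗ[F] V, (∀ u v, sympBilin d F (T u) (T v) = sympBilin d F u v) ∧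
            ∀ v, T (toEquiv d F Y v) = toEquiv d F A (T v) by
      obtain ⟨k, gg, hh, hksp, hk, hconj⟩ := this
      obtain ⟨Y, hY⟩ := (spEquiv d F).surjective ⟨psi e P k, hksp⟩
      obtain ⟨T, hT, hTc⟩ := hconj Y (by rw [← spEquiv_coe, hY])
      obtain ⟨T', rfl⟩ := exists_toEquiv_eq hT
      have hcomm : A * T' = T' * Y := toEquiv_injective (LinearEquiv.ext fun v => by
        rw [map_mul, map_mul]; exact (hTc v).symm)
      refine ⟨(spEquiv d F T').1, (spEquiv d F T').2, ?_⟩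
      have h1 : x * (spEquiv d F T').1 = (spEquiv d F T').1 * psi e P k := by
        have := congrArg (fun A => (spEquiv d F A).1) hcomm
        simpa [map_mul, hA, hY] using this
      rw [mul_assoc, h1, inv_mul_cancel_left]
      exact psi_mem e P hk
    have hinj : Function.Injective (fun x : symplecticGroup (Fin d) F => toEquiv d F x) := toEquiv_injective
    rcases mul_self_eq_one_iff.1 hz2 with rfl | rfl
    · -- an involution
      rw [one_smul] at hA2
      have hAi : ∀ v, (toEquiv d F A).toLinearMap ((toEquiv d F A).toLinearMap v) = v := fun v => by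
        simp [Matrix.mulVec_mulVec, hA2]
      obtain ⟨α, γ, eA, hα, hV, -, -⟩ := CfsgLib.SpInvClasses.inv_decomp h2 (sympBilin d F) sympBilin_isAlt
        sympBilin_separatingLeft _ (toEquiv_mem_isom A) hAi
      rw [Module.finrank_fintype_fun_eq_card, Fintype.card_sum, Fintype.card_fin] at hV
      obtain ⟨M, δ, hM, hMG⟩ := exists_diag h2 hf₂
      set s : Fin d → F := fun j => if (j : ℕ) < γ then -1 else 1
      have hs : ∀ j, s j * s j = 1 := fun j => by simp only [s]; split_ifs <;> simp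
      set D := Matrix.diagonal s
      have hDD : D * D = 1 := by rw [Matrix.diagonal_mul_diagonal]; simp only [hs, Matrix.diagonal_one]
      set h := M * D * M⁻¹ with hhdef
      have hhh : h * h = 1 := by
        rw [hhdef, show M * D * M⁻¹ * (M * D * M⁻¹) = M * D * (M⁻¹ * M) * D * M⁻¹ by simp only [mul_assoc],
          Matrix.nonsing_inv_mul _ hM, mul_one, mul_assoc M D D, hDD, mul_one, Matrix.mul_nonsing_inv _ hM]
      have hhG : hᵀ * G₂ * h = G₂ := by
        have hG' : G₂ = (M⁻¹)ᵀ * Matrix.diagonal δ * M⁻¹ := by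
          rw [← hMG, show (M⁻¹)ᵀ * (Mᵀ * G₂ * M) * M⁻¹ = ((M⁻¹)ᵀ * Mᵀ) * G₂ * (M * M⁻¹) by simp only [mul_assoc],
            Matrix.mul_nonsing_inv _ hM, mul_one, ← Matrix.transpose_mul, Matrix.mul_nonsing_inv _ hM,
            Matrix.transpose_one, one_mul]
        rw [hhdef, Matrix.transpose_mul, Matrix.transpose_mul, Matrix.diagonal_transpose,
          show (M⁻¹)ᵀ * (D * Mᵀ) * G₂ * (M * D * M⁻¹) = (M⁻¹)ᵀ * (D * (Mᵀ * G₂ * M) * D) * M⁻¹ by simp only [mul_assoc],
          hMG, Matrix.diagonal_mul_diagonal, Matrix.diagonal_mul_diagonal, hG']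
        congr 3
        funext j
        linear_combination δ j * hs j
      have hkk : ((1 : Matrix (Fin 2) (Fin 2) F) ⊗ₖ h) * ((1 : Matrix (Fin 2) (Fin 2) F) ⊗ₖ h) = 1 := by
        rw [← Matrix.mul_kronecker_mul, one_mul, hhh, Matrix.one_kronecker_one]
      let k : GL (Fin 2 × Fin d) F := ⟨_, _, hkk, hkk⟩
      let hu : GL (Fin d) F := ⟨h, h, hhh, hhh⟩
      have hksp : psi e P k ∈ Cfsg.spGL d F := (psi_mem_spGL_iff hS k).2 (by
        show ((1 : Matrix (Fin 2) (Fin 2) F) ⊗ₖ h)ᵀ * _ * ((1 : Matrix (Fin 2) (Fin 2) F) ⊗ₖ h) = _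
        rw [← Matrix.kroneckerMap_transpose, ← Matrix.mul_kronecker_mul, ← Matrix.mul_kronecker_mul,
          Matrix.transpose_one, one_mul, mul_one, hhG])
      refine ⟨k, 1, hu, hksp, rfl, fun Y hY => ?_⟩
      have hY2 : Y.1 * Y.1 = 1 := by
        rw [hY, ← Units.val_mul, ← map_mul, show k * k = 1 from Units.ext hkk, map_one, Units.val_one]
      refine CfsgLib.SpInvClasses.inv_conj h2 _ sympBilin_isAlt sympBilin_separatingLeft (toEquiv d F Y).toLinearMap
        (toEquiv d F A).toLinearMap (toEquiv_mem_isom Y) (toEquiv_mem_isom A)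
        (fun v => by simp [Matrix.mulVec_mulVec, hY2]) hAi ?_
      have hYr : (Y.1 - 1).rank = 2 * γ := by
        rw [hY, ← one_smul F (1 : Matrix (Fin d ⊕ Fin d) (Fin d ⊕ Fin d) F), Tensor.rank_eq (psi_val e P k) 1, one_smul]
        show ((1 : Matrix (Fin 2) (Fin 2) F) ⊗ₖ h - 1).rank = _
        rw [rank_one_left, hhdef, show M * D * M⁻¹ - 1 = M * (D - 1) * M⁻¹ by
          rw [mul_sub, sub_mul, mul_one, Matrix.mul_nonsing_inv _ hM],
          Matrix.rank_mul_eq_left_of_isUnit_det _ _ ((Matrix.isUnit_nonsing_inv_det_iff).2 hM),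
          Matrix.rank_mul_eq_right_of_isUnit_det _ _ hM, signs_card γ (by omega) h2]
      have hsplit := LinearMap.finrank_range_add_finrank_ker ((toEquiv d F Y).toLinearMap - LinearMap.id)
      rw [show LinearMap.range ((toEquiv d F Y).toLinearMap - LinearMap.id) =
          LinearMap.range (Matrix.toLin' Y.1 - 1 : Module.End F V) from rfl, hrk, hYr,
        Module.finrank_fintype_fun_eq_card, Fintype.card_sum, Fintype.card_fin] at hsplit
      rw [hα]
      omega
    · -- square minus one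
      have hA2' : A.1 * A.1 = -1 := by rw [hA2, neg_smul, one_smul]
      let g : Matrix (Fin 2) (Fin 2) F := !![0, -1; 1, 0]
      have hg2 : g * g = -1 := by
        ext i j; fin_cases i <;> fin_cases j <;> simp [g, Matrix.mul_apply, Fin.sum_univ_two]
      have hgn : g * -g = 1 := by rw [mul_neg, hg2, neg_neg]
      have hgn' : -g * g = 1 := by rw [neg_mul, hg2, neg_neg]
      have hgG : gᵀ * G₁ * g = G₁ := by
        have h00 : ∀ i, G₁ i i = 0 := fun i => hf₁.alternating _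
        have h10 : G₁ 1 0 = -G₁ 0 1 := hf₁.skew _ _
        ext i j
        fin_cases i <;> fin_cases j <;>
          simp [g, Matrix.mul_apply, Matrix.transpose_apply, Fin.sum_univ_two, h00, h10]
      have hk1 : (g ⊗ₖ (1 : Matrix (Fin d) (Fin d) F)) * ((-g) ⊗ₖ (1 : Matrix (Fin d) (Fin d) F)) = 1 := by
        rw [← Matrix.mul_kronecker_mul, hgn, one_mul, Matrix.one_kronecker_one]
      have hk2 : ((-g) ⊗ₖ (1 : Matrix (Fin d) (Fin d) F)) * (g ⊗ₖ (1 : Matrix (Fin d) (Fin d) F)) = 1 := by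
        rw [← Matrix.mul_kronecker_mul, hgn', one_mul, Matrix.one_kronecker_one]
      let k : GL (Fin 2 × Fin d) F := ⟨_, _, hk1, hk2⟩
      let gu : GL (Fin 2) F := ⟨g, -g, hgn, hgn'⟩
      have hksp : psi e P k ∈ Cfsg.spGL d F := (psi_mem_spGL_iff hS k).2 (by
        show (g ⊗ₖ (1 : Matrix (Fin d) (Fin d) F))ᵀ * _ * (g ⊗ₖ (1 : Matrix (Fin d) (Fin d) F)) = _
        rw [← Matrix.kroneckerMap_transpose, ← Matrix.mul_kronecker_mul, ← Matrix.mul_kronecker_mul,
          Matrix.transpose_one, one_mul, mul_one, hgG])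
      refine ⟨k, gu, 1, hksp, rfl, fun Y hY => ?_⟩
      have hY2 : Y.1 * Y.1 = -1 := by
        rw [hY, psi_val]
        have hkk : (g ⊗ₖ (1 : Matrix (Fin d) (Fin d) F)) * (g ⊗ₖ (1 : Matrix (Fin d) (Fin d) F)) = -1 := by
          rw [← Matrix.mul_kronecker_mul, hg2, one_mul, ← neg_one_smul F (1 : Matrix (Fin 2) (Fin 2) F),
            Matrix.smul_kronecker, Matrix.one_kronecker_one, neg_one_smul]
        show _ * Matrix.reindexAlgEquiv F F e.symm (g ⊗ₖ (1 : Matrix (Fin d) (Fin d) F)) * _ *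
          (_ * Matrix.reindexAlgEquiv F F e.symm (g ⊗ₖ (1 : Matrix (Fin d) (Fin d) F)) * _) = _
        simp only [mul_assoc, Units.inv_mul_cancel_left]
        rw [← mul_assoc (Matrix.reindexAlgEquiv F F e.symm _), ← map_mul, hkk, map_neg, map_one]
        simp
      exact CfsgLib.SpInvClasses.anti_conj h2 _ sympBilin_isAlt sympBilin_separatingLeft (toEquiv d F Y).toLinearMap
        (toEquiv d F A).toLinearMap (toEquiv_mem_isom Y) (toEquiv_mem_isom A)
        (fun v => by simp [Matrix.mulVec_mulVec, hY2, Matrix.neg_mulVec])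
        (fun v => by simp [Matrix.mulVec_mulVec, hA2', Matrix.neg_mulVec])

end Cfsg.Agent.S5980
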