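import Cfsg.Statements.S5981
import Cfsg.Agent.Lib.PrimeElusive.OrthSimilitude
import Cfsg.Agent.Lib.PrimeElusive.SymplGroups
-- import your own Cfsg.Agent.* helpers here

set_option autoImplicit false
open scoped MatrixGroups
open Cfsg

namespace Cfsg.Agent.S5981

open Matrix CfsgLib.PrimeClasses CfsgLib.OrthFix CfsgLib.PrimeElusive

section
variable {F : Type*} [Field F] [Fintype F] {n : ℕ} {Q : QuadraticForm F (Fin n → F)} {r : ℕ} [Fact r.Prime]

/-- A diagonal test element. -/
theorem diag_test (hQ : Q.polarBilin.Nondegenerate)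
    (key : ∀ x : GL (Fin n) F, (x : Matrix (Fin n) (Fin n) F).det = 1 →
      (∃ z : F, (x : Matrix (Fin n) (Fin n) F) ^ r = z • 1) →
      (∀ z : F, (x : Matrix (Fin n) (Fin n) F) ≠ z • 1) →
      ∃ g : GL (Fin n) F, g⁻¹ * x * g ∈ Cfsg.Geo.quadSimilarityGroup (⇑Q))
    (d : Fin n → F) (hd : ∏ i, d i = 1) (hdr : ∀ i j, d i ^ r = d j ^ r) (hne : ∃ i j, d i ≠ d j) :
    ∃ (c : F) (σ : Equiv.Perm (Fin n)), ∀ i, d i * d (σ i) = c := by
  classical
  obtain ⟨i₀, j₀, hij⟩ := hne
  let x : GL (Fin n) F := Matrix.GeneralLinearGroup.mkOfDetNeZero (Matrix.diagonal d)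
    (by rw [Matrix.det_diagonal, hd]; exact one_ne_zero)
  obtain ⟨g, hg⟩ := key x (by show (Matrix.diagonal d).det = 1; rw [Matrix.det_diagonal, hd]) ⟨d i₀ ^ r, by
      show Matrix.diagonal d ^ r = _
      rw [Matrix.diagonal_pow, Matrix.smul_one_eq_diagonal]
      exact congrArg _ (funext fun i => hdr i i₀)⟩ (fun z hz => hij (by
        have h1 := congrFun (congrFun hz i₀) i₀
        have h2 := congrFun (congrFun hz j₀) j₀
        simp [x] at h1 h2
        rw [h1, h2]))
  refine OrthSimilitude.exists_pairing hQ hg (g := g⁻¹) ?_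
  show _ = ((g⁻¹ : GL (Fin n) F) : Matrix (Fin n) (Fin n) F) * (x : Matrix (Fin n) (Fin n) F)
  rw [← Units.val_mul, ← Units.val_mul, mul_assoc, mul_inv_cancel, mul_one]

end

set_option maxHeartbeats 1000000 in
/-- Elements of prime order of PSL_n(q), q odd, and the subgroups of orthogonal type. Here `T = PSL_n(F)` for a field `F` with `q` elements, `q` odd, `n ≥ 3`; `Q` is a non-degenerate quadratic form on `F^n` (of either type when `n` is even) and `H` is the subgroup of matrices of determinant 1 that preserve `Q` up to a scalar — a subgroup of type O^ε_n(q) (maximality is not assumed); Ω is the set of cosets of `H` in `T`, so an element of `T` of prime order `r` (a matrix `x` of determinant 1 with `x^r` scalar, `x` not scalar) fixes a point of Ω exactly when some conjugate of `x` by a matrix of determinant 1 preserves `Q` up to a scalar. Let `r` be a prime dividing the index of `H`, with `(n, r) ≠ (6, 3)`. Then every element of `T` of order `r` fixes a point of Ω if and only if `r = 2`,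 or `r ∈ {3, 5}`, `n = r` and `(q − 1)_r = r` (the `r`-part of `q − 1` is exactly `r`). The case `(n, r) = (6, 3)` is not covered by this statement. -/
theorem result {F : Type*} [Field F] [Fintype F] {p : ℕ} [Fact p.Prime] [CharP F p] {q : ℕ} (hq : Fintype.card F = q)
    (hodd : Odd q) (n : ℕ) (hn : 3 ≤ n) (Q : (Fin n → F) → F) (hQ : Cfsg.Geo.IsNondegenerateQuadraticForm Q)
    (r : ℕ) [Fact r.Prime] (hgap : ¬ (n = 6 ∧ r = 3))
    (hΩ : r ∣ (Cfsg.Geo.quadSimilarityGroup Q).relIndex (Cfsg.Geo.specialLinear (Fin n) F)) :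
    (∀ x ∈ Cfsg.Geo.specialLinear (Fin n) F, (∃ z : F, ((x ^ r : GL (Fin n) F) : Matrix (Fin n) (Fin n) F) = z • (1 : Matrix (Fin n) (Fin n) F)) →
      (∀ z : F, (x : Matrix (Fin n) (Fin n) F) ≠ z • (1 : Matrix (Fin n) (Fin n) F)) →
      ∃ g ∈ Cfsg.Geo.specialLinear (Fin n) F, g⁻¹ * x * g ∈ Cfsg.Geo.quadSimilarityGroup Q) ↔
    (r = 2 ∨ ((r = 3 ∨ r = 5) ∧ n = r ∧ padicValNat r (q - 1) = 1)) := by
  classical
  obtain ⟨QF, rfl, hQn⟩ := OrthSimilitude.exists_form hQ
  have h2 : (2 : F) ≠ 0 := OrthSimilitude.two_ne_zero_of_odd hq hodd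
  have hr := (Fact.out : r.Prime)
  have hq2 : 2 ≤ q := by rw [← hq]; exact Fintype.one_lt_card
  have hSL : ∀ g : GL (Fin n) F, g ∈ Cfsg.Geo.specialLinear (Fin n) F ↔
      (g : Matrix (Fin n) (Fin n) F).det = 1 :=
    fun g => ⟨fun h => congrArg Units.val (MonoidHom.mem_ker.1 h), fun h => MonoidHom.mem_ker.2 (Units.ext h)⟩
  constructor
  · intro hall
    by_contra hno
    push Not at hno
    obtain ⟨hr2, hno35⟩ := hno
    have key : ∀ x : GL (Fin n) F, (x : Matrix (Fin n) (Fin n) F).det = 1 →
        (∃ z : F, (x : Matrix (Fin n) (Fin n) F) ^ r = z • 1) →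
        (∀ z : F, (x : Matrix (Fin n) (Fin n) F) ≠ z • 1) →
        ∃ g : GL (Fin n) F, g⁻¹ * x * g ∈ Cfsg.Geo.quadSimilarityGroup (⇑QF) := fun x hd hz hns => by
      obtain ⟨z, hz⟩ := hz
      obtain ⟨g, -, hg⟩ := hall x ((hSL x).2 hd) ⟨z, by rw [Units.val_pow_eq_pow_val]; exact hz⟩ hns
      exact ⟨g, hg⟩
    have hisom : ¬ r ∣ q - 1 → ∀ x g : GL (Fin n) F, x ^ r = 1 →
        g⁻¹ * x * g ∈ Cfsg.Geo.quadSimilarityGroup (⇑QF) →
        ∀ v, QF (((g⁻¹ * x * g : GL (Fin n) F) : Matrix (Fin n) (Fin n) F) *ᵥ v) = QF v := fun h x g hxr hg =>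
      OrthSimilitude.isometry_of_pow hr hq h hQn (by omega) hg (by
        rw [show g⁻¹ * x * g = MulAut.conj g⁻¹ x by simp, ← map_pow, hxr, map_one])
    by_cases hrp : r = p
    · -- a transvection
      subst hrp
      have hrq : ¬ r ∣ q - 1 := fun h => by
        obtain ⟨e, -, he⟩ := FiniteField.card F r
        rw [hq] at he
        have h' : r ∣ q := he ▸ dvd_pow_self r e.ne_zero
        have h3 := Nat.dvd_sub h' h
        rw [show q - (q - 1) = 1 by omega, Nat.dvd_one] at h3
        exact hr.one_lt.ne' h3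
      have : Nonempty (Fin n) := ⟨⟨0, by omega⟩⟩
      let u : Fin n → F := Pi.single ⟨0, by omega⟩ 1
      let w : Fin n → F := Pi.single ⟨1, by omega⟩ 1
      have huw : w ⬝ᵥ u = 0 := by simp [u, w]
      obtain ⟨x, hxv, hxr, hdet, hns⟩ := SymplType.exists_transvection r (u := u) (w := w) huw (by simp [u])
        (by simp [w])
      obtain ⟨g, hg⟩ := key x hdet ⟨1, by
        rw [← Units.val_pow_eq_pow_val, hxr, Units.val_one, one_smul]⟩ (fun z hz => hns ⟨z, hz⟩)
      have hgg : (g : Matrix (Fin n) (Fin n) F) * ((g⁻¹ : GL (Fin n) F) : Matrix (Fin n) (Fin n) F) = 1 :=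
        Units.mul_inv g
      refine OrthSimilitude.not_transvection hQn h2 (hisom hrq x g hxr hg)
        (a := ((g⁻¹ : GL (Fin n) F) : Matrix (Fin n) (Fin n) F) *ᵥ u) (b := w ᵥ* (g : Matrix (Fin n) (Fin n) F))
        (fun h => ?_) (fun h => ?_) ?_ ?_
      · have h' := congrArg (fun v => (g : Matrix (Fin n) (Fin n) F) *ᵥ v) h
        simp only [mulVec_mulVec, hgg, one_mulVec, mulVec_zero] at h'
        simpa [u] using h'
      · have h' := congrArg (fun v => v ᵥ* ((g⁻¹ : GL (Fin n) F) : Matrix (Fin n) (Fin n) F)) h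
        simp only [vecMul_vecMul, hgg, vecMul_one, zero_vecMul] at h'
        simpa [w] using h'
      · rw [← dotProduct_mulVec, mulVec_mulVec, hgg, one_mulVec, huw]
      · rw [Units.val_mul, Units.val_mul, show (x : Matrix (Fin n) (Fin n) F) = 1 + vecMulVec u w from hxv, mul_add,
          add_mul, mul_one, Units.inv_mul, mul_vecMulVec, vecMulVec_mul]
    have hrK : (r : F) ≠ 0 := CfsgLib.OrderR.cast_ne_zero hrp
    by_cases hdvd : r ∣ q - 1
    · -- split case
      have hq1 : q - 1 ≠ 0 := by omega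
      have : Fact r.Prime := ⟨hr⟩
      have hroot : ∀ m, m ∣ q - 1 → ∃ μ : F, IsPrimitiveRoot μ m := fun m hm => by
        obtain ⟨u, hu⟩ := IsCyclic.exists_ofOrder_eq_natCard (α := Fˣ)
        rw [Nat.card_units, Nat.card_eq_fintype_card, hq] at hu
        obtain ⟨k, hk⟩ := hm
        have hk0 : k ≠ 0 := fun h => hq1 (by rw [hk, h, mul_zero])
        refine ⟨((u ^ k : Fˣ) : F), IsPrimitiveRoot.coe_units_iff.2 ?_⟩
        have ho : orderOf (u ^ k) = m := by
          rw [orderOf_pow' _ hk0, hu, hk, Nat.gcd_mul_left_left, Nat.mul_div_cancel _ (Nat.pos_of_ne_zero hk0)]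
        exact ho ▸ IsPrimitiveRoot.orderOf _
      by_cases hbad : (r = 3 ∨ r = 5) ∧ n = r
      · obtain ⟨hr35, hnr⟩ := hbad
        have hv := hno35 hr35 hnr
        have hv2 : r ^ 2 ∣ q - 1 := (padicValNat_dvd_iff_le hq1).2 (by
          have := (padicValNat_dvd_iff_le hq1).1 (show r ^ 1 ∣ q - 1 by rwa [pow_one])
          omega)
        obtain ⟨μ, hμ⟩ := hroot _ hv2
        have hμ0 : μ ≠ 0 := hμ.ne_zero (pow_ne_zero _ hr.ne_zero)
        have hω : IsPrimitiveRoot (μ ^ r) r := hμ.pow (pow_pos hr.pos 2) (by rw [pow_two])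
        let i0 : Fin n := ⟨0, by omega⟩
        let d : Fin n → F := fun i => if i = i0 then μ * (μ ^ r)⁻¹ else μ
        have hd1 : ∏ i, d i = 1 := by
          rw [← Finset.mul_prod_erase Finset.univ d (Finset.mem_univ i0), Finset.prod_congr rfl (g := fun _ => μ)
            (fun i hi => if_neg (Finset.ne_of_mem_erase hi)), Finset.prod_const, Finset.card_erase_of_mem
            (Finset.mem_univ i0), Finset.card_univ, Fintype.card_fin]
          show μ * (μ ^ r)⁻¹ * μ ^ (n - 1) = 1
          rw [mul_comm μ, mul_assoc, ← pow_succ', Nat.sub_add_cancel (by omega), hnr,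
            inv_mul_cancel₀ (pow_ne_zero _ hμ0)]
        have hdr : ∀ i, d i ^ r = μ ^ r := fun i => by
          simp only [d]
          split_ifs
          · rw [mul_pow, inv_pow, hω.pow_eq_one, inv_one, mul_one]
          · rfl
        have hneq : μ * (μ ^ r)⁻¹ ≠ μ := fun h => hω.ne_one hr.one_lt
          (inv_eq_one.1 (mul_left_cancel₀ hμ0 (h.trans (mul_one μ).symm)))
        have hd0 : d i0 = μ * (μ ^ r)⁻¹ := if_pos rfl
        have hdn : ∀ i, i ≠ i0 → d i = μ := fun i hi => if_neg hi
        obtain ⟨c, σ, hσ⟩ := diag_test hQn key d hd1 (fun i j => by rw [hdr, hdr])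
          ⟨i0, ⟨1, by omega⟩, by rw [hd0, hdn _ (by simp [i0])]; exact hneq⟩
        obtain ⟨i, hi, hσi⟩ : ∃ i, i ≠ i0 ∧ σ i ≠ i0 := by
          obtain ⟨i, -, hi⟩ := Finset.exists_mem_notMem_of_card_lt_card (s := {i0, σ.symm i0}) (t := Finset.univ)
            ((Finset.card_le_two).trans_lt (by rw [Finset.card_univ, Fintype.card_fin]; omega))
          simp at hi
          exact ⟨i, hi.1, fun h => hi.2 (by rw [← h, Equiv.symm_apply_apply])⟩
        have hc := hσ i
        rw [hdn _ hi, hdn _ hσi] at hc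
        have h0 := hσ i0
        by_cases h00 : σ i0 = i0
        · rw [h00, hd0, ← hc] at h0
          have h4 : (μ ^ r) ^ 2 = 1 := by
            have hne : (μ ^ r) ≠ 0 := pow_ne_zero _ hμ0
            field_simp at h0
            linear_combination -h0
          have := Nat.le_of_dvd two_pos (hω.dvd_of_pow_eq_one 2 h4)
          omega
        · rw [hd0, hdn _ h00, ← hc] at h0
          exact hneq (mul_right_cancel₀ hμ0 h0)
      · obtain ⟨ω, hω⟩ := hroot r hdvd
        obtain ⟨e, he0, ⟨i, j, hij⟩, hunb⟩ := FormTests.exists_unbalanced hr2 hn hgap hbad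
        obtain ⟨c, σ, hσ⟩ := diag_test hQn key (fun k => rootChar hω (e k))
          (by rw [← FormTests.rootChar_sum, he0, AddChar.map_zero_eq_one])
          (fun i j => by rw [rootChar_pow_self, rootChar_pow_self])
          ⟨i, j, fun h => hij (FormTests.rootChar_injective hω h)⟩
        obtain ⟨t, ht⟩ := exists_rootChar_eq hω (c := c) (by
          rw [← hσ i, mul_pow, rootChar_pow_self, rootChar_pow_self, one_mul])
        exact hunb t σ fun k => FormTests.rootChar_injective hω (by
          rw [AddChar.map_add_eq_mul, hσ k, ht])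
    -- no roots of unity in the field
    have hrq : ¬ r ∣ Fintype.card F := not_dvd_card hrK
    obtain ⟨ζ, hζ, hgen⟩ := exists_root (K := F) hrK
    set i := orderOf (q : ZMod r) with hi
    have hisz : isz (F := F) hrK = i := by rw [hi, ← hq]
    have hi0 : 0 < i := hisz ▸ isz_pos hrK
    have hvSL : padicValNat r (Nat.card (Cfsg.Geo.specialLinear (Fin n) F)) ≤
        ∑ M ∈ Finset.range (n / i), padicValNat r (q ^ (i * (M + 1)) - 1) := by
      rw [hi, ← FormTests.val_card_GL hq (hq ▸ hrq) n]
      exact (padicValNat_dvd_iff_le Nat.card_pos.ne').1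
        (pow_padicValNat_dvd.trans (Subgroup.card_subgroup_dvd_card _))
    have hOsub : Cfsg.isometryGroup F (⇑QF) ≤ Cfsg.Geo.quadSimilarityGroup (⇑QF) := fun g hg =>
      OrthSimilitude.mem_similitude.2 ⟨1, fun v => by rw [Units.val_one, one_mul]; exact hg v v⟩
    have hfinal : padicValNat r (Nat.card (Cfsg.Geo.specialLinear (Fin n) F)) ≤
        padicValNat r (Nat.card (Cfsg.isometryGroup F (⇑QF))) → False := fun h =>
      FormTests.not_dvd_relIndex hOsub (fun g _ m hm => FormTests.mem_specialLinear_of_pow hr hq hdvd hm) h hΩ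
    have hbig : i ≤ n := by
      by_contra hlt
      apply hfinal
      rw [Nat.div_eq_of_lt (by omega)] at hvSL
      simpa using hvSL.trans (Nat.zero_le _)
    have witness : ∀ d : Orbits hrK → ℕ, d ≠ 0 → i * ∑ ω, d ω ≤ n → ¬ ORealised hζ hrK (⇑QF) d → False := by
      intro d hd0 hw hnr
      obtain ⟨X, hX, hXd⟩ := exists_GL_realise hζ hrK d n (by rw [hq]; exact hw)
      obtain ⟨x, hx⟩ : ∃ x : GL (Fin n) F, (x : Matrix (Fin n) (Fin n) F) = X :=
        ⟨(IsUnit.of_pow_eq_one hX hr.ne_zero).unit, IsUnit.unit_spec _⟩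
      subst hx
      have hxr : x ^ r = 1 := Units.ext (by rw [Units.val_pow_eq_pow_val, hX, Units.val_one])
      have hsl : x ∈ Cfsg.Geo.specialLinear (Fin n) F :=
        FormTests.mem_specialLinear_of_pow hr hq hdvd (m := 1) (by rwa [pow_one])
      obtain ⟨g, hg⟩ := key x ((hSL x).1 hsl) ⟨1, by rw [hX, one_smul]⟩ fun z hz => hd0 (by
        have hn0 : Nonempty (Fin n) := ⟨⟨0, by omega⟩⟩
        have h1 := hX
        rw [hz, smul_pow, one_pow] at h1
        have hzr : z ^ r = 1 := by simpa using congrFun (congrFun h1 ⟨0, by omega⟩) ⟨0, by omega⟩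
        rw [← hXd, hz, FormTests.eq_one_of_pow_eq_one hr hq hdvd (m := 1) (c := z) (by rwa [pow_one]), one_smul,
          orbitMult_one])
      refine hnr ⟨((g⁻¹ * x * g : GL (Fin n) F) : Matrix (Fin n) (Fin n) F), ?_, hisom hdvd x g hxr hg, ?_⟩
      · rw [← Units.val_pow_eq_pow_val, show g⁻¹ * x * g = MulAut.conj g⁻¹ x by simp, ← map_pow, hxr, map_one,
          Units.val_one]
      · rw [Units.val_mul, Units.val_mul, ← hXd]
        conv_lhs => rw [show (g : Matrix (Fin n) (Fin n) F) = ((g⁻¹⁻¹ : GL (Fin n) F) : Matrix (Fin n) (Fin n) F) by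
          rw [inv_inv]]
        exact orbitMult_conj hζ hrK g⁻¹ _
    rcases Nat.even_or_odd i with hev | hiodd
    · set N := n / i
      have hcc : cc i = i := by rw [cc, if_pos hev]
      set d : Orbits hrK → ℕ := Pi.single 1 N
      have hsumd : ∑ ω, d ω = N := by simp [d]
      have hblocks : IsBlocks hrK d N := by
        refine ⟨fun ω => ?_, by rw [hisz, hcc, hsumd, mul_comm]⟩
        rw [(orb_neg_one_eq_one_iff hrK hr2).2 (by rw [hq]; exact hev), one_mul]
      by_cases hval : Valid n (CfsgLib.QuadType.IsPlus (⇑QF) (n / 2)) i N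
      · apply hfinal
        have hle := (valid_iff_le_top hi0 (Or.inl (by omega))).1 hval
        have htop : top n (CfsgLib.QuadType.IsPlus (⇑QF) (n / 2)) i = N := by
          refine le_antisymm ?_ hle
          unfold top
          rw [hcc]
          split_ifs <;> omega
        refine hvSL.trans (le_of_eq ?_)
        have hv := val_card_isometry hrK hr2 QF hQn (by rw [Fintype.card_fin]; omega)
        rw [hisz, Fintype.card_fin, htop, hcc, hq] at hv
        exact hv.symm
      · refine witness d (fun h => ?_) (by rw [hsumd]; exact Nat.mul_div_le n i) fun hR => hval ?_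
        · have h' : N = 0 := by rw [← hsumd, h]; simp
          have := Nat.div_pos hbig hi0
          omega
        · obtain ⟨M, hM, hV⟩ := (realised_iff hζ hgen hr2 QF hQn d).1 hR
          have hMN : M = N := by
            rw [← isBlocks_even (by rw [hisz]; exact hev) hM, hsumd]
          rw [hMN, Fintype.card_fin, hisz] at hV
          exact hV
    · refine witness (Pi.single 1 1) (fun h => ?_) (by simpa using hbig) fun hR => ?_
      · have := congrFun h 1
        simp at this
      · obtain ⟨M, hM, -⟩ := (realised_iff hζ hgen hr2 QF hQn _).1 hR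
        have h := hM.1 1
        rw [mul_one, Pi.single_eq_same, Pi.single_eq_of_ne (orb_ne hr2 hrK (hisz ▸ hiodd))] at h
        exact zero_ne_one h
  · intro hcases x hx hz hns
    obtain ⟨z, hz⟩ := hz
    rw [Units.val_pow_eq_pow_val] at hz
    have hdet := (hSL x).1 hx
    rcases hcases with rfl | ⟨hr35, hnr, hv⟩
    · have hz0 : z ≠ 0 := fun h => by
        have h' := congrArg Matrix.det hz
        have : Nonempty (Fin n) := ⟨⟨0, by omega⟩⟩
        rw [Matrix.det_pow, hdet, one_pow, h, zero_smul, Matrix.det_zero] at h'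
        exact one_ne_zero h'
      exact OrthSimilitude.exists_sl_two h2 hQn (by omega) x hx hz0 fun v => by
        rw [mulVec_mulVec, ← pow_two, hz, smul_mulVec, one_mulVec]
    · subst hnr
      have hrodd : Odd n := by rcases hr35 with rfl | rfl <;> decide
      have hx1 := OrthSimilitude.pow_eq_one_of_val_one hq hrodd hv x hdet hz
      have hdvd : n ∣ q - 1 := by
        have h := pow_padicValNat_dvd (p := n) (n := q - 1)
        rwa [hv, pow_one] at h
      obtain ⟨u, hu⟩ := exists_prime_orderOf_dvd_card' (G := Fˣ) n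
        (by rw [Nat.card_units, Nat.card_eq_fintype_card, hq]; exact hdvd)
      have hζ : IsPrimitiveRoot (u : F) n := IsPrimitiveRoot.coe_units_iff.2 (hu ▸ IsPrimitiveRoot.orderOf u)
      obtain ⟨g, e, hge⟩ := FormTests.exists_diag_form hζ x hx1
      have hsum : ∑ i, e i = 0 := FormTests.rootChar_injective hζ (by
        rw [FormTests.rootChar_sum, AddChar.map_zero_eq_one]
        have h := congrArg Matrix.det hge
        rw [Matrix.det_mul, Matrix.det_mul, hdet, one_mul, Matrix.det_diagonal] at h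
        exact (mul_eq_left₀ (((Matrix.isUnit_iff_isUnit_det _).1 g.isUnit).ne_zero)).1 h.symm)
      obtain ⟨t, σ, hσ, hσe⟩ := FormTests.exists_pairing_small hr35 rfl e hsum
      exact OrthSimilitude.exists_sl_symmetric h2 hQn hrodd hζ x g e hge hσ hσe

end Cfsg.Agent.S5981
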