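import Cfsg.Statements.S5982
import Cfsg.Agent.Lib.PrimeElusive.OrthSimilitude
import Cfsg.Agent.Lib.PrimeElusive.UnitarySimilitude
-- import your own Cfsg.Agent.* helpers here

set_option autoImplicit false
open scoped MatrixGroups
open Cfsg

namespace Cfsg.Agent.S5982

open Matrix CfsgLib.PrimeClasses CfsgLib.PrimeElusive

set_option maxHeartbeats 1000000 in
/-- Elements of prime order of PSL_n(q), q = q₀², and the subgroups of unitary type. Here `T = PSL_n(F)` for a field `F` with `q = q₀²` elements (`n ≥ 3`), `f` is a non-degenerate unitary form on `F^n` for the involutory automorphism `x ↦ x^{q₀}`, and `H` is the subgroup of matrices of determinant 1 that preserve `f` up to a scalar — a subgroup of type GU_n(q₀) (maximality is not assumed); Ω is the set of cosets of `H` in `T`, so an element of `T` of prime order `r` (a matrix `x` of determinant 1 with `x^r` scalar, `x` not scalar) fixes a point of Ω exactly when some conjugate of `x` by a matrix of determinant 1 preserves `f` up to a scalar. Let `r` be a prime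 dividing the index of `H`, with `r = 2` or `r` different from the characteristic `p`, and with `(n, r) ≠ (6, 3)`. Then every element of `T` of order `r` fixes a point of Ω if and only if either `r = 2` and (`p = 2` or `(n)_2 ≤ (q − 1)_2`), or `r ∈ {3, 5}`, `n = r` and `(q₀ − 1)_r = r`. (Odd `r = p` and the case `(n, r) = (6, 3)` are not covered by this statement.) -/
theorem result {F : Type*} [Field F] [Fintype F] {p : ℕ} [Fact p.Prime] [CharP F p] {q : ℕ} (hq : Fintype.card F = q)
    (q₀ : ℕ) (hq₀ : q = q₀ ^ 2) (n : ℕ) (hn : 3 ≤ n) (f : (Fin n → F) → (Fin n → F) → F) (hf : Cfsg.Geo.IsUnitaryFormPow q₀ f)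
    (r : ℕ) [Fact r.Prime] (hr : r = 2 ∨ r ≠ p) (hgap : ¬ (n = 6 ∧ r = 3))
    (hΩ : r ∣ (Cfsg.Geo.similarityGroup f).relIndex (Cfsg.Geo.specialLinear (Fin n) F)) :
    (∀ x ∈ Cfsg.Geo.specialLinear (Fin n) F, (∃ z : F, ((x ^ r : GL (Fin n) F) : Matrix (Fin n) (Fin n) F) = z • (1 : Matrix (Fin n) (Fin n) F)) →
      (∀ z : F, (x : Matrix (Fin n) (Fin n) F) ≠ z • (1 : Matrix (Fin n) (Fin n) F)) →
      ∃ g ∈ Cfsg.Geo.specialLinear (Fin n) F, g⁻¹ * x * g ∈ Cfsg.Geo.similarityGroup f) ↔
    ((r = 2 ∧ (p = 2 ∨ padicValNat 2 n ≤ padicValNat 2 (q - 1))) ∨ ((r = 3 ∨ r = 5) ∧ n = r ∧ padicValNat r (q₀ - 1) = 1)) := by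
  classical
  have hF : Fintype.card F = q₀ ^ 2 := hq.trans hq₀
  have hr' := (Fact.out : r.Prime)
  have hp := (Fact.out : p.Prime)
  have hq02 := CfsgLib.GeomClasses.UnitPow.two_le hF
  have hq2 : 2 ≤ q := by rw [← hq]; exact Fintype.one_lt_card
  have hqfac : q - 1 = (q₀ + 1) * (q₀ - 1) := by rw [hq₀, ← Nat.sq_sub_sq, one_pow]
  have hqv : padicValNat r (q - 1) = padicValNat r (q₀ + 1) + padicValNat r (q₀ - 1) := by
    rw [hqfac, padicValNat.mul (by omega) (by omega)]
  have hSL : ∀ g : GL (Fin n) F, g ∈ Cfsg.Geo.specialLinear (Fin n) F ↔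
      (g : Matrix (Fin n) (Fin n) F).det = 1 :=
    fun g => ⟨fun h => congrArg Units.val (MonoidHom.mem_ker.1 h), fun h => MonoidHom.mem_ker.2 (Units.ext h)⟩
  have hchar : ringChar F = p := ringChar.eq F p
  constructor
  · intro hall
    have key : ∀ x : GL (Fin n) F, (x : Matrix (Fin n) (Fin n) F).det = 1 →
        (∃ z : F, (x : Matrix (Fin n) (Fin n) F) ^ r = z • 1) →
        (∀ z : F, (x : Matrix (Fin n) (Fin n) F) ≠ z • 1) →
        ∃ g : GL (Fin n) F, g⁻¹ * x * g ∈ Cfsg.Geo.similarityGroup f := fun x hd hz hns => by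
      obtain ⟨z, hz⟩ := hz
      obtain ⟨g, -, hg⟩ := hall x ((hSL x).2 hd) ⟨z, by rw [Units.val_pow_eq_pow_val]; exact hz⟩ hns
      exact ⟨g, hg⟩
    by_cases hr2 : r = 2
    · subst hr2
      refine Or.inl ⟨rfl, ?_⟩
      by_contra hno
      push Not at hno
      obtain ⟨hp2, hv⟩ := hno
      have hcF : ringChar F ≠ 2 := hchar ▸ hp2
      have hoddq : q % 2 = 1 := hq ▸ FiniteField.odd_card_of_char_ne_two hcF
      have h2q : 2 ∣ q - 1 := by omega
      obtain ⟨s, rfl⟩ : 2 ∣ n := dvd_of_one_le_padicValNat (by omega)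
      rw [padicValNat.mul two_ne_zero (by omega), padicValNat_self] at hv
      obtain ⟨e, hes, hesq⟩ := exists_nonroot_of_large (r := 2) (k := s) hq h2q
        ((padicValNat_dvd_iff_le (by omega)).2 (by omega))
      have hq4 : q % 4 = 1 := by
        have h2 : q₀ % 2 = 1 := by
          rcases Nat.even_or_odd q₀ with h | h
          · have := Nat.even_iff.1 (h.pow_of_ne_zero two_ne_zero)
            rw [← hq₀] at this
            omega
          · exact Nat.odd_iff.1 h
        rw [hq₀, Nat.pow_mod]
        rcases (show q₀ % 4 = 1 ∨ q₀ % 4 = 3 by omega) with h | h <;> rw [h]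
      obtain ⟨m1, hm1⟩ := (FiniteField.isSquare_neg_one_iff (F := F)).2 (by rw [hq]; omega)
      have hzsq : ¬ IsSquare (-e) := by
        rintro ⟨b, hb⟩
        refine hesq (m1 * b) ?_
        rw [mul_pow, pow_two, pow_two, ← hm1, ← hb, neg_one_mul, neg_neg]
      have he0 : e ≠ 0 := fun h => hzsq ⟨0, by rw [h, neg_zero, mul_zero]⟩
      let ι : Fin 2 × Fin s ≃ Fin (2 * s) := finProdFinEquiv
      let φ := Matrix.reindexAlgEquiv F F ι
      let B : Matrix (Fin 2 × Fin s) (Fin 2 × Fin s) F := Matrix.blockDiagonal fun _ => !![0, -e; 1, 0]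
      have hBd : (φ B).det = 1 := by
        rw [Matrix.det_reindexAlgEquiv, Matrix.det_blockDiagonal]
        simpa [Matrix.det_fin_two] using hes
      have hB2 : φ B ^ 2 = (-e) • 1 := by
        have h1 : B ^ 2 = (-e) • 1 := by
          rw [pow_two, show B * B = _ from (Matrix.blockDiagonal_mul _ _).symm, ← Matrix.blockDiagonal_one,
            ← Matrix.blockDiagonal_smul]
          congr 1
          funext k
          ext i j
          fin_cases i <;> fin_cases j <;> simp [Matrix.mul_apply]
        rw [← map_pow, h1, map_smul, map_one]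
      let x : GL (Fin (2 * s)) F := Matrix.GeneralLinearGroup.mkOfDetNeZero (φ B) (by rw [hBd]; exact one_ne_zero)
      obtain ⟨g, hg⟩ := key x hBd ⟨-e, hB2⟩ (fun z hz => hzsq ⟨z, by
        have h1 : (z • (1 : Matrix (Fin (2 * s)) (Fin (2 * s)) F)) ^ 2 = (-e) • 1 := hz ▸ hB2
        rw [smul_pow, one_pow] at h1
        have h2 := congrFun (congrFun h1 ⟨0, by omega⟩) ⟨0, by omega⟩
        simp [pow_two] at h2
        exact h2.symm⟩)
      refine hzsq (UnitarySimilitude.isSquare_of_sq hF hcF hf (by omega) hg (neg_ne_zero.2 he0) ?_)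
      have hx2 : x ^ 2 * g = g * x ^ 2 := Units.ext (by
        rw [Units.val_mul, Units.val_mul, Units.val_pow_eq_pow_val]
        show φ B ^ 2 * _ = _ * φ B ^ 2
        rw [hB2, smul_mul_assoc, one_mul, mul_smul_comm, mul_one])
      rw [← Units.val_pow_eq_pow_val, show g⁻¹ * x * g = MulAut.conj g⁻¹ x by simp, ← map_pow,
        show MulAut.conj g⁻¹ (x ^ 2) = g⁻¹ * (x ^ 2 * g) by simp [mul_assoc], hx2, inv_mul_cancel_left,
        Units.val_pow_eq_pow_val]
      exact hB2
    · by_contra hno
      push Not at hno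
      have hrp : r ≠ p := hr.resolve_left hr2
      have hno' : ¬ ((r = 3 ∨ r = 5) ∧ n = r ∧ padicValNat r (q₀ - 1) = 1) := fun ⟨h1, h2, h3⟩ => hno.2 h1 h2 h3
      by_cases hdvd : r ∣ q₀ - 1
      · -- split case
        obtain ⟨d, hd, hdr, ⟨i₀, j₀, hij⟩, hdq, hpair⟩ :=
          UnitarySimilitude.exists_split_witness hF hr2 hn hdvd hgap hno'
        let x : GL (Fin n) F := Matrix.GeneralLinearGroup.mkOfDetNeZero (Matrix.diagonal d)
          (by rw [Matrix.det_diagonal, hd]; exact one_ne_zero)
        obtain ⟨g, hg⟩ := key x (by show (Matrix.diagonal d).det = 1; rw [Matrix.det_diagonal, hd]) ⟨d i₀ ^ r, by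
            show Matrix.diagonal d ^ r = _
            rw [Matrix.diagonal_pow, Matrix.smul_one_eq_diagonal]
            exact congrArg _ (funext fun i => hdr i i₀)⟩ (fun z hz => hij (by
              have h1 := congrFun (congrFun hz i₀) i₀
              have h2 := congrFun (congrFun hz j₀) j₀
              simp [x] at h1 h2
              rw [h1, h2]))
        obtain ⟨c, σ, hσ⟩ := UnitarySimilitude.exists_pairing hF hf (d := d) hg (g := g⁻¹) (by
          show _ = ((g⁻¹ : GL (Fin n) F) : Matrix (Fin n) (Fin n) F) * (x : Matrix (Fin n) (Fin n) F)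
          rw [← Units.val_mul, ← Units.val_mul, mul_assoc, mul_inv_cancel, mul_one])
        exact hpair c σ fun i => by rw [mul_comm]; simpa [hdq] using hσ i
      have hrK : (r : F) ≠ 0 := CfsgLib.OrderR.cast_ne_zero hrp
      have hrq : ¬ r ∣ q := fun h => by
        obtain ⟨a, -, ha⟩ := FiniteField.card F p
        rw [hq] at ha
        exact hrp ((Nat.prime_dvd_prime_iff_eq hr' hp).1 (hr'.dvd_of_dvd_pow (ha ▸ h)))
      have hrq0 : ¬ r ∣ q₀ := fun h => hrq (hq₀ ▸ h.trans (dvd_pow_self _ two_ne_zero))
      by_cases hS : ∃ s : ℕ, (q : ZMod r) ^ s = -(q₀ : ZMod r)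
      · -- self-dual orbits: `r` does not divide the index
        obtain ⟨s, hs⟩ := hS
        have hkey : ∀ j : ℕ, (-(q₀ : ZMod r)) ^ j ≠ -1 := fun j hj => by
          have h1 : (q : ZMod r) ^ j = 1 := by
            rw [hq₀, Nat.cast_pow, ← neg_sq, ← pow_mul, mul_comm, pow_mul, hj, neg_one_sq]
          rw [← hs, ← pow_mul, mul_comm, pow_mul, h1, one_pow] at hj
          have h2 : ((2 : ℕ) : ZMod r) = 0 := by push_cast; linear_combination hj
          rw [ZMod.natCast_eq_zero_iff] at h2
          exact hr2 ((Nat.prime_dvd_prime_iff_eq hr' Nat.prime_two).1 h2)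
        obtain ⟨E, hE⟩ := UnitarySimilitude.exists_std hF hf
        obtain ⟨E', hE'⟩ := UnitarySimilitude.exists_GL_equiv E
        let O : Subgroup (GL (Fin n) F) :=
          ((Cfsg.SU n F q₀).map Matrix.SpecialLinearGroup.toGL).map (MulAut.conj E').toMonoidHom
        have hinv : ∀ v, ((E'⁻¹ : GL (Fin n) F) : Matrix (Fin n) (Fin n) F) *ᵥ E v = v := fun v => by
          rw [← hE', mulVec_mulVec, Units.inv_mul, one_mulVec]
        have hO : O ≤ Cfsg.Geo.similarityGroup f := by
          rintro _ ⟨_, ⟨y, hy, rfl⟩, rfl⟩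
          refine UnitarySimilitude.mem_similarity.2 ⟨1, fun u v => ?_⟩
          obtain ⟨u, rfl⟩ := E.surjective u
          obtain ⟨v, rfl⟩ := E.surjective v
          simp only [MulEquiv.coe_toMonoidHom, MulAut.conj_apply, Units.val_mul, ← mulVec_mulVec, hinv, hE', hE,
            Units.val_one, one_mul]
          exact (CfsgLib.ClassicalGroups.mem_SU_iff.1 hy) u v
        have hcardO : Nat.card O = Nat.card (Cfsg.SU n F q₀) := by
          rw [Subgroup.card_map_of_injective (MulAut.conj E').injective,
            Subgroup.card_map_of_injective Matrix.SpecialLinearGroup.toGL_injective]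
        refine FormTests.not_dvd_relIndex hO (fun g hg m _ => ?_) ?_ hΩ
        · obtain ⟨_, ⟨y, hy, rfl⟩, rfl⟩ := hg
          refine MonoidHom.mem_ker.2 ?_
          simp only [MulEquiv.coe_toMonoidHom, MulAut.conj_apply, map_mul, map_inv]
          have : Matrix.GeneralLinearGroup.det (Matrix.SpecialLinearGroup.toGL y) = 1 := Units.ext y.2
          rw [this, mul_one, mul_inv_cancel]
        · have h1 := UnitarySimilitude.val_GL_le_GU hF hrq0 hkey n
          have h2 := UnitarySimilitude.card_specialLinear_mul (F := F) (n := n) (by omega)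
          rw [← h2, padicValNat.mul Nat.card_pos.ne' (by omega), ← CfsgLib.ClassicalGroups.card_SU_mul hF (by omega),
            padicValNat.mul (by omega) Nat.card_pos.ne', hq, hqv,
            padicValNat.eq_zero_of_not_dvd (n := q₀ - 1) hdvd, ← hcardO] at h1
          omega
      · -- paired orbits
        have hdq : ¬ r ∣ q - 1 := fun h => hS ⟨0, by
          have h1 : r ∣ q₀ + 1 := ((Nat.Prime.dvd_mul hr').1 (hqfac ▸ h)).resolve_right hdvd
          rw [← ZMod.natCast_eq_zero_iff, Nat.cast_add, Nat.cast_one] at h1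
          rw [pow_zero]
          linear_combination h1⟩
        obtain ⟨ζ, hζ, hgen⟩ := exists_root (K := F) hrK
        set i := orderOf (q : ZMod r) with hi
        have hbig : i ≤ n := by
          by_contra hlt
          refine FormTests.not_dvd_relIndex (O := ⊥) bot_le (fun g hg m _ => ?_) ?_ hΩ
          · rw [Subgroup.mem_bot.1 hg]; exact one_mem _
          · have h0 := FormTests.val_card_GL (F := F) hq hrq n
            rw [← hi, Nat.div_eq_of_lt (by omega), Finset.sum_range_zero] at h0
            rw [Subgroup.card_bot, padicValNat.one]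
            refine le_of_le_of_eq ?_ h0
            exact (padicValNat_dvd_iff_le Nat.card_pos.ne').1
              (pow_padicValNat_dvd.trans (Subgroup.card_subgroup_dvd_card _))
        obtain ⟨X, hX, hXd⟩ := exists_GL_realise hζ hrK (Pi.single 1 1) n (by rw [hq]; simpa using hbig)
        obtain ⟨x, hx⟩ : ∃ x : GL (Fin n) F, (x : Matrix (Fin n) (Fin n) F) = X :=
          ⟨(IsUnit.of_pow_eq_one hX hr'.ne_zero).unit, IsUnit.unit_spec _⟩
        subst hx
        have hxr : x ^ r = 1 := Units.ext (by rw [Units.val_pow_eq_pow_val, hX, Units.val_one])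
        have hsl : x ∈ Cfsg.Geo.specialLinear (Fin n) F :=
          FormTests.mem_specialLinear_of_pow hr' hq hdq (m := 1) (by rwa [pow_one])
        obtain ⟨g, hg⟩ := key x ((hSL x).1 hsl) ⟨1, by rw [hX, one_smul]⟩ fun z hz => by
          have h1 := hX
          rw [hz, smul_pow, one_pow] at h1
          have hzr : z ^ r = 1 := by simpa using congrFun (congrFun h1 ⟨0, by omega⟩) ⟨0, by omega⟩
          rw [hz, FormTests.eq_one_of_pow_eq_one hr' hq hdq (m := 1) (c := z) (by rwa [pow_one]), one_smul,
            orbitMult_one] at hXd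
          simpa using congrFun hXd 1
        have hyr : (g⁻¹ * x * g) ^ r = 1 := by
          rw [show g⁻¹ * x * g = MulAut.conj g⁻¹ x by simp, ← map_pow, hxr, map_one]
        have hiso := UnitarySimilitude.isometry_of_pow hf hr' hq hdq (by omega) hg hyr
        obtain ⟨E, hE⟩ := UnitarySimilitude.exists_std hF hf
        obtain ⟨E', hE'⟩ := UnitarySimilitude.exists_GL_equiv E
        set Y : GL (Fin n) F := (g * E')⁻¹ * x * (g * E') with hY
        have hYU : Y ∈ Cfsg.GU n F q₀ := CfsgLib.GeomClasses.UnitPow.mem_GU.2 fun u v => by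
          rw [← hE, ← hE, ← hE', ← hE', mulVec_mulVec, mulVec_mulVec, ← Units.val_mul,
            show E' * Y = g⁻¹ * x * g * E' by rw [hY]; group, Units.val_mul, ← mulVec_mulVec, ← mulVec_mulVec, hiso,
            hE', hE']
        have hYr : (Y : Matrix (Fin n) (Fin n) F) ^ r = 1 := by
          rw [← Units.val_pow_eq_pow_val, show Y = MulAut.conj (g * E')⁻¹ x by rw [hY, MulAut.conj_apply, inv_inv], ← map_pow, hxr, map_one,
            Units.val_one]
        have hsym := GU_isSym hζ hF hrK hYr ((CfsgLib.IsomConj.mem_GU_iff_ctr hF).1 hYU) 1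
        have hYd : orbitMult hζ hrK (Y : Matrix (Fin n) (Fin n) F) = Pi.single 1 1 := by
          rw [← hXd, hY, Units.val_mul, Units.val_mul]
          conv_lhs => rw [show ((g * E' : GL (Fin n) F) : Matrix (Fin n) (Fin n) F) =
            (((g * E')⁻¹⁻¹ : GL (Fin n) F) : Matrix (Fin n) (Fin n) F) by rw [inv_inv]]
          exact orbitMult_conj hζ hrK (g * E')⁻¹ _
        rw [hYd, mul_one, Pi.single_eq_same] at hsym
        have hg1 : gOrb hF hrK ≠ 1 := fun h => hS (by
          rw [gOrb, ← QuotientGroup.mk_mul, QuotientGroup.eq_one_iff] at h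
          obtain ⟨k, hk⟩ := mem_powers_iff_mem_zpowers.2 h
          refine ⟨k, ?_⟩
          have hk' := congrArg (fun u : (ZMod r)ˣ => (u : ZMod r)) hk
          simp only [Units.val_pow_eq_pow_val, Units.val_mul, Units.val_neg, Units.val_one, coe_qUnit,
            coe_sqrtUnit] at hk'
          rw [← hq]
          linear_combination hk')
        rw [Pi.single_eq_of_ne hg1] at hsym
        exact zero_ne_one hsym
  · intro hcases x hx hz hns
    obtain ⟨z, hz⟩ := hz
    rw [Units.val_pow_eq_pow_val] at hz
    have hdet := (hSL x).1 hx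
    rcases hcases with ⟨rfl, hcase⟩ | ⟨hr35, hnr, hv⟩
    · have : Nonempty (Fin n) := ⟨⟨0, by omega⟩⟩
      have hz0 : z ≠ 0 := fun h => by
        have h' := congrArg Matrix.det hz
        rw [Matrix.det_pow, hdet, one_pow, h, zero_smul, Matrix.det_zero] at h'
        exact one_ne_zero h'
      have hxx : ∀ v, (x : Matrix (Fin n) (Fin n) F) *ᵥ ((x : Matrix (Fin n) (Fin n) F) *ᵥ v) = z • v := fun v => by
        rw [mulVec_mulVec, ← pow_two, hz, smul_mulVec, one_mulVec]
      by_cases hsq : IsSquare z
      · obtain ⟨t, rfl⟩ := hsq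
        exact UnitarySimilitude.exists_sl_square hF hf (by omega) x hx (left_ne_zero_of_mul hz0) hxx
      exfalso
      have hp2 : p ≠ 2 := fun h => hsq (FiniteField.isSquare_of_char_two (hchar.trans h) z)
      have hv := hcase.resolve_left hp2
      obtain ⟨s, hb⟩ := CfsgLib.SquareScalar.hasPairBasis_of_not_square
        (Matrix.toLin' (x : Matrix (Fin n) (Fin n) F)) z
        (fun v => by simp only [Matrix.toLin'_apply]; exact hxx v) hsq
      have hdets := UnitarySimilitude.det_pairs hb
      rw [LinearMap.det_toLin', hdet] at hdets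
      have hns2 : n = 2 * s := by
        obtain ⟨b, -⟩ := hb
        have := Module.finrank_eq_card_basis b
        simp only [Module.finrank_fin_fun, Fintype.card_sum, Fintype.card_prod, Fintype.card_fin, Fintype.card_bool]
          at this
        omega
      have hcF : ringChar F ≠ 2 := hchar ▸ hp2
      have hoddq : q % 2 = 1 := hq ▸ FiniteField.odd_card_of_char_ne_two hcF
      rw [hns2, padicValNat.mul two_ne_zero (by omega), padicValNat_self] at hv
      obtain ⟨b, hb2⟩ := exists_root_of_small (r := 2) (k := s) hq (by omega) (by omega) (by omega)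
        (neg_ne_zero.2 hz0) hdets.symm
      have hq4 : q % 4 = 1 := by
        have h2 : q₀ % 2 = 1 := by
          rcases Nat.even_or_odd q₀ with h | h
          · have := Nat.even_iff.1 (h.pow_of_ne_zero two_ne_zero)
            rw [← hq₀] at this
            omega
          · exact Nat.odd_iff.1 h
        rw [hq₀, Nat.pow_mod]
        rcases (show q₀ % 4 = 1 ∨ q₀ % 4 = 3 by omega) with h | h <;> rw [h]
      obtain ⟨m1, hm1⟩ := (FiniteField.isSquare_neg_one_iff (F := F)).2 (by rw [hq]; omega)
      refine hsq ⟨m1 * b, ?_⟩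
      linear_combination b ^ 2 * hm1 + hb2
    · subst hnr
      have hrodd : Odd n := by rcases hr35 with rfl | rfl <;> decide
      have hdvd : n ∣ q₀ - 1 := by
        have h := pow_padicValNat_dvd (p := n) (n := q₀ - 1)
        rwa [hv, pow_one] at h
      have hv' : padicValNat n (q - 1) = 1 := by
        rw [hqv, hv, padicValNat.eq_zero_of_not_dvd (n := q₀ + 1) fun h => ?_]
        have h2 := Nat.dvd_sub h hdvd
        rw [show q₀ + 1 - (q₀ - 1) = 2 by omega] at h2
        have := Nat.le_of_dvd two_pos h2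
        omega
      have hx1 := OrthSimilitude.pow_eq_one_of_val_one hq hrodd hv' x hdet hz
      obtain ⟨u, hu⟩ := exists_prime_orderOf_dvd_card' (G := Fˣ) n
        (by rw [Nat.card_units, Nat.card_eq_fintype_card, hq, hqfac]; exact hdvd.mul_left _)
      have hζ : IsPrimitiveRoot (u : F) n := IsPrimitiveRoot.coe_units_iff.2 (hu ▸ IsPrimitiveRoot.orderOf u)
      obtain ⟨g, e, hge⟩ := FormTests.exists_diag_form hζ x hx1
      have hsum : ∑ i, e i = 0 := FormTests.rootChar_injective hζ (by
        rw [FormTests.rootChar_sum, AddChar.map_zero_eq_one]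
        have h := congrArg Matrix.det hge
        rw [Matrix.det_mul, Matrix.det_mul, hdet, one_mul, Matrix.det_diagonal] at h
        exact (mul_eq_left₀ (((Matrix.isUnit_iff_isUnit_det _).1 g.isUnit).ne_zero)).1 h.symm)
      obtain ⟨t, σ, hσ, hσe⟩ := FormTests.exists_pairing_small hr35 rfl e hsum
      have hne : ∀ k : ZMod n, rootChar hζ k ≠ 0 := fun k h => by
        have := rootChar_pow_self hζ k
        rw [h, zero_pow hr'.ne_zero] at this
        exact zero_ne_one this
      have hfix : ∀ k : ZMod n, rootChar hζ k ^ q₀ = rootChar hζ k := fun k => by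
        obtain ⟨m, hm⟩ := hdvd
        conv_lhs => rw [← Nat.sub_add_cancel (show 1 ≤ q₀ by omega), pow_succ, hm, pow_mul, rootChar_pow_self,
          one_pow, one_mul]
      exact UnitarySimilitude.exists_sl_paired hF hf (by omega) x g (fun i => rootChar hζ (e i)) (fun i => hne _)
        hge hσ (hne t) fun i => by rw [hfix, ← AddChar.map_add_eq_mul, hσe]

end Cfsg.Agent.S5982
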