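import Cfsg.Statements.S5983
import Cfsg.Agent.Lib.Sp.Simple
import Cfsg.Agent.Lib.Maximal99.SympWitness

set_option autoImplicit false
open scoped MatrixGroups
open scoped Matrix
open Cfsg

namespace Cfsg.Agent.S5983

open CfsgLib.Sp Matrix Module

variable {F : Type*} [Field F] {d : ℕ}

/-- A function with the standard alternating form as polar form. -/
structure IsF (Q : (Fin d ⊕ Fin d → F) → F) : Prop where
  smul : ∀ (c : F) v, Q (c • v) = c ^ 2 * Q v
  add : ∀ u v, Q (u + v) = Q u + Q v + sympBilin d F u v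

lemma two_eq [CharP F 2] : (2 : F) = 0 := CharP.ofNat_eq_zero F 2

lemma exists_sqrt [Fintype F] [CharP F 2] (t : F) : ∃ a : F, a ^ 2 = t := by
  obtain ⟨a, ha⟩ := FiniteField.isSquare_of_char_two (ringChar.eq F 2) t
  exact ⟨a, by rw [pow_two, ← ha]⟩

lemma sq_inj [CharP F 2] {a b : F} (h : a ^ 2 = b ^ 2) : a = b := by
  have : (a - b) ^ 2 = 0 := by linear_combination h + (b ^ 2 - a * b) * two_eq (F := F)
  exact sub_eq_zero.1 (pow_eq_zero_iff two_ne_zero |>.1 this)

lemma flip_eq [CharP F 2] (u v : Fin d ⊕ Fin d → F) : sympBilin d F v u = sympBilin d F u v := by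
  rw [alt_flip sympBilin_isAlt u v]
  linear_combination (-sympBilin d F u v) * two_eq (F := F)

/-- The functional whose square is a semilinear function. -/
lemma exists_functional [Fintype F] [CharP F 2] (D : (Fin d ⊕ Fin d → F) → F) (h1 : ∀ u v, D (u + v) = D u + D v)
    (h2 : ∀ (c : F) v, D (c • v) = c ^ 2 * D v) :
    ∃ φ : (Fin d ⊕ Fin d → F) →ₗ[F] F, ∀ v, φ v ^ 2 = D v := by
  choose s hs using fun v => exists_sqrt (D v)
  exact ⟨{ toFun := s
           map_add' := fun u v => sq_inj (by rw [hs, h1, ← hs u, ← hs v]; linear_combination (-(s u * s v)) * two_eq (F := F))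
           map_smul' := fun c v => sq_inj (by rw [hs, h2, RingHom.id_apply, smul_eq_mul, mul_pow, hs]) }, hs⟩

lemma exists_repr (φ : (Fin d ⊕ Fin d → F) →ₗ[F] F) : ∃ w, ∀ v, sympBilin d F w v = φ v := by
  refine ⟨((sympBilin d F).toDual sympBilin_nondegenerate).symm φ, fun v => ?_⟩
  rw [← LinearMap.BilinForm.toDual_def (sympBilin_nondegenerate (F := F) (m := d)), LinearEquiv.apply_symm_apply]

/-- Two forms with the same polar form differ by the square of a functional. -/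
lemma exists_w [Fintype F] [CharP F 2] {Q Q' : (Fin d ⊕ Fin d → F) → F} (hQ : IsF Q) (hQ' : IsF Q') :
    ∃ w, ∀ v, Q' v = Q v + sympBilin d F w v ^ 2 := by
  obtain ⟨φ, hφ⟩ := exists_functional (fun v => Q' v - Q v) (fun u v => by rw [hQ.add, hQ'.add]; ring)
    (fun c v => by rw [hQ.smul, hQ'.smul]; ring)
  obtain ⟨w, hw⟩ := exists_repr φ
  exact ⟨w, fun v => by rw [hw, hφ]; ring⟩

lemma mulVec_symp {g : GL (Fin d ⊕ Fin d) F} (hg : g ∈ Cfsg.spGL d F) (u v : Fin d ⊕ Fin d → F) :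
    sympBilin d F ((g : Matrix (Fin d ⊕ Fin d) (Fin d ⊕ Fin d) F) *ᵥ u) ((g : Matrix (Fin d ⊕ Fin d) (Fin d ⊕ Fin d) F) *ᵥ v) = sympBilin d F u v := by
  rw [sympBilin_apply, sympBilin_apply]; exact hg u v

lemma isF_comp {Q : (Fin d ⊕ Fin d → F) → F} (hQ : IsF Q) {g : GL (Fin d ⊕ Fin d) F} (hg : g ∈ Cfsg.spGL d F) :
    IsF fun v => Q ((g : Matrix (Fin d ⊕ Fin d) (Fin d ⊕ Fin d) F) *ᵥ v) :=
  ⟨fun c v => by simp only [Matrix.mulVec_smul, hQ.smul],
    fun u v => by simp only [Matrix.mulVec_add, hQ.add, mulVec_symp hg]⟩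

lemma isF_shift [CharP F 2] {Q : (Fin d ⊕ Fin d → F) → F} (hQ : IsF Q) (w : Fin d ⊕ Fin d → F) :
    IsF fun v => Q v + sympBilin d F w v ^ 2 :=
  ⟨fun c v => by simp only [hQ.smul, map_smul, smul_eq_mul]; ring,
    fun u v => by
      simp only [hQ.add, map_add]
      linear_combination (sympBilin d F w u * sympBilin d F w v) * two_eq (F := F)⟩

/-- The shift of `Q` by `w` is the transform of `Q` by a transvection when `Q w` has trivial trace. -/
lemma exists_shift_conj [CharP F 2] {Q : (Fin d ⊕ Fin d → F) → F} (hQ : IsF Q) {w : Fin d ⊕ Fin d → F}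
    (hw : ∃ a : F, a ^ 2 + a = Q w) :
    ∃ g ∈ Cfsg.spGL d F, ∀ v, Q ((g : Matrix (Fin d ⊕ Fin d) (Fin d ⊕ Fin d) F) *ᵥ v) = Q v + sympBilin d F w v ^ 2 := by
  obtain ⟨a, ha⟩ := hw
  obtain ⟨c, hc⟩ : ∃ c : F, c + c ^ 2 * Q w = 1 := by
    by_cases ha0 : a = 0
    · exact ⟨1, by rw [← ha, ha0]; ring⟩
    · refine ⟨a⁻¹, ?_⟩
      rw [← ha]; field_simp
      linear_combination two_eq (F := F)
  refine ⟨(spEquiv d F (tmat w c)).1, (spEquiv d F (tmat w c)).2, fun v => ?_⟩
  rw [spEquiv_coe]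
  show Q (sympTransvection d w c *ᵥ v) = _
  rw [sympTransvection_mulVec, hQ.add, hQ.smul, map_smul, smul_eq_mul, ← sympBilin_apply, flip_eq w v]
  linear_combination (sympBilin d F w v ^ 2) * hc

/-- The main reduction: every form with polar form `f` is reached from `Q` after a shift by a suitable fixed vector. -/
lemma exists_conj_of_fixed [Fintype F] [CharP F 2] {Q Q' : (Fin d ⊕ Fin d → F) → F} (hQ : IsF Q) (hQ' : IsF Q')
    (w : Fin d ⊕ Fin d → F) (hw : ∀ v, Q' v = Q v + sympBilin d F w v ^ 2) {u : Fin d ⊕ Fin d → F}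
    (hu : Q' u = Q w) :
    ∃ g ∈ Cfsg.spGL d F, ∀ v, Q ((g : Matrix (Fin d ⊕ Fin d) (Fin d ⊕ Fin d) F) *ᵥ v) = Q' v + sympBilin d F u v ^ 2 := by
  obtain ⟨g, hg, h⟩ := exists_shift_conj hQ (w := w + u) ⟨sympBilin d F w u, by
    rw [hQ.add]
    have := hw u
    linear_combination this - hu + (- Q w + sympBilin d F w u ^ 2) * two_eq (F := F)⟩
  refine ⟨g, hg, fun v => ?_⟩
  rw [h, hw, map_add, LinearMap.add_apply]
  linear_combination (sympBilin d F w v * sympBilin d F u v) * two_eq (F := F)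

lemma mem_sim {Q : (Fin d ⊕ Fin d → F) → F} (hd : 0 < d) (hQ : IsF Q) {g : GL (Fin d ⊕ Fin d) F}
    (hg : g ∈ Cfsg.spGL d F) : g ∈ Cfsg.Geo.quadSimilarityGroup Q ↔ ∀ v, Q ((g : Matrix (Fin d ⊕ Fin d) (Fin d ⊕ Fin d) F) *ᵥ v) = Q v := by
  refine ⟨fun ⟨c, hc⟩ => ?_, fun h => ⟨1, fun v => by rw [Units.val_one, one_mul]; exact h v⟩⟩
  obtain ⟨y, hy⟩ := exists_pair_one (F := F) (u := Pi.single (Sum.inl ⟨0, hd⟩) (1 : F))
    (by simp [Pi.single_eq_zero_iff])
  have h := mulVec_symp hg (Pi.single (Sum.inl ⟨0, hd⟩) (1 : F)) y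
  rw [← sympBilin_apply] at hy
  set u : Fin d ⊕ Fin d → F := Pi.single (Sum.inl ⟨0, hd⟩) (1 : F)
  have e := hc (u + y)
  rw [Matrix.mulVec_add, hQ.add, hQ.add, hc, hc, h, hy] at e
  have hc1 : (c : F) = 1 := by linear_combination -e
  exact fun v => by rw [hc, hc1, one_mul]

/-- A conjugate lies in the stabiliser of `Q` when it fixes a transform of `Q`. -/
lemma conj_mem {Q Q' : (Fin d ⊕ Fin d → F) → F} (hd : 0 < d) (hQ : IsF Q) {g x : GL (Fin d ⊕ Fin d) F}
    (hg : g ∈ Cfsg.spGL d F) (hx : x ∈ Cfsg.spGL d F) (h : ∀ v, Q ((g : Matrix (Fin d ⊕ Fin d) (Fin d ⊕ Fin d) F) *ᵥ v) = Q' v)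
    (hinv : ∀ v, Q' ((x : Matrix (Fin d ⊕ Fin d) (Fin d ⊕ Fin d) F) *ᵥ v) = Q' v) : g * x * g⁻¹ ∈ Cfsg.Geo.quadSimilarityGroup Q := by
  refine (mem_sim hd hQ (mul_mem (mul_mem hg hx) (inv_mem hg))).2 fun v => ?_
  rw [Units.val_mul, Units.val_mul, ← Matrix.mulVec_mulVec, ← Matrix.mulVec_mulVec, h, hinv, ← h, Matrix.mulVec_mulVec,
    Units.mul_inv, Matrix.one_mulVec]

/-- Every isometry fixes some form with polar form `f`. -/
lemma exists_inv [Fintype F] [CharP F 2] {Q : (Fin d ⊕ Fin d → F) → F} (hQ : IsF Q) {x : GL (Fin d ⊕ Fin d) F}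
    (hx : x ∈ Cfsg.spGL d F) :
    ∃ w, ∀ v, Q ((x : Matrix (Fin d ⊕ Fin d) (Fin d ⊕ Fin d) F) *ᵥ v) + sympBilin d F w ((x : Matrix (Fin d ⊕ Fin d) (Fin d ⊕ Fin d) F) *ᵥ v) ^ 2 =
      Q v + sympBilin d F w v ^ 2 := by
  obtain ⟨φ, hφ⟩ := exists_functional (fun v => Q ((x : Matrix (Fin d ⊕ Fin d) (Fin d ⊕ Fin d) F) *ᵥ v) + Q v)
    (fun u v => by
      simp only [Matrix.mulVec_add, hQ.add, mulVec_symp hx]
      linear_combination (sympBilin d F u v) * two_eq (F := F))
    (fun c v => by simp only [Matrix.mulVec_smul, hQ.smul]; ring)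
  set N : Module.End F (Fin d ⊕ Fin d → F) := Matrix.toLin' (x : Matrix (Fin d ⊕ Fin d) (Fin d ⊕ Fin d) F) - 1 with hN
  have hker : LinearMap.ker N ≤ LinearMap.ker φ := fun v hv => by
    rw [hN, LinearMap.mem_ker, LinearMap.sub_apply, Module.End.one_apply, sub_eq_zero, Matrix.toLin'_apply] at hv
    refine LinearMap.mem_ker.2 (sq_inj ?_)
    rw [hφ, hv]; linear_combination Q v * two_eq (F := F)
  obtain ⟨χ, hχ⟩ := LinearMap.exists_extend ((Submodule.liftQ (LinearMap.ker N) φ hker) ∘ₗ N.quotKerEquivRange.symm.toLinearMap)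
  obtain ⟨w, hw⟩ := exists_repr χ
  refine ⟨w, fun v => ?_⟩
  have h1 : χ (N v) = φ v := by
    have := LinearMap.congr_fun hχ ⟨N v, LinearMap.mem_range_self N v⟩
    rw [LinearMap.comp_apply, Submodule.subtype_apply, LinearMap.comp_apply, LinearEquiv.coe_coe,
      LinearMap.quotKerEquivRange_symm_apply_image N v _, Submodule.mkQ_apply, Submodule.liftQ_apply] at this
    exact this
  rw [← hw, hN, LinearMap.sub_apply, Module.End.one_apply, Matrix.toLin'_apply, map_sub] at h1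
  have h2 := hφ v
  linear_combination h2 + (sympBilin d F w ((x : Matrix (Fin d ⊕ Fin d) (Fin d ⊕ Fin d) F) *ᵥ v) - sympBilin d F w v + φ v) * h1 +
    (Q ((x : Matrix (Fin d ⊕ Fin d) (Fin d ⊕ Fin d) F) *ᵥ v) - sympBilin d F w v ^ 2 + sympBilin d F w ((x : Matrix (Fin d ⊕ Fin d) (Fin d ⊕ Fin d) F) *ᵥ v) * sympBilin d F w v) * two_eq (F := F)

/-- An involution fixing a form that is singular on its fixed space. -/
lemma lagrangian [Fintype F] [CharP F 2] {Q' : (Fin d ⊕ Fin d → F) → F} (hQ' : IsF Q') {x : GL (Fin d ⊕ Fin d) F}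
    (hx : x ∈ Cfsg.spGL d F) (hx2 : (x : Matrix (Fin d ⊕ Fin d) (Fin d ⊕ Fin d) F) * (x : Matrix (Fin d ⊕ Fin d) (Fin d ⊕ Fin d) F) = 1)
    (hinv : ∀ v, Q' ((x : Matrix (Fin d ⊕ Fin d) (Fin d ⊕ Fin d) F) *ᵥ v) = Q' v)
    (hK : ∀ u, (x : Matrix (Fin d ⊕ Fin d) (Fin d ⊕ Fin d) F) *ᵥ u = u → Q' u = 0) :
    finrank F ↥(LinearMap.ker (Matrix.toLin' (x : Matrix (Fin d ⊕ Fin d) (Fin d ⊕ Fin d) F) - 1 : Module.End F (Fin d ⊕ Fin d → F))) = d ∧
      Even d := by
  set B := sympBilin d F with hBdef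
  set N : Module.End F (Fin d ⊕ Fin d → F) := Matrix.toLin' (x : Matrix (Fin d ⊕ Fin d) (Fin d ⊕ Fin d) F) - 1 with hN
  set K := LinearMap.ker N with hKdef
  have hNv : ∀ v, N v = (x : Matrix (Fin d ⊕ Fin d) (Fin d ⊕ Fin d) F) *ᵥ v - v := fun v => by simp [hN]
  have hmemK : ∀ u, u ∈ K ↔ (x : Matrix (Fin d ⊕ Fin d) (Fin d ⊕ Fin d) F) *ᵥ u = u := fun u => by
    rw [hKdef, LinearMap.mem_ker, hNv, sub_eq_zero]
  have hrange : LinearMap.range N ≤ K := by
    rintro _ ⟨v, rfl⟩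
    rw [hmemK, hNv, Matrix.mulVec_sub, Matrix.mulVec_mulVec, hx2, Matrix.one_mulVec]
    funext i
    simp only [Pi.sub_apply]
    linear_combination (v i - ((x : Matrix (Fin d ⊕ Fin d) (Fin d ⊕ Fin d) F) *ᵥ v) i) * two_eq (F := F)
  have hiso : K ≤ B.orthogonal K := fun u hu v hv => by
    show B v u = 0
    have h := hK (v + u) (by rw [Matrix.mulVec_add, (hmemK v).1 hv, (hmemK u).1 hu])
    rw [hQ'.add, hK v ((hmemK v).1 hv), hK u ((hmemK u).1 hu)] at h
    linear_combination h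
  have horth : finrank F ↥(B.orthogonal K) + finrank F K = d + d := by
    have := LinearMap.BilinForm.finrank_orthogonal (sympBilin_nondegenerate (F := F) (m := d)) K
    rw [Module.finrank_fintype_fun_eq_card, Fintype.card_sum, Fintype.card_fin] at this
    have h1 := Submodule.finrank_le (R := F) K
    rw [Module.finrank_fintype_fun_eq_card, Fintype.card_sum, Fintype.card_fin] at h1
    rw [this]; omega
  have h1 := Submodule.finrank_mono hiso
  have h2 := LinearMap.finrank_range_add_finrank_ker N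
  rw [Module.finrank_fintype_fun_eq_card, Fintype.card_sum, Fintype.card_fin, ← hKdef] at h2
  have h3 := Submodule.finrank_mono hrange
  have hKd : finrank F K = d := by omega
  refine ⟨hKd, ?_⟩
  obtain ⟨C, hC⟩ := Submodule.exists_isCompl K
  let β : LinearMap.BilinForm F (Fin d ⊕ Fin d → F) := B ∘ₗ N
  have hβ : ∀ a b, β a b = B (N a) b := fun a b => rfl
  have hβA : β.IsAlt := fun a => by
    rw [hβ, hNv, map_sub, LinearMap.sub_apply, sympBilin_isAlt.self_eq_zero, sub_zero]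
    have h := hinv a
    rw [show (x : Matrix (Fin d ⊕ Fin d) (Fin d ⊕ Fin d) F) *ᵥ a = a + N a by rw [hNv]; abel, hQ'.add, hK _ ((hmemK _).1 (hrange ⟨a, rfl⟩))] at h
    rw [show (x : Matrix (Fin d ⊕ Fin d) (Fin d ⊕ Fin d) F) *ᵥ a = a + N a by rw [hNv]; abel, map_add, LinearMap.add_apply, sympBilin_isAlt.self_eq_zero,
      zero_add, flip_eq]
    linear_combination h
  have hnd : CfsgLib.SympSemiR.Nd β C := by
    intro u hu hall
    have hNu : N u = 0 := sympBilin_separatingLeft _ fun v => by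
      obtain ⟨k, hk, c, hc, rfl⟩ := Submodule.mem_sup.1 (hC.sup_eq_top ▸ Submodule.mem_top : v ∈ K ⊔ C)
      rw [map_add, show B (N u) c = 0 from hall c hc, add_zero, hNv, map_sub, LinearMap.sub_apply]
      conv_lhs => arg 1; rw [← (hmemK k).1 hk]
      rw [mulVec_symp hx, sub_self]
    exact (Submodule.disjoint_def.1 hC.symm.disjoint) u hu hNu
  have := CfsgLib.SympSemiR.nd_even hβA hnd
  have h4 := Submodule.finrank_add_eq_of_isCompl hC
  rw [Module.finrank_fintype_fun_eq_card, Fintype.card_sum, Fintype.card_fin] at h4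
  rwa [show finrank F C = d by omega] at this

/-- An involution fixing only forms of plus type, for even `d`. -/
lemma exists_involution [CharP F 2] (hd : 0 < d) (he : Even d) :
    ∃ x : GL (Fin d ⊕ Fin d) F, x ∈ Cfsg.spGL d F ∧ (x : Matrix (Fin d ⊕ Fin d) (Fin d ⊕ Fin d) F) ^ 2 = 1 ∧
      (∀ c : F, (x : Matrix (Fin d ⊕ Fin d) (Fin d ⊕ Fin d) F) ≠ c • 1) ∧
      ∀ Q' : (Fin d ⊕ Fin d → F) → F, IsF Q' → (∀ v, Q' ((x : Matrix (Fin d ⊕ Fin d) (Fin d ⊕ Fin d) F) *ᵥ v) = Q' v) →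
        ∀ a : Fin d → F, Q' (Sum.elim a 0) = 0 := by
  classical
  have hd2 : d % 2 = 0 := Nat.even_iff.1 he
  let σ : Fin d → Fin d := fun i => ⟨if i.1 % 2 = 0 then i.1 + 1 else i.1 - 1, by split_ifs <;> omega⟩
  have hσ : Function.Involutive σ := fun i => by
    apply Fin.ext
    simp only [σ]
    split_ifs <;> omega
  have hσne : ∀ i, σ i ≠ i := fun i h => by
    have := congrArg Fin.val h
    simp only [σ] at this
    split_ifs at this <;> omega
  let T : Module.End F (Fin d ⊕ Fin d → F) := LinearMap.pi (Sum.elim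
    (fun i => (LinearMap.proj (Sum.inl i) : (Fin d ⊕ Fin d → F) →ₗ[F] F) + LinearMap.proj (Sum.inr (σ i)))
    (fun i => LinearMap.proj (Sum.inr i)))
  have hTl : ∀ v i, T v (.inl i) = v (.inl i) + v (.inr (σ i)) := fun v i => rfl
  have hTr : ∀ v i, T v (.inr i) = v (.inr i) := fun v i => rfl
  have hT2 : T * T = 1 := by
    refine LinearMap.ext fun v => funext fun s => ?_
    rw [Module.End.mul_apply, Module.End.one_apply]
    rcases s with i | i
    · rw [hTl, hTl, hTr]; linear_combination v (.inr (σ i)) * two_eq (F := F)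
    · rw [hTr, hTr]
  let M : Matrix (Fin d ⊕ Fin d) (Fin d ⊕ Fin d) F := LinearMap.toMatrix' T
  have hM2 : M * M = 1 := by
    rw [← LinearMap.toMatrix'_comp, ← Module.End.mul_eq_comp, hT2]; exact LinearMap.toMatrix'_id
  let x : GL (Fin d ⊕ Fin d) F := ⟨M, M, hM2, hM2⟩
  have hxv : ∀ v, (x : Matrix (Fin d ⊕ Fin d) (Fin d ⊕ Fin d) F) *ᵥ v = T v := fun v => LinearMap.toMatrix'_mulVec T v
  have hx : x ∈ Cfsg.spGL d F := fun u v => by
    show sympForm d F (M *ᵥ u) (M *ᵥ v) = _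
    rw [show M *ᵥ u = T u from hxv u, show M *ᵥ v = T v from hxv v, sympForm_eq_sum, sympForm_eq_sum]
    simp only [hTl, hTr, Finset.sum_sub_distrib, add_mul, mul_add, Finset.sum_add_distrib]
    have e : ∑ i, u (.inr i) * v (.inr (σ i)) = ∑ i, u (.inr (σ i)) * v (.inr i) := by
      rw [← Equiv.sum_comp hσ.toPerm fun i => u (.inr (σ i)) * v (.inr i)]
      exact Finset.sum_congr rfl fun i _ => by show _ = u (.inr (σ (σ i))) * v (.inr (σ i)); rw [hσ]
    linear_combination e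
  refine ⟨x, hx, by rw [pow_two]; exact hM2, fun c h => ?_, fun Q' hQ' hinv a => ?_⟩
  · let v : Fin d ⊕ Fin d → F := Pi.single (Sum.inr ⟨0, hd⟩) 1
    have hv := hxv v
    rw [h, Matrix.smul_mulVec, Matrix.one_mulVec] at hv
    have := congrFun hv (Sum.inl (σ ⟨0, hd⟩))
    rw [hTl, hσ] at this
    simp [v] at this
  · let v : Fin d ⊕ Fin d → F := Sum.elim 0 (a ∘ σ)
    have hTv : T v = v + Sum.elim a 0 := funext fun s => by
      rcases s with i | i
      · rw [hTl]; simp [v, hσ i]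
      · rw [hTr]; simp [v]
    have h := hinv v
    rw [hxv, hTv, hQ'.add] at h
    have h0 : sympBilin d F v (Sum.elim a 0) = 0 := by
      rw [sympBilin_apply, sympForm_eq_sum]
      refine Finset.sum_involution (fun i _ => σ i) (fun i _ => ?_) (fun i _ _ => hσne i) (fun i _ => Finset.mem_univ _)
        (fun i _ => hσ i)
      simp only [v, Sum.elim_inl, Sum.elim_inr, Function.comp_apply, Pi.zero_apply, mul_zero, sub_zero, hσ i]
      linear_combination (a (σ i) * a i) * two_eq (F := F)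
    linear_combination h - h0

/-- A fixed-point-free element fixes at most one transform of `Q`. -/
lemma fixed_unique [Fintype F] [CharP F 2] {Q : (Fin d ⊕ Fin d → F) → F} (hd : 0 < d) (hQ : IsF Q)
    {x g₁ g₂ : GL (Fin d ⊕ Fin d) F} (hx : x ∈ Cfsg.spGL d F) (hg₁ : g₁ ∈ Cfsg.spGL d F) (hg₂ : g₂ ∈ Cfsg.spGL d F)
    (hfree : ∀ v, (x : Matrix (Fin d ⊕ Fin d) (Fin d ⊕ Fin d) F) *ᵥ v = v → v = 0)
    (h₁ : g₁⁻¹ * x * g₁ ∈ Cfsg.Geo.quadSimilarityGroup Q) (h₂ : g₂⁻¹ * x * g₂ ∈ Cfsg.Geo.quadSimilarityGroup Q) :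
    g₁⁻¹ * g₂ ∈ Cfsg.Geo.quadSimilarityGroup Q := by
  have key : ∀ g ∈ Cfsg.spGL d F, g⁻¹ * x * g ∈ Cfsg.Geo.quadSimilarityGroup Q → ∀ v,
      Q (((g⁻¹ : GL (Fin d ⊕ Fin d) F) : Matrix (Fin d ⊕ Fin d) (Fin d ⊕ Fin d) F) *ᵥ ((x : Matrix (Fin d ⊕ Fin d) (Fin d ⊕ Fin d) F) *ᵥ v)) =
        Q (((g⁻¹ : GL (Fin d ⊕ Fin d) F) : Matrix (Fin d ⊕ Fin d) (Fin d ⊕ Fin d) F) *ᵥ v) := fun g hg hgx v => by
    have := (mem_sim hd hQ (mul_mem (mul_mem (inv_mem hg) hx) hg)).1 hgx (((g⁻¹ : GL (Fin d ⊕ Fin d) F) : Matrix (Fin d ⊕ Fin d) (Fin d ⊕ Fin d) F) *ᵥ v)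
    rwa [Matrix.mulVec_mulVec, ← Units.val_mul, mul_inv_cancel_right, Units.val_mul, ← Matrix.mulVec_mulVec] at this
  obtain ⟨w, hw⟩ := exists_w (isF_comp hQ (inv_mem hg₁)) (isF_comp hQ (inv_mem hg₂))
  have hw0 : w = 0 := by
    refine hfree w (sub_eq_zero.1 (sympBilin_separatingLeft _ fun v => ?_))
    rw [map_sub, LinearMap.sub_apply, sub_eq_zero]
    have h1 := key g₁ hg₁ h₁ (((x⁻¹ : GL (Fin d ⊕ Fin d) F) : Matrix (Fin d ⊕ Fin d) (Fin d ⊕ Fin d) F) *ᵥ v)
    have h2 := key g₂ hg₂ h₂ (((x⁻¹ : GL (Fin d ⊕ Fin d) F) : Matrix (Fin d ⊕ Fin d) (Fin d ⊕ Fin d) F) *ᵥ v)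
    rw [Matrix.mulVec_mulVec _ (x : Matrix (Fin d ⊕ Fin d) (Fin d ⊕ Fin d) F), Units.mul_inv, Matrix.one_mulVec] at h1 h2
    rw [hw, hw, h1] at h2
    have h3 := sq_inj (add_left_cancel h2)
    rw [h3]
    conv_rhs => rw [← mulVec_symp hx, Matrix.mulVec_mulVec _ (x : Matrix (Fin d ⊕ Fin d) (Fin d ⊕ Fin d) F), Units.mul_inv, Matrix.one_mulVec]
  refine (mem_sim hd hQ (mul_mem (inv_mem hg₁) hg₂)).2 fun v => ?_
  have := hw ((g₂ : Matrix (Fin d ⊕ Fin d) (Fin d ⊕ Fin d) F) *ᵥ v)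
  rw [hw0, map_zero, LinearMap.zero_apply, Matrix.mulVec_mulVec _ ((g₂⁻¹ : GL (Fin d ⊕ Fin d) F) : Matrix (Fin d ⊕ Fin d) (Fin d ⊕ Fin d) F),
    Units.inv_mul, Matrix.one_mulVec, Matrix.mulVec_mulVec, ← Units.val_mul] at this
  linear_combination -this

set_option maxHeartbeats 1600000 in
/-- Elements of prime order of PSp_n(q), q even, and the subgroups of orthogonal type. Here `T = Sp_{2d}(F)` for a field `F` of characteristic 2 with `q` elements (`d ≥ 2`, `(d, q) ≠ (2, 2)`), realised as the invertible matrices preserving the standard alternating form; `Q` is a non-degenerate quadratic form on `F^{2d}` whose polar form is that alternating form, and `H` is the subgroup of `T` preserving `Q` up to a scalar (equivalently preserving `Q`) — a subgroup of type O^±_{2d}(q) (maximality is not assumed); `Q` is of plus type when `F^{2d}` contains a `d`-dimensional subspace on which `Q` vanishes, of minus type otherwise. Ω is the set of cosets of `H` in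 `T`, so an element of `T` of prime order `r` (`x ∈ T` with `x^r` scalar, `x` not scalar) fixes a point of Ω exactly when some `T`-conjugate of `x` preserves `Q`. Let `r` be a prime dividing the index of `H`. Then every element of `T` of order `r` fixes a point of Ω if and only if `r = 2` and either `Q` is of plus type or `d` is odd. -/
theorem result {F : Type*} [Field F] [Fintype F] {p : ℕ} [Fact p.Prime] [CharP F p] {q : ℕ} (hq : Fintype.card F = q)
    (hp : p = 2) (d : ℕ) (hd : 2 ≤ d) (hT : (d, q) ≠ (2, 2)) (Q : (Fin d ⊕ Fin d → F) → F) (hQ : Cfsg.Geo.IsNondegenerateQuadraticForm Q)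
    (hQf : ∀ u v, QuadraticMap.polar Q u v = Cfsg.sympForm d F u v)
    (r : ℕ) [Fact r.Prime]
    (hΩ : r ∣ (Cfsg.Geo.quadSimilarityGroup Q).relIndex (Cfsg.spGL d F)) :
    (∀ x ∈ Cfsg.spGL d F, (∃ z : F, ((x ^ r : GL (Fin d ⊕ Fin d) F) : Matrix (Fin d ⊕ Fin d) (Fin d ⊕ Fin d) F) = z • (1 : Matrix (Fin d ⊕ Fin d) (Fin d ⊕ Fin d) F)) →
      (∀ z : F, (x : Matrix (Fin d ⊕ Fin d) (Fin d ⊕ Fin d) F) ≠ z • (1 : Matrix (Fin d ⊕ Fin d) (Fin d ⊕ Fin d) F)) →
      ∃ g ∈ Cfsg.spGL d F, g⁻¹ * x * g ∈ Cfsg.Geo.quadSimilarityGroup Q) ↔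
    (r = 2 ∧ (Cfsg.Geo.IsPlusTypeOn Q ⊤ ∨ Odd d)) := by
  classical
  subst hp
  have hQF : IsF Q := ⟨hQ.smul, fun u v => by
    rw [sympBilin_apply, ← hQf, QuadraticMap.polar]; ring⟩
  have hd0 : 0 < d := by omega
  have hr0 : Nat.Prime r := Fact.out
  constructor
  · intro hall
    by_cases hr2 : r = 2
    · refine ⟨hr2, ?_⟩
      subst hr2
      by_contra hcon
      rw [not_or, Nat.not_odd_iff_even] at hcon
      obtain ⟨x, hx, hx2, hxns, hxL⟩ := exists_involution (F := F) hd0 hcon.2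
      obtain ⟨g, hg, hgx⟩ := hall x hx ⟨1, by rw [Units.val_pow_eq_pow_val, hx2, one_smul]⟩ hxns
      have hgx' := (mem_sim hd0 hQF (mul_mem (mul_mem (inv_mem hg) hx) hg)).1 hgx
      set Q' := fun v => Q (((g⁻¹ : GL (Fin d ⊕ Fin d) F) : Matrix (Fin d ⊕ Fin d) (Fin d ⊕ Fin d) F) *ᵥ v) with hQ'
      have hz := hxL Q' (isF_comp hQF (inv_mem hg)) fun v => by
        have := hgx' (((g⁻¹ : GL (Fin d ⊕ Fin d) F) : Matrix (Fin d ⊕ Fin d) (Fin d ⊕ Fin d) F) *ᵥ v)
        rwa [Matrix.mulVec_mulVec, ← Units.val_mul, mul_inv_cancel_right, Units.val_mul, ← Matrix.mulVec_mulVec] at this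
      let ι : (Fin d → F) →ₗ[F] (Fin d ⊕ Fin d → F) :=
        Matrix.toLin' ((g⁻¹ : GL (Fin d ⊕ Fin d) F) : Matrix (Fin d ⊕ Fin d) (Fin d ⊕ Fin d) F) ∘ₗ LinearMap.pi (Sum.elim (fun i => LinearMap.proj i) 0)
      have hι : ∀ a, ι a = ((g⁻¹ : GL (Fin d ⊕ Fin d) F) : Matrix (Fin d ⊕ Fin d) (Fin d ⊕ Fin d) F) *ᵥ Sum.elim a 0 := fun a => by
        simp only [ι, LinearMap.comp_apply, Matrix.toLin'_apply]
        congr 1
        funext s; rcases s with i | i <;> rfl
      refine hcon.1 ⟨LinearMap.range ι, le_top, ?_, ?_⟩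
      · rintro _ ⟨a, rfl⟩
        rw [hι]; exact hz a
      · rw [LinearMap.finrank_range_of_inj, Module.finrank_fin_fun, finrank_top, Module.finrank_fintype_fun_eq_card,
          Fintype.card_sum, Fintype.card_fin, two_mul]
        intro a b hab
        rw [hι, hι] at hab
        have h := congrArg (fun u => (g : Matrix (Fin d ⊕ Fin d) (Fin d ⊕ Fin d) F) *ᵥ u) hab
        simp only [Matrix.mulVec_mulVec, Units.mul_inv, Matrix.one_mulVec] at h
        exact funext fun i => congrFun h (Sum.inl i)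
    · exfalso
      have hrodd : Odd r := hr0.odd_of_ne_two hr2
      have hrF : (r : F) = 1 := by
        obtain ⟨m, hm⟩ := hrodd
        rw [hm]; push_cast; linear_combination (m : F) * two_eq (F := F)
      let H := (Cfsg.Geo.quadSimilarityGroup Q).subgroupOf (Cfsg.spGL d F)
      have hidx : r ∣ H.index := hΩ
      by_cases hdiv : r ∣ q ^ (2 * d) - 1
      · -- a fixed-point-free element
        have hq1 : 1 ≤ q := by rw [← hq]; exact Fintype.card_pos
        have hi2 : orderOf (q : ZMod r) ∣ 2 * d := (CfsgLib.OrderR.orderOf_dvd_iff hq1).2 hdiv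
        have hrq : (q : ZMod r) ≠ 0 := by
          intro h
          rw [ZMod.natCast_eq_zero_iff] at h
          have h1 : r ∣ q ^ (2 * d) := dvd_pow h (by omega)
          have h2 := Nat.dvd_sub h1 hdiv
          rw [Nat.sub_sub_self (Nat.one_le_pow _ _ hq1)] at h2
          exact hr0.not_dvd_one h2
        obtain ⟨e, he⟩ : ∃ e, e * (if Even (orderOf (q : ZMod r)) then orderOf (q : ZMod r) else 2 * orderOf (q : ZMod r)) = 2 * d := by
          split_ifs with hev
          · exact ⟨_, Nat.div_mul_cancel hi2⟩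
          · obtain ⟨e, he⟩ := (Nat.coprime_two_right.2 (Nat.not_even_iff_odd.1 hev)).dvd_of_dvd_mul_left hi2
            exact ⟨e, by rw [he]; ring⟩
        obtain ⟨x, hxr, hrange⟩ := CfsgLib.SympWitness.exists_witness (F := F) hq rfl rfl
          (by rw [hrF]; exact one_ne_zero) hrq (k := 0) (d := d) (e := e) (by rw [mul_zero, add_zero]; exact he)
        set X : GL (Fin d ⊕ Fin d) F := (spEquiv d F x).1 with hX
        have hXs : X ∈ Cfsg.spGL d F := (spEquiv d F x).2
        have hXv : (X : Matrix (Fin d ⊕ Fin d) (Fin d ⊕ Fin d) F) = x.1 := rfl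
        have hfree : ∀ v, (X : Matrix (Fin d ⊕ Fin d) (Fin d ⊕ Fin d) F) *ᵥ v = v → v = 0 := by
          intro v hv
          have hsurj : Function.Surjective (Matrix.toLin' (x : Matrix (Fin d ⊕ Fin d) (Fin d ⊕ Fin d) F) - 1 :
              Module.End F (Fin d ⊕ Fin d → F)) := LinearMap.range_eq_top.1 (Submodule.eq_top_of_finrank_eq (by
            rw [hrange, Module.finrank_fintype_fun_eq_card, Fintype.card_sum, Fintype.card_fin, he, two_mul]))
          refine LinearMap.injective_iff_surjective.2 hsurj ?_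
          rw [map_zero, LinearMap.sub_apply, Module.End.one_apply, sub_eq_zero, Matrix.toLin'_apply, ← hXv, hv]
        have hXr : X ^ r = 1 := by
          rw [hX, ← SubgroupClass.coe_pow, ← map_pow, hxr, map_one]; rfl
        have hXns : ∀ c : F, (X : Matrix (Fin d ⊕ Fin d) (Fin d ⊕ Fin d) F) ≠ c • 1 := by
          intro c h
          let u : Fin d ⊕ Fin d → F := Pi.single (Sum.inl ⟨0, hd0⟩) 1
          have hu : u ≠ 0 := by simp [u, Pi.single_eq_zero_iff]
          obtain ⟨y, hy⟩ := exists_pair_one hu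
          have h1 := mulVec_symp hXs u y
          rw [h, Matrix.smul_mulVec, Matrix.one_mulVec, Matrix.smul_mulVec, Matrix.one_mulVec, map_smul, map_smul,
            LinearMap.smul_apply, sympBilin_apply, hy, smul_eq_mul, smul_eq_mul, mul_one] at h1
          have hc : c = 1 := sq_inj (by rw [pow_two, h1, one_pow])
          exact hu (hfree u (by rw [h, hc, one_smul, Matrix.one_mulVec]))
        obtain ⟨g, hg, hgx⟩ := hall X hXs ⟨1, by rw [hXr, one_smul]; rfl⟩ hXns
        let X' : ↥(Cfsg.spGL d F) := ⟨X, hXs⟩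
        let P : Subgroup ↥(Cfsg.spGL d F) := Subgroup.zpowers X'
        have hord : orderOf X' = r := orderOf_eq_prime (Subtype.ext hXr) fun h => by
          have h' : X = 1 := congrArg Subtype.val h
          exact hXns 1 (by rw [h', one_smul]; rfl)
        have hP : IsPGroup r ↥P := IsPGroup.of_card (n := 1) (by rw [Nat.card_zpowers, hord, pow_one])
        have hmod := hP.card_modEq_card_fixedPoints (↥(Cfsg.spGL d F) ⧸ H)
        rw [← Subgroup.index] at hmod
        have hfix : ∀ c ∈ MulAction.fixedPoints ↥P (↥(Cfsg.spGL d F) ⧸ H), ∀ a : ↥(Cfsg.spGL d F), (a : _ ⧸ H) = c →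
            (a : GL (Fin d ⊕ Fin d) F)⁻¹ * X * a ∈ Cfsg.Geo.quadSimilarityGroup Q := by
          intro c hc a ha
          have h := hc ⟨X', Subgroup.mem_zpowers X'⟩
          rw [← ha] at h
          have h' : a⁻¹ * (X' * a) ∈ H := QuotientGroup.eq.1 h.symm
          rw [Subgroup.mem_subgroupOf] at h'
          simpa [mul_assoc] using h'
        have hone : Nat.card ↥(MulAction.fixedPoints ↥P (↥(Cfsg.spGL d F) ⧸ H)) = 1 := by
          rw [Nat.card_eq_one_iff_unique]
          refine ⟨⟨fun ⟨c₁, h₁⟩ ⟨c₂, h₂⟩ => Subtype.ext ?_⟩, ⟨⟨((⟨g, hg⟩ : ↥(Cfsg.spGL d F)) : _ ⧸ H), ?_⟩⟩⟩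
          · obtain ⟨a₁, rfl⟩ := QuotientGroup.mk_surjective c₁
            obtain ⟨a₂, rfl⟩ := QuotientGroup.mk_surjective c₂
            refine QuotientGroup.eq.2 (Subgroup.mem_subgroupOf.2 ?_)
            exact fixed_unique hd0 hQF hXs a₁.2 a₂.2 hfree (hfix _ h₁ a₁ rfl) (hfix _ h₂ a₂ rfl)
          · rintro ⟨p, hp⟩
            have hstab : P ≤ MulAction.stabilizer ↥(Cfsg.spGL d F) ((⟨g, hg⟩ : ↥(Cfsg.spGL d F)) : _ ⧸ H) := by
              rw [Subgroup.zpowers_le, MulAction.mem_stabilizer_iff]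
              refine (QuotientGroup.eq.2 (Subgroup.mem_subgroupOf.2 ?_)).symm
              simpa [mul_assoc] using hgx
            exact hstab hp
        rw [hone] at hmod
        have := (Nat.modEq_zero_iff_dvd.2 hidx).symm.trans hmod
        exact hr0.not_dvd_one (Nat.modEq_zero_iff_dvd.1 this.symm)
      · -- a Sylow subgroup fixes a form of each type
        obtain ⟨P⟩ : Nonempty (Sylow r ↥(Cfsg.spGL d F)) := inferInstance
        have hPr : IsPGroup r ↥(P : Subgroup ↥(Cfsg.spGL d F)) := P.isPGroup'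
        obtain ⟨k, hk⟩ := IsPGroup.iff_card.1 hPr
        have hcard : (Fintype.card ↥(P : Subgroup ↥(Cfsg.spGL d F)) : F) = 1 := by
          rw [← Nat.card_eq_fintype_card, hk, Nat.cast_pow, hrF, one_pow]
        let ρ : ↥(P : Subgroup ↥(Cfsg.spGL d F)) → (Fin d ⊕ Fin d → F) → (Fin d ⊕ Fin d → F) :=
          fun p v => (((p : ↥(Cfsg.spGL d F)) : GL (Fin d ⊕ Fin d) F) : Matrix (Fin d ⊕ Fin d) (Fin d ⊕ Fin d) F) *ᵥ v
        have hρ : ∀ p v, p • v = ρ p v := fun p v => rfl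
        have hρB : ∀ p u v, sympBilin d F (ρ p u) (ρ p v) = sympBilin d F u v := fun p u v => mulVec_symp (p : ↥(Cfsg.spGL d F)).2 u v
        obtain ⟨v, hv, hv0⟩ : ∃ v, (∀ p, ρ p v = v) ∧ v ≠ 0 := by
          by_contra hcon
          push Not at hcon
          have hone : Nat.card ↥(MulAction.fixedPoints ↥(P : Subgroup ↥(Cfsg.spGL d F)) (Fin d ⊕ Fin d → F)) = 1 := by
            rw [Nat.card_eq_one_iff_unique]
            exact ⟨⟨fun ⟨a, ha⟩ ⟨b, hb⟩ => Subtype.ext ((hcon a fun p => ha p).trans (hcon b fun p => hb p).symm)⟩,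
              ⟨⟨0, fun p => by rw [hρ]; exact Matrix.mulVec_zero _⟩⟩⟩
          have hmod := hPr.card_modEq_card_fixedPoints (Fin d ⊕ Fin d → F)
          rw [hone, Nat.card_fun, Nat.card_eq_fintype_card (α := F), hq, Nat.card_eq_fintype_card, Fintype.card_sum,
            Fintype.card_fin, ← two_mul] at hmod
          exact hdiv ((Nat.modEq_iff_dvd' (Nat.one_le_pow _ _ (by rw [← hq]; exact Fintype.card_pos))).1 hmod.symm)
        let Q' : (Fin d ⊕ Fin d → F) → F := fun u => ∑ p, Q (ρ p u)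
        have hQ' : IsF Q' := ⟨fun c u => by
            simp only [Q', ρ, Matrix.mulVec_smul, hQF.smul, Finset.mul_sum],
          fun a b => by
            simp only [Q', ρ, Matrix.mulVec_add, hQF.add, Finset.sum_add_distrib]
            congr 1
            rw [Finset.sum_congr rfl fun p _ => hρB p a b, Finset.sum_const, Finset.card_univ, nsmul_eq_mul, hcard, one_mul]⟩
        have hinvQ : ∀ p u, Q' (ρ p u) = Q' u := fun p u => by
          refine Fintype.sum_equiv (Equiv.mulRight p) _ _ fun s => ?_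
          show Q (ρ s (ρ p u)) = Q (ρ (s * p) u)
          rw [← hρ, ← hρ, ← hρ, mul_smul]
        obtain ⟨w, hw⟩ := exists_w hQF hQ'
        obtain ⟨u, hu, huw⟩ : ∃ u, (∀ p, ρ p u = u) ∧ Q' u = Q w := by
          by_cases hQv : Q' v = 0
          · obtain ⟨w0, hw0⟩ := exists_pair_one hv0
            rw [← sympBilin_apply] at hw0
            let w1 := ∑ p, ρ p w0
            have hw1 : ∀ p, ρ p w1 = w1 := fun p => by
              show _ *ᵥ (∑ s, ρ s w0) = _
              rw [Matrix.mulVec_sum]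
              refine Fintype.sum_equiv (Equiv.mulLeft p) _ _ fun s => ?_
              show ρ p (ρ s w0) = ρ (p * s) w0
              rw [← hρ, ← hρ, ← hρ, mul_smul]
            have hvw : sympBilin d F v w1 = 1 := by
              rw [map_sum, Finset.sum_congr rfl fun p _ => show sympBilin d F v (ρ p w0) = 1 by
                rw [← hw0, ← hρB p v w0, hv]]
              rw [Finset.sum_const, Finset.card_univ, nsmul_eq_mul, hcard, one_mul]
            refine ⟨(Q w - Q' w1) • v + w1, fun p => ?_, ?_⟩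
            · show _ *ᵥ _ = _
              rw [Matrix.mulVec_add, Matrix.mulVec_smul]
              exact congrArg₂ (fun a b => (Q w - Q' w1) • a + b) (hv p) (hw1 p)
            · rw [hQ'.add, hQ'.smul, hQv, map_smul, LinearMap.smul_apply, hvw, smul_eq_mul]; ring
          · obtain ⟨l, hl⟩ := exists_sqrt (Q w / Q' v)
            exact ⟨l • v, fun p => by show _ *ᵥ _ = _; rw [Matrix.mulVec_smul]; exact congrArg (l • ·) (hv p),
              by rw [hQ'.smul, hl, div_mul_cancel₀ _ hQv]⟩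
        obtain ⟨g, hg, hgQ⟩ := exists_conj_of_fixed hQF hQ' w hw huw
        let g' : ↥(Cfsg.spGL d F) := ⟨g, hg⟩
        have hle : (P : Subgroup ↥(Cfsg.spGL d F)).map (MulAut.conj g').toMonoidHom ≤ H := by
          rintro _ ⟨p, hp, rfl⟩
          rw [Subgroup.mem_subgroupOf]
          refine conj_mem hd0 hQF hg p.2 hgQ fun a => ?_
          show Q' (ρ ⟨p, hp⟩ a) + sympBilin d F u (ρ ⟨p, hp⟩ a) ^ 2 = _
          rw [hinvQ]
          congr 2
          rw [← hu ⟨p, hp⟩, hρB, hu]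
        have hcardle := Subgroup.card_dvd_of_le hle
        rw [Subgroup.card_map_of_injective (MulEquiv.injective _)] at hcardle
        obtain ⟨m, hm⟩ := hcardle
        have e1 := H.index_mul_card
        have e2 := (P : Subgroup ↥(Cfsg.spGL d F)).index_mul_card
        have hPidx : (P : Subgroup ↥(Cfsg.spGL d F)).index = H.index * m :=
          Nat.eq_of_mul_eq_mul_right Nat.card_pos (by rw [e2, ← e1, hm]; ring)
        exact P.not_dvd_index (by rw [hPidx]; exact Dvd.dvd.mul_right hidx m)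
  · rintro ⟨rfl, hcase⟩ x hx ⟨z, hz⟩ hxns
    have hx2 : (x : Matrix (Fin d ⊕ Fin d) (Fin d ⊕ Fin d) F) * (x : Matrix (Fin d ⊕ Fin d) (Fin d ⊕ Fin d) F) = 1 := by
      rw [Units.val_pow_eq_pow_val] at hz
      obtain ⟨y, hy⟩ := exists_pair_one (F := F) (u := Pi.single (Sum.inl ⟨0, hd0⟩) (1 : F))
        (by simp [Pi.single_eq_zero_iff])
      have hxx := mul_mem hx hx
      have h1 := mulVec_symp hxx (Pi.single (Sum.inl ⟨0, hd0⟩) (1 : F)) y
      rw [Units.val_mul, ← pow_two, hz, Matrix.smul_mulVec, Matrix.one_mulVec, Matrix.smul_mulVec, Matrix.one_mulVec, map_smul, map_smul,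
        LinearMap.smul_apply, sympBilin_apply, hy, smul_eq_mul, smul_eq_mul, mul_one] at h1
      have hz1 : z = 1 := sq_inj (by rw [pow_two, h1, one_pow])
      rw [← pow_two, hz, hz1, one_smul]
    obtain ⟨w, hw⟩ := exists_inv hQF hx
    set Q' := fun v => Q v + sympBilin d F w v ^ 2 with hQ'
    have hQ'F : IsF Q' := isF_shift hQF w
    have hinv : ∀ v, Q' ((x : Matrix (Fin d ⊕ Fin d) (Fin d ⊕ Fin d) F) *ᵥ v) = Q' v := hw
    by_cases hK : ∀ u, (x : Matrix (Fin d ⊕ Fin d) (Fin d ⊕ Fin d) F) *ᵥ u = u → Q' u = 0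
    · obtain ⟨hKd, heven⟩ := lagrangian hQ'F hx hx2 hinv hK
      rcases hcase with ⟨U, -, hUs, hUd⟩ | hodd
      swap
      · exact absurd heven (Nat.not_even_iff_odd.2 hodd)
      rw [finrank_top, Module.finrank_fintype_fun_eq_card, Fintype.card_sum, Fintype.card_fin] at hUd
      set K := LinearMap.ker (Matrix.toLin' (x : Matrix (Fin d ⊕ Fin d) (Fin d ⊕ Fin d) F) - 1 : Module.End F (Fin d ⊕ Fin d → F)) with hKdef
      have hmemK : ∀ u, u ∈ K → Q' u = 0 := fun u hu => hK u (by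
        rw [hKdef, LinearMap.mem_ker, LinearMap.sub_apply, Module.End.one_apply, sub_eq_zero, Matrix.toLin'_apply] at hu
        exact hu)
      let bU := Module.finBasisOfFinrankEq F U (show finrank F U = d by omega)
      let bK := Module.finBasisOfFinrankEq F K hKd
      have hUU : ∀ a ∈ U, ∀ b ∈ U, sympBilin d F a b = 0 := fun a ha b hb => by
        have := hQF.add a b
        rw [hUs _ (U.add_mem ha hb), hUs a ha, hUs b hb] at this
        linear_combination -this
      have hKK : ∀ a ∈ K, ∀ b ∈ K, sympBilin d F a b = 0 := fun a ha b hb => by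
        have := hQ'F.add a b
        rw [hmemK _ (K.add_mem ha hb), hmemK a ha, hmemK b hb] at this
        linear_combination -this
      obtain ⟨A, hA⟩ := witt_matrix (fun i => (bU i : Fin d ⊕ Fin d → F)) (fun i => (bK i : Fin d ⊕ Fin d → F))
        (bU.linearIndependent.map' U.subtype (Submodule.ker_subtype _))
        (bK.linearIndependent.map' K.subtype (Submodule.ker_subtype _))
        (fun i j => by rw [← sympBilin_apply, ← sympBilin_apply, hUU _ (bU i).2 _ (bU j).2, hKK _ (bK i).2 _ (bK j).2])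
      set a : GL (Fin d ⊕ Fin d) F := (spEquiv d F A).1 with ha
      have has : a ∈ Cfsg.spGL d F := (spEquiv d F A).2
      obtain ⟨w', hw'⟩ := exists_w hQF (isF_comp hQ'F has)
      have hzero : ∀ i, sympBilin d F w' (bU i : Fin d ⊕ Fin d → F) = 0 := fun i => by
        have := hw' (bU i : Fin d ⊕ Fin d → F)
        rw [hUs _ (bU i).2, zero_add] at this
        refine sq_inj ?_
        rw [← this, zero_pow two_ne_zero]
        show Q' (A.1 *ᵥ _) = 0
        rw [hA i]
        exact hmemK _ (bK i).2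
      have hw'U : w' ∈ U := by
        have hle : U ≤ (sympBilin d F).orthogonal U := fun u hu v hv => hUU v hv u hu
        have horth := LinearMap.BilinForm.finrank_orthogonal (sympBilin_nondegenerate (F := F) (m := d)) U
        rw [Module.finrank_fintype_fun_eq_card, Fintype.card_sum, Fintype.card_fin] at horth
        rw [Submodule.eq_of_le_of_finrank_eq hle (by omega)]
        intro v hv
        show sympBilin d F v w' = 0
        rw [flip_eq]
        have hlin : (sympBilin d F w') ∘ₗ U.subtype = 0 := bU.ext fun i => by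
          rw [LinearMap.comp_apply, Submodule.subtype_apply, hzero, LinearMap.zero_apply]
        exact LinearMap.congr_fun hlin ⟨v, hv⟩
      obtain ⟨g, hg, hgQ⟩ := exists_shift_conj hQF (w := w') ⟨0, by rw [hUs _ hw'U]; ring⟩
      refine ⟨(g * a⁻¹)⁻¹, inv_mem (mul_mem hg (inv_mem has)), ?_⟩
      rw [inv_inv]
      refine conj_mem hd0 hQF (mul_mem hg (inv_mem has)) hx (fun v => ?_) hinv
      rw [Units.val_mul, ← Matrix.mulVec_mulVec, hgQ, ← hw']
      show Q' _ = Q' v
      rw [Matrix.mulVec_mulVec, Units.mul_inv, Matrix.one_mulVec]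
    · push Not at hK
      obtain ⟨u, hu, hu0⟩ := hK
      obtain ⟨l, hl⟩ := exists_sqrt (Q w / Q' u)
      obtain ⟨g, hg, hgQ⟩ := exists_conj_of_fixed hQF hQ'F w (fun v => rfl) (u := l • u)
        (by rw [hQ'F.smul, hl, div_mul_cancel₀ _ hu0])
      refine ⟨g⁻¹, inv_mem hg, ?_⟩
      rw [inv_inv]
      refine conj_mem hd0 hQF hg hx hgQ fun v => ?_
      show Q' _ + _ = _
      rw [hinv]
      congr 2
      conv_lhs => rw [← show (x : Matrix (Fin d ⊕ Fin d) (Fin d ⊕ Fin d) F) *ᵥ (l • u) = l • u by rw [Matrix.mulVec_smul, hu]]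
      exact mulVec_symp hx _ _

end Cfsg.Agent.S5983
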