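import Cfsg.Statements.S5984
import Cfsg.Agent.Lib.PrimeElusive.UnitPair
import Cfsg.Agent.Lib.PrimeElusive.FormTests
import Cfsg.Agent.Lib.PrimeClasses.Unitary
import Cfsg.Agent.Lib.Maximal99.OrderR
-- import your own Cfsg.Agent.* helpers here

set_option autoImplicit false
set_option linter.unusedSectionVars false
open scoped MatrixGroups
open Cfsg

namespace Cfsg.Agent.S5984

open Matrix CfsgLib.GeomClasses CfsgLib.PrimeElusive

variable {F : Type*} [Field F] [Fintype F] {q n m r : ℕ}

abbrev SUg (n : ℕ) (F : Type*) [Field F] [Fintype F] (q : ℕ) : Subgroup (GL (Fin n) F) :=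
  Cfsg.GU n F q ⊓ Cfsg.Geo.specialLinear (Fin n) F

theorem map_eq_of_mem {P Q : Submodule F (Fin n → F)} (g : GL (Fin n) F)
    (h : ∀ v ∈ P, (g : Matrix (Fin n) (Fin n) F) *ᵥ v ∈ Q) (hd : Module.finrank F P = Module.finrank F Q) :
    P.map (Matrix.toLin' (g : Matrix (Fin n) (Fin n) F)) = Q := by
  have hinj : Function.Injective (Matrix.toLin' (g : Matrix (Fin n) (Fin n) F)) := fun u v huv => by
    rw [Matrix.toLin'_apply, Matrix.toLin'_apply] at huv
    simpa using congrArg ((↑g⁻¹ : Matrix (Fin n) (Fin n) F) *ᵥ ·) huv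
  refine Submodule.eq_of_le_of_finrank_eq (Submodule.map_le_iff_le_comap.2 fun v hv => h v hv) ?_
  rw [← hd]
  exact (Submodule.equivMapOfInjective _ hinj P).finrank_eq.symm

theorem rank_conj (x g : GL (Fin n) F) (s : F) :
    (((g⁻¹ * x * g : GL (Fin n) F) : Matrix (Fin n) (Fin n) F) - s • 1).rank =
      ((x : Matrix (Fin n) (Fin n) F) - s • 1).rank := by
  have h : ((g⁻¹ * x * g : GL (Fin n) F) : Matrix (Fin n) (Fin n) F) - s • 1 =
      (↑g⁻¹ : Matrix (Fin n) (Fin n) F) * ((x : Matrix (Fin n) (Fin n) F) - s • 1) * (g : Matrix (Fin n) (Fin n) F) := by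
    rw [Matrix.mul_sub, Matrix.sub_mul, Matrix.mul_smul, Matrix.mul_one, Matrix.smul_mul, Units.inv_mul]
    simp
  rw [h, Matrix.rank_mul_eq_left_of_isUnit_det _ _ (Matrix.isUnits_det_units g),
    Matrix.rank_mul_eq_right_of_isUnit_det _ _ (Matrix.isUnits_det_units g⁻¹)]

theorem polarPair (hn : n = 2 * m) {D : Fin 2 → Submodule F (Fin n → F)} (hD : Cfsg.Geo.IsMDecomposition (n / 2) D)
    (hDs : ∀ i, Cfsg.Geo.IsTotallySingularFor (Cfsg.hermForm n F q) (D i)) :
    UnitPair.IsPolarPair q m (D 0) (D 1) :=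
  ⟨(hD.finrank_eq 0).trans (by omega), (hD.finrank_eq 1).trans (by omega), hDs 0, hDs 1,
    hD.indep.pairwiseDisjoint (show (0 : Fin 2) ≠ 1 by decide)⟩

theorem mem_stab_of_fix {D : Fin 2 → Submodule F (Fin n → F)} (g : GL (Fin n) F)
    (h₀ : ∀ v ∈ D 0, (g : Matrix (Fin n) (Fin n) F) *ᵥ v ∈ D 0)
    (h₁ : ∀ v ∈ D 1, (g : Matrix (Fin n) (Fin n) F) *ᵥ v ∈ D 1) :
    g ∈ Cfsg.Geo.decompositionStabilizer D := by
  refine ⟨1, fun i => ?_⟩
  fin_cases i
  · exact map_eq_of_mem g h₀ rfl
  · exact map_eq_of_mem g h₁ rfl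

/-- The obstruction to fixing a pair. -/
theorem not_conj (hF : Fintype.card F = q ^ 2) (hn : n = 2 * m) {D : Fin 2 → Submodule F (Fin n → F)}
    (P : UnitPair.IsPolarPair q m (D 0) (D 1)) (hm : 0 < m) {x g : GL (Fin n) F} (hx : x ∈ Cfsg.GU n F q)
    (hg : g ∈ Cfsg.GU n F q) (hstab : g⁻¹ * x * g ∈ Cfsg.Geo.decompositionStabilizer D) {s : F}
    (hs : s ^ (q + 1) = 1) (hodd : Odd ((x : Matrix (Fin n) (Fin n) F) - s • 1).rank)
    (hor : (Odd r ∧ ∃ z : F, (x : Matrix (Fin n) (Fin n) F) ^ r = z • 1) ∨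
      ((x : Matrix (Fin n) (Fin n) F) - s • 1).rank < m) : False := by
  obtain ⟨σ, hσ⟩ := hstab
  set y := g⁻¹ * x * g with hyd
  have hrank : ((y : Matrix (Fin n) (Fin n) F) - s • 1).rank = ((x : Matrix (Fin n) (Fin n) F) - s • 1).rank :=
    rank_conj x g s
  have hσ' : ∀ i, ∀ v ∈ D i, (y : Matrix (Fin n) (Fin n) F) *ᵥ v ∈ D (σ i) := fun i v hv =>
    hσ i ▸ Submodule.mem_map_of_mem (f := Matrix.toLin' (y : Matrix (Fin n) (Fin n) F)) hv
  have h01 : ∀ i : Fin 2, i = 0 ∨ i = 1 := by decide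
  rcases h01 (σ 0) with h | h
  · have h1 : σ 1 = 1 := (h01 (σ 1)).resolve_left fun h1 => absurd (σ.injective (h.trans h1.symm)) (by decide)
    have := UnitPair.even_rank hF hn P (y := y)
      ((Cfsg.GU n F q).mul_mem ((Cfsg.GU n F q).mul_mem ((Cfsg.GU n F q).inv_mem hg) hx) hg)
      (fun v hv => h ▸ hσ' 0 v hv) (fun v hv => h1 ▸ hσ' 1 v hv) hs
    rw [hrank] at this
    exact Nat.not_even_iff_odd.2 hodd this
  · have hswap : ∀ v ∈ D 0, (y : Matrix (Fin n) (Fin n) F) *ᵥ v ∈ D 1 := fun v hv => h ▸ hσ' 0 v hv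
    rcases hor with ⟨hr, z, hz⟩ | hlt
    · -- an odd power of a transposition is a transposition
      have hpow : ∀ k : ℕ, ∀ i, ∀ v ∈ D i, ((y : Matrix (Fin n) (Fin n) F) ^ k) *ᵥ v ∈ D ((σ ^ k) i) := by
        intro k
        induction k with
        | zero => intro i v hv; simpa using hv
        | succ k ih =>
          intro i v hv
          rw [pow_succ', pow_succ', ← Matrix.mulVec_mulVec, Equiv.Perm.mul_apply]
          exact hσ' _ _ (ih i v hv)
      have hσ2 : ∀ τ : Equiv.Perm (Fin 2), τ * τ = 1 := by decide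
      have hσr : σ ^ r = σ := by
        obtain ⟨k, hk⟩ := hr
        rw [hk, pow_succ, pow_mul, pow_two, hσ2, one_pow, one_mul]
      obtain ⟨v, hv, hv0⟩ := Submodule.exists_mem_ne_zero_of_ne_bot (p := D 0) (fun hb => by
        have := P.rank₀; rw [hb, finrank_bot] at this; omega)
      have h2 := hpow r 0 v hv
      have hyr : (y : Matrix (Fin n) (Fin n) F) ^ r = z • 1 := by
        have hc' : (g⁻¹ * x * g) ^ r = g⁻¹ * x ^ r * g := by
          simpa using conj_pow (a := g⁻¹) (b := x) (i := r)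
        rw [← Units.val_pow_eq_pow_val, hyd, hc', Units.val_mul, Units.val_mul, Units.val_pow_eq_pow_val,
          hz, Matrix.mul_smul, Matrix.mul_one, Matrix.smul_mul, Units.inv_mul]
      rw [hσr, h, hyr, Matrix.smul_mulVec, Matrix.one_mulVec] at h2
      have hz0 : z ≠ 0 := fun hz0 => by
        have hu : IsUnit ((y : Matrix (Fin n) (Fin n) F) ^ r) := (Units.isUnit y).pow r
        rw [hyr, hz0, zero_smul] at hu
        have := congrArg (fun M : Matrix (Fin n) (Fin n) F => M *ᵥ v) (isUnit_zero_iff.1 hu)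
        simp only [Matrix.zero_mulVec, Matrix.one_mulVec] at this
        exact hv0 this.symm
      have := Submodule.disjoint_def.1 P.disj _ ((D 0).smul_mem z hv) h2
      exact hv0 ((smul_eq_zero.1 this).resolve_left hz0)
    · have := UnitPair.le_rank P hswap s
      omega

theorem neg_one_pow_card (hF : Fintype.card F = q ^ 2) : (-1 : F) ^ (q + 1) = 1 := by
  have h := FiniteField.pow_card (-1 : F)
  rw [hF] at h
  rcases Nat.even_or_odd q with he | ho
  · rw [(he.pow_of_ne_zero two_ne_zero).neg_one_pow] at h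
    rw [← h, one_pow]
  · rw [ho.add_one.neg_one_pow]

/-- A diagonal element of `SU`. -/
theorem exists_diag (hF : Fintype.card F = q ^ 2) (d : Fin n → F) (hd : ∀ i, d i ^ (q + 1) = 1)
    (hprod : ∏ i, d i = 1) : ∃ x ∈ SUg n F q, (x : Matrix (Fin n) (Fin n) F) = Matrix.diagonal d := by
  have hq := UnitPow.two_le hF
  let x : GL (Fin n) F := Matrix.GeneralLinearGroup.mkOfDetNeZero (Matrix.diagonal d)
    (by rw [Matrix.det_diagonal, hprod]; exact one_ne_zero)
  refine ⟨x, ⟨CfsgLib.ClassicalGroups.diagonal_mem_GU d hd x rfl, MonoidHom.mem_ker.2 (Units.ext ?_)⟩, rfl⟩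
  show (Matrix.diagonal d).det = 1
  rw [Matrix.det_diagonal, hprod]

theorem rank_diag_sub (d : Fin n → F) (s : F) [DecidableEq F] :
    (Matrix.diagonal d - s • 1).rank = Fintype.card {i // d i - s ≠ 0} := by
  rw [← Matrix.rank_diagonal]
  congr 1
  ext i j
  by_cases h : i = j
  · subst h; simp
  · simp [h]

theorem update_ne_scalar {i j : Fin n} (hij : i ≠ j) (d : Fin n → F) (hd : d i ≠ d j) (z : F) :
    (Matrix.diagonal d) ≠ z • (1 : Matrix (Fin n) (Fin n) F) := fun h => by
  have h1 := congrArg (fun M : Matrix (Fin n) (Fin n) F => M i i) h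
  have h2 := congrArg (fun M : Matrix (Fin n) (Fin n) F => M j j) h
  simp at h1 h2
  exact hd (h1.trans h2.symm)

/-- An invariant pair gives a conjugate inside the stabiliser. -/
theorem conj_of_fix (hF : Fintype.card F = q ^ 2) (hn : n = 2 * m) (hm : 0 < m)
    {D : Fin 2 → Submodule F (Fin n → F)} (P : UnitPair.IsPolarPair q m (D 0) (D 1))
    {P₀ P₁ : Submodule F (Fin n → F)} (Q : UnitPair.IsPolarPair q m P₀ P₁) (x : GL (Fin n) F)
    (h₀ : ∀ v ∈ P₀, (x : Matrix (Fin n) (Fin n) F) *ᵥ v ∈ P₀)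
    (h₁ : ∀ v ∈ P₁, (x : Matrix (Fin n) (Fin n) F) *ᵥ v ∈ P₁) :
    ∃ g ∈ SUg n F q, g⁻¹ * x * g ∈ Cfsg.Geo.decompositionStabilizer D := by
  obtain ⟨g, hg, hg₀, hg₁⟩ := UnitPair.exists_SU_map hF hn hm P Q
  have back : ∀ (A B : Submodule F (Fin n → F)), Module.finrank F A = Module.finrank F B →
      (∀ v ∈ A, (g : Matrix (Fin n) (Fin n) F) *ᵥ v ∈ B) → ∀ w ∈ B, (↑g⁻¹ : Matrix (Fin n) (Fin n) F) *ᵥ w ∈ A :=
    fun A B hd h w hw => by
      rw [← map_eq_of_mem g h hd] at hw
      obtain ⟨v, hv, rfl⟩ := hw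
      rw [Matrix.toLin'_apply, Matrix.mulVec_mulVec, Units.inv_mul, Matrix.one_mulVec]
      exact hv
  refine ⟨g, hg, mem_stab_of_fix _ (fun v hv => ?_) (fun v hv => ?_)⟩
  · rw [Units.val_mul, Units.val_mul, ← Matrix.mulVec_mulVec, ← Matrix.mulVec_mulVec]
    exact back _ _ (P.rank₀.trans Q.rank₀.symm) hg₀ _ (h₀ _ (hg₀ v hv))
  · rw [Units.val_mul, Units.val_mul, ← Matrix.mulVec_mulVec, ← Matrix.mulVec_mulVec]
    exact back _ _ (P.rank₁.trans Q.rank₁.symm) hg₁ _ (h₁ _ (hg₁ v hv))

/-- A diagonal element whose eigenvalues come in equal adjacent pairs fixes a pair. -/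
theorem pair_of_diag (hF : Fintype.card F = q ^ 2) (d : Fin (m * 2) → F)
    (hd : ∀ k : Fin m, d (finProdFinEquiv (k, 0)) = d (finProdFinEquiv (k, 1))) :
    ∃ P₀ P₁ : Submodule F (Fin (m * 2) → F), UnitPair.IsPolarPair q m P₀ P₁ ∧
      (∀ v ∈ P₀, Matrix.diagonal d *ᵥ v ∈ P₀) ∧ (∀ v ∈ P₁, Matrix.diagonal d *ᵥ v ∈ P₁) := by
  classical
  have hq := UnitPow.two_le hF
  have hu := UnitPow.isUnitaryForm_hermForm hF (m * 2)
  obtain ⟨l, hl⟩ := Unit.exists_norm hu.ne_refl hu.involutive (show UnitPow.conj hF (-1 : F) = -1 by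
    rw [map_neg, map_one])
  obtain ⟨w, hw, hw2⟩ := CfsgLib.ClassicalGroups.exists_norm_one_sq_ne (F := F) hF
  rw [UnitPow.conj_apply, ← pow_succ'] at hl
  have hl0 : l ≠ 0 := fun h => by rw [h, zero_pow (by omega)] at hl; exact neg_ne_zero.2 one_ne_zero hl.symm
  have hw1 : w ≠ 1 := fun h => hw2 (by rw [h, one_mul])
  let U : F → (Fin m → F) →ₗ[F] (Fin (m * 2) → F) := fun c =>
    { toFun := fun a i => (if (finProdFinEquiv.symm i).2 = 0 then 1 else c) * a (finProdFinEquiv.symm i).1
      map_add' := fun a b => funext fun i => mul_add _ _ _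
      map_smul' := fun k a => funext fun i => by simp; ring }
  have hU0 : ∀ c a k, U c a (finProdFinEquiv (k, 0)) = a k := fun c a k => by
    show (if (finProdFinEquiv.symm (finProdFinEquiv (k, (0 : Fin 2)))).2 = 0 then 1 else c) *
      a (finProdFinEquiv.symm (finProdFinEquiv (k, (0 : Fin 2)))).1 = a k
    simp [Equiv.symm_apply_apply]
  have hU1 : ∀ c a k, U c a (finProdFinEquiv (k, 1)) = c * a k := fun c a k => by
    show (if (finProdFinEquiv.symm (finProdFinEquiv (k, (1 : Fin 2)))).2 = 0 then 1 else c) *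
      a (finProdFinEquiv.symm (finProdFinEquiv (k, (1 : Fin 2)))).1 = c * a k
    simp [Equiv.symm_apply_apply]
  have hinj : ∀ c, Function.Injective (U c) := fun c a b h => funext fun k => by
    rw [← hU0 c a k, ← hU0 c b k, h]
  have hiso : ∀ c, c ^ (q + 1) = -1 → ∀ u ∈ LinearMap.range (U c), ∀ v ∈ LinearMap.range (U c),
      Cfsg.hermForm (m * 2) F q u v = 0 := by
    rintro c hc _ ⟨a, rfl⟩ _ ⟨b, rfl⟩
    unfold Cfsg.hermForm
    rw [← Fintype.sum_equiv finProdFinEquiv (fun x => U c a (finProdFinEquiv x) * U c b (finProdFinEquiv x) ^ q) _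
      (fun _ => rfl), Fintype.sum_prod_type]
    refine Finset.sum_eq_zero fun k _ => ?_
    rw [Fin.sum_univ_two, hU0, hU0, hU1, hU1, mul_pow]
    rw [pow_succ'] at hc
    linear_combination (a k * b k ^ q) * hc
  have hfix : ∀ c, ∀ v ∈ LinearMap.range (U c), Matrix.diagonal d *ᵥ v ∈ LinearMap.range (U c) := by
    rintro c _ ⟨a, rfl⟩
    refine ⟨fun k => d (finProdFinEquiv (k, 0)) * a k, funext fun i => ?_⟩
    obtain ⟨⟨k, e⟩, rfl⟩ := finProdFinEquiv.surjective i
    rw [Matrix.mulVec_diagonal]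
    fin_cases e
    · simp only [Fin.zero_eta, Fin.isValue, hU0]
    · simp only [Fin.mk_one, Fin.isValue, hU1, ← hd k]; ring
  refine ⟨_, _, ⟨?_, ?_, hiso l hl, hiso (l * w) (by rw [mul_pow, hl, hw, mul_one]), ?_⟩, hfix l, hfix (l * w)⟩
  · rw [LinearMap.finrank_range_of_inj (hinj l), Module.finrank_fintype_fun_eq_card, Fintype.card_fin]
  · rw [LinearMap.finrank_range_of_inj (hinj _), Module.finrank_fintype_fun_eq_card, Fintype.card_fin]
  · rw [Submodule.disjoint_def]
    rintro _ ⟨a, rfl⟩ ⟨b, hb⟩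
    have hab : b = a := funext fun k => by rw [← hU0 (l * w) b k, hb, hU0]
    subst hab
    have : b = 0 := funext fun k => by
      have h := congrFun hb (finProdFinEquiv (k, 1))
      rw [hU1, hU1] at h
      by_contra h0
      exact hw1 (mul_left_cancel₀ hl0 (by rw [mul_one]; exact mul_right_cancel₀ h0 h))
    rw [this, map_zero]

theorem exists_neg_pow (hF : Fintype.card F = q ^ 2) (h : padicValNat 2 n < padicValNat 2 (q + 1)) (hn : n ≠ 0)
    (h2 : (2 : F) ≠ 0) : ∃ t : F, t ^ (q + 1) = 1 ∧ t ^ n = -1 := by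
  classical
  set v := padicValNat 2 n
  have hd : 2 ^ (v + 1) ∣ q + 1 := (padicValNat_dvd_iff_le (by omega)).2 h
  have hd2 : 2 ^ (v + 1) ∣ Nat.card Fˣ := by
    rw [Nat.card_units, Nat.card_eq_fintype_card, hF, show q ^ 2 - 1 = (q + 1) * (q - 1) by
      rw [← Nat.sq_sub_sq, one_pow]]
    exact hd.trans (dvd_mul_right _ _)
  obtain ⟨g, hg⟩ := IsCyclic.exists_generator (α := Fˣ)
  have hog : orderOf g = Nat.card Fˣ := orderOf_eq_card_of_forall_mem_zpowers hg
  obtain ⟨c, hc⟩ := hd2
  have hpos : 0 < c := Nat.pos_of_ne_zero fun hc0 => by rw [hc0, mul_zero] at hc; exact Nat.card_pos.ne' hc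
  have hu : orderOf (g ^ c) = 2 ^ (v + 1) := by
    rw [orderOf_pow' g (by omega), hog, hc, Nat.gcd_mul_left_left, Nat.mul_div_cancel _ hpos]
  refine ⟨((g ^ c : Fˣ) : F), ?_, ?_⟩
  · rw [← Units.val_pow_eq_pow_val, orderOf_dvd_iff_pow_eq_one.1 (hu ▸ hd), Units.val_one]
  · obtain ⟨w, hw⟩ := pow_padicValNat_dvd (p := 2) (n := n)
    have hwodd : Odd w := Nat.not_even_iff_odd.1 fun ⟨k, hk⟩ => by
      have : 2 ^ (v + 1) ∣ n := ⟨k, by rw [hw, hk, pow_succ]; ring⟩
      exact pow_succ_padicValNat_not_dvd hn this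
    have hhalf : ((g ^ c : Fˣ) : F) ^ 2 ^ v = -1 := by
      have h1 : (((g ^ c : Fˣ) : F) ^ 2 ^ v) ^ 2 = 1 := by
        rw [← pow_mul, ← pow_succ, ← Units.val_pow_eq_pow_val, ← hu, pow_orderOf_eq_one, Units.val_one]
      refine (sq_eq_one_iff.1 h1).resolve_left fun h1' => ?_
      have h2' : orderOf (g ^ c) ∣ 2 ^ v := orderOf_dvd_of_pow_eq_one (Units.ext (by push_cast; exact_mod_cast h1'))
      rw [hu] at h2'
      have := Nat.le_of_dvd (pow_pos two_pos _) h2'
      rw [pow_succ] at this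
      have := pow_pos (two_pos (α := ℕ)) v
      omega
    rw [hw, pow_mul, hhalf, hwodd.neg_one_pow]

/-- Elements with scalar square fix a pair when `(q+1)₂ ≤ n₂`. -/
theorem exists_fix_pair (hF : Fintype.card F = q ^ 2) (hodd : Odd q) (hn : n = m * 2) (hm : 0 < m)
    (hv : padicValNat 2 (q + 1) ≤ padicValNat 2 n) {x : GL (Fin n) F} (hx : x ∈ SUg n F q) {z : F}
    (hz : (x : Matrix (Fin n) (Fin n) F) ^ 2 = z • 1) :
    ∃ P₀ P₁ : Submodule F (Fin n → F), UnitPair.IsPolarPair q m P₀ P₁ ∧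
      (∀ v ∈ P₀, (x : Matrix (Fin n) (Fin n) F) *ᵥ v ∈ P₀) ∧ (∀ v ∈ P₁, (x : Matrix (Fin n) (Fin n) F) *ᵥ v ∈ P₁) := by
  classical
  subst hn
  have hq := UnitPow.two_le hF
  have hu := UnitPow.isUnitaryForm_hermForm hF (m * 2)
  have h2 : (2 : F) ≠ 0 := fun h2 => by
    obtain ⟨p, k, hp, hcp, hqp⟩ := CfsgLib.PrimeClasses.q_pow_eq hF
    have := Fact.mk hp
    have hp2 : p = 2 := ((Nat.prime_dvd_prime_iff_eq hp Nat.prime_two).1
      ((CharP.cast_eq_zero_iff F p 2).1 (by exact_mod_cast h2)))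
    subst hp2
    rcases k with _ | k
    · rw [pow_zero] at hqp; omega
    · rw [hqp, pow_succ] at hodd
      exact Nat.not_even_iff_odd.2 hodd (even_two.mul_left _)
  have hxx := CfsgLib.ClassicalGroups.mem_GU_iff.1 hx.1
  set h := Cfsg.hermForm (m * 2) F q
  have hsq : ∀ v, (x : Matrix (Fin (m * 2)) (Fin (m * 2)) F) *ᵥ ((x : Matrix (Fin (m * 2)) (Fin (m * 2)) F) *ᵥ v) = z • v := fun v => by
    rw [Matrix.mulVec_mulVec, ← pow_two, hz, Matrix.smul_mulVec, Matrix.one_mulVec]
  have hz1 : z ^ (q + 1) = 1 := by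
    let e : Fin (m * 2) → F := Pi.single ⟨0, by omega⟩ 1
    have h1 : h (z • e) (z • e) = h e e := by rw [← hsq, hxx, hxx]
    have he : h e e = 1 := by
      show Cfsg.hermForm _ F q e e = 1
      unfold Cfsg.hermForm
      rw [Finset.sum_eq_single ⟨0, by omega⟩ (fun j _ hj => by simp [e, Pi.single_apply, hj]) (by simp)]
      simp [e]
    rw [Unit.smul_left hu, Unit.smul_right hu, he, UnitPow.conj_apply, mul_one, ← pow_succ'] at h1
    exact h1
  obtain ⟨s, hs⟩ : ∃ s : F, s ^ 2 = z := by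
    have hz0 : z ≠ 0 := fun h0 => by rw [h0, zero_pow (by omega)] at hz1; exact zero_ne_one hz1
    have hchar : ringChar F ≠ 2 := fun hc => h2 (by exact_mod_cast (ringChar.spec F 2).2 (by rw [hc]))
    obtain ⟨s, hs⟩ := (FiniteField.isSquare_iff hchar hz0).2 (by
      obtain ⟨k, hk⟩ := hodd
      rw [hF, show q ^ 2 / 2 = (q + 1) * k from ?_, pow_mul, hz1, one_pow]
      rw [hk]
      ring_nf
      omega)
    exact ⟨s, by rw [pow_two, ← hs]⟩
  have hs0 : s ≠ 0 := fun h0 => by
    rw [h0, zero_pow two_ne_zero] at hs; rw [← hs, zero_pow (by omega)] at hz1; exact zero_ne_one hz1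
  have hss : s ^ (q + 1) = 1 ∨ s ^ (q + 1) = -1 := sq_eq_one_iff.1 (by rw [← pow_mul, mul_comm, pow_mul, hs, hz1])
  -- the two eigenspaces
  let E : F → Submodule F (Fin (m * 2) → F) := fun c =>
    LinearMap.ker (Matrix.toLin' (x : Matrix (Fin (m * 2)) (Fin (m * 2)) F) - c • LinearMap.id)
  have hE : ∀ c v, v ∈ E c ↔ (x : Matrix (Fin (m * 2)) (Fin (m * 2)) F) *ᵥ v = c • v := fun c v => by
    simp [E, LinearMap.mem_ker, sub_eq_zero, Matrix.toLin'_apply]
  have hEfix : ∀ c, ∀ v ∈ E c, (x : Matrix (Fin (m * 2)) (Fin (m * 2)) F) *ᵥ v ∈ E c := fun c v hv => by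
    rw [(hE c v).1 hv]; exact (E c).smul_mem c hv
  have hdisj : Disjoint (E s) (E (-s)) := Submodule.disjoint_def.2 fun v hv hv' => by
    have h1 := ((hE _ v).1 hv).symm.trans ((hE _ v).1 hv')
    rw [neg_smul, eq_neg_iff_add_eq_zero, ← add_smul, smul_eq_zero] at h1
    exact h1.resolve_left (by rw [← two_mul]; exact mul_ne_zero h2 hs0)
  have hsup : E s ⊔ E (-s) = ⊤ := eq_top_iff.2 fun v _ => by
    have e : v = (2 * s)⁻¹ • (s • v + (x : Matrix (Fin (m * 2)) (Fin (m * 2)) F) *ᵥ v) +
        (2 * s)⁻¹ • (s • v - (x : Matrix (Fin (m * 2)) (Fin (m * 2)) F) *ᵥ v) := by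
      rw [← smul_add, add_add_sub_cancel, ← add_smul, smul_smul, ← two_mul,
        inv_mul_cancel₀ (mul_ne_zero h2 hs0), one_smul]
    rw [e]
    refine Submodule.add_mem_sup ((E s).smul_mem _ ((hE _ _).2 ?_)) ((E (-s)).smul_mem _ ((hE _ _).2 ?_))
    · rw [Matrix.mulVec_add, Matrix.mulVec_smul, hsq, ← hs, smul_add, smul_smul, pow_two, add_comm]
    · rw [Matrix.mulVec_sub, Matrix.mulVec_smul, hsq, ← hs, neg_smul, smul_sub, smul_smul, pow_two, neg_sub]
  have hdim : Module.finrank F (E s) + Module.finrank F (E (-s)) = m * 2 := by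
    have := Submodule.finrank_sup_add_finrank_inf_eq (E s) (E (-s))
    rw [hsup, hdisj.eq_bot, finrank_bot, finrank_top, Module.finrank_fintype_fun_eq_card, Fintype.card_fin] at this
    omega
  rcases hss with hs1 | hs1
  · -- nondegenerate eigenspaces: diagonalise inside the unitary group
    set a := Module.finrank F (E s) with had
    set b := Module.finrank F (E (-s))
    let B₀ := (Module.finBasis F (E s)).prod (Module.finBasis F (E (-s)))
    let Φ := (B₀.map (Submodule.prodEquivOfIsCompl (E s) (E (-s)) ⟨hdisj, codisjoint_iff.2 hsup⟩)).reindex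
      (finSumFinEquiv.trans (finCongr hdim))
    let d : Fin (m * 2) → F := fun i => if (i : ℕ) < a then s else -s
    have hΦ : ∀ i, (x : Matrix (Fin (m * 2)) (Fin (m * 2)) F) *ᵥ Φ i = d i • Φ i := by
      intro i
      obtain ⟨j, rfl⟩ := (finSumFinEquiv.trans (finCongr hdim)).surjective i
      rcases j with j | j <;>
        simp only [Φ, Module.Basis.reindex_apply, Equiv.symm_apply_apply, Module.Basis.map_apply, B₀,
          Module.Basis.prod_apply, Sum.elim_inl, Sum.elim_inr, Function.comp_apply, Submodule.coe_prodEquivOfIsCompl',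
          LinearMap.inl_apply, LinearMap.inr_apply, ZeroMemClass.coe_zero, add_zero, zero_add] <;>
        simp only [d, Equiv.trans_apply, finCongr_apply, Fin.val_cast, finSumFinEquiv_apply_left,
          finSumFinEquiv_apply_right, Fin.val_castAdd, Fin.val_natAdd]
      · rw [if_pos (by exact j.2), (hE s _).1 (Module.finBasis F (E s) j).2]
      · rw [if_neg (by simp [a]), (hE (-s) _).1 (Module.finBasis F (E (-s)) j).2]
    have hd1 : ∀ i, d i ^ (q + 1) = 1 := fun i => by
      simp only [d]; split_ifs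
      · exact hs1
      · rw [neg_pow, neg_one_pow_card hF, hs1, one_mul]
    obtain ⟨G, hG⟩ := UnitPair.exists_GL ((Pi.basisFun F (Fin (m * 2))).equiv Φ (Equiv.refl _))
    have hGe : ∀ i, (G : Matrix (Fin (m * 2)) (Fin (m * 2)) F) *ᵥ Pi.single i 1 = Φ i := fun i => by
      rw [hG, ← Pi.basisFun_apply F, Module.Basis.equiv_apply, Equiv.refl_apply]
    have hprod : ∏ i, d i = 1 := by
      have hconj : (x : Matrix (Fin (m * 2)) (Fin (m * 2)) F) * G =
          (G : Matrix (Fin (m * 2)) (Fin (m * 2)) F) * Matrix.diagonal d := by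
        refine Matrix.ext_of_mulVec_single fun i => ?_
        rw [← Matrix.mulVec_mulVec, ← Matrix.mulVec_mulVec, hGe, hΦ, Matrix.diagonal_mulVec_single, mul_one,
          show (Pi.single i (d i) : Fin (m * 2) → F) = d i • Pi.single i 1 from by rw [← Pi.single_smul, smul_eq_mul, mul_one],
          Matrix.mulVec_smul, hGe]
      have hdet := congrArg Matrix.det hconj
      rw [Matrix.det_mul, Matrix.det_mul, Matrix.det_diagonal] at hdet
      have hx1 : (x : Matrix (Fin (m * 2)) (Fin (m * 2)) F).det = 1 := congrArg Units.val (MonoidHom.mem_ker.1 hx.2)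
      rw [hx1, one_mul] at hdet
      exact mul_left_cancel₀ (Matrix.isUnits_det_units G).ne_zero (hdet.symm.trans (mul_one _).symm)
    have heven : Even a := by
      by_contra hna
      rw [Nat.not_even_iff_odd] at hna
      have hcard : ∏ i, d i = s ^ a * (-s) ^ b := by
        rw [← Fintype.prod_equiv (finSumFinEquiv.trans (finCongr hdim)) (fun j => d ((finSumFinEquiv.trans (finCongr hdim)) j)) d (fun _ => rfl),
          Fintype.prod_sum_type]
        simp [d, Finset.prod_const, a]
      have hbodd : Odd b := by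
        rw [Nat.odd_iff] at hna ⊢; omega
      rw [hprod, hbodd.neg_pow, mul_neg, ← pow_add, hdim] at hcard
      have hsn : s ^ (m * 2) = -1 := by linear_combination hcard
      obtain ⟨w, hw⟩ := pow_padicValNat_dvd (p := 2) (n := q + 1)
      have hwodd : Odd w := Nat.not_even_iff_odd.1 fun ⟨k, hk⟩ => by
        have : 2 ^ (padicValNat 2 (q + 1) + 1) ∣ q + 1 :=
          ⟨k, by conv_lhs => rw [hw, hk]
                 rw [pow_succ]; ring⟩
        exact pow_succ_padicValNat_not_dvd (by omega) this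
      obtain ⟨u, hu'⟩ := (pow_dvd_pow 2 hv).trans (pow_padicValNat_dvd (p := 2) (n := m * 2))
      have h1 : (s ^ (m * 2)) ^ w = 1 := by
        rw [← pow_mul, hu', show 2 ^ padicValNat 2 (q + 1) * u * w = (2 ^ padicValNat 2 (q + 1) * w) * u by ring,
          ← hw, pow_mul, hs1, one_pow]
      rw [hsn, hwodd.neg_one_pow] at h1
      exact h2 (by linear_combination -h1)
    obtain ⟨xd, hxd, hxdv⟩ := exists_diag hF d hd1 hprod
    have hsim : IsConj (xd : GL (Fin (m * 2)) F) x := isConj_iff.2 ⟨G, by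
      rw [mul_inv_eq_iff_eq_mul]
      refine Units.ext (Matrix.ext_of_mulVec_single fun i => ?_)
      rw [Units.val_mul, Units.val_mul, hxdv, ← Matrix.mulVec_mulVec, ← Matrix.mulVec_mulVec, hGe, hΦ,
        Matrix.diagonal_mulVec_single, mul_one,
        show (Pi.single i (d i) : Fin (m * 2) → F) = d i • Pi.single i 1 from by rw [← Pi.single_smul, smul_eq_mul, mul_one],
        Matrix.mulVec_smul, hGe]⟩
    obtain ⟨g, hg⟩ := isConj_iff.1 (CfsgLib.IsomConj.GU_isConj_of_similar hF ⟨xd, hxd.1⟩ ⟨x, hx.1⟩ hsim)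
    have hg' : (g : GL (Fin (m * 2)) F) * xd = x * g := by
      have := congrArg Subtype.val hg
      simp only [Subgroup.coe_mul, InvMemClass.coe_inv] at this
      rw [← this]; group
    obtain ⟨k₀, hk₀⟩ := heven
    obtain ⟨P₀, P₁, Q, f₀, f₁⟩ := pair_of_diag hF d (fun k => by
      simp only [d, finProdFinEquiv_apply_val, Fin.val_zero, Fin.val_one, zero_add]
      split_ifs <;> first | rfl | (exfalso; omega))
    have hinj : Function.Injective (Matrix.toLin' ((g : GL (Fin (m * 2)) F) : Matrix (Fin (m * 2)) (Fin (m * 2)) F)) :=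
      fun u v huv => by
        rw [Matrix.toLin'_apply, Matrix.toLin'_apply] at huv
        simpa using congrArg ((↑((g : GL (Fin (m * 2)) F))⁻¹ : Matrix (Fin (m * 2)) (Fin (m * 2)) F) *ᵥ ·) huv
    have hgg := CfsgLib.ClassicalGroups.mem_GU_iff.1 g.2
    have mapfix : ∀ R : Submodule F (Fin (m * 2) → F), (∀ v ∈ R, Matrix.diagonal d *ᵥ v ∈ R) →
        ∀ v ∈ R.map (Matrix.toLin' ((g : GL (Fin (m * 2)) F) : Matrix (Fin (m * 2)) (Fin (m * 2)) F)),
          (x : Matrix (Fin (m * 2)) (Fin (m * 2)) F) *ᵥ v ∈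
            R.map (Matrix.toLin' ((g : GL (Fin (m * 2)) F) : Matrix (Fin (m * 2)) (Fin (m * 2)) F)) := by
      rintro R hR _ ⟨v, hv, rfl⟩
      refine ⟨_, hR v hv, ?_⟩
      rw [Matrix.toLin'_apply, Matrix.toLin'_apply, ← hxdv, Matrix.mulVec_mulVec, Matrix.mulVec_mulVec,
        ← Units.val_mul, hg', Units.val_mul]
    have mapiso : ∀ R : Submodule F (Fin (m * 2) → F), (∀ u ∈ R, ∀ v ∈ R, Cfsg.hermForm (m * 2) F q u v = 0) →
        ∀ u ∈ R.map (Matrix.toLin' ((g : GL (Fin (m * 2)) F) : Matrix (Fin (m * 2)) (Fin (m * 2)) F)),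
        ∀ v ∈ R.map (Matrix.toLin' ((g : GL (Fin (m * 2)) F) : Matrix (Fin (m * 2)) (Fin (m * 2)) F)),
          Cfsg.hermForm (m * 2) F q u v = 0 := by
      rintro R hR _ ⟨u, hu, rfl⟩ _ ⟨v, hv, rfl⟩
      exact (hgg u v).trans (hR u hu v hv)
    exact ⟨_, _, ⟨(Submodule.equivMapOfInjective _ hinj P₀).finrank_eq.symm.trans Q.rank₀,
      (Submodule.equivMapOfInjective _ hinj P₁).finrank_eq.symm.trans Q.rank₁, mapiso _ Q.iso₀, mapiso _ Q.iso₁,
      disjoint_iff.2 (by rw [← Submodule.map_inf _ hinj, Q.disj.eq_bot, Submodule.map_bot])⟩,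
      mapfix _ f₀, mapfix _ f₁⟩
  · -- the eigenspaces are isotropic
    have hti : ∀ c, c ^ (q + 1) = -1 → ∀ u ∈ E c, ∀ v ∈ E c, h u v = 0 := fun c hc u hu' v hv' => by
      have h1 := hxx u v
      change h ((x : Matrix (Fin (m * 2)) (Fin (m * 2)) F) *ᵥ u) ((x : Matrix (Fin (m * 2)) (Fin (m * 2)) F) *ᵥ v) = h u v at h1
      rw [(hE c u).1 hu', (hE c v).1 hv', Unit.smul_left hu, Unit.smul_right hu, UnitPow.conj_apply, ← mul_assoc,
        ← pow_succ', hc] at h1
      exact (mul_eq_zero.1 (show (2 : F) * h u v = 0 by linear_combination -h1)).resolve_left h2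
    have hns : (-s) ^ (q + 1) = -1 := by rw [neg_pow, neg_one_pow_card hF, hs1, one_mul]
    have hle : ∀ c, c ^ (q + 1) = -1 → Module.finrank F (E c) ≤ m := fun c hc => by
      have h1 := Submodule.finrank_mono (Unit.le_perp_of_isotropic hu (P := E c) fun u hu' => hti c hc u hu' u hu')
      have h2 := Unit.finrank_perp hu (E c)
      rw [Fintype.card_fin] at h2
      omega
    have := hle s hs1
    have := hle _ hns
    exact ⟨E s, E (-s), ⟨by omega, by omega, hti s hs1, hti _ hns, hdisj⟩, hEfix _, hEfix _⟩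

theorem val_GU_le (hF : Fintype.card F = q ^ 2) [hr : Fact r.Prime] (hnd : ¬ r ∣ q) :
    ∀ m, (∀ j, Odd j → j < 2 * m → ¬ r ∣ q ^ j + 1) →
      padicValNat r (Nat.card (Cfsg.GU (2 * m) F q)) ≤ padicValNat r (Nat.card (GL (Fin m) F)) := by
  intro m hno
  have hq := UnitPow.two_le hF
  rw [CfsgLib.ClassicalGroups.card_GU hF, Matrix.card_GL_field, hF]
  set Q := q ^ 2 with hQ
  have hQ1 : 1 < Q := Nat.one_lt_pow two_ne_zero hq
  have hprod : ∀ k, ∏ i ∈ Finset.range k, (if Even i then q ^ (i + 1) + 1 else q ^ (i + 1) - 1) ≠ 0 := fun k => by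
    refine Finset.prod_ne_zero_iff.2 fun i _ => ?_
    have := Nat.one_lt_pow (show i + 1 ≠ 0 by omega) hq
    split_ifs <;> omega
  have hpow : ∀ j, padicValNat r (q ^ j) = 0 := fun j =>
    padicValNat.eq_zero_of_not_dvd fun h => hnd (hr.out.dvd_of_dvd_pow h)
  rw [padicValNat.mul (pow_ne_zero _ (by omega)) (hprod _), hpow, zero_add]
  induction m with
  | zero => simp
  | succ m ih =>
    have hstep : ∀ i : Fin m, Q ^ (m + 1) - Q ^ ((i.succ : Fin (m + 1)) : ℕ) = Q * (Q ^ m - Q ^ (i : ℕ)) :=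
      fun i => by rw [Fin.val_succ, Nat.mul_sub, pow_succ', pow_succ']
    have hp : ∏ i : Fin m, (Q ^ m - Q ^ (i : ℕ)) ≠ 0 := Finset.prod_ne_zero_iff.2 fun i _ =>
      Nat.sub_ne_zero_of_lt (Nat.pow_lt_pow_right hQ1 i.2)
    have hm1 : Q ^ (m + 1) - Q ^ 0 ≠ 0 := Nat.sub_ne_zero_of_lt (Nat.pow_lt_pow_right hQ1 (Nat.succ_pos m))
    have he : Even (2 * m) := ⟨m, by omega⟩
    rw [Fin.prod_univ_succ, Finset.prod_congr rfl (fun i _ => hstep i), Finset.prod_mul_distrib,
      Finset.prod_const, Finset.card_univ, Fintype.card_fin, Fin.val_zero,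
      padicValNat.mul hm1 (mul_ne_zero (pow_ne_zero _ (by omega)) hp),
      padicValNat.mul (pow_ne_zero _ (by omega)) hp]
    have hQpow : padicValNat r (Q ^ m) = 0 := by rw [hQ, ← pow_mul]; exact hpow _
    rw [hQpow, zero_add, show 2 * (m + 1) = 2 * m + 1 + 1 by ring, Finset.prod_range_succ, Finset.prod_range_succ,
      if_pos he, if_neg (by simp [parity_simps])]
    have h1 : 1 < q ^ (2 * m + 1 + 1) := Nat.one_lt_pow (by omega) hq
    rw [padicValNat.mul (mul_ne_zero (hprod _) (by omega)) (by omega),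
      padicValNat.mul (hprod _) (by omega),
      padicValNat.eq_zero_of_not_dvd (hno (2 * m + 1) ⟨m, rfl⟩ (by omega)), add_zero, pow_zero,
      show Q ^ (m + 1) = q ^ (2 * m + 1 + 1) from by rw [hQ, ← pow_mul]; congr 1]
    have := ih fun j hj hjm => hno j hj (by omega)
    omega

/-- Elements of prime order of PSU_n(q) and the stabilizers of pairs of complementary totally singular subspaces. Here `T = PSU_n(q)` is realised through `SU_n(q)`, the matrices of determinant 1 over the field `F` with `q²` elements preserving the hermitian form `Σ uᵢ vᵢ^q`, with `n ≥ 4` even; `D` is a pair of complementary subspaces of dimension `n/2` on each of which the form vanishes identically, and `H` is the subgroup of `SU_n(q)` fixing or interchanging the two members — a subgroup of type GL_{n/2}(q²).2 (maximality is not assumed). Ω is the set of cosets of `H`, so an element of `T` of prime order `r` (`x ∈ SU_n(q)` with `x^r` scalar, `x` not scalar) fixes a point of Ω exactly when some `SU_n(q)`-conjugate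 of `x` lies in `H`. Let `r` be a prime dividing the index of `H`. Then every element of `T` of order `r` fixes a point of Ω if and only if `r = 2`, `q` is odd and `(q + 1)_2 ≤ (n)_2` (2-parts). -/
theorem result {F : Type*} [Field F] [Fintype F] {p : ℕ} [Fact p.Prime] [CharP F p] {q : ℕ} (hq : Fintype.card F = q ^ 2)
    (n : ℕ) (hn : 4 ≤ n) (he : Even n) (D : Fin 2 → Submodule F (Fin n → F)) (hD : Cfsg.Geo.IsMDecomposition (n / 2) D)
    (hDs : ∀ i, Cfsg.Geo.IsTotallySingularFor (Cfsg.hermForm n F q) (D i))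
    (r : ℕ) [Fact r.Prime]
    (hΩ : r ∣ (Cfsg.Geo.decompositionStabilizer D).relIndex (Cfsg.GU n F q ⊓ Cfsg.Geo.specialLinear (Fin n) F)) :
    (∀ x ∈ Cfsg.GU n F q ⊓ Cfsg.Geo.specialLinear (Fin n) F, (∃ z : F, ((x ^ r : GL (Fin n) F) : Matrix (Fin n) (Fin n) F) = z • (1 : Matrix (Fin n) (Fin n) F)) →
      (∀ z : F, (x : Matrix (Fin n) (Fin n) F) ≠ z • (1 : Matrix (Fin n) (Fin n) F)) →
      ∃ g ∈ Cfsg.GU n F q ⊓ Cfsg.Geo.specialLinear (Fin n) F, g⁻¹ * x * g ∈ Cfsg.Geo.decompositionStabilizer D) ↔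
    (r = 2 ∧ Odd q ∧ padicValNat 2 (q + 1) ≤ padicValNat 2 n) := by
  classical
  obtain ⟨m, hm⟩ := he
  have hn2 : n = 2 * m := by omega
  have hm0 : 0 < m := by omega
  have hq2 := UnitPow.two_le hq
  have P := polarPair hn2 hD hDs
  have hr : r.Prime := Fact.out
  have hp : p.Prime := Fact.out
  obtain ⟨p', k', hp', hcp', hqp⟩ := CfsgLib.PrimeClasses.q_pow_eq hq
  obtain rfl : p = p' := CharP.eq F ‹CharP F p› hcp'
  have hk' : k' ≠ 0 := fun h => by rw [h, pow_zero] at hqp; omega
  constructor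
  · intro hall
    by_contra hcon
    -- a witness for each case
    have use : ∀ x ∈ SUg n F q, (∃ z : F, (x : Matrix (Fin n) (Fin n) F) ^ r = z • 1) →
        (∀ z : F, (x : Matrix (Fin n) (Fin n) F) ≠ z • (1 : Matrix (Fin n) (Fin n) F)) → ∀ s : F, s ^ (q + 1) = 1 →
        Odd ((x : Matrix (Fin n) (Fin n) F) - s • 1).rank →
        (Odd r ∨ ((x : Matrix (Fin n) (Fin n) F) - s • 1).rank < m) → False := by
      intro x hx hz hns s hs hodd hor
      obtain ⟨g, hg, hst⟩ := hall x hx (by rw [Units.val_pow_eq_pow_val]; exact hz) hns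
      exact not_conj hq hn2 P hm0 hx.1 hg.1 hst hs hodd (hor.imp (fun h => ⟨h, hz⟩) id)
    have h01 : (⟨0, by omega⟩ : Fin n) ≠ ⟨1, by omega⟩ := by simp [Fin.ext_iff]
    by_cases hrp : r = p
    · -- a transvection
      subst hrp
      have hu := UnitPow.isUnitaryForm_hermForm hq n
      obtain ⟨v, hv0, hvv⟩ := Unit.exists_isotropic hu (by simp; omega)
      obtain ⟨c, hc0, hc⟩ := Unit.exists_skew hu.ne_refl hu.involutive
      set T := formTv (Cfsg.hermForm n F q) v c with hT
      have hTv : ∀ x, (T : Matrix (Fin n) (Fin n) F) *ᵥ x = x + (c * Cfsg.hermForm n F q x v) • v :=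
        Unit.formTv_mulVec hu hvv c
      have hTU : T ∈ SUg n F q :=
        ⟨CfsgLib.ClassicalGroups.mem_GU_iff.2 fun a b => Unit.formTv_isometry hu hvv hc a b,
          (Unit.formTv_mem_similarity hu hvv hc).2⟩
      obtain ⟨x₀, hx₀⟩ := (hu.nondegenerate v hv0).1
      let N : Matrix (Fin n) (Fin n) F := (T : Matrix (Fin n) (Fin n) F) - 1
      have hNv : ∀ x, N *ᵥ x = (c * Cfsg.hermForm n F q x v) • v := fun x => by
        show ((T : Matrix (Fin n) (Fin n) F) - 1) *ᵥ x = _
        rw [Matrix.sub_mulVec, Matrix.one_mulVec, hTv, add_sub_cancel_left]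
      have hNN : N * N = 0 := Matrix.ext_of_mulVec_single fun i => by
        rw [← Matrix.mulVec_mulVec, hNv (Pi.single i 1), Matrix.mulVec_smul, hNv v, hvv, mul_zero, zero_smul, smul_zero,
          Matrix.zero_mulVec]
      have hTr : (T : Matrix (Fin n) (Fin n) F) ^ r = (1 : F) • 1 := by
        have : NeZero n := ⟨by omega⟩
        rw [one_smul, show (T : Matrix (Fin n) (Fin n) F) = N + 1 from (sub_add_cancel _ _).symm,
          add_pow_char_of_commute _ (Commute.one_right N), one_pow,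
          show N ^ r = N ^ 2 * N ^ (r - 2) by rw [← pow_add, Nat.add_sub_cancel' hr.two_le], pow_two, hNN,
          zero_mul, zero_add]
      have hrank : ((T : Matrix (Fin n) (Fin n) F) - (1 : F) • 1).rank = 1 := by
        rw [one_smul]
        show Module.finrank F (LinearMap.range N.mulVecLin) = 1
        have : LinearMap.range N.mulVecLin = Submodule.span F {v} := by
          refine le_antisymm ?_ ((Submodule.span_singleton_le_iff_mem _ _).2 ?_)
          · rintro _ ⟨x, rfl⟩
            rw [Matrix.mulVecLin_apply, hNv]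
            exact Submodule.smul_mem _ _ (Submodule.mem_span_singleton_self v)
          · refine ⟨(c * Cfsg.hermForm n F q x₀ v)⁻¹ • x₀, ?_⟩
            rw [Matrix.mulVecLin_apply, Matrix.mulVec_smul, hNv, smul_smul,
              inv_mul_cancel₀ (mul_ne_zero hc0 hx₀), one_smul]
        rw [this, finrank_span_singleton hv0]
      refine use T hTU ⟨1, hTr⟩ (fun z hz => ?_) 1 (one_pow _) (by rw [hrank]; exact odd_one) (Or.inr (by omega))
      have h1 := hNv x₀
      have h2 : N = (z - 1) • (1 : Matrix (Fin n) (Fin n) F) := by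
        show (T : Matrix (Fin n) (Fin n) F) - 1 = _
        rw [hz, sub_smul, one_smul]
      rw [h2, Matrix.smul_mulVec, Matrix.one_mulVec] at h1
      have hne : z - 1 ≠ 0 := fun h0 => by
        rw [h0, zero_smul, eq_comm, smul_eq_zero] at h1
        exact h1.elim (mul_ne_zero hc0 hx₀) hv0
      have h3 := hNv v
      rw [h2, Matrix.smul_mulVec, Matrix.one_mulVec, hvv, mul_zero, zero_smul, smul_eq_zero] at h3
      exact h3.elim hne hv0
    have hrq : ¬ r ∣ q := fun h => hrp ((Nat.prime_dvd_prime_iff_eq hr hp).1 (hr.dvd_of_dvd_pow (hqp ▸ h)))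
    by_cases hr2 : r = 2
    · subst hr2
      have hqodd : Odd q := Nat.not_even_iff_odd.1 fun h => hrq h.two_dvd
      have h2F : (2 : F) ≠ 0 := fun h2 => hrp ((Nat.prime_dvd_prime_iff_eq hp Nat.prime_two).1
        ((CharP.cast_eq_zero_iff F p 2).1 (by exact_mod_cast h2))).symm
      have hlt : padicValNat 2 n < padicValNat 2 (q + 1) := by
        by_contra h; exact hcon ⟨rfl, hqodd, by omega⟩
      obtain ⟨t, ht, htn⟩ := exists_neg_pow hq hlt (by omega) h2F
      have ht0 : t ≠ 0 := fun h => by rw [h, zero_pow (by omega)] at ht; exact zero_ne_one ht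
      let d : Fin n → F := fun i => if i = ⟨0, by omega⟩ then -t else t
      obtain ⟨x, hx, hxv⟩ := exists_diag hq d (fun i => by
          simp only [d]; split_ifs
          · rw [neg_pow, neg_one_pow_card hq, ht, one_mul]
          · exact ht)
        (by
          have e : d = fun i => t * if i = ⟨0, by omega⟩ then -1 else 1 := funext fun i => by
            simp only [d]; split_ifs <;> ring
          rw [e, Finset.prod_mul_distrib, Finset.prod_const, Finset.prod_ite_eq', Finset.card_univ, Fintype.card_fin,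
            htn]
          simp)
      have hrank : ((x : Matrix (Fin n) (Fin n) F) - t • 1).rank = 1 := by
        rw [hxv, rank_diag_sub, Fintype.card_eq_one_iff]
        refine ⟨⟨⟨0, by omega⟩, ?_⟩, fun ⟨i, hi⟩ => ?_⟩
        · simp only [d, if_true]
          intro h
          exact mul_ne_zero h2F ht0 (by linear_combination -h)
        · refine Subtype.ext (by_contra fun hne => hi ?_)
          simp only [d, if_neg (show i ≠ ⟨0, by omega⟩ from hne), sub_self]
      refine use x hx ⟨t * t, ?_⟩ (fun z => ?_) t ht (by rw [hrank]; exact odd_one) (Or.inr (by omega))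
      · rw [hxv, Matrix.diagonal_pow, ← Matrix.diagonal_one, ← Matrix.diagonal_smul]
        congr 1
        funext i
        simp only [d, Pi.pow_apply, Pi.smul_apply, smul_eq_mul, mul_one]
        split_ifs <;> ring
      · rw [hxv]
        refine update_ne_scalar h01 d ?_ z
        simp only [d, if_true, if_neg h01.symm]
        intro h
        exact mul_ne_zero h2F ht0 (by linear_combination -h)
    -- odd primes
    have hrodd : Odd r := hr.odd_of_ne_two hr2
    have hrF : (r : F) ≠ 0 := CfsgLib.OrderR.cast_ne_zero hrp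
    by_cases h1 : r ∣ q + 1
    · -- a diagonal element with one pair of non-trivial eigenvalues
      have hd : r ∣ Nat.card Fˣ := by
        rw [Nat.card_units, Nat.card_eq_fintype_card, hq, show q ^ 2 - 1 = (q + 1) * (q - 1) by
          rw [← Nat.sq_sub_sq, one_pow]]
        exact h1.trans (dvd_mul_right _ _)
      obtain ⟨u, hu⟩ := exists_prime_orderOf_dvd_card' r hd
      have hur : (u : F) ^ r = 1 := by
        rw [← Units.val_pow_eq_pow_val, ← hu, pow_orderOf_eq_one, Units.val_one]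
      obtain ⟨c, hc⟩ := h1
      have huq : (u : F) ^ (q + 1) = 1 := by rw [hc, pow_mul, hur, one_pow]
      have hu1 : (u : F) ≠ 1 := fun h => by
        rw [Units.val_eq_one.1 h, orderOf_one] at hu; exact hr.one_lt.ne hu
      have hu2 : (u : F) * u ≠ 1 := fun h => by
        have : u ^ 2 = 1 := Units.ext (by rw [pow_two]; exact h)
        have := Nat.le_of_dvd two_pos (hu ▸ orderOf_dvd_of_pow_eq_one this)
        exact hr2 (le_antisymm this hr.two_le)
      let d : Fin n → F := fun i => if i = ⟨0, by omega⟩ then (u : F) else if i = ⟨1, by omega⟩ then (u : F)⁻¹ else 1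
      obtain ⟨x, hx, hxv⟩ := exists_diag hq d (fun i => by
          simp only [d]; split_ifs <;> simp [huq, inv_pow])
        (by
          rw [Fintype.prod_eq_mul (⟨0, by omega⟩ : Fin n) ⟨1, by omega⟩ h01
            (fun i hi => by simp only [d, if_neg hi.1, if_neg hi.2])]
          simp only [d, if_true, if_neg h01.symm]
          exact mul_inv_cancel₀ (Units.ne_zero u))
      have hrank : ((x : Matrix (Fin n) (Fin n) F) - (u : F) • 1).rank = n - 1 := by
        rw [hxv, rank_diag_sub]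
        rw [show n - 1 = Fintype.card {i : Fin n // i ≠ ⟨0, by omega⟩} by simp]
        refine Fintype.card_congr (Equiv.subtypeEquivRight fun i => ⟨fun h hi => h ?_, fun h => ?_⟩)
        · simp only [d, if_pos hi, sub_self]
        · simp only [d, if_neg h]
          split_ifs
          · intro h'
            exact hu2 (by rw [sub_eq_zero] at h'; nth_rewrite 1 [← h']; exact inv_mul_cancel₀ (Units.ne_zero u))
          · exact sub_ne_zero.2 (Ne.symm hu1)
      refine use x hx ⟨1, ?_⟩ (fun z => ?_) u huq (by rw [hrank]; exact ⟨m - 1, by omega⟩) (Or.inl hrodd)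
      · rw [hxv, Matrix.diagonal_pow, one_smul, ← Matrix.diagonal_one]
        congr 1
        funext i
        simp only [d, Pi.pow_apply]
        split_ifs <;> simp [hur, inv_pow]
      · rw [hxv]
        refine update_ne_scalar h01 d ?_ z
        simp only [d, if_true, if_neg h01.symm]
        intro h
        exact hu2 (by nth_rewrite 1 [h]; exact inv_mul_cancel₀ (Units.ne_zero u))
    · -- one block of odd dimension
      obtain ⟨j, hj, hjn, hjd⟩ : ∃ j, Odd j ∧ j < n ∧ r ∣ q ^ j + 1 := by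
        by_contra hno
        push Not at hno
        obtain ⟨φ, hφi, hφ⟩ := UnitPair.exists_levi hq hn2 P
        refine FormTests.not_dvd_relIndex (O := φ.range) ?_ ?_ ?_ hΩ
        · rintro _ ⟨A, rfl⟩
          exact mem_stab_of_fix _ (hφ A).2.1 (hφ A).2.2
        · rintro _ ⟨A, rfl⟩ e he
          refine ⟨(hφ A).1, MonoidHom.mem_ker.2 ?_⟩
          have h2 := CfsgLib.ClassicalGroups.GU_det_pow hq ⟨φ A, (hφ A).1⟩
          have h3 : Matrix.GeneralLinearGroup.det (φ A) ^ r ^ e = 1 := by rw [← map_pow, he, map_one]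
          have hco : Nat.Coprime (r ^ e) (q + 1) := Nat.Coprime.pow_left e ((Nat.Prime.coprime_iff_not_dvd hr).2 h1)
          have := pow_gcd_eq_one.2 ⟨h3, h2⟩
          rwa [hco.gcd_eq_one, pow_one] at this
        · rw [show Nat.card φ.range = Nat.card (GL (Fin m) F) from
            Nat.card_congr (MonoidHom.ofInjective hφi).toEquiv.symm]
          refine le_trans ((padicValNat_dvd_iff_le Nat.card_pos.ne').1
            (pow_padicValNat_dvd.trans (Subgroup.card_dvd_of_le inf_le_left))) ?_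
          subst hn2
          exact val_GU_le hq hrq m fun j hj hjm => hno j hj hjm
      have hqz : ((q : ZMod r)) ^ j = -1 := by
        have := (ZMod.natCast_eq_zero_iff _ _).2 hjd
        rw [Nat.cast_add, Nat.cast_pow, Nat.cast_one] at this
        exact eq_neg_of_add_eq_zero_left this
      set b := orderOf ((q ^ 2 : ℕ) : ZMod r) with hbd
      have hbj : b ∣ j := orderOf_dvd_of_pow_eq_one (by
        rw [Nat.cast_pow, ← pow_mul, mul_comm, pow_mul, hqz, neg_one_sq])
      have hbodd : Odd b := hj.of_dvd_nat hbj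
      have hqb : ((q : ZMod r)) ^ b = -1 := by
        have hbb : ((q : ZMod r) ^ b) ^ 2 = 1 := by
          rw [← pow_mul, mul_comm, pow_mul, ← Nat.cast_pow, hbd, pow_orderOf_eq_one]
        refine (sq_eq_one_iff.1 hbb).resolve_left fun hb1 => ?_
        obtain ⟨c, hc⟩ := hbj
        rw [hc, pow_mul, hb1, one_pow] at hqz
        have h20 : ((2 : ℕ) : ZMod r) = 0 := by push_cast; linear_combination hqz
        exact hr2 ((Nat.prime_dvd_prime_iff_eq hr Nat.prime_two).1 ((ZMod.natCast_eq_zero_iff _ _).1 h20))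
      have hbdvd : r ∣ q ^ b + 1 := by
        rw [← ZMod.natCast_eq_zero_iff, Nat.cast_add, Nat.cast_pow, hqb, Nat.cast_one, neg_add_cancel]
      have hb0 : 0 < b := hbodd.pos
      have hbn : b < n := (Nat.le_of_dvd hj.pos hbj).trans_lt hjn
      have hdiv : r ∣ Nat.card (Cfsg.GU b F q) := by
        rw [CfsgLib.ClassicalGroups.card_GU hq]
        refine Dvd.dvd.mul_left (dvd_trans ?_ (Finset.dvd_prod_of_mem _ (Finset.mem_range.2
          (show b - 1 < b by omega)))) _
        rw [if_pos (by obtain ⟨k, hk⟩ := hbodd; exact ⟨k, by omega⟩), Nat.sub_add_cancel hb0]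
        exact hbdvd
      obtain ⟨g, hg⟩ := exists_prime_orderOf_dvd_card' r hdiv
      set X : Matrix (Fin b) (Fin b) F := ((g : GL (Fin b) F) : Matrix (Fin b) (Fin b) F) with hXd
      have hX : X ^ r = 1 := by
        rw [hXd, ← Units.val_pow_eq_pow_val, ← SubgroupClass.coe_pow, ← hg, pow_orderOf_eq_one]
        rfl
      have hX1 : X ≠ 1 := fun h => by
        have : g = 1 := Subtype.ext (Units.ext h)
        rw [this, orderOf_one] at hg
        exact hr.one_lt.ne hg
      have hXu : CfsgLib.IsomConj.ctr q X * X = 1 := (CfsgLib.IsomConj.mem_GU_iff_ctr hq).1 g.2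
      have hXdet : X.det = 1 := by
        have h2 := CfsgLib.ClassicalGroups.GU_det_pow hq g
        have h3 : Matrix.GeneralLinearGroup.det (g : GL (Fin b) F) ^ r = 1 := by
          rw [← map_pow, ← SubgroupClass.coe_pow, ← hg, pow_orderOf_eq_one, OneMemClass.coe_one, map_one]
        have hco : Nat.Coprime r (q + 1) := (Nat.Prime.coprime_iff_not_dvd hr).2 h1
        have := pow_gcd_eq_one.2 ⟨h3, h2⟩
        rw [hco.gcd_eq_one, pow_one] at this
        exact congrArg Units.val this
      have hXrank : (X - 1).rank = b := by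
        set T : Module.End F (Fin b → F) := Matrix.toLinAlgEquiv' X with hT
        have hTr : T ^ r = 1 := by rw [hT, ← map_pow, hX, map_one]
        have hmove := CfsgLib.OrderR.disjoint_fix_move T hTr hrF
        have hrange : (X - 1).rank = Module.finrank F (LinearMap.range (T - 1)) := by
          rw [hT, ← map_one (Matrix.toLinAlgEquiv' (R := F) (n := Fin b)), ← map_sub]
          rfl
        have hdiv' := CfsgLib.OrderR.orderOf_dvd_finrank T hq hTr (LinearMap.range (T - 1))
          (by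
            rintro _ ⟨_, ⟨w, rfl⟩, rfl⟩
            exact ⟨T w, by simp [map_sub]⟩)
          (fun v hv hTv => Submodule.disjoint_def.1 hmove v (by simp [LinearMap.mem_ker, hTv]) hv)
        rw [← hbd, ← hrange] at hdiv'
        have hle : (X - 1).rank ≤ b := (Matrix.rank_le_card_width _).trans (by simp)
        have hpos : 0 < (X - 1).rank := Nat.pos_of_ne_zero fun h0 => hX1 (by
          have h0' : LinearMap.range ((X - 1).mulVecLin) = ⊥ := Submodule.finrank_eq_zero.1 h0
          rw [LinearMap.range_eq_bot] at h0'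
          refine sub_eq_zero.1 (Matrix.ext_of_mulVec_single fun i => ?_)
          have := LinearMap.congr_fun h0' (Pi.single i 1)
          rw [Matrix.mulVecLin_apply] at this
          rw [this, Matrix.zero_mulVec]; rfl)
        exact le_antisymm hle (Nat.le_of_dvd hpos hdiv')
      obtain ⟨a, rfl⟩ := Nat.exists_eq_add_of_le hbn.le
      let Y : Matrix (Fin (b + a)) (Fin (b + a)) F := Matrix.reindex finSumFinEquiv finSumFinEquiv (Matrix.fromBlocks X 0 0 1)
      have hYdet : Y.det = 1 := by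
        show (Matrix.reindex _ _ _).det = 1
        rw [Matrix.det_reindex_self, Matrix.det_fromBlocks_zero₂₁, hXdet, Matrix.det_one, one_mul]
      let y : GL (Fin (b + a)) F := Matrix.GeneralLinearGroup.mkOfDetNeZero Y (by rw [hYdet]; exact one_ne_zero)
      have hy : y ∈ SUg (b + a) F q := by
        refine ⟨(CfsgLib.IsomConj.mem_GU_iff_ctr hq).2 ?_, MonoidHom.mem_ker.2 (Units.ext hYdet)⟩
        show CfsgLib.IsomConj.ctr q Y * Y = 1
        have h1' : CfsgLib.IsomConj.ctr q (1 : Matrix (Fin a) (Fin a) F) = 1 := by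
          simpa using (CfsgLib.IsomConj.mem_GU_iff_ctr hq).1 (Cfsg.GU a F q).one_mem
        show CfsgLib.IsomConj.ctr q (Matrix.reindex _ _ _) * Matrix.reindex _ _ _ = 1
        rw [CfsgLib.PrimeClasses.ctr_fromBlocks (by omega), CfsgLib.PrimeClasses.reindex_mul, Matrix.fromBlocks_multiply]
        simp only [hXu, h1', Matrix.mul_zero, Matrix.zero_mul, add_zero, zero_add, mul_one, Matrix.fromBlocks_one,
          CfsgLib.PrimeClasses.reindex_one]
      have hrankY : (Y - (1 : F) • 1).rank = b := by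
        have hY1 : Y - 1 = Matrix.reindex finSumFinEquiv finSumFinEquiv (Matrix.fromBlocks (X - 1) 0 0 0) := by
          show Matrix.reindex _ _ _ - 1 = _
          rw [← CfsgLib.PrimeClasses.reindex_one (K := F) (a := b) (b := a)]
          ext i j
          obtain ⟨i, rfl⟩ := finSumFinEquiv.surjective i
          obtain ⟨j, rfl⟩ := finSumFinEquiv.surjective j
          rcases i with i | i <;> rcases j with j | j <;>
            simp [Matrix.one_apply, Matrix.fromBlocks, Fin.ext_iff] <;> omega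
        rw [one_smul, hY1, Matrix.reindex_apply, Matrix.rank_submatrix, CfsgLib.PrimeClasses.rank_fromBlocks_diag,
          hXrank, Matrix.rank_zero, add_zero]
      refine use y hy ⟨1, ?_⟩ (fun z hz => ?_) 1 (one_pow _) (by show Odd (Y - (1 : F) • 1).rank; rw [hrankY]; exact hbodd)
        (Or.inl hrodd)
      · show Y ^ r = _
        show (Matrix.reindex _ _ _) ^ r = _
        rw [CfsgLib.PrimeClasses.reindex_pow, CfsgLib.PrimeClasses.fromBlocks_pow, hX, one_pow,
          Matrix.fromBlocks_one, CfsgLib.PrimeClasses.reindex_one, one_smul]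
      · change Y = z • 1 at hz
        have h00 := congrArg (fun M : Matrix (Fin (b + a)) (Fin (b + a)) F => M (finSumFinEquiv (Sum.inr ⟨0, by omega⟩))
          (finSumFinEquiv (Sum.inr ⟨0, by omega⟩))) hz
        simp [Y, -finSumFinEquiv_apply_right] at h00
        rw [← h00, one_smul] at hz
        rw [hz, one_smul, sub_self, Matrix.rank_zero] at hrankY
        omega
  · rintro ⟨rfl, hodd, hv⟩ x hx ⟨z, hz⟩ -
    rw [Units.val_pow_eq_pow_val] at hz
    obtain ⟨P₀, P₁, Q, f₀, f₁⟩ := exists_fix_pair hq hodd (by omega : n = m * 2) hm0 hv hx hz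
    exact conj_of_fix hq hn2 hm0 P Q x f₀ f₁

end Cfsg.Agent.S5984
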