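import Cfsg.Statements.S5985
import Cfsg.Agent.Lib.PrimeElusive.NonsingPoint
import Cfsg.Agent.Lib.PrimeClasses.OrthRealise
import Cfsg.Agent.Lib.Maximal99.OrderR

set_option autoImplicit false
open scoped MatrixGroups
open Cfsg

namespace Cfsg.Agent.S5985

open Matrix CfsgLib.Orth CfsgLib.PrimeElusive.NonsingPoint

/-- Elements of prime order of Ω⁺_n(q), q even, with no fixed nonsingular 1-space. Here `T = PΩ⁺_n(F)`, `n = 2d ≥ 8`, realised through `Ω⁺_n(q)`, the commutator subgroup of the isometry group of `Q = Σ xᵢyᵢ` over the field `F` with `q` elements; an element of `T` of prime order `r` is an element `x` of `Ω⁺_n(q)` with `x^r` scalar and `x` not scalar; `q` is even (so the centre is trivial). Let Ω be the set of 1-dimensional subspaces spanned by a vector `v` with `Q(v) ≠ 0`, and let `r` be a prime dividing their number. Then every element of `T` of order `r` fixes some nonsingular 1-space if and only if `r = 2` and `n ≡ 2 (mod 4)` (that is, `d` is odd). -/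
theorem result {F : Type*} [Field F] [Fintype F] {p : ℕ} [Fact p.Prime] [CharP F p] {q : ℕ} (hq : Fintype.card F = q)
    (hp : p = 2) (d : ℕ) (hd : 4 ≤ d) (r : ℕ) [Fact r.Prime]
    (hrΩ : r ∣ Nat.card {W : Submodule F (Fin d ⊕ Fin d → F) // Module.finrank F ↥W = 1 ∧ ∃ v ∈ W, Cfsg.quadFormPlus d F v ≠ 0}) :
    (∀ x : GL (Fin d ⊕ Fin d) F, x ∈ Cfsg.Geo.omegaGL (Cfsg.quadFormPlus d F) →
      (∃ z : F, ((x ^ r : GL (Fin d ⊕ Fin d) F) : Matrix (Fin d ⊕ Fin d) (Fin d ⊕ Fin d) F) = z • (1 : Matrix (Fin d ⊕ Fin d) (Fin d ⊕ Fin d) F)) →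
      (∀ z : F, (x : Matrix (Fin d ⊕ Fin d) (Fin d ⊕ Fin d) F) ≠ z • (1 : Matrix (Fin d ⊕ Fin d) (Fin d ⊕ Fin d) F)) →
      ∃ W : Submodule F (Fin d ⊕ Fin d → F), (Module.finrank F ↥W = 1 ∧ ∃ v ∈ W, Cfsg.quadFormPlus d F v ≠ 0) ∧ W.map (Matrix.toLin' (x : Matrix (Fin d ⊕ Fin d) (Fin d ⊕ Fin d) F)) ≤ W) ↔ (r = 2 ∧ Odd d) := by
  classical
  subst hp
  have hd0 : 0 < d := by omega
  have hcard : Fintype.card (Fin d ⊕ Fin d) = 2 * d := by simp [two_mul]
  have hQ := CfsgLib.Orth.plusQ_nondegenerate (F := F) d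
  rw [← CfsgLib.Orth.plusQ_coe d] at hrΩ ⊢
  set Q := CfsgLib.Orth.plusQ d F with hQdef
  obtain ⟨v₀, hv₀⟩ := exists_anisotropic hQ (by rw [hcard]; omega)
  have hr : r.Prime := Fact.out
  have hq2 : 2 ∣ q := by
    obtain ⟨e, -, he⟩ := FiniteField.card F 2
    rw [hq] at he
    rw [he]
    exact dvd_pow_self 2 e.ne_zero
  have hmain : ∀ (h2 : r ≠ 2), r ∣ q ^ d - 1 := by
    intro h2
    have h1 := card_points Q
    have hz := CfsgLib.ClassicalGroups.card_zero_plus (F := F) d
    rw [hq] at hz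
    have hZ : Nat.card {v : Fin d ⊕ Fin d → F // Q v = 0} =
        Nat.card {v : Fin d ⊕ Fin d → F // Cfsg.quadFormPlus d F v = 0} := by
      rw [hQdef, CfsgLib.Orth.plusQ_coe]
    have htot : Nat.card {v : Fin d ⊕ Fin d → F // Q v = 0} + Nat.card {v : Fin d ⊕ Fin d → F // Q v ≠ 0} =
        q ^ (2 * d) := by
      rw [← Nat.card_sum, Nat.card_congr (Equiv.sumCompl fun v : Fin d ⊕ Fin d → F => Q v = 0),
        CfsgLib.ClassicalGroups.natCard_pow, hq, hcard]
    rw [← hZ] at hz
    rw [← h1, Nat.card_units, Nat.card_eq_fintype_card (α := F), hq] at htot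
    obtain ⟨k, hk⟩ := hrΩ
    have hrq : ¬ r ∣ q := fun hd' => by
      obtain ⟨e, -, he⟩ := FiniteField.card F 2
      rw [hq] at he
      rw [he] at hd'
      exact h2 ((Nat.prime_dvd_prime_iff_eq hr Nat.prime_two).1 (hr.dvd_of_dvd_pow hd'))
    have hq1 : 2 ≤ q := hq ▸ Fintype.one_lt_card
    have hP : 1 ≤ q ^ d := Nat.one_le_pow _ _ (by omega)
    set a := Nat.card {v : Fin d ⊕ Fin d → F // Q v = 0}
    set b := Nat.card (Pts (⇑Q : (Fin d ⊕ Fin d → F) → F))
    have key : q * b = q ^ d * (q ^ d - 1) := by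
      have e1 : q * a + q * (b * (q - 1)) = q ^ d * q ^ d * q := by
        rw [← mul_add, htot, two_mul, pow_add]; ring
      rw [two_mul, pow_add, pow_succ] at hz
      zify [hP, (show 1 ≤ q by omega)] at hz e1 ⊢
      have hq' : ((q : ℤ) - 1) ≠ 0 := by omega
      refine mul_right_cancel₀ hq' ?_
      linear_combination e1 - hz
    have : r ∣ q ^ d * (q ^ d - 1) := (dvd_mul_of_dvd_right ⟨k, hk⟩ q).trans (dvd_of_eq key)
    rcases hr.dvd_mul.1 this with h' | h'
    · exact absurd (hr.dvd_of_dvd_pow h') hrq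
    · exact h'
  constructor
  · intro hall
    have hrefute : ∀ X : Matrix (Fin d ⊕ Fin d) (Fin d ⊕ Fin d) F, X ^ r = 1 → (∀ v, Q (X *ᵥ v) = Q v) →
        (∀ v, X *ᵥ v = v → Q v = 0) → (Odd r ∨ (r = 2 ∧ Even (X - 1).rank)) → False := by
      intro X hX hXQ hfix hcase
      obtain ⟨g, rfl⟩ : ∃ g : GL (Fin d ⊕ Fin d) F, (g : Matrix _ _ F) = X :=
        ⟨(IsUnit.of_pow_eq_one hX hr.ne_zero).unit, IsUnit.unit_spec _⟩
      have hg : g ∈ Cfsg.isometryGroup F (⇑Q) := fun u _ => hXQ u
      have hgr : g ^ r = 1 := Units.ext (by rw [Units.val_pow_eq_pow_val, hX, Units.val_one])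
      have hgΩ : g ∈ Cfsg.Geo.omegaGL (⇑Q) := by
        rcases hcase with h | ⟨-, h⟩
        · exact mem_omegaGL_of_odd hQ (by omega) hg h hgr
        · exact ⟨⟨g, hg⟩, (CfsgLib.KnownSimple.InvolForms.mem_omega_iff_rank hQ (by omega) rfl ⟨g, hg⟩).2 h, rfl⟩
      obtain ⟨v, hv, hvf⟩ := (fixes_point_iff hg).1 (hall g hgΩ ⟨1, by rw [hgr, Units.val_one, one_smul]⟩
        (ne_scalar hg hv₀ fun h => hv₀ (hfix _ h)))
      exact hv (hfix v hvf)
    have h2 : r = 2 := by
      by_contra h2
      have hodd := hr.odd_of_ne_two h2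
      have hrK : (r : F) ≠ 0 := by
        rw [Ne, CharP.cast_eq_zero_iff F 2]
        exact fun h => h2 ((Nat.prime_dvd_prime_iff_eq Nat.prime_two hr).1 h).symm
      obtain ⟨ζ, hζ, -⟩ := CfsgLib.PrimeClasses.exists_root hrK
      have hid : orderOf (Fintype.card F : ZMod r) ∣ d := by
        rw [hq]
        exact (CfsgLib.OrderR.orderOf_dvd_iff (hq ▸ Fintype.card_pos)).2 (hmain h2)
      obtain ⟨N, hN⟩ := hid
      obtain ⟨X, hX, hXc⟩ := CfsgLib.PrimeClasses.exists_GL_realise hζ hrK
        (Pi.single (1 : CfsgLib.PrimeClasses.Orbits hrK) N) d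
        (by rw [Finset.sum_pi_single', if_pos (Finset.mem_univ _)]; exact hN.ge)
      have hXfix : ∀ v, X *ᵥ v = v → v = 0 := fun v hv =>
        CfsgLib.PrimeClasses.eq_zero_of_fixed hζ hrK hX (by
          rw [hXc, Finset.sum_pi_single', if_pos (Finset.mem_univ _), Fintype.card_fin]; exact hN.symm) hv
      let Xi : Matrix (Fin d) (Fin d) F := X ^ (r - 1)
      have hXi : Xi * X = 1 := by
        show X ^ (r - 1) * X = 1
        rw [← pow_succ, Nat.sub_add_cancel hr.pos, hX]
      refine hrefute (Matrix.fromBlocks X 0 0 Xiᵀ) ?_ (fun v => ?_) (fun v hv => ?_) (Or.inl hodd)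
      · rw [Matrix.fromBlocks_diagonal_pow, hX, ← transpose_pow, ← pow_mul, mul_comm, pow_mul, hX, one_pow,
          transpose_one, Matrix.fromBlocks_one]
      · rw [hQdef, CfsgLib.Orth.plusQ_coe]
        have key : ∀ a b : Fin d → F, (X *ᵥ a) ⬝ᵥ (Xiᵀ *ᵥ b) = a ⬝ᵥ b := fun a b => by
          rw [Matrix.mulVec_transpose, dotProduct_comm, ← Matrix.dotProduct_mulVec, mulVec_mulVec, hXi,
            one_mulVec, dotProduct_comm]
        simp only [Cfsg.quadFormPlus, Matrix.fromBlocks_mulVec, Sum.elim_inl, Sum.elim_inr,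
          zero_mulVec, add_zero, zero_add]
        exact key _ _
      · rw [Matrix.fromBlocks_mulVec] at hv
        have h0 := hXfix (v ∘ Sum.inl) (funext fun i => by simpa using congrFun hv (Sum.inl i))
        rw [hQdef, CfsgLib.Orth.plusQ_coe]
        simp only [Cfsg.quadFormPlus]
        exact Finset.sum_eq_zero fun i _ => by rw [show v (Sum.inl i) = 0 from congrFun h0 i, zero_mul]
    refine ⟨h2, Nat.not_even_iff_odd.1 fun hev => ?_⟩
    subst h2
    let P : Matrix (Fin d) (Fin d) F := (1 : Matrix (Fin d) (Fin d) F).submatrix Fin.rev id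
    have hP : ∀ (w : Fin d → F) i, (P *ᵥ w) i = w (Fin.rev i) := fun w i => by
      simp [P, Matrix.mulVec, dotProduct, Matrix.one_apply]
    refine hrefute (Matrix.fromBlocks 1 P 0 1) ?_ (fun v => ?_) (fun v hv => ?_) (Or.inr ⟨rfl, ?_⟩)
    · rw [pow_two, Matrix.fromBlocks_multiply]
      simp only [one_mul, mul_one, zero_mul, mul_zero, add_zero, zero_add]
      rw [show P + P = 0 by ext i j; exact CharTwo.add_self_eq_zero _, Matrix.fromBlocks_one]
    · rw [hQdef, CfsgLib.Orth.plusQ_coe]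
      simp only [Cfsg.quadFormPlus, Matrix.fromBlocks_mulVec, Sum.elim_inl, Sum.elim_inr, one_mulVec,
        zero_mulVec, zero_add, Pi.add_apply, add_mul, Finset.sum_add_distrib, hP, Function.comp_apply]
      rw [add_eq_left]
      refine Finset.sum_involution (fun i _ => Fin.rev i) (fun i _ => ?_) (fun i _ _ h => ?_)
        (fun _ _ => Finset.mem_univ _) (fun i _ => Fin.rev_rev i)
      · rw [Fin.rev_rev, mul_comm (v (Sum.inr i)), CharTwo.add_self_eq_zero]
      · have := congrArg Fin.val h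
        rw [Fin.val_rev] at this
        obtain ⟨k, hk⟩ := hev
        omega
    · rw [Matrix.fromBlocks_mulVec] at hv
      have h0 : ∀ i, v (Sum.inr i) = 0 := fun i => by
        have := congrFun hv (Sum.inl (Fin.rev i))
        simpa [hP] using this
      rw [hQdef, CfsgLib.Orth.plusQ_coe]
      exact Finset.sum_eq_zero fun i _ => by rw [h0 i, mul_zero]
    · have hrk : (Matrix.fromBlocks 1 P 0 1 - 1 : Matrix (Fin d ⊕ Fin d) (Fin d ⊕ Fin d) F).rank = d := by
        rw [← Matrix.fromBlocks_one, sub_eq_add_neg, Matrix.fromBlocks_neg, Matrix.fromBlocks_add]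
        simp only [add_neg_cancel, neg_zero, add_zero]
        show Module.finrank F (LinearMap.range (Matrix.fromBlocks 0 P 0 0).mulVecLin) = d
        let L : (Fin d → F) →ₗ[F] (Fin d ⊕ Fin d → F) :=
          { toFun := fun w => Sum.elim w 0
            map_add' := fun u w => by funext a; rcases a with a | a <;> simp
            map_smul' := fun c w => by funext a; rcases a with a | a <;> simp }
        have hr' : LinearMap.range (Matrix.fromBlocks (0 : Matrix (Fin d) (Fin d) F) P 0 (0 : Matrix (Fin d) (Fin d) F)).mulVecLin = LinearMap.range L := by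
          ext w
          constructor
          · rintro ⟨u, rfl⟩
            exact ⟨P *ᵥ (u ∘ Sum.inr), by rw [Matrix.mulVecLin_apply, Matrix.fromBlocks_mulVec]; simp [L]⟩
          · rintro ⟨u, rfl⟩
            refine ⟨Sum.elim 0 (fun i => u (Fin.rev i)), ?_⟩
            rw [Matrix.mulVecLin_apply, Matrix.fromBlocks_mulVec]
            funext a
            rcases a with a | a <;> simp [L, hP]
        rw [hr', LinearMap.finrank_range_of_inj (fun u w h => funext fun i => by
          simpa [L] using congrFun h (Sum.inl i)), Module.finrank_fin_fun]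
      rw [hrk]; exact hev
  · rintro ⟨rfl, hdo⟩ x hx ⟨z, hz⟩ -
    have hxi := omega_le_isometry hx
    exact (fixes_point_iff hxi).2 (fixed_of_involution hQ hcard (by omega) hx
      (pow_eq_one_of_scalar hxi hv₀ hz) (Or.inl hdo))

end Cfsg.Agent.S5985
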