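import Cfsg.Statements.S5986
import Cfsg.Agent.Lib.PrimeElusive.NonsingPoint
import Cfsg.Agent.Lib.PrimeClasses.OrthRealise

set_option autoImplicit false
open scoped MatrixGroups
open Cfsg

namespace Cfsg.Agent.S5986

open Matrix CfsgLib.Orth CfsgLib.PrimeElusive.NonsingPoint

/-- Elements of prime order of Ω⁻_n(q), q even, with no fixed nonsingular 1-space. Here `T = PΩ⁻_n(F)`, `n = 2d ≥ 8`, realised through `Ω⁻_n(q)`, the commutator subgroup of the isometry group of `Q = Σ_{i<d−1} xᵢyᵢ + z₁² + a z₁z₂ + b z₂²` with `z₁² + a z₁z₂ + b z₂²` anisotropic, over the field `F` with `q` elements; an element of `T` of prime order `r` is an element `x` of `Ω⁻_n(q)` with `x^r` scalar and `x` not scalar; `q` is even (so the centre is trivial). Let Ω be the set of 1-dimensional subspaces spanned by a vector `v` with `Q(v) ≠ 0`, and let `r` be a prime dividing their number. Then every element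 of `T` of order `r` fixes some nonsingular 1-space if and only if `r = 2`. -/
theorem aux {F : Type*} [Field F] [Fintype F] {p : ℕ} [Fact p.Prime] [CharP F p] {q : ℕ} (hq : Fintype.card F = q)
    (hp : p = 2) (k : ℕ) (hd : 4 ≤ k + 1) (a b : F) (hab : ∀ x y : F, x ^ 2 + a * x * y + b * y ^ 2 = 0 → x = 0 ∧ y = 0) (r : ℕ) [Fact r.Prime]
    (hrΩ : r ∣ Nat.card {W : Submodule F ((Fin k ⊕ Fin k) ⊕ Fin 2 → F) // Module.finrank F ↥W = 1 ∧ ∃ v ∈ W, Cfsg.quadFormMinus k F a b v ≠ 0}) :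
    (∀ x : GL ((Fin k ⊕ Fin k) ⊕ Fin 2) F, x ∈ Cfsg.Geo.omegaGL (Cfsg.quadFormMinus k F a b) →
      (∃ z : F, ((x ^ r : GL ((Fin k ⊕ Fin k) ⊕ Fin 2) F) : Matrix ((Fin k ⊕ Fin k) ⊕ Fin 2) ((Fin k ⊕ Fin k) ⊕ Fin 2) F) = z • (1 : Matrix ((Fin k ⊕ Fin k) ⊕ Fin 2) ((Fin k ⊕ Fin k) ⊕ Fin 2) F)) →
      (∀ z : F, (x : Matrix ((Fin k ⊕ Fin k) ⊕ Fin 2) ((Fin k ⊕ Fin k) ⊕ Fin 2) F) ≠ z • (1 : Matrix ((Fin k ⊕ Fin k) ⊕ Fin 2) ((Fin k ⊕ Fin k) ⊕ Fin 2) F)) →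
      ∃ W : Submodule F ((Fin k ⊕ Fin k) ⊕ Fin 2 → F), (Module.finrank F ↥W = 1 ∧ ∃ v ∈ W, Cfsg.quadFormMinus k F a b v ≠ 0) ∧ W.map (Matrix.toLin' (x : Matrix ((Fin k ⊕ Fin k) ⊕ Fin 2) ((Fin k ⊕ Fin k) ⊕ Fin 2) F)) ≤ W) ↔ r = 2 := by
  classical
  subst hp
  have hcard : Fintype.card ((Fin k ⊕ Fin k) ⊕ Fin 2) = 2 * (k + 1) := by simp; omega
  have hQ := CfsgLib.KnownSimple.InvolForms.minusQ_nondegenerate_two (k := k) hab
  have hsing := CfsgLib.KnownSimple.InvolForms.minusQ_finrank_singular (k := k) hab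
  rw [← CfsgLib.Orth.minusQ_coe k a b] at hrΩ ⊢
  set Q := CfsgLib.Orth.minusQ k F a b with hQdef
  obtain ⟨v₀, hv₀⟩ := exists_anisotropic hQ (by rw [hcard]; omega)
  have hr : r.Prime := Fact.out
  constructor
  · intro hall
    by_contra h2
    have hodd := hr.odd_of_ne_two h2
    have hrK : (r : F) ≠ 0 := by
      rw [Ne, CharP.cast_eq_zero_iff F 2]
      exact fun h => h2 ((Nat.prime_dvd_prime_iff_eq Nat.prime_two hr).1 h).symm
    have hrq : ¬ r ∣ q := fun hd' => by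
      obtain ⟨e, -, he⟩ := FiniteField.card F 2
      rw [hq] at he
      rw [he] at hd'
      exact h2 ((Nat.prime_dvd_prime_iff_eq hr Nat.prime_two).1 (hr.dvd_of_dvd_pow hd'))
    have hdiv : r ∣ q ^ (k + 1) + 1 := by
      have h1 := card_points Q
      have hz := CfsgLib.ClassicalGroups.card_zero_minus hab k
      rw [hq] at hz
      have hZ : Nat.card {v : (Fin k ⊕ Fin k) ⊕ Fin 2 → F // Q v = 0} =
          Nat.card {v : (Fin k ⊕ Fin k) ⊕ Fin 2 → F // Cfsg.quadFormMinus k F a b v = 0} := by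
        rw [hQdef, CfsgLib.Orth.minusQ_coe]
      have htot : Nat.card {v : (Fin k ⊕ Fin k) ⊕ Fin 2 → F // Q v = 0} +
          Nat.card {v : (Fin k ⊕ Fin k) ⊕ Fin 2 → F // Q v ≠ 0} = q ^ (2 * (k + 1)) := by
        rw [← Nat.card_sum, Nat.card_congr (Equiv.sumCompl fun v : (Fin k ⊕ Fin k) ⊕ Fin 2 → F => Q v = 0),
          CfsgLib.ClassicalGroups.natCard_pow, hq, hcard]
      rw [← hZ] at hz
      rw [← h1, Nat.card_units, Nat.card_eq_fintype_card (α := F), hq] at htot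
      obtain ⟨c, hc⟩ := hrΩ
      have hq1 : 2 ≤ q := hq ▸ Fintype.one_lt_card
      set A := Nat.card {v : (Fin k ⊕ Fin k) ⊕ Fin 2 → F // Q v = 0}
      set B := Nat.card (Pts (⇑Q : ((Fin k ⊕ Fin k) ⊕ Fin 2 → F) → F))
      have key : q * B = q ^ (k + 1) * (q ^ (k + 1) + 1) := by
        zify [(show 1 ≤ q by omega)] at hz htot ⊢
        have hq' : ((q : ℤ) - 1) ≠ 0 := by omega
        refine mul_right_cancel₀ hq' ?_
        linear_combination (q : ℤ) * htot - hz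
      have : r ∣ q ^ (k + 1) * (q ^ (k + 1) + 1) := (dvd_mul_of_dvd_right ⟨c, hc⟩ q).trans (dvd_of_eq key)
      rcases hr.dvd_mul.1 this with h' | h'
      · exact absurd (hr.dvd_of_dvd_pow h') hrq
      · exact h'
    obtain ⟨ζ, hζ, -⟩ := CfsgLib.PrimeClasses.exists_root hrK
    set i := orderOf (Fintype.card F : ZMod r) with hi
    have hneg : ((q : ZMod r)) ^ (k + 1) = -1 :=
      eq_neg_of_add_eq_zero_left (by exact_mod_cast (ZMod.natCast_eq_zero_iff _ _).2 hdiv)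
    have hne : ¬ i ∣ k + 1 := fun h => by
      rw [hi, hq, orderOf_dvd_iff_pow_eq_one, hneg] at h
      have h' : ((2 : ℕ) : ZMod r) = 0 := by
        push_cast
        linear_combination -h
      exact h2 ((Nat.prime_dvd_prime_iff_eq hr Nat.prime_two).1 ((ZMod.natCast_eq_zero_iff _ _).1 h'))
    obtain ⟨N, hN⟩ : i ∣ 2 * (k + 1) := by
      rw [hi, hq, orderOf_dvd_iff_pow_eq_one, mul_comm, pow_mul, hneg]
      ring
    obtain ⟨j, hj⟩ : ∃ j, i = 2 * j := by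
      rcases Nat.even_or_odd i with ⟨j, hj⟩ | hio
      · exact ⟨j, by omega⟩
      · exact absurd ((Nat.Coprime.dvd_mul_left hio.coprime_two_right).1 ⟨N, hN⟩) hne
    have hk1 : k + 1 = N * j := by
      have e : 2 * (k + 1) = 2 * (N * j) := by rw [hN, hj]; ring
      omega
    have hNodd : Odd N := Nat.not_even_iff_odd.1 fun ⟨u, hu⟩ => hne ⟨u, by rw [hk1, hu, hj]; ring⟩
    have hsum : (∑ ω, (Pi.single (1 : CfsgLib.PrimeClasses.Orbits hrK) N : CfsgLib.PrimeClasses.Orbits hrK → ℕ) ω) = N := by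
      rw [Finset.sum_pi_single', if_pos (Finset.mem_univ _)]
    have hreal := (CfsgLib.PrimeClasses.O_realise_blocks hζ hrK hab hj
      (Pi.single (1 : CfsgLib.PrimeClasses.Orbits hrK) N)).2
    rw [hsum, ← hk1, Nat.add_sub_cancel] at hreal
    obtain ⟨X, hX, hXQ, hXc⟩ := hreal hNodd
    have hfull : i * ∑ ω, CfsgLib.PrimeClasses.orbitMult hζ hrK X ω = Fintype.card ((Fin k ⊕ Fin k) ⊕ Fin 2) := by
      rw [hXc, hsum, hcard, hN]
    obtain ⟨g, rfl⟩ : ∃ g : GL ((Fin k ⊕ Fin k) ⊕ Fin 2) F, (g : Matrix _ _ F) = X :=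
      ⟨(IsUnit.of_pow_eq_one hX hr.ne_zero).unit, IsUnit.unit_spec _⟩
    have hg : g ∈ Cfsg.isometryGroup F (⇑Q) := fun u _ => by
      rw [hQdef, CfsgLib.Orth.minusQ_coe]; exact hXQ u
    have hgr : g ^ r = 1 := Units.ext (by rw [Units.val_pow_eq_pow_val, hX, Units.val_one])
    obtain ⟨v, hv, hvf⟩ := (fixes_point_iff hg).1 (hall g (mem_omegaGL_of_odd hQ (by omega) hg hodd hgr)
      ⟨1, by rw [hgr, Units.val_one, one_smul]⟩
      (ne_scalar hg hv₀ fun h => hv₀ (by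
        rw [CfsgLib.PrimeClasses.eq_zero_of_fixed hζ hrK hX hfull h, QuadraticMap.map_zero])))
    exact hv (by rw [CfsgLib.PrimeClasses.eq_zero_of_fixed hζ hrK hX hfull hvf, QuadraticMap.map_zero])
  · rintro rfl x hx ⟨z, hz⟩ -
    have hxi := omega_le_isometry hx
    exact (fixes_point_iff hxi).2 (fixed_of_involution hQ hcard (by omega) hx
      (pow_eq_one_of_scalar hxi hv₀ hz) (Or.inr fun W hW => Nat.lt_succ_of_le (hsing W hW)))

theorem result {F : Type*} [Field F] [Fintype F] {p : ℕ} [Fact p.Prime] [CharP F p] {q : ℕ} (hq : Fintype.card F = q)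
    (hp : p = 2) (d : ℕ) (hd : 4 ≤ d) (a b : F) (hab : ∀ x y : F, x ^ 2 + a * x * y + b * y ^ 2 = 0 → x = 0 ∧ y = 0) (r : ℕ) [Fact r.Prime]
    (hrΩ : r ∣ Nat.card {W : Submodule F ((Fin (d - 1) ⊕ Fin (d - 1)) ⊕ Fin 2 → F) // Module.finrank F ↥W = 1 ∧ ∃ v ∈ W, Cfsg.quadFormMinus (d - 1) F a b v ≠ 0}) :
    (∀ x : GL ((Fin (d - 1) ⊕ Fin (d - 1)) ⊕ Fin 2) F, x ∈ Cfsg.Geo.omegaGL (Cfsg.quadFormMinus (d - 1) F a b) →
      (∃ z : F, ((x ^ r : GL ((Fin (d - 1) ⊕ Fin (d - 1)) ⊕ Fin 2) F) : Matrix ((Fin (d - 1) ⊕ Fin (d - 1)) ⊕ Fin 2) ((Fin (d - 1) ⊕ Fin (d - 1)) ⊕ Fin 2) F) = z • (1 : Matrix ((Fin (d - 1) ⊕ Fin (d - 1)) ⊕ Fin 2) ((Fin (d - 1) ⊕ Fin (d - 1)) ⊕ Fin 2) F)) →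
      (∀ z : F, (x : Matrix ((Fin (d - 1) ⊕ Fin (d - 1)) ⊕ Fin 2) ((Fin (d - 1) ⊕ Fin (d - 1)) ⊕ Fin 2) F) ≠ z • (1 : Matrix ((Fin (d - 1) ⊕ Fin (d - 1)) ⊕ Fin 2) ((Fin (d - 1) ⊕ Fin (d - 1)) ⊕ Fin 2) F)) →
      ∃ W : Submodule F ((Fin (d - 1) ⊕ Fin (d - 1)) ⊕ Fin 2 → F), (Module.finrank F ↥W = 1 ∧ ∃ v ∈ W, Cfsg.quadFormMinus (d - 1) F a b v ≠ 0) ∧ W.map (Matrix.toLin' (x : Matrix ((Fin (d - 1) ⊕ Fin (d - 1)) ⊕ Fin 2) ((Fin (d - 1) ⊕ Fin (d - 1)) ⊕ Fin 2) F)) ≤ W) ↔ r = 2 := aux hq hp (d - 1) (by omega) a b hab r hrΩ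

end Cfsg.Agent.S5986
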