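import Cfsg.Statements.S5987
import Cfsg.Agent.Lib.OrthFix57.TSCount
import Cfsg.Agent.Lib.OrthFix57.TSCriterion
import Cfsg.Agent.Lib.OrthFix57.TSDvd
import Cfsg.Agent.Lib.OrthFix57.TSTwo

set_option autoImplicit false
set_option maxHeartbeats 4000000
open scoped MatrixGroups
open Cfsg

namespace Cfsg.Agent.S5987

theorem blocks_arith (i c n m b A ℓ M Na K B Nn Nb t : ℕ) (_hn : n = b + M)
    (hi0 : 0 < i) (hc : (i % 2 = 0 ∧ c = i ∧ ((ℓ + ℓ < i ∧ Na = A + A ∧ M % c = ℓ + ℓ) ∨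
        (i ≤ ℓ + ℓ ∧ Na = A + A + 1 ∧ M % c + i = ℓ + ℓ))) ∨
      (i % 2 = 1 ∧ c = 2 * i ∧ Na = A ∧ M % c = 2 * ℓ))
    (hl : ℓ < i) (hA : (m < i ∧ A = 0) ∨ (i ≤ m ∧ 1 ≤ A)) (ht : 1 ≤ t)
    (hB0 : B = 0 → 1 ≤ Nb)
    (e1 : (B + M % c < c ∧ K = B + M % c ∧ Nn = Nb + Na) ∨ (c ≤ B + M % c ∧ K + c = B + M % c ∧ Nn = Nb + Na + 1))
    (eK : K % 2 = 0) (eB : B % 2 = 0) (hB : B < c)
    (hne : (if ¬ B = 0 ∨ i % 2 = 0 ∧ Nb % 2 = 1 then Nb else Nb - 1) ≠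
      if ¬ K = 0 ∨ i % 2 = 0 ∧ Nn % 2 = 1 then Nn else Nn - 1) :
    ((i % 2 = 1 ∧ (if ¬ K = 0 ∨ i % 2 = 0 ∧ Nn % 2 = 1 then Nn else Nn - 1) ≤
        (if ¬ B = 0 ∨ i % 2 = 0 ∧ Nb % 2 = 1 then Nb else Nb - 1) + A) ∨
     (i % 2 = 0 ∧ ((if ¬ K = 0 ∨ i % 2 = 0 ∧ Nn % 2 = 1 then Nn else Nn - 1) ≤
        (if ¬ B = 0 ∨ i % 2 = 0 ∧ Nb % 2 = 1 then Nb else Nb - 1) ∨
      (t ≤ (if ¬ B = 0 ∨ i % 2 = 0 ∧ Nb % 2 = 1 then Nb else Nb - 1) ∧
        (if ¬ K = 0 ∨ i % 2 = 0 ∧ Nn % 2 = 1 then Nn else Nn - 1) ≤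
        (if ¬ B = 0 ∨ i % 2 = 0 ∧ Nb % 2 = 1 then Nb else Nb - 1) + 2 * A)))) ↔
      ((i % 2 = 1 ∧ i ≤ m ∧ (K = 0 ∨ 2 * ℓ < K)) ∨
       (i % 2 = 0 ∧ i ≤ m ∧ t + 2 * A ≤ Nn ∧
        ((2 * ℓ ≤ i ∧ K = 0 ∧ Nn % 2 = 0 ∧ t + 2 * A < Nn) ∨ (2 * ℓ ≤ K ∧ Nn % 2 = 1) ∨
          (2 * ℓ < K ∧ Nn % 2 = 0)))) := by
  generalize hMK : M % c = R at hc e1
  clear hMK
  rcases hc with ⟨hi, rfl, h | h⟩ | ⟨hi, rfl, h⟩ <;> rcases e1 with e1 | e1 <;>
    simp only [hi, true_and, false_and, Nat.zero_ne_one, Nat.one_ne_zero, false_or, or_false, true_or, or_true,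
      if_true] at hne ⊢ <;>
    (try split_ifs at hne ⊢) <;> omega

/-- Elements of prime order of PΩ⁻_n(q) with no fixed totally singular `m`-space. Here `T = PΩ⁻_n(F)`, `n = 2d ≥ 8`, realised through `Ω⁻_n(q)`, the commutator subgroup of the isometry group of `Q = Σ_{i<d−1} xᵢyᵢ + z₁² + a z₁z₂ + b z₂²` with `z₁² + a z₁z₂ + b z₂²` anisotropic, over the field `F` with `q` elements; an element of `T` of prime order `r` is an element `x` of `Ω⁻_n(q)` with `x^r` scalar and `x` not scalar. Let `1 ≤ m ≤ d − 1` and let `r` be a prime dividing the number of totally singular `m`-spaces (subspaces of dimension `m` on which `Q` vanishes); for `r ≠ p` let `i` be the multiplicative order of `q` modulo `r`, `c = i` for `i` even and `c = 2i` for `i` odd, and write `k = n mod c`, `ℓ = m mod i`, `n' = ⌊n/i⌋`, `m' = ⌊m/i⌋`, `t = (r−1)/i`. Then every element of `T` of order `r` fixes some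 totally singular `m`-space if and only if one of: (i) `r = 2 ≠ p` and (`n ≡ 0 (mod 4)`, or `m` is even, or `q ≢ 7 (mod 8)`); (ii) `r ≠ p` odd, `i` odd, `i ≤ m` and (`k = 0` or `k > 2ℓ`); (iii) `r ≠ p` odd, `i` even, `i ≤ m`, `n' − 2m' ≥ t`, and one of: (a) `i ≥ 2ℓ`, `k = 0`, `n/i` even and `n' − 2m' > t` (all four); (b) `k ≥ 2ℓ` and `n'` odd; (c) `k > 2ℓ` and `n'` even. -/
theorem result {F : Type*} [Field F] [Fintype F] {p : ℕ} [Fact p.Prime] [CharP F p] {q : ℕ} (hq : Fintype.card F = q)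
    (d m : ℕ) (hd : 4 ≤ d) (hm : 1 ≤ m) (hmd : m + 1 ≤ d) (a b : F) (hab : ∀ x y : F, x ^ 2 + a * x * y + b * y ^ 2 = 0 → x = 0 ∧ y = 0)
    (r : ℕ) [Fact r.Prime]
    (hrΩ : r ∣ Nat.card {W : Submodule F ((Fin (d - 1) ⊕ Fin (d - 1)) ⊕ Fin 2 → F) // Module.finrank F ↥W = m ∧ Cfsg.Geo.IsTotallySingularQuad (Cfsg.quadFormMinus (d - 1) F a b) W})
    (i c : ℕ) (hi : i = orderOf (q : ZMod r)) (hc : c = if Even i then i else 2 * i) :
    (∀ x : GL ((Fin (d - 1) ⊕ Fin (d - 1)) ⊕ Fin 2) F, x ∈ Cfsg.Geo.omegaGL (Cfsg.quadFormMinus (d - 1) F a b) →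
      (∃ z : F, ((x ^ r : GL ((Fin (d - 1) ⊕ Fin (d - 1)) ⊕ Fin 2) F) : Matrix ((Fin (d - 1) ⊕ Fin (d - 1)) ⊕ Fin 2) ((Fin (d - 1) ⊕ Fin (d - 1)) ⊕ Fin 2) F) = z • (1 : Matrix ((Fin (d - 1) ⊕ Fin (d - 1)) ⊕ Fin 2) ((Fin (d - 1) ⊕ Fin (d - 1)) ⊕ Fin 2) F)) →
      (∀ z : F, (x : Matrix ((Fin (d - 1) ⊕ Fin (d - 1)) ⊕ Fin 2) ((Fin (d - 1) ⊕ Fin (d - 1)) ⊕ Fin 2) F) ≠ z • (1 : Matrix ((Fin (d - 1) ⊕ Fin (d - 1)) ⊕ Fin 2) ((Fin (d - 1) ⊕ Fin (d - 1)) ⊕ Fin 2) F)) →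
      ∃ W : Submodule F ((Fin (d - 1) ⊕ Fin (d - 1)) ⊕ Fin 2 → F), (Module.finrank F ↥W = m ∧ Cfsg.Geo.IsTotallySingularQuad (Cfsg.quadFormMinus (d - 1) F a b) W) ∧ W.map (Matrix.toLin' (x : Matrix ((Fin (d - 1) ⊕ Fin (d - 1)) ⊕ Fin 2) ((Fin (d - 1) ⊕ Fin (d - 1)) ⊕ Fin 2) F)) ≤ W) ↔
    ((r = 2 ∧ p ≠ 2 ∧ (Even d ∨ Even m ∨ q % 8 ≠ 7)) ∨
     (r ≠ p ∧ 2 < r ∧ Odd i ∧ i ≤ m ∧ ((2 * d) % c = 0 ∨ 2 * (m % i) < (2 * d) % c)) ∨
     (r ≠ p ∧ 2 < r ∧ Even i ∧ i ≤ m ∧ (r - 1) / i + 2 * (m / i) ≤ (2 * d) / i ∧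
       ((2 * (m % i) ≤ i ∧ (2 * d) % c = 0 ∧ Even ((2 * d) / i) ∧ (r - 1) / i + 2 * (m / i) < (2 * d) / i) ∨
        (2 * (m % i) ≤ (2 * d) % c ∧ Odd ((2 * d) / i)) ∨
        (2 * (m % i) < (2 * d) % c ∧ Even ((2 * d) / i))))) := by
  have hQ := CfsgLib.POmega.minusQ_nondegenerate_any (m := d - 1) hab
  have hnp : ¬ CfsgLib.QuadType.IsPlus (Cfsg.quadFormMinus (d - 1) F a b) d :=
    CfsgLib.OrthFix.not_isPlus_minusForm hab (by omega)
  have hnp₀ : ¬ CfsgLib.QuadType.IsPlus (Cfsg.quadFormMinus (d - 1 - m) F a b) (d - m) :=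
    CfsgLib.OrthFix.not_isPlus_minusForm hab (by omega)
  obtain ⟨E, hE⟩ := CfsgLib.PrimeClasses.plus_add_minus' (F := F) (i := m) (j := d - 1 - m) (k := d - 1) a b (by omega)
  rw [← CfsgLib.Orth.plusQ_coe, ← CfsgLib.Orth.minusQ_coe, ← CfsgLib.Orth.minusQ_coe] at hE
  rw [← CfsgLib.Orth.minusQ_coe] at *
  set Q := CfsgLib.Orth.minusQ (d - 1) F a b with hQdef
  set Q₀ := CfsgLib.Orth.minusQ (d - 1 - m) F a b with hQ₀
  have hsp : CfsgLib.OrthFix.Splits Q (CfsgLib.Orth.plusQ m F) Q₀ E := hE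
  let C : Submodule F ((Fin (d - 1) ⊕ Fin (d - 1)) ⊕ Fin 2 → F) → Prop := fun W => Module.finrank F ↥W = m ∧ ∀ w ∈ W, Q w = 0
  have hcard : Fintype.card ((Fin (d - 1) ⊕ Fin (d - 1)) ⊕ Fin 2) = 2 * d := by simp; omega
  refine Iff.trans (b := CfsgLib.OrthFix.ProjFix r (⇑Q) C) ?_ ?_
  · simp only [CfsgLib.OrthFix.ProjFix, C, Cfsg.Geo.IsTotallySingularQuad]
  by_cases hrp : r = p
  · subst hrp
    exfalso
    let g : QuadraticForm F (Fin 2 → F) :=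
      QuadraticMap.linMulLin (LinearMap.proj (R := F) (φ := fun _ => F) 0) (LinearMap.proj 0)
      + a • QuadraticMap.linMulLin (LinearMap.proj (R := F) (φ := fun _ => F) 0) (LinearMap.proj 1)
      + b • QuadraticMap.linMulLin (LinearMap.proj (R := F) (φ := fun _ => F) 1) (LinearMap.proj 1)
    have hg : ∀ z, g z = z 0 ^ 2 + a * z 0 * z 1 + b * z 1 ^ 2 := fun z => by simp [g]; ring
    refine CfsgLib.OrthFix57.not_dvd_count_of_equiv (p := r) (g := g) (d := d - 1) (m := m) (f := ⇑Q)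
      (fun z hz => ?_) hm (Or.inr ⟨by omega, ⟨0⟩⟩) ⟨LinearEquiv.refl F _, fun v => ?_⟩ hrΩ
    · rw [hg] at hz
      obtain ⟨h0, h1⟩ := hab _ _ hz
      funext u
      fin_cases u <;> simp [h0, h1]
    · rw [hQdef, CfsgLib.Orth.minusQ_coe, CfsgLib.OrthFix57.stdForm_apply, hg]
      simp [Cfsg.quadFormMinus]
  have hrK : (r : F) ≠ 0 := fun h =>
    hrp ((Nat.prime_dvd_prime_iff_eq (Fact.out) (Fact.out)).1 ((CharP.cast_eq_zero_iff F p r).1 h)).symm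
  by_cases hr2 : r = 2
  · subst hr2
    have hp2 : p ≠ 2 := fun h => hrp h.symm
    have h2 : (2 : F) ≠ 0 := by exact_mod_cast hrK
    have hs := CfsgLib.OrthFix57.isSquare_signs h2 hq
    have hs1 : IsSquare (-1 : F) ↔ q % 4 ≠ 3 := by
      rw [← pow_one (-1 : F), (hs 1).1]; omega
    have hqm : q % 2 = 1 := CfsgLib.OrthFix57.card_mod_two h2 hq
    simp only [lt_irrefl, false_and, and_false, or_false, true_and, hp2, ne_eq, not_false_eq_true, Nat.even_iff]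
    constructor
    · intro h
      by_contra hno
      have hsq : ¬ IsSquare (-1 : F) := by rw [hs1]; omega
      obtain ⟨x, hx, hX, hns⟩ := CfsgLib.OrthFix57.exists_sqNeg_witness h2 hQ hcard (by omega)
        (iff_of_false hnp (by rw [(hs d).1]; omega)) ((hs d).2.2 (Or.inr (by omega)))
      obtain ⟨W, ⟨hWd, hW⟩, hWx⟩ := h x hx ⟨-1, by rw [Units.val_pow_eq_pow_val, pow_two, hX, neg_one_smul]⟩ hns
      have := Nat.even_iff.1 (CfsgLib.OrthFix57.even_of_sqNeg_invariant hX hsq hWx)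
      omega
    · intro h x hx ⟨z, hz⟩ _
      have hxQ := fun v => CfsgLib.OrthFix.isometry_of_mem_omegaGL hx v v
      rcases CfsgLib.OrthFix57.sq_cases hQ (by omega) hx hz with hX | hX
      · obtain ⟨k, hk, ht⟩ := CfsgLib.OrthFix57.negSp_type h2 hQ hx hX
        obtain ⟨hP, hN, horth, hdim⟩ := CfsgLib.OrthFix57.eigen_facts h2 hQ hX hxQ
        rw [hcard, hk] at hdim
        have hne := (CfsgLib.OrthFix57.complement hQ hP).2.2 (d - k) k (by omega) (by rw [horth, hk])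
        rw [horth, show d - k + k = d by omega, iff_false_left hnp] at hne
        by_cases hp : Cfsg.Geo.IsPlusTypeOn (⇑Q) (CfsgLib.OrthFix57.negSp
            (x : Matrix ((Fin (d - 1) ⊕ Fin (d - 1)) ⊕ Fin 2) ((Fin (d - 1) ⊕ Fin (d - 1)) ⊕ Fin 2) F))
        · have hkd : k < d := by
            by_contra hkd
            exact hne (iff_of_true (CfsgLib.OrthFix57.plus_of_ts bot_le CfsgLib.OrthFix57.ts_bot
              (by rw [finrank_bot]; omega)) hp)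
          obtain ⟨W, hWd, hW, hWx⟩ := CfsgLib.OrthFix57.invol_ts_exists h2 hQ hX hxQ
            (j₁ := m - min m k) (j₂ := min m k)
            (by
              by_cases h0 : m - min m k = 0
              · exact Or.inl h0
              · exact Or.inr (Or.inl (by omega)))
            (Or.inr (Or.inr (Or.inr ⟨hp, by omega⟩)))
          exact ⟨W, ⟨by omega, hW⟩, hWx⟩
        · have hk0 : 0 < k := by
            by_contra hk0
            exact hp (CfsgLib.OrthFix57.plus_of_ts bot_le CfsgLib.OrthFix57.ts_bot (by rw [finrank_bot]; omega))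
          have hpp : Cfsg.Geo.IsPlusTypeOn (⇑Q) (CfsgLib.OrthFix57.posSp
              (x : Matrix ((Fin (d - 1) ⊕ Fin (d - 1)) ⊕ Fin 2) ((Fin (d - 1) ⊕ Fin (d - 1)) ⊕ Fin 2) F)) := by
            by_contra hpp
            exact hne (iff_of_false hpp hp)
          obtain ⟨W, hWd, hW, hWx⟩ := CfsgLib.OrthFix57.invol_ts_exists h2 hQ hX hxQ
            (j₁ := min m (d - k)) (j₂ := m - min m (d - k))
            (Or.inr (Or.inr (Or.inr ⟨hpp, by omega⟩)))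
            (by
              by_cases h0 : m - min m (d - k) = 0
              · exact Or.inl h0
              · exact Or.inr (Or.inl (by omega)))
          exact ⟨W, ⟨by omega, hW⟩, hWx⟩
      · obtain ⟨k, hk, ht⟩ := CfsgLib.OrthFix57.even_and_isPlus_iff h2 hQ hX hxQ
        obtain rfl : k = d := by omega
        have hd2 : ¬ (k % 2 = 0 ∨ q % 4 ≠ 3) := fun e => hnp (ht.2 ((hs k).1.2 e))
        obtain ⟨g, hg, hgx⟩ := hx
        subst hgx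
        have hd3 := (hs k).2.1 ((CfsgLib.OrthFix57.mem_omega_iff h2 hQ g (fun u => CfsgLib.Orth.app_apply g u) hX hk).1 hg)
        obtain ⟨W, hWd, hW, hWx⟩ := CfsgLib.OrthFix57.exists_sqNeg_ts h2 hQ hX hxQ (e := m / 2) (by omega)
        exact ⟨W, ⟨by omega, hW⟩, hWx⟩
  have hcard₀ : Fintype.card ((Fin (d - 1 - m) ⊕ Fin (d - 1 - m)) ⊕ Fin 2) = 2 * (d - m) := by simp; omega
  have hP : CfsgLib.QuadType.IsPlus (⇑Q) (Fintype.card ((Fin (d - 1) ⊕ Fin (d - 1)) ⊕ Fin 2) / 2) ↔ False :=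
    iff_false_intro (by rw [hcard, Nat.mul_div_cancel_left _ two_pos]; exact hnp)
  have hP₀ : CfsgLib.QuadType.IsPlus (⇑Q₀) (Fintype.card ((Fin (d - 1 - m) ⊕ Fin (d - 1 - m)) ⊕ Fin 2) / 2) ↔ False :=
    iff_false_intro (by rw [hcard₀, Nat.mul_div_cancel_left _ two_pos]; exact hnp₀)
  have hmain := CfsgLib.OrthFix57.ts_fix_iff (n := 2 * d) (n₀ := 2 * (d - m)) hr2 hrK hQ hsp (by omega)
    hP hP₀ hcard hcard₀
  have hne := CfsgLib.OrthFix57.ts_top_ne (n := 2 * d) (n₀ := 2 * (d - m)) hr2 hrK hQ hsp (by omega)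
    hP hP₀ hcard hcard₀ hrΩ
  rw [CfsgLib.OrthFix.projFix_iff hQ (by omega) hr2]
  refine Iff.trans hmain ?_
  have hii : i = CfsgLib.OrthFix.isz hrK := by rw [hi, ← hq]
  rw [← hii] at hne ⊢
  simp only [CfsgLib.OrthFix.top_minus _ _ not_false] at hne ⊢
  have hr3 : 2 < r := lt_of_le_of_ne (Fact.out : r.Prime).two_le (Ne.symm hr2)
  have hcc : c = CfsgLib.OrthFix.cc i := hc
  rw [← hcc] at hne ⊢
  have hipos : 0 < i := hii ▸ CfsgLib.OrthFix.isz_pos hrK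
  have hcpos : 0 < c := hcc ▸ CfsgLib.OrthFix.cc_pos hipos
  obtain ⟨w, hw⟩ : ∃ w, 2 * (d - m) = w := ⟨_, rfl⟩
  rw [hw] at hne ⊢
  have hsum : 2 * d = w + (m + m) := by omega
  have e1 := CfsgLib.OrthFix.div_split w (m + m) c hcpos
  rw [← hsum] at e1
  have e3 := CfsgLib.OrthFix.div_small w c hcpos
  have e5 := Nat.mod_lt w hcpos
  have e6 := hcc ▸ CfsgLib.OrthFix.mod_parity w i
  have e7 := hcc ▸ CfsgLib.OrthFix.mod_parity (2 * d) i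
  have eA : (m < i ∧ m / i = 0) ∨ (i ≤ m ∧ 1 ≤ m / i) :=
    (CfsgLib.OrthFix.div_small m i hipos).imp (fun h => ⟨h.1, h.2.1⟩) id
  have hC2 : (i % 2 = 0 ∧ c = i ∧ ((m % i + m % i < i ∧ (m + m) / c = m / i + m / i ∧ (m + m) % c = m % i + m % i) ∨
      (i ≤ m % i + m % i ∧ (m + m) / c = m / i + m / i + 1 ∧ (m + m) % c + i = m % i + m % i))) ∨
      (i % 2 = 1 ∧ c = 2 * i ∧ (m + m) / c = m / i ∧ (m + m) % c = 2 * (m % i)) := by
    rcases Nat.even_or_odd i with h | h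
    · have e := hcc.trans (CfsgLib.OrthFix.cc_of_even h)
      refine Or.inl ⟨Nat.even_iff.1 h, e, ?_⟩
      rw [e]
      exact (CfsgLib.OrthFix.div_split m m i hipos).imp (fun h => ⟨h.1, h.2.2, h.2.1⟩) fun h => ⟨h.1, h.2.2, h.2.1⟩
    · have e := hcc.trans (CfsgLib.OrthFix.cc_of_odd h)
      refine Or.inr ⟨Nat.odd_iff.1 h, e, ?_, ?_⟩ <;> rw [e, ← two_mul]
      · exact Nat.mul_div_mul_left _ _ two_pos
      · exact Nat.mul_mod_mul_left _ _ _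
  have ht1 : 1 ≤ (r - 1) / i := Nat.div_pos (Nat.le_of_dvd (by omega) (hi ▸ ZMod.orderOf_dvd_card_sub_one
    (by rw [← hq, ← CfsgLib.PrimeClasses.coe_qUnit hrK]; exact Units.ne_zero _))) hipos
  simp only [hr2, hrp, hr3, ne_eq, not_false_eq_true, true_and, false_and, false_or, Nat.odd_iff, Nat.even_iff] at hne ⊢
  exact blocks_arith i c (2 * d) m w (m / i) (m % i) (m + m) ((m + m) / c) ((2 * d) % c) (w % c)
    ((2 * d) / c) (w / c) ((r - 1) / i) hsum hipos hC2 (Nat.mod_lt m hipos) eA ht1 (by omega) e1 (by omega) (by omega)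
    e5 hne |>.trans (by
      rcases hC2 with ⟨hi2, hci, -⟩ | ⟨hi2, -⟩
      · rw [hci]
      · simp [hi2])

end Cfsg.Agent.S5987
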