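import Cfsg.Statements.S5988
import Cfsg.Agent.Lib.OrthFix.SqNegOne
import Cfsg.Agent.Lib.OrthFix.Witness

set_option autoImplicit false
set_option maxHeartbeats 4000000
open scoped MatrixGroups
open Cfsg

namespace Cfsg.Agent.S5988

theorem blocks_arith (i c m n : ℕ) {A B K Na Nb Nn D : ℕ} (b : ℕ) (hn : n = m + b) (hm : m % 2 = 0) (hb : b % 2 = 0)
    (hc : (i % 2 = 0 ∧ c = i) ∨ (i % 2 = 1 ∧ c = 2 * i)) (hmb : m < b) (hm0 : 0 < m)
    (e1 : (A + B < c ∧ K = A + B ∧ Nn = Na + Nb) ∨ (c ≤ A + B ∧ K + c = A + B ∧ Nn = Na + Nb + 1))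
    (e2 : (m < c ∧ Na = 0 ∧ A = m) ∨ (c ≤ m ∧ 1 ≤ Na))
    (e3 : (b < c ∧ Nb = 0 ∧ B = b) ∨ (c ≤ b ∧ 1 ≤ Nb))
    (eA : A % 2 = 0) (eB : B % 2 = 0) (eK : K % 2 = 0) (hAc : A < c) (hBc : B < c)
    (hD : A = K → D = Nn + Na)
    (h1 : (if ¬ A = 0 ∨ i % 2 = 0 ∧ Na % 2 = 1 then Na else Na - 1) ≠
      if ¬ K = 0 ∨ i % 2 = 1 ∨ Nn % 2 = 0 then Nn else Nn - 1)
    (h2 : (if ¬ B = 0 ∨ i % 2 = 0 ∧ Nb % 2 = 1 then Nb else Nb - 1) ≠
      if ¬ K = 0 ∨ i % 2 = 1 ∨ Nn % 2 = 0 then Nn else Nn - 1) :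
    (if ¬ K = 0 ∨ i % 2 = 1 ∨ Nn % 2 = 0 then Nn else Nn - 1) ≤
      (if ¬ A = 0 ∨ i % 2 = 0 ∧ Na % 2 = 1 then Na else Na - 1) +
      (if ¬ B = 0 ∨ i % 2 = 0 ∧ Nb % 2 = 1 then Nb else Nb - 1) ↔
    ((i % 2 = 1 ∧ c ≤ m ∧ 0 < A ∧ A < K) ∨
      (i % 2 = 0 ∧ ((K = 0 ∧ (Nn % 2 = 1 ∨ (A = 0 ∧ Na % 2 = 1))) ∨
        (i ≤ m ∧ ((0 < A ∧ A < K) ∨ (0 < A ∧ A = K ∧ D % 2 = 1) ∨ (A = 0 ∧ 0 < K ∧ Na % 2 = 1)))))) := by
  rcases hc with ⟨hi, rfl⟩ | ⟨hi, rfl⟩ <;> rcases e1 with e1 | e1 <;> rcases e2 with e2 | e2 <;>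
    rcases e3 with e3 | e3 <;> simp only [hi, true_and, false_and, Nat.zero_ne_one, Nat.one_ne_zero, false_or, or_false, true_or, or_true, ne_eq] at h1 h2 ⊢ <;>
    split_ifs at h1 h2 ⊢ <;> omega


/-- Elements of prime order of PΩ⁺_n(q) with no fixed elliptic `m`-space. Here `T = PΩ⁺_n(F)`, `n = 2d ≥ 8`, realised through `Ω⁺_n(q)`, the commutator subgroup of the isometry group of `Q = Σ xᵢyᵢ` over the field `F` with `q` elements; an element of `T` of prime order `r` is an element `x` of `Ω⁺_n(q)` with `x^r` scalar and `x` not scalar; a nondegenerate `m`-space (even `m`) is a subspace on which the polar form of `Q` is nondegenerate; it is hyperbolic if it contains an `m/2`-dimensional subspace on which `Q` vanishes, elliptic otherwise. Let `m` be even with `2 ≤ m < n/2` and let `r` be a prime dividing the number of elliptic `m`-spaces; for `r ≠ p` let `i` be the multiplicative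 order of `q` modulo `r`, `c = i` for `i` even and `c = 2i` for `i` odd, and write `k = n mod c`, `ℓ = m mod i`, `ℓ' = m mod c`, `n' = ⌊n/i⌋`, `m' = ⌊m/i⌋`, `t = (r−1)/i`. Then every element of `T` of order `r` fixes some elliptic `m`-space if and only if one of: (i) `r = 2 ≠ p` and either `n ≡ 0 (mod 4)`, `q ≡ 3 (mod 4)` and `m ≡ 2 (mod 4)`, or `n ≡ 2 (mod 4)` and `q ≢ 1 (mod 8)`; (ii) `r ≠ p` odd, `i` odd, `c ≤ m` and `k > ℓ' > 0`; (iii) `r ≠ p` odd, `i` even, and either `k = 0` and (`n/i` odd, or `ℓ' = 0` and `m/i` odd), or `i ≤ m` and (`k > ℓ' > 0`, or `k = ℓ' > 0` and `(n + m − 2k)/i` odd, or `k > ℓ' = 0` and `m/i` odd). (For `r = p` there is always an element of order `p` fixing no elliptic `m`-space.) -/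
theorem result {F : Type*} [Field F] [Fintype F] {p : ℕ} [Fact p.Prime] [CharP F p] {q : ℕ} (hq : Fintype.card F = q)
    (d m : ℕ) (hd : 4 ≤ d) (hm : 2 ≤ m) (hme : Even m) (hmd : m < d)
    (r : ℕ) [Fact r.Prime]
    (hrΩ : r ∣ Nat.card {W : Submodule F (Fin d ⊕ Fin d → F) // Module.finrank F ↥W = m ∧ Cfsg.Geo.IsNondegenerateOn (QuadraticMap.polar (Cfsg.quadFormPlus d F)) W ∧ ¬ Cfsg.Geo.IsPlusTypeOn (Cfsg.quadFormPlus d F) W})
    (i c : ℕ) (hi : i = orderOf (q : ZMod r)) (hc : c = if Even i then i else 2 * i) :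
    (∀ x : GL (Fin d ⊕ Fin d) F, x ∈ Cfsg.Geo.omegaGL (Cfsg.quadFormPlus d F) →
      (∃ z : F, ((x ^ r : GL (Fin d ⊕ Fin d) F) : Matrix (Fin d ⊕ Fin d) (Fin d ⊕ Fin d) F) = z • (1 : Matrix (Fin d ⊕ Fin d) (Fin d ⊕ Fin d) F)) →
      (∀ z : F, (x : Matrix (Fin d ⊕ Fin d) (Fin d ⊕ Fin d) F) ≠ z • (1 : Matrix (Fin d ⊕ Fin d) (Fin d ⊕ Fin d) F)) →
      ∃ W : Submodule F (Fin d ⊕ Fin d → F), (Module.finrank F ↥W = m ∧ Cfsg.Geo.IsNondegenerateOn (QuadraticMap.polar (Cfsg.quadFormPlus d F)) W ∧ ¬ Cfsg.Geo.IsPlusTypeOn (Cfsg.quadFormPlus d F) W) ∧ W.map (Matrix.toLin' (x : Matrix (Fin d ⊕ Fin d) (Fin d ⊕ Fin d) F)) ≤ W) ↔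
    ((r = 2 ∧ p ≠ 2 ∧ ((Even d ∧ q % 4 = 3 ∧ m % 4 = 2) ∨ (Odd d ∧ q % 8 ≠ 1))) ∨
     (r ≠ p ∧ 2 < r ∧ Odd i ∧ c ≤ m ∧ 0 < m % c ∧ m % c < (2 * d) % c) ∨
     (r ≠ p ∧ 2 < r ∧ Even i ∧
       (((2 * d) % c = 0 ∧ (Odd ((2 * d) / i) ∨ (m % c = 0 ∧ Odd (m / i)))) ∨
        (i ≤ m ∧ ((0 < m % c ∧ m % c < (2 * d) % c) ∨
                  (0 < m % c ∧ m % c = (2 * d) % c ∧ Odd ((2 * d + m - 2 * ((2 * d) % c)) / i)) ∨
                  (m % c = 0 ∧ 0 < (2 * d) % c ∧ Odd (m / i))))))) := by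
  have hcp : (p : F) = 0 := CharP.cast_eq_zero F p
  obtain ⟨k, hk⟩ := hme
  have hm2 : m = 2 * k := by omega
  have hQ := CfsgLib.Orth.plusQ_nondegenerate (F := F) d
  obtain ⟨a₀, c₀, hac⟩ := CfsgLib.PrimeClasses.exists_anisotropic_binary (F := F)
  obtain ⟨E, hE⟩ := CfsgLib.PrimeClasses.minus_add_minus' (i := k - 1) (j := d - k - 1) (k := d) hac (by omega)
  rw [← CfsgLib.Orth.plusQ_coe] at *
  set Q := CfsgLib.Orth.plusQ d F with hQdef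
  rw [← CfsgLib.Orth.minusQ_coe, ← CfsgLib.Orth.minusQ_coe] at hE
  set Q₁ := CfsgLib.Orth.minusQ (k - 1) F a₀ c₀ with hQ₁
  set Q₂ := CfsgLib.Orth.minusQ (d - k - 1) F a₀ c₀ with hQ₂
  have hsp : CfsgLib.OrthFix.Splits Q Q₁ Q₂ E := hE
  have hPQ : CfsgLib.QuadType.IsPlus (⇑Q) d := by
    rw [hQdef, CfsgLib.Orth.plusQ_coe]; exact CfsgLib.OrthFix.isPlus_plusForm d
  have hP1 : ¬ CfsgLib.QuadType.IsPlus (⇑Q₁) k := by
    rw [hQ₁, CfsgLib.Orth.minusQ_coe]; exact CfsgLib.OrthFix.not_isPlus_minusForm hac (by omega)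
  have hP2 : ¬ CfsgLib.QuadType.IsPlus (⇑Q₂) (d - k) := by
    rw [hQ₂, CfsgLib.Orth.minusQ_coe]; exact CfsgLib.OrthFix.not_isPlus_minusForm hac (by omega)
  have hdim : Module.finrank F (CfsgLib.OrthFix.summand E) = 2 * k := by
    rw [CfsgLib.OrthFix.finrank_summand]; simp; omega
  have hnd := hsp.nondegenerateOn hQ
  have hminus : ¬ Cfsg.Geo.IsPlusTypeOn (⇑Q) (CfsgLib.OrthFix.summand E) := by
    rw [hsp.isPlusTypeOn_iff (k := k) (by simp; omega)]; exact hP1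
  let C : Submodule F (Fin d ⊕ Fin d → F) → Prop := fun W => Module.finrank F ↥W = m ∧
    Cfsg.Geo.IsNondegenerateOn (QuadraticMap.polar ⇑Q) W ∧ ¬ Cfsg.Geo.IsPlusTypeOn (⇑Q) W
  have hC : ∀ W, C W ↔ CfsgLib.OrthFix.InClass (⇑Q) (CfsgLib.OrthFix.summand E) W := fun W => by
    rw [CfsgLib.OrthFix.inClass_iff_type hQ hnd hdim]
    simp only [C, iff_false_right hminus, hm2]
  have hcard : Fintype.card (Fin d ⊕ Fin d) = 2 * d := by simp; omega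
  show CfsgLib.OrthFix.ProjFix r (⇑Q) C ↔ _
  by_cases hrp : r = p
  · subst hrp
    refine iff_of_false (fun h => ?_) (by rintro (⟨rfl, h, -⟩ | ⟨h, -⟩ | ⟨h, -⟩) <;> exact h rfl)
    obtain ⟨W, ⟨hWd, -, hWp⟩, hWx⟩ := h (CfsgLib.OrthFix.upGL (CfsgLib.OrthFix.pathM d F))
      (by rw [hQdef, CfsgLib.Orth.plusQ_coe]; exact CfsgLib.OrthFix.upGL_mem_omega (by omega) _)
      ⟨1, by rw [CfsgLib.OrthFix.upGL_pow_char (p := r), Units.val_one, one_smul]⟩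
      (CfsgLib.OrthFix.upGL_path_not_scalar (by omega))
    refine hWp ?_
    rw [hQdef, CfsgLib.Orth.plusQ_coe]
    exact CfsgLib.OrthFix.plus_of_invariant_path (by omega) (k := k) (by omega) hWx
  have hrK : (r : F) ≠ 0 := fun h =>
    hrp ((Nat.prime_dvd_prime_iff_eq (Fact.out) (Fact.out)).1 ((CharP.cast_eq_zero_iff F p r).1 h)).symm
  by_cases hr2 : r = 2
  · subst hr2
    have hp2 : p ≠ 2 := fun h => hrp h.symm
    have h2 : (2 : F) ≠ 0 := by exact_mod_cast hrK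
    have hodd : q % 2 = 1 := hq ▸ FiniteField.odd_card_of_char_ne_two (by rwa [ringChar.eq F p])
    rw [CfsgLib.OrthFix.projFix_two h2 hQ hcard (by omega) hnd (by omega) (by omega) hC,
      CfsgLib.OrthFix.isSquare_two_iff' hq hodd, CfsgLib.OrthFix.isSquare_neg_one_iff' hq hodd]
    simp only [iff_true_left hPQ, iff_false_left hminus, ne_eq, hp2, not_false_eq_true,
      lt_irrefl, true_and, false_and, and_false, or_false, Nat.even_iff, Nat.odd_iff]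
    constructor
    · intro h
      by_cases he : d % 2 = 0
      · obtain ⟨k', hk', hk''⟩ := h (Or.inl he) (Or.inl he)
        omega
      · by_contra hno
        obtain ⟨k', hk', hk''⟩ := h (by omega) (by omega)
        omega
    · intro h h1 h3
      exact ⟨k, hdim, by omega⟩
  obtain ⟨hmain, hsum, hne1, hne2⟩ := CfsgLib.OrthFix.matFix_iff (n := 2 * d) (a := m) (b := 2 * d - m) hr2 hrK hQ hsp
    hC hrΩ (P := True) (P₁ := False) (P₂ := False)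
    (iff_true_intro (by rw [hcard, Nat.mul_div_cancel_left _ two_pos]; exact hPQ))
    (iff_false_intro (by
      rw [show Fintype.card ((Fin (k - 1) ⊕ Fin (k - 1)) ⊕ Fin 2) / 2 = k by simp; omega]; exact hP1))
    (iff_false_intro (by
      rw [show Fintype.card ((Fin (d - k - 1) ⊕ Fin (d - k - 1)) ⊕ Fin 2) / 2 = d - k by simp; omega]; exact hP2))
    hcard (by simp; omega) (by simp; omega) (by omega) (by omega)
  rw [CfsgLib.OrthFix.projFix_iff hQ (by omega) hr2, hmain]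
  have hii : i = CfsgLib.OrthFix.isz hrK := by rw [hi, ← hq]
  rw [← hii] at hne1 hne2 ⊢
  rw [CfsgLib.OrthFix.top_plus _ _ trivial] at hne1 hne2 ⊢
  simp only [CfsgLib.OrthFix.top_minus _ _ not_false] at hne1 hne2 ⊢
  have hr3 : 2 < r := lt_of_le_of_ne (Fact.out : r.Prime).two_le (Ne.symm hr2)
  have hcc : c = CfsgLib.OrthFix.cc i := hc
  rw [← hcc] at hne1 hne2 ⊢
  have hipos : 0 < i := hii ▸ CfsgLib.OrthFix.isz_pos hrK
  have hcpos : 0 < c := hcc ▸ CfsgLib.OrthFix.cc_pos hipos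
  obtain ⟨b, hb⟩ : ∃ b, 2 * d - m = b := ⟨_, rfl⟩
  rw [hb] at hne2 hsum ⊢
  have e1 := CfsgLib.OrthFix.div_split m b c hcpos
  have e2 := CfsgLib.OrthFix.div_small m c hcpos
  have e3 := CfsgLib.OrthFix.div_small b c hcpos
  have e4 := Nat.mod_lt m hcpos
  have e5 := Nat.mod_lt b hcpos
  have e6 := hcc ▸ CfsgLib.OrthFix.mod_parity b i
  have e7 := hcc ▸ CfsgLib.OrthFix.mod_parity (2 * d) i
  have e8 := hcc ▸ CfsgLib.OrthFix.mod_parity m i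
  rw [← hsum] at e1
  simp only [hr2, hrp, hr3, ne_eq, not_false_eq_true, true_and, false_and, false_or, Nat.odd_iff, Nat.even_iff] at hne1 hne2 ⊢
  have hC2 : (i % 2 = 0 ∧ c = i) ∨ (i % 2 = 1 ∧ c = 2 * i) := by
    rcases Nat.even_or_odd i with h | h
    · exact Or.inl ⟨Nat.even_iff.1 h, hcc.trans (CfsgLib.OrthFix.cc_of_even h)⟩
    · exact Or.inr ⟨Nat.odd_iff.1 h, hcc.trans (CfsgLib.OrthFix.cc_of_odd h)⟩
  have hmain2 := blocks_arith i c m (2 * d) (A := m % c) (B := b % c) (K := (2 * d) % c) (Na := m / c)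
    (Nb := b / c) (Nn := (2 * d) / c) (D := (2 * d + m - 2 * ((2 * d) % c)) / c) b hsum (by omega) (by omega) hC2
    (by omega) (by omega) e1 e2 e3 (by omega) (by omega) (by omega) e4 e5
    (CfsgLib.OrthFix.div_diag _ _ c hcpos) hne1 hne2
  rw [hmain2]
  rcases hC2 with ⟨hi2, rfl⟩ | ⟨hi2, -⟩
  · simp [hi2]
  · simp [hi2]

end Cfsg.Agent.S5988
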