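import Cfsg.Statements.S5989
import Cfsg.Agent.Lib.OrthFix.SqNegOne
import Cfsg.Agent.Lib.OrthFix.Witness
import Cfsg.Agent.Lib.Maximal99.OrthUnipotent

set_option autoImplicit false
set_option maxHeartbeats 4000000
open scoped MatrixGroups
open Cfsg

namespace Cfsg.Agent.S5989

theorem blocks_arith (i c m n : ℕ) {A B K Na Nb Nn : ℕ} (b : ℕ) (_hn : n = m + b) (hm : m % 2 = 1) (hb : b % 2 = 1)
    (hc : (i % 2 = 0 ∧ c = i) ∨ (i % 2 = 1 ∧ c = 2 * i)) (hmb : m < b)
    (e1 : (A + B < c ∧ K = A + B ∧ Nn = Na + Nb) ∨ (c ≤ A + B ∧ K + c = A + B ∧ Nn = Na + Nb + 1))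
    (e2 : (m < c ∧ Na = 0 ∧ A = m) ∨ (c ≤ m ∧ 1 ≤ Na))
    (e3 : (b < c ∧ Nb = 0 ∧ B = b) ∨ (c ≤ b ∧ 1 ≤ Nb))
    (eA : A % 2 = 1) (eB : B % 2 = 1) (eK : K % 2 = 0) (hAc : A < c) (hBc : B < c)
    (h1 : Na ≠ if ¬ K = 0 ∨ i % 2 = 1 ∨ Nn % 2 = 0 then Nn else Nn - 1)
    (h2 : Nb ≠ if ¬ K = 0 ∨ i % 2 = 1 ∨ Nn % 2 = 0 then Nn else Nn - 1) :
    (if ¬ K = 0 ∨ i % 2 = 1 ∨ Nn % 2 = 0 then Nn else Nn - 1) ≤ Na + Nb ↔
    ((i % 2 = 1 ∧ c ≤ m ∧ 0 < A ∧ A < K) ∨
      (i % 2 = 0 ∧ ((K = 0 ∧ Nn % 2 = 1) ∨ (i ≤ m ∧ 0 < A ∧ A < K)))) := by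
  rcases hc with ⟨hi, rfl⟩ | ⟨hi, rfl⟩ <;> rcases e1 with e1 | e1 <;> rcases e2 with e2 | e2 <;>
    rcases e3 with e3 | e3 <;> simp only [hi, true_and, false_and, Nat.zero_ne_one, Nat.one_ne_zero, false_or, or_false, true_or, or_true, ne_eq] at h1 h2 ⊢ <;>
    split_ifs at h1 h2 ⊢ <;> omega


/-- Elements of prime order of PΩ⁺_n(q), q odd, with no fixed nondegenerate `m`-space of odd dimension. Here `T = PΩ⁺_n(F)`, `n = 2d ≥ 8`, realised through `Ω⁺_n(q)`, the commutator subgroup of the isometry group of `Q = Σ xᵢyᵢ` over the field `F` with `q` elements; an element of `T` of prime order `r` is an element `x` of `Ω⁺_n(q)` with `x^r` scalar and `x` not scalar; `q` and `m` are odd, `1 ≤ m < n/2`. The nondegenerate `m`-spaces (subspaces on which the polar form is nondegenerate) fall into two isometry classes, each an orbit of `T`, and the two actions are equivalent; fix one such space `W₀` and let Ω be the set of nondegenerate `m`-spaces isometric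 to `W₀` (some linear isomorphism preserves `Q`). Let `r` be a prime dividing the size of Ω; for `r ≠ p` let `i` be the multiplicative order of `q` modulo `r`, `c = i` for `i` even and `c = 2i` for `i` odd, and write `k = n mod c`, `ℓ = m mod i`, `ℓ' = m mod c`, `n' = ⌊n/i⌋`, `m' = ⌊m/i⌋`, `t = (r−1)/i`. Then every element of `T` of order `r` fixes a member of Ω if and only if one of: (i) `r = 2`, `n ≡ 2 (mod 4)` and `q ≢ 1 (mod 8)`; (ii) `r ≠ p` odd, `i` odd, `c ≤ m` and `k > ℓ' > 0`; (iii) `r ≠ p` odd, `i` even, and either `k = 0` and `n/i` odd, or `i ≤ m` and `k > ℓ' > 0`. (For `r = p` there is always an element of order `p` fixing no member of Ω.) -/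
theorem result {F : Type*} [Field F] [Fintype F] {p : ℕ} [Fact p.Prime] [CharP F p] {q : ℕ} (hq : Fintype.card F = q)
    (hodd : Odd q) (d m : ℕ) (hd : 4 ≤ d) (hm : Odd m) (hmd : m < d)
    (W₀ : Submodule F (Fin d ⊕ Fin d → F)) (hW₀ : Module.finrank F ↥W₀ = m ∧ Cfsg.Geo.IsNondegenerateOn (QuadraticMap.polar (Cfsg.quadFormPlus d F)) W₀)
    (r : ℕ) [Fact r.Prime]
    (hrΩ : r ∣ Nat.card {W : Submodule F (Fin d ⊕ Fin d → F) // Module.finrank F ↥W = m ∧ Cfsg.Geo.IsNondegenerateOn (QuadraticMap.polar (Cfsg.quadFormPlus d F)) W ∧ Cfsg.Geo.AreIsometricFor (Cfsg.quadFormPlus d F) W W₀})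
    (i c : ℕ) (hi : i = orderOf (q : ZMod r)) (hc : c = if Even i then i else 2 * i) :
    (∀ x : GL (Fin d ⊕ Fin d) F, x ∈ Cfsg.Geo.omegaGL (Cfsg.quadFormPlus d F) →
      (∃ z : F, ((x ^ r : GL (Fin d ⊕ Fin d) F) : Matrix (Fin d ⊕ Fin d) (Fin d ⊕ Fin d) F) = z • (1 : Matrix (Fin d ⊕ Fin d) (Fin d ⊕ Fin d) F)) →
      (∀ z : F, (x : Matrix (Fin d ⊕ Fin d) (Fin d ⊕ Fin d) F) ≠ z • (1 : Matrix (Fin d ⊕ Fin d) (Fin d ⊕ Fin d) F)) →
      ∃ W : Submodule F (Fin d ⊕ Fin d → F), (Module.finrank F ↥W = m ∧ Cfsg.Geo.IsNondegenerateOn (QuadraticMap.polar (Cfsg.quadFormPlus d F)) W ∧ Cfsg.Geo.AreIsometricFor (Cfsg.quadFormPlus d F) W W₀) ∧ W.map (Matrix.toLin' (x : Matrix (Fin d ⊕ Fin d) (Fin d ⊕ Fin d) F)) ≤ W) ↔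
    ((r = 2 ∧ Odd d ∧ q % 8 ≠ 1) ∨
     (r ≠ p ∧ 2 < r ∧ Odd i ∧ c ≤ m ∧ 0 < m % c ∧ m % c < (2 * d) % c) ∨
     (r ≠ p ∧ 2 < r ∧ Even i ∧ (((2 * d) % c = 0 ∧ Odd ((2 * d) / i)) ∨ (i ≤ m ∧ 0 < m % c ∧ m % c < (2 * d) % c)))) := by
  have h2 : (2 : F) ≠ 0 := CfsgLib.POmega.two_ne_zero_of_odd (hq ▸ hodd)
  have hQ := CfsgLib.Orth.plusQ_nondegenerate (F := F) d
  have hplusnd := CfsgLib.OrthUnipotent.plus_nondeg (F := F) d
  rw [← CfsgLib.Orth.plusQ_coe] at *
  set Q := CfsgLib.Orth.plusQ d F with hQdef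
  obtain ⟨hdim, hnd⟩ := hW₀
  have hPQ : CfsgLib.QuadType.IsPlus (⇑Q) d := by
    rw [hQdef, CfsgLib.Orth.plusQ_coe]; exact CfsgLib.OrthFix.isPlus_plusForm d
  let C : Submodule F (Fin d ⊕ Fin d → F) → Prop := fun W => Module.finrank F ↥W = m ∧
    Cfsg.Geo.IsNondegenerateOn (QuadraticMap.polar ⇑Q) W ∧ Cfsg.Geo.AreIsometricFor (⇑Q) W W₀
  have hC : ∀ W, C W ↔ CfsgLib.OrthFix.InClass (⇑Q) W₀ W := fun W =>
    (CfsgLib.OrthFix.inClass_iff_iso hdim W).symm
  have hcard : Fintype.card (Fin d ⊕ Fin d) = 2 * d := by simp; omega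
  have hm1 := Nat.odd_iff.1 hm
  have hq1 := Nat.odd_iff.1 hodd
  show CfsgLib.OrthFix.ProjFix r (⇑Q) C ↔ _
  have hp2 : p ≠ 2 := fun h => h2 (by subst h; exact_mod_cast CharP.cast_eq_zero F 2)
  by_cases hrp : r = p
  · subst hrp
    refine iff_of_false (fun h => ?_) (by rintro (⟨h, -⟩ | ⟨h, -⟩ | ⟨h, -⟩) <;> first | exact hp2 h | exact h rfl)
    have hp3 : 3 ≤ r := by
      have := (Fact.out : r.Prime).two_le
      omega
    rcases Nat.even_or_odd d with hd' | hd'
    · obtain ⟨W, ⟨hWd, hWn, -⟩, hWx⟩ := h (CfsgLib.OrthFix.upGL (CfsgLib.OrthFix.pathM d F))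
        (by rw [hQdef, CfsgLib.Orth.plusQ_coe]; exact CfsgLib.OrthFix.upGL_mem_omega (by omega) _)
        ⟨1, by rw [CfsgLib.OrthFix.upGL_pow_char (p := r), Units.val_one, one_smul]⟩
        (CfsgLib.OrthFix.upGL_path_not_scalar (by omega))
      obtain ⟨T, hTW, hT, hdimT⟩ := CfsgLib.OrthFix.exists_singular_of_invariant (e := 0)
        ((CfsgLib.OrthFix.finrank_ker_path (by omega)).trans (by
          have := Nat.even_iff.1 hd'
          omega)) hWx
      have := CfsgLib.OrthFix.two_mul_singular_le hQ hWn hTW (by rw [hQdef, CfsgLib.Orth.plusQ_coe]; exact hT)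
      omega
    · obtain ⟨w, rfl⟩ := hd'
      obtain ⟨μ, hμ, hμe, hμo, hμs, hbad⟩ : ∃ μ : Multiset ℕ, (∀ e ∈ μ, 0 < e ∧ e ≤ 3) ∧
          (∀ e, Even e → Even (μ.count e)) ∧ (∃ e ∈ μ, Odd e) ∧ μ.sum = 2 * (2 * w + 1) ∧
          ∀ ν ≤ μ, Even (ν.count 2) → ν.sum ≠ m := by
        obtain ⟨o, c', ho, hc', hsum', hmod⟩ : ∃ o c' : ℕ, (o = 1 ∨ o = 3) ∧ Even c' ∧
            2 * o + 2 * c' = 2 * (2 * w + 1) ∧ m % 4 ≠ o % 4 := by
          by_cases h4 : m % 4 = 1
          · exact ⟨3, 2 * w - 2, Or.inr rfl, ⟨w - 1, by omega⟩, by omega, by omega⟩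
          · exact ⟨1, 2 * w, Or.inl rfl, ⟨w, by omega⟩, by omega, by omega⟩
        refine ⟨Multiset.replicate 2 o + Multiset.replicate c' 2, fun e he => ?_, fun e he => ?_,
          ⟨o, by simp, by rcases ho with rfl | rfl <;> decide⟩,
          by simp only [Multiset.sum_add, Multiset.sum_replicate, smul_eq_mul]; omega, fun ν hν hev hs => ?_⟩
        · rcases Multiset.mem_add.1 he with he | he <;> rw [Multiset.eq_of_mem_replicate he] <;> omega
        · rw [Multiset.count_add, Multiset.count_replicate, Multiset.count_replicate]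
          refine Even.add ?_ ?_ <;> split <;> first | exact Even.zero | exact even_two | exact hc'
        · have hdec : ν = Multiset.replicate (ν.count o) o + Multiset.replicate (ν.count 2) 2 := by
            refine Multiset.ext.2 fun e => ?_
            rw [Multiset.count_add, Multiset.count_replicate, Multiset.count_replicate]
            have hne : o ≠ 2 := by rcases ho with rfl | rfl <;> decide
            split_ifs with h1 h3 h3
            · exact absurd (h1.trans h3.symm) hne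
            · rw [h1]; simp
            · rw [h3]; simp
            · simp only [add_zero, Multiset.count_eq_zero]
              intro he
              rcases Multiset.mem_add.1 (Multiset.mem_of_le hν he) with he | he
              · exact h1 (Multiset.eq_of_mem_replicate he).symm
              · exact h3 (Multiset.eq_of_mem_replicate he).symm
          have hle := Multiset.le_iff_count.1 hν o
          rw [Multiset.count_add, Multiset.count_replicate_self, Multiset.count_replicate,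
            if_neg (by rcases ho with rfl | rfl <;> decide)] at hle
          rw [hdec] at hs
          simp only [Multiset.sum_add, Multiset.sum_replicate, smul_eq_mul] at hs
          obtain ⟨j, hj⟩ := hev
          obtain h0 | h0 | h0 : ν.count o = 0 ∨ ν.count o = 1 ∨ ν.count o = 2 := by omega
          all_goals rw [h0] at hs; omega
      have hnq : Cfsg.Geo.IsNondegenerateQuadraticForm (⇑Q) := hplusnd
      obtain ⟨x, hx, hxp, hprof⟩ := CfsgLib.OrthUnipotent.exists_omega_unipotent (p := r) hp2 hnq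
        (fun e he => (hμ e he).2.trans hp3) hμe hμo (hμs.trans hcard.symm)
      obtain ⟨W, ⟨hWd, hWn, -⟩, hWx⟩ := h x hx ⟨1, by rw [hxp, Units.val_one, one_smul]⟩ (fun z hz => by
        have hone : (x : Matrix (Fin (2 * w + 1) ⊕ Fin (2 * w + 1)) (Fin (2 * w + 1) ⊕ Fin (2 * w + 1)) F) = 1 := by
          have hzp : ((x ^ r : GL (Fin (2 * w + 1) ⊕ Fin (2 * w + 1)) F) : Matrix (Fin (2 * w + 1) ⊕ Fin (2 * w + 1)) (Fin (2 * w + 1) ⊕ Fin (2 * w + 1)) F) = 1 := by rw [hxp]; rfl
          rw [Units.val_pow_eq_pow_val, hz, smul_pow, one_pow] at hzp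
          have hz1 : z ^ r = 1 := by
            have := congrFun (congrFun hzp (Sum.inl ⟨0, by omega⟩)) (Sum.inl ⟨0, by omega⟩)
            simpa using this
          have : z = 1 := by
            have h0 : (z - 1) ^ r = 0 := by rw [sub_pow_char, hz1, one_pow, sub_self]
            exact sub_eq_zero.1 (pow_eq_zero_iff (Fact.out : r.Prime).ne_zero |>.1 h0)
          rw [hz, this, one_smul]
        have h1 := hprof 1
        rw [hone, sub_self, map_zero, CfsgLib.RankProfile.imDim, pow_one, Submodule.map_zero, finrank_bot] at h1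
        -- the profile is positive
        obtain ⟨ρ, hρ, hρ1⟩ : ∃ e ∈ μ, 2 ≤ e := by
          by_contra hno
          push Not at hno
          refine hbad (Multiset.replicate m 1) (Multiset.le_iff_count.2 fun e => ?_) (by
            rw [Multiset.count_replicate, if_neg (by decide)]; exact Even.zero) (by simp)
          rw [Multiset.count_replicate]
          split
          · next he =>
            subst he
            have : μ = Multiset.replicate (Multiset.card μ) 1 := Multiset.eq_replicate_card.2 fun e he => by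
              have := hμ e he
              have := hno e he
              omega
            rw [this, Multiset.count_replicate_self]
            rw [this] at hμs
            simp at hμs
            omega
          · exact Nat.zero_le _
        have := Multiset.le_sum_of_mem (Multiset.mem_map_of_mem (fun a => a - 1) hρ)
        rw [CfsgLib.RankProfile.partProfile] at h1
        omega)
      obtain ⟨ν, hν, hνs, hνe, -⟩ := CfsgLib.OrthUnipotent.exists_even_sub_partition (p := r) hp2 hnq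
        (CfsgLib.OrthFix.isometry_of_mem_omegaGL hx) hxp (fun e he => (hμ e he).1) hprof hWn hWx
      exact hbad ν hν (hνe 2 even_two) (hνs.trans hWd)
  have hrK : (r : F) ≠ 0 := fun h =>
    hrp ((Nat.prime_dvd_prime_iff_eq (Fact.out) (Fact.out)).1 ((CharP.cast_eq_zero_iff F p r).1 h)).symm
  by_cases hr2 : r = 2
  · subst hr2
    rw [CfsgLib.OrthFix.projFix_two h2 hQ hcard (by omega) hnd (by omega) (by omega) hC,
      CfsgLib.OrthFix.isSquare_two_iff' hq hq1, CfsgLib.OrthFix.isSquare_neg_one_iff' hq hq1]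
    simp only [iff_true_left hPQ, lt_irrefl, true_and, false_and, and_false, or_false, Nat.even_iff, Nat.odd_iff]
    constructor
    · intro h
      by_contra hno
      obtain ⟨k, hk, -⟩ := h (by omega) (by omega)
      omega
    · intro h h1 h3
      omega
  obtain ⟨a, b, Q₁, Q₂, E, hE, hsE, ha, hab⟩ := CfsgLib.OrthFix.exists_splits hnd
  have ha' : a = m := ha.trans hdim
  subst ha'
  obtain ⟨hmain, hsum, hne1, hne2⟩ := CfsgLib.OrthFix.matFix_iff (n := 2 * d) (a := a) (b := b) hr2 hrK hQ hE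
    (fun W => hsE.symm ▸ hC W) hrΩ (P := True) (P₁ := CfsgLib.QuadType.IsPlus (⇑Q₁) _)
    (P₂ := CfsgLib.QuadType.IsPlus (⇑Q₂) _)
    (iff_true_intro (by rw [hcard, Nat.mul_div_cancel_left _ two_pos]; exact hPQ)) Iff.rfl Iff.rfl
    hcard (by simp) (by simp) (by omega) (by omega)
  rw [CfsgLib.OrthFix.projFix_iff hQ (by omega) hr2, hmain]
  have hii : i = CfsgLib.OrthFix.isz hrK := by rw [hi, ← hq]
  rw [← hii] at hne1 hne2 ⊢
  rw [CfsgLib.OrthFix.top_plus _ _ trivial] at hne1 hne2 ⊢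
  have hbodd : b % 2 = 1 := by omega
  rw [CfsgLib.OrthFix.top_of_odd hm] at hne1 ⊢
  rw [CfsgLib.OrthFix.top_of_odd (Nat.odd_iff.2 hbodd)] at hne2 ⊢
  have hr3 : 2 < r := lt_of_le_of_ne (Fact.out : r.Prime).two_le (Ne.symm hr2)
  have hcc : c = CfsgLib.OrthFix.cc i := hc
  rw [← hcc] at hne1 hne2 ⊢
  have hcpos : 0 < c := hcc ▸ CfsgLib.OrthFix.cc_pos (hii ▸ CfsgLib.OrthFix.isz_pos hrK)
  have e1 := CfsgLib.OrthFix.div_split a b c hcpos
  have e2 := CfsgLib.OrthFix.div_small a c hcpos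
  have e3 := CfsgLib.OrthFix.div_small b c hcpos
  have e4 := Nat.mod_lt a hcpos
  have e5 := Nat.mod_lt b hcpos
  have e6 := hcc ▸ CfsgLib.OrthFix.mod_parity b i
  have e7 := hcc ▸ CfsgLib.OrthFix.mod_parity (2 * d) i
  have e8 := hcc ▸ CfsgLib.OrthFix.mod_parity a i
  rw [← hsum] at e1
  simp only [hr2, hrp, hr3, ne_eq, not_false_eq_true, true_and, false_and, false_or, Nat.odd_iff, Nat.even_iff] at hne1 hne2 ⊢
  have hC2 : (i % 2 = 0 ∧ c = i) ∨ (i % 2 = 1 ∧ c = 2 * i) := by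
    rcases Nat.even_or_odd i with h | h
    · exact Or.inl ⟨Nat.even_iff.1 h, hcc.trans (CfsgLib.OrthFix.cc_of_even h)⟩
    · exact Or.inr ⟨Nat.odd_iff.1 h, hcc.trans (CfsgLib.OrthFix.cc_of_odd h)⟩
  have hmain2 := blocks_arith i c a (2 * d) (A := a % c) (B := b % c) (K := (2 * d) % c) (Na := a / c)
    (Nb := b / c) (Nn := (2 * d) / c) b hsum hm1 hbodd hC2 (by omega) e1 e2 e3 (by omega) (by omega) (by omega)
    e4 e5 hne1 hne2
  rw [hmain2]
  rcases hC2 with ⟨hi2, rfl⟩ | ⟨hi2, -⟩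
  · simp [hi2]
  · simp [hi2]

end Cfsg.Agent.S5989
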