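import Cfsg.Statements.S5990
import Cfsg.Agent.Lib.OrthFix.SqNegOne
import Cfsg.Agent.Lib.OrthFix.InvolTwo
import Cfsg.Agent.Lib.OrthFix.WitnessMinus

set_option autoImplicit false
set_option maxHeartbeats 4000000
open scoped MatrixGroups
open Cfsg

namespace Cfsg.Agent.S5990

theorem blocks_arith (i c m n : ℕ) {A B K Na Nb Nn D : ℕ} (b : ℕ) (_hn : n = m + b) (hm : m % 2 = 0) (hb : b % 2 = 0)
    (hc : (i % 2 = 0 ∧ c = i) ∨ (i % 2 = 1 ∧ c = 2 * i)) (hb0 : 0 < b) (hm0 : 0 < m)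
    (e1 : (A + B < c ∧ K = A + B ∧ Nn = Na + Nb) ∨ (c ≤ A + B ∧ K + c = A + B ∧ Nn = Na + Nb + 1))
    (e2 : (m < c ∧ Na = 0 ∧ A = m) ∨ (c ≤ m ∧ 1 ≤ Na))
    (e3 : (b < c ∧ Nb = 0 ∧ B = b) ∨ (c ≤ b ∧ 1 ≤ Nb))
    (eA : A % 2 = 0) (eB : B % 2 = 0) (eK : K % 2 = 0) (hAc : A < c) (hBc : B < c)
    (hD : A = K → D = Nn + Na)
    (h1 : (if ¬ A = 0 ∨ i % 2 = 0 ∧ Na % 2 = 1 then Na else Na - 1) ≠
      if ¬ K = 0 ∨ i % 2 = 0 ∧ Nn % 2 = 1 then Nn else Nn - 1)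
    (h2 : (if ¬ B = 0 ∨ i % 2 = 1 ∨ Nb % 2 = 0 then Nb else Nb - 1) ≠
      if ¬ K = 0 ∨ i % 2 = 0 ∧ Nn % 2 = 1 then Nn else Nn - 1) :
    (if ¬ K = 0 ∨ i % 2 = 0 ∧ Nn % 2 = 1 then Nn else Nn - 1) ≤
      (if ¬ A = 0 ∨ i % 2 = 0 ∧ Na % 2 = 1 then Na else Na - 1) +
      (if ¬ B = 0 ∨ i % 2 = 1 ∨ Nb % 2 = 0 then Nb else Nb - 1) ↔
    ((i % 2 = 1 ∧ (K = 0 ∨ (c ≤ m ∧ 0 < A ∧ A ≤ K))) ∨
      (i % 2 = 0 ∧ ((K = 0 ∧ (Nn % 2 = 0 ∨ (A = 0 ∧ Na % 2 = 1))) ∨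
        (0 < K ∧ i ≤ m ∧ ((0 < A ∧ A < K) ∨ (A = 0 ∧ Na % 2 = 1) ∨ (A = K ∧ D % 2 = 0)))))) := by
  rcases hc with ⟨hi, rfl⟩ | ⟨hi, rfl⟩ <;> rcases e1 with e1 | e1 <;> rcases e2 with e2 | e2 <;>
    rcases e3 with e3 | e3 <;> simp only [hi, true_and, false_and, Nat.zero_ne_one, Nat.one_ne_zero, false_or, or_false, true_or, or_true, ne_eq] at h1 h2 ⊢ <;>
    split_ifs at h1 h2 ⊢ <;> omega


/-- Elements of prime order of PΩ⁻_n(q) with no fixed elliptic `m`-space. Here `T = PΩ⁻_n(F)`, `n = 2d ≥ 8`, realised through `Ω⁻_n(q)`, the commutator subgroup of the isometry group of `Q = Σ_{i<d−1} xᵢyᵢ + z₁² + a z₁z₂ + b z₂²` with `z₁² + a z₁z₂ + b z₂²` anisotropic, over the field `F` with `q` elements; an element of `T` of prime order `r` is an element `x` of `Ω⁻_n(q)` with `x^r` scalar and `x` not scalar; a nondegenerate `m`-space (even `m`) is a subspace on which the polar form of `Q`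 is nondegenerate; it is hyperbolic if it contains an `m/2`-dimensional subspace on which `Q` vanishes, elliptic otherwise. Let `m` be even with `2 ≤ m ≤ n − 2` (no restriction `m < n/2`: fixing an elliptic `m`-space is the same as fixing its hyperbolic orthogonal complement) and let `r` be a prime dividing the number of elliptic `m`-spaces, with `r = 2` or `r ≠ p`; for `r ≠ p` let `i` be the multiplicative order of `q` modulo `r`, `c = i` for `i` even and `c = 2i` for `i` odd, and write `k = n mod c`, `ℓ = m mod i`, `ℓ' = m mod c`, `n' = ⌊n/i⌋`, `m' = ⌊m/i⌋`, `t = (r−1)/i`. Then every element of `T` of order `r` fixes some elliptic `m`-space if and only if one of: (i) `r = p = 2` and (`n ≡ 0 (mod 4)` or `m ≡ 2 (mod 4)`); (ii) `r = 2 ≠ p` and (`n ≡ 0 (mod 4)`, or `q ≢ 7 (mod 8)`, or `m ≡ 2 (mod 4)`); (iii) `r ≠ p` odd, `i` odd, and `k = 0` or (`c ≤ m` and `k ≥ ℓ' > 0`); (iv) `r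 ≠ p` odd, `i` even, and either `k = 0` and (`n/i` even, or `ℓ' = 0` and `m/i` odd), or `k > 0`, `i ≤ m` and (`k > ℓ' > 0`, or `ℓ' = 0` and `m/i` odd, or `k = ℓ'` and `(n + m − 2k)/i` even). (Odd `r = p` is not covered by this statement.) -/
theorem result {F : Type*} [Field F] [Fintype F] {p : ℕ} [Fact p.Prime] [CharP F p] {q : ℕ} (hq : Fintype.card F = q)
    (d m : ℕ) (hd : 4 ≤ d) (hm : 2 ≤ m) (hme : Even m) (hmn : m + 2 ≤ 2 * d) (a b : F) (hab : ∀ x y : F, x ^ 2 + a * x * y + b * y ^ 2 = 0 → x = 0 ∧ y = 0)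
    (r : ℕ) [Fact r.Prime] (hr : r = 2 ∨ r ≠ p)
    (hrΩ : r ∣ Nat.card {W : Submodule F ((Fin (d - 1) ⊕ Fin (d - 1)) ⊕ Fin 2 → F) // Module.finrank F ↥W = m ∧ Cfsg.Geo.IsNondegenerateOn (QuadraticMap.polar (Cfsg.quadFormMinus (d - 1) F a b)) W ∧ ¬ Cfsg.Geo.IsPlusTypeOn (Cfsg.quadFormMinus (d - 1) F a b) W})
    (i c : ℕ) (hi : i = orderOf (q : ZMod r)) (hc : c = if Even i then i else 2 * i) :
    (∀ x : GL ((Fin (d - 1) ⊕ Fin (d - 1)) ⊕ Fin 2) F, x ∈ Cfsg.Geo.omegaGL (Cfsg.quadFormMinus (d - 1) F a b) →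
      (∃ z : F, ((x ^ r : GL ((Fin (d - 1) ⊕ Fin (d - 1)) ⊕ Fin 2) F) : Matrix ((Fin (d - 1) ⊕ Fin (d - 1)) ⊕ Fin 2) ((Fin (d - 1) ⊕ Fin (d - 1)) ⊕ Fin 2) F) = z • (1 : Matrix ((Fin (d - 1) ⊕ Fin (d - 1)) ⊕ Fin 2) ((Fin (d - 1) ⊕ Fin (d - 1)) ⊕ Fin 2) F)) →
      (∀ z : F, (x : Matrix ((Fin (d - 1) ⊕ Fin (d - 1)) ⊕ Fin 2) ((Fin (d - 1) ⊕ Fin (d - 1)) ⊕ Fin 2) F) ≠ z • (1 : Matrix ((Fin (d - 1) ⊕ Fin (d - 1)) ⊕ Fin 2) ((Fin (d - 1) ⊕ Fin (d - 1)) ⊕ Fin 2) F)) →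
      ∃ W : Submodule F ((Fin (d - 1) ⊕ Fin (d - 1)) ⊕ Fin 2 → F), (Module.finrank F ↥W = m ∧ Cfsg.Geo.IsNondegenerateOn (QuadraticMap.polar (Cfsg.quadFormMinus (d - 1) F a b)) W ∧ ¬ Cfsg.Geo.IsPlusTypeOn (Cfsg.quadFormMinus (d - 1) F a b) W) ∧ W.map (Matrix.toLin' (x : Matrix ((Fin (d - 1) ⊕ Fin (d - 1)) ⊕ Fin 2) ((Fin (d - 1) ⊕ Fin (d - 1)) ⊕ Fin 2) F)) ≤ W) ↔
    ((r = 2 ∧ p = 2 ∧ (Even d ∨ m % 4 = 2)) ∨
     (r = 2 ∧ p ≠ 2 ∧ (Even d ∨ q % 8 ≠ 7 ∨ m % 4 = 2)) ∨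
     (r ≠ p ∧ 2 < r ∧ Odd i ∧ ((2 * d) % c = 0 ∨ (c ≤ m ∧ 0 < m % c ∧ m % c ≤ (2 * d) % c))) ∨
     (r ≠ p ∧ 2 < r ∧ Even i ∧
       (((2 * d) % c = 0 ∧ (Even ((2 * d) / i) ∨ (m % c = 0 ∧ Odd (m / i)))) ∨
        (0 < (2 * d) % c ∧ i ≤ m ∧ ((0 < m % c ∧ m % c < (2 * d) % c) ∨ (m % c = 0 ∧ Odd (m / i)) ∨
                                    (m % c = (2 * d) % c ∧ Even ((2 * d + m - 2 * ((2 * d) % c)) / i))))))) := by
  obtain ⟨k, hk⟩ := hme
  have hm2 : m = 2 * k := by omega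
  have hQ := CfsgLib.POmega.minusQ_nondegenerate_any (m := d - 1) hab
  have hnp : ¬ CfsgLib.QuadType.IsPlus (Cfsg.quadFormMinus (d - 1) F a b) d :=
    CfsgLib.OrthFix.not_isPlus_minusForm hab (by omega)
  obtain ⟨E, hE⟩ := CfsgLib.PrimeClasses.minus_add_plus' (i := k - 1) (j := d - k) (k := d - 1) a b (by omega)
  rw [← CfsgLib.Orth.minusQ_coe] at *
  rw [← CfsgLib.Orth.plusQ_coe, ← CfsgLib.Orth.minusQ_coe] at hE
  set Q := CfsgLib.Orth.minusQ (d - 1) F a b with hQdef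
  set Q₁ := CfsgLib.Orth.minusQ (k - 1) F a b with hQ₁
  set Q₂ := CfsgLib.Orth.plusQ (d - k) F with hQ₂
  have hsp : CfsgLib.OrthFix.Splits Q Q₁ Q₂ E := hE
  have hP1 : ¬ CfsgLib.QuadType.IsPlus (⇑Q₁) k := by
    rw [hQ₁, CfsgLib.Orth.minusQ_coe]; exact CfsgLib.OrthFix.not_isPlus_minusForm hab (by omega)
  have hP2 : CfsgLib.QuadType.IsPlus (⇑Q₂) (d - k) := by
    rw [hQ₂, CfsgLib.Orth.plusQ_coe]; exact CfsgLib.OrthFix.isPlus_plusForm _
  have hdim : Module.finrank F (CfsgLib.OrthFix.summand E) = 2 * k := by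
    rw [CfsgLib.OrthFix.finrank_summand]; simp; omega
  have hnd := hsp.nondegenerateOn hQ
  have hminus : ¬ Cfsg.Geo.IsPlusTypeOn (⇑Q) (CfsgLib.OrthFix.summand E) := by
    rw [hsp.isPlusTypeOn_iff (k := k) (by simp; omega)]; exact hP1
  let C : Submodule F ((Fin (d - 1) ⊕ Fin (d - 1)) ⊕ Fin 2 → F) → Prop := fun W => Module.finrank F ↥W = m ∧
    Cfsg.Geo.IsNondegenerateOn (QuadraticMap.polar ⇑Q) W ∧ ¬ Cfsg.Geo.IsPlusTypeOn (⇑Q) W
  have hC : ∀ W, C W ↔ CfsgLib.OrthFix.InClass (⇑Q) (CfsgLib.OrthFix.summand E) W := fun W => by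
    rw [CfsgLib.OrthFix.inClass_iff_type hQ hnd hdim]
    simp only [C, iff_false_right hminus, hm2]
  have hcard : Fintype.card ((Fin (d - 1) ⊕ Fin (d - 1)) ⊕ Fin 2) = 2 * d := by simp; omega
  show CfsgLib.OrthFix.ProjFix r (⇑Q) C ↔ _
  by_cases hrp : r = p
  · have hr2 : r = 2 := hr.resolve_right (fun h => h hrp)
    subst hr2
    subst hrp
    have h2 : (2 : F) = 0 := CharP.cast_eq_zero F 2
    simp only [ne_eq, not_true_eq_false, true_and, false_and, and_false, or_false, Nat.even_iff]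
    constructor
    · intro h
      by_contra hno
      have he : Even (d - 1) := Nat.even_iff.2 (by omega)
      obtain ⟨W, ⟨hWd, hWn, hWp⟩, hWx⟩ := h (CfsgLib.OrthFix.upMinus (CfsgLib.OrthFix.pathM (d - 1) F))
        (by rw [hQdef, CfsgLib.Orth.minusQ_coe]; exact CfsgLib.OrthFix.upMinus_mem (by omega) _ a b)
        ⟨1, by rw [CfsgLib.OrthFix.upMinus_pow_char (p := 2), Units.val_one, one_smul]⟩
        (CfsgLib.OrthFix.upMinus_not_scalar (by omega))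
      rw [hQdef, CfsgLib.Orth.minusQ_coe] at hWn hWp
      exact hWp (CfsgLib.OrthFix.plus_of_invariant_minus he (by omega) hab (k := k) (by omega)
        (Nat.even_iff.2 (by omega)) hWn hWx)
    · intro hcond x hx ⟨z, hz⟩ _
      have hxQ := CfsgLib.OrthFix.isometry_of_mem_omegaGL hx
      have hxx : (x : Matrix ((Fin (d - 1) ⊕ Fin (d - 1)) ⊕ Fin 2) ((Fin (d - 1) ⊕ Fin (d - 1)) ⊕ Fin 2) F) * x = 1 := by
        have hz1 : z * z = 1 := CfsgLib.OrthFix.scalar_sq_eq_one hQ (by omega) fun v => by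
          have := (pow_mem hxQ 2 : x ^ 2 ∈ Cfsg.isometryGroup F (⇑Q)) v v
          simpa [hz, Matrix.smul_mulVec] using this
        have hz2 : z = 1 := by
          have : (z - 1) * (z - 1) = 0 := by linear_combination hz1 - (z - 1) * h2
          exact sub_eq_zero.1 (mul_self_eq_zero.1 this)
        rw [← Units.val_mul, ← pow_two x, hz, hz2, one_smul]
      have htopnd : Cfsg.Geo.IsNondegenerateOn (QuadraticMap.polar ⇑Q) ⊤ := by
        intro w _ hw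
        obtain ⟨v, hv⟩ : ∃ v, QuadraticMap.polar ⇑Q w v ≠ 0 := by
          by_contra hno
          push Not at hno
          exact hw (hQ.1 w hno)
        exact ⟨⟨v, trivial, by rwa [QuadraticMap.polar_comm]⟩, ⟨v, trivial, hv⟩⟩
      have htop : ¬ Cfsg.Geo.IsPlusTypeOn (⇑Q) ⊤ := by
        rw [CfsgLib.QuadType.isPlusTypeOn_top_iff hcard]; exact hnp
      obtain ⟨W, -, hWn, hWi, hWd, hWt⟩ := CfsgLib.OrthFix.invol_two_exists h2 hxx (fun v => hxQ v v) d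
        (by rw [finrank_top, Module.finrank_fintype_fun_eq_card, hcard]) htopnd le_top k (by omega)
        (fun h => absurd h htop) (fun _ => ⟨by omega, by rw [Nat.odd_iff, Nat.even_iff]; omega⟩)
      exact ⟨W, ⟨by omega, hWn, fun h => htop (hWt.1 h)⟩, hWi⟩
  have hrK : (r : F) ≠ 0 := fun h =>
    hrp ((Nat.prime_dvd_prime_iff_eq (Fact.out) (Fact.out)).1 ((CharP.cast_eq_zero_iff F p r).1 h)).symm
  by_cases hr2 : r = 2
  · subst hr2
    have hp2 : p ≠ 2 := fun h => hrp h.symm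
    have h2 : (2 : F) ≠ 0 := by exact_mod_cast hrK
    have hodd : q % 2 = 1 := hq ▸ FiniteField.odd_card_of_char_ne_two (by rwa [ringChar.eq F p])
    rw [CfsgLib.OrthFix.projFix_two h2 hQ hcard (by omega) hnd (by omega) (by omega) hC,
      CfsgLib.OrthFix.isSquare_two_iff' hq hodd, CfsgLib.OrthFix.isSquare_neg_one_iff' hq hodd]
    simp only [iff_false_left hnp, iff_false_left hminus, ne_eq, hp2, not_false_eq_true,
      lt_irrefl, true_and, false_and, and_false, false_or, or_false, Nat.even_iff]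
    constructor
    · intro h
      by_contra hno
      obtain ⟨k', hk', hk''⟩ := h (by omega) (by omega)
      omega
    · intro h h1 h3
      exact ⟨k, hdim, by omega⟩
  obtain ⟨hmain, hsum, hne1, hne2⟩ := CfsgLib.OrthFix.matFix_iff (n := 2 * d) (a := m) (b := 2 * d - m) hr2 hrK hQ hsp
    hC hrΩ (P := False) (P₁ := False) (P₂ := True)
    (iff_false_intro (by rw [hcard, Nat.mul_div_cancel_left _ two_pos]; exact hnp))
    (iff_false_intro (by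
      rw [show Fintype.card ((Fin (k - 1) ⊕ Fin (k - 1)) ⊕ Fin 2) / 2 = k by simp; omega]; exact hP1))
    (iff_true_intro (by
      rw [show Fintype.card (Fin (d - k) ⊕ Fin (d - k)) / 2 = d - k by simp; omega]; exact hP2))
    hcard (by simp; omega) (by simp; omega) (by omega) (by omega)
  rw [CfsgLib.OrthFix.projFix_iff hQ (by omega) hr2, hmain]
  have hii : i = CfsgLib.OrthFix.isz hrK := by rw [hi, ← hq]
  rw [← hii] at hne1 hne2 ⊢
  simp only [CfsgLib.OrthFix.top_minus _ _ not_false, CfsgLib.OrthFix.top_plus _ _ trivial] at hne1 hne2 ⊢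
  have hr3 : 2 < r := lt_of_le_of_ne (Fact.out : r.Prime).two_le (Ne.symm hr2)
  have hcc : c = CfsgLib.OrthFix.cc i := hc
  rw [← hcc] at hne1 hne2 ⊢
  have hipos : 0 < i := hii ▸ CfsgLib.OrthFix.isz_pos hrK
  have hcpos : 0 < c := hcc ▸ CfsgLib.OrthFix.cc_pos hipos
  obtain ⟨w, hw⟩ : ∃ w, 2 * d - m = w := ⟨_, rfl⟩
  rw [hw] at hne2 hsum ⊢
  have e1 := CfsgLib.OrthFix.div_split m w c hcpos
  have e2 := CfsgLib.OrthFix.div_small m c hcpos
  have e3 := CfsgLib.OrthFix.div_small w c hcpos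
  have e4 := Nat.mod_lt m hcpos
  have e5 := Nat.mod_lt w hcpos
  have e6 := hcc ▸ CfsgLib.OrthFix.mod_parity w i
  have e7 := hcc ▸ CfsgLib.OrthFix.mod_parity (2 * d) i
  have e8 := hcc ▸ CfsgLib.OrthFix.mod_parity m i
  rw [← hsum] at e1
  simp only [hr2, hrp, hr3, ne_eq, not_false_eq_true, true_and, false_and, false_or, Nat.odd_iff, Nat.even_iff] at hne1 hne2 ⊢
  have hC2 : (i % 2 = 0 ∧ c = i) ∨ (i % 2 = 1 ∧ c = 2 * i) := by
    rcases Nat.even_or_odd i with h | h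
    · exact Or.inl ⟨Nat.even_iff.1 h, hcc.trans (CfsgLib.OrthFix.cc_of_even h)⟩
    · exact Or.inr ⟨Nat.odd_iff.1 h, hcc.trans (CfsgLib.OrthFix.cc_of_odd h)⟩
  have hmain2 := blocks_arith i c m (2 * d) (A := m % c) (B := w % c) (K := (2 * d) % c) (Na := m / c)
    (Nb := w / c) (Nn := (2 * d) / c) (D := (2 * d + m - 2 * ((2 * d) % c)) / c) w hsum (by omega) (by omega) hC2
    (by omega) (by omega) e1 e2 e3 (by omega) (by omega) (by omega) e4 e5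
    (CfsgLib.OrthFix.div_diag _ _ c hcpos) hne1 hne2
  rw [hmain2]
  rcases hC2 with ⟨hi2, rfl⟩ | ⟨hi2, -⟩
  · simp [hi2]
  · simp [hi2]

end Cfsg.Agent.S5990
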