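import Cfsg.Statements.S5991
import Cfsg.Agent.Lib.OrthFix.SqNegOne
import Cfsg.Agent.Lib.OrthFix57.Classes

set_option autoImplicit false
set_option maxHeartbeats 4000000
open scoped MatrixGroups
open Cfsg

namespace Cfsg.Agent.S5991

theorem blocks_arith (i c m n : ℕ) {A B K Na Nb Nn : ℕ} (b : ℕ) (_hn : n = m + b) (hm : m % 2 = 1) (hb : b % 2 = 1)
    (hc : (i % 2 = 0 ∧ c = i) ∨ (i % 2 = 1 ∧ c = 2 * i)) (hmb : m < b)
    (e1 : (A + B < c ∧ K = A + B ∧ Nn = Na + Nb) ∨ (c ≤ A + B ∧ K + c = A + B ∧ Nn = Na + Nb + 1))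
    (e2 : (m < c ∧ Na = 0 ∧ A = m) ∨ (c ≤ m ∧ 1 ≤ Na))
    (e3 : (b < c ∧ Nb = 0 ∧ B = b) ∨ (c ≤ b ∧ 1 ≤ Nb))
    (eA : A % 2 = 1) (eB : B % 2 = 1) (eK : K % 2 = 0) (hAc : A < c) (hBc : B < c)
    (h1 : Na ≠ if ¬ K = 0 ∨ i % 2 = 0 ∧ Nn % 2 = 1 then Nn else Nn - 1)
    (h2 : Nb ≠ if ¬ K = 0 ∨ i % 2 = 0 ∧ Nn % 2 = 1 then Nn else Nn - 1) :
    (if ¬ K = 0 ∨ i % 2 = 0 ∧ Nn % 2 = 1 then Nn else Nn - 1) ≤ Na + Nb ↔
    ((i % 2 = 1 ∧ (K = 0 ∨ (c ≤ m ∧ 0 < A ∧ A < K))) ∨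
      (i % 2 = 0 ∧ ((K = 0 ∧ Nn % 2 = 0) ∨ (0 < K ∧ i ≤ m ∧ 0 < A ∧ A < K)))) := by
  rcases hc with ⟨hi, rfl⟩ | ⟨hi, rfl⟩ <;> rcases e1 with e1 | e1 <;> rcases e2 with e2 | e2 <;>
    rcases e3 with e3 | e3 <;> simp only [hi, true_and, false_and, Nat.zero_ne_one, Nat.one_ne_zero, false_or, or_false, ne_eq] at h1 h2 ⊢ <;>
    split_ifs at h1 h2 ⊢ <;> omega


/-- Elements of prime order of PΩ⁻_n(q), q odd, with no fixed nondegenerate `m`-space of odd dimension. Here `T = PΩ⁻_n(F)`, `n = 2d ≥ 8`, realised through `Ω⁻_n(q)`, the commutator subgroup of the isometry group of `Q = Σ_{i<d−1} xᵢyᵢ + z₁² + a z₁z₂ + b z₂²` with `z₁² + a z₁z₂ + b z₂²` anisotropic, over the field `F` with `q` elements; an element of `T` of prime order `r` is an element `x` of `Ω⁻_n(q)` with `x^r` scalar and `x` not scalar; `q` and `m` are odd, `1 ≤ m < n/2`. The nondegenerate `m`-spaces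 fall into two isometry classes, each an orbit of `T`, with equivalent actions; fix one such space `W₀` and let Ω be the set of nondegenerate `m`-spaces isometric to `W₀`. Let `r` be a prime dividing the size of Ω; for `r ≠ p` let `i` be the multiplicative order of `q` modulo `r`, `c = i` for `i` even and `c = 2i` for `i` odd, and write `k = n mod c`, `ℓ = m mod i`, `ℓ' = m mod c`, `n' = ⌊n/i⌋`, `m' = ⌊m/i⌋`, `t = (r−1)/i`. Then every element of `T` of order `r` fixes a member of Ω if and only if one of: (i) `r = 2` and (`n ≡ 0 (mod 4)` or `q ≢ 7 (mod 8)`); (ii) `r ≠ p` odd, `i` odd, and `k = 0` or (`c ≤ m` and `k > ℓ' > 0`); (iii) `r ≠ p` odd, `i` even, and either `k = 0` and `n/i` even, or `k > 0`, `i ≤ m` and `k > ℓ' > 0`. (For `r = p` there is always an element of order `p` fixing no member of Ω.) -/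
theorem result {F : Type*} [Field F] [Fintype F] {p : ℕ} [Fact p.Prime] [CharP F p] {q : ℕ} (hq : Fintype.card F = q)
    (hodd : Odd q) (d m : ℕ) (hd : 4 ≤ d) (hm : Odd m) (hmd : m < d) (a b : F) (hab : ∀ x y : F, x ^ 2 + a * x * y + b * y ^ 2 = 0 → x = 0 ∧ y = 0)
    (W₀ : Submodule F ((Fin (d - 1) ⊕ Fin (d - 1)) ⊕ Fin 2 → F)) (hW₀ : Module.finrank F ↥W₀ = m ∧ Cfsg.Geo.IsNondegenerateOn (QuadraticMap.polar (Cfsg.quadFormMinus (d - 1) F a b)) W₀)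
    (r : ℕ) [Fact r.Prime]
    (hrΩ : r ∣ Nat.card {W : Submodule F ((Fin (d - 1) ⊕ Fin (d - 1)) ⊕ Fin 2 → F) // Module.finrank F ↥W = m ∧ Cfsg.Geo.IsNondegenerateOn (QuadraticMap.polar (Cfsg.quadFormMinus (d - 1) F a b)) W ∧ Cfsg.Geo.AreIsometricFor (Cfsg.quadFormMinus (d - 1) F a b) W W₀})
    (i c : ℕ) (hi : i = orderOf (q : ZMod r)) (hc : c = if Even i then i else 2 * i) :
    (∀ x : GL ((Fin (d - 1) ⊕ Fin (d - 1)) ⊕ Fin 2) F, x ∈ Cfsg.Geo.omegaGL (Cfsg.quadFormMinus (d - 1) F a b) →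
      (∃ z : F, ((x ^ r : GL ((Fin (d - 1) ⊕ Fin (d - 1)) ⊕ Fin 2) F) : Matrix ((Fin (d - 1) ⊕ Fin (d - 1)) ⊕ Fin 2) ((Fin (d - 1) ⊕ Fin (d - 1)) ⊕ Fin 2) F) = z • (1 : Matrix ((Fin (d - 1) ⊕ Fin (d - 1)) ⊕ Fin 2) ((Fin (d - 1) ⊕ Fin (d - 1)) ⊕ Fin 2) F)) →
      (∀ z : F, (x : Matrix ((Fin (d - 1) ⊕ Fin (d - 1)) ⊕ Fin 2) ((Fin (d - 1) ⊕ Fin (d - 1)) ⊕ Fin 2) F) ≠ z • (1 : Matrix ((Fin (d - 1) ⊕ Fin (d - 1)) ⊕ Fin 2) ((Fin (d - 1) ⊕ Fin (d - 1)) ⊕ Fin 2) F)) →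
      ∃ W : Submodule F ((Fin (d - 1) ⊕ Fin (d - 1)) ⊕ Fin 2 → F), (Module.finrank F ↥W = m ∧ Cfsg.Geo.IsNondegenerateOn (QuadraticMap.polar (Cfsg.quadFormMinus (d - 1) F a b)) W ∧ Cfsg.Geo.AreIsometricFor (Cfsg.quadFormMinus (d - 1) F a b) W W₀) ∧ W.map (Matrix.toLin' (x : Matrix ((Fin (d - 1) ⊕ Fin (d - 1)) ⊕ Fin 2) ((Fin (d - 1) ⊕ Fin (d - 1)) ⊕ Fin 2) F)) ≤ W) ↔
    ((r = 2 ∧ (Even d ∨ q % 8 ≠ 7)) ∨
     (r ≠ p ∧ 2 < r ∧ Odd i ∧ ((2 * d) % c = 0 ∨ (c ≤ m ∧ 0 < m % c ∧ m % c < (2 * d) % c))) ∨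
     (r ≠ p ∧ 2 < r ∧ Even i ∧ (((2 * d) % c = 0 ∧ Even ((2 * d) / i)) ∨ (0 < (2 * d) % c ∧ i ≤ m ∧ 0 < m % c ∧ m % c < (2 * d) % c)))) := by
  have h2 : (2 : F) ≠ 0 := CfsgLib.POmega.two_ne_zero_of_odd (hq ▸ hodd)
  have hQ := CfsgLib.Orth.minusQ_nondegenerate (F := F) h2 (m := d - 1) hab
  have hnp : ¬ CfsgLib.QuadType.IsPlus (Cfsg.quadFormMinus (d - 1) F a b) d :=
    CfsgLib.OrthFix.not_isPlus_minusForm hab (by omega)
  rw [← CfsgLib.Orth.minusQ_coe] at *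
  set Q := CfsgLib.Orth.minusQ (d - 1) F a b with hQdef
  obtain ⟨hdim, hnd⟩ := hW₀
  let C : Submodule F ((Fin (d - 1) ⊕ Fin (d - 1)) ⊕ Fin 2 → F) → Prop := fun W => Module.finrank F ↥W = m ∧
    Cfsg.Geo.IsNondegenerateOn (QuadraticMap.polar ⇑Q) W ∧ Cfsg.Geo.AreIsometricFor (⇑Q) W W₀
  have hC : ∀ W, C W ↔ CfsgLib.OrthFix.InClass (⇑Q) W₀ W := fun W =>
    (CfsgLib.OrthFix.inClass_iff_iso hdim W).symm
  have hcard : Fintype.card ((Fin (d - 1) ⊕ Fin (d - 1)) ⊕ Fin 2) = 2 * d := by simp; omega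
  have hm1 := Nat.odd_iff.1 hm
  have hq1 := Nat.odd_iff.1 hodd
  show CfsgLib.OrthFix.ProjFix r (⇑Q) C ↔ _
  have hp2 : p ≠ 2 := fun h => h2 (by subst h; exact_mod_cast CharP.cast_eq_zero F 2)
  by_cases hrp : r = p
  · subst hrp
    exact iff_of_false (CfsgLib.OrthFix57.not_projFix_char hp2 hQ hd hcard hm hdim hnd)
      (by rintro (⟨h, -⟩ | ⟨h, -⟩ | ⟨h, -⟩) <;> first | exact hp2 h | exact h rfl)
  have hrK : (r : F) ≠ 0 := fun h =>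
    hrp ((Nat.prime_dvd_prime_iff_eq (Fact.out) (Fact.out)).1 ((CharP.cast_eq_zero_iff F p r).1 h)).symm
  by_cases hr2 : r = 2
  · subst hr2
    rw [CfsgLib.OrthFix.projFix_two h2 hQ hcard (by omega) hnd (by omega) (by omega) hC,
      CfsgLib.OrthFix.isSquare_two_iff' hq hq1, CfsgLib.OrthFix.isSquare_neg_one_iff' hq hq1]
    simp only [iff_false_left hnp, lt_irrefl, true_and, false_and, and_false, or_false, Nat.even_iff, Nat.odd_iff]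
    constructor
    · intro h
      by_contra hno
      obtain ⟨k, hk, -⟩ := h (by omega) (by omega)
      omega
    · intro h h1 h3
      omega
  obtain ⟨u, w, Q₁, Q₂, E, hE, hsE, ha, huw⟩ := CfsgLib.OrthFix.exists_splits hnd
  have ha' : u = m := ha.trans hdim
  subst ha'
  obtain ⟨hmain, hsum, hne1, hne2⟩ := CfsgLib.OrthFix.matFix_iff (n := 2 * d) (a := u) (b := w) hr2 hrK hQ hE
    (fun W => hsE.symm ▸ hC W) hrΩ (P := False) (P₁ := CfsgLib.QuadType.IsPlus (⇑Q₁) _)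
    (P₂ := CfsgLib.QuadType.IsPlus (⇑Q₂) _)
    (iff_false_intro (by rw [hcard, Nat.mul_div_cancel_left _ two_pos]; exact hnp)) Iff.rfl Iff.rfl
    hcard (by simp) (by simp) (by omega) (by omega)
  rw [CfsgLib.OrthFix.projFix_iff hQ (by omega) hr2, hmain]
  have hii : i = CfsgLib.OrthFix.isz hrK := by rw [hi, ← hq]
  rw [← hii] at hne1 hne2 ⊢
  rw [CfsgLib.OrthFix.top_minus _ _ not_false] at hne1 hne2 ⊢
  have hbodd : w % 2 = 1 := by omega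
  rw [CfsgLib.OrthFix.top_of_odd hm] at hne1 ⊢
  rw [CfsgLib.OrthFix.top_of_odd (Nat.odd_iff.2 hbodd)] at hne2 ⊢
  have hr3 : 2 < r := lt_of_le_of_ne (Fact.out : r.Prime).two_le (Ne.symm hr2)
  have hcc : c = CfsgLib.OrthFix.cc i := hc
  rw [← hcc] at hne1 hne2 ⊢
  have hcpos : 0 < c := hcc ▸ CfsgLib.OrthFix.cc_pos (hii ▸ CfsgLib.OrthFix.isz_pos hrK)
  have e1 := CfsgLib.OrthFix.div_split u w c hcpos
  have e2 := CfsgLib.OrthFix.div_small u c hcpos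
  have e3 := CfsgLib.OrthFix.div_small w c hcpos
  have e4 := Nat.mod_lt u hcpos
  have e5 := Nat.mod_lt w hcpos
  have e6 := hcc ▸ CfsgLib.OrthFix.mod_parity w i
  have e7 := hcc ▸ CfsgLib.OrthFix.mod_parity (2 * d) i
  have e8 := hcc ▸ CfsgLib.OrthFix.mod_parity u i
  rw [← hsum] at e1
  simp only [hr2, hrp, hr3, ne_eq, not_false_eq_true, true_and, false_and, false_or, Nat.odd_iff, Nat.even_iff] at hne1 hne2 ⊢
  have hC2 : (i % 2 = 0 ∧ c = i) ∨ (i % 2 = 1 ∧ c = 2 * i) := by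
    rcases Nat.even_or_odd i with h | h
    · exact Or.inl ⟨Nat.even_iff.1 h, hcc.trans (CfsgLib.OrthFix.cc_of_even h)⟩
    · exact Or.inr ⟨Nat.odd_iff.1 h, hcc.trans (CfsgLib.OrthFix.cc_of_odd h)⟩
  have hmain2 := blocks_arith i c u (2 * d) (A := u % c) (B := w % c) (K := (2 * d) % c) (Na := u / c)
    (Nb := w / c) (Nn := (2 * d) / c) w hsum hm1 hbodd hC2 (by omega) e1 e2 e3 (by omega) (by omega) (by omega)
    e4 e5 hne1 hne2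
  rw [hmain2]
  rcases hC2 with ⟨hi2, rfl⟩ | ⟨hi2, -⟩
  · simp [hi2]
  · simp [hi2]

end Cfsg.Agent.S5991
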