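import Cfsg.Statements.S5992
import Cfsg.Agent.Lib.OrthFix.Subspaces

set_option autoImplicit false
set_option maxHeartbeats 4000000
open scoped MatrixGroups
open Cfsg

namespace Cfsg.Agent.S5992

/-- Elements of prime order r ≠ p of Ω_n(q), nq odd, with no fixed hyperbolic `m`-space. Here `T = Ω_n(F)`, `n = 2d+1 ≥ 7`, `q` odd, realised as the commutator subgroup of the isometry group of `Q = x₀² + Σ xᵢyᵢ` over the field `F` with `q` elements (trivial centre, so its elements of prime order `r` are used directly); a nondegenerate `m`-space (even `m`) is a subspace on which the polar form of `Q` is nondegenerate; it is hyperbolic if it contains an `m/2`-dimensional subspace on which `Q` vanishes, elliptic otherwise. Let `m` be even with `2 ≤ m ≤ n − 1` (no restriction `m < n/2`) and let `r ≠ p` be a prime dividing the number of hyperbolic `m`-spaces; for `r ≠ p` let `i` be the multiplicative order of `q` modulo `r`,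 `c = i` for `i` even and `c = 2i` for `i` odd, and write `k = n mod c`, `ℓ' = m mod c`. Then every element of `T` of order `r` fixes some hyperbolic `m`-space if and only if `r = 2`, or `r` is odd and one of: (i) `i` odd, `c ≤ m` and either `k > ℓ' > 0` or `ℓ' = 0`; (ii) `i` even, `i ≤ m`, `k > ℓ'`, and `m/i` even whenever `ℓ' = 0`. (`r = p` is not covered by this statement.) -/
theorem result {F : Type*} [Field F] [Fintype F] {p : ℕ} [Fact p.Prime] [CharP F p] {q : ℕ} (hq : Fintype.card F = q) (hqodd : Odd q)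
    (d m : ℕ) (hd : 3 ≤ d) (hm : 2 ≤ m) (hme : Even m) (hmn : m ≤ 2 * d)
    (r : ℕ) [Fact r.Prime] (hrp : r ≠ p)
    (hrΩ : r ∣ Nat.card {W : Submodule F (Unit ⊕ (Fin d ⊕ Fin d) → F) // Module.finrank F ↥W = m ∧ Cfsg.Geo.IsNondegenerateOn (QuadraticMap.polar (Cfsg.quadFormOdd d F)) W ∧ Cfsg.Geo.IsPlusTypeOn (Cfsg.quadFormOdd d F) W})
    (i c : ℕ) (hi : i = orderOf (q : ZMod r)) (hc : c = if Even i then i else 2 * i) :
    (∀ x : GL (Unit ⊕ (Fin d ⊕ Fin d)) F, x ∈ Cfsg.Geo.omegaGL (Cfsg.quadFormOdd d F) → orderOf x = r →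
      ∃ W : Submodule F (Unit ⊕ (Fin d ⊕ Fin d) → F), (Module.finrank F ↥W = m ∧ Cfsg.Geo.IsNondegenerateOn (QuadraticMap.polar (Cfsg.quadFormOdd d F)) W ∧ Cfsg.Geo.IsPlusTypeOn (Cfsg.quadFormOdd d F) W) ∧ W.map (Matrix.toLin' (x : Matrix (Unit ⊕ (Fin d ⊕ Fin d)) (Unit ⊕ (Fin d ⊕ Fin d)) F)) ≤ W) ↔
    (r = 2 ∨
     (2 < r ∧ Odd i ∧ c ≤ m ∧ (m % c = 0 ∨ (0 < m % c ∧ m % c < (2 * d + 1) % c))) ∨
     (2 < r ∧ Even i ∧ i ≤ m ∧ m % c < (2 * d + 1) % c ∧ (0 < m % c ∨ Even (m / i)))) := by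
  have hF : Odd (Fintype.card F) := hq ▸ hqodd
  have h2 : (2 : F) ≠ 0 := CfsgLib.POmega.two_ne_zero_of_odd hF
  have hQ := CfsgLib.POmega.oddQ_nondegenerate h2 d
  obtain ⟨k, hk⟩ := hme
  have hm2 : m = 2 * k := by omega
  rw [← CfsgLib.POmega.oddQ_coe] at *
  set Q := CfsgLib.POmega.oddQ d F with hQdef
  let C : Submodule F (Unit ⊕ (Fin d ⊕ Fin d) → F) → Prop := fun W => Module.finrank F ↥W = m ∧
    Cfsg.Geo.IsNondegenerateOn (QuadraticMap.polar ⇑Q) W ∧ Cfsg.Geo.IsPlusTypeOn (⇑Q) W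
  have hcard : Fintype.card (Unit ⊕ (Fin d ⊕ Fin d)) = 2 * d + 1 := by simp; omega
  obtain ⟨W₀, hdim, hnd, hplus⟩ := CfsgLib.OrthFix.exists_plus_subspace h2 Q hQ (k := k) (by omega)
  have hC : ∀ W, C W ↔ CfsgLib.OrthFix.InClass (⇑Q) W₀ W := fun W => by
    rw [CfsgLib.OrthFix.inClass_iff_type hQ hnd hdim]
    simp only [C, iff_true_right hplus, hm2]
  show CfsgLib.OrthFix.OrderFix r (⇑Q) C ↔ _
  by_cases hr2 : r = 2
  · subst hr2
    exact iff_of_true (CfsgLib.OrthFix.orderFix_two h2 hQ (by omega) hnd (by omega) (by omega) hC) (Or.inl rfl)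
  have hrK : (r : F) ≠ 0 := fun h =>
    hrp ((Nat.prime_dvd_prime_iff_eq (Fact.out) (Fact.out)).1 ((CharP.cast_eq_zero_iff F p r).1 h)).symm
  obtain ⟨a, b, Q₁, Q₂, E, hE, hsE, ha, hab⟩ := CfsgLib.OrthFix.exists_splits hnd
  have ha' : a = m := by omega
  subst ha'
  obtain ⟨hmain, hsum, hne1, hne2⟩ := CfsgLib.OrthFix.matFix_iff (n := 2 * d + 1) (a := a) (b := b) hr2 hrK hQ hE
    (fun W => hsE.symm ▸ hC W) hrΩ (P := CfsgLib.QuadType.IsPlus (⇑Q) _) (P₁ := True)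
    (P₂ := CfsgLib.QuadType.IsPlus (⇑Q₂) _) Iff.rfl
    (iff_true_intro (by
      rw [Fintype.card_fin, show a / 2 = k by omega, ← hE.isPlusTypeOn_iff (k := k) (by simp; omega), hsE]
      exact hplus)) Iff.rfl
    hcard (by simp) (by simp) (by omega) (by omega)
  rw [CfsgLib.OrthFix.orderFix_iff hQ (by omega) hr2, hmain]
  have hii : i = CfsgLib.OrthFix.isz hrK := by rw [hi, ← hq]
  rw [← hii] at hne1 hne2 ⊢
  rw [CfsgLib.OrthFix.top_of_odd ⟨d, rfl⟩, CfsgLib.OrthFix.top_of_odd (show Odd b from Nat.odd_iff.2 (by omega))] at hne2 ⊢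
  rw [CfsgLib.OrthFix.top_of_odd ⟨d, rfl⟩] at hne1
  rw [CfsgLib.OrthFix.top_plus _ _ trivial] at hne1 ⊢
  have hr3 : 2 < r := lt_of_le_of_ne (Fact.out : r.Prime).two_le (Ne.symm hr2)
  have hcc : c = CfsgLib.OrthFix.cc i := hc
  rw [← hcc] at hne1 hne2 ⊢
  have hcpos : 0 < c := hcc ▸ CfsgLib.OrthFix.cc_pos (hii ▸ CfsgLib.OrthFix.isz_pos hrK)
  have e1 := CfsgLib.OrthFix.div_split a b c hcpos
  have e2 := CfsgLib.OrthFix.div_small a c hcpos
  have e3 := CfsgLib.OrthFix.div_small b c hcpos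
  have e4 := Nat.mod_lt a hcpos
  have e5 := Nat.mod_lt b hcpos
  rw [← hsum] at e1
  have e6 := hcc ▸ CfsgLib.OrthFix.mod_parity b i
  have e7 := hcc ▸ CfsgLib.OrthFix.mod_parity (2 * d + 1) i
  have e8 := hcc ▸ CfsgLib.OrthFix.mod_parity a i
  simp only [hr2, hr3, true_and, false_or, Nat.odd_iff, Nat.even_iff]
  rcases Nat.mod_two_eq_zero_or_one i with hpar | hpar
  · obtain rfl : c = i := by rw [hcc]; exact CfsgLib.OrthFix.cc_of_even (Nat.even_iff.2 hpar)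
    split_ifs at hne1 ⊢ <;> omega
  · split_ifs at hne1 ⊢ <;> omega

end Cfsg.Agent.S5992
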