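import Cfsg.Statements.S5993
import Cfsg.Agent.Lib.OrthFix.Subspaces
import Cfsg.Agent.Lib.Maximal99.OrthUnipotent

set_option autoImplicit false
set_option maxHeartbeats 4000000
open scoped MatrixGroups
open Cfsg

namespace Cfsg.Agent.S5993

/-- Elements of prime order of Ω_n(q), nq odd, with no fixed elliptic `m`-space. Here `T = Ω_n(F)`, `n = 2d+1 ≥ 7`, `q` odd, realised as the commutator subgroup of the isometry group of `Q = x₀² + Σ xᵢyᵢ` over the field `F` with `q` elements (trivial centre, so its elements of prime order `r` are used directly); a nondegenerate `m`-space (even `m`) is a subspace on which the polar form of `Q` is nondegenerate; it is hyperbolic if it contains an `m/2`-dimensional subspace on which `Q` vanishes, elliptic otherwise. Let `m` be even with `2 ≤ m ≤ n − 1` (no restriction `m < n/2`) and let `r` be a prime dividing the number of elliptic `m`-spaces; for `r ≠ p` let `i` be the multiplicative order of `q` modulo `r`,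 `c = i` for `i` even and `c = 2i` for `i` odd, and write `k = n mod c`, `ℓ' = m mod c`. Then every element of `T` of order `r` fixes some elliptic `m`-space if and only if `r = 2`, or `r ≠ p` is odd and one of: (i) `i` odd, `c ≤ m` and `k > ℓ' > 0`; (ii) `i` even, `i ≤ m`, `k > ℓ'`, and `m/i` odd whenever `ℓ' = 0`. (For `r = p` there is always an element of order `p` fixing no elliptic `m`-space.) -/
theorem result {F : Type*} [Field F] [Fintype F] {p : ℕ} [Fact p.Prime] [CharP F p] {q : ℕ} (hq : Fintype.card F = q) (hqodd : Odd q)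
    (d m : ℕ) (hd : 3 ≤ d) (hm : 2 ≤ m) (hme : Even m) (hmn : m ≤ 2 * d)
    (r : ℕ) [Fact r.Prime]
    (hrΩ : r ∣ Nat.card {W : Submodule F (Unit ⊕ (Fin d ⊕ Fin d) → F) // Module.finrank F ↥W = m ∧ Cfsg.Geo.IsNondegenerateOn (QuadraticMap.polar (Cfsg.quadFormOdd d F)) W ∧ ¬ Cfsg.Geo.IsPlusTypeOn (Cfsg.quadFormOdd d F) W})
    (i c : ℕ) (hi : i = orderOf (q : ZMod r)) (hc : c = if Even i then i else 2 * i) :
    (∀ x : GL (Unit ⊕ (Fin d ⊕ Fin d)) F, x ∈ Cfsg.Geo.omegaGL (Cfsg.quadFormOdd d F) → orderOf x = r →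
      ∃ W : Submodule F (Unit ⊕ (Fin d ⊕ Fin d) → F), (Module.finrank F ↥W = m ∧ Cfsg.Geo.IsNondegenerateOn (QuadraticMap.polar (Cfsg.quadFormOdd d F)) W ∧ ¬ Cfsg.Geo.IsPlusTypeOn (Cfsg.quadFormOdd d F) W) ∧ W.map (Matrix.toLin' (x : Matrix (Unit ⊕ (Fin d ⊕ Fin d)) (Unit ⊕ (Fin d ⊕ Fin d)) F)) ≤ W) ↔
    (r = 2 ∨
     (r ≠ p ∧ 2 < r ∧ Odd i ∧ c ≤ m ∧ 0 < m % c ∧ m % c < (2 * d + 1) % c) ∨
     (r ≠ p ∧ 2 < r ∧ Even i ∧ i ≤ m ∧ m % c < (2 * d + 1) % c ∧ (0 < m % c ∨ Odd (m / i)))) := by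
  have hF : Odd (Fintype.card F) := hq ▸ hqodd
  have h2 : (2 : F) ≠ 0 := CfsgLib.POmega.two_ne_zero_of_odd hF
  have hQ := CfsgLib.POmega.oddQ_nondegenerate h2 d
  obtain ⟨k, hk⟩ := hme
  have hm2 : m = 2 * k := by omega
  rw [← CfsgLib.POmega.oddQ_coe] at *
  set Q := CfsgLib.POmega.oddQ d F with hQdef
  let C : Submodule F (Unit ⊕ (Fin d ⊕ Fin d) → F) → Prop := fun W => Module.finrank F ↥W = m ∧
    Cfsg.Geo.IsNondegenerateOn (QuadraticMap.polar ⇑Q) W ∧ ¬ Cfsg.Geo.IsPlusTypeOn (⇑Q) W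
  have hcard : Fintype.card (Unit ⊕ (Fin d ⊕ Fin d)) = 2 * d + 1 := by simp; omega
  obtain ⟨W₀, hdim, hnd, hplus⟩ := CfsgLib.OrthFix.exists_minus_subspace h2 Q hQ (k := k) (by omega) (by omega)
  have hC : ∀ W, C W ↔ CfsgLib.OrthFix.InClass (⇑Q) W₀ W := fun W => by
    rw [CfsgLib.OrthFix.inClass_iff_type hQ hnd hdim]
    simp only [C, iff_false_right hplus, hm2]
  show CfsgLib.OrthFix.OrderFix r (⇑Q) C ↔ _
  by_cases hr2 : r = 2
  · subst hr2
    exact iff_of_true (CfsgLib.OrthFix.orderFix_two h2 hQ (by omega) hnd (by omega) (by omega) hC) (Or.inl rfl)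
  by_cases hrp : r = p
  · subst hrp
    refine iff_of_false (fun h => ?_) (by simp [hr2])
    have hp3 : 3 ≤ r := by
      have := (Fact.out : r.Prime).two_le
      omega
    obtain ⟨o, c, ho, hc', hs⟩ : ∃ o c : ℕ, (o = 1 ∨ o = 3) ∧ Even c ∧ 2 * c + o = 2 * d + 1 := by
      rcases Nat.even_or_odd d with hd' | hd'
      · exact ⟨1, d, Or.inl rfl, hd', by omega⟩
      · exact ⟨3, d - 1, Or.inr rfl, by obtain ⟨w, rfl⟩ := hd'; exact ⟨w, by omega⟩, by omega⟩
    have hnq : Cfsg.Geo.IsNondegenerateQuadraticForm (⇑Q) := by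
      rw [hQdef, CfsgLib.POmega.oddQ_coe]
      exact CfsgLib.OrthUnipotent.odd_nondeg d h2
    obtain ⟨x, hx, hxp, hprof⟩ := CfsgLib.OrthUnipotent.exists_omega_unipotent (p := r) hr2 hnq
      (μ := o ::ₘ Multiset.replicate c 2)
      (fun e he => by
        rcases Multiset.mem_cons.1 he with rfl | he
        · omega
        · rw [Multiset.eq_of_mem_replicate he]; omega)
      (fun e he => by
        rw [Multiset.count_cons_of_ne (by rintro rfl; rcases ho with rfl | rfl <;> simp [Nat.even_iff] at he),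
          Multiset.count_replicate]
        split
        · exact hc'
        · exact Even.zero)
      ⟨o, Multiset.mem_cons_self _ _, by rcases ho with rfl | rfl <;> decide⟩
      (by simp only [Multiset.sum_cons, Multiset.sum_replicate, smul_eq_mul]; omega)
    have hc2 : 2 ≤ c := by obtain ⟨w, rfl⟩ := hc'; omega
    have hx1 : x ≠ 1 := by
      rintro rfl
      have := hprof 1
      rw [Units.val_one, sub_self, map_zero] at this
      rw [CfsgLib.RankProfile.imDim, pow_one, Submodule.map_zero, finrank_bot] at this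
      simp [CfsgLib.RankProfile.partProfile] at this
      omega
    obtain ⟨W, ⟨hWd, hWn, hWp⟩, hWx⟩ := h x hx (orderOf_eq_prime hxp hx1)
    obtain ⟨ν, hν, hνs, hνe, hνp⟩ := CfsgLib.OrthUnipotent.exists_even_sub_partition (p := r) hr2 hnq
      (CfsgLib.OrthFix.isometry_of_mem_omegaGL hx) hxp
      (μ := o ::ₘ Multiset.replicate c 2)
      (fun e he => by
        rcases Multiset.mem_cons.1 he with rfl | he
        · omega
        · rw [Multiset.eq_of_mem_replicate he]; omega) hprof hWn hWx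
    have hno : o ∉ ν := fun hmem => by
      obtain ⟨ρ, rfl⟩ := Multiset.exists_cons_of_mem hmem
      obtain ⟨j, -, rfl⟩ := Multiset.le_replicate_iff.1 ((Multiset.cons_le_cons_iff o).1 hν)
      simp only [Multiset.sum_cons, Multiset.sum_replicate, smul_eq_mul] at hνs
      omega
    obtain ⟨j, -, rfl⟩ := Multiset.le_replicate_iff.1 ((Multiset.le_cons_of_notMem hno).1 hν)
    refine hWp (CfsgLib.OrthUnipotent.isPlusTypeOn_of_square_zero (p := r) hr2 hnq
      (CfsgLib.OrthFix.isometry_of_mem_omegaGL hx) hWx ?_ ?_)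
    · rw [← hνp 2]; simp [CfsgLib.RankProfile.partProfile]
    · rw [← hνp 1, ← hνs]; simp [CfsgLib.RankProfile.partProfile, mul_comm]
  have hrK : (r : F) ≠ 0 := fun h =>
    hrp ((Nat.prime_dvd_prime_iff_eq (Fact.out) (Fact.out)).1 ((CharP.cast_eq_zero_iff F p r).1 h)).symm
  obtain ⟨a, b, Q₁, Q₂, E, hE, hsE, ha, hab⟩ := CfsgLib.OrthFix.exists_splits hnd
  have ha' : a = m := by omega
  subst ha'
  obtain ⟨hmain, hsum, hne1, hne2⟩ := CfsgLib.OrthFix.matFix_iff (n := 2 * d + 1) (a := a) (b := b) hr2 hrK hQ hE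
    (fun W => hsE.symm ▸ hC W) hrΩ (P := CfsgLib.QuadType.IsPlus (⇑Q) _) (P₁ := False)
    (P₂ := CfsgLib.QuadType.IsPlus (⇑Q₂) _) Iff.rfl
    (iff_false_intro (by
      rw [Fintype.card_fin, show a / 2 = k by omega, ← hE.isPlusTypeOn_iff (k := k) (by simp; omega), hsE]
      exact hplus)) Iff.rfl
    hcard (by simp) (by simp) (by omega) (by omega)
  rw [CfsgLib.OrthFix.orderFix_iff hQ (by omega) hr2, hmain]
  have hii : i = CfsgLib.OrthFix.isz hrK := by rw [hi, ← hq]
  rw [← hii] at hne1 hne2 ⊢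
  rw [CfsgLib.OrthFix.top_of_odd ⟨d, rfl⟩, CfsgLib.OrthFix.top_of_odd (show Odd b from Nat.odd_iff.2 (by omega))] at hne2 ⊢
  rw [CfsgLib.OrthFix.top_of_odd ⟨d, rfl⟩] at hne1
  rw [CfsgLib.OrthFix.top_minus _ _ not_false] at hne1 ⊢
  have hr3 : 2 < r := lt_of_le_of_ne (Fact.out : r.Prime).two_le (Ne.symm hr2)
  have hcc : c = CfsgLib.OrthFix.cc i := hc
  rw [← hcc] at hne1 hne2 ⊢
  have hcpos : 0 < c := hcc ▸ CfsgLib.OrthFix.cc_pos (hii ▸ CfsgLib.OrthFix.isz_pos hrK)
  have e1 := CfsgLib.OrthFix.div_split a b c hcpos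
  have e2 := CfsgLib.OrthFix.div_small a c hcpos
  have e3 := CfsgLib.OrthFix.div_small b c hcpos
  have e4 := Nat.mod_lt a hcpos
  have e5 := Nat.mod_lt b hcpos
  rw [← hsum] at e1
  have e6 := hcc ▸ CfsgLib.OrthFix.mod_parity b i
  have e7 := hcc ▸ CfsgLib.OrthFix.mod_parity (2 * d + 1) i
  have e8 := hcc ▸ CfsgLib.OrthFix.mod_parity a i
  simp only [hr2, hrp, hr3, ne_eq, not_false_eq_true, true_and, false_or, Nat.odd_iff, Nat.even_iff]
  rcases Nat.mod_two_eq_zero_or_one i with hpar | hpar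
  · obtain rfl : c = i := by rw [hcc]; exact CfsgLib.OrthFix.cc_of_even (Nat.even_iff.2 hpar)
    split_ifs at hne1 ⊢ <;> omega
  · split_ifs at hne1 ⊢ <;> omega

end Cfsg.Agent.S5993
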