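import Cfsg.Statements.S5994
import Cfsg.Agent.Lib.Maximal99.UnipFix

set_option autoImplicit false
open scoped MatrixGroups
open Cfsg

namespace Cfsg.Agent.S5994

/-- A necessary condition for every element of order p of PΩ⁻_n(q), q odd, to fix an elliptic `m`-space. Here `T = PΩ⁻_n(F)`, `n = 2d ≥ 8`, realised through `Ω⁻_n(q)`, the commutator subgroup of the isometry group of `Q = Σ_{i<d−1} xᵢyᵢ + z₁² + a z₁z₂ + b z₂²` with `z₁² + a z₁z₂ + b z₂²` anisotropic, over the field `F` with `q` elements; an element of `T` of prime order `r` is an element `x` of `Ω⁻_n(q)` with `x^r` scalar and `x` not scalar; `q` is odd; a nondegenerate `m`-space (even `m`) is a subspace on which the polar form of `Q` is nondegenerate; it is hyperbolic if it contains an `m/2`-dimensional subspace on which `Q` vanishes, elliptic otherwise. Let `m` be even with `2 ≤ m ≤ n − 2` and suppose `p` divides the number of elliptic `m`-spaces. If every element of `T` of order `p` fixes some elliptic `m`-space,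 then `n ≡ m (mod 4)` and every partition of `n` into parts of size at most `p` in which every even part has even multiplicity contains (as a sub-multiset) a partition of `m` in which every even part has even multiplicity. -/
theorem result {F : Type*} [Field F] [Fintype F] {p : ℕ} [Fact p.Prime] [CharP F p] {q : ℕ} (hq : Fintype.card F = q) (hqodd : Odd q)
    (d m : ℕ) (hd : 4 ≤ d) (hm : 2 ≤ m) (hme : Even m) (hmn : m + 2 ≤ 2 * d) (a b : F) (hab : ∀ x y : F, x ^ 2 + a * x * y + b * y ^ 2 = 0 → x = 0 ∧ y = 0)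
    (hpΩ : p ∣ Nat.card {W : Submodule F ((Fin (d - 1) ⊕ Fin (d - 1)) ⊕ Fin 2 → F) // Module.finrank F ↥W = m ∧ Cfsg.Geo.IsNondegenerateOn (QuadraticMap.polar (Cfsg.quadFormMinus (d - 1) F a b)) W ∧ ¬ Cfsg.Geo.IsPlusTypeOn (Cfsg.quadFormMinus (d - 1) F a b) W}) :
    (∀ x : GL ((Fin (d - 1) ⊕ Fin (d - 1)) ⊕ Fin 2) F, x ∈ Cfsg.Geo.omegaGL (Cfsg.quadFormMinus (d - 1) F a b) →
      (∃ z : F, ((x ^ p : GL ((Fin (d - 1) ⊕ Fin (d - 1)) ⊕ Fin 2) F) : Matrix ((Fin (d - 1) ⊕ Fin (d - 1)) ⊕ Fin 2) ((Fin (d - 1) ⊕ Fin (d - 1)) ⊕ Fin 2) F) = z • (1 : Matrix ((Fin (d - 1) ⊕ Fin (d - 1)) ⊕ Fin 2) ((Fin (d - 1) ⊕ Fin (d - 1)) ⊕ Fin 2) F)) →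
      (∀ z : F, (x : Matrix ((Fin (d - 1) ⊕ Fin (d - 1)) ⊕ Fin 2) ((Fin (d - 1) ⊕ Fin (d - 1)) ⊕ Fin 2) F) ≠ z • (1 : Matrix ((Fin (d - 1) ⊕ Fin (d - 1)) ⊕ Fin 2) ((Fin (d - 1) ⊕ Fin (d - 1)) ⊕ Fin 2) F)) →
      ∃ W : Submodule F ((Fin (d - 1) ⊕ Fin (d - 1)) ⊕ Fin 2 → F), (Module.finrank F ↥W = m ∧ Cfsg.Geo.IsNondegenerateOn (QuadraticMap.polar (Cfsg.quadFormMinus (d - 1) F a b)) W ∧ ¬ Cfsg.Geo.IsPlusTypeOn (Cfsg.quadFormMinus (d - 1) F a b) W) ∧ W.map (Matrix.toLin' (x : Matrix ((Fin (d - 1) ⊕ Fin (d - 1)) ⊕ Fin 2) ((Fin (d - 1) ⊕ Fin (d - 1)) ⊕ Fin 2) F)) ≤ W) →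
    ((2 * d) % 4 = m % 4 ∧ (∀ μ : Multiset ℕ, (∀ e ∈ μ, 0 < e ∧ e ≤ p) → (∀ e : ℕ, Even e → Even (μ.count e)) → μ.sum = 2 * d →
        ∃ ν : Multiset ℕ, ν ≤ μ ∧ ν.sum = m ∧ ∀ e : ℕ, Even e → Even (ν.count e))) := by
  intro h
  have hp2 : p ≠ 2 := by
    rintro rfl
    obtain ⟨n, -, hn⟩ := FiniteField.card F 2
    rw [← hq, hn, Nat.odd_pow_iff n.ne_zero] at hqodd
    exact absurd hqodd (by decide)
  have h2 : (2 : F) ≠ 0 := by
    intro h2
    exact hp2 ((Nat.prime_dvd_prime_iff_eq Fact.out Nat.prime_two).1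
      ((CharP.cast_eq_zero_iff F p 2).1 (by exact_mod_cast h2)))
  have hp3 : 3 ≤ p := by
    have := (Fact.out : p.Prime).two_le
    omega
  have hQ := CfsgLib.OrthUnipotent.minus_nondeg (d - 1) a b h2 hab
  have hcard : Fintype.card ((Fin (d - 1) ⊕ Fin (d - 1)) ⊕ Fin 2) = 2 * d := by
    simp only [Fintype.card_sum, Fintype.card_fin]
    omega
  have key : ∀ μ : Multiset ℕ, (∀ e ∈ μ, 0 < e ∧ e ≤ p) → (∀ e : ℕ, Even e → Even (μ.count e)) → μ.sum = 2 * d →
      ∃ ν : Multiset ℕ, ν ≤ μ ∧ ν.sum = m ∧ ∀ e : ℕ, Even e → Even (ν.count e) := by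
    intro μ hμ hev hsum
    refine CfsgLib.UnipFix.partition_splits hp2 hQ hme (by omega) (by omega) (fun x hx _ hxs hxn => ?_)
      μ hμ hev (by omega)
    obtain ⟨W, ⟨hWd, hWn, -⟩, hWx⟩ := h x hx hxs hxn
    exact ⟨W, hWd, hWn, hWx⟩
  refine ⟨?_, key⟩
  rw [Nat.even_iff] at hme
  by_contra hne
  rcases Nat.even_or_odd d with hd' | hd'
  · -- `m ≡ 2 (mod 4)` and the partition 3 + 1 + 2 + ⋯ + 2
    obtain ⟨w, rfl⟩ := hd'
    obtain ⟨ν, hν, hνs, hνe⟩ := key (3 ::ₘ 1 ::ₘ Multiset.replicate (2 * w - 2) 2) (by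
        intro e he
        simp only [Multiset.mem_cons] at he
        rcases he with rfl | rfl | he
        · omega
        · omega
        · rw [Multiset.eq_of_mem_replicate he]; omega)
      (fun e he => by
        rw [Multiset.count_cons_of_ne (by rintro rfl; simp [Nat.even_iff] at he),
          Multiset.count_cons_of_ne (by rintro rfl; simp [Nat.even_iff] at he), Multiset.count_replicate]
        split
        · exact ⟨w - 1, by omega⟩
        · exact Even.zero)
      (by simp only [Multiset.sum_cons, Multiset.sum_replicate, smul_eq_mul]; omega)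
    have h1 : ν.count 1 ≤ 1 := (Multiset.count_le_of_le 1 hν).trans (by simp [Multiset.count_replicate])
    have h3 : ν.count 3 ≤ 1 := (Multiset.count_le_of_le 3 hν).trans (by simp [Multiset.count_replicate])
    have hs : ν.sum = ν.count 1 + 2 * ν.count 2 + 3 * ν.count 3 := by
      rw [Finset.sum_multiset_count_of_subset ν {1, 2, 3} (fun e he => by
        have := Multiset.mem_of_le hν (Multiset.mem_toFinset.1 he)
        simp only [Multiset.mem_cons] at this
        simp only [Finset.mem_insert, Finset.mem_singleton]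
        rcases this with rfl | rfl | this
        · simp
        · simp
        · simp [Multiset.eq_of_mem_replicate this])]
      simp
      omega
    obtain ⟨u, hu⟩ := hνe 2 even_two
    rcases Nat.le_one_iff_eq_zero_or_eq_one.1 h1 with e1 | e1 <;> rcases Nat.le_one_iff_eq_zero_or_eq_one.1 h3 with e3 | e3 <;> omega
  · -- `m ≡ 0 (mod 4)` and the partition 2 + ⋯ + 2 + 1 + 1 in minus type
    obtain ⟨w, rfl⟩ := hd'
    obtain ⟨x, hx, -, hxs, hxn, hW⟩ := CfsgLib.UnipFix.exists_element hp2 hQ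
      (μ := 1 ::ₘ 1 ::ₘ Multiset.replicate (2 * w) 2) (by
        intro e he
        simp only [Multiset.mem_cons] at he
        rcases he with rfl | rfl | he
        · omega
        · omega
        · rw [Multiset.eq_of_mem_replicate he]; omega)
      (fun e he => by
        rw [Multiset.count_cons_of_ne (by rintro rfl; simp [Nat.even_iff] at he),
          Multiset.count_cons_of_ne (by rintro rfl; simp [Nat.even_iff] at he), Multiset.count_replicate]
        split
        · exact ⟨w, by omega⟩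
        · exact Even.zero)
      ⟨1, by simp, odd_one⟩
      (by simp only [Multiset.sum_cons, Multiset.sum_replicate, smul_eq_mul]; omega)
      ⟨2, by simp [Multiset.mem_replicate]; omega, by omega⟩
    obtain ⟨W, ⟨hWd, hWn, hWp⟩, hWx⟩ := h x hx hxs hxn
    obtain ⟨ν, hν, hνs, hνe, hν2⟩ := hW W hWn hWx
    rw [hWd] at hνs
    refine hWp (hν2 fun e he => ?_)
    have h1 : ν.count 1 ≤ 2 := (Multiset.count_le_of_le 1 hν).trans (by simp [Multiset.count_replicate])
    have hs : ν.sum = ν.count 1 + 2 * ν.count 2 := by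
      rw [Finset.sum_multiset_count_of_subset ν {1, 2} (fun e he => by
        have := Multiset.mem_of_le hν (Multiset.mem_toFinset.1 he)
        simp only [Multiset.mem_cons] at this
        simp only [Finset.mem_insert, Finset.mem_singleton]
        rcases this with rfl | rfl | this
        · simp
        · simp
        · simp [Multiset.eq_of_mem_replicate this])]
      simp
      omega
    obtain ⟨u, hu⟩ := hνe 2 even_two
    have hmem := Multiset.mem_of_le hν he
    simp only [Multiset.mem_cons] at hmem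
    have hpos := Multiset.count_pos.2 he
    rcases hmem with rfl | rfl | hmem
    · omega
    · omega
    · exact Multiset.eq_of_mem_replicate hmem

end Cfsg.Agent.S5994
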