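import Cfsg.Statements.S5995
import Cfsg.Agent.Lib.Maximal99.UnipFix

set_option autoImplicit false
open scoped MatrixGroups
open Cfsg

namespace Cfsg.Agent.S5995

/-- A necessary condition for every element of order p of Ω_n(q), nq odd, to fix a hyperbolic `m`-space. Here `T = Ω_n(F)`, `n = 2d+1 ≥ 7`, `q` odd, realised as the commutator subgroup of the isometry group of `Q = x₀² + Σ xᵢyᵢ` over the field `F` with `q` elements (trivial centre, so its elements of prime order `r` are used directly); a nondegenerate `m`-space (even `m`) is a subspace on which the polar form of `Q` is nondegenerate; it is hyperbolic if it contains an `m/2`-dimensional subspace on which `Q` vanishes, elliptic otherwise. Let `m` be even with `2 ≤ m ≤ n − 1` and suppose `p` divides the number of hyperbolic `m`-spaces. If every element of `T` of order `p` fixes some hyperbolic `m`-space, then `m ≡ 0 (mod 4)` and every partition of `n` into parts of size at most `p` in which every even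 part has even multiplicity contains (as a sub-multiset) a partition of `m` in which every even part has even multiplicity. -/
theorem result {F : Type*} [Field F] [Fintype F] {p : ℕ} [Fact p.Prime] [CharP F p] {q : ℕ} (hq : Fintype.card F = q) (hqodd : Odd q)
    (d m : ℕ) (hd : 3 ≤ d) (hm : 2 ≤ m) (hme : Even m) (hmn : m ≤ 2 * d)
    (hpΩ : p ∣ Nat.card {W : Submodule F (Unit ⊕ (Fin d ⊕ Fin d) → F) // Module.finrank F ↥W = m ∧ Cfsg.Geo.IsNondegenerateOn (QuadraticMap.polar (Cfsg.quadFormOdd d F)) W ∧ Cfsg.Geo.IsPlusTypeOn (Cfsg.quadFormOdd d F) W}) :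
    (∀ x : GL (Unit ⊕ (Fin d ⊕ Fin d)) F, x ∈ Cfsg.Geo.omegaGL (Cfsg.quadFormOdd d F) → orderOf x = p →
      ∃ W : Submodule F (Unit ⊕ (Fin d ⊕ Fin d) → F), (Module.finrank F ↥W = m ∧ Cfsg.Geo.IsNondegenerateOn (QuadraticMap.polar (Cfsg.quadFormOdd d F)) W ∧ Cfsg.Geo.IsPlusTypeOn (Cfsg.quadFormOdd d F) W) ∧ W.map (Matrix.toLin' (x : Matrix (Unit ⊕ (Fin d ⊕ Fin d)) (Unit ⊕ (Fin d ⊕ Fin d)) F)) ≤ W) →
    (m % 4 = 0 ∧ (∀ μ : Multiset ℕ, (∀ e ∈ μ, 0 < e ∧ e ≤ p) → (∀ e : ℕ, Even e → Even (μ.count e)) → μ.sum = 2 * d + 1 →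
        ∃ ν : Multiset ℕ, ν ≤ μ ∧ ν.sum = m ∧ ∀ e : ℕ, Even e → Even (ν.count e))) := by
  intro h
  have hp2 : p ≠ 2 := by
    rintro rfl
    obtain ⟨n, -, hn⟩ := FiniteField.card F 2
    rw [← hq, hn, Nat.odd_pow_iff n.ne_zero] at hqodd
    exact absurd hqodd (by decide)
  have h2 : (2 : F) ≠ 0 := by
    intro h2
    exact hp2 ((Nat.prime_dvd_prime_iff_eq Fact.out Nat.prime_two).1
      ((CharP.cast_eq_zero_iff F p 2).1 (by exact_mod_cast h2)))
  have hp3 : 3 ≤ p := by
    have := (Fact.out : p.Prime).two_le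
    omega
  have hcard : Fintype.card (Unit ⊕ (Fin d ⊕ Fin d)) = 2 * d + 1 := by
    simp only [Fintype.card_sum, Fintype.card_fin, Fintype.card_unit]
    omega
  have key : ∀ μ : Multiset ℕ, (∀ e ∈ μ, 0 < e ∧ e ≤ p) → (∀ e : ℕ, Even e → Even (μ.count e)) → μ.sum = 2 * d + 1 →
      ∃ ν : Multiset ℕ, ν ≤ μ ∧ ν.sum = m ∧ ∀ e : ℕ, Even e → Even (ν.count e) := by
    intro μ hμ hev hsum
    refine CfsgLib.UnipFix.partition_splits hp2 (CfsgLib.OrthUnipotent.odd_nondeg d h2) hme
      (by omega) (by omega) (fun x hx hxo _ _ => ?_) μ hμ hev (by omega)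
    obtain ⟨W, ⟨hWd, hWn, -⟩, hWx⟩ := h x hx hxo
    exact ⟨W, hWd, hWn, hWx⟩
  refine ⟨?_, key⟩
  obtain ⟨o, c, ho, hc, hs⟩ : ∃ o c : ℕ, (o = 1 ∨ o = 3) ∧ Even c ∧ 2 * c + o = 2 * d + 1 := by
    rcases Nat.even_or_odd d with hd' | hd'
    · exact ⟨1, d, Or.inl rfl, hd', by omega⟩
    · exact ⟨3, d - 1, Or.inr rfl, by obtain ⟨w, rfl⟩ := hd'; exact ⟨w, by omega⟩, by omega⟩
  obtain ⟨ν, hν, hνs, hνe⟩ := key (o ::ₘ Multiset.replicate c 2) (by
      intro e he
      rcases Multiset.mem_cons.1 he with rfl | he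
      · omega
      · rw [Multiset.eq_of_mem_replicate he]; omega)
    (fun e he => by
      rw [Multiset.count_cons_of_ne (by rintro rfl; rcases ho with rfl | rfl <;> simp [Nat.even_iff] at he),
        Multiset.count_replicate]
      split
      · exact hc
      · exact Even.zero)
    (by simp only [Multiset.sum_cons, Multiset.sum_replicate, smul_eq_mul]; omega)
  by_cases hmem : o ∈ ν
  · obtain ⟨ρ, rfl⟩ := Multiset.exists_cons_of_mem hmem
    have hρ := (Multiset.cons_le_cons_iff o).1 hν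
    rw [Multiset.le_replicate_iff] at hρ
    obtain ⟨k, -, rfl⟩ := hρ
    simp only [Multiset.sum_cons, Multiset.sum_replicate, smul_eq_mul] at hνs
    rw [Nat.even_iff] at hme
    omega
  · obtain ⟨k, -, rfl⟩ := Multiset.le_replicate_iff.1 ((Multiset.le_cons_of_notMem hmem).1 hν)
    have h2e := hνe 2 even_two
    rw [Multiset.count_replicate_self] at h2e
    rw [Multiset.sum_replicate, smul_eq_mul] at hνs
    obtain ⟨w, rfl⟩ := h2e
    omega

end Cfsg.Agent.S5995
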