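import Cfsg.Statements.S5997
import Cfsg.Agent.Lib.QuadFin.Gram
-- import your own Cfsg.Agent.* helpers here

set_option autoImplicit false
open scoped MatrixGroups
open Cfsg

namespace Cfsg.Agent.S5997

open Matrix

variable {F : Type*} [Field F]

/-- Cayley-Hamilton for a quadratic relation of a non-scalar `2 × 2` matrix. -/
lemma trace_det (M : Matrix (Fin 2) (Fin 2) F) (hns : ∀ z : F, M ≠ z • (1 : Matrix (Fin 2) (Fin 2) F)) (s d : F)
    (h : M * M = s • M + d • (1 : Matrix (Fin 2) (Fin 2) F)) : M 0 0 + M 1 1 = s ∧ M.det = -d := by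
  have CH : M * M = (M 0 0 + M 1 1) • M - M.det • (1 : Matrix (Fin 2) (Fin 2) F) := by
    ext i j
    fin_cases i <;> fin_cases j <;> simp [Matrix.mul_apply, Fin.sum_univ_two, Matrix.det_fin_two] <;> ring
  rw [h] at CH
  have e : (M 0 0 + M 1 1 - s) • M = (d + M.det) • (1 : Matrix (Fin 2) (Fin 2) F) := by
    rw [sub_smul, add_smul d]
    linear_combination (norm := module) (-1 : F) • CH
  have ht : M 0 0 + M 1 1 = s := by
    by_contra hne
    refine hns ((M 0 0 + M 1 1 - s)⁻¹ * (d + M.det)) ?_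
    rw [← smul_smul, ← e, inv_smul_smul₀ (sub_ne_zero.2 hne)]
  refine ⟨ht, ?_⟩
  rw [ht, sub_self, zero_smul] at e
  have := congrFun (congrFun e 0) 0
  simp at this
  linear_combination -this

lemma exists_cyclic_vec (M : Matrix (Fin 2) (Fin 2) F) (hns : ∀ z : F, M ≠ z • (1 : Matrix (Fin 2) (Fin 2) F)) :
    ∃ v : Fin 2 → F, !![v 0, (M *ᵥ v) 0; v 1, (M *ᵥ v) 1].det ≠ 0 := by
  by_contra h
  push Not at h
  have h0 := h ![1, 0]
  have h1 := h ![0, 1]
  have h2 := h ![1, 1]
  simp [Matrix.det_fin_two_of, Matrix.mulVec, dotProduct, Fin.sum_univ_two] at h0 h1 h2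
  refine hns (M 0 0) ?_
  ext i j
  fin_cases i <;> fin_cases j <;> simp [h0, h1]
  linear_combination h2 - h0 + h1

/-- Non-scalar elements with the same quadratic relation are conjugate by an element of determinant 1. -/
lemma exists_conj [Fintype F] (h2 : (2 : F) ≠ 0) (x M : Matrix (Fin 2) (Fin 2) F) (s d : F)
    (hx0 : ∀ z : F, x ≠ z • (1 : Matrix (Fin 2) (Fin 2) F)) (hM0 : ∀ z : F, M ≠ z • (1 : Matrix (Fin 2) (Fin 2) F))
    (hx : x * x = s • x + d • (1 : Matrix (Fin 2) (Fin 2) F)) (hM : M * M = s • M + d • (1 : Matrix (Fin 2) (Fin 2) F))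
    (hΔ : s * s + 4 * d ≠ 0) :
    ∃ P : Matrix (Fin 2) (Fin 2) F, P.det = 1 ∧ x * P = P * M := by
  have key : ∀ A : Matrix (Fin 2) (Fin 2) F, A * A = s • A + d • (1 : Matrix (Fin 2) (Fin 2) F) →
      ∀ v : Fin 2 → F, A * !![v 0, (A *ᵥ v) 0; v 1, (A *ᵥ v) 1] =
        !![v 0, (A *ᵥ v) 0; v 1, (A *ᵥ v) 1] * !![0, d; 1, s] := by
    intro A hA v
    have e := congrArg (· *ᵥ v) hA
    simp only [← Matrix.mulVec_mulVec, Matrix.add_mulVec, Matrix.smul_mulVec, Matrix.one_mulVec] at e
    have e0 := congrFun e 0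
    have e1 := congrFun e 1
    simp [Matrix.mulVec, dotProduct, Fin.sum_univ_two] at e0 e1
    ext i j
    fin_cases i <;> fin_cases j <;> simp [Matrix.mul_apply, Fin.sum_univ_two, Matrix.mulVec, dotProduct] <;>
      first | linear_combination e0 | linear_combination e1
  obtain ⟨v, hv⟩ := exists_cyclic_vec x hx0
  obtain ⟨w, hw⟩ := exists_cyclic_vec M hM0
  set A := !![v 0, (x *ᵥ v) 0; v 1, (x *ᵥ v) 1]
  set B := !![w 0, (M *ᵥ w) 0; w 1, (M *ᵥ w) 1]
  have hA : x * A = A * !![0, d; 1, s] := key x hx v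
  have hB : M * B = B * !![0, d; 1, s] := key M hM w
  have hBu : IsUnit B.det := isUnit_iff_ne_zero.2 hw
  set P₀ := A * B⁻¹
  have hP₀ : x * P₀ = P₀ * M := by
    show x * (A * B⁻¹) = A * B⁻¹ * M
    have e : B⁻¹ * M = !![0, d; 1, s] * B⁻¹ := by
      calc B⁻¹ * M = B⁻¹ * (M * (B * B⁻¹)) := by rw [Matrix.mul_nonsing_inv B hBu, mul_one]
        _ = B⁻¹ * (B * !![0, d; 1, s]) * B⁻¹ := by rw [← hB]; simp only [mul_assoc]
        _ = _ := by rw [← mul_assoc B⁻¹ B, Matrix.nonsing_inv_mul B hBu, one_mul]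
    rw [← mul_assoc, hA, mul_assoc, mul_assoc, e]
  have hd0 : P₀.det ≠ 0 := by
    rw [Matrix.det_mul]
    refine mul_ne_zero hv ?_
    rw [Matrix.det_nonsing_inv, Ring.inverse_eq_inv']
    exact inv_ne_zero hw
  have h4 : (4 : F) ≠ 0 := by
    rw [show (4 : F) = 2 * 2 by norm_num]; exact mul_ne_zero h2 h2
  obtain ⟨a, β, hab⟩ := CfsgLib.QuadFin.exists_eq_one h2 P₀.det (-(s * s + 4 * d) / 4 * P₀.det) hd0
    (mul_ne_zero (div_ne_zero (neg_ne_zero.2 hΔ) h4) hd0)
  set α := a - s * β / 2 with hα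
  obtain ⟨ht, hdet⟩ := trace_det x hx0 s d hx
  rw [Matrix.det_fin_two] at hdet
  refine ⟨(α • 1 + β • x) * P₀, ?_, ?_⟩
  · have e : (α • (1 : Matrix (Fin 2) (Fin 2) F) + β • x).det = α * α + α * β * s - β * β * d := by
      rw [Matrix.det_fin_two]
      simp
      linear_combination (α * β) * ht + (β * β) * hdet
    rw [Matrix.det_mul, e, ← hab, hα]
    field_simp
    ring
  · rw [← mul_assoc, mul_add, Matrix.mul_smul, Matrix.mul_smul, mul_one, add_mul, Matrix.smul_mul, Matrix.smul_mul,
      mul_assoc, hP₀, add_mul (α • (1 : Matrix (Fin 2) (Fin 2) F)), Matrix.smul_mul, Matrix.smul_mul, one_mul,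
      add_mul, Matrix.smul_mul, Matrix.smul_mul, mul_assoc x P₀ M]

/-- The commutant of a non-scalar `2 × 2` matrix. -/
lemma commutant (T S : Matrix (Fin 2) (Fin 2) F) (hns : ∀ z : F, T ≠ z • (1 : Matrix (Fin 2) (Fin 2) F))
    (h : S * T = T * S) : ∃ α β : F, S = α • (1 : Matrix (Fin 2) (Fin 2) F) + β • T := by
  obtain ⟨v, hv⟩ := exists_cyclic_vec T hns
  set A := !![v 0, (T *ᵥ v) 0; v 1, (T *ᵥ v) 1] with hA
  have hu : IsUnit A.det := isUnit_iff_ne_zero.2 hv
  set c := A⁻¹ *ᵥ (S *ᵥ v) with hc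
  have hS : S *ᵥ v = c 0 • v + c 1 • (T *ᵥ v) := by
    have e : S *ᵥ v = A *ᵥ c := by rw [hc, Matrix.mulVec_mulVec, Matrix.mul_nonsing_inv A hu, Matrix.one_mulVec]
    rw [e]
    funext i
    fin_cases i <;> simp [hA, Matrix.mulVec, dotProduct, Fin.sum_univ_two] <;> ring
  refine ⟨c 0, c 1, ?_⟩
  set D := S - (c 0 • (1 : Matrix (Fin 2) (Fin 2) F) + c 1 • T) with hD
  have h0 : D *ᵥ v = 0 := by
    rw [hD, Matrix.sub_mulVec, Matrix.add_mulVec, Matrix.smul_mulVec, Matrix.smul_mulVec, Matrix.one_mulVec, hS, sub_self]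
  have h1 : D *ᵥ (T *ᵥ v) = 0 := by
    have : D * T = T * D := by
      rw [hD, sub_mul, mul_sub, h, add_mul, mul_add, Matrix.smul_mul, Matrix.mul_smul, Matrix.smul_mul, Matrix.mul_smul,
        one_mul, mul_one]
    rw [Matrix.mulVec_mulVec, this, ← Matrix.mulVec_mulVec, h0, Matrix.mulVec_zero]
  have hDA : D * A = 0 := by
    ext i j
    have a0 := congrFun h0 i
    have a1 := congrFun h1 i
    fin_cases j <;> fin_cases i <;> simp [hA, Matrix.mul_apply, Matrix.mulVec, dotProduct, Fin.sum_univ_two] at a0 a1 ⊢ <;>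
      assumption
  have : D = 0 := by
    rw [← mul_one D, ← Matrix.mul_nonsing_inv A hu, ← mul_assoc, hDA, zero_mul]
  exact sub_eq_zero.1 this


/-- Elements of prime order of PSL_2(p) and the normalizer of a quaternion subgroup. Here `T = PSL_2(F)` for the field `F` with `p` elements, `p ≥ 5` prime; `R` is a subgroup of GL_2(F) isomorphic to the quaternion group of order 8 (an absolutely irreducible 2-group of symplectic type), and `H` is the subgroup of matrices of determinant 1 normalizing `R` — a subgroup of type 2^{1+2}.O₂⁻(2), isomorphic modulo scalars to A₄ or S₄ (maximality is not assumed). Ω is the set of cosets of `H` in `T`, so an element of `T` of prime order `r` (a matrix `x` of determinant 1 with `x^r` scalar, `x` not scalar) fixes a point of Ω exactly when some conjugate of `x` by a matrix of determinant 1 normalizes `R`. Let `r` be a prime dividing the index of `H`. Then every element of `T` of order `r` fixes a point of Ω if and only if `r = 2` or `r = 3`. -/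
theorem result {F : Type*} [Field F] [Fintype F] {p : ℕ} [Fact p.Prime] [CharP F p] (hF : Fintype.card F = p) (hp : 5 ≤ p)
    (R : Subgroup (GL (Fin 2) F)) (hR : Nonempty (↥R ≃* QuaternionGroup 2))
    (r : ℕ) [Fact r.Prime]
    (hΩ : r ∣ (Cfsg.Geo.subgroupNormalizer R).relIndex (Cfsg.Geo.specialLinear (Fin 2) F)) :
    (∀ x ∈ Cfsg.Geo.specialLinear (Fin 2) F, (∃ z : F, ((x ^ r : GL (Fin 2) F) : Matrix (Fin 2) (Fin 2) F) = z • (1 : Matrix (Fin 2) (Fin 2) F)) →
      (∀ z : F, (x : Matrix (Fin 2) (Fin 2) F) ≠ z • (1 : Matrix (Fin 2) (Fin 2) F)) →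
      ∃ g ∈ Cfsg.Geo.specialLinear (Fin 2) F, g⁻¹ * x * g ∈ Cfsg.Geo.subgroupNormalizer R) ↔ (r = 2 ∨ r = 3) := by
  classical
  obtain ⟨φ⟩ := hR
  have h2 : (2 : F) ≠ 0 := by
    intro h2
    have h' : ((2 : ℕ) : F) = 0 := by exact_mod_cast h2
    rw [CharP.cast_eq_zero_iff F p] at h'
    have := Nat.le_of_dvd two_pos h'
    omega
  have h3 : (3 : F) ≠ 0 := by
    intro h3
    have h' : ((3 : ℕ) : F) = 0 := by exact_mod_cast h3
    rw [CharP.cast_eq_zero_iff F p] at h'
    have := Nat.le_of_dvd (by norm_num) h'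
    omega
  let val : QuaternionGroup 2 → Matrix (Fin 2) (Fin 2) F := fun w => ((φ.symm w : GL (Fin 2) F) : Matrix (Fin 2) (Fin 2) F)
  have vmul : ∀ a b, val (a * b) = val a * val b := fun a b => by
    simp [val, map_mul]
  have vone : val 1 = 1 := by simp [val]
  have vinj : ∀ a b, val a = val b → a = b := fun a b h => φ.symm.injective (Subtype.ext (Units.ext h))
  set I := val (.a 1) with hI
  set J := val (.xa 0) with hJ
  set C := val (.a 2) with hC
  have hIJne : I * J ≠ J * I := fun h => by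
    rw [hI, hJ, ← vmul, ← vmul] at h
    exact absurd (vinj _ _ h) (by decide)
  have scal_comm : ∀ (z : F) (X : Matrix (Fin 2) (Fin 2) F), (z • (1 : Matrix (Fin 2) (Fin 2) F)) * X = X * (z • (1 : Matrix (Fin 2) (Fin 2) F)) := fun z X => by
    rw [Matrix.smul_mul, Matrix.mul_smul, one_mul, mul_one]
  have hC1 : C = (-1 : F) • (1 : Matrix (Fin 2) (Fin 2) F) := by
    by_cases hs : ∀ z : F, C ≠ z • (1 : Matrix (Fin 2) (Fin 2) F)
    · obtain ⟨a, b, hab⟩ := commutant C I hs (by rw [hI, hC, ← vmul, ← vmul]; exact congrArg val (by decide))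
      obtain ⟨a', b', hab'⟩ := commutant C J hs (by rw [hJ, hC, ← vmul, ← vmul]; exact congrArg val (by decide))
      exfalso
      refine hIJne ?_
      rw [hab, hab']
      simp only [add_mul, mul_add, Matrix.smul_mul, Matrix.mul_smul, one_mul, mul_one, smul_smul, smul_add]
      module
    · push Not at hs
      obtain ⟨z, hz⟩ := hs
      have hzz : z * z = 1 := by
        have e : C * C = 1 := by rw [hC, ← vmul, ← vone]; exact congrArg val (by decide)
        rw [hz, Matrix.smul_mul, Matrix.mul_smul, one_mul, smul_smul] at e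
        simpa using congrFun (congrFun e 0) 0
      rcases mul_self_eq_one_iff.1 hzz with h | h
      · exfalso
        subst h
        rw [one_smul, hC, ← vone] at hz
        exact absurd (vinj _ _ hz) (by decide)
      · rw [hz, h]
  have hII : I * I = -1 := by
    rw [hI, ← vmul, show val (QuaternionGroup.a 1 * QuaternionGroup.a 1) = C from congrArg val (by decide), hC1, neg_smul,
      one_smul]
  have hJJ : J * J = -1 := by
    rw [hJ, ← vmul, show val (QuaternionGroup.xa 0 * QuaternionGroup.xa 0) = C from congrArg val (by decide), hC1,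
      neg_smul, one_smul]
  have hJI : J * I = -(I * J) := by
    rw [hI, hJ, ← vmul, show val (QuaternionGroup.xa 0 * QuaternionGroup.a 1) =
      val (QuaternionGroup.a 2 * (QuaternionGroup.a 1 * QuaternionGroup.xa 0)) from congrArg val (by decide),
      vmul, vmul, ← hC, hC1, Matrix.smul_mul, one_mul, neg_smul, one_smul]
  have hI0 : ∀ z : F, I ≠ z • (1 : Matrix (Fin 2) (Fin 2) F) := fun z h => hIJne (by rw [h, scal_comm])
  have hmemR : ∀ w, (φ.symm w : GL (Fin 2) F) ∈ R := fun w => (φ.symm w).2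
  have hcover : ∀ g ∈ R, ∃ w, (φ.symm w : GL (Fin 2) F) = g := fun g hg => ⟨φ ⟨g, hg⟩, by simp⟩
  -- membership in the normaliser
  have hnorm : ∀ g : GL (Fin 2) F, (∀ w, ∃ w', (g : Matrix (Fin 2) (Fin 2) F) * val w = val w' * (g : Matrix (Fin 2) (Fin 2) F)) →
      g ∈ Cfsg.Geo.subgroupNormalizer R := by
    intro g hg
    have : Finite R := Finite.of_equiv _ φ.symm.toEquiv
    have hle : ∀ h ∈ R, g * h * g⁻¹ ∈ R := by
      intro h hh
      obtain ⟨w, rfl⟩ := hcover h hh
      obtain ⟨w', hw'⟩ := hg w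
      rw [show g * (φ.symm w : GL (Fin 2) F) = (φ.symm w' : GL (Fin 2) F) * g from Units.ext hw', mul_assoc,
        mul_inv_cancel, mul_one]
      exact hmemR w'
    let c : R → R := fun h => ⟨g * h * g⁻¹, hle h h.2⟩
    have hc : Function.Injective c := fun a b h => by
      have := congrArg Subtype.val h
      simpa [c] using this
    refine Subgroup.mem_normalizer_iff.2 fun h => ⟨hle h, fun hh => ?_⟩
    obtain ⟨b, hb⟩ := Finite.surjective_of_injective hc ⟨_, hh⟩
    have := congrArg Subtype.val hb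
    have e : (b : GL (Fin 2) F) = h := by simpa [c] using this
    exact e ▸ b.2
  have hgen : ∀ (g : GL (Fin 2) F), (∃ a b, (g : Matrix (Fin 2) (Fin 2) F) * I = val a * (g : Matrix (Fin 2) (Fin 2) F) ∧
      (g : Matrix (Fin 2) (Fin 2) F) * J = val b * (g : Matrix (Fin 2) (Fin 2) F)) → g ∈ Cfsg.Geo.subgroupNormalizer R := by
    rintro g ⟨a, b, ha, hb⟩
    refine hnorm g fun w => ?_
    have hmul : ∀ u v, (∃ u', (g : Matrix (Fin 2) (Fin 2) F) * val u = val u' * (g : Matrix (Fin 2) (Fin 2) F)) →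
        (∃ v', (g : Matrix (Fin 2) (Fin 2) F) * val v = val v' * (g : Matrix (Fin 2) (Fin 2) F)) →
        ∃ w', (g : Matrix (Fin 2) (Fin 2) F) * val (u * v) = val w' * (g : Matrix (Fin 2) (Fin 2) F) := by
      rintro u v ⟨u', hu⟩ ⟨v', hv⟩
      refine ⟨u' * v', ?_⟩
      rw [vmul, vmul, ← mul_assoc, hu, mul_assoc, hv, ← mul_assoc]
    have hpow : ∀ k : ℕ, ∃ w', (g : Matrix (Fin 2) (Fin 2) F) * val (QuaternionGroup.a 1 ^ k) = val w' * (g : Matrix (Fin 2) (Fin 2) F) := by
      intro k
      induction k with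
      | zero => exact ⟨1, by rw [pow_zero, vone, mul_one, one_mul]⟩
      | succ k ih => rw [pow_succ]; exact hmul _ _ ih ⟨a, ha⟩
    rcases w with i | i
    · rw [show (QuaternionGroup.a i : QuaternionGroup 2) = QuaternionGroup.a 1 ^ i.val by revert i; decide]
      exact hpow _
    · rw [show (QuaternionGroup.xa i : QuaternionGroup 2) = QuaternionGroup.xa 0 * QuaternionGroup.a 1 ^ i.val by
        revert i; decide]
      exact hmul _ _ ⟨b, hb⟩ (hpow _)
  -- conjugation into the normaliser
  have fin : ∀ (x : GL (Fin 2) F) (M : Matrix (Fin 2) (Fin 2) F), M.det = 1 →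
      (∃ P : Matrix (Fin 2) (Fin 2) F, P.det = 1 ∧ (x : Matrix (Fin 2) (Fin 2) F) * P = P * M) →
      (∃ a b, M * I = val a * M ∧ M * J = val b * M) →
      ∃ g ∈ Cfsg.Geo.specialLinear (Fin 2) F, g⁻¹ * x * g ∈ Cfsg.Geo.subgroupNormalizer R := by
    rintro x M hM ⟨P, hP, hxP⟩ hab
    let g : GL (Fin 2) F := Matrix.GeneralLinearGroup.mkOfDetNeZero P (by rw [hP]; exact one_ne_zero)
    refine ⟨g, Units.ext hP, hgen _ ?_⟩
    have e : ((g⁻¹ * x * g : GL (Fin 2) F) : Matrix (Fin 2) (Fin 2) F) = M := by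
      rw [Units.val_mul, Units.val_mul, mul_assoc]
      rw [show (x : Matrix (Fin 2) (Fin 2) F) * (g : Matrix (Fin 2) (Fin 2) F) = (g : Matrix (Fin 2) (Fin 2) F) * M from hxP,
        ← mul_assoc, ← Units.val_mul, inv_mul_cancel, Units.val_one, one_mul]
    rw [e]
    exact hab
  constructor
  · intro hall
    by_contra hcon
    push Not at hcon
    obtain ⟨hr2, hr3⟩ := hcon
    have hr5 : 5 ≤ r := by
      have := (Fact.out : r.Prime).two_le
      by_contra hlt
      have : r = 4 := by omega
      subst this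
      exact absurd (Fact.out : Nat.Prime 4) (by norm_num)
    obtain ⟨x, hx⟩ := exists_prime_orderOf_dvd_card' (G := ↥(Cfsg.Geo.specialLinear (Fin 2) F)) r
      (hΩ.trans (Subgroup.relIndex_dvd_card _ _))
    have hxr : (x : GL (Fin 2) F) ^ r = 1 := by
      rw [← Subgroup.coe_pow, ← hx, pow_orderOf_eq_one, Subgroup.coe_one]
    have hns : ∀ z : F, ((x : GL (Fin 2) F) : Matrix (Fin 2) (Fin 2) F) ≠ z • (1 : Matrix (Fin 2) (Fin 2) F) := by
      intro z hz
      have hd : (((x : GL (Fin 2) F) : Matrix (Fin 2) (Fin 2) F)).det = 1 := congrArg Units.val x.2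
      rw [hz, Matrix.det_smul, Matrix.det_one, mul_one, Fintype.card_fin] at hd
      have h2' : (x : GL (Fin 2) F) ^ 2 = 1 := Units.ext (by
        rw [Units.val_pow_eq_pow_val, hz, smul_pow, one_pow, hd, one_smul]; rfl)
      have := orderOf_dvd_of_pow_eq_one (Subtype.ext (by rw [Subgroup.coe_pow, h2']; rfl) : x ^ 2 = 1)
      rw [hx] at this
      have := Nat.le_of_dvd two_pos this
      omega
    obtain ⟨g, hg, hgn⟩ := hall x x.2 ⟨1, by rw [hxr, Units.val_one, one_smul]⟩ hns
    set y := g⁻¹ * (x : GL (Fin 2) F) * g with hy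
    have hyr : y ^ r = 1 := by
      rw [hy, show g⁻¹ * (x : GL (Fin 2) F) * g = MulAut.conj g⁻¹ (x : GL (Fin 2) F) by simp [MulAut.conj_apply],
        ← map_pow, hxr, map_one]
    have hmem := Subgroup.mem_normalizer_iff.1 hgn
    -- conjugation by `y` on the eight elements
    have : Finite R := Finite.of_equiv _ φ.symm.toEquiv
    let e : Equiv.Perm R :=
      { toFun := fun h => ⟨y * h * y⁻¹, (hmem h).1 h.2⟩
        invFun := fun h => ⟨y⁻¹ * h * y, (hmem _).2 (by simpa [mul_assoc] using h.2)⟩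
        left_inv := fun h => Subtype.ext (by simp [mul_assoc])
        right_inv := fun h => Subtype.ext (by simp [mul_assoc]) }
    have he : ∀ (k : ℕ) (h : R), (((e ^ k) h : R) : GL (Fin 2) F) = y ^ k * h * (y ^ k)⁻¹ := by
      intro k
      induction k with
      | zero => intro h; simp
      | succ k ih =>
        intro h
        rw [pow_succ', Equiv.Perm.mul_apply, pow_succ', _root_.mul_inv_rev]
        show y * ((e ^ k) h : GL (Fin 2) F) * y⁻¹ = _
        rw [ih]
        simp only [mul_assoc]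
    have her : e ^ r = 1 := Equiv.ext fun h => Subtype.ext (by rw [he, hyr]; simp)
    have hG : IsPGroup r (Subgroup.zpowers e) := by
      obtain ⟨k, -, hk⟩ := (Nat.dvd_prime_pow (Fact.out : r.Prime)).1
        (show orderOf e ∣ r ^ 1 by rw [pow_one]; exact orderOf_dvd_of_pow_eq_one her)
      exact IsPGroup.of_card (n := k) (by rw [Nat.card_zpowers, hk])
    set S : Subgroup R :=
      { carrier := {h | e h = h}
        one_mem' := Subtype.ext (by show y * 1 * y⁻¹ = 1; simp)
        mul_mem' := fun {a b} ha hb => by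
          have ha' : y * (a : GL (Fin 2) F) * y⁻¹ = a := congrArg Subtype.val ha
          have hb' : y * (b : GL (Fin 2) F) * y⁻¹ = b := congrArg Subtype.val hb
          refine Subtype.ext ?_
          show y * ((a : GL (Fin 2) F) * b) * y⁻¹ = a * b
          conv_rhs => rw [← ha', ← hb']
          simp [mul_assoc]
        inv_mem' := fun {a} ha => by
          have ha' : y * (a : GL (Fin 2) F) * y⁻¹ = a := congrArg Subtype.val ha
          refine Subtype.ext ?_
          show y * (a : GL (Fin 2) F)⁻¹ * y⁻¹ = (a : GL (Fin 2) F)⁻¹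
          conv_rhs => rw [← ha']
          simp [mul_assoc] } with hS
    have hmod := hG.card_modEq_card_fixedPoints R
    have hfix : Nat.card (MulAction.fixedPoints (Subgroup.zpowers e) R) = Nat.card S := by
      refine Nat.card_congr (Equiv.subtypeEquivRight fun h => ⟨fun hh => hh ⟨e, Subgroup.mem_zpowers e⟩, fun hh g => ?_⟩)
      obtain ⟨_, k, rfl⟩ := g
      exact Equiv.Perm.zpow_apply_eq_self_of_apply_eq_self hh k
    have h8 : Nat.card R = 8 := by
      rw [Nat.card_congr φ.toEquiv, Nat.card_eq_fintype_card, QuaternionGroup.card]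
    rw [hfix, h8] at hmod
    have hS2 : 2 ≤ Nat.card S := by
      rw [Nat.succ_le_iff, Finite.one_lt_card_iff_nontrivial]
      have hc : φ.symm (QuaternionGroup.a 2) ∈ S := Subtype.ext (by
        show y * (φ.symm (QuaternionGroup.a 2) : GL (Fin 2) F) * y⁻¹ = _
        refine mul_inv_eq_iff_eq_mul.2 (Units.ext ?_)
        show (y : Matrix (Fin 2) (Fin 2) F) * C = C * (y : Matrix (Fin 2) (Fin 2) F)
        rw [hC1, scal_comm])
      refine ⟨⟨1, ⟨_, hc⟩, fun h => ?_⟩⟩
      have h' : φ.symm (QuaternionGroup.a 2) = 1 := (congrArg Subtype.val h).symm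
      rw [← map_one φ.symm] at h'
      exact absurd (φ.symm.injective h') (by decide)
    have hd := S.card_subgroup_dvd_card
    rw [h8] at hd
    have htop : S = ⊤ := by
      apply Subgroup.eq_top_of_card_eq
      rw [h8]
      by_contra hne
      have hle := Nat.le_of_dvd (by norm_num) hd
      have hdiv : r ∣ 8 - Nat.card S := (Nat.modEq_iff_dvd' hle).1 hmod.symm
      have hcases : Nat.card S = 2 ∨ Nat.card S = 4 := by
        have : Nat.card S ∈ Nat.divisors 8 := Nat.mem_divisors.2 ⟨hd, by norm_num⟩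
        rw [show Nat.divisors 8 = {1, 2, 4, 8} by decide] at this
        simp only [Finset.mem_insert, Finset.mem_singleton] at this
        omega
      rcases hcases with h | h <;> rw [h] at hdiv
      · rcases (Fact.out : r.Prime).dvd_mul.1 (show r ∣ 2 * 3 by simpa using hdiv) with h' | h'
        · have := Nat.le_of_dvd (by norm_num) h'
          omega
        · have := Nat.le_of_dvd (by norm_num) h'
          omega
      · have := Nat.le_of_dvd (by norm_num) (show r ∣ 4 by simpa using hdiv)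
        omega
    have hcomm : ∀ w, (y : Matrix (Fin 2) (Fin 2) F) * val w = val w * (y : Matrix (Fin 2) (Fin 2) F) := fun w => by
      have h' : φ.symm w ∈ S := htop ▸ Subgroup.mem_top _
      have := mul_inv_eq_iff_eq_mul.1 (congrArg Subtype.val h' : y * (φ.symm w : GL (Fin 2) F) * y⁻¹ = φ.symm w)
      exact congrArg Units.val this
    obtain ⟨α, β, hab⟩ := commutant I (y : Matrix (Fin 2) (Fin 2) F) hI0 (hcomm _)
    have hc2 := hcomm (.xa 0)
    rw [← hJ, hab] at hc2
    simp only [add_mul, mul_add, Matrix.smul_mul, Matrix.mul_smul, one_mul, mul_one, hJI, smul_neg, add_right_inj] at hc2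
    have hβ : β = 0 := by
      by_contra hβ
      have h' : (2 * β) • (I * J) = 0 := by
        rw [mul_smul, two_smul]
        nth_rewrite 2 [hc2]
        exact add_neg_cancel _
      refine (mul_ne_zero h2 hβ) ((smul_eq_zero.1 h').resolve_right fun h0 => hIJne ?_)
      rw [hJI, h0, neg_zero]
    rw [hβ, zero_smul, add_zero] at hab
    refine hns α ?_
    have : (x : GL (Fin 2) F) = g * y * g⁻¹ := by rw [hy]; simp [mul_assoc]
    rw [this, Units.val_mul, Units.val_mul, hab, Matrix.mul_smul, mul_one, Matrix.smul_mul, ← Units.val_mul,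
      mul_inv_cancel, Units.val_one]
  · intro hR x hx hz hns
    obtain ⟨z, hz⟩ := hz
    have hxd : (x : Matrix (Fin 2) (Fin 2) F).det = 1 := congrArg Units.val hx
    rcases hR with rfl | rfl
    · rw [Units.val_pow_eq_pow_val, pow_two] at hz
      obtain ⟨-, hd⟩ := trace_det _ hns 0 z (by rw [hz, zero_smul, zero_add])
      rw [hxd] at hd
      have hz1 : z = -1 := by linear_combination hd
      subst hz1
      have hIrel : I * I = (0 : F) • I + (-1 : F) • (1 : Matrix (Fin 2) (Fin 2) F) := by simp [hII]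
      refine fin x I ?_ (exists_conj h2 _ I 0 (-1) hns hI0 (by rw [hz, zero_smul, zero_add]) hIrel
        (by rw [show (0 : F) * 0 + 4 * -1 = -(2 * 2) by ring]; exact neg_ne_zero.2 (mul_ne_zero h2 h2))) ?_
      · rw [(trace_det I hI0 0 (-1) hIrel).2, neg_neg]
      · refine ⟨.a 1, .a 2 * .xa 0, rfl, ?_⟩
        rw [vmul, ← hC, ← hJ, hC1, Matrix.smul_mul, one_mul, neg_smul, one_smul, neg_mul, hJI, neg_neg]
    · set G : Matrix (Fin 2) (Fin 2) F := (-(2 : F)⁻¹) • (1 + I + J + I * J) with hG
      set K := I * J with hK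
      have hIK : I * K = -J := by rw [hK, ← mul_assoc, hII, neg_one_mul]
      have hKI : K * I = J := by rw [hK, mul_assoc, hJI, hK, mul_neg, hIK, neg_neg]
      have hJK : J * K = I := by rw [hK, ← mul_assoc, hJI, hK, neg_mul, mul_assoc, hJJ, mul_neg, neg_neg, mul_one]
      have hKJ : K * J = -I := by rw [hK, mul_assoc, hJJ, mul_neg, mul_one]
      have hKK : K * K = -1 := by
        nth_rewrite 2 [hK]
        rw [← mul_assoc, hKI, hJJ]
      have hG0 : ∀ c : F, G ≠ c • (1 : Matrix (Fin 2) (Fin 2) F) := by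
        intro c hc
        have e : (1 + I + J + K) * I = I * (1 + I + J + K) := by
          have := scal_comm c I
          rw [← hc, hG, Matrix.smul_mul, Matrix.mul_smul] at this
          exact smul_right_injective _ (neg_ne_zero.2 (inv_ne_zero h2)) this
        simp only [add_mul, mul_add, one_mul, mul_one, hJI, hKI, hIK, ← hK] at e
        have e2 : (2 : F) • (K - J) = 0 := by linear_combination (norm := module) (-1 : F) • e
        rcases smul_eq_zero.1 e2 with h | h
        · exact h2 h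
        · rw [sub_eq_zero, hK] at h
          refine hI0 1 ?_
          calc I = -(I * (J * J)) := by rw [hJJ, mul_neg, mul_one, neg_neg]
            _ = -(J * J) := by rw [← mul_assoc, h]
            _ = _ := by rw [hJJ, neg_neg, one_smul]
      have hGrel : G * G = (-1 : F) • G + (-1 : F) • (1 : Matrix (Fin 2) (Fin 2) F) := by
        rw [hG]
        simp only [Matrix.smul_mul, Matrix.mul_smul, add_mul, mul_add, one_mul, mul_one, hII, hJJ, hKK, hJI, hIK, hKI, hJK,
          hKJ, ← hK]
        match_scalars <;> field_simp <;> ring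
      obtain ⟨hGt, hGd⟩ := trace_det G hG0 (-1) (-1) hGrel
      rw [neg_neg] at hGd
      have hGI : G * I = J * G := by
        rw [hG]
        simp only [Matrix.smul_mul, Matrix.mul_smul, add_mul, mul_add, one_mul, mul_one, hII, hJJ, hKK, hJI, hIK, hKI, hJK,
          hKJ, ← hK]
        congr 1
        abel
      have hGJ : G * J = K * G := by
        rw [hG]
        simp only [Matrix.smul_mul, Matrix.mul_smul, add_mul, mul_add, one_mul, mul_one, hII, hJJ, hKK, hJI, hIK, hKI, hJK,
          hKJ, ← hK]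
        congr 1
        abel
      -- up to sign the element has order 3
      rw [Units.val_pow_eq_pow_val] at hz
      set X := (x : Matrix (Fin 2) (Fin 2) F)
      set t := X 0 0 + X 1 1
      have hCH : X * X = t • X + (-1 : F) • (1 : Matrix (Fin 2) (Fin 2) F) := by
        rw [Matrix.det_fin_two] at hxd
        ext i j
        fin_cases i <;> fin_cases j <;> simp [Matrix.mul_apply, Fin.sum_univ_two, t] <;> first | ring1 | linear_combination -hxd | linear_combination hxd
      have hX3 : X ^ 3 = (t * t - 1) • X + (-t) • (1 : Matrix (Fin 2) (Fin 2) F) := by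
        rw [pow_three, hCH, mul_add, Matrix.mul_smul, Matrix.mul_smul, mul_one, hCH]
        module
      have ht : t * t = 1 := by
        by_contra ht
        rw [hz] at hX3
        refine hns ((t * t - 1)⁻¹ * (z + t)) ?_
        have : (t * t - 1) • X = (z + t) • (1 : Matrix (Fin 2) (Fin 2) F) := by
          linear_combination (norm := module) (-1 : F) • hX3
        rw [← smul_smul, ← this, inv_smul_smul₀ (sub_ne_zero.2 ht)]
      obtain ⟨σ, hσ, hσt⟩ : ∃ σ : F, σ * σ = 1 ∧ σ * t = -1 := ⟨-t, by rw [neg_mul_neg, ht], by rw [neg_mul, ht]⟩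
      have hrel : (σ • X) * (σ • X) = (-1 : F) • (σ • X) + (-1 : F) • (1 : Matrix (Fin 2) (Fin 2) F) := by
        rw [Matrix.smul_mul, Matrix.mul_smul, smul_smul, hσ, one_smul, hCH, smul_smul]
        congr 2
        linear_combination σ * hσt - t * hσ
      obtain ⟨P, hP, hP'⟩ := exists_conj h2 (σ • X) G (-1) (-1) (fun c hc => hns (σ * c) (by
          rw [← smul_smul, ← hc, smul_smul, hσ, one_smul])) hG0 hrel hGrel
          (by rw [show (-1 : F) * -1 + 4 * -1 = -3 by norm_num]; exact neg_ne_zero.2 h3)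
      refine fin x (σ • G) ?_ ⟨P, hP, ?_⟩ ⟨.xa 0, .a 1 * .xa 0, ?_, ?_⟩
      · rw [Matrix.det_smul, Fintype.card_fin, hGd, mul_one, pow_two, hσ]
      · rw [Matrix.mul_smul, ← hP', Matrix.smul_mul, smul_smul, hσ, one_smul]
      · rw [Matrix.smul_mul, Matrix.mul_smul, hGI]
      · rw [Matrix.smul_mul, Matrix.mul_smul, hGJ, vmul]

end Cfsg.Agent.S5997
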