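import Cfsg.Statements.S5998
import Cfsg.Agent.Lib.PrimeElusive.ExtraThree

set_option autoImplicit false
open scoped MatrixGroups
open Cfsg

namespace Cfsg.Agent.S5998

open Matrix CfsgLib.PrimeElusive.ExtraThree

/-- Elements of prime order of PSL_3(p), p ≡ 1 (mod 3), and the normalizer of an extraspecial subgroup of order 27. Here `T = PSL_3(F)` for the field `F` with `p` elements, `p` a prime with `p ≡ 1 (mod 3)`; `R` is a non-abelian subgroup of GL_3(F) of order 27 and exponent 3 (an extraspecial group 3^{1+2}, acting absolutely irreducibly), and `H` is the subgroup of matrices of determinant 1 normalizing `R` — a subgroup of type 3^{1+2}.Sp₂(3) (maximality is not assumed). Ω is the set of cosets of `H` in `T`, so an element of `T` of prime order `r` (a matrix `x` of determinant 1 with `x^r` scalar, `x` not scalar) fixes a point of Ω exactly when some conjugate of `x` by a matrix of determinant 1 normalizes `R`. Let `r` be a prime dividing the index of `H`. Then every element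 of `T` of order `r` fixes a point of Ω if and only if `r = 2`, or `r = 3` and `p ≡ 1 (mod 9)`. -/
theorem result {F : Type*} [Field F] [Fintype F] {p : ℕ} [Fact p.Prime] [CharP F p] (hF : Fintype.card F = p) (hp3 : p % 3 = 1)
    (R : Subgroup (GL (Fin 3) F)) (hR : Nat.card R = 27) (hRe : Monoid.exponent R = 3) (hRna : ¬ IsMulCommutative R)
    (r : ℕ) [Fact r.Prime]
    (hΩ : r ∣ (Cfsg.Geo.subgroupNormalizer R).relIndex (Cfsg.Geo.specialLinear (Fin 3) F)) :
    (∀ x ∈ Cfsg.Geo.specialLinear (Fin 3) F, (∃ z : F, ((x ^ r : GL (Fin 3) F) : Matrix (Fin 3) (Fin 3) F) = z • (1 : Matrix (Fin 3) (Fin 3) F)) →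
      (∀ z : F, (x : Matrix (Fin 3) (Fin 3) F) ≠ z • (1 : Matrix (Fin 3) (Fin 3) F)) →
      ∃ g ∈ Cfsg.Geo.specialLinear (Fin 3) F, g⁻¹ * x * g ∈ Cfsg.Geo.subgroupNormalizer R) ↔ (r = 2 ∨ (r = 3 ∧ p % 9 = 1)) := by
  classical
  have hp := (Fact.out : p.Prime)
  have h3 : 3 ∣ Fintype.card F - 1 := by rw [hF]; omega
  obtain ⟨f⟩ := exists_frame hR hRe hRna h3
  have hSL : ∀ g : GL (Fin 3) F, g ∈ Cfsg.Geo.specialLinear (Fin 3) F ↔ (g : Matrix (Fin 3) (Fin 3) F).det = 1 :=
    fun g => ⟨fun h => congrArg Units.val (MonoidHom.mem_ker.1 h), fun h => MonoidHom.mem_ker.2 (Units.ext h)⟩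
  have hrS : r ∣ Nat.card (Cfsg.Geo.specialLinear (Fin 3) F) := hΩ.trans (Subgroup.relIndex_dvd_card _ _)
  have h2F : (2 : F) ≠ 0 := by
    intro h
    have : p ∣ 2 := (CharP.cast_eq_zero_iff F p 2).1 (by exact_mod_cast h)
    have := Nat.le_of_dvd (by norm_num) this
    have := hp.two_le
    omega
  have hr3 : r = 3 → p % 9 = 1 := by
    intro hr
    subst hr
    by_contra h9
    have hRS : R ≤ Cfsg.Geo.subgroupNormalizer R ⊓ Cfsg.Geo.specialLinear (Fin 3) F :=
      le_inf Subgroup.le_normalizer fun x hx => (hSL x).2 (det_eq_one f hx)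
    have h1 : 3 * 27 ∣ Nat.card (Cfsg.Geo.specialLinear (Fin 3) F) := by
      rw [← Subgroup.relIndex_bot_left, ← Subgroup.relIndex_mul_relIndex ⊥
        (Cfsg.Geo.subgroupNormalizer R ⊓ Cfsg.Geo.specialLinear (Fin 3) F) _ bot_le inf_le_right,
        Subgroup.inf_relIndex_right, Subgroup.relIndex_bot_left, mul_comm 3 27]
      exact mul_dvd_mul (hR ▸ Subgroup.card_dvd_of_le hRS) hΩ
    have h2 : Nat.card (Cfsg.Geo.specialLinear (Fin 3) F) * (p - 1) = (p ^ 3 - 1) * (p ^ 3 - p) * (p ^ 3 - p ^ 2) := by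
      have e := Subgroup.card_mul_index (Cfsg.Geo.specialLinear (Fin 3) F)
      have hd : Function.Surjective (Matrix.GeneralLinearGroup.det : GL (Fin 3) F →* Fˣ) := fun u => by
        refine ⟨Matrix.GeneralLinearGroup.mkOfDetNeZero (Matrix.diagonal ![(u : F), 1, 1]) (by
          simp [Matrix.det_diagonal, Fin.prod_univ_three]), Units.ext ?_⟩
        simp [Matrix.GeneralLinearGroup.val_det_apply, Matrix.GeneralLinearGroup.mkOfDetNeZero,
          Matrix.det_diagonal, Fin.prod_univ_three]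
      rw [Cfsg.Geo.specialLinear, Subgroup.index_ker, MonoidHom.range_eq_top.2 hd, Subgroup.card_top,
        Nat.card_units, Nat.card_eq_fintype_card (α := F), hF, Matrix.card_GL_field, hF] at e
      rw [Cfsg.Geo.specialLinear, e, Fin.prod_univ_three]
      simp
    have hdvd : 81 * (p - 1) ∣ (p ^ 3 - 1) * (p ^ 3 - p) * (p ^ 3 - p ^ 2) := h2 ▸ Nat.mul_dvd_mul_right h1 _
    have hfac : (p ^ 3 - 1) * (p ^ 3 - p) * (p ^ 3 - p ^ 2) = (p ^ 3 - 1) * (p ^ 3 - p) * p ^ 2 * (p - 1) := by
      rw [mul_assoc _ (p ^ 2)]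
      congr 1
      rw [Nat.mul_sub, mul_one, ← pow_succ]
    rw [hfac] at hdvd
    have h81 : 81 ∣ (p ^ 3 - 1) * (p ^ 3 - p) * p ^ 2 := Nat.dvd_of_mul_dvd_mul_right (by omega) hdvd
    have h81' : ((p : ZMod 81) ^ 3 - 1) * ((p : ZMod 81) ^ 3 - p) * (p : ZMod 81) ^ 2 = 0 := by
      have := (ZMod.natCast_eq_zero_iff _ 81).2 h81
      rw [Nat.cast_mul, Nat.cast_mul, Nat.cast_sub (Nat.one_le_pow _ _ hp.pos),
        Nat.cast_sub (Nat.le_self_pow (by norm_num) p)] at this
      simpa using this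
    have hval : (p : ZMod 81).val % 3 = 1 ∧ (p : ZMod 81).val % 9 ≠ 1 := by
      rw [ZMod.val_natCast]
      omega
    have key : ∀ a : ZMod 81, a.val % 3 = 1 → a.val % 9 ≠ 1 → (a ^ 3 - 1) * (a ^ 3 - a) * a ^ 2 ≠ 0 := by decide
    exact key _ hval.1 hval.2 h81'
  constructor
  · intro hall
    have hr := (Fact.out : r.Prime)
    by_contra hno
    push Not at hno
    have h5 : 5 ≤ r := by
      have h4 : r ≠ 4 := fun h => absurd (h ▸ hr) (by decide)
      have := hr.two_le
      have : r ≠ 3 := fun h => hno.2 h (hr3 h)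
      have := hno.1
      omega
    obtain ⟨x, hx⟩ := exists_prime_orderOf_dvd_card' r hrS
    have hxr : (x : GL (Fin 3) F) ^ r = 1 := by
      rw [← SubgroupClass.coe_pow, ← hx, pow_orderOf_eq_one]; rfl
    have hns : ∀ z : F, ((x : GL (Fin 3) F) : Matrix (Fin 3) (Fin 3) F) ≠ z • (1 : Matrix (Fin 3) (Fin 3) F) := by
      intro z hz
      have hd := (hSL _).1 x.2
      rw [hz, Matrix.det_smul, Matrix.det_one, mul_one, Fintype.card_fin] at hd
      have hzr : z ^ r = 1 := by
        have := congrArg (fun g : GL (Fin 3) F => (g : Matrix (Fin 3) (Fin 3) F) 0 0) hxr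
        simpa [hz, smul_pow] using this
      have hz1 : z = 1 := by
        have hg : Nat.gcd 3 r = 1 := by
          refine (Nat.coprime_primes (by norm_num) hr).2 ?_
          omega
        have := pow_gcd_eq_one.2 ⟨hd, hzr⟩
        rwa [hg, pow_one] at this
      have : x = 1 := Subtype.ext (Units.ext (by rw [hz, hz1, one_smul]; rfl))
      rw [this, orderOf_one] at hx
      exact hr.one_lt.ne hx
    obtain ⟨g, -, hg⟩ := hall _ x.2 ⟨1, by rw [hxr, Units.val_one, one_smul]⟩ hns
    obtain ⟨z, hz⟩ := scalar_of_large_prime f hR h5 hg (by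
      rw [show g⁻¹ * (x : GL (Fin 3) F) * g = MulAut.conj g⁻¹ (x : GL (Fin 3) F) by simp, ← map_pow, hxr, map_one])
    refine hns z ?_
    have : (x : GL (Fin 3) F) = g * (g⁻¹ * (x : GL (Fin 3) F) * g) * g⁻¹ := by group
    rw [this, Units.val_mul, Units.val_mul, hz, Matrix.mul_smul, Matrix.mul_one, Matrix.smul_mul, ← Units.val_mul,
      mul_inv_cancel, Units.val_one]
  · intro hcases x hx ⟨z, hz⟩ hns
    have hdx := (hSL x).1 hx
    have hz3 : z ^ 3 = 1 := by
      have h := congrArg Matrix.det hz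
      rw [Matrix.det_smul, Matrix.det_one, mul_one, Fintype.card_fin, Units.val_pow_eq_pow_val, Matrix.det_pow,
        hdx, one_pow] at h
      exact h.symm
    -- split off a scalar `s` with `s ^ r * z = 1`
    obtain ⟨s, hs0, hs, hsub⟩ : ∃ s : F, s ≠ 0 ∧ s ^ r * z = 1 ∧ ((r = 2 ∧ s ^ 3 = 1) ∨ r = 3) := by
      rcases hcases with rfl | ⟨rfl, h9⟩
      · exact ⟨z, fun h => by simp [h] at hz3, by rw [← pow_succ, hz3], Or.inl ⟨rfl, hz3⟩⟩
      · have hdvd : 9 ∣ Nat.card Fˣ := by rw [Nat.card_units, Nat.card_eq_fintype_card, hF]; omega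
        obtain ⟨v, hv⟩ : ∃ v : Fˣ, orderOf v = 9 := by
          obtain ⟨v, hv⟩ := IsCyclic.exists_ofOrder_eq_natCard (α := Fˣ)
          obtain ⟨k, hk⟩ := hdvd
          refine ⟨v ^ k, ?_⟩
          rw [orderOf_pow, hv, hk, Nat.gcd_mul_left_left, Nat.mul_div_cancel]
          by_contra h
          have : 0 < Nat.card Fˣ := Nat.card_pos
          rw [hk, show k = 0 by omega] at this
          simp at this
        have hv3 : IsPrimitiveRoot ((v : F) ^ 3) 3 :=
          (IsPrimitiveRoot.coe_units_iff.2 (hv ▸ IsPrimitiveRoot.orderOf v)).pow (by norm_num) (by norm_num)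
        obtain ⟨k, -, hk⟩ := hv3.eq_pow_of_pow_eq_one hz3
        refine ⟨(v : F) ^ (2 * k), pow_ne_zero _ v.ne_zero, ?_, Or.inr rfl⟩
        have h9' : (v : F) ^ 9 = 1 := by rw [← Units.val_pow_eq_pow_val, ← hv, pow_orderOf_eq_one, Units.val_one]
        rw [← hk, ← pow_mul, ← pow_mul, ← pow_add, show 2 * k * 3 + 3 * k = 9 * k by ring, pow_mul, h9', one_pow]
    let S : GL (Fin 3) F := Matrix.GeneralLinearGroup.mkOfDetNeZero (s • (1 : Matrix (Fin 3) (Fin 3) F))
      (by simp [Matrix.det_smul, hs0])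
    have hS : (S : Matrix (Fin 3) (Fin 3) F) = s • 1 := rfl
    have hSn : S ∈ Subgroup.normalizer (R : Set (GL (Fin 3) F)) := scalar_mem_normalizer R hS
    have he : ((S * x : GL (Fin 3) F) : Matrix (Fin 3) (Fin 3) F) ^ r = 1 := by
      rw [Units.val_mul, hS, smul_mul_assoc, one_mul, smul_pow, ← Units.val_pow_eq_pow_val, hz, smul_smul, hs, one_smul]
    have hfin : ∀ y, y ∈ Subgroup.normalizer (R : Set (GL (Fin 3) F)) →
        ∀ g : GL (Fin 3) F, (g : Matrix (Fin 3) (Fin 3) F).det = 1 → g⁻¹ * (S * x) * g = y →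
        ∃ g ∈ Cfsg.Geo.specialLinear (Fin 3) F, g⁻¹ * x * g ∈ Cfsg.Geo.subgroupNormalizer R := by
      intro y hy g hg hgy
      refine ⟨g, (hSL g).2 hg, ?_⟩
      have hc : S * g⁻¹ = g⁻¹ * S := Units.ext (by rw [Units.val_mul, Units.val_mul, hS]; simp)
      have : g⁻¹ * x * g = S⁻¹ * y := by
        rw [← hgy, ← mul_assoc g⁻¹ S x, ← hc]; group
      rw [this]
      exact mul_mem (inv_mem hSn) hy
    have hdiag : ∀ l : Fin 3 → F, (∀ i, l i ≠ 0) → ∃ y : GL (Fin 3) F,
        (y : Matrix (Fin 3) (Fin 3) F) * (f.P : Matrix (Fin 3) (Fin 3) F) =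
          (f.P : Matrix (Fin 3) (Fin 3) F) * Matrix.diagonal l := by
      intro l hl
      let D := Matrix.GeneralLinearGroup.mkOfDetNeZero (Matrix.diagonal l)
        (by rw [Matrix.det_diagonal]; exact Finset.prod_ne_zero_iff.2 fun i _ => hl i)
      refine ⟨f.P * D * f.P⁻¹, ?_⟩
      rw [← Units.val_mul, inv_mul_cancel_right, Units.val_mul]
      rfl
    rcases hsub with ⟨rfl, hs3⟩ | rfl
    · have h2r : IsPrimitiveRoot (-1 : F) 2 :=
        IsPrimitiveRoot.mk_of_lt _ two_pos (by norm_num) fun l hl0 hl2 h => by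
          rw [show l = 1 by omega, pow_one] at h
          exact h2F (by linear_combination -h)
      obtain ⟨Q, l, hl, hQ⟩ := exists_eigen_matrix h2r (by exact_mod_cast h2F) he
      have hl1 : ∀ i, l i = 1 ∨ l i = -1 := fun i => sq_eq_one_iff.1 (hl i)
      have hprod : l 0 * l 1 * l 2 = 1 := by
        have h := congrArg Matrix.det hQ
        rw [Matrix.det_mul, Matrix.det_mul, Matrix.det_diagonal, Fin.prod_univ_three, Units.val_mul, Matrix.det_mul,
          hdx, mul_one, hS, Matrix.det_smul, Matrix.det_one, mul_one, Fintype.card_fin, hs3, one_mul] at h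
        exact (mul_eq_left₀ ((Matrix.isUnit_iff_isUnit_det _).1 Q.isUnit).ne_zero).1 h.symm
      have hne : ∃ i, l i = -1 := by
        by_contra hno
        push Not at hno
        have hl' : Matrix.diagonal l = 1 := by
          rw [show l = fun _ => 1 from funext fun i => (hl1 i).resolve_right (hno i), Matrix.diagonal_one]
        rw [hl', mul_one] at hQ
        have h : S * x = 1 := Units.ext (Q.isUnit.mul_right_cancel (by rw [Units.val_one, one_mul]; exact hQ))
        refine hns s⁻¹ ?_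
        have e : (S : Matrix (Fin 3) (Fin 3) F) * (x : Matrix (Fin 3) (Fin 3) F) = 1 := congrArg Units.val h
        rw [hS, smul_mul_assoc, one_mul] at e
        rw [← e, smul_smul, inv_mul_cancel₀ hs0, one_smul]
      -- the negated swap of the frame and its eigenvectors
      let W : Matrix (Fin 3) (Fin 3) F := !![-1, 0, 0; 0, 0, -1; 0, -1, 0]
      let Wg := Matrix.GeneralLinearGroup.mkOfDetNeZero W (by simp [W, Matrix.det_fin_three])
      have hy : ((f.P * Wg * f.P⁻¹ : GL (Fin 3) F) : Matrix (Fin 3) (Fin 3) F) * (f.P : Matrix (Fin 3) (Fin 3) F) =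
          (f.P : Matrix (Fin 3) (Fin 3) F) * W := by
        rw [← Units.val_mul, inv_mul_cancel_right, Units.val_mul]; rfl
      obtain ⟨K, hK, hKl⟩ : ∃ K : Matrix (Fin 3) (Fin 3) F, K.det ≠ 0 ∧ W * K = K * Matrix.diagonal l := by
        have h21 : (-1 : F) ≠ 1 := fun h => h2F (by linear_combination -h)
        rcases hl1 0 with e0 | e0 <;> rcases hl1 1 with e1 | e1 <;> rcases hl1 2 with e2 | e2
        all_goals first
          | (exfalso; rw [e0, e1, e2] at hprod; exact h21 (by linear_combination hprod))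
          | (exfalso; obtain ⟨i, hi⟩ := hne; fin_cases i <;> first | exact h21 (hi.symm.trans e0) | exact h21 (hi.symm.trans e1) | exact h21 (hi.symm.trans e2))
          | skip
        · exact ⟨!![0, 1, 0; 1, 0, 1; -1, 0, 1], by
            simp [Matrix.det_fin_three]; intro h; exact h2F (by linear_combination -h), by
            ext i j; fin_cases i <;> fin_cases j <;> simp [W, Matrix.mul_apply, Fin.sum_univ_three, Matrix.diagonal_apply, e0, e1, e2]⟩
        · exact ⟨!![1, 0, 0; 0, 1, 1; 0, -1, 1], by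
            simp [Matrix.det_fin_three]; intro h; exact h2F (by linear_combination h), by
            ext i j; fin_cases i <;> fin_cases j <;> simp [W, Matrix.mul_apply, Fin.sum_univ_three, Matrix.diagonal_apply, e0, e1, e2]⟩
        · exact ⟨!![1, 0, 0; 0, 1, 1; 0, 1, -1], by
            simp [Matrix.det_fin_three]; intro h; exact h2F (by linear_combination -h), by
            ext i j; fin_cases i <;> fin_cases j <;> simp [W, Matrix.mul_apply, Fin.sum_univ_three, Matrix.diagonal_apply, e0, e1, e2]⟩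
      let Kg := Matrix.GeneralLinearGroup.mkOfDetNeZero K hK
      obtain ⟨g, hg, hgy⟩ := exists_det_one_conj (P := f.P * Kg) hQ (y := f.P * Wg * f.P⁻¹) (by
        rw [Units.val_mul f.P Kg, ← mul_assoc, hy, mul_assoc, show (Kg : Matrix (Fin 3) (Fin 3) F) = K from rfl, hKl, ← mul_assoc])
      exact hfin _ (swap_mem_normalizer f hR hRe hy) g hg hgy
    · obtain ⟨Q, l, hl, hQ⟩ := exists_eigen_matrix f.hω (by
        intro h
        have : p ∣ 3 := (CharP.cast_eq_zero_iff F p 3).1 h
        have := Nat.le_of_dvd (by norm_num) this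
        have := hp.two_le
        omega) he
      obtain ⟨y, hy⟩ := hdiag l fun i h => by simpa [h] using hl i
      obtain ⟨g, hg, hgy⟩ := exists_det_one_conj hQ hy
      exact hfin y (diag_mem_normalizer f hR l hl hy) g hg hgy

end Cfsg.Agent.S5998
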