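import Cfsg.Statements.S5999
import Cfsg.Agent.Lib.PrimeElusive.ExtraThree
import Cfsg.Agent.Lib.IsomConj.Unitary
import Cfsg.Agent.Lib.ClassicalGroups.HermGroup

set_option autoImplicit false
open scoped MatrixGroups
open Cfsg

namespace Cfsg.Agent.S5999

open Matrix CfsgLib.PrimeElusive.ExtraThree CfsgLib.IsomConj

/-- Elements of prime order of PSU_3(p), p ≡ 2 (mod 3), and the normalizer of an extraspecial subgroup of order 27. Here `T = PSU_3(p)` for a prime `p ≥ 5` with `p ≡ 2 (mod 3)`, realised through `SU_3(p)`, the matrices of determinant 1 over the field `F` with `p²` elements preserving the hermitian form `Σ uᵢvᵢ^p`; `R` is a non-abelian subgroup of order 27 and exponent 3 of the full unitary group of that form (an extraspecial group 3^{1+2}, acting absolutely irreducibly), and `H` is the subgroup of `SU_3(p)` normalizing `R` — a subgroup of type 3^{1+2}.Sp₂(3) (maximality is not assumed). Ω is the set of cosets of `H`, so an element of `T` of prime order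 `r` (`x ∈ SU_3(p)` with `x^r` scalar, `x` not scalar) fixes a point of Ω exactly when some `SU_3(p)`-conjugate of `x` normalizes `R`. Let `r` be a prime dividing the index of `H`. Then every element of `T` of order `r` fixes a point of Ω if and only if `r = 2`, or `r = 3` and `p ≡ 8 (mod 9)`. -/
theorem result {F : Type*} [Field F] [Fintype F] {p : ℕ} [Fact p.Prime] [CharP F p] (hF : Fintype.card F = p ^ 2) (hp : 5 ≤ p) (hp3 : p % 3 = 2)
    (R : Subgroup (GL (Fin 3) F)) (hRU : R ≤ Cfsg.GU 3 F p) (hR : Nat.card R = 27) (hRe : Monoid.exponent R = 3) (hRna : ¬ IsMulCommutative R)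
    (r : ℕ) [Fact r.Prime]
    (hΩ : r ∣ (Cfsg.Geo.subgroupNormalizer R).relIndex (Cfsg.GU 3 F p ⊓ Cfsg.Geo.specialLinear (Fin 3) F)) :
    (∀ x ∈ Cfsg.GU 3 F p ⊓ Cfsg.Geo.specialLinear (Fin 3) F, (∃ z : F, ((x ^ r : GL (Fin 3) F) : Matrix (Fin 3) (Fin 3) F) = z • (1 : Matrix (Fin 3) (Fin 3) F)) →
      (∀ z : F, (x : Matrix (Fin 3) (Fin 3) F) ≠ z • (1 : Matrix (Fin 3) (Fin 3) F)) →
      ∃ g ∈ Cfsg.GU 3 F p ⊓ Cfsg.Geo.specialLinear (Fin 3) F, g⁻¹ * x * g ∈ Cfsg.Geo.subgroupNormalizer R) ↔ (r = 2 ∨ (r = 3 ∧ p % 9 = 8)) := by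
  classical
  have hp2 := (Fact.out : p.Prime)
  have hpp : 3 ∣ p + 1 := by omega
  have h3 : 3 ∣ Fintype.card F - 1 := by
    rw [hF, show p ^ 2 - 1 = (p + 1) * (p - 1) by rw [← Nat.sq_sub_sq, one_pow]]
    exact dvd_mul_of_dvd_left hpp _
  obtain ⟨f⟩ := exists_frame hR hRe hRna h3
  obtain ⟨τ, hτ, -, -⟩ := CfsgLib.UnitaryEmbed.exists_conj hF
  have hctr : ∀ M : Matrix (Fin 3) (Fin 3) F, ctr p M = (M.map τ)ᵀ := fun M => by
    unfold ctr; congr 2; exact funext fun c => (hτ c).symm
  have hmul : ∀ A B : Matrix (Fin 3) (Fin 3) F, ctr p (A * B) = ctr p B * ctr p A := fun A B => by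
    simp only [hctr, Matrix.map_mul, Matrix.transpose_mul]
  have hnone : ∀ a : F, a ^ 3 = 1 → a ^ (p + 1) = 1 := fun a ha => by
    obtain ⟨k, hk⟩ := hpp; rw [hk, pow_mul, ha, one_pow]
  -- the Gram matrix of the frame is scalar
  obtain ⟨G, hG⟩ : ∃ G : F, ctr p (f.P : Matrix (Fin 3) (Fin 3) F) * (f.P : Matrix (Fin 3) (Fin 3) F) = G • 1 := by
    set M := ctr p (f.P : Matrix (Fin 3) (Fin 3) F) * (f.P : Matrix (Fin 3) (Fin 3) F) with hMdef
    have hinv : ∀ (u : GL (Fin 3) F) (U : Matrix (Fin 3) (Fin 3) F), u ∈ R →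
        (u : Matrix (Fin 3) (Fin 3) F) * (f.P : Matrix (Fin 3) (Fin 3) F) = (f.P : Matrix (Fin 3) (Fin 3) F) * U →
        ctr p U * M * U = M := by
      intro u U hu hU
      have hU' := (mem_GU_iff_ctr hF).1 (hRU hu)
      calc ctr p U * M * U = ctr p ((f.P : Matrix (Fin 3) (Fin 3) F) * U) * ((f.P : Matrix (Fin 3) (Fin 3) F) * U) := by
            rw [hmul, hMdef]; simp only [mul_assoc]
        _ = ctr p (f.P : Matrix (Fin 3) (Fin 3) F) * (ctr p (u : Matrix (Fin 3) (Fin 3) F) * u) * f.P := by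
            rw [← hU, hmul]; simp only [mul_assoc]
        _ = M := by rw [hU', mul_one, hMdef]
    have hb := hinv f.b _ f.hb f.hbP
    have ha := hinv f.a _ f.ha f.haP
    have hω3 := f.hω.pow_eq_one
    have hoff : ∀ i j, i ≠ j → M i j = 0 := fun i j hij => by
      have h := congrFun (congrFun hb i) j
      rw [Matrix.mul_diagonal, hctr, Matrix.diagonal_map (map_zero τ), Matrix.diagonal_transpose,
        Matrix.diagonal_mul] at h
      have hne : τ (f.ω ^ (i : ℕ)) * f.ω ^ (j : ℕ) ≠ 1 := by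
        intro h1
        refine hij (Fin.ext (f.hω.pow_inj i.2 j.2 ?_))
        have e : τ (f.ω ^ (i : ℕ)) * f.ω ^ (i : ℕ) = 1 := by
          rw [hτ, ← pow_succ, hnone]
          rw [← pow_mul, mul_comm, pow_mul, hω3, one_pow]
        exact mul_left_cancel₀ (left_ne_zero_of_mul_eq_one e) (e.trans h1.symm)
      have : (τ (f.ω ^ (i : ℕ)) * f.ω ^ (j : ℕ) - 1) * M i j = 0 := by linear_combination h
      exact (mul_eq_zero.1 this).resolve_left (sub_ne_zero.2 hne)
    have h00 := congrFun (congrFun ha 0) 0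
    have h11 := congrFun (congrFun ha 1) 1
    rw [hctr] at h00 h11
    simp [Matrix.mul_apply, Fin.sum_univ_three] at h00 h11
    refine ⟨M 0 0, ?_⟩
    ext i j
    fin_cases i <;> fin_cases j <;> simp_all
  have hconjU : ∀ (u : GL (Fin 3) F) (U : Matrix (Fin 3) (Fin 3) F), ctr p U * U = 1 →
      (u : Matrix (Fin 3) (Fin 3) F) * (f.P : Matrix (Fin 3) (Fin 3) F) = (f.P : Matrix (Fin 3) (Fin 3) F) * U →
      u ∈ Cfsg.GU 3 F p := by
    intro u U hU hu
    rw [mem_GU_iff_ctr hF]
    have e : (u : Matrix (Fin 3) (Fin 3) F) = f.P * U * ((f.P⁻¹ : GL (Fin 3) F) : Matrix (Fin 3) (Fin 3) F) := by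
      rw [← hu, mul_assoc, ← Units.val_mul, mul_inv_cancel, Units.val_one, mul_one]
    set Pm := (f.P : Matrix (Fin 3) (Fin 3) F)
    set Pi' := ((f.P⁻¹ : GL (Fin 3) F) : Matrix (Fin 3) (Fin 3) F)
    have hPP : Pm * Pi' = 1 := by rw [← Units.val_mul, mul_inv_cancel, Units.val_one]
    calc ctr p (u : Matrix (Fin 3) (Fin 3) F) * u = ctr p Pi' * (ctr p U * (ctr p Pm * Pm) * U) * Pi' := by
          rw [e, hmul, hmul]; simp only [mul_assoc]
      _ = ctr p Pi' * (ctr p Pm * Pm) * Pi' := by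
          rw [hG]; simp only [Matrix.mul_smul, Matrix.smul_mul, mul_one, hU]
      _ = ctr p (Pm * Pi') * (Pm * Pi') := by rw [hmul]; simp only [mul_assoc]
      _ = 1 := by rw [hPP, hctr]; simp
  have hSL : ∀ g : GL (Fin 3) F, g ∈ Cfsg.Geo.specialLinear (Fin 3) F ↔ (g : Matrix (Fin 3) (Fin 3) F).det = 1 :=
    fun g => ⟨fun h => congrArg Units.val (MonoidHom.mem_ker.1 h), fun h => MonoidHom.mem_ker.2 (Units.ext h)⟩
  set SU' := Cfsg.GU 3 F p ⊓ Cfsg.Geo.specialLinear (Fin 3) F with hSU'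
  have hrS : r ∣ Nat.card SU' := hΩ.trans (Subgroup.relIndex_dvd_card _ _)
  have h2F : (2 : F) ≠ 0 := by
    intro h
    have : p ∣ 2 := (CharP.cast_eq_zero_iff F p 2).1 (by exact_mod_cast h)
    have := Nat.le_of_dvd (by norm_num) this
    omega
  have hr3 : r = 3 → p % 9 = 8 := by
    intro hr
    subst hr
    by_contra h9
    have hRS : R ≤ Cfsg.Geo.subgroupNormalizer R ⊓ SU' :=
      le_inf Subgroup.le_normalizer (le_inf hRU fun x hx => (hSL x).2 (det_eq_one f hx))
    have h1 : 3 * 27 ∣ Nat.card SU' := by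
      rw [← Subgroup.relIndex_bot_left, ← Subgroup.relIndex_mul_relIndex ⊥ (Cfsg.Geo.subgroupNormalizer R ⊓ SU') _
        bot_le inf_le_right, Subgroup.inf_relIndex_right, Subgroup.relIndex_bot_left, mul_comm 3 27]
      exact mul_dvd_mul (hR ▸ Subgroup.card_dvd_of_le hRS) hΩ
    have h2 : (p + 1) * Nat.card SU' = p ^ 3 * ((p + 1) * (p ^ 2 - 1) * (p ^ 3 + 1)) := by
      have hk : Nat.card SU' = Nat.card (Cfsg.SU 3 F p) := Nat.card_congr
        { toFun := fun g => ⟨⟨g.1.val, (hSL _).1 g.2.2⟩,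
            CfsgLib.ClassicalGroups.mem_SU_iff.2 (CfsgLib.ClassicalGroups.mem_GU_iff.1 g.2.1)⟩
          invFun := fun s => ⟨s.1.toGL, CfsgLib.ClassicalGroups.mem_SU_iff_toGL.1 s.2, (hSL _).2 s.1.prop⟩
          left_inv := fun g => Subtype.ext (Units.ext rfl)
          right_inv := fun s => rfl }
      rw [hk, CfsgLib.ClassicalGroups.card_SU_mul hF (by norm_num), CfsgLib.ClassicalGroups.card_GU hF 3]
      simp [Finset.prod_range_succ]
    rw [show p ^ 3 * ((p + 1) * (p ^ 2 - 1) * (p ^ 3 + 1)) = (p + 1) * (p ^ 3 * (p ^ 2 - 1) * (p ^ 3 + 1)) by ring] at h2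
    have h81 : 81 ∣ p ^ 3 * (p ^ 2 - 1) * (p ^ 3 + 1) := Nat.eq_of_mul_eq_mul_left (by omega) h2 ▸ h1
    have h81' : (p : ZMod 81) ^ 3 * ((p : ZMod 81) ^ 2 - 1) * ((p : ZMod 81) ^ 3 + 1) = 0 := by
      have := (ZMod.natCast_eq_zero_iff _ 81).2 h81
      rw [Nat.cast_mul, Nat.cast_mul, Nat.cast_sub (Nat.one_le_pow _ _ hp2.pos)] at this
      simpa using this
    have hval : (p : ZMod 81).val % 3 = 2 ∧ (p : ZMod 81).val % 9 ≠ 8 := by
      rw [ZMod.val_natCast]
      omega
    have key : ∀ a : ZMod 81, a.val % 3 = 2 → a.val % 9 ≠ 8 → a ^ 3 * (a ^ 2 - 1) * (a ^ 3 + 1) ≠ 0 := by decide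
    exact key _ hval.1 hval.2 h81'
  constructor
  · intro hall
    have hr := (Fact.out : r.Prime)
    by_contra hno
    push Not at hno
    have h5 : 5 ≤ r := by
      have h4 : r ≠ 4 := fun h => absurd (h ▸ hr) (by decide)
      have := hr.two_le
      have : r ≠ 3 := fun h => hno.2 h (hr3 h)
      have := hno.1
      omega
    obtain ⟨x, hx⟩ := exists_prime_orderOf_dvd_card' r hrS
    have hxr : (x : GL (Fin 3) F) ^ r = 1 := by
      rw [← SubgroupClass.coe_pow, ← hx, pow_orderOf_eq_one]; rfl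
    have hns : ∀ z : F, ((x : GL (Fin 3) F) : Matrix (Fin 3) (Fin 3) F) ≠ z • (1 : Matrix (Fin 3) (Fin 3) F) := by
      intro z hz
      have hd := (hSL _).1 x.2.2
      rw [hz, Matrix.det_smul, Matrix.det_one, mul_one, Fintype.card_fin] at hd
      have hzr : z ^ r = 1 := by
        have := congrArg (fun g : GL (Fin 3) F => (g : Matrix (Fin 3) (Fin 3) F) 0 0) hxr
        simpa [hz, smul_pow] using this
      have hz1 : z = 1 := by
        have hg : Nat.gcd 3 r = 1 := by
          refine (Nat.coprime_primes (by norm_num) hr).2 ?_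
          omega
        have := pow_gcd_eq_one.2 ⟨hd, hzr⟩
        rwa [hg, pow_one] at this
      have : x = 1 := Subtype.ext (Units.ext (by rw [hz, hz1, one_smul]; rfl))
      rw [this, orderOf_one] at hx
      exact hr.one_lt.ne hx
    obtain ⟨g, -, hg⟩ := hall _ x.2 ⟨1, by rw [hxr, Units.val_one, one_smul]⟩ hns
    obtain ⟨z, hz⟩ := scalar_of_large_prime f hR h5 hg (by
      rw [show g⁻¹ * (x : GL (Fin 3) F) * g = MulAut.conj g⁻¹ (x : GL (Fin 3) F) by simp, ← map_pow, hxr, map_one])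
    refine hns z ?_
    have : (x : GL (Fin 3) F) = g * (g⁻¹ * (x : GL (Fin 3) F) * g) * g⁻¹ := by group
    rw [this, Units.val_mul, Units.val_mul, hz, Matrix.mul_smul, Matrix.mul_one, Matrix.smul_mul, ← Units.val_mul,
      mul_inv_cancel, Units.val_one]
  · intro hcases x hx ⟨z, hz⟩ hns
    have hdx := (hSL x).1 hx.2
    have hz3 : z ^ 3 = 1 := by
      have h := congrArg Matrix.det hz
      rw [Matrix.det_smul, Matrix.det_one, mul_one, Fintype.card_fin, Units.val_pow_eq_pow_val, Matrix.det_pow,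
        hdx, one_pow] at h
      exact h.symm
    -- split off a norm-one scalar `s` with `s ^ r * z = 1`
    obtain ⟨s, hs0, hsn, hs, hsub⟩ : ∃ s : F, s ≠ 0 ∧ s ^ (p + 1) = 1 ∧ s ^ r * z = 1 ∧ ((r = 2 ∧ s ^ 3 = 1) ∨ r = 3) := by
      rcases hcases with rfl | ⟨rfl, h9⟩
      · exact ⟨z, fun h => by simp [h] at hz3, hnone z hz3, by rw [← pow_succ, hz3], Or.inl ⟨rfl, hz3⟩⟩
      · have hdvd : 9 ∣ Nat.card Fˣ := by
          rw [Nat.card_units, Nat.card_eq_fintype_card, hF, show p ^ 2 - 1 = (p + 1) * (p - 1) by rw [← Nat.sq_sub_sq, one_pow]]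
          exact dvd_mul_of_dvd_left (by omega) _
        obtain ⟨v, hv⟩ : ∃ v : Fˣ, orderOf v = 9 := by
          obtain ⟨v, hv⟩ := IsCyclic.exists_ofOrder_eq_natCard (α := Fˣ)
          obtain ⟨k, hk⟩ := hdvd
          refine ⟨v ^ k, ?_⟩
          rw [orderOf_pow, hv, hk, Nat.gcd_mul_left_left, Nat.mul_div_cancel]
          by_contra h
          have : 0 < Nat.card Fˣ := Nat.card_pos
          rw [hk, show k = 0 by omega] at this
          simp at this
        have hv3 : IsPrimitiveRoot ((v : F) ^ 3) 3 :=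
          (IsPrimitiveRoot.coe_units_iff.2 (hv ▸ IsPrimitiveRoot.orderOf v)).pow (by norm_num) (by norm_num)
        have h9' : (v : F) ^ 9 = 1 := by rw [← Units.val_pow_eq_pow_val, ← hv, pow_orderOf_eq_one, Units.val_one]
        obtain ⟨j, hj⟩ : 9 ∣ p + 1 := by omega
        obtain ⟨k, -, hk⟩ := hv3.eq_pow_of_pow_eq_one hz3
        refine ⟨(v : F) ^ (2 * k), pow_ne_zero _ v.ne_zero, ?_, ?_, Or.inr rfl⟩
        · rw [← pow_mul, hj, show 2 * k * (9 * j) = 9 * (2 * k * j) by ring, pow_mul, h9', one_pow]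
        · rw [← hk, ← pow_mul, ← pow_mul, ← pow_add, show 2 * k * 3 + 3 * k = 9 * k by ring, pow_mul, h9', one_pow]
    let S : GL (Fin 3) F := Matrix.GeneralLinearGroup.mkOfDetNeZero (s • (1 : Matrix (Fin 3) (Fin 3) F))
      (by simp [Matrix.det_smul, hs0])
    have hS : (S : Matrix (Fin 3) (Fin 3) F) = s • 1 := rfl
    have hSn : S ∈ Subgroup.normalizer (R : Set (GL (Fin 3) F)) := scalar_mem_normalizer R hS
    have hSU : S ∈ Cfsg.GU 3 F p := CfsgLib.ClassicalGroups.diagonal_mem_GU (fun _ => s) (fun _ => hsn) S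
      (by rw [hS, Matrix.smul_one_eq_diagonal])
    have he : ((S * x : GL (Fin 3) F) : Matrix (Fin 3) (Fin 3) F) ^ r = 1 := by
      rw [Units.val_mul, hS, smul_mul_assoc, one_mul, smul_pow, ← Units.val_pow_eq_pow_val, hz, smul_smul, hs, one_smul]
    have hfin : ∀ (y : GL (Fin 3) F) (U : Matrix (Fin 3) (Fin 3) F),
        (y : Matrix (Fin 3) (Fin 3) F) * (f.P : Matrix (Fin 3) (Fin 3) F) = (f.P : Matrix (Fin 3) (Fin 3) F) * U →
        ctr p U * U = 1 → y ∈ Subgroup.normalizer (R : Set (GL (Fin 3) F)) →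
        (∀ t : F, U * Matrix.diagonal ![t, 1, 1] = Matrix.diagonal ![t, 1, 1] * U) →
        ∀ g : GL (Fin 3) F, g⁻¹ * (S * x) * g = y →
        ∃ g ∈ SU', g⁻¹ * x * g ∈ Cfsg.Geo.subgroupNormalizer R := by
      intro y U hyP hU hy hcomm g hgy
      obtain ⟨⟨w, hw⟩, hwy⟩ := isConj_iff.1 (GU_isConj_of_similar hF
        (⟨S * x, mul_mem hSU hx.1⟩ : Cfsg.GU 3 F p) ⟨y, hconjU y U hU hyP⟩
        (isConj_iff.2 ⟨g⁻¹, by rw [inv_inv]; exact hgy⟩))
      have hwy' : w * (S * x) * w⁻¹ = y := congrArg Subtype.val hwy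
      set t : F := (w : Matrix (Fin 3) (Fin 3) F).det with ht
      have htn : t ^ (p + 1) = 1 := by
        have := congrArg Units.val (CfsgLib.ClassicalGroups.GU_det_pow hF ⟨w, hw⟩)
        rwa [Units.val_pow_eq_pow_val] at this
      have htinv : (t⁻¹) ^ (p + 1) = 1 := by rw [inv_pow, htn, inv_one]
      have ht0 : t ≠ 0 := fun h => by simp [h] at htn
      let D := Matrix.GeneralLinearGroup.mkOfDetNeZero (Matrix.diagonal ![t⁻¹, 1, 1])
        (by simp [Matrix.det_diagonal, Fin.prod_univ_three, ht0])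
      set c := f.P * D * f.P⁻¹ with hc
      have hcP : (c : Matrix (Fin 3) (Fin 3) F) * (f.P : Matrix (Fin 3) (Fin 3) F) =
          (f.P : Matrix (Fin 3) (Fin 3) F) * Matrix.diagonal ![t⁻¹, 1, 1] := by
        rw [hc, ← Units.val_mul, inv_mul_cancel_right, Units.val_mul]; rfl
      have hcU : c ∈ Cfsg.GU 3 F p := hconjU c _ (by
        rw [hctr, Matrix.diagonal_map (map_zero τ), Matrix.diagonal_transpose, Matrix.diagonal_mul_diagonal,
          ← Matrix.diagonal_one]
        congr 1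
        funext i
        fin_cases i <;> simp [hτ]
        rw [← mul_inv, ← pow_succ, htn, inv_one]) hcP
      clear_value c
      have hcy : c * y = y * c := by
        refine Units.ext (f.P.isUnit.mul_right_cancel ?_)
        rw [Units.val_mul, Units.val_mul, mul_assoc, hyP, ← mul_assoc, hcP, mul_assoc, ← hcomm, ← mul_assoc,
          ← hyP, mul_assoc, mul_assoc, hcP]
      have hdet : ((c * w : GL (Fin 3) F) : Matrix (Fin 3) (Fin 3) F).det = 1 := by
        have h := congrArg Matrix.det hcP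
        rw [Matrix.det_mul, Matrix.det_mul, mul_comm] at h
        rw [Units.val_mul, Matrix.det_mul, mul_left_cancel₀ ((Matrix.isUnit_iff_isUnit_det _).1 f.P.isUnit).ne_zero h]
        simp [Matrix.det_diagonal, Fin.prod_univ_three, ← ht, ht0]
      refine ⟨(c * w)⁻¹, inv_mem ⟨mul_mem hcU hw, (hSL _).2 hdet⟩, ?_⟩
      rw [inv_inv]
      have hS' : ∀ u : GL (Fin 3) F, u * S = S * u := fun u =>
        Units.ext (by rw [Units.val_mul, Units.val_mul, hS]; simp)
      have e : c * w * x * (c * w)⁻¹ = S⁻¹ * y := by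
        rw [eq_inv_mul_iff_mul_eq]
        calc S * (c * w * x * (c * w)⁻¹) = c * (w * (S * x) * w⁻¹) * c⁻¹ := by
              rw [← mul_assoc S, ← mul_assoc S, ← mul_assoc S, ← hS' c, mul_assoc c S w, ← hS' w]; group
          _ = y := by rw [hwy', hcy, mul_inv_cancel_right]
      rw [e]
      exact mul_mem (inv_mem hSn) hy
    rcases hsub with ⟨rfl, hs3⟩ | rfl
    · have h2r : IsPrimitiveRoot (-1 : F) 2 :=
        IsPrimitiveRoot.mk_of_lt _ two_pos (by norm_num) fun l hl0 hl2 h => by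
          rw [show l = 1 by omega, pow_one] at h
          exact h2F (by linear_combination -h)
      obtain ⟨Q, l, hl, hQ⟩ := exists_eigen_matrix h2r (by exact_mod_cast h2F) he
      have hl1 : ∀ i, l i = 1 ∨ l i = -1 := fun i => sq_eq_one_iff.1 (hl i)
      have hprod : l 0 * l 1 * l 2 = 1 := by
        have h := congrArg Matrix.det hQ
        rw [Matrix.det_mul, Matrix.det_mul, Matrix.det_diagonal, Fin.prod_univ_three, Units.val_mul, Matrix.det_mul,
          hdx, mul_one, hS, Matrix.det_smul, Matrix.det_one, mul_one, Fintype.card_fin, hs3, one_mul] at h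
        exact (mul_eq_left₀ ((Matrix.isUnit_iff_isUnit_det _).1 Q.isUnit).ne_zero).1 h.symm
      have hne : ∃ i, l i = -1 := by
        by_contra hno
        push Not at hno
        have hl' : Matrix.diagonal l = 1 := by
          rw [show l = fun _ => 1 from funext fun i => (hl1 i).resolve_right (hno i), Matrix.diagonal_one]
        rw [hl', mul_one] at hQ
        have h : S * x = 1 := Units.ext (Q.isUnit.mul_right_cancel (by rw [Units.val_one, one_mul]; exact hQ))
        refine hns s⁻¹ ?_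
        have e : (S : Matrix (Fin 3) (Fin 3) F) * (x : Matrix (Fin 3) (Fin 3) F) = 1 := congrArg Units.val h
        rw [hS, smul_mul_assoc, one_mul] at e
        rw [← e, smul_smul, inv_mul_cancel₀ hs0, one_smul]
      -- the negated swap of the frame and its eigenvectors
      let W : Matrix (Fin 3) (Fin 3) F := !![-1, 0, 0; 0, 0, -1; 0, -1, 0]
      let Wg := Matrix.GeneralLinearGroup.mkOfDetNeZero W (by simp [W, Matrix.det_fin_three])
      have hy : ((f.P * Wg * f.P⁻¹ : GL (Fin 3) F) : Matrix (Fin 3) (Fin 3) F) * (f.P : Matrix (Fin 3) (Fin 3) F) =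
          (f.P : Matrix (Fin 3) (Fin 3) F) * W := by
        rw [← Units.val_mul, inv_mul_cancel_right, Units.val_mul]; rfl
      obtain ⟨K, hK, hKl⟩ : ∃ K : Matrix (Fin 3) (Fin 3) F, K.det ≠ 0 ∧ W * K = K * Matrix.diagonal l := by
        have h21 : (-1 : F) ≠ 1 := fun h => h2F (by linear_combination -h)
        rcases hl1 0 with e0 | e0 <;> rcases hl1 1 with e1 | e1 <;> rcases hl1 2 with e2 | e2
        all_goals first
          | (exfalso; rw [e0, e1, e2] at hprod; exact h21 (by linear_combination hprod))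
          | (exfalso; obtain ⟨i, hi⟩ := hne; fin_cases i <;> first | exact h21 (hi.symm.trans e0) | exact h21 (hi.symm.trans e1) | exact h21 (hi.symm.trans e2))
          | skip
        · exact ⟨!![0, 1, 0; 1, 0, 1; -1, 0, 1], by
            simp [Matrix.det_fin_three]; intro h; exact h2F (by linear_combination -h), by
            ext i j; fin_cases i <;> fin_cases j <;> simp [W, Matrix.mul_apply, Fin.sum_univ_three, Matrix.diagonal_apply, e0, e1, e2]⟩
        · exact ⟨!![1, 0, 0; 0, 1, 1; 0, -1, 1], by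
            simp [Matrix.det_fin_three]; intro h; exact h2F (by linear_combination h), by
            ext i j; fin_cases i <;> fin_cases j <;> simp [W, Matrix.mul_apply, Fin.sum_univ_three, Matrix.diagonal_apply, e0, e1, e2]⟩
        · exact ⟨!![1, 0, 0; 0, 1, 1; 0, 1, -1], by
            simp [Matrix.det_fin_three]; intro h; exact h2F (by linear_combination -h), by
            ext i j; fin_cases i <;> fin_cases j <;> simp [W, Matrix.mul_apply, Fin.sum_univ_three, Matrix.diagonal_apply, e0, e1, e2]⟩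
      let Kg := Matrix.GeneralLinearGroup.mkOfDetNeZero K hK
      obtain ⟨g, -, hgy⟩ := exists_det_one_conj (P := f.P * Kg) hQ (y := f.P * Wg * f.P⁻¹) (by
        rw [Units.val_mul f.P Kg, ← mul_assoc, hy, mul_assoc, show (Kg : Matrix (Fin 3) (Fin 3) F) = K from rfl, hKl, ← mul_assoc])
      refine hfin _ W hy ?_ (swap_mem_normalizer f hR hRe hy) (fun t => ?_) g hgy
      · rw [hctr]
        ext i j; fin_cases i <;> fin_cases j <;> simp [W, Matrix.mul_apply, Fin.sum_univ_three]
      · ext i j; fin_cases i <;> fin_cases j <;> simp [W, Matrix.mul_apply, Fin.sum_univ_three]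
    · obtain ⟨Q, l, hl, hQ⟩ := exists_eigen_matrix f.hω (by
        intro h
        have : p ∣ 3 := (CharP.cast_eq_zero_iff F p 3).1 h
        have := Nat.le_of_dvd (by norm_num) this
        omega) he
      let D := Matrix.GeneralLinearGroup.mkOfDetNeZero (Matrix.diagonal l)
        (by rw [Matrix.det_diagonal]; exact Finset.prod_ne_zero_iff.2 fun i _ h => by simpa [h] using hl i)
      have hy : ((f.P * D * f.P⁻¹ : GL (Fin 3) F) : Matrix (Fin 3) (Fin 3) F) * (f.P : Matrix (Fin 3) (Fin 3) F) =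
          (f.P : Matrix (Fin 3) (Fin 3) F) * Matrix.diagonal l := by
        rw [← Units.val_mul, inv_mul_cancel_right, Units.val_mul]; rfl
      obtain ⟨g, -, hgy⟩ := exists_det_one_conj hQ hy
      refine hfin _ _ hy ?_ (diag_mem_normalizer f hR l hl hy) (fun t => ?_) g hgy
      · rw [hctr, Matrix.diagonal_map (map_zero τ), Matrix.diagonal_transpose, Matrix.diagonal_mul_diagonal,
          ← Matrix.diagonal_one]
        congr 1
        funext i
        rw [hτ, ← pow_succ, hnone _ (hl i)]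
      · rw [Matrix.diagonal_mul_diagonal, Matrix.diagonal_mul_diagonal]
        simp [mul_comm]

end Cfsg.Agent.S5999
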