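import Cfsg.Statements.S6000
import Cfsg.Agent.Lib.PrimeElusive.SymplGroups
import Cfsg.Agent.Lib.SemisimpleClass.Classes
import Cfsg.Agent.Lib.PrimeElusive.ExtraThree
-- import your own Cfsg.Agent.* helpers here

set_option autoImplicit false
open scoped MatrixGroups
open Cfsg

namespace Cfsg.Agent.S6000

open Matrix CfsgLib.PrimeElusive.SymplType

theorem conj_SL {F : Type*} [Field F] [Fintype F] {p n : ℕ} [Fact p.Prime] [CharP F p] {x y : GL (Fin 4) F}
    (hd : (mt x).det = 1) (hx : x ^ n = 1) (hy : y ^ n = 1) (hn : n.Coprime p)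
    (hc : (mt x).charpoly = (mt y).charpoly) :
    ∃ g ∈ Cfsg.Geo.specialLinear (Fin 4) F, g⁻¹ * x * g = y := by
  let X : Matrix.SpecialLinearGroup (Fin 4) F := ⟨mt x, hd⟩
  let Y : Matrix.SpecialLinearGroup (Fin 4) F := ⟨mt y, (det_eq_of_charpoly hc) ▸ hd⟩
  have hXn : X ^ n = 1 := Subtype.ext (by
    rw [Matrix.SpecialLinearGroup.coe_pow]
    exact (Units.val_pow_eq_pow_val x n).symm.trans (congrArg Units.val hx))
  have hYn : Y ^ n = 1 := Subtype.ext (by
    rw [Matrix.SpecialLinearGroup.coe_pow]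
    exact (Units.val_pow_eq_pow_val y n).symm.trans (congrArg Units.val hy))
  obtain ⟨c, hc'⟩ := isConj_iff.1 (CfsgLib.SemisimpleClass.SL_isConj_of_charpoly_eq p 4 X Y
    (hn.coprime_dvd_left (orderOf_dvd_of_pow_eq_one hXn)) (hn.coprime_dvd_left (orderOf_dvd_of_pow_eq_one hYn)) hc)
  refine ⟨(Matrix.SpecialLinearGroup.toGL c)⁻¹, inv_mem (MonoidHom.mem_ker.2 (Units.ext ?_)), ?_⟩
  · exact c.2
  · rw [inv_inv]
    have e := congrArg Matrix.SpecialLinearGroup.toGL hc'
    rw [map_mul, map_mul, map_inv] at e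
    rw [show x = Matrix.SpecialLinearGroup.toGL X from Units.ext rfl,
      show y = Matrix.SpecialLinearGroup.toGL Y from Units.ext rfl]
    exact e

/-- Elements of prime order of PSL_4(p), p ≡ 1 (mod 4), and the normalizer of a 2-group of symplectic type of order 2⁶. Here `T = PSL_4(F)` for the field `F` with `p` elements, `p` a prime with `p ≡ 1 (mod 4)`; `R` is an absolutely irreducible subgroup of GL_4(F) of order 2⁶ that is a 2-group of symplectic type of exponent 4 with centre of order 4 (the central product of the scalars of order 4 with an extraspecial group 2^{1+4}), and `H` is the subgroup of matrices of determinant 1 normalizing `R` — a subgroup of type 2⁴.Sp₄(2) (maximality is not assumed). Ω is the set of cosets of `H` in `T`, so an element of `T` of prime order `r` (a matrix `x` of determinant 1 with `x^r` scalar, `x` not scalar) fixes a point of Ω exactly when some conjugate of `x` by a matrix of determinant 1 normalizes `R`. Let `r` be a prime dividing the index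 of `H`. Then every element of `T` of order `r` fixes a point of Ω if and only if `r = 2`, or `r = 3` and `p ≡ 2 (mod 3)`, or `r = 5` and `p ≡ ±2 (mod 5)` (`p` has multiplicative order 4 modulo 5). -/
theorem result {F : Type*} [Field F] [Fintype F] {p : ℕ} [Fact p.Prime] [CharP F p] (hF : Fintype.card F = p) (hp4 : p % 4 = 1)
    (R : Subgroup (GL (Fin 4) F)) (hR : Cfsg.Geo.IsLinearSymplecticTypeData 2 R) (hR6 : Nat.card R = 2 ^ 6)
    (r : ℕ) [Fact r.Prime]
    (hΩ : r ∣ (Cfsg.Geo.subgroupNormalizer R).relIndex (Cfsg.Geo.specialLinear (Fin 4) F)) :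
    (∀ x ∈ Cfsg.Geo.specialLinear (Fin 4) F, (∃ z : F, ((x ^ r : GL (Fin 4) F) : Matrix (Fin 4) (Fin 4) F) = z • (1 : Matrix (Fin 4) (Fin 4) F)) →
      (∀ z : F, (x : Matrix (Fin 4) (Fin 4) F) ≠ z • (1 : Matrix (Fin 4) (Fin 4) F)) →
      ∃ g ∈ Cfsg.Geo.specialLinear (Fin 4) F, g⁻¹ * x * g ∈ Cfsg.Geo.subgroupNormalizer R) ↔ (r = 2 ∨ (r = 3 ∧ p % 3 = 2) ∨ (r = 5 ∧ orderOf (p : ZMod 5) = 4)) := by
  classical
  have hp := (Fact.out : p.Prime)
  have hr := (Fact.out : r.Prime)
  have hp5 : 5 ≤ p := by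
    have h4 : p ≠ 4 := fun h => absurd (h ▸ hp) (by norm_num)
    have := hp.two_le
    omega
  have hFne : ∀ m : ℕ, 0 < m → m < 5 → (m : F) ≠ 0 := fun m h0 h5 h => by
    have := Nat.le_of_dvd h0 ((CharP.cast_eq_zero_iff F p m).1 h)
    omega
  have h2 : (2 : F) ≠ 0 := by exact_mod_cast hFne 2 (by norm_num) (by norm_num)
  have h3 : (3 : F) ≠ 0 := by exact_mod_cast hFne 3 (by norm_num) (by norm_num)
  obtain ⟨q, e, -, -, hcs⟩ := hR.field
  have hz : Nat.card (Subgroup.center R) = 4 := by
    rcases hcs with ⟨h, -⟩ | ⟨-, -, h, -⟩ | ⟨-, -, h, -⟩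
    · exact absurd h (by decide)
    · exact h
    · simp at h
  have D := data_of_symplecticType (by simp) h2 hR.symplecticType hR.absIrred (by rw [hR6]; norm_num) hz (by norm_num)
  obtain ⟨fr⟩ := D.frame_four rfl
  have hSL : ∀ g : GL (Fin 4) F, g ∈ Cfsg.Geo.specialLinear (Fin 4) F ↔ (mt g).det = 1 :=
    fun g => ⟨fun h => congrArg Units.val (MonoidHom.mem_ker.1 h), fun h => MonoidHom.mem_ker.2 (Units.ext h)⟩
  have hc4 : ∀ (g : GL (Fin 4) F) (c : F), (mt g).det = 1 → mt g = c • 1 → c ^ 4 = 1 := fun g c hd hg => by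
    rwa [hg, Matrix.det_smul, Matrix.det_one, mul_one, Fintype.card_fin] at hd
  have : CharP (AlgebraicClosure F) p :=
    charP_of_injective_algebraMap (algebraMap F (AlgebraicClosure F)).injective p
  have hinv : ∀ y : GL (Fin 4) F, True → (CfsgLib.Recog.SelfReciprocalRoots.eigen (mt y)).map
      (fun a => a ^ p) = CfsgLib.Recog.SelfReciprocalRoots.eigen (mt y) := fun y _ => by
    conv_rhs => rw [← CfsgLib.Recog.SelfReciprocalRoots.map_frobenius (mt y), hF]
  have hfinj : Function.Injective fun a : AlgebraicClosure F => a ^ p := (frobenius (AlgebraicClosure F) p).injective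
  constructor
  · intro hall
    by_contra hno
    push Not at hno
    obtain ⟨hno2, hno3, hno5⟩ := hno
    have key : ∀ x : GL (Fin 4) F, (mt x).det = 1 → x ^ r = 1 → ¬ Sc x →
        ∃ g : GL (Fin 4) F, g⁻¹ * x * g ∈ Subgroup.normalizer (R : Set (GL (Fin 4) F)) := fun x hd hx hns => by
      obtain ⟨g, -, hg⟩ := hall x ((hSL x).2 hd) ⟨1, by rw [hx, Units.val_one, one_smul]⟩ (not_sc_iff.1 hns)
      exact ⟨g, hg⟩
    by_cases hr3 : r = 3
    · subst hr3
      have hp1 : p % 3 = 1 := by
        have := hno3 rfl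
        have : p % 3 ≠ 0 := fun h => by
          have := (Nat.prime_dvd_prime_iff_eq (by norm_num) hp).1 (Nat.dvd_of_mod_eq_zero h)
          omega
        omega
      obtain ⟨ω, hω⟩ := CfsgLib.PrimeElusive.ExtraThree.exists_root (F := F) (by rw [hF]; omega)
      have hω3 := hω.pow_eq_one
      have hω0 : ω ≠ 0 := hω.ne_zero (by norm_num)
      have hgeom : 1 + ω + ω ^ 2 = 0 := by
        have := hω.geom_sum_eq_zero (by norm_num)
        simpa [Finset.sum_range_succ] using this
      let d : Fin 4 → F := ![ω, ω, ω, 1]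
      let d' : Fin 4 → F := ![ω ^ 2, ω ^ 2, ω ^ 2, 1]
      have hdd : ∀ i, d i * d' i = 1 := by
        intro i; fin_cases i <;> simp [d, d', ← pow_succ', hω3]
      let x : GL (Fin 4) F := ⟨Matrix.diagonal d, Matrix.diagonal d',
        by rw [Matrix.diagonal_mul_diagonal, ← Matrix.diagonal_one]; exact congrArg _ (funext hdd),
        by rw [Matrix.diagonal_mul_diagonal, ← Matrix.diagonal_one]
           exact congrArg _ (funext fun i => (mul_comm _ _).trans (hdd i))⟩
      have hns : ¬ Sc x := by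
        rintro ⟨c, hc⟩
        have h0 := congrFun (congrFun hc 0) 0
        have h1 := congrFun (congrFun hc 3) 3
        simp [x, mt, d] at h0 h1
        exact hω.ne_one (by norm_num) (h0.trans h1.symm)
      obtain ⟨g, hg⟩ := key x (by
          show (Matrix.diagonal d).det = 1
          rw [Matrix.det_diagonal, Fin.prod_univ_four]; simp [d]; linear_combination hω3)
        (Units.ext (by
          rw [Units.val_pow_eq_pow_val, Units.val_one]
          show Matrix.diagonal d ^ 3 = 1
          rw [Matrix.diagonal_pow, ← Matrix.diagonal_one]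
          congr 1
          funext i; fin_cases i <;> simp [d, hω3])) hns
      refine D.not_seven (Or.inr rfl) h3 (Units.ext ?_) hns ?_ hg
      · rw [Units.val_pow_eq_pow_val, Units.val_one]
        show Matrix.diagonal d ^ 3 = 1
        rw [Matrix.diagonal_pow, ← Matrix.diagonal_one]
        congr 1
        funext i; fin_cases i <;> simp [d, hω3]
      · show (Matrix.diagonal d).trace * (Matrix.diagonal d').trace = 7
        rw [Matrix.trace_diagonal, Matrix.trace_diagonal, Fin.sum_univ_four, Fin.sum_univ_four]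
        simp [d, d']
        linear_combination 9 * hω3 + 3 * hgeom
    by_cases hr5 : r = 5
    · subst hr5
      have hord : ¬ (p % 5 = 2 ∨ p % 5 = 3) := fun h => hno5 rfl ((orderOf_zmod_five p).2 h)
      by_cases hp55 : p = 5
      · subst hp55
        let u : Fin 4 → F := Pi.single 0 1
        let w : Fin 4 → F := Pi.single 1 1
        have huw : w ⬝ᵥ u = 0 := by simp [u, w]
        obtain ⟨x, hxv, hx5, hdet, hns⟩ := exists_transvection 5 huw (by simp [u]) (by simp [w])
        obtain ⟨g, hg⟩ := key x hdet hx5 hns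
        exact D.not_transvection (by norm_num) hx5 hns huw hxv g hg
      have h5 : (5 : F) ≠ 0 := fun h => hp55
        ((Nat.prime_dvd_prime_iff_eq hp (by norm_num)).1 ((CharP.cast_eq_zero_iff F p 5).1 (by exact_mod_cast h)))
      have hp0 : p % 5 ≠ 0 := fun h => hp55
        ((Nat.prime_dvd_prime_iff_eq (by norm_num) hp).1 (Nat.dvd_of_mod_eq_zero h)).symm
      obtain ⟨η, hη, -⟩ := exists_eta p 1 (by rw [pow_one]; exact hF) (F := F) (by omega)
      let A : Matrix (Fin 2) (Fin 2) F := !![0, -1; 1, η]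
      have hAd : A.det = 1 := by simp [A, Matrix.det_fin_two]
      have hAt : A.trace = η := by simp [A, Matrix.trace_fin_two]
      obtain ⟨x, -, hx5, hns, hd, ht, ht'⟩ := exists_blk (finSumFinEquiv : Fin 2 ⊕ Fin 2 ≃ Fin 4) hAd
        (pow_five_two A hAd hAt hη) (by rw [hAt]; exact (eta_ne h5 hη).1)
      obtain ⟨g, hg⟩ := key x hd hx5 hns
      have h := (D.criterion_large (Or.inr rfl) le_rfl hx5 hns hg).2
      rw [ht, ht', hAt] at h
      exact (eta_ne h5 hη).2 h
    have h7 : 5 ≤ r := by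
      have : r ≠ 4 := fun h => absurd (h ▸ hr) (by norm_num)
      have := hr.two_le
      omega
    have : Finite (Cfsg.Geo.specialLinear (Fin 4) F) := inferInstance
    obtain ⟨x, hx⟩ := exists_prime_orderOf_dvd_card' r (hΩ.trans (Subgroup.relIndex_dvd_card _ _))
    rw [← Subgroup.orderOf_coe] at hx
    have hns : ¬ Sc (x : GL (Fin 4) F) := not_sc_of_orderOf (by omega) hx fun c hc => hc4 _ c ((hSL _).1 x.2) hc
    obtain ⟨g, hg⟩ := key _ ((hSL _).1 x.2) (hx ▸ pow_orderOf_eq_one _) hns
    exact hr5 (D.criterion_large (Or.inr rfl) h7 (hx ▸ pow_orderOf_eq_one _) hns hg).1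
  · intro hcases x hx ⟨c, hcx⟩ hxn
    have hdx := (hSL x).1 hx
    have hns : ¬ Sc x := not_sc_iff.2 hxn
    have hc4' : c ^ 4 = 1 := hc4 (x ^ r) c (by
      show ((x ^ r : GL (Fin 4) F) : Matrix (Fin 4) (Fin 4) F).det = 1
      rw [Units.val_pow_eq_pow_val, Matrix.det_pow]
      show (mt x).det ^ r = 1
      rw [hdx, one_pow]) hcx
    have hcop : ∀ n, n ∣ 8 ∨ n = 3 ∨ (n = 5 ∧ p ≠ 5) → n.Coprime p := by
      rintro n (h | rfl | ⟨rfl, h⟩)
      · exact (((Nat.coprime_primes Nat.prime_two hp).2 (by omega)).pow_left 3).coprime_dvd_left h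
      · exact (Nat.coprime_primes (by norm_num) hp).2 (by omega)
      · exact (Nat.coprime_primes (by norm_num) hp).2 (Ne.symm h)
    have odd_case : Odd r → (∀ x : GL (Fin 4) F, (mt x).det = 1 → x ^ r = 1 → ¬ Sc x →
        ∃ y ∈ Subgroup.normalizer (R : Set (GL (Fin 4) F)), y ^ r = 1 ∧ True ∧
          (mt x).charpoly = (mt y).charpoly) → r.Coprime p →
        ∃ g ∈ Cfsg.Geo.specialLinear (Fin 4) F, g⁻¹ * x * g ∈ Cfsg.Geo.subgroupNormalizer R := by
      intro hodd hwit hcp
      obtain ⟨s, S, hs4, -, hS, hSx⟩ := exists_rescale hodd hc4' hcx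
      have hSsc : Sc S := ⟨s, hS⟩
      have hd' : (mt (S * x)).det = 1 := by
        show (mt S * mt x).det = 1
        rw [Matrix.det_mul, hdx, hS, Matrix.det_smul, Matrix.det_one, Fintype.card_fin, hs4]; ring
      have hns' : ¬ Sc (S * x) := by
        rintro ⟨d, hd⟩
        have hs0 : s ≠ 0 := fun h => by simp [h] at hs4
        change mt S * mt x = _ at hd
        rw [hS, smul_mul_assoc, one_mul] at hd
        exact hns ⟨s⁻¹ * d, by rw [mul_smul, ← hd, smul_smul, inv_mul_cancel₀ hs0, one_smul]⟩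
      obtain ⟨y, hy, hyr, -, hcp'⟩ := hwit _ hd' hSx hns'
      obtain ⟨g, hg, hgy⟩ := conj_SL hd' hSx hyr hcp hcp'
      refine ⟨g, hg, ?_⟩
      have e : g⁻¹ * x * g = S⁻¹ * y := by
        rw [← hgy, ← mul_assoc g⁻¹ S x, ← hSsc.commute g⁻¹]; group
      rw [e]
      exact mul_mem (inv_mem (scalar_normalizes hSsc)) hy
    rcases hcases with rfl | ⟨rfl, hp3⟩ | ⟨rfl, hp5'⟩
    · have hc0 : c ≠ 0 := fun h => by simp [h] at hc4'
      have hxx : mt x * mt x = c • 1 := by rw [← hcx, Units.val_pow_eq_pow_val, pow_two]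
      obtain ⟨y, hy, hyy, -, hcp⟩ := D.witness_two fr (Q := fun _ => True) (fun _ _ => trivial)
        (fun _ _ _ _ => trivial) hc0 hxx hns hdx (fun _ => ⟨rfl, fun _ _ => trivial⟩)
      have h8 : ∀ w : GL (Fin 4) F, mt w * mt w = c • 1 → w ^ 8 = 1 := fun w hw => Units.ext (by
        rw [Units.val_pow_eq_pow_val, Units.val_one, show 8 = 2 * 4 from rfl, pow_mul, pow_two]
        show (mt w * mt w) ^ 4 = 1
        rw [hw, _root_.smul_pow, one_pow, hc4', one_smul])
      obtain ⟨g, hg, hgy⟩ := conj_SL hdx (h8 x hxx) (h8 y hyy) (hcop 8 (Or.inl dvd_rfl)) hcp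
      exact ⟨g, hg, hgy ▸ hy⟩
    · exact odd_case (by decide) (fun x _ hx hns => D.witness_three fr (Q := fun _ => True) (fun _ _ => trivial)
        hfinj hinv rfl h3 hp3 (fun a _ => rfl) trivial hx hns) (hcop 3 (Or.inr (Or.inl rfl)))
    · have hm := (orderOf_zmod_five p).1 hp5'
      have hp55 : p ≠ 5 := by omega
      have h5 : (5 : F) ≠ 0 := fun h => hp55
        ((Nat.prime_dvd_prime_iff_eq hp (by norm_num)).1 ((CharP.cast_eq_zero_iff F p 5).1 (by exact_mod_cast h)))
      exact odd_case (by decide) (fun x _ hx hns => D.witness_five fr (Q := fun _ => True) (fun _ _ => trivial)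
        hfinj hinv h5 hm (fun a _ => rfl) trivial hx hns) (hcop 5 (Or.inr (Or.inr ⟨rfl, hp55⟩)))

end Cfsg.Agent.S6000
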