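import Cfsg.Statements.S6001
import Cfsg.Agent.Lib.PrimeElusive.SymplGroups
import Cfsg.Agent.Lib.PrimeElusive.ExtraThree
import Cfsg.Agent.Lib.SemisimpleClass.UnitaryDet
-- import your own Cfsg.Agent.* helpers here

set_option autoImplicit false
open scoped MatrixGroups
open Cfsg

namespace Cfsg.Agent.S6001

open Matrix CfsgLib.PrimeElusive.SymplType CfsgLib.IsomConj

theorem conj_SU {F : Type*} [Field F] [Fintype F] {p n : ℕ} [Fact p.Prime] [CharP F p]
    (hF : Fintype.card F = p ^ 2) {x y : GL (Fin 4) F} (hxU : x ∈ Cfsg.GU 4 F p) (hyU : y ∈ Cfsg.GU 4 F p)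
    (hd : (mt x).det = 1) (hx : x ^ n = 1) (hy : y ^ n = 1) (hn : n.Coprime p)
    (hc : (mt x).charpoly = (mt y).charpoly) :
    ∃ g ∈ Cfsg.GU 4 F p ⊓ Cfsg.Geo.specialLinear (Fin 4) F, g⁻¹ * x * g = y := by
  let X₀ : Matrix.SpecialLinearGroup (Fin 4) F := ⟨mt x, hd⟩
  let Y₀ : Matrix.SpecialLinearGroup (Fin 4) F := ⟨mt y, (det_eq_of_charpoly hc) ▸ hd⟩
  have hX : Matrix.SpecialLinearGroup.toGL X₀ = x := Units.ext rfl
  have hY : Matrix.SpecialLinearGroup.toGL Y₀ = y := Units.ext rfl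
  let X : ↥(Cfsg.SU 4 F p) := ⟨X₀, CfsgLib.ClassicalGroups.mem_SU_iff_toGL.2 (hX.symm ▸ hxU)⟩
  let Y : ↥(Cfsg.SU 4 F p) := ⟨Y₀, CfsgLib.ClassicalGroups.mem_SU_iff_toGL.2 (hY.symm ▸ hyU)⟩
  have hXn : X ^ n = 1 := Subtype.ext (Subtype.ext (by
    rw [SubmonoidClass.coe_pow, Matrix.SpecialLinearGroup.coe_pow]
    exact (Units.val_pow_eq_pow_val x n).symm.trans (congrArg Units.val hx)))
  have hYn : Y ^ n = 1 := Subtype.ext (Subtype.ext (by
    rw [SubmonoidClass.coe_pow, Matrix.SpecialLinearGroup.coe_pow]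
    exact (Units.val_pow_eq_pow_val y n).symm.trans (congrArg Units.val hy)))
  obtain ⟨c, hc'⟩ := isConj_iff.1 (CfsgLib.SemisimpleClass.SU_isConj_of_charpoly_eq hF p X Y
    (hn.coprime_dvd_left (orderOf_dvd_of_pow_eq_one hXn)) (hn.coprime_dvd_left (orderOf_dvd_of_pow_eq_one hYn)) hc)
  refine ⟨(Matrix.SpecialLinearGroup.toGL c.1)⁻¹, inv_mem ⟨CfsgLib.ClassicalGroups.mem_SU_iff_toGL.1 c.2,
    MonoidHom.mem_ker.2 (Units.ext c.1.2)⟩, ?_⟩
  rw [inv_inv, ← hX, ← hY]
  have e := congrArg (fun t : ↥(Cfsg.SU 4 F p) => Matrix.SpecialLinearGroup.toGL (t : Matrix.SpecialLinearGroup (Fin 4) F)) hc'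
  simp only [Subgroup.coe_mul, Subgroup.coe_inv, map_mul, map_inv] at e
  exact e

theorem exists_norm {F : Type*} [Field F] [Fintype F] {p : ℕ} [Fact p.Prime] [CharP F p]
    (hF : Fintype.card F = p ^ 2) {u : F} (hu0 : u ≠ 0) (hu : u ^ p = u) : ∃ b : F, b ^ (p + 1) = u := by
  classical
  obtain ⟨g, hg⟩ := IsCyclic.exists_generator (α := Fˣ)
  obtain ⟨k, hk⟩ := (mem_powers_iff_mem_zpowers.2 (hg (Units.mk0 u hu0)) : Units.mk0 u hu0 ∈ Submonoid.powers g)
  have hp := (Fact.out : p.Prime).two_le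
  have hord : orderOf g = (p - 1) * (p + 1) := by
    rw [orderOf_eq_card_of_forall_mem_zpowers hg, Nat.card_units, Nat.card_eq_fintype_card, hF]
    obtain ⟨j, rfl⟩ : ∃ j, p = j + 1 := ⟨p - 1, by omega⟩
    simp only [Nat.add_sub_cancel]
    rw [show (j + 1) ^ 2 = j * (j + 1 + 1) + 1 by ring, Nat.add_sub_cancel]
  have hu1 : (Units.mk0 u hu0) ^ (p - 1) = 1 := by
    refine Units.ext (mul_right_cancel₀ hu0 ?_)
    rw [Units.val_pow_eq_pow_val, Units.val_mk0, Units.val_one, one_mul, ← pow_succ, Nat.sub_add_cancel (by omega), hu]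
  simp only at hk
  rw [← hk, ← pow_mul] at hu1
  have hd := orderOf_dvd_of_pow_eq_one hu1
  rw [hord, mul_comm k] at hd
  obtain ⟨j, rfl⟩ := Nat.dvd_of_mul_dvd_mul_left (by omega) hd
  refine ⟨((g ^ j : Fˣ) : F), ?_⟩
  rw [← Units.val_pow_eq_pow_val, ← pow_mul, mul_comm j, hk, Units.val_mk0]

/-- Elements of prime order of PSU_4(p), p ≡ 3 (mod 4), and the normalizer of a 2-group of symplectic type of order 2⁶. Here `T = PSU_4(p)` for a prime `p ≡ 3 (mod 4)`, realised through `SU_4(p)`, the matrices of determinant 1 over the field `F` with `p²` elements preserving the hermitian form `f = Σ uᵢvᵢ^p`; `R` is an absolutely irreducible subgroup of the full unitary group of `f` of order 2⁶ that is a 2-group of symplectic type of exponent 4 with centre of order 4, and `H` is the subgroup of `SU_4(p)` normalizing `R` — a subgroup of type 2⁴.Sp₄(2) (maximality is not assumed). Ω is the set of cosets of `H`, so an element of `T` of prime order `r` (`x ∈ SU_4(p)` with `x^r`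 scalar, `x` not scalar) fixes a point of Ω exactly when some `SU_4(p)`-conjugate of `x` normalizes `R`. Let `r` be a prime dividing the index of `H`. Then every element of `T` of order `r` fixes a point of Ω if and only if `r = 2`, or `r = 3` and `p ≡ 1 (mod 3)`, or `r = 5` and `p ≡ ±2 (mod 5)` (`p` has multiplicative order 4 modulo 5). -/
theorem result {F : Type*} [Field F] [Fintype F] {p : ℕ} [Fact p.Prime] [CharP F p] (hF : Fintype.card F = p ^ 2) (hp4 : p % 4 = 3)
    (R : Subgroup (GL (Fin 4) F)) (hRs : Cfsg.Geo.IsSymplecticTypeGroup 2 R) (hRi : Cfsg.Geo.ActsAbsolutelyIrreducibly (Cfsg.Geo.matrixSet R))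
    (hRU : R ≤ Cfsg.GU 4 F p) (hR6 : Nat.card R = 2 ^ 6) (hRZ : Nat.card (Subgroup.center R) = 4)
    (r : ℕ) [Fact r.Prime]
    (hΩ : r ∣ (Cfsg.Geo.subgroupNormalizer R).relIndex (Cfsg.GU 4 F p ⊓ Cfsg.Geo.specialLinear (Fin 4) F)) :
    (∀ x ∈ Cfsg.GU 4 F p ⊓ Cfsg.Geo.specialLinear (Fin 4) F, (∃ z : F, ((x ^ r : GL (Fin 4) F) : Matrix (Fin 4) (Fin 4) F) = z • (1 : Matrix (Fin 4) (Fin 4) F)) →
      (∀ z : F, (x : Matrix (Fin 4) (Fin 4) F) ≠ z • (1 : Matrix (Fin 4) (Fin 4) F)) →
      ∃ g ∈ Cfsg.GU 4 F p ⊓ Cfsg.Geo.specialLinear (Fin 4) F, g⁻¹ * x * g ∈ Cfsg.Geo.subgroupNormalizer R) ↔ (r = 2 ∨ (r = 3 ∧ p % 3 = 1) ∨ (r = 5 ∧ orderOf (p : ZMod 5) = 4)) := by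
  classical
  have hp := (Fact.out : p.Prime)
  have hr := (Fact.out : r.Prime)
  have hp3' : 3 ≤ p := by
    have := hp.two_le
    omega
  have hcastne : ∀ m : ℕ, ¬ p ∣ m → (m : F) ≠ 0 := fun m hm h => hm ((CharP.cast_eq_zero_iff F p m).1 h)
  have h2 : (2 : F) ≠ 0 := by exact_mod_cast hcastne 2 fun h => by have := Nat.le_of_dvd two_pos h; omega
  have D := data_of_symplecticType (by simp) h2 hRs hRi (by rw [hR6]; norm_num) hRZ (by norm_num)
  obtain ⟨fr⟩ := D.frame_four rfl
  set σ := frobenius F p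
  let A₀ : Adj R :=
    { σ := σ
      T := fun M => (M.map σ)ᵀ
      map_add := fun M N => by rw [Matrix.map_add _ (map_add σ), Matrix.transpose_add]
      map_smul := fun c M => by
        rw [Matrix.map_smul' σ c M (map_mul σ)]; rfl
      map_mul := fun M N => by rw [Matrix.map_mul, Matrix.transpose_mul]
      map_mem := fun g hg => (mem_GU_iff_ctr hF).1 (hRU hg) }
  have hGU : ∀ g : GL (Fin 4) F, g ∈ Cfsg.GU 4 F p ↔ A₀.Isom g := fun g => mem_GU_iff_ctr hF
  have hSL : ∀ g : GL (Fin 4) F, g ∈ Cfsg.Geo.specialLinear (Fin 4) F ↔ (mt g).det = 1 :=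
    fun g => ⟨fun h => congrArg Units.val (MonoidHom.mem_ker.1 h), fun h => MonoidHom.mem_ker.2 (Units.ext h)⟩
  have hc4 : ∀ (g : GL (Fin 4) F) (c : F), (mt g).det = 1 → mt g = c • 1 → c ^ 4 = 1 := fun g c hd hg => by
    rwa [hg, Matrix.det_smul, Matrix.det_one, mul_one, Fintype.card_fin] at hd
  have : CharP (AlgebraicClosure F) p :=
    charP_of_injective_algebraMap (algebraMap F (AlgebraicClosure F)).injective p
  have hinv : ∀ y : GL (Fin 4) F, y ∈ Cfsg.GU 4 F p → (CfsgLib.Recog.SelfReciprocalRoots.eigen (mt y)).map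
      (fun a => (a ^ p)⁻¹) = CfsgLib.Recog.SelfReciprocalRoots.eigen (mt y) := fun y hy =>
    CfsgLib.PrimeElusive.SymplRoots.map_unitary p ((mem_GU_iff_ctr hF).1 hy)
  have hfinj : Function.Injective fun a : AlgebraicClosure F => (a ^ p)⁻¹ :=
    inv_injective.comp (frobenius (AlgebraicClosure F) p).injective
  have hscalGU : ∀ (M : GL (Fin 4) F) (s : F), mt M = s • 1 → s ^ (p + 1) = 1 → M ∈ Cfsg.GU 4 F p :=
    fun M s hM hs => CfsgLib.ClassicalGroups.diagonal_mem_GU (fun _ => s) (fun _ => hs) M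
      (by show mt M = _; rw [hM, Matrix.smul_one_eq_diagonal])
  constructor
  · intro hall
    by_contra hno
    push Not at hno
    obtain ⟨hno2, hno3, hno5⟩ := hno
    have key : ∀ x : GL (Fin 4) F, x ∈ Cfsg.GU 4 F p → (mt x).det = 1 → x ^ r = 1 → ¬ Sc x →
        ∃ g : GL (Fin 4) F, g⁻¹ * x * g ∈ Subgroup.normalizer (R : Set (GL (Fin 4) F)) := fun x hU hd hx hns => by
      obtain ⟨g, -, hg⟩ := hall x ⟨hU, (hSL x).2 hd⟩ ⟨1, by rw [hx, Units.val_one, one_smul]⟩ (not_sc_iff.1 hns)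
      exact ⟨g, hg⟩
    by_cases hr3 : r = 3
    · subst hr3
      have hp1 := hno3 rfl
      by_cases hp33 : p = 3
      · subst hp33
        obtain ⟨i, -, ⟨c, hc⟩, hi2⟩ := D.exists_i rfl
        have hc2 : c * c = -1 := by
          rw [hc, smul_mul_smul_comm, one_mul] at hi2
          have := congrFun (congrFun hi2 0) 0
          simpa using this
        have hc0 : c ≠ 0 := fun h => by simp [h] at hc2
        obtain ⟨l, hl⟩ := exists_norm hF (u := (-1 : F)) (neg_ne_zero.2 one_ne_zero)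
          (by rw [Odd.neg_one_pow (by decide)])
        let v : Fin 4 → F := ![1, l, 0, 0]
        have huw : (fun j => v j ^ 3) ⬝ᵥ (c • v) = 0 := by
          simp [dotProduct, Fin.sum_univ_four, v]
          linear_combination c * hl
        have hv0 : v ≠ 0 := fun h => by simpa [v] using congrFun h 0
        obtain ⟨x, hxv, hx3, hdet, hns⟩ := exists_transvection 3 huw
          (smul_ne_zero hc0 hv0) (fun h => by simpa [v] using congrFun h 0)
        have hσc : c ^ 3 = -c := by linear_combination c * hc2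
        have h9 : ∀ a : F, (a ^ 3) ^ 3 = a := fun a => by
          rw [← pow_mul, show 3 * 3 = Fintype.card F by rw [hF]; norm_num, FiniteField.pow_card]
        have hT : A₀.T (vecMulVec (c • v) fun j => v j ^ 3) = -vecMulVec (c • v) fun j => v j ^ 3 := by
          ext a b
          show (c * v b * v a ^ 3) ^ 3 = -(c * v a * v b ^ 3)
          rw [mul_pow, mul_pow, h9, hσc]; ring
        have hxU : x ∈ Cfsg.GU 4 F 3 := by
          rw [hGU]
          show A₀.T (mt x) * mt x = 1
          rw [hxv, A₀.map_add, A₀.T_one, hT, ← sub_eq_add_neg, sub_mul, one_mul, mul_add, mul_one,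
            Matrix.vecMulVec_mul_vecMulVec, huw, zero_smul]
          ext a b; simp [vecMulVec]
        obtain ⟨g, hg⟩ := key x hxU hdet hx3 hns
        exact D.not_transvection (by norm_num) hx3 hns huw hxv g hg
      have h3 : (3 : F) ≠ 0 := by
        exact_mod_cast hcastne 3 fun h => hp33 ((Nat.prime_dvd_prime_iff_eq hp (by norm_num)).1 h)
      have hp2 : p % 3 = 2 := by
        have : p % 3 ≠ 0 := fun h =>
          hp33 ((Nat.prime_dvd_prime_iff_eq (by norm_num) hp).1 (Nat.dvd_of_mod_eq_zero h)).symm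
        omega
      obtain ⟨ω, hω⟩ := CfsgLib.PrimeElusive.ExtraThree.exists_root (F := F) (by
        rw [hF, show p ^ 2 - 1 = (p + 1) * (p - 1) by rw [← Nat.sq_sub_sq, one_pow]]
        exact Dvd.dvd.mul_right (by omega) _)
      have hω3 := hω.pow_eq_one
      have hgeom : 1 + ω + ω ^ 2 = 0 := by
        have := hω.geom_sum_eq_zero (by norm_num)
        simpa [Finset.sum_range_succ] using this
      have hωp : ω ^ (p + 1) = 1 := by
        rw [show p + 1 = 3 * ((p + 1) / 3) by omega, pow_mul, hω3, one_pow]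
      let d : Fin 4 → F := ![ω, ω, ω, 1]
      let d' : Fin 4 → F := ![ω ^ 2, ω ^ 2, ω ^ 2, 1]
      have hdd : ∀ i, d i * d' i = 1 := by
        intro i; fin_cases i <;> simp [d, d', ← pow_succ', hω3]
      let x : GL (Fin 4) F := ⟨Matrix.diagonal d, Matrix.diagonal d',
        by rw [Matrix.diagonal_mul_diagonal, ← Matrix.diagonal_one]; exact congrArg _ (funext hdd),
        by rw [Matrix.diagonal_mul_diagonal, ← Matrix.diagonal_one]
           exact congrArg _ (funext fun i => (mul_comm _ _).trans (hdd i))⟩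
      have hns : ¬ Sc x := by
        rintro ⟨c, hc⟩
        have h0 := congrFun (congrFun hc 0) 0
        have h1 := congrFun (congrFun hc 3) 3
        simp [x, mt, d] at h0 h1
        exact hω.ne_one (by norm_num) (h0.trans h1.symm)
      have hx3 : x ^ 3 = 1 := Units.ext (by
          rw [Units.val_pow_eq_pow_val, Units.val_one]
          show Matrix.diagonal d ^ 3 = 1
          rw [Matrix.diagonal_pow, ← Matrix.diagonal_one]
          congr 1
          funext i; fin_cases i <;> simp [d, hω3])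
      obtain ⟨g, hg⟩ := key x (CfsgLib.ClassicalGroups.diagonal_mem_GU d
          (fun i => by fin_cases i <;> simp [d, hωp]) x rfl)
        (by
          show (Matrix.diagonal d).det = 1
          rw [Matrix.det_diagonal, Fin.prod_univ_four]; simp [d]; linear_combination hω3) hx3 hns
      refine D.not_seven (Or.inr rfl) h3 hx3 hns ?_ hg
      show (Matrix.diagonal d).trace * (Matrix.diagonal d').trace = 7
      rw [Matrix.trace_diagonal, Matrix.trace_diagonal, Fin.sum_univ_four, Fin.sum_univ_four]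
      simp [d, d']
      linear_combination 9 * hω3 + 3 * hgeom
    by_cases hr5 : r = 5
    · subst hr5
      have hord : ¬ (p % 5 = 2 ∨ p % 5 = 3) := fun h => hno5 rfl ((orderOf_zmod_five p).2 h)
      have hp55 : p ≠ 5 := fun h => by omega
      have h5 : (5 : F) ≠ 0 := by
        exact_mod_cast hcastne 5 fun h => hp55 ((Nat.prime_dvd_prime_iff_eq hp (by norm_num)).1 h)
      have hp0 : p % 5 ≠ 0 := fun h => hp55
        ((Nat.prime_dvd_prime_iff_eq (by norm_num) hp).1 (Nat.dvd_of_mod_eq_zero h)).symm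
      obtain ⟨η, hη, hηp⟩ := exists_eta p 2 hF (F := F) (by omega)
      have h22 : (2 : F) ^ p = 2 := by rw [← frobenius_def, map_ofNat]
      have hh : (η / 2) ^ p = η / 2 := by rw [div_pow, hηp, h22]
      have hu0 : 1 - (η / 2) ^ 2 ≠ 0 := by
        intro h
        have h4 : η ^ 2 = 4 := by field_simp at h; linear_combination -h
        have h5' : η = -3 := by linear_combination hη - h4
        rw [h5'] at h4
        exact h5 (by linear_combination h4)
      obtain ⟨β, hβ⟩ := exists_norm hF hu0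
        (by rw [sub_pow_char, one_pow, ← pow_mul, mul_comm 2 p, pow_mul, hh])
      let A : Matrix (Fin 2) (Fin 2) F := !![η / 2, β; -β ^ p, η / 2]
      have hAd : A.det = 1 := by
        simp [A, Matrix.det_fin_two]; rw [pow_succ] at hβ; linear_combination hβ
      have hAt : A.trace = η := by simp [A, Matrix.trace_fin_two]; field_simp; ring
      obtain ⟨x, hxv, hx5, hns, hd, ht, ht'⟩ := exists_blk (finSumFinEquiv : Fin 2 ⊕ Fin 2 ≃ Fin 4) hAd
        (pow_five_two A hAd hAt hη) (by rw [hAt]; exact (eta_ne h5 hη).1)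
      have hxU : x ∈ Cfsg.GU 4 F p := by
        rw [hGU]
        show ((mt x).map σ)ᵀ * mt x = 1
        have e : ((blk (finSumFinEquiv : Fin 2 ⊕ Fin 2 ≃ Fin 4) A).map σ)ᵀ =
            blk (finSumFinEquiv : Fin 2 ⊕ Fin 2 ≃ Fin 4) (A.map σ)ᵀ := by
          simp [blk, Matrix.reindex_apply, ← Matrix.submatrix_map, Matrix.fromBlocks_map,
            Matrix.fromBlocks_transpose, Matrix.map_one]
        rw [hxv, e, blk_mul]
        convert blk_one (F := F) (finSumFinEquiv : Fin 2 ⊕ Fin 2 ≃ Fin 4) using 2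
        have hbp : (β ^ p) ^ p = β := by rw [← pow_mul, ← pow_two, ← hF, FiniteField.pow_card]
        have hnb : (-β ^ p) ^ p = -β := by rw [neg_pow, hbp, Odd.neg_one_pow (hp.odd_of_ne_two (by omega)), neg_one_mul]
        rw [pow_succ] at hβ
        ext a b
        fin_cases a <;> fin_cases b <;>
          simp [A, Matrix.mul_apply, Fin.sum_univ_two, σ, frobenius_def, hh, hbp, hnb]
        all_goals first
          | ring1
          | linear_combination hβ
      obtain ⟨g, hg⟩ := key x hxU hd hx5 hns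
      have h := (D.criterion_large (Or.inr rfl) le_rfl hx5 hns hg).2
      rw [ht, ht', hAt] at h
      exact (eta_ne h5 hη).2 h
    have h7 : 5 ≤ r := by
      have : r ≠ 4 := fun h => absurd (h ▸ hr) (by norm_num)
      have := hr.two_le
      omega
    obtain ⟨x, hx⟩ := exists_prime_orderOf_dvd_card' r (hΩ.trans (Subgroup.relIndex_dvd_card _ _))
    rw [← Subgroup.orderOf_coe] at hx
    have hd := (hSL _).1 x.2.2
    have hns : ¬ Sc (x : GL (Fin 4) F) := not_sc_of_orderOf (by omega) hx fun c hc => hc4 _ c hd hc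
    obtain ⟨g, hg⟩ := key _ x.2.1 hd (hx ▸ pow_orderOf_eq_one _) hns
    exact hr5 (D.criterion_large (Or.inr rfl) h7 (hx ▸ pow_orderOf_eq_one _) hns hg).1
  · intro hcases x hx ⟨c, hcx⟩ hxn
    obtain ⟨hxU, hxS⟩ := hx
    have hdx := (hSL x).1 hxS
    have hns : ¬ Sc x := not_sc_iff.2 hxn
    have hc4' : c ^ 4 = 1 := hc4 (x ^ r) c (by
      show ((x ^ r : GL (Fin 4) F) : Matrix (Fin 4) (Fin 4) F).det = 1
      rw [Units.val_pow_eq_pow_val, Matrix.det_pow]
      show (mt x).det ^ r = 1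
      rw [hdx, one_pow]) hcx
    have hcop : ∀ n, n ∣ 8 ∨ (n = 3 ∧ p ≠ 3) ∨ (n = 5 ∧ p ≠ 5) → n.Coprime p := by
      rintro n (h | ⟨rfl, h⟩ | ⟨rfl, h⟩)
      · exact (((Nat.coprime_primes Nat.prime_two hp).2 (by omega)).pow_left 3).coprime_dvd_left h
      · exact (Nat.coprime_primes (by norm_num) hp).2 (Ne.symm h)
      · exact (Nat.coprime_primes (by norm_num) hp).2 (Ne.symm h)
    have hWall : ∀ y : GL (Fin 4) F, (∀ A : Adj R, A.Isom y) → y ∈ Cfsg.GU 4 F p := fun y h => (hGU y).2 (h A₀)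
    have odd_case : Odd r → (∀ x : GL (Fin 4) F, x ∈ Cfsg.GU 4 F p → x ^ r = 1 → ¬ Sc x →
        ∃ y ∈ Subgroup.normalizer (R : Set (GL (Fin 4) F)), y ^ r = 1 ∧ y ∈ Cfsg.GU 4 F p ∧
          (mt x).charpoly = (mt y).charpoly) → r.Coprime p →
        ∃ g ∈ Cfsg.GU 4 F p ⊓ Cfsg.Geo.specialLinear (Fin 4) F,
          g⁻¹ * x * g ∈ Cfsg.Geo.subgroupNormalizer R := by
      intro hodd hwit hcp
      obtain ⟨s, S, hs4, -, hS, hSx⟩ := exists_rescale hodd hc4' hcx
      have hSsc : Sc S := ⟨s, hS⟩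
      have hSU : S ∈ Cfsg.GU 4 F p := hscalGU S s hS (by
        rw [show p + 1 = 4 * ((p + 1) / 4) by omega, pow_mul, hs4, one_pow])
      have hd' : (mt (S * x)).det = 1 := by
        show (mt S * mt x).det = 1
        rw [Matrix.det_mul, hdx, hS, Matrix.det_smul, Matrix.det_one, Fintype.card_fin, hs4]; ring
      have hns' : ¬ Sc (S * x) := by
        rintro ⟨d, hd⟩
        have hs0 : s ≠ 0 := fun h => by simp [h] at hs4
        change mt S * mt x = _ at hd
        rw [hS, smul_mul_assoc, one_mul] at hd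
        exact hns ⟨s⁻¹ * d, by rw [mul_smul, ← hd, smul_smul, inv_mul_cancel₀ hs0, one_smul]⟩
      obtain ⟨y, hy, hyr, hyU, hcp'⟩ := hwit _ (mul_mem hSU hxU) hSx hns'
      obtain ⟨g, hg, hgy⟩ := conj_SU hF (mul_mem hSU hxU) hyU hd' hSx hyr hcp hcp'
      refine ⟨g, hg, ?_⟩
      have e : g⁻¹ * x * g = S⁻¹ * y := by
        rw [← hgy, ← mul_assoc g⁻¹ S x, ← hSsc.commute g⁻¹]; group
      rw [e]
      exact mul_mem (inv_mem (scalar_normalizes hSsc)) hy
    rcases hcases with rfl | ⟨rfl, hp3⟩ | ⟨rfl, hp5'⟩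
    · have hc0 : c ≠ 0 := fun h => by simp [h] at hc4'
      have hxx : mt x * mt x = c • 1 := by rw [← hcx, Units.val_pow_eq_pow_val, pow_two]
      have hμ : c ^ 2 = -1 → ((mt x).trace / 2) ^ (p + 1) = 1 := by
        intro hcn
        rcases CfsgLib.PrimeElusive.SymplRoots.trace_two D.four h2 hc0 hxx hxn hdx with ⟨h, -⟩ | ⟨-, ht⟩
        · rw [h] at hcn
          exact absurd (show (2 : F) = 0 by linear_combination hcn) h2
        have hTx : A₀.T (mt x) = c⁻¹ • mt x := by
          have h1 : A₀.T (mt x) * mt x = 1 := (hGU x).1 hxU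
          calc A₀.T (mt x) = A₀.T (mt x) * (mt x * (c⁻¹ • mt x)) := by
                rw [mul_smul_comm, hxx, smul_smul, inv_mul_cancel₀ hc0, one_smul, mul_one]
            _ = c⁻¹ • mt x := by rw [← mul_assoc, h1, one_mul]
        have htr : (mt x).trace ^ p = c⁻¹ * (mt x).trace := by
          have h := congrArg Matrix.trace hTx
          rw [Matrix.trace_smul, smul_eq_mul] at h
          rw [← h]
          show _ = ((mt x).map σ)ᵀ.trace
          rw [Matrix.trace_transpose, ← frobenius_def]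
          exact AddMonoidHom.map_trace σ.toAddMonoidHom (mt x)
        have h22 : (2 : F) ^ p = 2 := by rw [← frobenius_def, map_ofNat]
        rw [pow_succ, div_pow, htr, h22]
        field_simp
        linear_combination ht
      obtain ⟨y, hy, hyy, hyU, hcp⟩ := D.witness_two fr (Q := fun g => g ∈ Cfsg.GU 4 F p) hWall
        (fun _ _ hu hv => mul_mem hu hv) hc0 hxx hns hdx (fun hcn => ⟨rfl, fun M hM => hscalGU M _ hM (hμ hcn)⟩)
      have h8 : ∀ w : GL (Fin 4) F, mt w * mt w = c • 1 → w ^ 8 = 1 := fun w hw => Units.ext (by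
        rw [Units.val_pow_eq_pow_val, Units.val_one, show 8 = 2 * 4 from rfl, pow_mul, pow_two]
        show (mt w * mt w) ^ 4 = 1
        rw [hw, _root_.smul_pow, one_pow, hc4', one_smul])
      obtain ⟨g, hg, hgy⟩ := conj_SU hF hxU hyU hdx (h8 x hxx) (h8 y hyy) (hcop 8 (Or.inl dvd_rfl)) hcp
      exact ⟨g, hg, hgy ▸ hy⟩
    · have hp33 : p ≠ 3 := by omega
      have h3 : (3 : F) ≠ 0 := by
        exact_mod_cast hcastne 3 fun h => hp33 ((Nat.prime_dvd_prime_iff_eq hp (by norm_num)).1 h)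
      exact odd_case (by decide) (fun x hxU hx hns => D.witness_three fr (Q := fun g => g ∈ Cfsg.GU 4 F p) hWall
        hfinj hinv rfl h3 (m := 2 * p) (by omega)
        (fun a ha => inv_eq_of_mul_eq_one_right (by rw [← pow_add, show p + 2 * p = 3 * p by ring, pow_mul, ha, one_pow]))
        hxU hx hns) (hcop 3 (Or.inr (Or.inl ⟨rfl, hp33⟩)))
    · have hm := (orderOf_zmod_five p).1 hp5'
      have hp55 : p ≠ 5 := by omega
      have h5 : (5 : F) ≠ 0 := by
        exact_mod_cast hcastne 5 fun h => hp55 ((Nat.prime_dvd_prime_iff_eq hp (by norm_num)).1 h)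
      exact odd_case (by decide) (fun x hxU hx hns => D.witness_five fr (Q := fun g => g ∈ Cfsg.GU 4 F p) hWall
        hfinj hinv h5 (m := 4 * p) (by omega)
        (fun a ha => inv_eq_of_mul_eq_one_right (by rw [← pow_add, show p + 4 * p = 5 * p by ring, pow_mul, ha, one_pow]))
        hxU hx hns) (hcop 5 (Or.inr (Or.inr ⟨rfl, hp55⟩)))

end Cfsg.Agent.S6001
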