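import Cfsg.Statements.S6002
import Cfsg.Agent.Lib.PrimeElusive.SymplGroups
import Cfsg.Agent.Lib.SemisimpleClass.SympConj
import Cfsg.Agent.Lib.Sp.Simple
-- import your own Cfsg.Agent.* helpers here

set_option autoImplicit false
open scoped MatrixGroups
open Cfsg

namespace Cfsg.Agent.S6002

open Matrix CfsgLib.PrimeElusive.SymplType

variable {F : Type*} [Field F]

theorem mem_iff {g : GL (Fin 2 ⊕ Fin 2) F} :
    g ∈ Cfsg.spGL 2 F ↔ (mt g)ᵀ * Matrix.J (Fin 2) F * mt g = Matrix.J (Fin 2) F :=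
  Iff.trans Iff.rfl (CfsgLib.Sp.mem_symplecticGroup_iff.symm.trans SymplecticGroup.mem_iff')

theorem adj_iff {g : GL (Fin 2 ⊕ Fin 2) F} :
    g ∈ Cfsg.spGL 2 F ↔ -(Matrix.J (Fin 2) F * (mt g)ᵀ * Matrix.J (Fin 2) F) * mt g = 1 := by
  rw [mem_iff]
  constructor
  · intro h
    rw [Matrix.neg_mul, mul_assoc, mul_assoc, ← mul_assoc ((mt g)ᵀ), h, Matrix.J_squared, neg_neg]
  · intro h
    have h' := congrArg (fun M => Matrix.J (Fin 2) F * M) h
    simp only [Matrix.neg_mul, Matrix.mul_neg, ← mul_assoc, Matrix.J_squared, mul_one, neg_neg, one_mul] at h'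
    exact h'

theorem det_spGL (h2 : (2 : F) ≠ 0) {g : GL (Fin 2 ⊕ Fin 2) F} (hg : g ∈ Cfsg.spGL 2 F) : (mt g).det = 1 := by
  let A : ↥(Matrix.symplecticGroup (Fin 2) F) := ⟨mt g, CfsgLib.Sp.mem_symplecticGroup_iff.2 hg⟩
  let d : ↥(Matrix.symplecticGroup (Fin 2) F) →* Fˣ :=
    MonoidHom.toHomUnits
      { toFun := fun B => (B : Matrix (Fin 2 ⊕ Fin 2) (Fin 2 ⊕ Fin 2) F).det
        map_one' := Matrix.det_one
        map_mul' := fun B C => Matrix.det_mul _ _ }
  have h := Abelianization.commutator_subset_ker d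
  rw [CfsgLib.Sp.commutator_eq_top (Or.inr (Or.inl ⟨h2, le_rfl⟩))] at h
  exact congrArg Units.val (MonoidHom.mem_ker.1 (h (Subgroup.mem_top A)))

theorem conj_Sp [Fintype F] {p n : ℕ} [Fact p.Prime] [CharP F p] {x y : GL (Fin 2 ⊕ Fin 2) F}
    (hxG : x ∈ Cfsg.spGL 2 F) (hyG : y ∈ Cfsg.spGL 2 F) (hx : x ^ n = 1) (hy : y ^ n = 1) (hn : n.Coprime p)
    (hc : (mt x).charpoly = (mt y).charpoly) : ∃ g ∈ Cfsg.spGL 2 F, g⁻¹ * x * g = y := by
  let E := CfsgLib.Sp.spEquiv 2 F
  let X := E.symm ⟨x, hxG⟩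
  let Y := E.symm ⟨y, hyG⟩
  have hX : X.1 = mt x := congrArg (fun t : ↥(Cfsg.spGL 2 F) => mt t.1) (E.apply_symm_apply ⟨x, hxG⟩)
  have hY : Y.1 = mt y := congrArg (fun t : ↥(Cfsg.spGL 2 F) => mt t.1) (E.apply_symm_apply ⟨y, hyG⟩)
  have hXn : X ^ n = 1 := by
    rw [← map_pow, show (⟨x, hxG⟩ : ↥(Cfsg.spGL 2 F)) ^ n = 1 from Subtype.ext hx, map_one]
  have hYn : Y ^ n = 1 := by
    rw [← map_pow, show (⟨y, hyG⟩ : ↥(Cfsg.spGL 2 F)) ^ n = 1 from Subtype.ext hy, map_one]
  obtain ⟨c, hc'⟩ := isConj_iff.1 (CfsgLib.SemisimpleClass.Sp_isConj_of_charpoly_eq p X Y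
    (hn.coprime_dvd_left (orderOf_dvd_of_pow_eq_one hXn)) (hn.coprime_dvd_left (orderOf_dvd_of_pow_eq_one hYn))
    (by rw [hX, hY]; exact hc))
  refine ⟨((E c)⁻¹ : ↥(Cfsg.spGL 2 F)).1, ((E c)⁻¹).2, ?_⟩
  have e := congrArg E hc'
  rw [map_mul, map_mul, map_inv, MulEquiv.apply_symm_apply, MulEquiv.apply_symm_apply] at e
  simpa using congrArg Subtype.val e

/-- Pairing the first coordinates of the two halves. -/
def pairing : Fin 2 ⊕ Fin 2 ≃ Fin 2 ⊕ Fin 2 := Equiv.swap (Sum.inl 1) (Sum.inr 0)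

theorem blk_mem {A : Matrix (Fin 2) (Fin 2) F} (hd : A.det = 1) {x : GL (Fin 2 ⊕ Fin 2) F}
    (hx : mt x = blk pairing A) : x ∈ Cfsg.spGL 2 F := by
  rw [mem_iff, hx]
  rw [Matrix.det_fin_two] at hd
  ext i j
  fin_cases i <;> fin_cases j <;>
    simp [blk, pairing, Matrix.J, Matrix.mul_apply, Fintype.sum_sum_type, Fin.sum_univ_two, Matrix.one_apply,
      Equiv.swap_apply_def]
  all_goals first
    | ring1
    | linear_combination hd
    | linear_combination -hd

/-- Elements of prime order of PSp_4(p), p odd, and the normalizer of an extraspecial 2-group of order 2⁵ of minus type. Here `T = PSp_4(F)` for the field `F` with `p` elements, `p` an odd prime, realised through the matrices preserving the standard alternating form `f`; `R` is an absolutely irreducible subgroup of `T` (it preserves `f`) that is a 2-group of symplectic type of exponent 4, order 2⁵ and centre of order 2, of minus type (no elementary abelian subgroup of order 2³),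 and `H` is the subgroup of `T` normalizing `R` — a subgroup of type 2^{1+4}.O₄⁻(2) (maximality is not assumed). Ω is the set of cosets of `H` in `T`, so an element of `T` of prime order `r` (`x ∈ T` with `x^r` scalar, `x` not scalar) fixes a point of Ω exactly when some `T`-conjugate of `x` normalizes `R`. Let `r` be a prime dividing the index of `H`. Then every element of `T` of order `r` fixes a point of Ω if and only if `r = 2`, or `r = 5` and `p` has multiplicative order 4 modulo 5. -/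
theorem result {F : Type*} [Field F] [Fintype F] {p : ℕ} [Fact p.Prime] [CharP F p] (hF : Fintype.card F = p) (hodd : Odd p)
    (R : Subgroup (GL (Fin 2 ⊕ Fin 2) F)) (hRs : Cfsg.Geo.IsSymplecticTypeGroup 2 R) (hRi : Cfsg.Geo.ActsAbsolutelyIrreducibly (Cfsg.Geo.matrixSet R))
    (hRf : R ≤ Cfsg.spGL 2 F) (hR5 : Nat.card R = 2 ^ 5) (hRZ : Nat.card (Subgroup.center R) = 2) (hRm : Cfsg.Geo.IsOfMinusType 2 R)
    (r : ℕ) [Fact r.Prime]
    (hΩ : r ∣ (Cfsg.Geo.subgroupNormalizer R).relIndex (Cfsg.spGL 2 F)) :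
    (∀ x ∈ Cfsg.spGL 2 F, (∃ z : F, ((x ^ r : GL (Fin 2 ⊕ Fin 2) F) : Matrix (Fin 2 ⊕ Fin 2) (Fin 2 ⊕ Fin 2) F) = z • (1 : Matrix (Fin 2 ⊕ Fin 2) (Fin 2 ⊕ Fin 2) F)) →
      (∀ z : F, (x : Matrix (Fin 2 ⊕ Fin 2) (Fin 2 ⊕ Fin 2) F) ≠ z • (1 : Matrix (Fin 2 ⊕ Fin 2) (Fin 2 ⊕ Fin 2) F)) →
      ∃ g ∈ Cfsg.spGL 2 F, g⁻¹ * x * g ∈ Cfsg.Geo.subgroupNormalizer R) ↔ (r = 2 ∨ (r = 5 ∧ orderOf (p : ZMod 5) = 4)) := by
  classical
  have hp := (Fact.out : p.Prime)
  have hr := (Fact.out : r.Prime)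
  have hp3' : 3 ≤ p := by
    have := hp.two_le
    rcases hodd with ⟨k, hk⟩
    omega
  have hcastne : ∀ m : ℕ, ¬ p ∣ m → (m : F) ≠ 0 := fun m hm h => hm ((CharP.cast_eq_zero_iff F p m).1 h)
  have h2 : (2 : F) ≠ 0 := by exact_mod_cast hcastne 2 fun h => by have := Nat.le_of_dvd two_pos h; omega
  have D := data_of_symplecticType (by simp) h2 hRs hRi (by rw [hR5]; norm_num) hRZ (by norm_num)
  obtain ⟨fr⟩ := D.frame_minus hRm
  let A₀ : Adj R :=
    { σ := RingHom.id F
      T := fun M => -(Matrix.J (Fin 2) F * Mᵀ * Matrix.J (Fin 2) F)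
      map_add := fun M N => by simp [mul_add, add_mul, add_comm]
      map_smul := fun c M => by simp
      map_mul := fun M N => by
        rw [Matrix.transpose_mul, neg_mul_neg]
        simp only [mul_assoc]
        rw [← mul_assoc (Matrix.J (Fin 2) F) (Matrix.J (Fin 2) F), Matrix.J_squared]
        simp
      map_mem := fun g hg => adj_iff.1 (hRf hg) }
  have hscal : ∀ (g : GL (Fin 2 ⊕ Fin 2) F) (c : F), g ∈ Cfsg.spGL 2 F → mt g = c • 1 → c ^ 2 = 1 := by
    intro g c hg hc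
    have h := mem_iff.1 hg
    rw [hc, Matrix.transpose_smul, Matrix.transpose_one, smul_mul_assoc, one_mul, smul_mul_smul_comm, mul_one] at h
    have := congrFun (congrFun h (Sum.inl 0)) (Sum.inr 0)
    simp [Matrix.J] at this
    linear_combination this
  have : CharP (AlgebraicClosure F) p :=
    charP_of_injective_algebraMap (algebraMap F (AlgebraicClosure F)).injective p
  have hinv : ∀ y : GL (Fin 2 ⊕ Fin 2) F, y ∈ Cfsg.spGL 2 F → (CfsgLib.Recog.SelfReciprocalRoots.eigen (mt y)).map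
      (fun a => a ^ p) = CfsgLib.Recog.SelfReciprocalRoots.eigen (mt y) := fun y _ => by
    conv_rhs => rw [← CfsgLib.Recog.SelfReciprocalRoots.map_frobenius (mt y), hF]
  have hfinj : Function.Injective fun a : AlgebraicClosure F => a ^ p := (frobenius (AlgebraicClosure F) p).injective
  constructor
  · intro hall
    by_contra hno
    push Not at hno
    obtain ⟨hno2, hno5⟩ := hno
    have key : ∀ x : GL (Fin 2 ⊕ Fin 2) F, x ∈ Cfsg.spGL 2 F → x ^ r = 1 → ¬ Sc x →
        ∃ g : GL (Fin 2 ⊕ Fin 2) F, g⁻¹ * x * g ∈ Subgroup.normalizer (R : Set (GL (Fin 2 ⊕ Fin 2) F)) :=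
      fun x hx hxr hns => by
        obtain ⟨g, -, hg⟩ := hall x hx ⟨1, by rw [hxr, Units.val_one, one_smul]⟩ (not_sc_iff.1 hns)
        exact ⟨g, hg⟩
    by_cases hrp : r = p
    · -- a transvection
      subst hrp
      let u : Fin 2 ⊕ Fin 2 → F := Pi.single (Sum.inl 0) 1
      let w : Fin 2 ⊕ Fin 2 → F := Pi.single (Sum.inr 0) 1
      have huw : w ⬝ᵥ u = 0 := by simp [u, w]
      obtain ⟨x, hxv, hxr, -, hns⟩ := exists_transvection r huw (by simp [u]) (by simp [w])
      have hxG : x ∈ Cfsg.spGL 2 F := by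
        rw [mem_iff, hxv]
        ext i j
        fin_cases i <;> fin_cases j <;>
          simp [u, w, vecMulVec, Matrix.J, Matrix.mul_apply, Fintype.sum_sum_type, Fin.sum_univ_two, Matrix.one_apply]
      obtain ⟨g, hg⟩ := key x hxG hxr hns
      exact D.not_transvection hno2 hxr hns huw hxv g hg
    have hrF : (r : F) ≠ 0 := hcastne r fun h => hrp ((Nat.prime_dvd_prime_iff_eq hp hr).1 h).symm
    by_cases hr3 : r = 3
    · subst hr3
      have h3 : (3 : F) ≠ 0 := by exact_mod_cast hrF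
      let A : Matrix (Fin 2) (Fin 2) F := !![0, -1; 1, -1]
      have hAd : A.det = 1 := by simp [A, Matrix.det_fin_two]
      have hAt : A.trace = -1 := by simp [A, Matrix.trace_fin_two]
      obtain ⟨x, hxv, hx3, hns, -, ht, ht'⟩ := exists_blk pairing hAd (pow_three_two A hAd hAt)
        (by rw [hAt]; exact fun h => h3 (by linear_combination -h))
      obtain ⟨g, hg⟩ := key x (blk_mem hAd hxv) hx3 hns
      have h := D.trace_minus fr hx3 hns hg
      rw [ht, ht', hAt] at h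
      exact h3 (by linear_combination -h)
    by_cases hr5 : r = 5
    · subst hr5
      have hord : ¬ (p % 5 = 2 ∨ p % 5 = 3) := fun h => hno5 rfl ((orderOf_zmod_five p).2 h)
      have h5 : (5 : F) ≠ 0 := by exact_mod_cast hrF
      have hp0 : p % 5 ≠ 0 := fun h =>
        hrp ((Nat.prime_dvd_prime_iff_eq (by norm_num) hp).1 (Nat.dvd_of_mod_eq_zero h))
      obtain ⟨η, hη, -⟩ := exists_eta p 1 (by rw [pow_one]; exact hF) (F := F) (by omega)
      let A : Matrix (Fin 2) (Fin 2) F := !![0, -1; 1, η]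
      have hAd : A.det = 1 := by simp [A, Matrix.det_fin_two]
      have hAt : A.trace = η := by simp [A, Matrix.trace_fin_two]
      obtain ⟨x, hxv, hx5, hns, -, ht, ht'⟩ := exists_blk pairing hAd
        (pow_five_two A hAd hAt hη) (by rw [hAt]; exact (eta_ne h5 hη).1)
      obtain ⟨g, hg⟩ := key x (blk_mem hAd hxv) hx5 hns
      have h := (D.criterion_large (Or.inl rfl) le_rfl hx5 hns hg).2
      rw [ht, ht', hAt] at h
      exact (eta_ne h5 hη).2 h
    have h7 : 5 ≤ r := by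
      have : r ≠ 4 := fun h => absurd (h ▸ hr) (by norm_num)
      have := hr.two_le
      omega
    obtain ⟨x, hx⟩ := exists_prime_orderOf_dvd_card' r (hΩ.trans (Subgroup.relIndex_dvd_card _ _))
    rw [← Subgroup.orderOf_coe] at hx
    have hns : ¬ Sc (x : GL (Fin 2 ⊕ Fin 2) F) := not_sc_of_orderOf (by omega) hx fun c hc => by
      rw [show 4 = 2 * 2 from rfl, pow_mul, hscal _ c x.2 hc, one_pow]
    obtain ⟨g, hg⟩ := key _ x.2 (hx ▸ pow_orderOf_eq_one _) hns
    exact hr5 (D.criterion_large (Or.inl rfl) h7 (hx ▸ pow_orderOf_eq_one _) hns hg).1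
  · intro hcases x hx ⟨c, hcx⟩ hxn
    have hns : ¬ Sc x := not_sc_iff.2 hxn
    have hc2 : c ^ 2 = 1 := hscal (x ^ r) c (pow_mem hx r) hcx
    have hc4 : c ^ 4 = 1 := by rw [show 4 = 2 * 2 from rfl, pow_mul, hc2, one_pow]
    have hWall : ∀ y : GL (Fin 2 ⊕ Fin 2) F, (∀ A : Adj R, A.Isom y) → y ∈ Cfsg.spGL 2 F :=
      fun y h => adj_iff.2 (h A₀)
    rcases hcases with rfl | ⟨rfl, hp5'⟩
    · have hc0 : c ≠ 0 := fun h => by simp [h] at hc2
      have hxx : mt x * mt x = c • 1 := by rw [← hcx, Units.val_pow_eq_pow_val, pow_two]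
      obtain ⟨y, hy, hyy, hyG, hcp⟩ := D.witness_two fr (Q := fun g => g ∈ Cfsg.spGL 2 F) hWall
        (fun _ _ hu hv => mul_mem hu hv) hc0 hxx hns (det_spGL h2 hx)
        (fun h => absurd (show (2 : F) = 0 by rw [hc2] at h; linear_combination h) h2)
      have h8 : ∀ w : GL (Fin 2 ⊕ Fin 2) F, mt w * mt w = c • 1 → w ^ 8 = 1 := fun w hw => Units.ext (by
        rw [Units.val_pow_eq_pow_val, Units.val_one, show 8 = 2 * 4 from rfl, pow_mul, pow_two]
        show (mt w * mt w) ^ 4 = 1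
        rw [hw, _root_.smul_pow, one_pow, hc4, one_smul])
      have h8p : Nat.Coprime 8 p := ((Nat.coprime_primes Nat.prime_two hp).2 (by omega)).pow_left 3
      obtain ⟨g, hg, hgy⟩ := conj_Sp hx hyG (h8 x hxx) (h8 y hyy) h8p hcp
      exact ⟨g, hg, hgy ▸ hy⟩
    · have hm := (orderOf_zmod_five p).1 hp5'
      have hp55 : p ≠ 5 := by omega
      have h5 : (5 : F) ≠ 0 := by
        exact_mod_cast hcastne 5 fun h => hp55 ((Nat.prime_dvd_prime_iff_eq hp (by norm_num)).1 h)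
      obtain ⟨s, S, -, hs2, hS, hSx⟩ := exists_rescale (r := 5) (by decide) hc4 hcx
      have hSsc : Sc S := ⟨s, hS⟩
      have hSG : S ∈ Cfsg.spGL 2 F := by
        rw [mem_iff, hS, Matrix.transpose_smul, Matrix.transpose_one, smul_mul_assoc, one_mul, smul_mul_smul_comm,
          mul_one, ← pow_two, hs2 hc2, one_smul]
      have hns' : ¬ Sc (S * x) := by
        rintro ⟨d, hd⟩
        have hs0 : s ≠ 0 := fun h => by simpa [h] using hs2 hc2
        change mt S * mt x = _ at hd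
        rw [hS, smul_mul_assoc, one_mul] at hd
        exact hns ⟨s⁻¹ * d, by rw [mul_smul, ← hd, smul_smul, inv_mul_cancel₀ hs0, one_smul]⟩
      obtain ⟨y, hy, hyr, hyG, hcp⟩ := D.witness_five fr (Q := fun g => g ∈ Cfsg.spGL 2 F) hWall hfinj hinv h5 hm
        (fun a _ => rfl) (mul_mem hSG hx) hSx hns'
      obtain ⟨g, hg, hgy⟩ := conj_Sp (mul_mem hSG hx) hyG hSx hyr ((Nat.coprime_primes (by norm_num) hp).2 (Ne.symm hp55)) hcp
      refine ⟨g, hg, ?_⟩
      have e : g⁻¹ * x * g = S⁻¹ * y := by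
        rw [← hgy, ← mul_assoc g⁻¹ S x, ← hSsc.commute g⁻¹]; group
      rw [e]
      exact mul_mem (inv_mem (scalar_normalizes hSsc)) hy

end Cfsg.Agent.S6002
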