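import Cfsg.Prelude.Def_SporadicCombinatorics

set_option autoImplicit false
open Cfsg

namespace Cfsg.Agent.TernaryGolay

/-- The rows of a generator matrix of the length-12 ternary code, by column and row label. -/
def genTable : Fin 6 → Fin 4 → Fin 3 → ZMod 3 :=
  ![![![1, 0, 0], ![0, 0, 1], ![0, 0, 1], ![1, 1, 2]],
    ![![0, 1, 0], ![0, 0, 1], ![0, 2, 2], ![2, 0, 2]],
    ![![0, 0, 1], ![0, 0, 1], ![0, 1, 0], ![2, 1, 1]],
    ![![0, 0, 0], ![1, 0, 2], ![0, 2, 1], ![2, 1, 0]],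
    ![![0, 0, 0], ![0, 1, 2], ![0, 1, 2], ![0, 1, 2]],
    ![![0, 0, 0], ![0, 0, 0], ![1, 1, 1], ![2, 2, 2]]]

/-- The word with given information symbols. -/
def word (a : Fin 6 → ZMod 3) : ArrayPt → ZMod 3 := fun p => ∑ k, a k * genTable k p.1 p.2

/-- The six information positions. -/
def infoPos : Fin 6 → ArrayPt := ![(0, 0), (0, 1), (0, 2), (1, 0), (1, 1), (2, 0)]

/-- The information symbols of a word. -/
def info (x : ArrayPt → ZMod 3) : Fin 6 → ZMod 3 := fun k => x (infoPos k)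

theorem info_word (a : Fin 6 → ZMod 3) : info (word a) = a := by
  have key : ∀ k j : Fin 6,
      genTable j (infoPos k).1 (infoPos k).2 = if j = k then 1 else 0 := by decide +kernel
  funext k
  simp only [info, word, key]
  simp

theorem word_injective : Function.Injective word := fun a b h => by
  rw [← info_word a, ← info_word b, h]

theorem mem_tetracode_iff (t : Fin 4 → ZMod 3) :
    t ∈ tetracode ↔ ∃ a b : ZMod 3, a • (![0, 1, 1, 1] : Fin 4 → ZMod 3) + b • ![1, 0, 1, 2] = t :=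
  Submodule.mem_span_pair

theorem gen_mem : ∀ k, (fun p : ArrayPt => genTable k p.1 p.2) ∈ ternaryGolayCode := by
  have key : ∀ k, ∃ s : ZMod 3, (∀ i : Fin 4, ∑ r : ZMod 3, genTable k i r = -s) ∧
      ∀ a b : ZMod 3, ∑ i : Fin 4,
        genTable k i ((a • (![0, 1, 1, 1] : Fin 4 → ZMod 3) + b • (![1, 0, 1, 2] : Fin 4 → ZMod 3) : Fin 4 → ZMod 3) i) = s := by
    decide +kernel
  intro k
  obtain ⟨s, h1, h2⟩ := key k
  refine ⟨s, h1, fun t ht => ?_⟩
  obtain ⟨a, b, rfl⟩ := (mem_tetracode_iff t).1 ht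
  exact h2 a b

theorem word_mem (a : Fin 6 → ZMod 3) : word a ∈ ternaryGolayCode := by
  have : word a = ∑ k, a k • fun p : ArrayPt => genTable k p.1 p.2 := by
    funext p; simp [word, Finset.sum_apply]
  rw [this]
  exact Submodule.sum_mem _ fun k _ => Submodule.smul_mem _ _ (gen_mem k)

theorem eq_zero_of_info {x : ArrayPt → ZMod 3} (hx : x ∈ ternaryGolayCode) (hz : info x = 0) :
    x = 0 := by
  obtain ⟨s, hc, ht⟩ := hx
  have eu : ∀ f : ZMod 3 → ZMod 3, ∑ r : ZMod 3, f r = f 0 + f 1 + f 2 := fun f =>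
    Fin.sum_univ_three f
  have tt : ∀ a b c d : ZMod 3, (∃ u v : ZMod 3,
      u • (![0, 1, 1, 1] : Fin 4 → ZMod 3) + v • ![1, 0, 1, 2] = ![a, b, c, d]) →
      x (0, a) + x (1, b) + x (2, c) + x (3, d) = s := by
    intro a b c d h
    have := ht _ ((mem_tetracode_iff _).2 h)
    rwa [Fin.sum_univ_four] at this
  have e0 : x (0, 0) + x (0, 1) + x (0, 2) = -s := (eu _).symm.trans (hc 0)
  have e1 : x (1, 0) + x (1, 1) + x (1, 2) = -s := (eu _).symm.trans (hc 1)
  have e2 : x (2, 0) + x (2, 1) + x (2, 2) = -s := (eu _).symm.trans (hc 2)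
  have e3 : x (3, 0) + x (3, 1) + x (3, 2) = -s := (eu _).symm.trans (hc 3)
  have e4 := tt 0 0 0 0 (by decide +kernel)
  have e5 := tt 1 0 1 2 (by decide +kernel)
  have e7 := tt 0 1 1 1 (by decide +kernel)
  have z0 : x (0, 0) = 0 := congrFun hz 0
  have z1 : x (0, 1) = 0 := congrFun hz 1
  have z2 : x (0, 2) = 0 := congrFun hz 2
  have z3 : x (1, 0) = 0 := congrFun hz 3
  have z4 : x (1, 1) = 0 := congrFun hz 4
  have z5 : x (2, 0) = 0 := congrFun hz 5
  have hs : s = 0 := by rw [z0, z1, z2] at e0; simpa [eq_comm] using e0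
  subst hs
  have z6 : x (1, 2) = 0 := by rw [z3, z4] at e1; simpa using e1
  have z9 : x (3, 0) = 0 := by rw [z0, z3, z5] at e4; simpa using e4
  have f5 : x (2, 1) + x (3, 2) = 0 := by rw [z1, z3] at e5; simpa using e5
  have f7 : x (2, 1) + x (3, 1) = 0 := by rw [z0, z4] at e7; simpa using e7
  have f2 : x (2, 1) + x (2, 2) = 0 := by rw [z5] at e2; simpa using e2
  have f3 : x (3, 1) + x (3, 2) = 0 := by rw [z9] at e3; simpa using e3
  have key : ∀ p q r t : ZMod 3, p + t = 0 → p + r = 0 → p + q = 0 → r + t = 0 →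
      p = 0 ∧ q = 0 ∧ r = 0 ∧ t = 0 := by decide +kernel
  obtain ⟨z7, z8, z10, z11⟩ := key _ _ _ _ f5 f7 f2 f3
  have cover : ∀ p : ArrayPt, p ∈ ([(0, 0), (0, 1), (0, 2), (1, 0), (1, 1), (1, 2), (2, 0), (2, 1),
      (2, 2), (3, 0), (3, 1), (3, 2)] : List ArrayPt) := by decide +kernel
  funext p
  have := cover p
  simp only [List.mem_cons, List.not_mem_nil, or_false] at this
  rcases this with rfl | rfl | rfl | rfl | rfl | rfl | rfl | rfl | rfl | rfl | rfl | rfl <;>
    assumption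

theorem eq_word_info {x : ArrayPt → ZMod 3} (hx : x ∈ ternaryGolayCode) : x = word (info x) := by
  refine sub_eq_zero.1 (eq_zero_of_info (Submodule.sub_mem _ hx (word_mem _)) ?_)
  have := info_word (info x)
  funext k
  have h := congrFun this k
  simp only [info, Pi.sub_apply, Pi.zero_apply] at h ⊢
  exact sub_eq_zero.2 h.symm

theorem mem_iff {x : ArrayPt → ZMod 3} : x ∈ ternaryGolayCode ↔ ∃ a, word a = x :=
  ⟨fun h => ⟨info x, (eq_word_info h).symm⟩, by rintro ⟨a, rfl⟩; exact word_mem a⟩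

end Cfsg.Agent.TernaryGolay
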